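import Mathlib

set_option autoImplicit false
set_option linter.unusedSectionVars false

namespace Cfsg.Agent.H9.SelfDual

open Module LinearMap

variable {F : Type*} [Field F] {G : Type*} [Group G] {V : Type*} [AddCommGroup V] [Module F V]

/-- invariant subspace -/
def Inv (ρ : Representation F G V) (Z : Submodule F V) : Prop := ∀ g : G, ∀ z ∈ Z, ρ g z ∈ Z

lemma rho_inv_apply (ρ : Representation F G V) (g : G) (x : V) : ρ g⁻¹ (ρ g x) = x := by
  rw [← Module.End.mul_apply, ← map_mul, inv_mul_cancel, map_one, Module.End.one_apply]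

lemma rho_apply_inv (ρ : Representation F G V) (g : G) (x : V) : ρ g (ρ g⁻¹ x) = x := by
  rw [← Module.End.mul_apply, ← map_mul, mul_inv_cancel, map_one, Module.End.one_apply]

lemma rho_mul_apply (ρ : Representation F G V) (g h : G) (x : V) : ρ (g * h) x = ρ g (ρ h x) := by
  rw [map_mul, Module.End.mul_apply]

lemma Inv.inf {ρ : Representation F G V} {P Q : Submodule F V} (hP : Inv ρ P) (hQ : Inv ρ Q) :
    Inv ρ (P ⊓ Q) := fun g z hz => ⟨hP g z hz.1, hQ g z hz.2⟩

lemma Inv.sup {ρ : Representation F G V} {P Q : Submodule F V} (hP : Inv ρ P) (hQ : Inv ρ Q) :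
    Inv ρ (P ⊔ Q) := by
  intro g z hz
  obtain ⟨a, ha, b, hb, rfl⟩ := Submodule.mem_sup.1 hz
  rw [map_add]
  exact Submodule.add_mem _ (Submodule.mem_sup_left (hP g a ha)) (Submodule.mem_sup_right (hQ g b hb))

lemma proj_equiv (ρ : Representation F G V) {P Q : Submodule F V} (h : IsCompl P Q)
    (hP : Inv ρ P) (hQ : Inv ρ Q) (g : G) (x : V) :
    P.projection Q h (ρ g x) = ρ g (P.projection Q h x) := by
  have hx := Submodule.projection_add_projection_eq_self h x
  have e : ρ g x = ρ g (P.projection Q h x) + ρ g (Q.projection P h.symm x) := by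
    rw [← map_add, hx]
  rw [e, map_add,
    Submodule.projection_apply_of_mem_left h (hP g _ (Submodule.projection_apply_mem h x)),
    Submodule.projection_apply_of_mem_right h
      (hQ g _ (Submodule.projection_apply_mem h.symm x)), add_zero]

section maschke

variable [Fintype G]

/-- averaged projection -/
noncomputable def avg (ρ : Representation F G V) (π₀ : V →ₗ[F] V) : V →ₗ[F] V :=
  (Fintype.card G : F)⁻¹ • ∑ g : G, (ρ g) ∘ₗ π₀ ∘ₗ (ρ g⁻¹)

lemma avg_apply (ρ : Representation F G V) (π₀ : V →ₗ[F] V) (v : V) :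
    avg ρ π₀ v = (Fintype.card G : F)⁻¹ • ∑ g : G, ρ g (π₀ (ρ g⁻¹ v)) := by
  simp [avg, LinearMap.sum_apply]

lemma avg_equiv (ρ : Representation F G V) (π₀ : V →ₗ[F] V) (h : G) (v : V) :
    avg ρ π₀ (ρ h v) = ρ h (avg ρ π₀ v) := by
  rw [avg_apply, avg_apply, map_smul, map_sum]
  congr 1
  refine Fintype.sum_equiv (Equiv.mulLeft h⁻¹) _ _ (fun g => ?_)
  simp only [Equiv.coe_mulLeft]
  rw [← rho_mul_apply ρ h, mul_inv_cancel_left, mul_inv_rev, inv_inv, rho_mul_apply ρ g⁻¹ h]

theorem maschke (ρ : Representation F G V) (hG : (Fintype.card G : F) ≠ 0)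
    (Z : Submodule F V) (hZ : Inv ρ Z) :
    ∃ Z' : Submodule F V, Inv ρ Z' ∧ IsCompl Z Z' := by
  obtain ⟨Z₀, h0⟩ := Submodule.exists_isCompl Z
  set π₀ : V →ₗ[F] V := Z.projection Z₀ h0 with hπ₀
  have hmem : ∀ v, avg ρ π₀ v ∈ Z := by
    intro v
    rw [avg_apply]
    exact Submodule.smul_mem _ _
      (Submodule.sum_mem _ (fun g _ => hZ g _ (Submodule.projection_apply_mem h0 _)))
  have hfix : ∀ z ∈ Z, avg ρ π₀ z = z := by
    intro z hz
    rw [avg_apply]
    have : ∀ g : G, ρ g (π₀ (ρ g⁻¹ z)) = z := by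
      intro g
      rw [hπ₀, Submodule.projection_apply_of_mem_left h0 (hZ g⁻¹ z hz), rho_apply_inv]
    rw [Finset.sum_congr rfl (fun g _ => this g), Finset.sum_const, Finset.card_univ,
      ← Nat.cast_smul_eq_nsmul F, smul_smul, inv_mul_cancel₀ hG, one_smul]
  set πZ : V →ₗ[F] Z := (avg ρ π₀).codRestrict Z hmem with hπZ
  have hproj : ∀ z : Z, πZ z = z := by
    intro z
    apply Subtype.ext
    rw [hπZ, LinearMap.codRestrict_apply]
    exact hfix z z.2
  refine ⟨LinearMap.ker πZ, ?_, LinearMap.isCompl_of_proj hproj⟩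
  intro g x hx
  rw [LinearMap.mem_ker] at hx ⊢
  have hx' : avg ρ π₀ x = 0 := by
    have := congrArg Subtype.val hx
    simpa [hπZ] using this
  apply Subtype.ext
  rw [hπZ, LinearMap.codRestrict_apply, avg_equiv, hx', map_zero]
  rfl

theorem maschke_rel (ρ : Representation F G V) (hG : (Fintype.card G : F) ≠ 0)
    {Z X : Submodule F V} (hZX : Z ≤ X) (hZ : Inv ρ Z) (hX : Inv ρ X) :
    ∃ Y : Submodule F V, Inv ρ Y ∧ Y ≤ X ∧ Z ⊓ Y = ⊥ ∧ Z ⊔ Y = X := by
  obtain ⟨Z', hZ', hc⟩ := maschke ρ hG Z hZ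
  refine ⟨Z' ⊓ X, hZ'.inf hX, inf_le_right, ?_, ?_⟩
  · rw [← inf_assoc, hc.inf_eq_bot, bot_inf_eq]
  · rw [← sup_inf_assoc_of_le _ hZX, hc.sup_eq_top, top_inf_eq]

/-- the norm map -/
noncomputable def normMap (ρ : Representation F G V) : V →ₗ[F] V := ∑ g : G, ρ g

lemma normMap_apply (ρ : Representation F G V) (v : V) : normMap ρ v = ∑ g : G, ρ g v := by
  simp [normMap, LinearMap.sum_apply]

lemma normMap_rho (ρ : Representation F G V) (h : G) (v : V) : normMap ρ (ρ h v) = normMap ρ v := by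
  rw [normMap_apply, normMap_apply]
  refine Fintype.sum_equiv (Equiv.mulRight h) _ _ (fun g => ?_)
  simp only [Equiv.coe_mulRight]
  rw [rho_mul_apply]

lemma rho_normMap (ρ : Representation F G V) (h : G) (v : V) : ρ h (normMap ρ v) = normMap ρ v := by
  rw [normMap_apply, map_sum]
  refine Fintype.sum_equiv (Equiv.mulLeft h) _ _ (fun g => ?_)
  simp only [Equiv.coe_mulLeft]
  rw [rho_mul_apply]

end maschke

/-- fixed points -/
def fixedSub (ρ : Representation F G V) : Submodule F V where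
  carrier := {v | ∀ g : G, ρ g v = v}
  add_mem' := fun {a b} ha hb g => by rw [map_add, ha g, hb g]
  zero_mem' := fun g => map_zero _
  smul_mem' := fun c v hv g => by rw [map_smul, hv g]

lemma mem_fixedSub (ρ : Representation F G V) (v : V) : v ∈ fixedSub ρ ↔ ∀ g : G, ρ g v = v :=
  Iff.rfl

lemma normMap_of_fixed [Fintype G] (ρ : Representation F G V) {v : V} (hv : v ∈ fixedSub ρ) :
    normMap ρ v = (Fintype.card G : F) • v := by
  rw [normMap_apply, Finset.sum_congr rfl (fun g _ => hv g), Finset.sum_const, Finset.card_univ,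
    Nat.cast_smul_eq_nsmul]

lemma inv_fixedSub (ρ : Representation F G V) : Inv ρ (fixedSub ρ) := by
  intro g v hv
  rw [hv g]; exact hv

lemma inv_ker_normMap [Fintype G] (ρ : Representation F G V) : Inv ρ (LinearMap.ker (normMap ρ)) := by
  intro g v hv
  rw [LinearMap.mem_ker] at hv ⊢
  rw [normMap_rho, hv]

lemma isCompl_ker_norm_fixed [Fintype G] (ρ : Representation F G V)
    (hG : (Fintype.card G : F) ≠ 0) : IsCompl (LinearMap.ker (normMap ρ)) (fixedSub ρ) := by
  constructor
  · rw [Submodule.disjoint_def]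
    intro x hx hf
    rw [LinearMap.mem_ker, normMap_of_fixed ρ hf] at hx
    rcases smul_eq_zero.1 hx with h | h
    · exact absurd h hG
    · exact h
  · rw [codisjoint_iff, eq_top_iff]
    intro v _
    have hNf : normMap ρ v ∈ fixedSub ρ := fun g => rho_normMap ρ g v
    have e : v = (v - (Fintype.card G : F)⁻¹ • normMap ρ v) + (Fintype.card G : F)⁻¹ • normMap ρ v := by
      abel
    rw [e]
    refine Submodule.add_mem _ (Submodule.mem_sup_left ?_)
      (Submodule.mem_sup_right (Submodule.smul_mem _ _ hNf))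
    rw [LinearMap.mem_ker, map_sub, map_smul, normMap_of_fixed ρ hNf, smul_smul,
      inv_mul_cancel₀ hG, one_smul, sub_self]

/-- restriction of a representation to an invariant subspace -/
def subRep (ρ : Representation F G V) (Y : Submodule F V) (hY : Inv ρ Y) : Representation F G Y where
  toFun g := (ρ g).restrict (hY g)
  map_one' := by
    ext y
    simp
  map_mul' a b := by
    ext y
    simp [LinearMap.restrict_apply]

lemma subRep_apply (ρ : Representation F G V) (Y : Submodule F V) (hY : Inv ρ Y) (g : G) (y : Y) :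
    ((subRep ρ Y hY g y : Y) : V) = ρ g (y : V) := rfl

end Cfsg.Agent.H9.SelfDual
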