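import Mathlib
import Cfsg.Prelude.Def_Solvable

set_option autoImplicit false

namespace Cfsg.Agent.H9

/-- The `p`-core is normal. -/
theorem pCore_normal (p : ℕ) (G : Type*) [Group G] : (Cfsg.pCore p G).Normal :=
  Subgroup.sSup_normal _ (fun _ hH => hH.1)

/-- The `p`-core is a `p`-group. -/
theorem pCore_isPGroup (p : ℕ) (G : Type*) [Group G] : IsPGroup p (Cfsg.pCore p G) :=
  Sylow.sSup_of_normal _ (fun _ hH => hH.2) (fun _ hH => hH.1)

/-- A normal `p`-subgroup lies in the `p`-core. -/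
theorem le_pCore {p : ℕ} {G : Type*} [Group G] (N : Subgroup G) [hN : N.Normal] (hp : IsPGroup p N) :
    N ≤ Cfsg.pCore p G :=
  le_sSup ⟨hN, hp⟩

/-- An element of a subgroup of odd order which is also in a 2-subgroup is trivial. -/
theorem eq_one_of_mem_odd_of_mem_two {G : Type*} [Group G] {K P : Subgroup G}
    (hK : Odd (Nat.card K)) (hP : IsPGroup 2 P) {x : G} (hxK : x ∈ K) (hxP : x ∈ P) : x = 1 := by
  obtain ⟨n, hn⟩ := hP ⟨x, hxP⟩
  have hn' : x ^ (2 ^ n) = 1 := by
    have := congrArg Subtype.val hn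
    simpa using this
  have h1 : orderOf x ∣ 2 ^ n := orderOf_dvd_of_pow_eq_one hn'
  have h2 : orderOf x ∣ Nat.card K := by
    have : orderOf (⟨x, hxK⟩ : K) ∣ Nat.card K := orderOf_dvd_natCard _
    rwa [Subgroup.orderOf_mk] at this
  have hcop : Nat.Coprime (2 ^ n) (Nat.card K) := by
    apply Nat.Coprime.pow_left
    exact Nat.coprime_two_left.mpr hK
  rw [← orderOf_eq_one_iff]
  exact Nat.eq_one_of_dvd_coprimes hcop h1 h2

end Cfsg.Agent.H9
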