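import Mathlib
import Cfsg.Agent.Lib.Helper7.ThA10
import Cfsg.Agent.Lib.Helper7.ThA2

set_option autoImplicit false
set_option linter.unusedVariables false
set_option linter.unusedSectionVars false
set_option linter.style.haveILetI false

namespace Cfsg.Agent.H9.S4Inv

open Cfsg Cfsg.Agent.Lib.Helper7 Cfsg.Agent.Lib.Helper7.ThA Cfsg.Agent.Lib.Lead.Conj

universe u

section core
variable {H : Type u} [Group H] [Finite H]

/-- In an elementary abelian normal `2`-subgroup `V`, an element `x` with `x ^ 3 = 1` acting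
nontrivially and inverted by a `2`-element `t` produces a section isomorphic to `S₄`. -/
theorem core (V : Subgroup H) [hVn : V.Normal] (hV2 : ∀ v ∈ V, v * v = 1) (x t : H)
    (hx3 : x ^ 3 = 1) (ht : ∃ b : ℕ, t ^ (2 ^ b) = 1) (hinv : t * x * t⁻¹ = x⁻¹)
    (hnc : ¬ ∀ v ∈ V, x * v = v * x) : Cfsg.Involves (Equiv.Perm (Fin 4)) H := by
  classical
  -- basic facts on `V`
  have hVinv : ∀ v ∈ V, v⁻¹ = v := fun v hv => inv_eq_of_mul_eq_one_right (hV2 v hv)
  have hVcomm : ∀ a ∈ V, ∀ b ∈ V, a * b = b * a := by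
    intro a ha b hb
    have h1 := hV2 (a * b) (V.mul_mem ha hb)
    have h2 : a * b = (a * b)⁻¹ := (hVinv _ (V.mul_mem ha hb)).symm
    rw [h2, mul_inv_rev, hVinv a ha, hVinv b hb]
  have hconjV : ∀ (g : H), ∀ v ∈ V, g * v * g⁻¹ ∈ V := fun g v hv => hVn.conj_mem v hv g
  have hx3' : x * x * x = 1 := by rw [pow_succ, pow_two] at hx3; exact hx3
  have hxinv : x⁻¹ = x * x := by
    apply inv_eq_of_mul_eq_one_right
    rw [← mul_assoc]; exact hx3'
  -- the predicate
  let P : H → Prop := fun u => u ∈ V ∧ u * (x * u * x⁻¹) * (x * (x * u * x⁻¹) * x⁻¹) = 1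
  have hPmul : ∀ u w, P u → P w → P (u * w) := by
    rintro u w ⟨hu, hu1⟩ ⟨hw, hw1⟩
    refine ⟨V.mul_mem hu hw, ?_⟩
    have e1 : x * (u * w) * x⁻¹ = (x * u * x⁻¹) * (x * w * x⁻¹) := by group
    have e2 : x * ((x * u * x⁻¹) * (x * w * x⁻¹)) * x⁻¹ =
        (x * (x * u * x⁻¹) * x⁻¹) * (x * (x * w * x⁻¹) * x⁻¹) := by group
    rw [e1, e2]
    have a1 := hconjV x u hu
    have a2 := hconjV x w hw
    have a3 := hconjV x _ a1
    have a4 := hconjV x _ a2
    -- reorder
    calc u * w * ((x * u * x⁻¹) * (x * w * x⁻¹)) *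
          ((x * (x * u * x⁻¹) * x⁻¹) * (x * (x * w * x⁻¹) * x⁻¹))
        = (u * (x * u * x⁻¹) * (x * (x * u * x⁻¹) * x⁻¹)) *
          (w * (x * w * x⁻¹) * (x * (x * w * x⁻¹) * x⁻¹)) := by
          have c1 := hVcomm w hw _ a1
          have c2 := hVcomm w hw _ a3
          have c3 := hVcomm _ a2 _ a3
          calc u * w * ((x * u * x⁻¹) * (x * w * x⁻¹)) *
                ((x * (x * u * x⁻¹) * x⁻¹) * (x * (x * w * x⁻¹) * x⁻¹))
              = u * (w * (x * u * x⁻¹)) * ((x * w * x⁻¹) * (x * (x * u * x⁻¹) * x⁻¹)) *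
                  (x * (x * w * x⁻¹) * x⁻¹) := by simp only [mul_assoc]
            _ = u * ((x * u * x⁻¹) * w) * ((x * (x * u * x⁻¹) * x⁻¹) * (x * w * x⁻¹)) *
                  (x * (x * w * x⁻¹) * x⁻¹) := by rw [c1, c3]
            _ = u * (x * u * x⁻¹) * (w * (x * (x * u * x⁻¹) * x⁻¹)) * (x * w * x⁻¹) *
                  (x * (x * w * x⁻¹) * x⁻¹) := by simp only [mul_assoc]
            _ = u * (x * u * x⁻¹) * ((x * (x * u * x⁻¹) * x⁻¹) * w) * (x * w * x⁻¹) *
                  (x * (x * w * x⁻¹) * x⁻¹) := by rw [c2]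
            _ = _ := by simp only [mul_assoc]
      _ = 1 := by rw [hu1, hw1, one_mul]
  have hPt : ∀ u, P u → P (t * u * t⁻¹) := by
    rintro u ⟨hu, hu1⟩
    refine ⟨hconjV t u hu, ?_⟩
    -- conjugating by `t` swaps the two conjugates
    have htx : t * x = x⁻¹ * t := by
      have : t * x * t⁻¹ * t = x⁻¹ * t := by rw [hinv]
      simpa using this
    have htxi : t * x⁻¹ = x * t := by
      have h1 : t * x⁻¹ * t⁻¹ = x := by
        have : t * x⁻¹ * t⁻¹ = (t * x * t⁻¹)⁻¹ := by group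
        rw [this, hinv, inv_inv]
      have : t * x⁻¹ * t⁻¹ * t = x * t := by rw [h1]
      simpa using this
    have hxx : x⁻¹ * x⁻¹ = x := by rw [hxinv]; calc x * x * (x * x) = (x * x * x) * x := by group
      _ = x := by rw [hx3', one_mul]
    have e1 : x * (t * u * t⁻¹) * x⁻¹ = t * (x * (x * u * x⁻¹) * x⁻¹) * t⁻¹ := by
      have : x * t = t * x⁻¹ := htxi.symm
      calc x * (t * u * t⁻¹) * x⁻¹ = (x * t) * u * (x * t)⁻¹ := by group
        _ = (t * x⁻¹) * u * (t * x⁻¹)⁻¹ := by rw [this]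
        _ = t * (x⁻¹ * u * x) * t⁻¹ := by group
        _ = t * (x * (x * u * x⁻¹) * x⁻¹) * t⁻¹ := by
            congr 2
            calc x⁻¹ * u * x = (x * x) * u * (x * x)⁻¹ := by rw [← hxinv, inv_inv]
              _ = _ := by group
    have e2 : x * (x * (t * u * t⁻¹) * x⁻¹) * x⁻¹ = t * (x * u * x⁻¹) * t⁻¹ := by
      have : x * x * t = t * x := by
        rw [← hxinv, htx]
      calc x * (x * (t * u * t⁻¹) * x⁻¹) * x⁻¹ = (x * x * t) * u * (x * x * t)⁻¹ := by group
        _ = (t * x) * u * (t * x)⁻¹ := by rw [this]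
        _ = _ := by group
    rw [e2, e1]
    have a1 := hconjV x u hu
    have a3 := hconjV x _ a1
    have c : (x * u * x⁻¹) * (x * (x * u * x⁻¹) * x⁻¹) = (x * (x * u * x⁻¹) * x⁻¹) * (x * u * x⁻¹) :=
      hVcomm _ a1 _ a3
    calc t * u * t⁻¹ * (t * (x * (x * u * x⁻¹) * x⁻¹) * t⁻¹) * (t * (x * u * x⁻¹) * t⁻¹)
        = t * (u * ((x * (x * u * x⁻¹) * x⁻¹) * (x * u * x⁻¹))) * t⁻¹ := by group
      _ = t * (u * (x * u * x⁻¹) * (x * (x * u * x⁻¹) * x⁻¹)) * t⁻¹ := by rw [← c]; simp only [mul_assoc]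
      _ = 1 := by rw [hu1]; group
  have hPtpow : ∀ (n : ℕ) u, P u → P (t ^ n * u * (t ^ n)⁻¹) := by
    intro n
    induction n with
    | zero => intro u hu; simpa using hu
    | succ n ih =>
      intro u hu
      have := hPt _ (ih u hu)
      have e : t ^ (n + 1) * u * (t ^ (n + 1))⁻¹ = t * (t ^ n * u * (t ^ n)⁻¹) * t⁻¹ := by
        rw [pow_succ']; group
      rw [e]; exact this
  -- a nontrivial element with `P`
  have hex0 : ∃ u, P u ∧ u ≠ 1 := by
    by_contra hcon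
    push Not at hcon
    apply hnc
    intro v hv
    have hP : P (v⁻¹ * (x * v * x⁻¹)) := by
      refine ⟨V.mul_mem (V.inv_mem hv) (hconjV x v hv), ?_⟩
      have e : x * (x * (x * v * x⁻¹) * x⁻¹) * x⁻¹ = v := by
        calc x * (x * (x * v * x⁻¹) * x⁻¹) * x⁻¹ = (x * x * x) * v * (x * x * x)⁻¹ := by group
          _ = v := by rw [hx3']; group
      calc v⁻¹ * (x * v * x⁻¹) * (x * (v⁻¹ * (x * v * x⁻¹)) * x⁻¹) *
            (x * (x * (v⁻¹ * (x * v * x⁻¹)) * x⁻¹) * x⁻¹)
          = v⁻¹ * (x * (x * (x * v * x⁻¹) * x⁻¹) * x⁻¹) := by group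
        _ = 1 := by rw [e]; group
    have := hcon _ hP
    have h2 : x * v * x⁻¹ = v := by
      have : v * (v⁻¹ * (x * v * x⁻¹)) = v * 1 := by rw [this]
      simpa using this
    calc x * v = x * v * x⁻¹ * x := by group
      _ = v * x := by rw [h2]
  -- a nontrivial element with `P` fixed by `t`
  obtain ⟨b, hb⟩ := ht
  have hrec : ∀ i : ℕ, i ≤ b → ∃ u, P u ∧ u ≠ 1 ∧ t ^ (2 ^ (b - i)) * u = u * t ^ (2 ^ (b - i)) := by
    intro i
    induction i with
    | zero =>
      intro _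
      obtain ⟨u, hu, hu1⟩ := hex0
      exact ⟨u, hu, hu1, by rw [Nat.sub_zero, hb, one_mul, mul_one]⟩
    | succ i ih =>
      intro hi
      obtain ⟨u, hu, hu1, hcomm⟩ := ih (by omega)
      obtain ⟨s, hs⟩ : ∃ s, s = t ^ (2 ^ (b - (i + 1))) := ⟨_, rfl⟩
      have hss : s * s = t ^ (2 ^ (b - i)) := by
        rw [hs, ← pow_add]
        congr 1
        have : b - i = (b - (i + 1)) + 1 := by omega
        rw [this, pow_succ]; ring
      rw [← hs]
      rw [← hss] at hcomm
      have hPs : P (s * u * s⁻¹) := by rw [hs]; exact hPtpow _ u hu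
      by_cases hw : u * (s * u * s⁻¹) = 1
      · -- `s` centralizes `u`
        refine ⟨u, hu, hu1, ?_⟩
        have h1 : s * u * s⁻¹ = u⁻¹ := by
          exact (inv_eq_of_mul_eq_one_right hw).symm
        rw [hVinv u hu.1] at h1
        calc s * u = s * u * s⁻¹ * s := by group
          _ = u * s := by rw [h1]
      · refine ⟨u * (s * u * s⁻¹), hPmul _ _ hu hPs, hw, ?_⟩
        have h2 : s * (s * u * s⁻¹) * s⁻¹ = u := by
          calc s * (s * u * s⁻¹) * s⁻¹ = (s * s * u) * (s * s)⁻¹ := by group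
            _ = (u * (s * s)) * (s * s)⁻¹ := by rw [hcomm]
            _ = u := by group
        have h3 : s * (u * (s * u * s⁻¹)) * s⁻¹ = u * (s * u * s⁻¹) := by
          calc s * (u * (s * u * s⁻¹)) * s⁻¹ = (s * u * s⁻¹) * (s * (s * u * s⁻¹) * s⁻¹) := by group
            _ = (s * u * s⁻¹) * u := by rw [h2]
            _ = u * (s * u * s⁻¹) := hVcomm _ hPs.1 _ hu.1
        calc s * (u * (s * u * s⁻¹)) = s * (u * (s * u * s⁻¹)) * s⁻¹ * s := by group
          _ = u * (s * u * s⁻¹) * s := by rw [h3]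
  obtain ⟨u, ⟨huV, hu1⟩, hune, htu⟩ := hrec b le_rfl
  rw [Nat.sub_self, pow_zero, pow_one] at htu
  obtain ⟨u₁, hu₁⟩ : ∃ u₁, u₁ = x * u * x⁻¹ := ⟨_, rfl⟩
  rw [← hu₁] at hu1
  have hu₁V : u₁ ∈ V := by rw [hu₁]; exact hconjV x u huV
  have hu₂ : x * u₁ * x⁻¹ = u * u₁ := by
    have h1 : x * u₁ * x⁻¹ = (u * u₁)⁻¹ := (inv_eq_of_mul_eq_one_right hu1).symm
    rw [h1, hVinv _ (V.mul_mem huV hu₁V)]
  have huu : u * u = 1 := hV2 u huV
  have hu₁u₁ : u₁ * u₁ = 1 := hV2 u₁ hu₁V
  have hcomm : u₁ * u = u * u₁ := hVcomm _ hu₁V _ huV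
  -- `x` does not centralize `u`
  have hxu : x * u ≠ u * x := by
    intro h
    have h1 : u₁ = u := by rw [hu₁, h]; group
    rw [h1] at hu₂
    have h2 : x * u * x⁻¹ = u := by rw [h]; group
    rw [h2, huu] at hu₂
    exact hune hu₂
  obtain ⟨F, hF⟩ : ∃ F : Subgroup H, F = Subgroup.closure {u, u₁} := ⟨_, rfl⟩
  have huF : u ∈ F := by rw [hF]; exact Subgroup.subset_closure (by simp)
  have hu₁F : u₁ ∈ F := by rw [hF]; exact Subgroup.subset_closure (by simp)
  have hFV : F ≤ V := by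
    rw [hF, Subgroup.closure_le]
    intro r hr
    rcases hr with rfl | rfl
    · exact huV
    · exact hu₁V
  have hconjF : ∀ g : H, g * u * g⁻¹ ∈ F → g * u₁ * g⁻¹ ∈ F → ∀ r ∈ F, g * r * g⁻¹ ∈ F := by
    intro g h1 h2 r hr
    have hle : F ≤ F.comap (MulAut.conj g).toMonoidHom := by
      rw [hF, Subgroup.closure_le, ← hF]
      intro r hr
      rcases hr with rfl | rfl
      · exact h1
      · exact h2
    exact hle hr
  have hxF : x ∈ Subgroup.normalizer (F : Set H) := by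
    apply mem_normalizer_of_conj_mem
    apply hconjF
    · rw [← hu₁]; exact hu₁F
    · rw [hu₂]; exact F.mul_mem huF hu₁F
  have htut : t * u * t⁻¹ = u := by rw [htu]; group
  have htx : t * x = x⁻¹ * t := by
    have : t * x * t⁻¹ * t = x⁻¹ * t := by rw [hinv]
    simpa using this
  have htu₁ : t * u₁ * t⁻¹ = u * u₁ := by
    have e : t * u₁ * t⁻¹ = x⁻¹ * (t * u * t⁻¹) * x := by
      rw [hu₁]
      calc t * (x * u * x⁻¹) * t⁻¹ = (t * x) * u * (t * x)⁻¹ := by group
        _ = (x⁻¹ * t) * u * (x⁻¹ * t)⁻¹ := by rw [htx]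
        _ = _ := by group
    rw [e, htut, ← hu₂, hu₁]
    calc x⁻¹ * u * x = (x * x) * u * (x * x)⁻¹ := by rw [← hxinv, inv_inv]
      _ = _ := by group
  have htF : t ∈ Subgroup.normalizer (F : Set H) := by
    apply mem_normalizer_of_conj_mem
    apply hconjF
    · rw [htut]; exact huF
    · rw [htu₁]; exact F.mul_mem huF hu₁F
  have hF2 : ∀ f ∈ F, f * f = 1 := fun f hf => hV2 f (hFV hf)
  have hDF : Subgroup.zpowers x ⊓ F = ⊥ := by
    rw [eq_bot_iff]
    intro g hg
    rw [Subgroup.mem_inf] at hg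
    rw [Subgroup.mem_bot]
    have h3 : g ^ 3 = 1 := by
      obtain ⟨k, rfl⟩ := Subgroup.mem_zpowers_iff.mp hg.1
      rw [← zpow_natCast, ← zpow_mul, mul_comm, zpow_mul, zpow_natCast, hx3, one_zpow]
    have h2 := hF2 g hg.2
    calc g = g ^ 3 * (g * g)⁻¹ := by group
      _ = 1 := by rw [h3, h2]; group
  have ht2 : ∀ f ∈ F, (t * t) * f = f * (t * t) := by
    have hle : F ≤ Subgroup.centralizer {t * t} := by
      rw [hF, Subgroup.closure_le]
      intro r hr
      rw [SetLike.mem_coe, Subgroup.mem_centralizer_singleton_iff]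
      rcases hr with h | h
      · rw [h]
        calc u * (t * t) = (u * t) * t := by group
          _ = (t * u) * t := by rw [htu]
          _ = t * (u * t) := by group
          _ = t * (t * u) := by rw [htu]
          _ = t * t * u := by group
      · rw [Set.mem_singleton_iff] at h
        rw [h]
        have h1 : t * (u * u₁) * t⁻¹ = u₁ := by
          calc t * (u * u₁) * t⁻¹ = (t * u * t⁻¹) * (t * u₁ * t⁻¹) := by group
            _ = u * (u * u₁) := by rw [htut, htu₁]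
            _ = (u * u) * u₁ := by group
            _ = u₁ := by rw [huu, one_mul]
        have h2 : (t * t) * u₁ * (t * t)⁻¹ = u₁ := by
          calc (t * t) * u₁ * (t * t)⁻¹ = t * (t * u₁ * t⁻¹) * t⁻¹ := by group
            _ = t * (u * u₁) * t⁻¹ := by rw [htu₁]
            _ = u₁ := h1
        calc u₁ * (t * t) = ((t * t) * u₁ * (t * t)⁻¹) * (t * t) := by rw [h2]
          _ = t * t * u₁ := by group
    intro f hf
    have := hle hf
    rw [Subgroup.mem_centralizer_singleton_iff] at this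
    exact this.symm
  have hcard : Nat.card F ∣ 4 := by
    have hsub : (F : Set H) ⊆ (({1, u, u₁, u * u₁} : Finset H) : Set H) := by
      intro r hr
      rw [SetLike.mem_coe, hF] at hr
      induction hr using Subgroup.closure_induction_left with
      | one => simp
      | mul_left a ha y _ ih =>
        simp only [Finset.coe_insert, Finset.coe_singleton, Set.mem_insert_iff,
          Set.mem_singleton_iff] at ih ⊢
        rcases ha with rfl | rfl
        · rcases ih with rfl | rfl | rfl | rfl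
          · right; left; rw [mul_one]
          · left; exact huu
          · right; right; right; rfl
          · right; right; left; rw [← mul_assoc, huu, one_mul]
        · rcases ih with rfl | rfl | rfl | rfl
          · right; right; left; rw [mul_one]
          · right; right; right; exact hcomm
          · left; exact hu₁u₁
          · right; left; rw [← mul_assoc, hcomm, mul_assoc, hu₁u₁, mul_one]
      | inv_mul_cancel a ha y _ ih =>
        simp only [Finset.coe_insert, Finset.coe_singleton, Set.mem_insert_iff,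
          Set.mem_singleton_iff] at ih ⊢
        rcases ha with rfl | rfl
        · rw [hVinv _ huV]
          rcases ih with rfl | rfl | rfl | rfl
          · right; left; rw [mul_one]
          · left; exact huu
          · right; right; right; rfl
          · right; right; left; rw [← mul_assoc, huu, one_mul]
        · rw [hVinv _ hu₁V]
          rcases ih with rfl | rfl | rfl | rfl
          · right; right; left; rw [mul_one]
          · right; right; right; exact hcomm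
          · left; exact hu₁u₁
          · right; left; rw [← mul_assoc, hcomm, mul_assoc, hu₁u₁, mul_one]
    have hle4 : Nat.card F ≤ 4 := by
      have h1 : Nat.card F = (F : Set H).ncard := by
        rw [← Nat.card_coe_set_eq]; rfl
      rw [h1]
      calc (F : Set H).ncard ≤ ((({1, u, u₁, u * u₁} : Finset H)) : Set H).ncard :=
            Set.ncard_le_ncard hsub (Finset.finite_toSet _)
        _ = ({1, u, u₁, u * u₁} : Finset H).card := Set.ncard_coe_finset _
        _ ≤ 4 := Finset.card_le_four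
    have hp : IsPGroup 2 F := by
      intro g
      refine ⟨1, ?_⟩
      apply Subtype.ext
      rw [pow_one, pow_two, Subgroup.coe_mul, Subgroup.coe_one]
      exact hF2 g g.2
    obtain ⟨j, hj⟩ := hp.exists_card_eq
    rw [hj] at hle4 ⊢
    have hj2 : j ≤ 2 := by
      by_contra hcon
      push Not at hcon
      have : 2 ^ 3 ≤ 2 ^ j := Nat.pow_le_pow_right (by norm_num) hcon
      omega
    exact pow_dvd_pow 2 hj2
  have hidx : (F ⊓ Subgroup.centralizer ({x} : Set H)).relIndex F ∣ 4 :=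
    (Subgroup.relIndex_dvd_card _ _).trans hcard
  have hnc' : ¬ F ≤ Subgroup.centralizer ({x} : Set H) := by
    intro hle
    have := hle huF
    rw [Subgroup.mem_centralizer_singleton_iff] at this
    exact hxu this.symm
  exact involves_s4_of_action F Nat.prime_three (by norm_num) hx3 hinv hxF htF hF2 hDF ht2 hidx hnc'

/-- membership in the normalizer of a cyclic group. -/
theorem mem_normalizer_zpowers (y g : H) (h : g * y * g⁻¹ ∈ Subgroup.zpowers y) :
    g ∈ Subgroup.normalizer ((Subgroup.zpowers y : Subgroup H) : Set H) := by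
  apply mem_normalizer_of_conj_mem
  intro r hr
  obtain ⟨k, rfl⟩ := Subgroup.mem_zpowers_iff.mp hr
  rw [← conj_zpow]
  exact Subgroup.zpow_mem _ h k

/-- The elementary abelian case with a general `3`-element. -/
theorem elemAb (V : Subgroup H) [hVn : V.Normal] (hV2 : ∀ v ∈ V, v * v = 1) (x t : H)
    (hx : ∃ a : ℕ, x ^ (3 ^ a) = 1) (ht : ∃ b : ℕ, t ^ (2 ^ b) = 1) (hinv : t * x * t⁻¹ = x⁻¹)
    (hnc : ¬ ∀ v ∈ V, x * v = v * x) : Cfsg.Involves (Equiv.Perm (Fin 4)) H := by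
  classical
  obtain ⟨a, ha⟩ := hx
  have hex : ∃ b : ℕ, ∀ v ∈ V, x ^ (3 ^ b) * v = v * x ^ (3 ^ b) :=
    ⟨a, fun v _ => by rw [ha, one_mul, mul_one]⟩
  have hfind := Nat.find_spec hex
  have hb0 : Nat.find hex ≠ 0 := by
    intro h0
    rw [h0, pow_zero, pow_one] at hfind
    exact hnc hfind
  obtain ⟨c, hc⟩ := Nat.exists_eq_succ_of_ne_zero hb0
  have hmin : ¬ ∀ v ∈ V, x ^ (3 ^ c) * v = v * x ^ (3 ^ c) := Nat.find_min hex (by omega)
  rw [hc] at hfind
  obtain ⟨x₁, hx₁⟩ : ∃ x₁, x₁ = x ^ (3 ^ c) := ⟨_, rfl⟩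
  have hx₁3 : x₁ ^ 3 = x ^ (3 ^ (c + 1)) := by
    rw [hx₁, ← pow_mul, pow_succ]
  rw [← hx₁] at hmin
  rw [← hx₁3] at hfind
  have hinv₁ : t * x₁ * t⁻¹ = x₁⁻¹ := by
    rw [hx₁, ← conj_pow, hinv, inv_pow]
  have hy3a : (x₁ ^ 3) ^ (3 ^ a) = 1 := by
    rw [hx₁3, ← pow_mul, mul_comm, pow_mul, ha, one_pow]
  obtain ⟨y, hy⟩ : ∃ y, y = x₁ ^ 3 := ⟨_, rfl⟩
  rw [← hy] at hfind hy3a
  obtain ⟨N₃, hN₃⟩ : ∃ N₃ : Subgroup H,
      N₃ = Subgroup.normalizer ((Subgroup.zpowers y : Subgroup H) : Set H) := ⟨_, rfl⟩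
  have hVN : V ≤ N₃ := by
    intro v hv
    rw [hN₃]
    apply mem_normalizer_zpowers
    have : v * y * v⁻¹ = y := by
      rw [← hfind v hv]; group
    rw [this]; exact Subgroup.mem_zpowers y
  have hx₁N : x₁ ∈ N₃ := by
    rw [hN₃]
    apply mem_normalizer_zpowers
    have : x₁ * y * x₁⁻¹ = y := by rw [hy]; group
    rw [this]; exact Subgroup.mem_zpowers y
  have htN : t ∈ N₃ := by
    rw [hN₃]
    apply mem_normalizer_zpowers
    have : t * y * t⁻¹ = y⁻¹ := by
      rw [hy, ← conj_pow, hinv₁, inv_pow]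
    rw [this]; exact Subgroup.inv_mem _ (Subgroup.mem_zpowers y)
  -- the quotient
  haveI hZn : ((Subgroup.zpowers y).subgroupOf N₃).Normal := by
    rw [hN₃]; exact Subgroup.normal_in_normalizer
  let Q := ↥N₃ ⧸ (Subgroup.zpowers y).subgroupOf N₃
  let π : ↥N₃ →* Q := QuotientGroup.mk' _
  have hπsurj : Function.Surjective π := QuotientGroup.mk'_surjective _
  obtain ⟨V', hV'⟩ : ∃ V' : Subgroup Q, V' = (V.subgroupOf N₃).map π := ⟨_, rfl⟩
  haveI hV'n : V'.Normal := by
    rw [hV']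
    exact Subgroup.Normal.map inferInstance π hπsurj
  have hV'2 : ∀ v ∈ V', v * v = 1 := by
    intro v hv
    rw [hV'] at hv
    obtain ⟨w, hw, rfl⟩ := hv
    rw [← map_mul]
    have : w * w = 1 := by
      apply Subtype.ext
      rw [Subgroup.coe_mul, Subgroup.coe_one]
      exact hV2 _ (Subgroup.mem_subgroupOf.mp hw)
    rw [this, map_one]
  have hx3 : (π ⟨x₁, hx₁N⟩) ^ 3 = 1 := by
    rw [← map_pow]
    show ((⟨x₁, hx₁N⟩ ^ 3 : ↥N₃) : Q) = 1
    rw [QuotientGroup.eq_one_iff, Subgroup.mem_subgroupOf]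
    show x₁ ^ 3 ∈ Subgroup.zpowers y
    rw [hy]; exact Subgroup.mem_zpowers _
  obtain ⟨b, hb⟩ := ht
  have ht' : ∃ b : ℕ, (π ⟨t, htN⟩) ^ (2 ^ b) = 1 := by
    refine ⟨b, ?_⟩
    rw [← map_pow]
    have : (⟨t, htN⟩ : ↥N₃) ^ (2 ^ b) = 1 := by
      apply Subtype.ext
      rw [Subgroup.coe_pow, Subgroup.coe_one]
      exact hb
    rw [this, map_one]
  have hinv' : π ⟨t, htN⟩ * π ⟨x₁, hx₁N⟩ * (π ⟨t, htN⟩)⁻¹ = (π ⟨x₁, hx₁N⟩)⁻¹ := by
    rw [← map_inv, ← map_mul, ← map_mul, ← map_inv]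
    congr 1
    apply Subtype.ext
    simp only [Subgroup.coe_mul, Subgroup.coe_inv]
    exact hinv₁
  have hnc' : ¬ ∀ v ∈ V', π ⟨x₁, hx₁N⟩ * v = v * π ⟨x₁, hx₁N⟩ := by
    intro hall
    apply hmin
    intro v hv
    have hvN : v ∈ N₃ := hVN hv
    have h1 := hall (π ⟨v, hvN⟩) (by rw [hV']; exact ⟨⟨v, hvN⟩, Subgroup.mem_subgroupOf.mpr hv, rfl⟩)
    rw [← map_mul, ← map_mul] at h1
    have h2 : ((⟨v, hvN⟩ * ⟨x₁, hx₁N⟩ : ↥N₃))⁻¹ * (⟨x₁, hx₁N⟩ * ⟨v, hvN⟩) ∈
        (Subgroup.zpowers y).subgroupOf N₃ := by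
      rw [← QuotientGroup.eq]
      exact h1.symm
    rw [Subgroup.mem_subgroupOf] at h2
    simp only [Subgroup.coe_mul, Subgroup.coe_inv] at h2
    obtain ⟨w, hw⟩ : ∃ w, w = (v * x₁)⁻¹ * (x₁ * v) := ⟨_, rfl⟩
    rw [← hw] at h2
    have hwV : w ∈ V := by
      have : w = x₁⁻¹ * (v⁻¹ * (x₁ * v * x₁⁻¹)) * x₁⁻¹⁻¹ := by rw [hw]; group
      rw [this]
      exact hVn.conj_mem _ (V.mul_mem (V.inv_mem hv) (hVn.conj_mem v hv x₁)) _
    have hw2 : w * w = 1 := hV2 w hwV
    have hw3 : w ^ (3 ^ a) = 1 := by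
      obtain ⟨k, rfl⟩ := Subgroup.mem_zpowers_iff.mp h2
      rw [← zpow_natCast, ← zpow_mul, mul_comm, zpow_mul, zpow_natCast, hy3a, one_zpow]
    have hodd : Odd (3 ^ a) := Odd.pow (by decide)
    obtain ⟨k, hk⟩ := hodd
    have hw1 : w = 1 := by
      have : w ^ (3 ^ a) = w := by
        rw [hk, pow_succ, pow_mul, pow_two, hw2, one_pow, one_mul]
      rw [← this, hw3]
    have : (v * x₁)⁻¹ * (x₁ * v) = 1 := by rw [← hw, hw1]
    exact (inv_mul_eq_one.mp this).symm
  have hQ : Cfsg.Involves (Equiv.Perm (Fin 4)) Q :=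
    core V' hV'2 (π ⟨x₁, hx₁N⟩) (π ⟨t, htN⟩) hx3 ht' hinv' hnc'
  have hN : Cfsg.Involves (Equiv.Perm (Fin 4)) ↥N₃ := involves_of_surjective π hπsurj hQ
  exact involves_of_injective N₃.subtype N₃.subtype_injective hN

end core

end Cfsg.Agent.H9.S4Inv
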