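import Mathlib
import Cfsg.Agent.H9.S4InvA

set_option autoImplicit false
set_option linter.unusedVariables false
set_option linter.unusedSectionVars false
set_option linter.style.haveILetI false

namespace Cfsg.Agent.H9.S4Inv

open Cfsg Cfsg.Agent.Lib.Helper7 Cfsg.Agent.Lib.Helper7.ThA Cfsg.Agent.Lib.Lead.Conj

universe u

/-- odd-power trick -/
theorem eq_one_of_sq_of_pow_three {H : Type*} [Group H] (w : H) (h2 : w * w = 1) (a : ℕ)
    (h3 : w ^ (3 ^ a) = 1) : w = 1 := by
  have hodd : Odd (3 ^ a) := Odd.pow (by decide)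
  obtain ⟨k, hk⟩ := hodd
  have : w ^ (3 ^ a) = w := by
    rw [hk, pow_succ, pow_mul, pow_two, h2, one_pow, one_mul]
  rw [← this, h3]

/-- The case of a normal `2`-subgroup. -/
theorem normalTwo : ∀ (n : ℕ) (H : Type u) [Group H] [Finite H] (T : Subgroup H) [T.Normal],
    Nat.card T = n → IsPGroup 2 T → ∀ x t : H, (∃ a : ℕ, x ^ (3 ^ a) = 1) →
    (∃ b : ℕ, t ^ (2 ^ b) = 1) → t * x * t⁻¹ = x⁻¹ → (¬ ∀ v ∈ T, x * v = v * x) →
    Cfsg.Involves (Equiv.Perm (Fin 4)) H := by
  intro n
  induction n using Nat.strong_induction_on with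
  | _ n ih =>
  intro H _ _ T hTn hcard hT x t hx ht hinv hnc
  classical
  -- `Ω₁(Z(T))`
  let Z : Subgroup H :=
    { carrier := {z | z ∈ T ∧ z * z = 1 ∧ ∀ v ∈ T, z * v = v * z}
      one_mem' := ⟨T.one_mem, by simp, fun v _ => by simp⟩
      mul_mem' := by
        rintro a b ⟨ha, ha2, hac⟩ ⟨hb, hb2, hbc⟩
        refine ⟨T.mul_mem ha hb, ?_, ?_⟩
        · calc a * b * (a * b) = a * (b * a) * b := by group
            _ = a * (a * b) * b := by rw [hbc a ha]
            _ = (a * a) * (b * b) := by group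
            _ = 1 := by rw [ha2, hb2, one_mul]
        · intro v hv
          calc a * b * v = a * (b * v) := by group
            _ = a * (v * b) := by rw [hbc v hv]
            _ = (a * v) * b := by group
            _ = (v * a) * b := by rw [hac v hv]
            _ = v * (a * b) := by group
      inv_mem' := by
        rintro a ⟨ha, ha2, hac⟩
        have : a⁻¹ = a := inv_eq_of_mul_eq_one_right ha2
        rw [Set.mem_ofPred_eq, this]
        exact ⟨ha, ha2, hac⟩ }
  have hZmem : ∀ z, z ∈ Z ↔ z ∈ T ∧ z * z = 1 ∧ ∀ v ∈ T, z * v = v * z := fun z => Iff.rfl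
  haveI hZn : Z.Normal := by
    constructor
    intro z hz g
    obtain ⟨hzT, hz2, hzc⟩ := (hZmem z).mp hz
    rw [hZmem]
    refine ⟨hTn.conj_mem z hzT g, ?_, ?_⟩
    · calc g * z * g⁻¹ * (g * z * g⁻¹) = g * (z * z) * g⁻¹ := by group
        _ = 1 := by rw [hz2]; group
    · intro v hv
      have hv' : g⁻¹ * v * g⁻¹⁻¹ ∈ T := hTn.conj_mem v hv g⁻¹
      rw [inv_inv] at hv'
      calc g * z * g⁻¹ * v = g * (z * (g⁻¹ * v * g)) * g⁻¹ := by group
        _ = g * ((g⁻¹ * v * g) * z) * g⁻¹ := by rw [hzc _ hv']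
        _ = v * (g * z * g⁻¹) := by group
  have hZ2 : ∀ z ∈ Z, z * z = 1 := fun z hz => ((hZmem z).mp hz).2.1
  have hZT : Z ≤ T := fun z hz => ((hZmem z).mp hz).1
  by_cases hcase : ∀ z ∈ Z, x * z = z * x
  · -- pass to the quotient
    -- a nontrivial element of `Z`
    have hTne : Nontrivial ↥T := by
      by_contra hcon
      rw [not_nontrivial_iff_subsingleton] at hcon
      apply hnc
      intro v hv
      have : (⟨v, hv⟩ : ↥T) = 1 := Subsingleton.elim _ _
      have hv1 : v = 1 := by simpa using congrArg Subtype.val this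
      rw [hv1, mul_one, one_mul]
    haveI := hTne
    haveI : Nontrivial ↥(Subgroup.center ↥T) := hT.center_nontrivial
    obtain ⟨c, hc1⟩ := exists_ne (1 : ↥(Subgroup.center ↥T))
    obtain ⟨k, hk⟩ := (IsPGroup.iff_orderOf.mp hT) (c : ↥T)
    have hk0 : k ≠ 0 := by
      rintro rfl
      rw [pow_zero, orderOf_eq_one_iff] at hk
      apply hc1
      exact Subtype.ext hk
    obtain ⟨j, rfl⟩ := Nat.exists_eq_succ_of_ne_zero hk0
    obtain ⟨c', hc'⟩ : ∃ c' : ↥T, c' = (c : ↥T) ^ (2 ^ j) := ⟨_, rfl⟩
    have hc'o : orderOf c' = 2 := by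
      rw [hc', orderOf_pow_of_dvd (pow_ne_zero _ (by norm_num)) (by rw [hk]; exact pow_dvd_pow 2 (Nat.le_succ j)),
        hk, Nat.succ_eq_add_one, pow_succ, Nat.mul_div_cancel_left _ (pow_pos (by norm_num) j)]
    have hc'ne : c' ≠ 1 := by
      intro h
      rw [h, orderOf_one] at hc'o
      omega
    have hc'2 : c' * c' = 1 := by
      rw [← pow_two, ← hc'o, pow_orderOf_eq_one]
    have hc'cen : ∀ v : ↥T, c' * v = v * c' := by
      intro v
      have hmem : c' ∈ Subgroup.center ↥T := by
        rw [hc']; exact Subgroup.pow_mem _ c.2 _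
      exact ((Subgroup.mem_center_iff.mp hmem) v).symm
    have hc'Z : (c' : H) ∈ Z := by
      rw [hZmem]
      refine ⟨c'.2, ?_, ?_⟩
      · have := congrArg Subtype.val hc'2
        simpa using this
      · intro v hv
        have := congrArg Subtype.val (hc'cen ⟨v, hv⟩)
        simpa using this
    -- the quotient
    let π : H →* H ⧸ Z := QuotientGroup.mk' Z
    have hπsurj : Function.Surjective π := QuotientGroup.mk'_surjective Z
    haveI hT'n : (T.map π).Normal := Subgroup.Normal.map hTn π hπsurj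
    have hlt : Nat.card ↥(T.map π) < n := by
      rw [← hcard]
      haveI := Fintype.ofFinite ↥T
      haveI := Fintype.ofFinite ↥(T.map π)
      rw [Nat.card_eq_fintype_card, Nat.card_eq_fintype_card]
      apply Fintype.card_lt_of_surjective_not_injective (π.subgroupMap T) (π.subgroupMap_surjective T)
      intro hinj
      apply hc'ne
      apply hinj
      apply Subtype.ext
      show π (c' : H) = π ((1 : ↥T) : H)
      rw [Subgroup.coe_one, map_one]
      exact (QuotientGroup.eq_one_iff _).mpr hc'Z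
    obtain ⟨a, ha⟩ := hx
    obtain ⟨b, hb⟩ := ht
    have hnc' : ¬ ∀ v ∈ T.map π, π x * v = v * π x := by
      intro hall
      apply hnc
      intro v hv
      have h1 := hall (π v) ⟨v, hv, rfl⟩
      rw [← map_mul, ← map_mul] at h1
      have h2 : (v * x)⁻¹ * (x * v) ∈ Z := by
        rw [← QuotientGroup.eq]
        exact h1.symm
      obtain ⟨w, hw⟩ : ∃ w, w = (v * x)⁻¹ * (x * v) := ⟨_, rfl⟩
      rw [← hw] at h2
      have hxw : x * w = w * x := hcase w h2
      have hxv : x * v = v * x * w := by rw [hw]; group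
      have hpow : ∀ k : ℕ, x ^ k * v = v * x ^ k * w ^ k := by
        intro k
        induction k with
        | zero => simp
        | succ k ihk =>
          have hxwk : x ^ k * w = w * x ^ k := by
            have : Commute x w := hxw
            exact (this.pow_left k).eq
          calc x ^ (k + 1) * v = x * (x ^ k * v) := by rw [pow_succ']; group
            _ = x * (v * x ^ k * w ^ k) := by rw [ihk]
            _ = (x * v) * x ^ k * w ^ k := by group
            _ = (v * x * w) * x ^ k * w ^ k := by rw [hxv]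
            _ = v * x * (w * x ^ k) * w ^ k := by group
            _ = v * x * (x ^ k * w) * w ^ k := by rw [hxwk]
            _ = v * (x * x ^ k) * (w * w ^ k) := by group
            _ = v * x ^ (k + 1) * w ^ (k + 1) := by rw [← pow_succ', ← pow_succ']
      have h3 := hpow (3 ^ a)
      rw [ha, one_mul, mul_one] at h3
      have hw3 : w ^ (3 ^ a) = 1 := by
        have := congrArg (fun z => v⁻¹ * z) h3
        simpa using this.symm
      have hw1 : w = 1 := eq_one_of_sq_of_pow_three w (hZ2 w h2) a hw3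
      rw [hxv, hw1, mul_one]
    have hQ : Cfsg.Involves (Equiv.Perm (Fin 4)) (H ⧸ Z) :=
      ih _ hlt (H ⧸ Z) (T.map π) rfl (hT.map π) (π x) (π t)
        ⟨a, by rw [← map_pow, ha, map_one]⟩ ⟨b, by rw [← map_pow, hb, map_one]⟩
        (by rw [← map_inv, ← map_mul, ← map_mul, hinv, map_inv]) hnc'
    exact involves_of_surjective π hπsurj hQ
  · exact elemAb Z hZ2 x t hx ht hinv hcase

end Cfsg.Agent.H9.S4Inv
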