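import Mathlib

set_option autoImplicit false
open Equiv

namespace Cfsg.Agent.H9.S4S3

/-- partner-of-zero index map -/
def piFun (g : Perm (Fin 4)) (i : Fin 3) : Fin 3 :=
  ⟨(((g 0).val ^^^ (g i.succ).val) - 1) % 3, Nat.mod_lt _ (by norm_num)⟩

set_option maxRecDepth 1000000 in
theorem piFun_inv : ∀ (g : Perm (Fin 4)) (i : Fin 3), piFun g⁻¹ (piFun g i) = i := by
  decide +kernel

def piPerm (g : Perm (Fin 4)) : Perm (Fin 3) where
  toFun := piFun g
  invFun := piFun g⁻¹
  left_inv := piFun_inv g
  right_inv := by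
    intro i
    have := piFun_inv g⁻¹ i
    rwa [inv_inv] at this

set_option maxRecDepth 1000000 in
theorem piFun_mul : ∀ (g h : Perm (Fin 4)) (i : Fin 3), piFun (g * h) i = piFun g (piFun h i) := by
  decide +kernel

set_option maxRecDepth 1000000 in
theorem piFun_one : ∀ (i : Fin 3), piFun 1 i = i := by
  decide +kernel

def piS : Perm (Fin 4) →* Perm (Fin 3) where
  toFun := piPerm
  map_one' := by
    ext i
    show (piFun 1 i : ℕ) = _
    rw [piFun_one]; rfl
  map_mul' := by
    intro g h
    ext i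
    show (piFun (g * h) i : ℕ) = _
    rw [piFun_mul]; rfl

end Cfsg.Agent.H9.S4S3

namespace Cfsg.Agent.H9.S4S3
open Equiv

theorem piS_apply (g : Perm (Fin 4)) : piS g = piPerm g := rfl

set_option maxRecDepth 1000000 in
theorem piS_surj' : ∀ s : Perm (Fin 3), ∃ g : Perm (Fin 4), piPerm g = s := by
  decide +kernel

theorem piS_surjective : Function.Surjective piS := piS_surj'

set_option maxRecDepth 1000000 in
theorem piS_centralizer' : ∀ g : Perm (Fin 4), (∀ v : Perm (Fin 4), piPerm v = 1 → g * v = v * g) → piPerm g = 1 := by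
  decide +kernel

set_option maxRecDepth 1000000 in
theorem piS_ker_sq' : ∀ v : Perm (Fin 4), piPerm v = 1 → v * v = 1 := by
  decide +kernel

set_option maxRecDepth 1000000 in
theorem s3_sq : ∀ a : Perm (Fin 3), Perm.sign a = -1 → a * a = 1 := by
  decide +kernel

set_option maxRecDepth 1000000 in
theorem s3_inv : ∀ a b : Perm (Fin 3), Perm.sign b = -1 → Perm.sign a = 1 → b * a * b⁻¹ = a⁻¹ := by
  decide +kernel

set_option maxRecDepth 1000000 in
theorem s3_cube : ∀ a : Perm (Fin 3), Perm.sign a = 1 → a ^ 3 = 1 := by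
  decide +kernel

set_option maxRecDepth 1000000 in
theorem s3_ex_even : ∃ a : Perm (Fin 3), Perm.sign a = 1 ∧ a ≠ 1 := by
  decide +kernel

set_option maxRecDepth 1000000 in
theorem s3_ex_odd : ∃ b : Perm (Fin 3), Perm.sign b = -1 := by
  decide +kernel

end Cfsg.Agent.H9.S4S3
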