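import Mathlib
import Cfsg.Agent.H9.S4S3

set_option autoImplicit false
set_option linter.unusedVariables false
set_option linter.unusedSectionVars false
set_option linter.style.haveILetI false

namespace Cfsg.Agent.H9.S4Inv

open Cfsg Cfsg.Agent.H9.S4S3 Equiv

universe u

/-- From a surjection onto `S₃`, a `3`-element inverted exactly by a `2`-element. -/
theorem exists_pair_aux {K : Type u} [Group K] [Finite K] (ψ : K →* Perm (Fin 3))
    (hψ : Function.Surjective ψ) :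
    ∃ x t : K, (∃ a : ℕ, x ^ (3 ^ a) = 1) ∧ (∃ b : ℕ, t ^ (2 ^ b) = 1) ∧ t * x * t⁻¹ = x⁻¹ ∧
      ψ x ≠ 1 := by
  classical
  obtain ⟨ε, hε⟩ : ∃ ε : K →* ℤˣ, ε = Perm.sign.comp ψ := ⟨_, rfl⟩
  have hεapp : ∀ k, ε k = Perm.sign (ψ k) := fun k => by rw [hε]; rfl
  obtain ⟨L, hL⟩ : ∃ L : Subgroup K, L = ε.ker := ⟨_, rfl⟩
  haveI hLn : L.Normal := by rw [hL]; infer_instance
  have hLmem : ∀ k, k ∈ L ↔ Perm.sign (ψ k) = 1 := fun k => by rw [hL, MonoidHom.mem_ker, hεapp]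
  obtain ⟨σ, hσ1, hσne⟩ := s3_ex_even
  obtain ⟨τ, hτ⟩ := s3_ex_odd
  obtain ⟨y₀, hy₀⟩ := hψ σ
  obtain ⟨g₀, hg₀⟩ := hψ τ
  -- the `3`-part of `y₀`
  have hco : orderOf y₀ ≠ 0 := (orderOf_pos y₀).ne'
  obtain ⟨a, m, hm, hcm⟩ := Nat.exists_eq_pow_mul_and_not_dvd hco 3 (by norm_num)
  have hmne : m ≠ 0 := by rintro rfl; simp at hm
  obtain ⟨y, hy⟩ : ∃ y, y = y₀ ^ m := ⟨_, rfl⟩
  have hyo : orderOf y = 3 ^ a := by
    rw [hy, orderOf_pow_of_dvd hmne (by rw [hcm]; exact dvd_mul_left _ _), hcm,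
      Nat.mul_div_cancel _ (Nat.pos_of_ne_zero hmne)]
  have hψy : ψ y = σ ^ m := by rw [hy, map_pow, hy₀]
  have hσ3 : σ ^ 3 = 1 := s3_cube σ hσ1
  have hψy1 : ψ y ≠ 1 := by
    rw [hψy]
    intro h
    have h1 : orderOf σ ∣ 3 := orderOf_dvd_of_pow_eq_one hσ3
    have h2 : orderOf σ ∣ m := orderOf_dvd_of_pow_eq_one h
    rcases (Nat.dvd_prime Nat.prime_three).mp h1 with h3 | h3
    · exact hσne (orderOf_eq_one_iff.mp h3)
    · rw [h3] at h2; exact hm h2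
  have hψysign : Perm.sign (ψ y) = 1 := by rw [hψy, map_pow, hσ1, one_pow]
  have hyL : y ∈ L := (hLmem y).mpr hψysign
  have hpg : IsPGroup 3 (Subgroup.zpowers (⟨y, hyL⟩ : L)) := by
    apply IsPGroup.of_card (n := a)
    rw [Nat.card_zpowers, Subgroup.orderOf_mk, hyo]
  obtain ⟨Q, hQ⟩ := hpg.exists_le_sylow
  have hyQ : (⟨y, hyL⟩ : L) ∈ (Q : Subgroup L) := hQ (Subgroup.mem_zpowers _)
  have hfr := Sylow.normalizer_sup_eq_top Q
  obtain ⟨Q', hQ'⟩ : ∃ Q' : Subgroup K, Q' = (Q : Subgroup L).map L.subtype := ⟨_, rfl⟩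
  rw [← hQ'] at hfr
  have hyQ' : y ∈ Q' := by rw [hQ']; exact ⟨⟨y, hyL⟩, hyQ, rfl⟩
  have hQ'p : IsPGroup 3 Q' := by rw [hQ']; exact Q.isPGroup'.map _
  have hg₀mem : g₀ ∈ ((Subgroup.normalizer (Q' : Set K) ⊔ L : Subgroup K) : Set K) := by
    rw [hfr]; trivial
  rw [Subgroup.mul_normal] at hg₀mem
  obtain ⟨n₁, hn₁, n₂, hn₂, hmul⟩ := Set.mem_mul.mp hg₀mem
  have hsign₁ : Perm.sign (ψ n₁) = -1 := by
    have h1 : Perm.sign (ψ g₀) = -1 := by rw [hg₀]; exact hτ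
    rw [← hmul, map_mul, map_mul, (hLmem n₂).mp hn₂, mul_one] at h1
    exact h1
  -- the `2`-part of `n₁`
  have hn₁o : orderOf n₁ ≠ 0 := (orderOf_pos n₁).ne'
  obtain ⟨b, m', hm', hbm⟩ := Nat.exists_eq_two_pow_mul_odd hn₁o
  have hm'ne : m' ≠ 0 := by rintro rfl; simp at hm'
  obtain ⟨t, ht⟩ : ∃ t, t = n₁ ^ m' := ⟨_, rfl⟩
  have hto : orderOf t = 2 ^ b := by
    rw [ht, orderOf_pow_of_dvd hm'ne (by rw [hbm]; exact dvd_mul_left _ _), hbm,
      Nat.mul_div_cancel _ (Nat.pos_of_ne_zero hm'ne)]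
  have htsign : Perm.sign (ψ t) = -1 := by
    rw [ht, map_pow, map_pow, hsign₁, Odd.neg_one_pow hm']
  have htN : t ∈ Subgroup.normalizer (Q' : Set K) := by rw [ht]; exact pow_mem hn₁ _
  obtain ⟨s, hs⟩ : ∃ s, s = t * t := ⟨_, rfl⟩
  have hψs : ψ s = 1 := by rw [hs, map_mul]; exact s3_sq _ htsign
  have hsN : s ∈ Subgroup.normalizer (Q' : Set K) := by rw [hs]; exact Subgroup.mul_mem _ htN htN
  have hspow : s ^ (2 ^ b) = 1 := by
    rw [hs, ← pow_two, ← pow_mul, mul_comm, pow_mul, ← hto, pow_orderOf_eq_one, one_pow]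
  -- the coset
  let Ω := {q : K // q ∈ Q' ∧ ψ q = ψ y}
  have hzN : ∀ g ∈ Subgroup.zpowers s, g ∈ Subgroup.normalizer (Q' : Set K) := by
    intro g hg
    exact (Subgroup.zpowers_le.mpr hsN) hg
  have hzψ : ∀ g ∈ Subgroup.zpowers s, ψ g = 1 := by
    intro g hg
    obtain ⟨k, rfl⟩ := Subgroup.mem_zpowers_iff.mp hg
    rw [map_zpow, hψs, one_zpow]
  let act : MulAction (Subgroup.zpowers s) Ω :=
    { smul := fun g ω => ⟨(g : K) * ω.1 * (g : K)⁻¹, by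
        refine ⟨(Subgroup.mem_normalizer_iff.mp (hzN g g.2) ω.1).mp ω.2.1, ?_⟩
        rw [map_mul, map_mul, map_inv, hzψ g g.2, one_mul, inv_one, mul_one]
        exact ω.2.2⟩
      one_smul := by
        intro ω
        apply Subtype.ext
        show ((1 : Subgroup.zpowers s) : K) * ω.1 * ((1 : Subgroup.zpowers s) : K)⁻¹ = ω.1
        simp
      mul_smul := by
        intro g h ω
        apply Subtype.ext
        show ((g * h : Subgroup.zpowers s) : K) * ω.1 * ((g * h : Subgroup.zpowers s) : K)⁻¹ =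
          (g : K) * ((h : K) * ω.1 * (h : K)⁻¹) * (g : K)⁻¹
        rw [Subgroup.coe_mul]; group }
  have hsmul : ∀ (g : Subgroup.zpowers s) (ω : Ω), (g • ω).1 = (g : K) * ω.1 * (g : K)⁻¹ :=
    fun g ω => rfl
  have hpz : IsPGroup 2 (Subgroup.zpowers s) := by
    have hdvd : orderOf s ∣ 2 ^ b := orderOf_dvd_of_pow_eq_one hspow
    obtain ⟨j, _, hj⟩ := (Nat.dvd_prime_pow Nat.prime_two).mp hdvd
    apply IsPGroup.of_card (n := j)
    rw [Nat.card_zpowers, hj]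
  have hΩcard : ¬ 2 ∣ Nat.card Ω := by
    have e : Ω ≃ ↥(Q' ⊓ ψ.ker) :=
      { toFun := fun ω => ⟨y⁻¹ * ω.1, by
          rw [Subgroup.mem_inf, MonoidHom.mem_ker]
          refine ⟨Q'.mul_mem (Q'.inv_mem hyQ') ω.2.1, ?_⟩
          rw [map_mul, map_inv, ω.2.2, inv_mul_cancel]⟩
        invFun := fun r => ⟨y * r.1, by
          have hr := r.2
          rw [Subgroup.mem_inf, MonoidHom.mem_ker] at hr
          refine ⟨Q'.mul_mem hyQ' hr.1, ?_⟩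
          rw [map_mul, hr.2, mul_one]⟩
        left_inv := by
          intro ω
          apply Subtype.ext
          show y * (y⁻¹ * ω.1) = ω.1
          group
        right_inv := by
          intro r
          apply Subtype.ext
          show y⁻¹ * (y * r.1) = r.1
          group }
    rw [Nat.card_congr e]
    intro h2
    obtain ⟨k, hk⟩ := hQ'p.exists_card_eq
    have h3 : Nat.card ↥(Q' ⊓ ψ.ker) ∣ Nat.card Q' := Subgroup.card_dvd_of_le inf_le_left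
    rw [hk] at h3
    have := Nat.Prime.dvd_of_dvd_pow Nat.prime_two (h2.trans h3)
    omega
  haveI : Fact (Nat.Prime 2) := ⟨Nat.prime_two⟩
  haveI : Finite Ω := inferInstance
  obtain ⟨ω, hω⟩ := hpz.nonempty_fixed_point_of_prime_not_dvd_card Ω hΩcard
  obtain ⟨y₁, hy₁⟩ : ∃ y₁, y₁ = ω.1 := ⟨_, rfl⟩
  have hy₁Q : y₁ ∈ Q' := by rw [hy₁]; exact ω.2.1
  have hy₁ψ : ψ y₁ = ψ y := by rw [hy₁]; exact ω.2.2
  have hsy₁ : s * y₁ * s⁻¹ = y₁ := by
    have h1 := hω ⟨s, Subgroup.mem_zpowers s⟩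
    have h2 := congrArg Subtype.val h1
    rw [hsmul] at h2
    rw [hy₁]; exact h2
  -- the element
  refine ⟨y₁⁻¹ * (t * y₁ * t⁻¹), t, ?_, ⟨b, by rw [← hto, pow_orderOf_eq_one]⟩, ?_, ?_⟩
  · have hxQ : y₁⁻¹ * (t * y₁ * t⁻¹) ∈ Q' :=
      Q'.mul_mem (Q'.inv_mem hy₁Q) ((Subgroup.mem_normalizer_iff.mp htN y₁).mp hy₁Q)
    obtain ⟨k, hk⟩ := (IsPGroup.iff_orderOf.mp hQ'p) ⟨_, hxQ⟩
    refine ⟨k, ?_⟩
    rw [Subgroup.orderOf_mk] at hk
    rw [← hk, pow_orderOf_eq_one]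
  · calc t * (y₁⁻¹ * (t * y₁ * t⁻¹)) * t⁻¹
        = (t * y₁ * t⁻¹)⁻¹ * ((t * t) * y₁ * (t * t)⁻¹) := by group
      _ = (t * y₁ * t⁻¹)⁻¹ * y₁ := by rw [← hs, hsy₁]
      _ = (y₁⁻¹ * (t * y₁ * t⁻¹))⁻¹ := by group
  · intro h
    rw [map_mul, map_mul, map_mul, map_inv, map_inv, hy₁ψ,
      s3_inv (ψ y) (ψ t) htsign hψysign] at h
    have h2 : ψ y * ψ y = 1 := by
      have : ((ψ y) * (ψ y))⁻¹ = 1 := by rw [mul_inv_rev]; exact h
      exact inv_eq_one.mp this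
    have h3 : ψ y ^ 3 = 1 := s3_cube _ hψysign
    apply hψy1
    calc ψ y = ψ y ^ 3 * (ψ y * ψ y)⁻¹ := by group
      _ = 1 := by rw [h3, h2]; group

end Cfsg.Agent.H9.S4Inv
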