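import Mathlib
import Cfsg.Agent.H9.S4InvB
import Cfsg.Agent.H9.S4InvC

set_option autoImplicit false
set_option linter.unusedVariables false
set_option linter.unusedSectionVars false
set_option linter.style.haveILetI false

namespace Cfsg.Agent.H9.S4Inv

open Cfsg Cfsg.Agent.Lib.Helper7 Cfsg.Agent.Lib.Helper7.ThA Cfsg.Agent.H9.S4S3 Equiv

universe u v w

/-- factoring a surjection through another homomorphism -/
theorem involves_of_factor {A : Type u} {B : Type v} {S : Type w} [Group A] [Group B] [Group S]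
    (f : A →* B) (ρ : A →* S) (hρ : Function.Surjective ρ) (hker : ∀ a : A, f a = 1 → ρ a = 1) :
    Cfsg.Involves S B := by
  rw [involves_iff_exists_surjective]
  have hle : ∀ a ∈ f.ker, ρ a = 1 := fun a ha => hker a (MonoidHom.mem_ker.mp ha)
  refine ⟨f.range, (QuotientGroup.lift f.ker ρ hle).comp
    (QuotientGroup.quotientKerEquivRange f).symm.toMonoidHom, ?_⟩
  intro s
  obtain ⟨a, ha⟩ := hρ s
  refine ⟨(QuotientGroup.quotientKerEquivRange f) (a : A ⧸ f.ker), ?_⟩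
  rw [MonoidHom.comp_apply]
  show (QuotientGroup.lift f.ker ρ hle)
    ((QuotientGroup.quotientKerEquivRange f).symm ((QuotientGroup.quotientKerEquivRange f) (a : A ⧸ f.ker))) = s
  rw [MulEquiv.symm_apply_apply]
  exact ha

/-- the direction from a local `S₃` to `S₄` -/
theorem backward {G : Type u} [Group G] [Finite G] (T : Subgroup G) (hT : IsPGroup 2 ↥T)
    (h : Cfsg.Involves (Equiv.Perm (Fin 3)) (↥(Subgroup.normalizer (T : Set G)) ⧸
      (Subgroup.centralizer (T : Set G)).subgroupOf (Subgroup.normalizer (T : Set G)))) :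
    Cfsg.Involves (Equiv.Perm (Fin 4)) G := by
  classical
  rw [involves_iff_exists_surjective] at h
  obtain ⟨Kb, ψb, hψb⟩ := h
  obtain ⟨N, hN⟩ : ∃ N : Subgroup G, N = Subgroup.normalizer (T : Set G) := ⟨_, rfl⟩
  let π : ↥(Subgroup.normalizer (T : Set G)) →* _ :=
    QuotientGroup.mk' ((Subgroup.centralizer (T : Set G)).subgroupOf (Subgroup.normalizer (T : Set G)))
  have hπsurj : Function.Surjective π := QuotientGroup.mk'_surjective _
  obtain ⟨K, hK⟩ : ∃ K : Subgroup ↥(Subgroup.normalizer (T : Set G)), K = Kb.comap π := ⟨_, rfl⟩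
  obtain ⟨ψ, hψdef⟩ : ∃ ψ : ↥(Kb.comap π) →* Equiv.Perm (Fin 3), ψ = ψb.comp (π.subgroupComap Kb) :=
    ⟨_, rfl⟩
  have hψ : Function.Surjective ψ := by
    rw [hψdef]
    exact hψb.comp (π.subgroupComap_surjective_of_surjective Kb hπsurj)
  obtain ⟨x, t, hx, ht, hinv, hψx⟩ := exists_pair_aux ψ hψ
  -- `T` inside its normalizer
  obtain ⟨T', hT'⟩ : ∃ T' : Subgroup ↥(Subgroup.normalizer (T : Set G)),
      T' = T.subgroupOf (Subgroup.normalizer (T : Set G)) := ⟨_, rfl⟩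
  haveI hT'n : T'.Normal := by rw [hT']; exact Subgroup.normal_in_normalizer
  have hT'p : IsPGroup 2 ↥T' := by rw [hT']; exact hT.comap_subtype
  obtain ⟨a, ha⟩ := hx
  obtain ⟨b, hb⟩ := ht
  have hnc : ¬ ∀ v ∈ T', ((x : ↥(Kb.comap π)) : ↥(Subgroup.normalizer (T : Set G))) * v =
      v * ((x : ↥(Kb.comap π)) : ↥(Subgroup.normalizer (T : Set G))) := by
    intro hall
    apply hψx
    have hxC : ((x : ↥(Kb.comap π)) : ↥(Subgroup.normalizer (T : Set G))) ∈
        (Subgroup.centralizer (T : Set G)).subgroupOf (Subgroup.normalizer (T : Set G)) := by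
      rw [Subgroup.mem_subgroupOf, Subgroup.mem_centralizer_iff]
      intro g hg
      have hgN : g ∈ Subgroup.normalizer (T : Set G) := Subgroup.le_normalizer hg
      have h1 := hall ⟨g, hgN⟩ (by rw [hT', Subgroup.mem_subgroupOf]; exact hg)
      have h2 := congrArg Subtype.val h1
      simp only [Subgroup.coe_mul] at h2
      exact h2.symm
    have hπx : π ((x : ↥(Kb.comap π)) : ↥(Subgroup.normalizer (T : Set G))) = 1 :=
      (QuotientGroup.eq_one_iff _).mpr hxC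
    rw [hψdef, MonoidHom.comp_apply]
    have : (π.subgroupComap Kb) x = 1 := by
      apply Subtype.ext
      exact hπx
    rw [this, map_one]
  have hNinv : Cfsg.Involves (Equiv.Perm (Fin 4)) ↥(Subgroup.normalizer (T : Set G)) :=
    normalTwo (Nat.card T') _ T' rfl hT'p (x : ↥(Subgroup.normalizer (T : Set G)))
      (t : ↥(Subgroup.normalizer (T : Set G)))
      ⟨a, by rw [← Subgroup.coe_pow, ha, Subgroup.coe_one]⟩
      ⟨b, by rw [← Subgroup.coe_pow, hb, Subgroup.coe_one]⟩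
      (by rw [← Subgroup.coe_inv, ← Subgroup.coe_mul, ← Subgroup.coe_mul, hinv, Subgroup.coe_inv]) hnc
  exact involves_of_injective (Subgroup.normalizer (T : Set G)).subtype
    (Subgroup.subtype_injective _) hNinv

/-- the direction from `S₄` to a local `S₃` -/
theorem forward {G : Type u} [Group G] [Finite G] (h : Cfsg.Involves (Equiv.Perm (Fin 4)) G) :
    ∃ T : Subgroup G, IsPGroup 2 ↥T ∧ Cfsg.Involves (Equiv.Perm (Fin 3))
      (↥(Subgroup.normalizer (T : Set G)) ⧸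
        (Subgroup.centralizer (T : Set G)).subgroupOf (Subgroup.normalizer (T : Set G))) := by
  classical
  rw [involves_iff_exists_surjective] at h
  obtain ⟨K, φ, hφ⟩ := h
  obtain ⟨ρ, hρdef⟩ : ∃ ρ : ↥K →* Equiv.Perm (Fin 3), ρ = piS.comp φ := ⟨_, rfl⟩
  have hρapp : ∀ k, ρ k = piS (φ k) := fun k => by rw [hρdef]; rfl
  have hρ : Function.Surjective ρ := by rw [hρdef]; exact piS_surjective.comp hφ
  obtain ⟨V₁, hV₁⟩ : ∃ V₁ : Subgroup ↥K, V₁ = ρ.ker := ⟨_, rfl⟩
  haveI hV₁n : V₁.Normal := by rw [hV₁]; infer_instance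
  have hV₁mem : ∀ k, k ∈ V₁ ↔ piS (φ k) = 1 := fun k => by rw [hV₁, MonoidHom.mem_ker, hρapp]
  haveI : Fact (Nat.Prime 2) := ⟨Nat.prime_two⟩
  obtain ⟨T₀⟩ : Nonempty (Sylow 2 ↥V₁) := inferInstance
  obtain ⟨T₁, hT₁⟩ : ∃ T₁ : Subgroup ↥K, T₁ = (T₀ : Subgroup ↥V₁).map V₁.subtype := ⟨_, rfl⟩
  have hfr := Sylow.normalizer_sup_eq_top T₀
  rw [← hT₁] at hfr
  obtain ⟨T, hT⟩ : ∃ T : Subgroup G, T = T₁.map K.subtype := ⟨_, rfl⟩
  have hTp : IsPGroup 2 ↥T := by
    rw [hT, hT₁]; exact (T₀.isPGroup'.map _).map _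
  refine ⟨T, hTp, ?_⟩
  -- the image of `T₁` is the kernel of `piS`
  have hkerp : IsPGroup 2 ↥piS.ker := by
    intro g
    refine ⟨1, ?_⟩
    apply Subtype.ext
    rw [pow_one, pow_two, Subgroup.coe_mul, Subgroup.coe_one]
    exact piS_ker_sq' g.1 (by rw [← piS_apply]; exact MonoidHom.mem_ker.mp g.2)
  have hval : ∀ v : ↥V₁, (φ.comp V₁.subtype) v ∈ piS.ker := by
    intro v
    rw [MonoidHom.mem_ker, MonoidHom.comp_apply]
    exact (hV₁mem v.1).mp v.2
  obtain ⟨φ', hφ'⟩ : ∃ φ' : ↥V₁ →* ↥piS.ker, φ' = (φ.comp V₁.subtype).codRestrict piS.ker hval :=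
    ⟨_, rfl⟩
  have hφ'app : ∀ v : ↥V₁, ((φ' v : ↥piS.ker) : Equiv.Perm (Fin 4)) = φ (v : ↥K) := by
    intro v; rw [hφ']; rfl
  have hφ'surj : Function.Surjective φ' := by
    rintro ⟨w, hw⟩
    obtain ⟨k, hk⟩ := hφ w
    have hkV : k ∈ V₁ := by rw [hV₁mem, hk]; exact MonoidHom.mem_ker.mp hw
    refine ⟨⟨k, hkV⟩, ?_⟩
    apply Subtype.ext
    rw [hφ'app]; exact hk
  have himg : (T₀ : Subgroup ↥V₁).map φ' = ⊤ := by
    have h1 := (T₀.mapSurjective hφ'surj).is_maximal' (Q := ⊤) (hkerp.to_subgroup ⊤) le_top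
    rw [Sylow.coe_mapSurjective] at h1
    exact h1.symm
  have hlift : ∀ w : Equiv.Perm (Fin 4), piS w = 1 → ∃ q ∈ T₁, φ q = w := by
    intro w hw
    have hmem : (⟨w, MonoidHom.mem_ker.mpr hw⟩ : ↥piS.ker) ∈ (T₀ : Subgroup ↥V₁).map φ' := by
      rw [himg]; trivial
    obtain ⟨v, hv, hvw⟩ := hmem
    refine ⟨(v : ↥K), ?_, ?_⟩
    · rw [hT₁]; exact ⟨v, hv, rfl⟩
    · rw [← hφ'app, hvw]
  -- centralizing elements die
  have hcent : ∀ k : ↥K, (∀ g ∈ T, (k : G) * g = g * (k : G)) → ρ k = 1 := by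
    intro k hk
    rw [hρapp, piS_apply]
    apply piS_centralizer'
    intro w hw
    obtain ⟨q, hq, hqw⟩ := hlift w (by rw [piS_apply]; exact hw)
    have hqT : (q : G) ∈ T := by rw [hT]; exact ⟨q, hq, rfl⟩
    have h1 := hk (q : G) hqT
    have h2 : k * q = q * k := by
      apply Subtype.ext
      rw [Subgroup.coe_mul, Subgroup.coe_mul]; exact h1
    rw [← hqw, ← map_mul, ← map_mul, h2]
  -- the normalizer of `T₁` in `K`
  obtain ⟨K₁, hK₁⟩ : ∃ K₁ : Subgroup ↥K, K₁ = Subgroup.normalizer (T₁ : Set ↥K) := ⟨_, rfl⟩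
  have hK₁N : ∀ k : ↥K₁, ((k : ↥K) : G) ∈ Subgroup.normalizer (T : Set G) := by
    intro k
    rw [hT]
    apply Subgroup.le_normalizer_map K.subtype
    exact Subgroup.mem_map_of_mem K.subtype (by rw [← hK₁]; exact k.2)
  let incl : ↥K₁ →* ↥(Subgroup.normalizer (T : Set G)) :=
    (K.subtype.comp K₁.subtype).codRestrict _ hK₁N
  let f : ↥K₁ →* (↥(Subgroup.normalizer (T : Set G)) ⧸
      (Subgroup.centralizer (T : Set G)).subgroupOf (Subgroup.normalizer (T : Set G))) :=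
    (QuotientGroup.mk' _).comp incl
  have hρ₁ : Function.Surjective (ρ.comp K₁.subtype) := by
    intro s
    obtain ⟨k, hk⟩ := hρ s
    have hkmem : k ∈ ((Subgroup.normalizer (T₁ : Set ↥K) ⊔ V₁ : Subgroup ↥K) : Set ↥K) := by
      rw [hfr]; trivial
    rw [Subgroup.mul_normal] at hkmem
    obtain ⟨n₁, hn₁, n₂, hn₂, hmul⟩ := Set.mem_mul.mp hkmem
    refine ⟨⟨n₁, by rw [hK₁]; exact hn₁⟩, ?_⟩
    rw [MonoidHom.comp_apply]
    show ρ n₁ = s
    have : ρ n₂ = 1 := by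
      have : n₂ ∈ ρ.ker := by rw [← hV₁]; exact hn₂
      exact MonoidHom.mem_ker.mp this
    rw [← hk, ← hmul, map_mul, this, mul_one]
  apply involves_of_factor f (ρ.comp K₁.subtype) hρ₁
  intro k hk
  rw [MonoidHom.comp_apply]
  apply hcent
  have h1 : incl k ∈ (Subgroup.centralizer (T : Set G)).subgroupOf
      (Subgroup.normalizer (T : Set G)) := (QuotientGroup.eq_one_iff _).mp hk
  rw [Subgroup.mem_subgroupOf, Subgroup.mem_centralizer_iff] at h1
  intro g hg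
  exact (h1 g hg).symm

end Cfsg.Agent.H9.S4Inv
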