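import Cfsg.Agent.H9.GL23Ra

/-!
# Recognition of `GL(2,3)` from generators and relations (piece R2 of S3304)
-/

set_option autoImplicit false

namespace Cfsg.Agent.H9.GL23R

open Matrix

/-- the four generators -/
inductive Gen : Type
  | i | j | c | n
  deriving DecidableEq

/-- the free generators -/
abbrev fi : FreeGroup Gen := FreeGroup.of Gen.i
/-- the free generators -/
abbrev fj : FreeGroup Gen := FreeGroup.of Gen.j
/-- the free generators -/
abbrev fc : FreeGroup Gen := FreeGroup.of Gen.c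
/-- the free generators -/
abbrev fn : FreeGroup Gen := FreeGroup.of Gen.n

/-- the relators, each of the form `lhs * rhs⁻¹` -/
def rels : Set (FreeGroup Gen) :=
  {fi ^ 4 * 1⁻¹, fj ^ 2 * (fi ^ 2)⁻¹, fj * fi * fj⁻¹ * (fi⁻¹)⁻¹, fc ^ 3 * 1⁻¹, fn ^ 2 * 1⁻¹,
    fc * fi * fc⁻¹ * fj⁻¹, fc * fj * fc⁻¹ * (fi * fj)⁻¹, fn * fi * fn⁻¹ * (fi⁻¹)⁻¹,
    fn * fj * fn⁻¹ * ((fi * fj)⁻¹)⁻¹, fn * fc * fn⁻¹ * (fc⁻¹)⁻¹}

/-- the presented group -/
abbrev PG : Type := PresentedGroup rels

/-- the generators in the presented group -/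
abbrev pgen (g : Gen) : PG := PresentedGroup.mk rels (FreeGroup.of g)

theorem rel_PG : Rel (pgen Gen.i) (pgen Gen.j) (pgen Gen.c) (pgen Gen.n) := by
  refine ⟨?_, ?_, ?_, ?_, ?_, ?_, ?_, ?_, ?_, ?_⟩
  · have := PresentedGroup.mk_eq_mk_of_mul_inv_mem (rels := rels) (x := fi ^ 4) (y := 1)
      (by simp [rels])
    simpa using this
  · have := PresentedGroup.mk_eq_mk_of_mul_inv_mem (rels := rels) (x := fj ^ 2) (y := fi ^ 2)
      (by simp [rels])
    simpa using this
  · have := PresentedGroup.mk_eq_mk_of_mul_inv_mem (rels := rels) (x := fj * fi * fj⁻¹)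
      (y := fi⁻¹) (by simp [rels])
    simpa using this
  · have := PresentedGroup.mk_eq_mk_of_mul_inv_mem (rels := rels) (x := fc ^ 3) (y := 1)
      (by simp [rels])
    simpa using this
  · have := PresentedGroup.mk_eq_mk_of_mul_inv_mem (rels := rels) (x := fn ^ 2) (y := 1)
      (by simp [rels])
    simpa using this
  · have := PresentedGroup.mk_eq_mk_of_mul_inv_mem (rels := rels) (x := fc * fi * fc⁻¹)
      (y := fj) (by simp [rels])
    simpa using this
  · have := PresentedGroup.mk_eq_mk_of_mul_inv_mem (rels := rels) (x := fc * fj * fc⁻¹)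
      (y := fi * fj) (by simp [rels])
    simpa using this
  · have := PresentedGroup.mk_eq_mk_of_mul_inv_mem (rels := rels) (x := fn * fi * fn⁻¹)
      (y := fi⁻¹) (by simp [rels])
    simpa using this
  · have := PresentedGroup.mk_eq_mk_of_mul_inv_mem (rels := rels) (x := fn * fj * fn⁻¹)
      (y := (fi * fj)⁻¹) (by simp [rels])
    simpa using this
  · have := PresentedGroup.mk_eq_mk_of_mul_inv_mem (rels := rels) (x := fn * fc * fn⁻¹)
      (y := fc⁻¹) (by simp [rels])
    simpa using this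

theorem gen_PG :
    Subgroup.closure {pgen Gen.i, pgen Gen.j, pgen Gen.c, pgen Gen.n} = (⊤ : Subgroup PG) := by
  rw [← PresentedGroup.closure_range_of rels]
  congr 1
  ext x
  constructor
  · intro hx
    simp only [Set.mem_insert_iff, Set.mem_singleton_iff] at hx
    rcases hx with rfl | rfl | rfl | rfl
    · exact ⟨Gen.i, rfl⟩
    · exact ⟨Gen.j, rfl⟩
    · exact ⟨Gen.c, rfl⟩
    · exact ⟨Gen.n, rfl⟩
  · rintro ⟨g, rfl⟩
    cases g
    · exact Or.inl rfl
    · exact Or.inr (Or.inl rfl)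
    · exact Or.inr (Or.inr (Or.inl rfl))
    · exact Or.inr (Or.inr (Or.inr rfl))

instance : Finite PG := rel_PG.finite gen_PG

theorem card_PG_le : Nat.card PG ≤ 48 := rel_PG.card_le gen_PG

section Hom

variable {Y : Type*} [Group Y] {i j c n : Y}

/-- the assignment of generators -/
def genMap (i j c n : Y) : Gen → Y
  | Gen.i => i
  | Gen.j => j
  | Gen.c => c
  | Gen.n => n

theorem Rel.lift_rels (h : Rel i j c n) : ∀ r ∈ rels, FreeGroup.lift (genMap i j c n) r = 1 := by
  intro r hr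
  simp only [rels, Set.mem_insert_iff, Set.mem_singleton_iff] at hr
  rcases hr with rfl | rfl | rfl | rfl | rfl | rfl | rfl | rfl | rfl | rfl
  · simp [genMap, h.i4]
  · simp [genMap, h.j2]
  · simp only [map_mul, map_inv, FreeGroup.lift_apply_of, genMap, mul_inv_eq_one]
    exact h.ji
  · simp [genMap, h.c3]
  · simp [genMap, h.u2]
  · simp only [map_mul, map_inv, FreeGroup.lift_apply_of, genMap, mul_inv_eq_one]
    exact h.ci
  · simp only [map_mul, map_inv, FreeGroup.lift_apply_of, genMap, mul_inv_eq_one]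
    exact h.cj
  · simp only [map_mul, map_inv, FreeGroup.lift_apply_of, genMap, mul_inv_eq_one]
    exact h.ui
  · simp only [map_mul, map_inv, FreeGroup.lift_apply_of, genMap, mul_inv_eq_one]
    exact h.uj
  · simp only [map_mul, map_inv, FreeGroup.lift_apply_of, genMap, mul_inv_eq_one]
    exact h.uc

/-- the homomorphism from the presented group -/
def Rel.hom (h : Rel i j c n) : PG →* Y := PresentedGroup.toGroup h.lift_rels

theorem Rel.hom_gen (h : Rel i j c n) (g : Gen) : h.hom (pgen g) = genMap i j c n g :=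
  PresentedGroup.toGroup.of h.lift_rels

theorem Rel.hom_surjective (h : Rel i j c n) (hgen : Subgroup.closure {i, j, c, n} = ⊤) :
    Function.Surjective h.hom := by
  rw [← MonoidHom.range_eq_top, eq_top_iff, ← hgen, Subgroup.closure_le]
  intro x hx
  simp only [Set.mem_insert_iff, Set.mem_singleton_iff] at hx
  rcases hx with rfl | rfl | rfl | rfl
  · exact ⟨pgen Gen.i, h.hom_gen _⟩
  · exact ⟨pgen Gen.j, h.hom_gen _⟩
  · exact ⟨pgen Gen.c, h.hom_gen _⟩
  · exact ⟨pgen Gen.n, h.hom_gen _⟩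

theorem Rel.hom_bijective [Finite Y] (h : Rel i j c n)
    (hgen : Subgroup.closure {i, j, c, n} = ⊤) (hY : Nat.card Y = 48) :
    Function.Bijective h.hom :=
  (h.hom_surjective hgen).bijective_of_nat_card_le (by rw [hY]; exact card_PG_le)

end Hom

/-- matrices over the field with three elements -/
abbrev M3 : Type := Matrix (Fin 2) (Fin 2) (ZMod 3)

/-- the generator matrices -/
def mI : M3 := !![0, 1; 2, 0]
/-- the generator matrices -/
def mJ : M3 := !![1, 1; 1, 2]
/-- the generator matrices -/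
def mC : M3 := !![0, 1; 2, 2]
/-- the generator matrices -/
def mN : M3 := !![0, 1; 1, 0]

/-- the generators of `GL(2,3)` -/
def gI : GL (Fin 2) (ZMod 3) := ⟨mI, mI * mI * mI, by decide, by decide⟩
/-- the generators of `GL(2,3)` -/
def gJ : GL (Fin 2) (ZMod 3) := ⟨mJ, mJ * mJ * mJ, by decide, by decide⟩
/-- the generators of `GL(2,3)` -/
def gC : GL (Fin 2) (ZMod 3) := ⟨mC, mC * mC, by decide, by decide⟩
/-- the generators of `GL(2,3)` -/
def gN : GL (Fin 2) (ZMod 3) := ⟨mN, mN, by decide, by decide⟩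

theorem rel_GL : Rel gI gJ gC gN := by
  refine ⟨?_, ?_, ?_, ?_, ?_, ?_, ?_, ?_, ?_, ?_⟩
  · apply Units.ext
    show mI ^ 4 = 1
    decide
  · apply Units.ext
    show mJ ^ 2 = mI ^ 2
    decide
  · apply Units.ext
    show mJ * mI * (mJ * mJ * mJ) = mI * mI * mI
    decide
  · apply Units.ext
    show mC ^ 3 = 1
    decide
  · apply Units.ext
    show mN ^ 2 = 1
    decide
  · apply Units.ext
    show mC * mI * (mC * mC) = mJ
    decide
  · apply Units.ext
    show mC * mJ * (mC * mC) = mI * mJ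
    decide
  · apply Units.ext
    show mN * mI * mN = mI * mI * mI
    decide
  · rw [_root_.mul_inv_rev]
    apply Units.ext
    show mN * mJ * mN = (mJ * mJ * mJ) * (mI * mI * mI)
    decide
  · apply Units.ext
    show mN * mC * mN = mC * mC
    decide

theorem gI_sq_ne : gI ^ 2 ≠ 1 := by
  intro h
  have h' : mI ^ 2 = 1 := congrArg Units.val h
  revert h'
  decide

theorem card_GL23R : Nat.card (GL (Fin 2) (ZMod 3)) = 48 := by
  rw [Matrix.card_GL_field, ZMod.card, Fin.prod_univ_two]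
  norm_num

end Cfsg.Agent.H9.GL23R

namespace Cfsg.Agent.H1.RecGL23

open Cfsg.Agent.H9.GL23R

set_option linter.unusedVariables false in
theorem iso_of_relations {X : Type*} [Group X] [Finite X] (hX : Nat.card X = 48) (i j c n : X)
    (hi4 : i ^ 4 = 1) (hz : i ^ 2 ≠ 1) (hij : j ^ 2 = i ^ 2) (hji : j * i * j⁻¹ = i⁻¹)
    (hc3 : c ^ 3 = 1) (hci : c * i * c⁻¹ = j) (hcj : c * j * c⁻¹ = i * j) (hn2 : n ^ 2 = 1)
    (hnc : n * c * n⁻¹ = c⁻¹) (hni : n * i * n⁻¹ = i⁻¹) (hnj : n * j * n⁻¹ = (i * j)⁻¹)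
    (hgen : Subgroup.closure {i, j, c, n} = ⊤)
    (hmin : ∀ N : Subgroup X, N.Normal → N ≠ ⊥ → i ^ 2 ∈ N) :
    Nonempty (X ≃* GL (Fin 2) (ZMod 3)) := by
  have hR : Rel i j c n := ⟨hi4, hij, hji, hc3, hn2, hci, hcj, hni, hnj, hnc⟩
  let e : PG ≃* X := MulEquiv.ofBijective hR.hom (hR.hom_bijective hgen hX)
  let φ : X →* GL (Fin 2) (ZMod 3) := rel_GL.hom.comp e.symm.toMonoidHom
  have hφi : φ i = gI := by
    have : e.symm i = pgen Gen.i := by
      rw [MulEquiv.symm_apply_eq]
      exact (hR.hom_gen Gen.i).symm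
    show rel_GL.hom (e.symm i) = gI
    rw [this]
    exact rel_GL.hom_gen Gen.i
  have hinj : Function.Injective φ := by
    rw [← MonoidHom.ker_eq_bot_iff]
    by_contra hne
    have := hmin φ.ker inferInstance hne
    rw [MonoidHom.mem_ker, map_pow, hφi] at this
    exact gI_sq_ne this
  have : Finite (GL (Fin 2) (ZMod 3)) := Nat.finite_of_card_ne_zero (by rw [card_GL23R]; norm_num)
  have hbij : Function.Bijective φ :=
    hinj.bijective_of_nat_card_le (by rw [card_GL23R, hX])
  exact ⟨MulEquiv.ofBijective φ hbij⟩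

end Cfsg.Agent.H1.RecGL23
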