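import Mathlib

set_option autoImplicit false

/-! Class sizes as indices of centralisers; hyperbola counts over finite fields. -/

namespace Cfsg.Agent.H9.ClassSize

open Finset

theorem index_centralizer_eq_card_conj {G : Type*} [Group G] (g : G) :
    (Subgroup.centralizer ({g} : Set G)).index = Nat.card {h : G // IsConj g h} := by
  have h1 := MulAction.index_stabilizer (G := ConjAct G) (x := g)
  rw [ConjAct.orbit_eq_carrier_conjClasses, ConjAct.stabilizer_eq_centralizer] at h1
  have h2 : (Subgroup.centralizer ({ConjAct.toConjAct g} : Set (ConjAct G))).index =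
      (Subgroup.centralizer ({g} : Set G)).index := rfl
  rw [← h2, h1, ← Nat.card_coe_set_eq]
  apply Nat.card_congr
  refine Equiv.subtypeEquivRight (fun h => ?_)
  rw [ConjClasses.mem_carrier_iff_mk_eq, ConjClasses.mk_eq_mk_iff_isConj]
  exact ⟨IsConj.symm, IsConj.symm⟩

theorem index_centralizer_equiv {G H : Type*} [Group G] [Group H] (e : G ≃* H) (g : G) :
    (Subgroup.centralizer ({e g} : Set H)).index = (Subgroup.centralizer ({g} : Set G)).index := by
  rw [index_centralizer_eq_card_conj, index_centralizer_eq_card_conj]
  apply Nat.card_congr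
  refine (Equiv.subtypeEquiv e.toEquiv (fun h => ?_)).symm
  change IsConj g h ↔ IsConj (e g) (e h)
  constructor
  · intro hc
    exact MonoidHom.map_isConj e.toMonoidHom hc
  · intro hc
    have := MonoidHom.map_isConj e.symm.toMonoidHom hc
    simpa using this

section Hyperbola

variable {F : Type*} [Field F] [Fintype F] [DecidableEq F]

/-- the number of solutions of `b * c = m`. -/
theorem card_mul_eq (m : F) :
    (univ.filter (fun y : F × F => y.1 * y.2 = m)).card =
      (Fintype.card F - 1) + (if m = 0 then Fintype.card F else 0) := by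
  have h1 : (univ.filter (fun y : F × F => y.1 * y.2 = m)).card =
      ∑ b : F, (univ.filter (fun c : F => b * c = m)).card := by
    rw [card_filter, Fintype.sum_prod_type]
    refine sum_congr rfl (fun b _ => ?_)
    rw [card_filter]
  rw [h1, ← sum_erase_add _ _ (mem_univ (0 : F))]
  have h2 : ∀ b ∈ (univ : Finset F).erase 0, (univ.filter (fun c : F => b * c = m)).card = 1 := by
    intro b hb
    rw [mem_erase] at hb
    rw [card_eq_one]
    refine ⟨b⁻¹ * m, ?_⟩
    ext c
    rw [mem_filter, mem_singleton]
    constructor
    · rintro ⟨-, h⟩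
      rw [← h, ← mul_assoc, inv_mul_cancel₀ hb.1, one_mul]
    · rintro rfl
      refine ⟨mem_univ _, ?_⟩
      rw [← mul_assoc, mul_inv_cancel₀ hb.1, one_mul]
  rw [sum_congr rfl h2, sum_const, card_erase_of_mem (mem_univ _), card_univ, smul_eq_mul, mul_one]
  congr 1
  by_cases hm : m = 0
  · rw [if_pos hm, hm]
    have : univ.filter (fun c : F => (0 : F) * c = 0) = univ := by
      ext c
      simp
    rw [this, card_univ]
  · rw [if_neg hm]
    rw [card_eq_zero]
    ext c
    simp only [mem_filter, mem_univ, true_and, zero_mul, notMem_empty, iff_false]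
    exact fun h => hm h.symm

/-- the number of solutions of `a (t - a) - b c = 1`. -/
theorem card_trace_eq (t : F) :
    (univ.filter (fun x : F × F × F => x.1 * (t - x.1) - x.2.1 * x.2.2 = 1)).card =
      Fintype.card F * (Fintype.card F - 1) +
        Fintype.card F * (univ.filter (fun a : F => a * (t - a) = 1)).card := by
  have h1 : (univ.filter (fun x : F × F × F => x.1 * (t - x.1) - x.2.1 * x.2.2 = 1)).card =
      ∑ a : F, (univ.filter (fun y : F × F => y.1 * y.2 = a * (t - a) - 1)).card := by
    rw [card_filter, Fintype.sum_prod_type]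
    refine sum_congr rfl (fun a _ => ?_)
    rw [card_filter]
    refine sum_congr rfl (fun y _ => ?_)
    congr 1
    apply propext
    constructor
    · intro h
      rw [← h]; ring
    · intro h
      rw [h]; ring
  rw [h1]
  simp_rw [card_mul_eq]
  rw [sum_add_distrib, sum_const, card_univ, smul_eq_mul, ← sum_filter, sum_const, smul_eq_mul,
    mul_comm _ (Fintype.card F)]
  congr 3
  ext a
  simp only [mem_filter, mem_univ, true_and]
  exact sub_eq_zero

end Hyperbola

end Cfsg.Agent.H9.ClassSize
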