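import Mathlib

set_option autoImplicit false

/-! Basic matrix identities in `SL₂(F)` used for the determination of `Aut(PSL₂(F))`. -/

namespace Cfsg.Agent.H9.AutPSL2

variable {F : Type*} [Field F]

local notation "SL2" => Matrix.SpecialLinearGroup (Fin 2) F
local notation "PSL2" => Matrix.ProjectiveSpecialLinearGroup (Fin 2) F

theorem ext4 (g h : SL2) (h00 : g.1 0 0 = h.1 0 0) (h01 : g.1 0 1 = h.1 0 1)
    (h10 : g.1 1 0 = h.1 1 0) (h11 : g.1 1 1 = h.1 1 1) : g = h := by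
  apply Subtype.ext
  ext i j
  fin_cases i <;> fin_cases j <;> assumption

theorem det_eq (g : SL2) : g.1 0 0 * g.1 1 1 - g.1 0 1 * g.1 1 0 = 1 := by
  have := g.2
  rwa [Matrix.det_fin_two] at this

/-- upper unitriangular -/
def u (a : F) : SL2 := ⟨!![1, a; 0, 1], by rw [Matrix.det_fin_two_of]; ring⟩

/-- lower unitriangular -/
def l (a : F) : SL2 := ⟨!![1, 0; a, 1], by rw [Matrix.det_fin_two_of]; ring⟩

@[simp] theorem u_00 (a : F) : (u a).1 0 0 = 1 := rfl
@[simp] theorem u_01 (a : F) : (u a).1 0 1 = a := rfl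
@[simp] theorem u_10 (a : F) : (u a).1 1 0 = 0 := rfl
@[simp] theorem u_11 (a : F) : (u a).1 1 1 = 1 := rfl
@[simp] theorem l_00 (a : F) : (l a).1 0 0 = 1 := rfl
@[simp] theorem l_01 (a : F) : (l a).1 0 1 = 0 := rfl
@[simp] theorem l_10 (a : F) : (l a).1 1 0 = a := rfl
@[simp] theorem l_11 (a : F) : (l a).1 1 1 = 1 := rfl

theorem mul_00 (g h : SL2) : (g * h).1 0 0 = g.1 0 0 * h.1 0 0 + g.1 0 1 * h.1 1 0 := by
  simp [Matrix.mul_apply, Fin.sum_univ_two]
theorem mul_01 (g h : SL2) : (g * h).1 0 1 = g.1 0 0 * h.1 0 1 + g.1 0 1 * h.1 1 1 := by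
  simp [Matrix.mul_apply, Fin.sum_univ_two]
theorem mul_10 (g h : SL2) : (g * h).1 1 0 = g.1 1 0 * h.1 0 0 + g.1 1 1 * h.1 1 0 := by
  simp [Matrix.mul_apply, Fin.sum_univ_two]
theorem mul_11 (g h : SL2) : (g * h).1 1 1 = g.1 1 0 * h.1 0 1 + g.1 1 1 * h.1 1 1 := by
  simp [Matrix.mul_apply, Fin.sum_univ_two]

theorem inv_00 (g : SL2) : (g⁻¹).1 0 0 = g.1 1 1 := by
  simp [Matrix.SpecialLinearGroup.coe_inv, Matrix.adjugate_fin_two]
theorem inv_01 (g : SL2) : (g⁻¹).1 0 1 = - g.1 0 1 := by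
  simp [Matrix.SpecialLinearGroup.coe_inv, Matrix.adjugate_fin_two]
theorem inv_10 (g : SL2) : (g⁻¹).1 1 0 = - g.1 1 0 := by
  simp [Matrix.SpecialLinearGroup.coe_inv, Matrix.adjugate_fin_two]
theorem inv_11 (g : SL2) : (g⁻¹).1 1 1 = g.1 0 0 := by
  simp [Matrix.SpecialLinearGroup.coe_inv, Matrix.adjugate_fin_two]

theorem neg_00 (g : SL2) : (-g).1 0 0 = - g.1 0 0 := by simp
theorem neg_01 (g : SL2) : (-g).1 0 1 = - g.1 0 1 := by simp
theorem neg_10 (g : SL2) : (-g).1 1 0 = - g.1 1 0 := by simp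
theorem neg_11 (g : SL2) : (-g).1 1 1 = - g.1 1 1 := by simp

theorem u_add (a b : F) : u (a + b) = u a * u b := by
  apply ext4 <;> simp [mul_00, mul_01, mul_10, mul_11] <;> ring

theorem l_add (a b : F) : l (a + b) = l a * l b := by
  apply ext4 <;> simp [mul_00, mul_01, mul_10, mul_11] <;> ring

theorem u_zero : u (0 : F) = 1 := by
  apply ext4 <;> simp

theorem l_zero : l (0 : F) = 1 := by
  apply ext4 <;> simp

theorem u_inv (a : F) : (u a)⁻¹ = u (-a) := by
  apply ext4 <;> simp [inv_00, inv_01, inv_10, inv_11]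

theorem l_inv (a : F) : (l a)⁻¹ = l (-a) := by
  apply ext4 <;> simp [inv_00, inv_01, inv_10, inv_11]

theorem u_injective : Function.Injective (u : F → SL2) := by
  intro a b h
  have := congrArg (fun g : SL2 => g.1 0 1) h
  simpa using this

theorem l_injective : Function.Injective (l : F → SL2) := by
  intro a b h
  have := congrArg (fun g : SL2 => g.1 1 0) h
  simpa using this

/-- the element `u x * l y * u x` -/
theorem uyu_00 (x y : F) : (u x * l y * u x).1 0 0 = 1 + x * y := by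
  simp [mul_00, mul_01, mul_10, mul_11]
theorem uyu_01 (x y : F) : (u x * l y * u x).1 0 1 = x * (2 + x * y) := by
  simp [mul_00, mul_01, mul_10, mul_11]; ring
theorem uyu_10 (x y : F) : (u x * l y * u x).1 1 0 = y := by
  simp [mul_00, mul_01, mul_10, mul_11]
theorem uyu_11 (x y : F) : (u x * l y * u x).1 1 1 = 1 + x * y := by
  simp [mul_00, mul_01, mul_10, mul_11]; ring

/-- the monomial element `n t = u t * l (-t⁻¹) * u t = [[0, t], [-t⁻¹, 0]]`. -/
def n (t : F) : SL2 := u t * l (-t⁻¹) * u t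

theorem n_00 {t : F} (ht : t ≠ 0) : (n t).1 0 0 = 0 := by
  rw [n, uyu_00]; field_simp; ring
theorem n_01 {t : F} (ht : t ≠ 0) : (n t).1 0 1 = t := by
  rw [n, uyu_01]; field_simp; ring
theorem n_10 (t : F) : (n t).1 1 0 = -t⁻¹ := by
  rw [n, uyu_10]
theorem n_11 {t : F} (ht : t ≠ 0) : (n t).1 1 1 = 0 := by
  rw [n, uyu_11]; field_simp; ring

/-- `n t` conjugates `u a` to `l (-t⁻² a)`. -/
theorem n_mul_u {t : F} (ht : t ≠ 0) (a : F) : n t * u a = l (-(t⁻¹) ^ 2 * a) * n t := by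
  apply ext4 <;> simp only [mul_00, mul_01, mul_10, mul_11, n_00 ht, n_01 ht, n_10, n_11 ht,
    u_00, u_01, u_10, u_11, l_00, l_01, l_10, l_11] <;> field_simp <;> ring

/-- the diagonal element -/
def h (t : F) : SL2 := n t * (n 1)⁻¹

theorem h_00 {t : F} (ht : t ≠ 0) : (h t).1 0 0 = t := by
  simp [h, mul_00, inv_00, inv_10, n_00 ht, n_01 ht, n_10, n_11 one_ne_zero]
theorem h_01 {t : F} (ht : t ≠ 0) : (h t).1 0 1 = 0 := by
  simp [h, mul_01, inv_01, inv_11, n_00 ht, n_01 ht, n_00 one_ne_zero]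
theorem h_10 {t : F} (ht : t ≠ 0) : (h t).1 1 0 = 0 := by
  simp [h, mul_10, inv_00, inv_10, n_11 ht, n_11 one_ne_zero]
theorem h_11 {t : F} (ht : t ≠ 0) : (h t).1 1 1 = t⁻¹ := by
  simp [h, mul_11, inv_01, inv_11, n_11 ht, n_01 one_ne_zero, n_10]

theorem h_mul_u {t : F} (ht : t ≠ 0) (a : F) : h t * u a = u (t ^ 2 * a) * h t := by
  apply ext4 <;> simp only [mul_00, mul_01, mul_10, mul_11, h_00 ht, h_01 ht, h_10 ht, h_11 ht,
    u_00, u_01, u_10, u_11] <;> field_simp <;> ring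

/-- the element `diag(r, r⁻¹)`-conjugation formula, for a general `g` with these entries. -/
theorem diag_mul_u (g : SL2) (h01 : g.1 0 1 = 0) (h10 : g.1 1 0 = 0) (a : F) :
    g * u a = u ((g.1 0 0) ^ 2 * a) * g := by
  have hd := det_eq g
  rw [h01, zero_mul, sub_zero] at hd
  apply ext4 <;> simp only [mul_00, mul_01, mul_10, mul_11, h01, h10, u_00, u_01, u_10, u_11]
  · ring
  · linear_combination (- g.1 0 0 * a) * hd
  · ring
  · ring

/-- Decomposition of an element of `SL₂` with nonzero lower-left entry. -/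
theorem eq_ulu (g : SL2) (hc : g.1 1 0 ≠ 0) :
    g = u ((g.1 0 0 - 1) / g.1 1 0) * l (g.1 1 0) * u ((g.1 1 1 - 1) / g.1 1 0) := by
  have hd := det_eq g
  apply ext4 <;> simp only [mul_00, mul_01, mul_10, mul_11, u_00, u_01, u_10, u_11,
    l_00, l_01, l_10, l_11] <;> field_simp
  · ring
  · linear_combination (-1 : F) * hd
  · ring
  · ring

theorem mem_closure (g : SL2) :
    g ∈ Subgroup.closure (Set.range (u : F → SL2) ∪ Set.range (l : F → SL2)) := by
  have hu : ∀ a : F, u a ∈ Subgroup.closure (Set.range (u : F → SL2) ∪ Set.range (l : F → SL2)) :=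
    fun a => Subgroup.subset_closure (Or.inl ⟨a, rfl⟩)
  have hl : ∀ a : F, l a ∈ Subgroup.closure (Set.range (u : F → SL2) ∪ Set.range (l : F → SL2)) :=
    fun a => Subgroup.subset_closure (Or.inr ⟨a, rfl⟩)
  have key : ∀ g : SL2, g.1 1 0 ≠ 0 →
      g ∈ Subgroup.closure (Set.range (u : F → SL2) ∪ Set.range (l : F → SL2)) := by
    intro g hc
    rw [eq_ulu g hc]
    exact mul_mem (mul_mem (hu _) (hl _)) (hu _)
  by_cases hc : g.1 1 0 = 0
  · have h11 : g.1 1 1 ≠ 0 := by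
      intro h11
      have := det_eq g
      rw [hc, h11] at this
      simp at this
    have h1 : g * l 1 ∈ Subgroup.closure (Set.range (u : F → SL2) ∪ Set.range (l : F → SL2)) := by
      apply key
      rw [mul_10, hc]
      simpa using h11
    have : g = g * l 1 * (l 1)⁻¹ := by group
    rw [this]
    exact mul_mem h1 (inv_mem (hl _))
  · exact key g hc

/-- conjugating `u t` by a matrix with nonzero lower-left entry `c`. -/
theorem conj_u_of_ne (g : SL2) (hc : g.1 1 0 ≠ 0) (t : F) :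
    g * u t = u (g.1 0 0 / g.1 1 0) * l (-(g.1 1 0) ^ 2 * t) * (u (g.1 0 0 / g.1 1 0))⁻¹ * g := by
  have hd := det_eq g
  rw [u_inv]
  apply ext4 <;> simp only [mul_00, mul_01, mul_10, mul_11, u_00, u_01, u_10, u_11,
    l_00, l_01, l_10, l_11] <;> field_simp
  · ring
  · linear_combination (-(g.1 0 0) * t * g.1 1 0) * hd
  · ring
  · linear_combination (-(g.1 1 0) ^ 2 * t) * hd

/-- conjugating `u t` by an upper triangular matrix. -/
theorem conj_u_of_eq (g : SL2) (hc : g.1 1 0 = 0) (t : F) :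
    g * u t = u ((g.1 0 0) ^ 2 * t) * g := by
  have hd := det_eq g
  rw [hc, mul_zero, sub_zero] at hd
  apply ext4 <;> simp only [mul_00, mul_01, mul_10, mul_11, u_00, u_01, u_10, u_11, hc]
  · ring
  · linear_combination (- g.1 0 0 * t) * hd
  · ring
  · ring

end Cfsg.Agent.H9.AutPSL2
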