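import Mathlib
import Cfsg.Agent.H9.AutPSL2Basic

set_option autoImplicit false

/-! Field and diagonal automorphisms of `SL₂(F)` and their descent to `PSL₂(F)`. -/

namespace Cfsg.Agent.H9.AutPSL2

variable {F : Type*} [Field F]

local notation "SL2" => Matrix.SpecialLinearGroup (Fin 2) F
local notation "PSL2" => Matrix.ProjectiveSpecialLinearGroup (Fin 2) F

/-- the projection -/
def pr : SL2 →* PSL2 := QuotientGroup.mk' (Subgroup.center SL2)

theorem pr_surjective : Function.Surjective (pr : SL2 →* PSL2) :=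
  QuotientGroup.mk'_surjective _

theorem mem_center_iff' (z : SL2) : z ∈ Subgroup.center SL2 ↔ z = 1 ∨ z = -1 := by
  rw [Matrix.SpecialLinearGroup.mem_center_iff]
  constructor
  · rintro ⟨r, hr, hz⟩
    rw [Fintype.card_fin] at hr
    have hr' : r = 1 ∨ r = -1 := mul_self_eq_one_iff.mp (by rwa [← sq])
    rcases hr' with rfl | rfl
    · left
      apply Subtype.ext
      rw [← hz]
      simp
    · right
      apply Subtype.ext
      rw [← hz]
      ext i j
      by_cases hij : i = j <;> simp [hij, Matrix.diagonal_apply, Matrix.one_apply]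
  · rintro (rfl | rfl)
    · exact ⟨1, by simp, by simp⟩
    · refine ⟨-1, by simp, ?_⟩
      ext i j
      by_cases hij : i = j <;> simp [hij, Matrix.diagonal_apply, Matrix.one_apply]

theorem pr_eq_iff (x y : SL2) : pr x = pr y ↔ x = y ∨ x = -y := by
  unfold pr
  rw [QuotientGroup.mk'_apply, QuotientGroup.mk'_apply, QuotientGroup.eq, mem_center_iff']
  constructor
  · rintro (h | h)
    · left
      have : y = x := by
        have := congrArg (fun z => x * z) h
        simpa using this
      exact this.symm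
    · right
      have : y = x * (-1) := by
        have := congrArg (fun z => x * z) h
        simpa using this
      rw [this]
      simp
  · rintro (rfl | rfl)
    · left; simp
    · right; simp

/-- lifting an automorphism of `SL₂` to `PSL₂`. -/
noncomputable def lift (e : SL2 ≃* SL2) : MulAut PSL2 :=
  QuotientGroup.congr (Subgroup.center SL2) (Subgroup.center SL2) e
    (Subgroup.characteristic_iff_map_eq.mp inferInstance e)

theorem lift_pr (e : SL2 ≃* SL2) (g : SL2) : lift e (pr g) = pr (e g) := by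
  unfold lift pr
  exact QuotientGroup.congr_mk _ _ e _ g

/-- field automorphism -/
def fieldAut (σ : F ≃+* F) : SL2 ≃* SL2 where
  toFun := Matrix.SpecialLinearGroup.map (σ : F →+* F)
  invFun := Matrix.SpecialLinearGroup.map (σ.symm : F →+* F)
  left_inv g := by
    apply Subtype.ext
    ext i j
    simp [Matrix.SpecialLinearGroup.map_apply_coe]
  right_inv g := by
    apply Subtype.ext
    ext i j
    simp [Matrix.SpecialLinearGroup.map_apply_coe]
  map_mul' := map_mul _

theorem fieldAut_apply (σ : F ≃+* F) (g : SL2) (i j : Fin 2) :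
    (fieldAut σ g).1 i j = σ (g.1 i j) := by
  show (Matrix.SpecialLinearGroup.map (σ : F →+* F) g).1 i j = _
  simp [Matrix.SpecialLinearGroup.map_apply_coe]

theorem fieldAut_u (σ : F ≃+* F) (a : F) : fieldAut σ (u a) = u (σ a) := by
  apply ext4 <;> simp [fieldAut_apply]

theorem fieldAut_l (σ : F ≃+* F) (a : F) : fieldAut σ (l a) = l (σ a) := by
  apply ext4 <;> simp [fieldAut_apply]

theorem fieldAut_trace (σ : F ≃+* F) (g : SL2) :
    (fieldAut σ g).1.trace = σ g.1.trace := by
  simp [Matrix.trace_fin_two, fieldAut_apply]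

/-- diagonal automorphism: conjugation by `diag(c, 1)`, as a function -/
def deltaFun (c : Fˣ) (g : SL2) : SL2 :=
  ⟨!![g.1 0 0, c * g.1 0 1; (c⁻¹ : Fˣ) * g.1 1 0, g.1 1 1], by
    rw [Matrix.det_fin_two_of]
    have := det_eq g
    have hc : (c : F) * ((c⁻¹ : Fˣ) : F) = 1 := by simp
    linear_combination this - g.1 0 1 * g.1 1 0 * hc⟩

@[simp] theorem deltaFun_00 (c : Fˣ) (g : SL2) : (deltaFun c g).1 0 0 = g.1 0 0 := rfl
@[simp] theorem deltaFun_01 (c : Fˣ) (g : SL2) : (deltaFun c g).1 0 1 = c * g.1 0 1 := rfl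
@[simp] theorem deltaFun_10 (c : Fˣ) (g : SL2) :
    (deltaFun c g).1 1 0 = (c⁻¹ : Fˣ) * g.1 1 0 := rfl
@[simp] theorem deltaFun_11 (c : Fˣ) (g : SL2) : (deltaFun c g).1 1 1 = g.1 1 1 := rfl

theorem deltaFun_mul (c : Fˣ) (g h : SL2) :
    deltaFun c (g * h) = deltaFun c g * deltaFun c h := by
  have hc : (c : F) * ((c⁻¹ : Fˣ) : F) = 1 := by simp
  apply ext4 <;> simp only [mul_00, mul_01, mul_10, mul_11, deltaFun_00, deltaFun_01,
    deltaFun_10, deltaFun_11]
  · linear_combination (- g.1 0 1 * h.1 1 0) * hc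
  · ring
  · ring
  · linear_combination (- g.1 1 0 * h.1 0 1) * hc

theorem deltaFun_inv (c : Fˣ) (g : SL2) : deltaFun c⁻¹ (deltaFun c g) = g := by
  apply ext4 <;> simp

/-- diagonal automorphism: conjugation by `diag(c, 1)` -/
def delta (c : Fˣ) : SL2 ≃* SL2 where
  toFun := deltaFun c
  invFun := deltaFun c⁻¹
  left_inv g := deltaFun_inv c g
  right_inv g := by
    have := deltaFun_inv c⁻¹ g
    rwa [inv_inv] at this
  map_mul' := deltaFun_mul c

@[simp] theorem delta_00 (c : Fˣ) (g : SL2) : (delta c g).1 0 0 = g.1 0 0 := rfl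
@[simp] theorem delta_01 (c : Fˣ) (g : SL2) : (delta c g).1 0 1 = c * g.1 0 1 := rfl
@[simp] theorem delta_10 (c : Fˣ) (g : SL2) : (delta c g).1 1 0 = (c⁻¹ : Fˣ) * g.1 1 0 := rfl
@[simp] theorem delta_11 (c : Fˣ) (g : SL2) : (delta c g).1 1 1 = g.1 1 1 := rfl

theorem delta_u (c : Fˣ) (a : F) : delta c (u a) = u (c * a) := by
  apply ext4 <;> simp

theorem delta_l (c : Fˣ) (a : F) : delta c (l a) = l ((c⁻¹ : Fˣ) * a) := by
  apply ext4 <;> simp

theorem delta_trace (c : Fˣ) (g : SL2) : (delta c g).1.trace = g.1.trace := by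
  simp [Matrix.trace_fin_two]

theorem delta_mul (c d : Fˣ) (g : SL2) : delta (c * d) g = delta c (delta d g) := by
  apply ext4 <;> simp [mul_assoc, mul_comm]

/-- `delta (d²)` is conjugation by `diag(d, d⁻¹)`. -/
theorem delta_sq (d : Fˣ) (g : SL2) :
    delta (d ^ 2) g = h (d : F) * g * (h (d : F))⁻¹ := by
  have hd : (d : F) ≠ 0 := d.ne_zero
  apply ext4 <;> simp only [delta_00, delta_01, delta_10, delta_11, mul_00, mul_01, mul_10,
    mul_11, inv_00, inv_01, inv_10, inv_11, h_00 hd, h_01 hd, h_10 hd, h_11 hd] <;>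
    simp <;> field_simp

end Cfsg.Agent.H9.AutPSL2
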