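import Mathlib
import Cfsg.Agent.H9.AutPSL2Maps

set_option autoImplicit false

/-! An automorphism of `PSL₂(F)` stabilising the upper and lower unipotent subgroups is the
product of a diagonal and a field automorphism. -/

namespace Cfsg.Agent.H9.AutPSL2

variable {F : Type*} [Field F]

local notation "SL2" => Matrix.SpecialLinearGroup (Fin 2) F
local notation "PSL2" => Matrix.ProjectiveSpecialLinearGroup (Fin 2) F

theorem pr_u_injective : Function.Injective (fun a : F => pr (u a)) := by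
  intro a b hab
  rcases (pr_eq_iff _ _).mp hab with h | h
  · exact u_injective h
  · have h00 := congrArg (fun g : SL2 => g.1 0 0) h
    have h01 := congrArg (fun g : SL2 => g.1 0 1) h
    simp only [u_00, u_01, neg_00, neg_01] at h00 h01
    rw [h01, neg_eq_neg_one_mul, ← h00, one_mul]

theorem pr_l_injective : Function.Injective (fun a : F => pr (l a)) := by
  intro a b hab
  rcases (pr_eq_iff _ _).mp hab with h | h
  · exact l_injective h
  · have h00 := congrArg (fun g : SL2 => g.1 0 0) h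
    have h10 := congrArg (fun g : SL2 => g.1 1 0) h
    simp only [l_00, l_10, neg_00, neg_10] at h00 h10
    rw [h10, neg_eq_neg_one_mul, ← h00, one_mul]

theorem exists_sq_add_sq [Fintype F] (x : F) : ∃ a b : F, x = a ^ 2 + b ^ 2 := by
  by_cases h2 : ringChar F = 2
  · obtain ⟨a, ha⟩ := FiniteField.isSquare_of_char_two h2 x
    exact ⟨a, 0, by rw [ha]; ring⟩
  · have hodd := FiniteField.odd_card_of_char_ne_two h2
    obtain ⟨a, b, hab⟩ := FiniteField.exists_root_sum_quadratic
      (f := (Polynomial.X : Polynomial F) ^ 2) (g := Polynomial.X ^ 2 - Polynomial.C x)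
      (Polynomial.degree_X_pow 2) (Polynomial.degree_X_pow_sub_C (by norm_num) x) hodd
    refine ⟨a, b, ?_⟩
    simp only [Polynomial.eval_pow, Polynomial.eval_X, Polynomial.eval_sub, Polynomial.eval_C]
      at hab
    linear_combination (-1 : F) * hab

theorem conj_u_01 (m : SL2) (s : F) : (m * u s * m⁻¹).1 0 1 = (m.1 0 0) ^ 2 * s := by
  rw [mul_01, mul_00, mul_01, inv_01, inv_11]
  simp only [u_00, u_01, u_10, u_11]
  ring

section core

variable [Fintype F]

/-- the data: an automorphism stabilising the upper and lower unipotent subgroups -/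
structure Data (α : MulAut PSL2) (σ τ : F → F) : Prop where
  hσ : ∀ a, α (pr (u a)) = pr (u (σ a))
  hτ : ∀ a, α (pr (l a)) = pr (l (τ a))



theorem sigma_add {α : MulAut PSL2} {σ τ : F → F} (D : Data α σ τ) (a b : F) : σ (a + b) = σ a + σ b := by
  apply pr_u_injective
  show pr (u (σ (a + b))) = pr (u (σ a + σ b))
  rw [← D.hσ, u_add, map_mul, map_mul, D.hσ, D.hσ, u_add, map_mul]

theorem sigma_injective {α : MulAut PSL2} {σ τ : F → F} (D : Data α σ τ) : Function.Injective σ := by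
  intro a b hab
  apply pr_u_injective
  apply α.injective
  show α (pr (u a)) = α (pr (u b))
  rw [D.hσ, D.hσ, hab]

theorem sigma_zero {α : MulAut PSL2} {σ τ : F → F} (D : Data α σ τ) : σ 0 = 0 := by
  have := sigma_add D 0 0
  rw [add_zero] at this
  exact left_eq_add.mp this

theorem sigma_ne_zero {α : MulAut PSL2} {σ τ : F → F} (D : Data α σ τ) {t : F} (ht : t ≠ 0) : σ t ≠ 0 := by
  intro h
  apply ht
  apply sigma_injective D
  rw [h, sigma_zero D]

theorem tau_zero {α : MulAut PSL2} {σ τ : F → F} (D : Data α σ τ) : τ 0 = 0 := by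
  apply pr_l_injective
  show pr (l (τ 0)) = pr (l 0)
  rw [← D.hτ, l_zero, map_one, map_one]

/-- the key relation between `σ` and `τ`. -/
theorem key_rel {α : MulAut PSL2} {σ τ : F → F} (D : Data α σ τ) {t : F} (ht : t ≠ 0) : 1 + σ t * τ (-t⁻¹) = 0 := by
  set x := σ t with hx
  set y := τ (-t⁻¹) with hy
  set m : SL2 := u x * l y * u x with hm
  have h1 : α (pr (n t)) = pr m := by
    rw [n, map_mul, map_mul, map_mul, map_mul, D.hσ, D.hτ, ← map_mul, ← map_mul]
  have h2 : n t * u 1 * (n t)⁻¹ = l (-(t⁻¹) ^ 2 * 1) := by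
    rw [n_mul_u ht]; group
  have h3' : α (pr (n t * u 1 * (n t)⁻¹)) = pr (m * u (σ 1) * m⁻¹) := by
    simp only [map_mul, map_inv, h1, D.hσ]
  have h3 : pr (m * u (σ 1) * m⁻¹) = pr (l (τ (-(t⁻¹) ^ 2 * 1))) := by
    rw [← h3', h2, D.hτ]
  have h4 : (m * u (σ 1) * m⁻¹).1 0 1 = 0 := by
    rcases (pr_eq_iff _ _).mp h3 with h | h
    · rw [h]; simp
    · rw [h, neg_01]; simp
  rw [conj_u_01] at h4
  have h5 : (m.1 0 0) ^ 2 * σ 1 = 0 := h4
  have h6 : m.1 0 0 = 0 := by
    rcases mul_eq_zero.mp h5 with h | h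
    · exact pow_eq_zero_iff (two_ne_zero) |>.mp h
    · exact absurd h (sigma_ne_zero D one_ne_zero)
  rw [hm, uyu_00] at h6
  exact h6

theorem tau_eq {α : MulAut PSL2} {σ τ : F → F} (D : Data α σ τ) {t : F} (ht : t ≠ 0) : τ (-t⁻¹) = -(σ t)⁻¹ := by
  have h := key_rel D ht
  have hx := sigma_ne_zero D ht
  have h' : σ t * τ (-t⁻¹) = -1 := by linear_combination h
  calc τ (-t⁻¹) = (σ t)⁻¹ * (σ t * τ (-t⁻¹)) := by
        rw [← mul_assoc, inv_mul_cancel₀ hx, one_mul]
    _ = -(σ t)⁻¹ := by rw [h']; ring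

theorem alpha_n {α : MulAut PSL2} {σ τ : F → F} (D : Data α σ τ) {t : F} (ht : t ≠ 0) : α (pr (n t)) = pr (n (σ t)) := by
  rw [n, map_mul, map_mul, map_mul, map_mul, D.hσ, D.hτ, tau_eq D ht, ← map_mul, ← map_mul, n]

/-- the semi-multiplicativity of `σ`. -/
theorem sigma_sq_mul {α : MulAut PSL2} {σ τ : F → F} (D : Data α σ τ) {t : F} (ht : t ≠ 0) (a : F) :
    σ (t ^ 2 * a) = (σ t / σ 1) ^ 2 * σ a := by
  have hx := sigma_ne_zero D ht
  have hs := sigma_ne_zero D (one_ne_zero (α := F))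
  set k : SL2 := n (σ t) * (n (σ 1))⁻¹ with hk
  have h1 : α (pr (h t)) = pr k := by
    rw [h, map_mul, map_mul, map_inv, map_inv, alpha_n D ht,
      alpha_n D one_ne_zero, ← map_inv, ← map_mul]
  have k00 : k.1 0 0 = σ t / σ 1 := by
    rw [hk, mul_00, inv_00, inv_10, n_00 hx, n_01 hx, n_10, n_11 hs]
    field_simp <;> ring
  have k01 : k.1 0 1 = 0 := by
    rw [hk, mul_01, inv_01, inv_11, n_00 hx, n_00 hs]
    ring
  have k10 : k.1 1 0 = 0 := by
    rw [hk, mul_10, inv_00, inv_10, n_11 hx, n_11 hs]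
    ring
  have h2 := diag_mul_u k k01 k10 (σ a)
  have h3 : pr (u (σ (t ^ 2 * a))) * pr k = pr (u ((k.1 0 0) ^ 2 * σ a)) * pr k := by
    rw [← D.hσ, ← h1, ← map_mul, ← map_mul, ← h_mul_u ht, map_mul, map_mul, h1, D.hσ, ← map_mul,
      ← map_mul, h2]
  have h4 := mul_right_cancel h3
  have h5 := pr_u_injective h4
  rw [h5, k00]

theorem exists_ringEquiv {α : MulAut PSL2} {σ τ : F → F} (D : Data α σ τ) :
    ∃ ρ : F ≃+* F, ∀ a, σ a = σ 1 * ρ a := by
  have hs := sigma_ne_zero D (one_ne_zero (α := F))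
  set r : F → F := fun a => σ a / σ 1 with hr
  have r1 : r 1 = 1 := by simp only [hr]; exact div_self hs
  have radd : ∀ a b, r (a + b) = r a + r b := by
    intro a b
    simp only [hr]
    rw [sigma_add D, add_div]
  have r0 : r 0 = 0 := by simp only [hr]; rw [sigma_zero D, zero_div]
  have hsq : ∀ t a, r (t ^ 2 * a) = (r t) ^ 2 * r a := by
    intro t a
    by_cases ht : t = 0
    · subst ht
      rw [r0]
      simp [r0]
    · simp only [hr]
      rw [sigma_sq_mul D ht]
      ring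
  have hsq1 : ∀ t, r (t ^ 2) = (r t) ^ 2 := by
    intro t
    have := hsq t 1
    rwa [mul_one, r1, mul_one] at this
  have rmul : ∀ x a, r (x * a) = r x * r a := by
    intro x a
    obtain ⟨c, d, rfl⟩ := exists_sq_add_sq x
    rw [add_mul, radd, hsq, hsq, radd, hsq1, hsq1]
    ring
  have rinj : Function.Injective r := by
    intro a b hab
    simp only [hr] at hab
    apply sigma_injective D
    field_simp at hab
    exact hab
  have rbij : Function.Bijective r := Finite.injective_iff_bijective.mp rinj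
  let f : F →+* F :=
    { toFun := r, map_one' := r1, map_mul' := rmul, map_zero' := r0, map_add' := radd }
  refine ⟨RingEquiv.ofBijective f rbij, fun a => ?_⟩
  show σ a = σ 1 * (σ a / σ 1)
  field_simp

theorem tau_eq_of_ringEquiv {α : MulAut PSL2} {σ τ : F → F} (D : Data α σ τ)
    (ρ : F ≃+* F) (hρ : ∀ a, σ a = σ 1 * ρ a) (a : F) : τ a = (σ 1)⁻¹ * ρ a := by
  have hs := sigma_ne_zero D (one_ne_zero (α := F))
  by_cases ha : a = 0
  · subst ha
    rw [tau_zero D, map_zero, mul_zero]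
  · have ht : -a⁻¹ ≠ 0 := neg_ne_zero.mpr (inv_ne_zero ha)
    have h := tau_eq D ht
    have e1 : -(-a⁻¹)⁻¹ = a := by
      rw [inv_neg, inv_inv, neg_neg]
    rw [e1, hρ, map_neg, map_inv₀] at h
    rw [h]
    have hρa : ρ a ≠ 0 := by
      intro h0
      apply ha
      exact (map_eq_zero_iff ρ ρ.injective).mp h0
    field_simp

/-- Main theorem of this file. -/
theorem eq_delta_field {α : MulAut PSL2} {σ τ : F → F} (D : Data α σ τ) :
    ∃ (c : Fˣ) (ρ : F ≃+* F), α = lift (delta c) * lift (fieldAut ρ) := by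
  have hs := sigma_ne_zero D (one_ne_zero (α := F))
  obtain ⟨ρ, hρ⟩ := exists_ringEquiv D
  have hτ := tau_eq_of_ringEquiv D ρ hρ
  refine ⟨Units.mk0 (σ 1) hs, ρ, ?_⟩
  set β : MulAut PSL2 := lift (delta (Units.mk0 (σ 1) hs)) * lift (fieldAut ρ) with hβ
  have hcl : Subgroup.closure (Set.range (u : F → SL2) ∪ Set.range (l : F → SL2)) = ⊤ :=
    (Subgroup.eq_top_iff' _).mpr mem_closure
  have key : (α.toMonoidHom).comp pr = (β.toMonoidHom).comp pr := by
    apply MonoidHom.eq_of_eqOn_dense hcl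
    rintro g (⟨a, rfl⟩ | ⟨a, rfl⟩)
    · show α (pr (u a)) = β (pr (u a))
      rw [hβ, MulAut.mul_apply, lift_pr, fieldAut_u, lift_pr, delta_u, D.hσ, hρ]
      rfl
    · show α (pr (l a)) = β (pr (l a))
      rw [hβ, MulAut.mul_apply, lift_pr, fieldAut_l, lift_pr, delta_l, D.hτ, hτ]
      congr 2
  ext x
  obtain ⟨g, rfl⟩ := pr_surjective x
  exact DFunLike.congr_fun key g

end core

end Cfsg.Agent.H9.AutPSL2
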