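import Mathlib

set_option autoImplicit false

/-! General lemmas on Klein four subgroups and counting. -/

namespace Cfsg.Agent.H9.KleinGeneral

section closure

variable {G : Type*} [Group G]

/-- the subgroup generated by two commuting involutions -/
theorem mem_closure_pair_iff (a b : G) (ha : a * a = 1) (hb : b * b = 1) (hab : a * b = b * a)
    (x : G) : x ∈ Subgroup.closure ({a, b} : Set G) ↔ x = 1 ∨ x = a ∨ x = b ∨ x = a * b := by
  have hba : b * a = a * b := hab.symm
  have ha' : ∀ y : G, a * (a * y) = y := fun y => by rw [← mul_assoc, ha, one_mul]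
  have hb' : ∀ y : G, b * (b * y) = y := fun y => by rw [← mul_assoc, hb, one_mul]
  have hba' : ∀ y : G, b * (a * y) = a * (b * y) := fun y => by
    rw [← mul_assoc, hba, mul_assoc]
  have hai : a⁻¹ = a := inv_eq_of_mul_eq_one_left ha
  have hbi : b⁻¹ = b := inv_eq_of_mul_eq_one_left hb
  constructor
  · intro hx
    induction hx using Subgroup.closure_induction with
    | mem y hy =>
      rcases hy with rfl | rfl
      · right; left; rfl
      · right; right; left; rfl
    | one => left; rfl
    | mul y z _ _ hy hz =>
      rcases hy with rfl | rfl | rfl | rfl <;> rcases hz with rfl | rfl | rfl | rfl <;>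
        simp only [mul_assoc, ha, hb, hba, ha', hb', hba', mul_one, one_mul, true_or, or_true]
    | inv y _ hy =>
      rcases hy with rfl | rfl | rfl | rfl
      · left; simp
      · right; left; exact hai
      · right; right; left; exact hbi
      · right; right; right
        rw [mul_inv_rev, hai, hbi, hba]
  · rintro (rfl | rfl | rfl | rfl)
    · exact Subgroup.one_mem _
    · exact Subgroup.subset_closure (by simp)
    · exact Subgroup.subset_closure (by simp)
    · exact Subgroup.mul_mem _ (Subgroup.subset_closure (by simp)) (Subgroup.subset_closure (by simp))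

end closure

section klein

variable {G : Type*} [Group G]

/-- the subgroup generated by two distinct commuting involutions is a Klein four group -/
theorem isKleinFour_closure_pair (a b : G) (ha : a * a = 1) (hb : b * b = 1) (hab : a * b = b * a)
    (ha1 : a ≠ 1) (hb1 : b ≠ 1) (hne : a ≠ b) :
    IsKleinFour (Subgroup.closure ({a, b} : Set G)) := by
  classical
  have hai : a⁻¹ = a := inv_eq_of_mul_eq_one_left ha
  have hbi : b⁻¹ = b := inv_eq_of_mul_eq_one_left hb
  have hset : ((Subgroup.closure ({a, b} : Set G) : Subgroup G) : Set G) =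
      (({1, a, b, a * b} : Finset G) : Set G) := by
    ext x
    rw [SetLike.mem_coe, mem_closure_pair_iff a b ha hb hab]
    simp
  have hab1 : a * b ≠ 1 := by
    intro h
    apply hne
    rw [← hbi]
    exact eq_inv_of_mul_eq_one_left h
  have haba : a * b ≠ a := by
    intro h
    apply hb1
    exact mul_eq_left.mp h
  have habb : a * b ≠ b := by
    intro h
    apply ha1
    exact mul_eq_right.mp h
  constructor
  · have : Nat.card (Subgroup.closure ({a, b} : Set G)) =
        Nat.card ((Subgroup.closure ({a, b} : Set G) : Subgroup G) : Set G) := rfl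
    rw [this, hset, Nat.card_coe_set_eq, Set.ncard_coe_finset]
    rw [Finset.card_insert_of_notMem, Finset.card_insert_of_notMem, Finset.card_insert_of_notMem,
      Finset.card_singleton]
    · simp only [Finset.mem_singleton]
      exact fun h => habb h.symm
    · simp only [Finset.mem_insert, Finset.mem_singleton, not_or]
      exact ⟨hne, fun h => haba h.symm⟩
    · simp only [Finset.mem_insert, Finset.mem_singleton, not_or]
      exact ⟨fun h => ha1 h.symm, fun h => hb1 h.symm, fun h => hab1 h.symm⟩
  · apply Nat.dvd_antisymm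
    · apply Monoid.exponent_dvd_of_forall_pow_eq_one
      rintro ⟨x, hx⟩
      apply Subtype.ext
      rw [mem_closure_pair_iff a b ha hb hab] at hx
      show x ^ 2 = 1
      rw [pow_two]
      rcases hx with rfl | rfl | rfl | rfl
      · simp
      · exact ha
      · exact hb
      · calc a * b * (a * b) = a * (b * a) * b := by group
          _ = a * (a * b) * b := by rw [hab]
          _ = (a * a) * (b * b) := by group
          _ = 1 := by rw [ha, hb, one_mul]
    · have hmem : a ∈ Subgroup.closure ({a, b} : Set G) := Subgroup.subset_closure (by simp)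
      have h2 : (⟨a, hmem⟩ : Subgroup.closure ({a, b} : Set G)) ^ 2 = 1 := by
        apply Subtype.ext
        show a ^ 2 = 1
        rw [pow_two, ha]
      have hord : orderOf (⟨a, hmem⟩ : Subgroup.closure ({a, b} : Set G)) = 2 := by
        apply orderOf_eq_prime h2
        intro h
        exact ha1 (congrArg Subtype.val h)
      rw [← hord]
      exact Monoid.order_dvd_exponent _

/-- elements of a Klein four subgroup -/
theorem klein_elems (V : Subgroup G) [hV : IsKleinFour V] (a b : G) (haV : a ∈ V) (hbV : b ∈ V)
    (ha1 : a ≠ 1) (hb1 : b ≠ 1) (hne : a ≠ b) :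
    a * a = 1 ∧ b * b = 1 ∧ a * b = b * a ∧
      ∀ x, x ∈ V ↔ x = 1 ∨ x = a ∨ x = b ∨ x = a * b := by
  have haa : a * a = 1 := congrArg Subtype.val (IsKleinFour.mul_self (⟨a, haV⟩ : V))
  have hbb : b * b = 1 := congrArg Subtype.val (IsKleinFour.mul_self (⟨b, hbV⟩ : V))
  have hab : a * b = b * a := by
    haveI := IsKleinFour.isMulCommutative (G := V)
    have := mul_comm' (⟨a, haV⟩ : V) ⟨b, hbV⟩
    exact congrArg Subtype.val this
  refine ⟨haa, hbb, hab, fun x => ⟨fun hx => ?_, ?_⟩⟩
  · by_contra hcon
    push Not at hcon
    obtain ⟨h1, h2, h3, h4⟩ := hcon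
    apply h4
    have := IsKleinFour.eq_mul_of_ne_all (G := V) (x := ⟨a, haV⟩) (y := ⟨b, hbV⟩) (z := ⟨x, hx⟩)
      (fun h => ha1 (congrArg Subtype.val h)) (fun h => hb1 (congrArg Subtype.val h))
      (fun h => hne (congrArg Subtype.val h)) (fun h => h1 (congrArg Subtype.val h))
      (fun h => h2 (congrArg Subtype.val h)) (fun h => h3 (congrArg Subtype.val h))
    exact congrArg Subtype.val this
  · rintro (rfl | rfl | rfl | rfl)
    · exact V.one_mem
    · exact haV
    · exact hbV
    · exact V.mul_mem haV hbV

/-- a Klein four subgroup is generated by any two distinct nonidentity elements -/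
theorem klein_eq_closure (V : Subgroup G) [hV : IsKleinFour V] (a b : G) (haV : a ∈ V)
    (hbV : b ∈ V) (ha1 : a ≠ 1) (hb1 : b ≠ 1) (hne : a ≠ b) :
    Subgroup.closure ({a, b} : Set G) = V := by
  obtain ⟨haa, hbb, hab, hmem⟩ := klein_elems V a b haV hbV ha1 hb1 hne
  ext x
  rw [mem_closure_pair_iff a b haa hbb hab, hmem]

end klein

section counting

/-- counting pairs fibrewise -/
theorem card_pairs {α β : Type*} [Finite α] [Finite β] (A : α → Prop) (B : α → β → Prop)
    (n m : ℕ) (hA : Nat.card {x // A x} = n) (hB : ∀ x, A x → Nat.card {y // B x y} = m) :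
    Nat.card {p : α × β // A p.1 ∧ B p.1 p.2} = n * m := by
  classical
  have e : {p : α × β // A p.1 ∧ B p.1 p.2} ≃ Σ x : {x // A x}, {y // B x.1 y} :=
    { toFun := fun p => ⟨⟨p.1.1, p.2.1⟩, ⟨p.1.2, p.2.2⟩⟩
      invFun := fun s => ⟨(s.1.1, s.2.1), s.1.2, s.2.2⟩
      left_inv := fun p => rfl
      right_inv := fun s => rfl }
  rw [Nat.card_congr e]
  haveI : Fintype {x // A x} := Fintype.ofFinite _
  rw [Nat.card_sigma]
  rw [Finset.sum_congr rfl (fun x _ => hB x.1 x.2), Finset.sum_const, Finset.card_univ,
    ← Nat.card_eq_fintype_card, hA, smul_eq_mul]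

/-- counting preimages under a surjective homomorphism -/
theorem card_preimage {G H : Type*} [Group G] [Group H] [Finite G] (f : G →* H)
    (hf : Function.Surjective f) (T : Set H) :
    Nat.card {x : G // f x ∈ T} = Nat.card T * Nat.card f.ker := by
  classical
  haveI : Finite H := Finite.of_surjective f hf
  let φ : {x : G // f x ∈ T} → T := fun x => ⟨f x.1, x.2⟩
  rw [← Nat.card_congr (Equiv.sigmaFiberEquiv φ)]
  haveI : Fintype T := Fintype.ofFinite _
  rw [Nat.card_sigma]
  have hfib : ∀ t : T, Nat.card {x : {x : G // f x ∈ T} // φ x = t} = Nat.card f.ker := by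
    intro t
    obtain ⟨x0, hx0⟩ := hf t.1
    apply Nat.card_congr
    refine
      { toFun := fun x => ⟨x0⁻¹ * x.1.1, ?_⟩
        invFun := fun k => ⟨⟨x0 * k.1, ?_⟩, ?_⟩
        left_inv := ?_
        right_inv := ?_ }
    · rw [MonoidHom.mem_ker, map_mul, map_inv, hx0]
      have := congrArg Subtype.val x.2
      simp only [φ] at this
      rw [this, inv_mul_cancel]
    · rw [map_mul, MonoidHom.mem_ker.1 k.2, mul_one, hx0]
      exact t.2
    · apply Subtype.ext
      simp only [φ]
      rw [map_mul, MonoidHom.mem_ker.1 k.2, mul_one, hx0]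
    · intro x
      apply Subtype.ext
      apply Subtype.ext
      simp
    · intro k
      apply Subtype.ext
      simp
  rw [Finset.sum_congr rfl (fun t _ => hfib t), Finset.sum_const, Finset.card_univ,
    ← Nat.card_eq_fintype_card, smul_eq_mul]

end counting

end Cfsg.Agent.H9.KleinGeneral
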