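import Mathlib
import Cfsg.Agent.H9.Hurwitz

set_option autoImplicit false

namespace Cfsg.Agent.H9.Hurwitz2

open Matrix

variable {F : Type*} [Field F]

local notation "SL2" => Matrix.SpecialLinearGroup (Fin 2) F

open Cfsg.Agent.H9.Hurwitz (trace_zero_of_sq)

theorem exists_hurwitz_trace (h2 : (2 : F) ≠ 0) (t w : SL2) (ht : t.1 * t.1 = -1) (hw : w.1 * w.1 = -1)
    (htw : t.1 * w.1 = -(w.1 * t.1)) :
    ∃ h : SL2, h * t = t * w * h ∧ h * w = t * h ∧ h.1.trace = -1 := by
  have hdt := t.2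
  have hdw := w.2
  rw [Matrix.det_fin_two] at hdt hdw
  have tt := trace_zero_of_sq h2 t ht
  have ww := trace_zero_of_sq h2 w hw
  have e00 := congrFun (congrFun htw 0) 0
  simp only [Matrix.mul_apply, Fin.sum_univ_two, Matrix.neg_apply, Fin.isValue] at e00
  rw [tt] at hdt
  rw [ww] at hdw
  set a := t.1 0 0 with ha
  set b := t.1 0 1 with hb
  set c := t.1 1 0 with hc
  set e := w.1 0 0 with he
  set f := w.1 0 1 with hf
  set g := w.1 1 0 with hg
  have hT : t.1 = !![a, b; c, -a] := by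
    rw [Matrix.eta_fin_two t.1, tt]
  have hW : w.1 = !![e, f; g, -e] := by
    rw [Matrix.eta_fin_two w.1, ww]
  have hrel : 2 * a * e + b * g + c * f = 0 := by
    linear_combination e00
  have h2' : (2 : F)⁻¹ * 2 = 1 := inv_mul_cancel₀ h2
  set i2 := (2 : F)⁻¹ with hi2
  refine ⟨⟨!![i2 * (-1 + a + e + (a * e + b * g)), i2 * (b + f + (a * f - b * e));
      i2 * (c + g + (c * e - a * g)), i2 * (-1 - a - e + (c * f + a * e))], ?_⟩, ?_, ?_, ?_⟩
  · rw [Matrix.det_fin_two_of]
    grind
  · apply Subtype.ext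
    change _ * t.1 = t.1 * w.1 * _
    rw [hT, hW]
    ext i j
    fin_cases i <;> fin_cases j <;>
      simp only [Matrix.mul_apply, Fin.sum_univ_two, Matrix.of_apply, Matrix.cons_val', Matrix.cons_val_zero,
        Matrix.cons_val_one, Matrix.cons_val_fin_one, Fin.zero_eta, Fin.mk_one, Fin.isValue] <;> grind
  · apply Subtype.ext
    change _ * w.1 = t.1 * _
    rw [hT, hW]
    ext i j
    fin_cases i <;> fin_cases j <;>
      simp only [Matrix.mul_apply, Fin.sum_univ_two, Matrix.of_apply, Matrix.cons_val', Matrix.cons_val_zero,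
        Matrix.cons_val_one, Matrix.cons_val_fin_one, Fin.zero_eta, Fin.mk_one, Fin.isValue] <;> grind
  · rw [Matrix.trace_fin_two_of]
    grind

end Cfsg.Agent.H9.Hurwitz2
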