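import Mathlib

set_option autoImplicit false

/-! Quaternion subgroups of `GL₂(F)`, `char F ≠ 2`. -/

namespace Cfsg.Agent.H9.Q8GL2

open Matrix QuaternionGroup

theorem q8_rel :
    (a 1 : QuaternionGroup 2) * a 1 = a 2 ∧ (xa 0 : QuaternionGroup 2) * xa 0 = a 2 ∧
    (a 2 : QuaternionGroup 2) * a 2 = 1 ∧ (a 2 : QuaternionGroup 2) ≠ 1 ∧
    (xa 0 : QuaternionGroup 2) * a 1 = a 2 * (a 1 * xa 0) ∧
    (a 1 : QuaternionGroup 2) * xa 0 ≠ xa 0 * a 1 ∧
    (a 2 : QuaternionGroup 2) * a 1 = a 1 * a 2 ∧ (a 2 : QuaternionGroup 2) * xa 0 = xa 0 * a 2 := by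
  decide

theorem q8_closure : Subgroup.closure {(a 1 : QuaternionGroup 2), xa 0} = ⊤ := by
  rw [eq_top_iff]
  intro g _
  have h1 : (a 1 : QuaternionGroup 2) ∈ Subgroup.closure {(a 1 : QuaternionGroup 2), xa 0} :=
    Subgroup.subset_closure (by simp)
  have h2 : (xa 0 : QuaternionGroup 2) ∈ Subgroup.closure {(a 1 : QuaternionGroup 2), xa 0} :=
    Subgroup.subset_closure (by simp)
  have ha : ∀ i : ZMod (2 * 2), (a i : QuaternionGroup 2) ∈
      Subgroup.closure {(a 1 : QuaternionGroup 2), xa 0} := by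
    intro i
    have : (a i : QuaternionGroup 2) = a 1 ^ i.val := by
      rw [a_one_pow, ZMod.natCast_zmod_val]
    rw [this]
    exact Subgroup.pow_mem _ h1 _
  rcases g with i | i
  · exact ha i
  · have : (xa i : QuaternionGroup 2) = xa 0 * a i := by rw [xa_mul_a, zero_add]
    rw [this]
    exact Subgroup.mul_mem _ h2 (ha i)

variable {F : Type*} [Field F]

theorem cayley_hamilton (M : Matrix (Fin 2) (Fin 2) F) :
    M * M = M.trace • M - M.det • (1 : Matrix (Fin 2) (Fin 2) F) := by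
  rw [Matrix.eta_fin_two M]
  ext i j
  fin_cases i <;> fin_cases j <;>
    simp [Matrix.mul_apply, Fin.sum_univ_two, Matrix.trace_fin_two, Matrix.det_fin_two] <;> ring

/-- an abstract quaternion pair of invertible matrices consists of trace zero, determinant one
matrices with square `-1` which anticommute -/
theorem quaternion_pair (h2 : (2 : F) ≠ 0) (I J Z : Matrix (Fin 2) (Fin 2) F)
    (hII : I * I = Z) (hJJ : J * J = Z) (hZZ : Z * Z = 1) (hZ1 : Z ≠ 1)
    (hJI : J * I = Z * (I * J)) (hne : I * J ≠ J * I) (hZJ : Z * J = J * Z) (hZI : Z * I = I * Z) :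
    Z = -1 ∧ I.det = 1 ∧ J.det = 1 ∧ I * I = -1 ∧ J * J = -1 ∧ I * J = -(J * I) := by
  have key : ∀ A B : Matrix (Fin 2) (Fin 2) F, A * A = Z → A * B ≠ B * A → Z * B = B * Z →
      A.trace = 0 ∧ Z = -A.det • (1 : Matrix (Fin 2) (Fin 2) F) := by
    intro A B hAA hAB hZB
    have hch := cayley_hamilton A
    rw [hAA] at hch
    have htr : A.trace = 0 := by
      by_contra htr
      apply hAB
      have hA : A = (A.trace)⁻¹ • (Z + A.det • (1 : Matrix (Fin 2) (Fin 2) F)) := by
        rw [hch]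
        rw [sub_add_cancel, smul_smul, inv_mul_cancel₀ htr, one_smul]
      rw [hA, Matrix.smul_mul, Matrix.mul_smul, Matrix.add_mul, Matrix.mul_add, hZB,
        Matrix.smul_mul, Matrix.mul_smul, Matrix.one_mul, Matrix.mul_one]
    refine ⟨htr, ?_⟩
    rw [hch, htr, zero_smul, zero_sub, neg_smul]
  obtain ⟨htI, hZI'⟩ := key I J hII hne hZJ
  obtain ⟨htJ, hZJ'⟩ := key J I hJJ (fun h => hne h.symm) hZI
  have hdet : ∀ d : F, Z = -d • (1 : Matrix (Fin 2) (Fin 2) F) → d = 1 := by
    intro d hd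
    have h1 : d * d = 1 := by
      have := hZZ
      rw [hd] at this
      have h00 := congrFun (congrFun this 0) 0
      simp at h00
      exact h00
    have h3 : (d - 1) * (d + 1) = 0 := by linear_combination h1
    rcases mul_eq_zero.1 h3 with h | h
    · linear_combination h
    · exfalso
      apply hZ1
      have : d = -1 := by linear_combination h
      rw [hd, this]
      simp
  have hdI := hdet _ hZI'
  have hdJ := hdet _ hZJ'
  have hZ : Z = -1 := by rw [hZI', hdI]; simp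
  refine ⟨hZ, hdI, hdJ, by rw [hII, hZ], by rw [hJJ, hZ], ?_⟩
  rw [hJI, hZ]
  simp

/-- a quaternion subgroup of `GL₂(F)` is generated by two elements of `SL₂(F)` with square `-1`
which anticommute -/
theorem exists_pair (h2 : (2 : F) ≠ 0) (R : Subgroup (GL (Fin 2) F))
    (e : ↥R ≃* QuaternionGroup 2) :
    ∃ t w : Matrix.SpecialLinearGroup (Fin 2) F,
      Matrix.SpecialLinearGroup.toGL t ∈ R ∧ Matrix.SpecialLinearGroup.toGL w ∈ R ∧
      R = Subgroup.closure {Matrix.SpecialLinearGroup.toGL t, Matrix.SpecialLinearGroup.toGL w} ∧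
      t.1 * t.1 = -1 ∧ w.1 * w.1 = -1 ∧ t.1 * w.1 = -(w.1 * t.1) := by
  obtain ⟨r1, r2, r3, r4, r5, r6, r7, r8⟩ := q8_rel
  set I' : ↥R := e.symm (a 1) with hI'
  set J' : ↥R := e.symm (xa 0) with hJ'
  set Z' : ↥R := e.symm (a 2) with hZ'
  have s1 : I' * I' = Z' := by rw [hI', hZ', ← map_mul, r1]
  have s2 : J' * J' = Z' := by rw [hJ', hZ', ← map_mul, r2]
  have s3 : Z' * Z' = 1 := by rw [hZ', ← map_mul, r3, map_one]
  have s4 : Z' ≠ 1 := by
    intro h
    apply r4
    have := congrArg e h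
    rwa [hZ', MulEquiv.apply_symm_apply, map_one] at this
  have s5 : J' * I' = Z' * (I' * J') := by
    rw [hI', hJ', hZ', ← map_mul, ← map_mul, ← map_mul, r5]
  have s6 : I' * J' ≠ J' * I' := by
    intro h
    apply r6
    have := congrArg e h
    rwa [hI', hJ', map_mul, map_mul, MulEquiv.apply_symm_apply, MulEquiv.apply_symm_apply] at this
  have s7 : Z' * I' = I' * Z' := by rw [hI', hZ', ← map_mul, ← map_mul, r7]
  have s8 : Z' * J' = J' * Z' := by rw [hJ', hZ', ← map_mul, ← map_mul, r8]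
  -- matrices
  set Im : Matrix (Fin 2) (Fin 2) F := ((I' : GL (Fin 2) F) : Matrix (Fin 2) (Fin 2) F) with hIm
  set Jm : Matrix (Fin 2) (Fin 2) F := ((J' : GL (Fin 2) F) : Matrix (Fin 2) (Fin 2) F) with hJm
  set Zm : Matrix (Fin 2) (Fin 2) F := ((Z' : GL (Fin 2) F) : Matrix (Fin 2) (Fin 2) F) with hZm
  have toM : ∀ {x y : ↥R}, x = y → ((x : GL (Fin 2) F) : Matrix (Fin 2) (Fin 2) F)
      = ((y : GL (Fin 2) F) : Matrix (Fin 2) (Fin 2) F) := fun h => by rw [h]
  have ofM : ∀ {x y : ↥R}, ((x : GL (Fin 2) F) : Matrix (Fin 2) (Fin 2) F)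
      = ((y : GL (Fin 2) F) : Matrix (Fin 2) (Fin 2) F) → x = y :=
    fun h => Subtype.ext (Units.ext h)
  have m1 : Im * Im = Zm := by
    have := toM s1
    simpa using this
  have m2 : Jm * Jm = Zm := by
    have := toM s2
    simpa using this
  have m3 : Zm * Zm = 1 := by
    have := toM s3
    simpa using this
  have m4 : Zm ≠ 1 := by
    intro h
    apply s4
    apply ofM
    rw [← hZm, h]
    simp
  have m5 : Jm * Im = Zm * (Im * Jm) := by
    have := toM s5
    simpa using this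
  have m6 : Im * Jm ≠ Jm * Im := by
    intro h
    apply s6
    apply ofM
    have e1 : (((I' * J' : ↥R) : GL (Fin 2) F) : Matrix (Fin 2) (Fin 2) F) = Im * Jm := by
      rw [Subgroup.coe_mul, Units.val_mul]
    have e2 : (((J' * I' : ↥R) : GL (Fin 2) F) : Matrix (Fin 2) (Fin 2) F) = Jm * Im := by
      rw [Subgroup.coe_mul, Units.val_mul]
    rw [e1, e2, h]
  have m7 : Zm * Im = Im * Zm := by
    have := toM s7
    simpa using this
  have m8 : Zm * Jm = Jm * Zm := by
    have := toM s8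
    simpa using this
  obtain ⟨hZ, hdI, hdJ, hII, hJJ, hIJ⟩ := quaternion_pair h2 Im Jm Zm m1 m2 m3 m4 m5 m6 m8 m7
  set t : Matrix.SpecialLinearGroup (Fin 2) F := ⟨Im, hdI⟩ with ht
  set w : Matrix.SpecialLinearGroup (Fin 2) F := ⟨Jm, hdJ⟩ with hw
  have htI : Matrix.SpecialLinearGroup.toGL t = (I' : GL (Fin 2) F) := by
    apply Units.ext
    rfl
  have hwJ : Matrix.SpecialLinearGroup.toGL w = (J' : GL (Fin 2) F) := by
    apply Units.ext
    rfl
  refine ⟨t, w, by rw [htI]; exact I'.2, by rw [hwJ]; exact J'.2, ?_, hII, hJJ, hIJ⟩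
  rw [htI, hwJ]
  -- generation
  have hc : Subgroup.closure {I', J'} = (⊤ : Subgroup ↥R) := by
    have h1 := congrArg (Subgroup.map e.symm.toMonoidHom) q8_closure
    rw [MonoidHom.map_closure, ← MonoidHom.range_eq_map, MonoidHom.range_eq_top.2 e.symm.surjective,
      Set.image_pair] at h1
    exact h1
  have h3 := congrArg (Subgroup.map R.subtype) hc
  rw [MonoidHom.map_closure, ← MonoidHom.range_eq_map, Subgroup.range_subtype, Set.image_pair] at h3
  exact h3.symm

end Cfsg.Agent.H9.Q8GL2
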