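import Mathlib

set_option autoImplicit false

/-! Non-scalar `2 × 2` matrices are conjugate to the companion matrix of their characteristic
polynomial; a counting lemma for conjugacy classes. -/

namespace Cfsg.Agent.H9.Mat2

open Matrix

/-- counting conjugacy classes through a complete invariant -/
theorem card_conjClasses_eq {G T : Type*} [Group G] (Ψ : G → T)
    (h1 : ∀ g h, IsConj g h ↔ Ψ g = Ψ h) (h2 : Function.Surjective Ψ) :
    Nat.card (ConjClasses G) = Nat.card T := by
  let f : ConjClasses G → T := Quotient.lift Ψ (fun a b hab => (h1 a b).1 hab)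
  have hf : ∀ g, f (ConjClasses.mk g) = Ψ g := fun g => rfl
  refine Nat.card_congr (Equiv.ofBijective f ⟨?_, ?_⟩)
  · intro c c' h
    obtain ⟨g, rfl⟩ := ConjClasses.mk_surjective c
    obtain ⟨g', rfl⟩ := ConjClasses.mk_surjective c'
    rw [hf, hf] at h
    exact ConjClasses.mk_eq_mk_iff_isConj.2 ((h1 g g').2 h)
  · intro t
    obtain ⟨g, rfl⟩ := h2 t
    exact ⟨ConjClasses.mk g, hf g⟩

variable {F : Type*} [Field F]

/-- companion matrix of `X² - tX + d` -/
def comp (t d : F) : Matrix (Fin 2) (Fin 2) F := !![0, -d; 1, t]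

theorem trace_comp (t d : F) : (comp t d).trace = t := by
  simp [comp, Matrix.trace_fin_two]

theorem det_comp (t d : F) : (comp t d).det = d := by
  simp [comp, Matrix.det_fin_two]

theorem comp_not_scalar (t d : F) : ¬ ∃ a : F, comp t d = a • (1 : Matrix (Fin 2) (Fin 2) F) := by
  rintro ⟨a, h⟩
  have := congrFun (congrFun h 1) 0
  simp [comp] at this

theorem exists_conj_comp (A : Matrix (Fin 2) (Fin 2) F)
    (hA : ¬ ∃ a : F, A = a • (1 : Matrix (Fin 2) (Fin 2) F)) :
    ∃ P : GL (Fin 2) F, A * (P : Matrix (Fin 2) (Fin 2) F) =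
      (P : Matrix (Fin 2) (Fin 2) F) * comp A.trace A.det := by
  obtain ⟨a, b, c, d, rfl⟩ : ∃ a b c d : F, A = !![a, b; c, d] :=
    ⟨A 0 0, A 0 1, A 1 0, A 1 1, Matrix.eta_fin_two A⟩
  by_cases hc : c = 0
  · by_cases hb : b = 0
    · subst hc hb
      have had : a ≠ d := by
        intro h
        apply hA
        refine ⟨a, ?_⟩
        subst h
        ext i j
        fin_cases i <;> fin_cases j <;> simp
      have hdet : (!![1, a; 1, d] : Matrix (Fin 2) (Fin 2) F).det ≠ 0 := by
        rw [Matrix.det_fin_two_of]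
        intro h
        apply had
        linear_combination -h
      refine ⟨Matrix.GeneralLinearGroup.mkOfDetNeZero _ hdet, ?_⟩
      change !![a, 0; 0, d] * !![1, a; 1, d] = !![1, a; 1, d] * comp _ _
      rw [Matrix.trace_fin_two_of, Matrix.det_fin_two_of]
      unfold comp
      ext i j
      fin_cases i <;> fin_cases j <;> simp [Matrix.mul_apply, Fin.sum_univ_two] <;> ring
    · subst hc
      have hdet : (!![0, b; 1, d] : Matrix (Fin 2) (Fin 2) F).det ≠ 0 := by
        rw [Matrix.det_fin_two_of]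
        intro h
        apply hb
        linear_combination -h
      refine ⟨Matrix.GeneralLinearGroup.mkOfDetNeZero _ hdet, ?_⟩
      change !![a, b; 0, d] * !![0, b; 1, d] = !![0, b; 1, d] * comp _ _
      rw [Matrix.trace_fin_two_of, Matrix.det_fin_two_of]
      unfold comp
      ext i j
      fin_cases i <;> fin_cases j <;> simp [Matrix.mul_apply, Fin.sum_univ_two] <;> ring
  · have hdet : (!![1, a; 0, c] : Matrix (Fin 2) (Fin 2) F).det ≠ 0 := by
      rw [Matrix.det_fin_two_of]
      intro h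
      apply hc
      linear_combination h
    refine ⟨Matrix.GeneralLinearGroup.mkOfDetNeZero _ hdet, ?_⟩
    change !![a, b; c, d] * !![1, a; 0, c] = !![1, a; 0, c] * comp _ _
    rw [Matrix.trace_fin_two_of, Matrix.det_fin_two_of]
    unfold comp
    ext i j
    fin_cases i <;> fin_cases j <;> simp [Matrix.mul_apply, Fin.sum_univ_two] <;> ring

/-- non-scalar `2 × 2` matrices with the same trace and determinant are conjugate under `GL₂`. -/
theorem exists_conj (A B : Matrix (Fin 2) (Fin 2) F)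
    (hA : ¬ ∃ a : F, A = a • (1 : Matrix (Fin 2) (Fin 2) F))
    (hB : ¬ ∃ a : F, B = a • (1 : Matrix (Fin 2) (Fin 2) F))
    (ht : A.trace = B.trace) (hd : A.det = B.det) :
    ∃ P : GL (Fin 2) F, (P : Matrix (Fin 2) (Fin 2) F) * A = B * (P : Matrix (Fin 2) (Fin 2) F) := by
  obtain ⟨P, hP⟩ := exists_conj_comp A hA
  obtain ⟨Q, hQ⟩ := exists_conj_comp B hB
  rw [← ht, ← hd] at hQ
  refine ⟨Q * P⁻¹, ?_⟩
  have h1 : (P : Matrix (Fin 2) (Fin 2) F) * ((P⁻¹ : GL (Fin 2) F) : Matrix (Fin 2) (Fin 2) F) = 1 := by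
    rw [← Units.val_mul, mul_inv_cancel, Units.val_one]
  have h2 : ((P⁻¹ : GL (Fin 2) F) : Matrix (Fin 2) (Fin 2) F) * (P : Matrix (Fin 2) (Fin 2) F) = 1 := by
    rw [← Units.val_mul, inv_mul_cancel, Units.val_one]
  have h3 : ((P⁻¹ : GL (Fin 2) F) : Matrix (Fin 2) (Fin 2) F) * A =
      comp A.trace A.det * ((P⁻¹ : GL (Fin 2) F) : Matrix (Fin 2) (Fin 2) F) := by
    calc ((P⁻¹ : GL (Fin 2) F) : Matrix (Fin 2) (Fin 2) F) * A
        = ((P⁻¹ : GL (Fin 2) F) : Matrix (Fin 2) (Fin 2) F) * (A * (P : Matrix (Fin 2) (Fin 2) F)) *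
          ((P⁻¹ : GL (Fin 2) F) : Matrix (Fin 2) (Fin 2) F) := by
          rw [Matrix.mul_assoc, Matrix.mul_assoc, h1, Matrix.mul_one]
      _ = comp A.trace A.det * ((P⁻¹ : GL (Fin 2) F) : Matrix (Fin 2) (Fin 2) F) := by
          rw [hP, ← Matrix.mul_assoc, h2, Matrix.one_mul]
  rw [Units.val_mul, Matrix.mul_assoc, h3, ← Matrix.mul_assoc, ← hQ, Matrix.mul_assoc]

end Cfsg.Agent.H9.Mat2
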