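import Mathlib
import Cfsg.Agent.H9.Mat2

set_option autoImplicit false

/-! Conjugacy in `SL₂(q)`, `q` odd: the unipotent-type classes and the regular semisimple ones. -/

namespace Cfsg.Agent.H9.SL2OddCls

open Matrix

section Unip

variable {F : Type*} [Field F]

local notation "SL2" => Matrix.SpecialLinearGroup (Fin 2) F

/-- `ε (1 + b E₁₂)` with `ε² = 1` -/
def U (ε : F) (hε : ε * ε = 1) (b : F) : SL2 :=
  ⟨!![ε, b; 0, ε], by rw [Matrix.det_fin_two_of, mul_zero, sub_zero, hε]⟩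

theorem coe_U (ε : F) (hε : ε * ε = 1) (b : F) :
    ((U ε hε b : SL2) : Matrix (Fin 2) (Fin 2) F) = !![ε, b; 0, ε] := rfl

/-- diagonal element -/
def D (e : F) (he : e ≠ 0) : SL2 :=
  ⟨!![e, 0; 0, e⁻¹], by rw [Matrix.det_fin_two_of, mul_zero, sub_zero, mul_inv_cancel₀ he]⟩

theorem coe_D (e : F) (he : e ≠ 0) :
    ((D e he : SL2) : Matrix (Fin 2) (Fin 2) F) = !![e, 0; 0, e⁻¹] := rfl

theorem isConj_of_mul_eq {g h c : SL2}
    (hc : (c : Matrix (Fin 2) (Fin 2) F) * (g : Matrix (Fin 2) (Fin 2) F) =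
      (h : Matrix (Fin 2) (Fin 2) F) * (c : Matrix (Fin 2) (Fin 2) F)) : IsConj g h := by
  rw [isConj_iff]
  refine ⟨c, ?_⟩
  rw [mul_inv_eq_iff_eq_mul]
  apply Subtype.ext
  rw [Matrix.SpecialLinearGroup.coe_mul, Matrix.SpecialLinearGroup.coe_mul]
  exact hc

theorem U_conj_of_isSquare (ε : F) (hε : ε * ε = 1) {b b' : F} (hb : b ≠ 0) (hb' : b' ≠ 0)
    (h : IsSquare (b * b')) : IsConj (U ε hε b) (U ε hε b') := by
  obtain ⟨s, hs⟩ := h
  have hs0 : s ≠ 0 := by
    rintro rfl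
    rw [mul_zero] at hs
    rcases mul_eq_zero.1 hs with h1 | h1
    · exact hb h1
    · exact hb' h1
  have he : s / b ≠ 0 := div_ne_zero hs0 hb
  apply isConj_of_mul_eq (c := D (s / b) he)
  rw [coe_D, coe_U, coe_U]
  ext i j
  fin_cases i <;> fin_cases j <;> simp [Matrix.mul_apply, Fin.sum_univ_two]
  · ring
  · field_simp
    linear_combination -hs
  · field_simp

theorem isSquare_of_U_conj (ε : F) (hε : ε * ε = 1) {b b' : F} (hb : b ≠ 0) (hb' : b' ≠ 0)
    (h : IsConj (U ε hε b) (U ε hε b')) : IsSquare (b * b') := by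
  rw [isConj_iff] at h
  obtain ⟨c, hc⟩ := h
  rw [mul_inv_eq_iff_eq_mul] at hc
  have hc' := congrArg (fun A : SL2 => (A : Matrix (Fin 2) (Fin 2) F)) hc
  simp only [Matrix.SpecialLinearGroup.coe_mul, coe_U] at hc'
  obtain ⟨x, y, z, w, hcm⟩ : ∃ x y z w : F, (c : Matrix (Fin 2) (Fin 2) F) = !![x, y; z, w] :=
    ⟨_, _, _, _, Matrix.eta_fin_two _⟩
  have hdet := c.2
  rw [hcm, Matrix.det_fin_two_of] at hdet
  rw [hcm] at hc'
  have h00 := congrFun (congrFun hc' 0) 0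
  have h01 := congrFun (congrFun hc' 0) 1
  simp [Matrix.mul_apply, Fin.sum_univ_two] at h00 h01
  have hz : z = 0 := by
    have h1 : b' * z = 0 := by linear_combination -h00
    rcases mul_eq_zero.1 h1 with h2 | h2
    · exact absurd h2 hb'
    · exact h2
  rw [hz, mul_zero, sub_zero] at hdet
  refine ⟨b * x, ?_⟩
  have h2 : x * b = b' * w := by linear_combination h01
  calc b * b' = b * b' * (x * w) := by rw [hdet, mul_one]
    _ = b * x * (b' * w) := by ring
    _ = b * x * (b * x) := by rw [← h2]; ring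

theorem exists_conj_U (ε : F) (hε : ε * ε = 1) (g : SL2)
    (hns : ¬ ∃ a : F, (g : Matrix (Fin 2) (Fin 2) F) = a • (1 : Matrix (Fin 2) (Fin 2) F))
    (ht : (g : Matrix (Fin 2) (Fin 2) F).trace = 2 * ε) :
    ∃ b : F, b ≠ 0 ∧ IsConj g (U ε hε b) := by
  obtain ⟨a, b₀, c, d, hgm⟩ : ∃ a b₀ c d : F, (g : Matrix (Fin 2) (Fin 2) F) = !![a, b₀; c, d] :=
    ⟨_, _, _, _, Matrix.eta_fin_two _⟩
  have hdet := g.2
  rw [hgm, Matrix.det_fin_two_of] at hdet
  rw [hgm, Matrix.trace_fin_two_of] at ht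
  by_cases hc : c = 0
  · subst hc
    rw [mul_zero, sub_zero] at hdet
    have h1 : (a - ε) * (a - ε) = 0 := by linear_combination a * ht + hε - hdet
    have ha : a = ε := sub_eq_zero.1 (mul_self_eq_zero.1 h1)
    have hd : d = ε := by linear_combination ht - ha
    subst ha
    have hb₀ : b₀ ≠ 0 := by
      rintro rfl
      apply hns
      refine ⟨a, ?_⟩
      rw [hgm, hd]
      ext i j
      fin_cases i <;> fin_cases j <;> simp
    refine ⟨b₀, hb₀, ?_⟩
    have : g = U a hε b₀ := by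
      apply Subtype.ext
      rw [hgm, coe_U, hd]
    rw [this]
  · have hc' : c ≠ 0 := hc
    refine ⟨-c, neg_ne_zero.2 hc, ?_⟩
    have hPdet : (!![0, -1; 1, -(a - ε) / c] : Matrix (Fin 2) (Fin 2) F).det = 1 := by
      rw [Matrix.det_fin_two_of]; ring
    apply isConj_of_mul_eq (c := ⟨!![0, -1; 1, -(a - ε) / c], hPdet⟩)
    rw [coe_U, hgm]
    change !![0, -1; 1, -(a - ε) / c] * !![a, b₀; c, d] =
      !![ε, -c; 0, ε] * !![0, -1; 1, -(a - ε) / c]
    ext i j
    fin_cases i <;> fin_cases j <;> simp [Matrix.mul_apply, Fin.sum_univ_two]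
    · have hcc : c * c⁻¹ = 1 := mul_inv_cancel₀ hc'
      linear_combination -ht + (ε - a) * hcc
    · have hcc : c * c⁻¹ = 1 := mul_inv_cancel₀ hc'
      linear_combination (ε - a) * hcc
    · field_simp
      linear_combination -hdet + ε * ht + hε

end Unip

section Regular

variable {F : Type*} [Field F] [Fintype F]

local notation "SL2" => Matrix.SpecialLinearGroup (Fin 2) F

open Polynomial in
/-- the norm form `x² + t x y + y²` with `t² ≠ 4` is universal. -/
theorem exists_norm_eq (hodd : Fintype.card F % 2 = 1) (t : F) (ht : t ^ 2 ≠ 4) (μ : F) :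
    ∃ x y : F, x ^ 2 + t * x * y + y ^ 2 = μ := by
  have h2 : (2 : F) ≠ 0 := by
    apply Ring.two_ne_zero
    intro h
    have := FiniteField.even_card_iff_char_two.1 h
    omega
  have h4 : (4 : F) ≠ 0 := by
    have : (4 : F) = 2 * 2 := by norm_num
    rw [this]
    exact mul_ne_zero h2 h2
  set κ : F := (4 - t ^ 2) / 4 with hκ
  have hκ0 : κ ≠ 0 := by
    rw [hκ]
    apply div_ne_zero _ h4
    intro h
    apply ht
    linear_combination -h
  have hf : (X ^ 2 : F[X]).degree = 2 := by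
    rw [degree_X_pow]; rfl
  have hg : (C κ * X ^ 2 - C μ : F[X]).degree = 2 := by
    rw [degree_sub_C (by rw [degree_C_mul_X_pow 2 hκ0]; norm_num), degree_C_mul_X_pow 2 hκ0]
    rfl
  obtain ⟨a, b, hab⟩ := FiniteField.exists_root_sum_quadratic hf hg hodd
  simp only [eval_pow, eval_X, eval_sub, eval_mul, eval_C] at hab
  refine ⟨a - t * b / 2, b, ?_⟩
  rw [hκ] at hab
  field_simp
  field_simp at hab
  linear_combination hab

theorem det_lin (h : SL2) (x y : F) :
    (x • (1 : Matrix (Fin 2) (Fin 2) F) + y • (h : Matrix (Fin 2) (Fin 2) F)).det =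
      x ^ 2 + (h : Matrix (Fin 2) (Fin 2) F).trace * x * y + y ^ 2 := by
  obtain ⟨a, b, c, d, hm⟩ : ∃ a b c d : F, (h : Matrix (Fin 2) (Fin 2) F) = !![a, b; c, d] :=
    ⟨_, _, _, _, Matrix.eta_fin_two _⟩
  have hdet := h.2
  rw [hm, Matrix.det_fin_two_of] at hdet
  rw [hm, Matrix.trace_fin_two_of, Matrix.det_fin_two]
  simp [Matrix.add_apply, Matrix.smul_apply, Matrix.one_apply]
  linear_combination y ^ 2 * hdet

/-- non-scalar elements of `SL₂(q)` with the same trace `t`, `t² ≠ 4`, are conjugate. -/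
theorem isConj_of_trace_eq (hodd : Fintype.card F % 2 = 1) (g h : SL2)
    (hg : ¬ ∃ a : F, (g : Matrix (Fin 2) (Fin 2) F) = a • (1 : Matrix (Fin 2) (Fin 2) F))
    (hh : ¬ ∃ a : F, (h : Matrix (Fin 2) (Fin 2) F) = a • (1 : Matrix (Fin 2) (Fin 2) F))
    (ht : (g : Matrix (Fin 2) (Fin 2) F).trace = (h : Matrix (Fin 2) (Fin 2) F).trace)
    (hreg : (h : Matrix (Fin 2) (Fin 2) F).trace ^ 2 ≠ 4) : IsConj g h := by
  obtain ⟨P, hP⟩ := Cfsg.Agent.H9.Mat2.exists_conj _ _ hg hh ht (by rw [g.2, h.2])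
  have hPdet : (P : Matrix (Fin 2) (Fin 2) F).det ≠ 0 := (Matrix.isUnits_det_units P).ne_zero
  obtain ⟨x, y, hxy⟩ := exists_norm_eq hodd _ hreg ((P : Matrix (Fin 2) (Fin 2) F).det)⁻¹
  set c : Matrix (Fin 2) (Fin 2) F := x • 1 + y • (h : Matrix (Fin 2) (Fin 2) F) with hc
  have hcdet : c.det = ((P : Matrix (Fin 2) (Fin 2) F).det)⁻¹ := by
    rw [hc, det_lin, hxy]
  have hcomm : c * (h : Matrix (Fin 2) (Fin 2) F) = (h : Matrix (Fin 2) (Fin 2) F) * c := by
    rw [hc, Matrix.add_mul, Matrix.mul_add, Matrix.smul_mul, Matrix.mul_smul, Matrix.smul_mul,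
      Matrix.mul_smul, Matrix.one_mul, Matrix.mul_one]
  have hdet1 : (c * (P : Matrix (Fin 2) (Fin 2) F)).det = 1 := by
    rw [Matrix.det_mul, hcdet, inv_mul_cancel₀ hPdet]
  apply Cfsg.Agent.H9.SL2OddCls.isConj_of_mul_eq (c := ⟨c * (P : Matrix (Fin 2) (Fin 2) F), hdet1⟩)
  change c * (P : Matrix (Fin 2) (Fin 2) F) * (g : Matrix (Fin 2) (Fin 2) F) =
    (h : Matrix (Fin 2) (Fin 2) F) * (c * (P : Matrix (Fin 2) (Fin 2) F))
  rw [Matrix.mul_assoc, hP, ← Matrix.mul_assoc, hcomm, Matrix.mul_assoc]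

end Regular

end Cfsg.Agent.H9.SL2OddCls
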