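import Mathlib
import Cfsg.Prelude.Def_GeometricClasses
import Cfsg.Agent.H9.Q8GL2
import Cfsg.Agent.H9.Hurwitz2
import Cfsg.Agent.H9.SL2OddCls

set_option autoImplicit false

/-! The normalizer of a quaternion subgroup of `GL₂(F)` and elements of order `2` and `3`. -/

namespace Cfsg.Agent.H9.Q8Norm

open Matrix Cfsg

variable {F : Type*} [Field F]

local notation "SL2" => Matrix.SpecialLinearGroup (Fin 2) F
local notation "SLs" => Cfsg.Geo.specialLinear (Fin 2) F

theorem mem_SLs (X : GL (Fin 2) F) : X ∈ SLs ↔ (X : Matrix (Fin 2) (Fin 2) F).det = 1 := by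
  unfold Cfsg.Geo.specialLinear
  rw [MonoidHom.mem_ker]
  constructor
  · intro h
    have := congrArg Units.val h
    rwa [Matrix.GeneralLinearGroup.val_det_apply] at this
  · intro h
    apply Units.ext
    rw [Matrix.GeneralLinearGroup.val_det_apply]
    exact h

theorem toGL_mem_SLs (x : SL2) : Matrix.SpecialLinearGroup.toGL x ∈ SLs := by
  rw [mem_SLs]
  exact x.2

/-- the element of `SL₂` attached to a determinant one element of `GL₂` -/
def ofSLs (X : GL (Fin 2) F) (h : X ∈ SLs) : SL2 := ⟨(X : Matrix (Fin 2) (Fin 2) F), (mem_SLs X).1 h⟩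

theorem toGL_ofSLs (X : GL (Fin 2) F) (h : X ∈ SLs) :
    Matrix.SpecialLinearGroup.toGL (ofSLs X h) = X := by
  apply Units.ext
  rfl

/-- a matrix commuting with an anticommuting pair of square `-1` matrices is scalar -/
theorem scalar_of_commute (h2 : (2 : F) ≠ 0) (t w : SL2) (ht : t.1 * t.1 = -1)
    (hw : w.1 * w.1 = -1) (htw : t.1 * w.1 = -(w.1 * t.1)) (Y : Matrix (Fin 2) (Fin 2) F)
    (hYt : Y * t.1 = t.1 * Y) (hYw : Y * w.1 = w.1 * Y) :
    ∃ c : F, Y = c • (1 : Matrix (Fin 2) (Fin 2) F) := by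
  have hdt := t.2
  have hdw := w.2
  rw [Matrix.det_fin_two] at hdt hdw
  have tt := Cfsg.Agent.H9.Hurwitz.trace_zero_of_sq h2 t ht
  have ww := Cfsg.Agent.H9.Hurwitz.trace_zero_of_sq h2 w hw
  have e00 := congrFun (congrFun htw 0) 0
  simp only [Matrix.mul_apply, Fin.sum_univ_two, Matrix.neg_apply, Fin.isValue] at e00
  rw [tt] at hdt
  rw [ww] at hdw
  have t00 := congrFun (congrFun hYt 0) 0
  have t01 := congrFun (congrFun hYt 0) 1
  have t10 := congrFun (congrFun hYt 1) 0
  have w00 := congrFun (congrFun hYw 0) 0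
  have w01 := congrFun (congrFun hYw 0) 1
  have w10 := congrFun (congrFun hYw 1) 0
  simp only [Matrix.mul_apply, Fin.sum_univ_two, Fin.isValue] at t00 t01 t10 w00 w01 w10
  rw [tt] at t01 t10
  rw [ww] at w01 w10
  set a := t.1 0 0
  set b := t.1 0 1
  set c := t.1 1 0
  set e := w.1 0 0
  set f := w.1 0 1
  set g := w.1 1 0
  set y0 := Y 0 0
  set y1 := Y 0 1
  set y2 := Y 1 0
  set y3 := Y 1 1
  have hrel : 2 * a * e + b * g + c * f = 0 := by linear_combination e00
  have h01 : y1 = 0 := by grind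
  have h10 : y2 = 0 := by grind
  have hd : y0 = y3 := by grind
  refine ⟨y0, ?_⟩
  ext i j
  fin_cases i <;> fin_cases j
  · simp <;> rfl
  · simpa using h01
  · simpa using h10
  · simp only [Fin.mk_one, Fin.isValue, Matrix.smul_apply, Matrix.one_apply_eq, smul_eq_mul, mul_one]
    exact hd.symm

end Cfsg.Agent.H9.Q8Norm
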