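import Mathlib

set_option autoImplicit false

/-! Sylow subgroups contained in a self-centralizing cyclic "torus": their centralizers and
normalizers. -/

namespace Cfsg.Agent.H9.SylowTorus

open scoped Pointwise

variable {G : Type*} [Group G]

/-- centralizer of the image of a subgroup under an automorphism -/
theorem centralizer_map (φ : G ≃* G) (S : Subgroup G) :
    Subgroup.centralizer ((S.map φ.toMonoidHom : Subgroup G) : Set G)
      = (Subgroup.centralizer (S : Set G)).map φ.toMonoidHom := by
  ext g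
  rw [Subgroup.mem_centralizer_iff, Subgroup.mem_map]
  constructor
  · intro h
    refine ⟨φ.symm g, ?_, by simp⟩
    rw [Subgroup.mem_centralizer_iff]
    intro s hs
    have := h (φ s) (Subgroup.mem_map_of_mem _ hs)
    apply φ.injective
    rw [map_mul, map_mul, MulEquiv.apply_symm_apply]
    exact this
  · rintro ⟨k, hk, rfl⟩ _ ⟨s, hs, rfl⟩
    rw [Subgroup.mem_centralizer_iff] at hk
    change φ s * φ k = φ k * φ s
    rw [← map_mul, ← map_mul, hk s hs]

variable [Finite G]

/-- The core statement: a Sylow `ℓ`-subgroup (`ℓ` odd) inside an abelian subgroup `A` which is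
the centralizer of each of its elements of order `> 2`. -/
theorem core (A : Subgroup G) (hAc : ∀ a ∈ A, ∀ b ∈ A, a * b = b * a)
    (hcent : ∀ g ∈ A, g * g ≠ 1 → Subgroup.centralizer ({g} : Set G) = A)
    (ℓ : ℕ) [Fact ℓ.Prime] (hℓ2 : ℓ ≠ 2) (hℓ : ℓ ∣ Nat.card G) (P : Sylow ℓ G)
    (hPA : (P : Subgroup G) ≤ A) :
    Subgroup.centralizer ((P : Subgroup G) : Set G) = A ∧
      Subgroup.normalizer ((P : Subgroup G) : Set G) = Subgroup.normalizer (A : Set G) := by
  have hℓp : ℓ.Prime := Fact.out
  obtain ⟨x, hx1⟩ := (Subgroup.ne_bot_iff_exists_ne_one).1 (P.ne_bot_of_dvd_card hℓ)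
  have hxP' : (x : G) ∈ (P : Subgroup G) := x.2
  have hx1' : (x : G) ≠ 1 := fun h => hx1 (Subtype.ext h)
  have hxx : (x : G) * x ≠ 1 := by
    intro h
    obtain ⟨j, hj⟩ := P.2 x
    have hj' : (x : G) ^ (ℓ ^ j) = 1 := by
      have := congrArg Subtype.val hj
      simpa using this
    have h2 : (x : G) ^ 2 = 1 := by rw [pow_two]; exact h
    have hcop : Nat.gcd 2 (ℓ ^ j) = 1 := by
      apply Nat.Coprime.pow_right
      rw [Nat.coprime_primes Nat.prime_two hℓp]
      exact Ne.symm hℓ2
    have := pow_gcd_eq_one.2 ⟨h2, hj'⟩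
    rw [hcop, pow_one] at this
    exact hx1' this
  have hC : Subgroup.centralizer ((P : Subgroup G) : Set G) = A := by
    apply le_antisymm
    · rw [← hcent x (hPA hxP') hxx]
      exact Subgroup.centralizer_le (Set.singleton_subset_iff.2 hxP')
    · intro a ha
      rw [Subgroup.mem_centralizer_iff]
      intro p hp
      exact hAc p (hPA hp) a ha
  refine ⟨hC, ?_⟩
  apply le_antisymm
  · intro n hn
    apply Subgroup.mem_normalizer_fintype
    intro a ha
    rw [SetLike.mem_coe, ← hC, Subgroup.mem_centralizer_iff]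
    intro p hp
    have hp' : n⁻¹ * p * n ∈ (P : Subgroup G) := by
      have := (Subgroup.mem_set_normalizer_iff''.1 hn p).1 hp
      exact this
    have hcomm : (n⁻¹ * p * n) * a = a * (n⁻¹ * p * n) := hAc _ (hPA hp') a ha
    calc p * (n * a * n⁻¹) = n * ((n⁻¹ * p * n) * a) * n⁻¹ := by group
      _ = n * (a * (n⁻¹ * p * n)) * n⁻¹ := by rw [hcomm]
      _ = n * a * n⁻¹ * p := by group
  · intro n hn
    apply Subgroup.mem_normalizer_fintype
    intro p hp
    have hyA : n * p * n⁻¹ ∈ A := (Subgroup.mem_set_normalizer_iff.1 hn p).1 (hPA hp)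
    set y := n * p * n⁻¹ with hy
    -- y is an ℓ-element of A
    have hyp : IsPGroup ℓ (Subgroup.zpowers y) := by
      obtain ⟨j, hj⟩ := P.2 ⟨p, hp⟩
      have hj' : p ^ (ℓ ^ j) = 1 := by
        have := congrArg Subtype.val hj
        simpa using this
      have hyj : y ^ (ℓ ^ j) = 1 := by
        rw [hy, conj_pow, hj']
        group
      have hord : orderOf y ∣ ℓ ^ j := orderOf_dvd_of_pow_eq_one hyj
      obtain ⟨i, -, hi⟩ := (Nat.dvd_prime_pow hℓp).1 hord
      apply IsPGroup.of_card (n := i)
      rw [Nat.card_zpowers, hi]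
    have hnorm : Subgroup.zpowers y ≤ Subgroup.normalizer ((P : Subgroup G) : Set G) := by
      rw [Subgroup.zpowers_le]
      apply Subgroup.mem_normalizer_fintype
      intro q hq
      have : y * q = q * y := hAc y hyA q (hPA hq)
      have h2 : y * q * y⁻¹ = q := by rw [this]; group
      rw [h2]
      exact hq
    have hsup : IsPGroup ℓ ((P : Subgroup G) ⊔ Subgroup.zpowers y : Subgroup G) :=
      IsPGroup.to_sup_of_normal_left' P.2 hyp hnorm
    have := P.is_maximal' hsup le_sup_left
    have hle : Subgroup.zpowers y ≤ (P : Subgroup G) := by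
      rw [← this]
      exact le_sup_right
    exact hle (Subgroup.mem_zpowers y)

/-- The general statement: centralizer and normalizer of a Sylow `ℓ`-subgroup when some
self-centralizing cyclic torus carries the full `ℓ`-part. -/
theorem main (A : Subgroup G) (hA : IsCyclic A)
    (hcent : ∀ g ∈ A, g * g ≠ 1 → Subgroup.centralizer ({g} : Set G) = A)
    (ℓ : ℕ) [Fact ℓ.Prime] (hℓ2 : ℓ ≠ 2) (hℓA : ℓ ∣ Nat.card A)
    (hpart : (Nat.card G).factorization ℓ = (Nat.card A).factorization ℓ) (P : Sylow ℓ G) :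
    Nat.card (Subgroup.centralizer ((P : Subgroup G) : Set G)) = Nat.card A ∧
      IsCyclic (Subgroup.centralizer ((P : Subgroup G) : Set G)) ∧
      Nat.card (Subgroup.normalizer ((P : Subgroup G) : Set G))
        = Nat.card (Subgroup.normalizer (A : Set G)) := by
  have hAc : ∀ a ∈ A, ∀ b ∈ A, a * b = b * a := by
    intro a ha b hb
    have hcomm : ∀ u v : A, u * v = v * u := fun u v => by
      let _ := hA.commGroup
      exact mul_comm u v
    have := hcomm ⟨a, ha⟩ ⟨b, hb⟩
    exact congrArg Subtype.val this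
  have hℓG : ℓ ∣ Nat.card G := hℓA.trans (Subgroup.card_subgroup_dvd_card A)
  -- a Sylow subgroup inside A
  obtain ⟨Q⟩ : Nonempty (Sylow ℓ A) := inferInstance
  set P₀ : Subgroup G := (Q : Subgroup A).map A.subtype with hP₀
  have hP₀A : P₀ ≤ A := by
    rintro _ ⟨q, -, rfl⟩
    exact q.2
  have hcard : Nat.card P₀ = ℓ ^ (Nat.card G).factorization ℓ := by
    rw [hP₀, Subgroup.card_map_of_injective A.subtype_injective, Q.card_eq_multiplicity, hpart]
  let P₀' : Sylow ℓ G := Sylow.ofCard P₀ hcard
  obtain ⟨c, hc⟩ := MulAction.exists_smul_eq G P₀' P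
  have hPeq : (P : Subgroup G) = P₀.map (MulAut.conj c).toMonoidHom := by
    rw [← hc]
    rfl
  obtain ⟨h1, h2⟩ := core A hAc hcent ℓ hℓ2 hℓG P₀' hP₀A
  have h1' : Subgroup.centralizer ((P₀ : Subgroup G) : Set G) = A := h1
  have h2' : Subgroup.normalizer ((P₀ : Subgroup G) : Set G) = Subgroup.normalizer (A : Set G) := h2
  have hinj : Function.Injective (MulAut.conj c).toMonoidHom := (MulAut.conj c).injective
  refine ⟨?_, ?_, ?_⟩
  · rw [hPeq, centralizer_map, Subgroup.card_map_of_injective hinj, h1']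
  · rw [hPeq, centralizer_map, h1']
    have e : A ≃* (A.map (MulAut.conj c).toMonoidHom : Subgroup G) :=
      A.equivMapOfInjective _ hinj
    exact isCyclic_of_surjective e e.surjective
  · rw [hPeq, ← Subgroup.map_equiv_normalizer_eq, Subgroup.card_map_of_injective hinj, h2']

end Cfsg.Agent.H9.SylowTorus
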