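import Mathlib
import Cfsg.Agent.H9.SylowTorus

set_option autoImplicit false

/-! Sylow `2`-subgroups of a group containing a "dicyclic torus normalizer" carrying the
full `2`-part: centralizer and normalizer. -/

namespace Cfsg.Agent.H9.SylowTwoDicyclic

variable {G : Type*} [Group G] [Finite G]

theorem isPGroup_zpowers (n : G) (k : ℕ) (hk : n ^ 2 ^ k = 1) :
    IsPGroup 2 (Subgroup.zpowers n) := by
  have hord : orderOf n ∣ 2 ^ k := orderOf_dvd_of_pow_eq_one hk
  obtain ⟨i, -, hi⟩ := (Nat.dvd_prime_pow Nat.prime_two).1 hord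
  apply IsPGroup.of_card (n := i)
  rw [Nat.card_zpowers, hi]

/-- a `2`-element normalizing a Sylow `2`-subgroup lies in it -/
theorem mem_of_normalizes (S : Sylow 2 G) (n : G)
    (hn : n ∈ Subgroup.normalizer ((S : Subgroup G) : Set G)) (k : ℕ) (hk : n ^ 2 ^ k = 1) :
    n ∈ (S : Subgroup G) := by
  have hyp := isPGroup_zpowers n k hk
  have hnorm : Subgroup.zpowers n ≤ Subgroup.normalizer ((S : Subgroup G) : Set G) := by
    rw [Subgroup.zpowers_le]
    exact hn
  have hsup : IsPGroup 2 ((S : Subgroup G) ⊔ Subgroup.zpowers n : Subgroup G) :=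
    IsPGroup.to_sup_of_normal_left' S.2 hyp hnorm
  have := S.is_maximal' hsup le_sup_left
  have hle : Subgroup.zpowers n ≤ (S : Subgroup G) := by
    rw [← this]
    exact le_sup_right
  exact hle (Subgroup.mem_zpowers n)

/-- a `2`-element generating a subgroup normalized by a Sylow `2`-subgroup lies in it -/
theorem mem_of_normalized (S : Sylow 2 G) (n : G)
    (hn : (S : Subgroup G) ≤ Subgroup.normalizer ((Subgroup.zpowers n : Subgroup G) : Set G))
    (k : ℕ) (hk : n ^ 2 ^ k = 1) :
    n ∈ (S : Subgroup G) := by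
  have hyp := isPGroup_zpowers n k hk
  have hsup : IsPGroup 2 ((S : Subgroup G) ⊔ Subgroup.zpowers n : Subgroup G) :=
    IsPGroup.to_sup_of_normal_right' S.2 hyp hn
  have := S.is_maximal' hsup le_sup_left
  have hle : Subgroup.zpowers n ≤ (S : Subgroup G) := by
    rw [← this]
    exact le_sup_right
  exact hle (Subgroup.mem_zpowers n)

/-- the hypotheses on the torus `A`, its normalizer `N` and the central involution `z` -/
structure Setup (A N : Subgroup G) (z : G) : Prop where
  cyc : IsCyclic A
  le : A ≤ N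
  norm : Subgroup.normalizer (A : Set G) = N
  cent : ∀ g ∈ A, g * g ≠ 1 → Subgroup.centralizer ({g} : Set G) = A
  inv : ∀ g ∈ N, g ∉ A → ∀ a ∈ A, g * a * g⁻¹ = a⁻¹
  sq : ∀ g ∈ N, g ∉ A → g * g = z
  zc : z ∈ Subgroup.center G
  z1 : z ≠ 1
  zz : z * z = 1
  invol : ∀ a ∈ A, a * a = 1 → a = 1 ∨ a = z
  cardN : Nat.card N = 2 * Nat.card A
  four : 4 ∣ Nat.card A
  part : (Nat.card G).factorization 2 = (Nat.card A).factorization 2 + 1

variable {A N : Subgroup G} {z : G}

theorem Setup.comm (h : Setup A N z) : ∀ a ∈ A, ∀ b ∈ A, a * b = b * a := by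
  intro a ha b hb
  have hcomm : ∀ u v : A, u * v = v * u := fun u v => by
    let _ := h.cyc.commGroup
    exact mul_comm u v
  exact congrArg Subtype.val (hcomm ⟨a, ha⟩ ⟨b, hb⟩)

theorem Setup.two_le (h : Setup A N z) : 2 ≤ (Nat.card A).factorization 2 := by
  have h0 : Nat.card A ≠ 0 := Nat.card_pos.ne'
  have : 2 ^ 2 ∣ Nat.card A := h.four
  exact (Nat.Prime.pow_dvd_iff_le_factorization Nat.prime_two h0).1 this

/-- an element of `A` generating its Sylow `2`-subgroup -/
theorem Setup.exists_t (h : Setup A N z) :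
    ∃ t ∈ A, orderOf t = 2 ^ (Nat.card A).factorization 2 := by
  obtain ⟨a, ha⟩ := h.cyc.exists_generator
  have hord : orderOf a = Nat.card A := orderOf_eq_card_of_forall_mem_zpowers ha
  have h0 : Nat.card A ≠ 0 := Nat.card_pos.ne'
  set v := (Nat.card A).factorization 2 with hv
  set m := Nat.card A / 2 ^ v with hm
  have hmul : 2 ^ v * m = Nat.card A := Nat.ordProj_mul_ordCompl_eq_self (Nat.card A) 2
  have hm0 : m ≠ 0 := by
    intro h'
    rw [h', mul_zero] at hmul
    exact h0 hmul.symm
  have hdvd : m ∣ orderOf a := by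
    rw [hord]
    exact Dvd.intro_left _ hmul
  have h1 : orderOf (a ^ m) = orderOf a / m := orderOf_pow_of_dvd hm0 hdvd
  refine ⟨((a ^ m : A) : G), (a ^ m).2, ?_⟩
  rw [Subgroup.orderOf_coe, h1, hord, ← hmul, Nat.mul_div_cancel _ (Nat.pos_of_ne_zero hm0)]

/-- `N` normalizes every cyclic subgroup of `A` -/
theorem Setup.le_normalizer_zpowers (h : Setup A N z) (t : G) (ht : t ∈ A) :
    N ≤ Subgroup.normalizer ((Subgroup.zpowers t : Subgroup G) : Set G) := by
  intro g hg
  apply Subgroup.mem_normalizer_fintype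
  rintro x ⟨i, rfl⟩
  have hti : t ^ i ∈ A := Subgroup.zpow_mem _ ht i
  by_cases hgA : g ∈ A
  · have : g * t ^ i * g⁻¹ = t ^ i := by
      rw [h.comm g hgA _ hti, mul_inv_cancel_right]
    rw [SetLike.mem_coe, this]
    exact ⟨i, rfl⟩
  · rw [SetLike.mem_coe, h.inv g hg hgA _ hti]
    exact Subgroup.inv_mem _ ⟨i, rfl⟩

/-- elements of the normalizer of `S` lying in `N` are in `S` -/
theorem Setup.mem_of_mem_N (h : Setup A N z) (S : Sylow 2 G) (w : G) (hwS : w ∈ (S : Subgroup G))
    (hwN : w ∈ N) (hwA : w ∉ A)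
    (n : G) (hn : n ∈ Subgroup.normalizer ((S : Subgroup G) : Set G)) (hnN : n ∈ N) :
    n ∈ (S : Subgroup G) := by
  by_cases hnA : n ∈ A
  · have h1 : w * n⁻¹ * w⁻¹ = n := by
      rw [h.inv w hwN hwA _ (Subgroup.inv_mem _ hnA), inv_inv]
    have h2 : n * w * n⁻¹ ∈ (S : Subgroup G) := (Subgroup.mem_set_normalizer_iff.1 hn w).1 hwS
    have h3 : n * n = (n * w * n⁻¹) * w⁻¹ := by
      calc n * n = n * (w * n⁻¹ * w⁻¹) := by rw [h1]
        _ = (n * w * n⁻¹) * w⁻¹ := by group
    have h4 : n * n ∈ (S : Subgroup G) := by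
      rw [h3]
      exact Subgroup.mul_mem _ h2 (Subgroup.inv_mem _ hwS)
    obtain ⟨k, hk⟩ := S.2 ⟨n * n, h4⟩
    have hk' : (n * n) ^ 2 ^ k = 1 := by
      have := congrArg Subtype.val hk
      simpa using this
    refine mem_of_normalizes S n hn (k + 1) ?_
    rw [pow_succ, mul_comm, pow_mul, pow_two]
    exact hk'
  · refine mem_of_normalizes S n hn 2 ?_
    have := h.sq n hnN hnA
    calc n ^ 2 ^ 2 = (n * n) * (n * n) := by
          norm_num [pow_succ, mul_assoc]
      _ = 1 := by rw [this, h.zz]

/-- the normalizer of a quaternion Sylow `2`-subgroup of order `8` has order at most `24` -/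
theorem Setup.card_normalizer_le (h : Setup A N z) (S : Sylow 2 G) (t w : G) (htA : t ∈ A)
    (htS : t ∈ (S : Subgroup G)) (htt : t * t = z) (hwS : w ∈ (S : Subgroup G)) (hwN : w ∈ N)
    (hwA : w ∉ A) (hcardS : Nat.card S = 8) (hv : (Nat.card A).factorization 2 = 2) :
    Nat.card (Subgroup.normalizer ((S : Subgroup G) : Set G)) ≤ 24 := by
  classical
  haveI : Fintype G := Fintype.ofFinite G
  have h0 : Nat.card A ≠ 0 := Nat.card_pos.ne'
  set M := Subgroup.normalizer ((S : Subgroup G) : Set G) with hM
  have hz1 := h.z1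
  have htt1 : t * t ≠ 1 := by rw [htt]; exact hz1
  have hcentt : Subgroup.centralizer ({t} : Set G) = A := h.cent t htA htt1
  have hzS : z ∈ (S : Subgroup G) := by rw [← htt]; exact Subgroup.mul_mem _ htS htS
  set Mf : Finset G := Finset.univ.filter (· ∈ M) with hMf
  set Sf : Finset G := Finset.univ.filter (· ∈ (S : Subgroup G)) with hSf
  set E : Finset G := (Sf.erase 1).erase z with hE
  set I : Finset G := Finset.univ.filter (· ∈ (S : Subgroup G) ⊓ A) with hI
  have hMc : Nat.card M = Mf.card := Nat.subtype_card Mf (by simp [hMf])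
  have hSc : Nat.card S = Sf.card := Nat.subtype_card Sf (by simp [hSf])
  have hIc : Nat.card ((S : Subgroup G) ⊓ A : Subgroup G) = I.card :=
    Nat.subtype_card I (by simp [hI])
  have hEc : E.card = 6 := by
    rw [hE, Finset.card_erase_of_mem, Finset.card_erase_of_mem, ← hSc, hcardS]
    · simp [hSf]
    · rw [Finset.mem_erase]
      exact ⟨hz1, by simp [hSf, hzS]⟩
  have hI4 : I.card ≤ 4 := by
    rw [← hIc]
    have hp : IsPGroup 2 ((S : Subgroup G) ⊓ A : Subgroup G) := S.2.to_le inf_le_left
    obtain ⟨n, hn⟩ := hp.exists_card_eq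
    have hd : Nat.card ((S : Subgroup G) ⊓ A : Subgroup G) ∣ Nat.card A :=
      Subgroup.card_dvd_of_le inf_le_right
    rw [hn] at hd ⊢
    have := (Nat.Prime.pow_dvd_iff_le_factorization Nat.prime_two h0).1 hd
    rw [hv] at this
    calc 2 ^ n ≤ 2 ^ 2 := Nat.pow_le_pow_right (by norm_num) this
      _ = 4 := by norm_num
  set f : G → G := fun n => n * t * n⁻¹ with hf
  have hmaps : ∀ n ∈ Mf, f n ∈ E := by
    intro n hn
    have hnM : n ∈ M := by simpa [hMf] using hn
    have h1 : f n ∈ (S : Subgroup G) := (Subgroup.mem_set_normalizer_iff.1 hnM t).1 htS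
    rw [hE, Finset.mem_erase, Finset.mem_erase]
    refine ⟨?_, ?_, by simp [hSf, h1]⟩
    · intro h'
      have ht : t = z := by
        have h5 : t = n⁻¹ * (n * t * n⁻¹) * n := by group
        have h6 : n * t * n⁻¹ = z := h'
        rw [h5, h6, mul_assoc, ← (Subgroup.mem_center_iff.1 h.zc n), inv_mul_cancel_left]
      rw [ht, h.zz] at htt
      exact hz1 htt.symm
    · intro h'
      have ht : t = 1 := by
        have h5 : t = n⁻¹ * (n * t * n⁻¹) * n := by group
        have h6 : n * t * n⁻¹ = 1 := h'
        rw [h5, h6]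
        group
      rw [ht, mul_one] at htt
      exact hz1 htt.symm
  have hfib : ∀ b ∈ E, (Mf.filter (fun n => f n = b)).card ≤ 4 := by
    intro b _
    by_cases hne : (Mf.filter (fun n => f n = b)).Nonempty
    · obtain ⟨n₀, hn₀⟩ := hne
      rw [Finset.mem_filter] at hn₀
      have hn₀M : n₀ ∈ M := by simpa [hMf] using hn₀.1
      have hsub : Mf.filter (fun n => f n = b) ⊆ I.image (fun y => n₀ * y) := by
        intro n hn
        rw [Finset.mem_filter] at hn
        have hnM : n ∈ M := by simpa [hMf] using hn.1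
        rw [Finset.mem_image]
        refine ⟨n₀⁻¹ * n, ?_, by group⟩
        have hyM : n₀⁻¹ * n ∈ M := Subgroup.mul_mem _ (Subgroup.inv_mem _ hn₀M) hnM
        have hyA : n₀⁻¹ * n ∈ A := by
          rw [← hcentt, Subgroup.mem_centralizer_iff]
          intro x hx
          rw [Set.mem_singleton_iff] at hx
          rw [hx]
          have e : n₀ * t * n₀⁻¹ = n * t * n⁻¹ := hn₀.2.trans hn.2.symm
          calc t * (n₀⁻¹ * n) = n₀⁻¹ * (n₀ * t * n₀⁻¹) * n := by group
            _ = n₀⁻¹ * (n * t * n⁻¹) * n := by rw [e]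
            _ = n₀⁻¹ * n * t := by group
        have hyS : n₀⁻¹ * n ∈ (S : Subgroup G) :=
          h.mem_of_mem_N S w hwS hwN hwA _ hyM (h.le hyA)
        simp only [hI, Finset.mem_filter, Finset.mem_univ, true_and]
        exact ⟨hyS, hyA⟩
      calc (Mf.filter (fun n => f n = b)).card ≤ (I.image (fun y => n₀ * y)).card :=
            Finset.card_le_card hsub
        _ ≤ I.card := Finset.card_image_le
        _ ≤ 4 := hI4
    · rw [Finset.not_nonempty_iff_eq_empty] at hne
      rw [hne]
      simp
  have := Finset.card_le_mul_card_image_of_maps_to hmaps 4 hfib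
  rw [hMc]
  omega

theorem core (h : Setup A N z) (S : Sylow 2 G) (hSN : (S : Subgroup G) ≤ N) :
    (∀ c : G, c ∈ Subgroup.centralizer ((S : Subgroup G) : Set G) ↔ c = 1 ∨ c = z) ∧
    (8 ∣ Nat.card A → Subgroup.normalizer ((S : Subgroup G) : Set G) = (S : Subgroup G)) ∧
    (¬ 8 ∣ Nat.card A →
      (∀ t w : G, t ∈ A → t * t = z → w ∈ N → w ∉ A →
        ∃ x : G, x * t = t * w * x ∧ x * w = t * x) →
      Nat.card (Subgroup.normalizer ((S : Subgroup G) : Set G)) = 3 * Nat.card S) := by
  have h0 : Nat.card A ≠ 0 := Nat.card_pos.ne'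
  set v := (Nat.card A).factorization 2 with hv
  have hv2 : 2 ≤ v := h.two_le
  have hcardS : Nat.card S = 2 ^ (v + 1) := by
    rw [S.card_eq_multiplicity, h.part]
  obtain ⟨t, htA, hto⟩ := h.exists_t
  rw [← hv] at hto
  have htpow : t ^ 2 ^ v = 1 := by rw [← hto]; exact pow_orderOf_eq_one t
  have htS : t ∈ (S : Subgroup G) :=
    mem_of_normalized S t (hSN.trans (h.le_normalizer_zpowers t htA)) v htpow
  have htt : t * t ≠ 1 := by
    intro h'
    have : t ^ 2 = 1 := by rw [pow_two]; exact h'
    have hd := orderOf_dvd_of_pow_eq_one this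
    rw [hto] at hd
    have : 2 ^ v ≤ 2 := Nat.le_of_dvd (by norm_num) hd
    have : 2 ^ 2 ≤ 2 ^ v := Nat.pow_le_pow_right (by norm_num) hv2
    omega
  obtain ⟨w, hwS, hwA⟩ : ∃ w ∈ (S : Subgroup G), w ∉ A := by
    by_contra hcon
    push Not at hcon
    have hle : (S : Subgroup G) ≤ A := hcon
    have hd : Nat.card S ∣ Nat.card A := Subgroup.card_dvd_of_le hle
    rw [hcardS] at hd
    have := (Nat.Prime.pow_dvd_iff_le_factorization Nat.prime_two h0).1 hd
    omega
  have hwN : w ∈ N := hSN hwS
  have hcentt : Subgroup.centralizer ({t} : Set G) = A := h.cent t htA htt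
  refine ⟨?_, ?_, ?_⟩
  · intro c
    constructor
    · intro hc
      rw [Subgroup.mem_centralizer_iff] at hc
      have hct : c ∈ A := by
        rw [← hcentt, Subgroup.mem_centralizer_iff]
        intro x hx
        rw [Set.mem_singleton_iff] at hx
        rw [hx]
        exact hc t htS
      have h1 : w * c * w⁻¹ = c⁻¹ := h.inv w hwN hwA c hct
      have h2 : w * c * w⁻¹ = c := by
        rw [hc w hwS, mul_inv_cancel_right]
      have h3 : c * c = 1 := by
        have : c = c⁻¹ := h2.symm.trans h1
        calc c * c = c * c⁻¹ := by rw [← this]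
          _ = 1 := mul_inv_cancel c
      exact h.invol c hct h3
    · rintro (rfl | rfl)
      · exact Subgroup.one_mem _
      · exact Subgroup.center_le_centralizer _ h.zc
  · intro h8
    have hv3 : 3 ≤ v := by
      have : 2 ^ 3 ∣ Nat.card A := h8
      exact (Nat.Prime.pow_dvd_iff_le_factorization Nat.prime_two h0).1 this
    have ht4 : t ^ 4 ≠ 1 := by
      intro h'
      have hd := orderOf_dvd_of_pow_eq_one h'
      rw [hto] at hd
      have : 2 ^ v ≤ 4 := Nat.le_of_dvd (by norm_num) hd
      have : 2 ^ 3 ≤ 2 ^ v := Nat.pow_le_pow_right (by norm_num) hv3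
      omega
    apply le_antisymm
    · intro n hn
      set t' := n * t * n⁻¹ with ht'
      have ht'S : t' ∈ (S : Subgroup G) := (Subgroup.mem_set_normalizer_iff.1 hn t).1 htS
      have ht'N : t' ∈ N := hSN ht'S
      have ht'4 : t' ^ 4 = n * t ^ 4 * n⁻¹ := by rw [ht', conj_pow]
      have ht'A : t' ∈ A := by
        by_contra hcon
        have hsq := h.sq t' ht'N hcon
        have : t' ^ 4 = 1 := by
          calc t' ^ 4 = (t' * t') * (t' * t') := by
                norm_num [pow_succ, mul_assoc]
            _ = 1 := by rw [hsq, h.zz]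
        rw [ht'4] at this
        apply ht4
        have h5 : t ^ 4 = n⁻¹ * (n * t ^ 4 * n⁻¹) * n := by group
        rw [h5, this]
        group
      have ht't' : t' * t' ≠ 1 := by
        intro h'
        apply htt
        have h5 : t * t = n⁻¹ * (t' * t') * n := by rw [ht']; group
        rw [h5, h']
        group
      have hcentt' : Subgroup.centralizer ({t'} : Set G) = A := h.cent t' ht'A ht't'
      have hnN : n ∈ N := by
        rw [← h.norm]
        apply Subgroup.mem_normalizer_fintype
        intro a ha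
        rw [SetLike.mem_coe, ← hcentt', Subgroup.mem_centralizer_iff]
        intro x hx
        rw [Set.mem_singleton_iff] at hx
        rw [hx]
        have hat : t * a = a * t := h.comm t htA a ha
        calc t' * (n * a * n⁻¹) = n * (t * a) * n⁻¹ := by rw [ht']; group
          _ = n * (a * t) * n⁻¹ := by rw [hat]
          _ = n * a * n⁻¹ * t' := by rw [ht']; group
      exact h.mem_of_mem_N S w hwS hwN hwA n hn hnN
    · exact Subgroup.le_normalizer
  · intro h8 hH
    have hv2' : v = 2 := by
      have : ¬ 3 ≤ v := by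
        intro h3
        apply h8
        have : 2 ^ 3 ∣ Nat.card A :=
          (Nat.Prime.pow_dvd_iff_le_factorization Nat.prime_two h0).2 h3
        exact this
      omega
    have hcardS8 : Nat.card S = 8 := by rw [hcardS, hv2']; norm_num
    have hto4 : orderOf t = 4 := by rw [hto, hv2']; norm_num
    have htz : t * t = z := by
      have h4 : t ^ 4 = 1 := by rw [← hto4]; exact pow_orderOf_eq_one t
      have : (t * t) * (t * t) = 1 := by
        rw [← h4]
        norm_num [pow_succ, mul_assoc]
      rcases h.invol (t * t) (Subgroup.mul_mem _ htA htA) this with h' | h'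
      · exact absurd h' htt
      · exact h'
    set M := Subgroup.normalizer ((S : Subgroup G) : Set G) with hM
    have hle24 : Nat.card M ≤ 24 :=
      h.card_normalizer_le S t w htA htS htz hwS hwN hwA hcardS8 (by rw [← hv, hv2'])
    have hSM : (S : Subgroup G) ≤ M := Subgroup.le_normalizer
    have h8dvd : 8 ∣ Nat.card M := by
      have : Nat.card (S : Subgroup G) ∣ Nat.card M := Subgroup.card_dvd_of_le hSM
      rwa [show Nat.card (S : Subgroup G) = 8 from hcardS8] at this
    have h16 : ¬ 16 ∣ Nat.card M := by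
      intro h16
      have hd : 2 ^ 4 ∣ Nat.card G := Dvd.dvd.trans h16 (Subgroup.card_subgroup_dvd_card M)
      have := (Nat.Prime.pow_dvd_iff_le_factorization Nat.prime_two Nat.card_pos.ne').1 hd
      rw [h.part, ← hv, hv2'] at this
      omega
    -- the closure of `t` and `w`
    have hSclos : (S : Subgroup G) = Subgroup.closure {t, w} := by
      symm
      have hQS : Subgroup.closure {t, w} ≤ (S : Subgroup G) := by
        rw [Subgroup.closure_le]
        intro y hy
        rcases hy with rfl | rfl
        · exact htS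
        · exact hwS
      apply Subgroup.eq_of_le_of_card_ge hQS
      have htQ : Subgroup.zpowers t ≤ Subgroup.closure {t, w} := by
        rw [Subgroup.zpowers_le]
        exact Subgroup.subset_closure (by simp)
      have hwQ : w ∈ Subgroup.closure {t, w} := Subgroup.subset_closure (by simp)
      have hd1 : 4 ∣ Nat.card (Subgroup.closure {t, w} : Subgroup G) := by
        have := Subgroup.card_dvd_of_le htQ
        rwa [Nat.card_zpowers, hto4] at this
      have hd2 : Nat.card (Subgroup.closure {t, w} : Subgroup G) ∣ 8 := by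
        have := Subgroup.card_dvd_of_le hQS
        rwa [show Nat.card (S : Subgroup G) = 8 from hcardS8] at this
      have hne4 : Nat.card (Subgroup.closure {t, w} : Subgroup G) ≠ 4 := by
        intro h4
        have : Subgroup.zpowers t = Subgroup.closure {t, w} := by
          apply Subgroup.eq_of_le_of_card_ge htQ
          rw [Nat.card_zpowers, hto4, h4]
        rw [← this] at hwQ
        apply hwA
        have hzA : Subgroup.zpowers t ≤ A := by
          rw [Subgroup.zpowers_le]
          exact htA
        exact hzA hwQ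
      rw [show Nat.card (S : Subgroup G) = 8 from hcardS8]
      obtain ⟨k, hk⟩ := hd1
      have hk8 : Nat.card (Subgroup.closure {t, w} : Subgroup G) ≤ 8 :=
        Nat.le_of_dvd (by norm_num) hd2
      have hk2 : k ≤ 2 := by omega
      interval_cases k
      · rw [hk] at hd2; norm_num at hd2
      · omega
      · omega
    obtain ⟨x, hx1, hx2⟩ := hH t w htA htz hwN hwA
    have hxt : x * t * x⁻¹ = t * w := by rw [hx1]; group
    have hxw : x * w * x⁻¹ = t := by rw [hx2]; group
    have hxM : x ∈ M := by
      apply Subgroup.mem_normalizer_fintype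
      intro s hs
      rw [SetLike.mem_coe, hSclos] at hs
      rw [SetLike.mem_coe]
      induction hs using Subgroup.closure_induction with
      | mem y hy =>
        rcases hy with rfl | rfl
        · rw [hxt]; exact Subgroup.mul_mem _ htS hwS
        · rw [hxw]; exact htS
      | one => simp
      | mul a b _ _ ha hb =>
        have : x * (a * b) * x⁻¹ = (x * a * x⁻¹) * (x * b * x⁻¹) := by group
        rw [this]
        exact Subgroup.mul_mem _ ha hb
      | inv a _ ha =>
        have : x * a⁻¹ * x⁻¹ = (x * a * x⁻¹)⁻¹ := by group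
        rw [this]
        exact Subgroup.inv_mem _ ha
    have hxS : x ∉ (S : Subgroup G) := by
      intro hxS
      have hxN : x ∈ N := hSN hxS
      by_cases hxA : x ∈ A
      · have h5 : x * t = t * x := h.comm x hxA t htA
        rw [h5] at hx1
        have : w = 1 := by
          have h6 : t * x = t * w * x := hx1
          have h7 : x = w * x := by
            apply mul_left_cancel (a := t)
            rw [h6, mul_assoc]
          have h8 : 1 * x = w * x := by rw [one_mul]; exact h7
          exact (mul_right_cancel h8).symm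
        apply hwA
        rw [this]
        exact Subgroup.one_mem _
      · have h5 : x * t * x⁻¹ = t⁻¹ := h.inv x hxN hxA t htA
        rw [hxt] at h5
        have : w = t⁻¹ * t⁻¹ := by
          calc w = t⁻¹ * (t * w) := by group
            _ = t⁻¹ * t⁻¹ := by rw [h5]
        apply hwA
        rw [this]
        exact Subgroup.mul_mem _ (Subgroup.inv_mem _ htA) (Subgroup.inv_mem _ htA)
    have hne8 : Nat.card M ≠ 8 := by
      intro h8'
      have : (S : Subgroup G) = M := by
        apply Subgroup.eq_of_le_of_card_ge hSM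
        rw [h8', show Nat.card (S : Subgroup G) = 8 from hcardS8]
      apply hxS
      rw [this]
      exact hxM
    rw [hcardS8]
    obtain ⟨k, hk⟩ := h8dvd
    have hk3 : k ≤ 3 := by omega
    interval_cases k
    · have := Nat.card_pos (α := M); omega
    · omega
    · exfalso; apply h16; rw [hk]
    · omega

/-- the statement for an arbitrary Sylow `2`-subgroup -/
theorem main (h : Setup A N z)
    (hH : ¬ 8 ∣ Nat.card A → ∀ t w : G, t ∈ A → t * t = z → w ∈ N → w ∉ A →
        ∃ x : G, x * t = t * w * x ∧ x * w = t * x) (S : Sylow 2 G) :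
    (∀ c : G, c ∈ Subgroup.centralizer ((S : Subgroup G) : Set G) ↔ c = 1 ∨ c = z) ∧
    (8 ∣ Nat.card A → Subgroup.normalizer ((S : Subgroup G) : Set G) = (S : Subgroup G)) ∧
    (¬ 8 ∣ Nat.card A →
      Nat.card (Subgroup.normalizer ((S : Subgroup G) : Set G)) = 3 * Nat.card S) := by
  have h0 : Nat.card A ≠ 0 := Nat.card_pos.ne'
  obtain ⟨Q⟩ : Nonempty (Sylow 2 N) := inferInstance
  set S₀ : Subgroup G := (Q : Subgroup N).map N.subtype with hS₀
  have hS₀N : S₀ ≤ N := by
    rintro _ ⟨q, -, rfl⟩
    exact q.2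
  have hcard : Nat.card S₀ = 2 ^ (Nat.card G).factorization 2 := by
    rw [hS₀, Subgroup.card_map_of_injective N.subtype_injective, Q.card_eq_multiplicity, h.cardN,
      h.part, Nat.factorization_mul two_ne_zero h0, Finsupp.add_apply,
      Nat.Prime.factorization_self Nat.prime_two, add_comm]
  let S₀' : Sylow 2 G := Sylow.ofCard S₀ hcard
  obtain ⟨c, hc⟩ := MulAction.exists_smul_eq G S₀' S
  have hPeq : (S : Subgroup G) = S₀.map (MulAut.conj c).toMonoidHom := by
    rw [← hc]
    rfl
  obtain ⟨h1, h2, h3⟩ := core h S₀' hS₀N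
  have hinj : Function.Injective (MulAut.conj c).toMonoidHom := (MulAut.conj c).injective
  have hcardS : Nat.card S = Nat.card S₀ := by
    change Nat.card (S : Subgroup G) = _
    rw [hPeq, Subgroup.card_map_of_injective hinj]
  refine ⟨?_, ?_, ?_⟩
  · intro c'
    rw [hPeq, Cfsg.Agent.H9.SylowTorus.centralizer_map, Subgroup.mem_map]
    constructor
    · rintro ⟨y, hy, rfl⟩
      rcases (h1 y).1 hy with rfl | rfl
      · left; simp
      · right
        change c * y * c⁻¹ = y
        rw [Subgroup.mem_center_iff.1 h.zc c, mul_inv_cancel_right]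
    · rintro (rfl | rfl)
      · exact ⟨1, Subgroup.one_mem _, by simp⟩
      · refine ⟨c', (h1 c').2 (Or.inr rfl), ?_⟩
        change c * c' * c⁻¹ = c'
        rw [Subgroup.mem_center_iff.1 h.zc c, mul_inv_cancel_right]
  · intro h8
    have h2' : Subgroup.normalizer ((S₀ : Subgroup G) : Set G) = S₀ := h2 h8
    rw [hPeq, ← Subgroup.map_equiv_normalizer_eq, h2']
  · intro h8
    have h3' : Nat.card (Subgroup.normalizer ((S₀ : Subgroup G) : Set G)) = 3 * Nat.card S₀ :=
      h3 h8 (hH h8)
    rw [hPeq, ← Subgroup.map_equiv_normalizer_eq, Subgroup.card_map_of_injective hinj, h3',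
      ← hPeq, hcardS]

end Cfsg.Agent.H9.SylowTwoDicyclic
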