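import Mathlib
import Cfsg.Agent.H9.SylowTwoDicyclic

set_option autoImplicit false

/-! Redundant Sylow subgroups: general lemmas and the dicyclic-torus setup. -/

namespace Cfsg.Agent.H9.RedundantSylow

open Cfsg.Agent.H9.SylowTwoDicyclic

variable {G : Type*} [Group G] [Finite G]

/-- `x ∈ g • P ↔ g⁻¹ x g ∈ P` for Sylow subgroups. -/
theorem mem_smul_iff {p : ℕ} (P : Sylow p G) (g x : G) :
    x ∈ (g • P : Sylow p G) ↔ g⁻¹ * x * g ∈ P := by
  show x ∈ ((g • P : Sylow p G) : Subgroup G) ↔ _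
  rw [Sylow.coe_subgroup_smul, Subgroup.mem_pointwise_smul_iff_inv_smul_mem, MulAut.smul_def,
    ← map_inv, MulAut.conj_apply, inv_inv]
  rfl

/-- A `p`-element lying in a unique Sylow `p`-subgroup forbids redundant Sylow `p`-subgroups. -/
theorem not_redundant_of_unique {p : ℕ} [Fact p.Prime] (Q0 : Sylow p G) (x0 : G)
    (hx : ∃ k : ℕ, orderOf x0 = p ^ k)
    (huniq : ∀ P : Sylow p G, x0 ∈ P → P = Q0) :
    ¬ ∃ Q : Sylow p G, ∀ x : G, (∃ k : ℕ, orderOf x = p ^ k) → ∃ P : Sylow p G, P ≠ Q ∧ x ∈ P := by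
  rintro ⟨Q, hQ⟩
  obtain ⟨g, rfl⟩ := MulAction.exists_smul_eq G Q0 Q
  have hord : ∃ k : ℕ, orderOf (g * x0 * g⁻¹) = p ^ k := by
    obtain ⟨k, hk⟩ := hx
    refine ⟨k, ?_⟩
    rw [← hk, ← MulAut.conj_apply]
    exact MulEquiv.orderOf_eq _ _
  obtain ⟨P, hPQ, hxP⟩ := hQ _ hord
  apply hPQ
  have h1 : x0 ∈ (g⁻¹ • P : Sylow p G) := by
    rw [mem_smul_iff, inv_inv]
    exact hxP
  have h2 := huniq _ h1
  rw [← h2, smul_inv_smul]

/-- a `p`-element normalizing a Sylow `p`-subgroup lies in it -/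
theorem mem_of_normalizes_p {p : ℕ} [Fact p.Prime] (S : Sylow p G) (n : G)
    (hn : n ∈ Subgroup.normalizer ((S : Subgroup G) : Set G)) (k : ℕ) (hk : orderOf n = p ^ k) :
    n ∈ (S : Subgroup G) := by
  have hyp : IsPGroup p (Subgroup.zpowers n) := by
    apply IsPGroup.of_card (n := k)
    rw [Nat.card_zpowers, hk]
  have hnorm : Subgroup.zpowers n ≤ Subgroup.normalizer ((S : Subgroup G) : Set G) := by
    rw [Subgroup.zpowers_le]
    exact hn
  have hsup : IsPGroup p ((S : Subgroup G) ⊔ Subgroup.zpowers n : Subgroup G) :=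
    IsPGroup.to_sup_of_normal_left' S.2 hyp hnorm
  have := S.is_maximal' hsup le_sup_left
  have hle : Subgroup.zpowers n ≤ (S : Subgroup G) := by
    rw [← this]
    exact le_sup_right
  exact hle (Subgroup.mem_zpowers n)

variable {A N : Subgroup G} {z : G}

/-- two distinct Sylow `2`-subgroups inside `N` containing all `2`-elements of `A` -/
theorem two_sylows (h : Setup A N z) (hnp : ∀ k : ℕ, Nat.card A ≠ 2 ^ k) :
    ∃ S1 S2 : Sylow 2 G, S1 ≠ S2 ∧ ∀ a ∈ A, (∃ k : ℕ, a ^ 2 ^ k = 1) → a ∈ S1 ∧ a ∈ S2 := by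
  classical
  have hA0 : Nat.card A ≠ 0 := Nat.card_pos.ne'
  obtain ⟨SN⟩ := (Sylow.nonempty : Nonempty (Sylow 2 N))
  have hcardSN : Nat.card ((SN : Subgroup N).map N.subtype) = 2 ^ (Nat.card G).factorization 2 := by
    rw [Subgroup.card_map_of_injective N.subtype_injective, Sylow.card_eq_multiplicity, h.cardN,
      Nat.factorization_mul two_ne_zero hA0, h.part]
    simp [Nat.Prime.factorization_self Nat.prime_two, add_comm]
  set S1 : Sylow 2 G := Sylow.ofCard _ hcardSN with hS1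
  have hS1N : (S1 : Subgroup G) ≤ N := by
    rw [hS1, Sylow.coe_ofCard]
    exact Subgroup.map_subtype_le _
  -- an element of odd prime order in `A`
  obtain ⟨r, hr, hrA, hr2⟩ : ∃ r : ℕ, r.Prime ∧ r ∣ Nat.card A ∧ r ≠ 2 := by
    by_contra hcon
    push Not at hcon
    have := Nat.eq_prime_pow_of_unique_prime_dvd hA0 (p := 2) (fun {d} hd hdA => hcon d hd hdA)
    exact hnp _ this
  haveI := Fact.mk hr
  obtain ⟨t', ht'⟩ := exists_prime_orderOf_dvd_card' (G := A) r hrA
  set t : G := (t' : G) with ht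
  have htA : t ∈ A := t'.2
  have hordt : orderOf t = r := by rw [ht, Subgroup.orderOf_coe, ht']
  have htN : t ∈ N := h.le htA
  set S2 : Sylow 2 G := t • S1 with hS2
  have hS2N : (S2 : Subgroup G) ≤ N := by
    intro x hx
    have hx' : x ∈ (t • S1 : Sylow 2 G) := hx
    rw [mem_smul_iff] at hx'
    have := hS1N hx'
    have e : x = t * (t⁻¹ * x * t) * t⁻¹ := by group
    rw [e]
    exact N.mul_mem (N.mul_mem htN this) (N.inv_mem htN)
  refine ⟨S1, S2, ?_, ?_⟩
  · intro heq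
    have hnorm : t ∈ Subgroup.normalizer ((S1 : Subgroup G) : Set G) :=
      Sylow.smul_eq_iff_mem_normalizer.mp heq.symm
    -- an element of `S1` outside `A`
    have hex : ∃ w ∈ (S1 : Subgroup G), w ∉ A := by
      by_contra hcon
      push Not at hcon
      have hle : (S1 : Subgroup G) ≤ A := hcon
      have hdvd := Subgroup.card_dvd_of_le hle
      rw [Sylow.card_eq_multiplicity, h.part] at hdvd
      have := (Nat.Prime.pow_dvd_iff_le_factorization Nat.prime_two hA0).1 hdvd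
      omega
    obtain ⟨w, hwS, hwA⟩ := hex
    have hwN := hS1N hwS
    have h1 : t * w * t⁻¹ ∈ (S1 : Subgroup G) :=
      (Subgroup.mem_set_normalizer_iff.1 hnorm w).1 hwS
    have h2 : w * t⁻¹ * w⁻¹ = t := by
      rw [h.inv w hwN hwA _ (A.inv_mem htA), inv_inv]
    have h3 : t * t = (t * w * t⁻¹) * w⁻¹ := by
      calc t * t = t * (w * t⁻¹ * w⁻¹) := by rw [h2]
        _ = (t * w * t⁻¹) * w⁻¹ := by group
    have h4 : t * t ∈ (S1 : Subgroup G) := by
      rw [h3]
      exact Subgroup.mul_mem _ h1 (Subgroup.inv_mem _ hwS)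
    obtain ⟨k, hk⟩ := S1.2 ⟨t * t, h4⟩
    have hk' : (t * t) ^ 2 ^ k = 1 := congrArg Subtype.val hk
    rw [← pow_two, ← pow_mul] at hk'
    have hdvd := orderOf_dvd_of_pow_eq_one hk'
    rw [hordt, ← pow_succ'] at hdvd
    have := (Nat.prime_dvd_prime_iff_eq hr Nat.prime_two).mp (hr.dvd_of_dvd_pow hdvd)
    exact hr2 this
  · intro a haA ⟨k, hk⟩
    have hnormA := h.le_normalizer_zpowers a haA
    exact ⟨mem_of_normalized S1 a (hS1N.trans hnormA) k hk,
      mem_of_normalized S2 a (hS2N.trans hnormA) k hk⟩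

/-- Lemma A: if `|A|` is not a power of `2`, every Sylow `2`-subgroup is redundant. -/
theorem redundant (h : Setup A N z) (hnp : ∀ k : ℕ, Nat.card A ≠ 2 ^ k)
    (hconj : ∀ x : G, (∃ k : ℕ, orderOf x = 2 ^ k) → ∃ m : G, m⁻¹ * x * m ∈ A)
    (Q : Sylow 2 G) (x : G) (hx : ∃ k : ℕ, orderOf x = 2 ^ k) :
    ∃ P : Sylow 2 G, P ≠ Q ∧ x ∈ P := by
  obtain ⟨S1, S2, hne, hmem⟩ := two_sylows h hnp
  obtain ⟨m, hm⟩ := hconj x hx
  have h2 : ∃ k : ℕ, (m⁻¹ * x * m) ^ 2 ^ k = 1 := by
    obtain ⟨k, hk⟩ := hx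
    refine ⟨k, ?_⟩
    have : orderOf (m⁻¹ * x * m) = orderOf x := by
      have := MulEquiv.orderOf_eq (MulAut.conj m⁻¹) x
      rwa [MulAut.conj_apply, inv_inv] at this
    rw [← hk, ← this]
    exact pow_orderOf_eq_one _
  obtain ⟨h1, h2'⟩ := hmem _ hm h2
  by_cases hQ : (m • S1 : Sylow 2 G) = Q
  · refine ⟨m • S2, ?_, ?_⟩
    · intro h'
      apply hne
      have := h'.trans hQ.symm
      exact (smul_left_cancel m this).symm
    · rw [mem_smul_iff]; exact h2'
  · exact ⟨m • S1, hQ, by rw [mem_smul_iff]; exact h1⟩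

/-- Lemma B: if `|A|` is a power of `2`, a generator of `A` lies in a unique Sylow `2`-subgroup. -/
theorem unique_of_pow (h : Setup A N z) (k : ℕ) (hk : Nat.card A = 2 ^ k) :
    ∃ (Q0 : Sylow 2 G) (x0 : G), (∃ j : ℕ, orderOf x0 = 2 ^ j) ∧
      ∀ P : Sylow 2 G, x0 ∈ P → P = Q0 := by
  have hfac : (Nat.card G).factorization 2 = k + 1 := by
    rw [h.part, hk, Nat.Prime.factorization_pow Nat.prime_two]
    simp
  have hcardN : Nat.card N = 2 ^ (Nat.card G).factorization 2 := by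
    rw [hfac, h.cardN, hk, pow_succ']
  obtain ⟨a, ha⟩ := h.cyc.exists_generator
  have hord : orderOf a = Nat.card A := orderOf_eq_card_of_forall_mem_zpowers ha
  refine ⟨Sylow.ofCard N hcardN, (a : G), ⟨k, by rw [Subgroup.orderOf_coe, hord, hk]⟩, ?_⟩
  intro P haP
  apply Sylow.ext
  rw [Sylow.coe_ofCard]
  have hAP : A ≤ (P : Subgroup G) := by
    intro b hb
    obtain ⟨i, hi⟩ := ha ⟨b, hb⟩
    have : b = (a : G) ^ i := by
      have := congrArg Subtype.val hi
      simpa using this.symm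
    rw [this]
    exact Subgroup.zpow_mem _ haP i
  have hidx : (A.subgroupOf (P : Subgroup G)).index = 2 := by
    have h1 := Subgroup.card_mul_index (A.subgroupOf (P : Subgroup G))
    rw [Nat.card_congr (Subgroup.subgroupOfEquivOfLe hAP).toEquiv, Sylow.card_eq_multiplicity,
      hfac, hk, pow_succ'] at h1
    have h2 : 0 < 2 ^ k := by positivity
    nlinarith
  have hnormal := Subgroup.normal_of_index_eq_two hidx
  have hle : (P : Subgroup G) ≤ N := by
    rw [← h.norm]
    exact (Subgroup.normal_subgroupOf_iff_le_normalizer hAP).mp hnormal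
  apply Subgroup.eq_of_le_of_card_ge hle
  rw [hcardN, Sylow.card_eq_multiplicity]

/-- a Sylow `2`-subgroup inside `N` -/
theorem exists_sylow_le (h : Setup A N z) : ∃ S1 : Sylow 2 G, (S1 : Subgroup G) ≤ N := by
  have hA0 : Nat.card A ≠ 0 := Nat.card_pos.ne'
  obtain ⟨SN⟩ := (Sylow.nonempty : Nonempty (Sylow 2 N))
  have hcardSN : Nat.card ((SN : Subgroup N).map N.subtype) = 2 ^ (Nat.card G).factorization 2 := by
    rw [Subgroup.card_map_of_injective N.subtype_injective, Sylow.card_eq_multiplicity, h.cardN,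
      Nat.factorization_mul two_ne_zero hA0, h.part]
    simp [Nat.Prime.factorization_self Nat.prime_two, add_comm]
  refine ⟨Sylow.ofCard _ hcardSN, ?_⟩
  rw [Sylow.coe_ofCard]
  exact Subgroup.map_subtype_le _

/-- an element of `A` squaring to `z` -/
theorem exists_sq_eq_z (h : Setup A N z) : ∃ t ∈ A, t * t = z := by
  obtain ⟨a, ha⟩ := h.cyc.exists_generator
  have hord : orderOf a = Nat.card A := orderOf_eq_card_of_forall_mem_zpowers ha
  obtain ⟨m, hm⟩ := h.four
  have h0 : Nat.card A ≠ 0 := Nat.card_pos.ne'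
  have hm0 : m ≠ 0 := by
    intro h'
    rw [h', mul_zero] at hm
    exact h0 hm
  have hdvd : m ∣ orderOf a := by
    rw [hord, hm]
    exact Dvd.intro_left _ rfl
  have h1 : orderOf (a ^ m) = 4 := by
    rw [orderOf_pow_of_dvd hm0 hdvd, hord, hm, Nat.mul_div_cancel _ (Nat.pos_of_ne_zero hm0)]
  set t : G := ((a ^ m : A) : G) with ht
  have htA : t ∈ A := (a ^ m).2
  have hto : orderOf t = 4 := by rw [ht, Subgroup.orderOf_coe, h1]
  refine ⟨t, htA, ?_⟩
  have h4 : t ^ 4 = 1 := by rw [← hto]; exact pow_orderOf_eq_one t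
  have : (t * t) * (t * t) = 1 := by
    rw [← h4]
    norm_num [pow_succ, mul_assoc]
  rcases h.invol (t * t) (Subgroup.mul_mem _ htA htA) this with h' | h'
  · exfalso
    have h2 : t ^ 2 = 1 := by rw [pow_two]; exact h'
    have := orderOf_dvd_of_pow_eq_one h2
    rw [hto] at this
    omega
  · exact h'

/-- Lemma A': every `2`-element is conjugate into `A` as soon as the square roots of `z` are. -/
theorem exists_conj_mem (h : Setup A N z)
    (hz : ∀ w : G, w * w = z → ∃ m : G, m⁻¹ * w * m ∈ A)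
    (x : G) (hx : ∃ k : ℕ, orderOf x = 2 ^ k) : ∃ m : G, m⁻¹ * x * m ∈ A := by
  obtain ⟨S1, hS1⟩ := exists_sylow_le h
  obtain ⟨k, hk⟩ := hx
  have hp : IsPGroup 2 (Subgroup.zpowers x) := by
    apply IsPGroup.of_card (n := k)
    rw [Nat.card_zpowers, hk]
  obtain ⟨P, hP⟩ := hp.exists_le_sylow
  obtain ⟨g, rfl⟩ := MulAction.exists_smul_eq G S1 P
  have hxP : x ∈ (g • S1 : Sylow 2 G) := hP (Subgroup.mem_zpowers x)
  rw [mem_smul_iff] at hxP
  have hwN := hS1 hxP
  by_cases hwA : g⁻¹ * x * g ∈ A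
  · exact ⟨g, hwA⟩
  · obtain ⟨m, hm⟩ := hz _ (h.sq _ hwN hwA)
    refine ⟨g * m, ?_⟩
    have e : (g * m)⁻¹ * x * (g * m) = m⁻¹ * (g⁻¹ * x * g) * m := by group
    rw [e]
    exact hm

/-- Lemma TI: if centralizers of nontrivial `p`-elements are abelian, no Sylow `p`-subgroup is
redundant. -/
theorem not_redundant_of_abelian {p : ℕ} [Fact p.Prime]
    (hab : ∀ x : G, x ≠ 1 → (∃ k : ℕ, orderOf x = p ^ k) →
      ∀ a b : G, a * x = x * a → b * x = x * b → a * b = b * a) :
    ¬ ∃ Q : Sylow p G, ∀ x : G, (∃ k : ℕ, orderOf x = p ^ k) → ∃ P : Sylow p G, P ≠ Q ∧ x ∈ P := by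
  obtain ⟨P0⟩ := (Sylow.nonempty : Nonempty (Sylow p G))
  by_cases hP0 : Nontrivial (P0 : Subgroup G)
  · haveI := P0.2.center_nontrivial
    obtain ⟨x0', hx0'⟩ := exists_ne (1 : Subgroup.center (P0 : Subgroup G))
    have hx0c : ∀ n : G, n ∈ (P0 : Subgroup G) → n * (x0' : G) = (x0' : G) * n := by
      intro n hn
      have := Subgroup.mem_center_iff.1 x0'.2 ⟨n, hn⟩
      exact congrArg Subtype.val this
    have hx01 : ((x0' : (P0 : Subgroup G)) : G) ≠ 1 := by
      intro h'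
      apply hx0'
      apply Subtype.ext
      apply Subtype.ext
      exact h'
    have hx0P : ((x0' : (P0 : Subgroup G)) : G) ∈ (P0 : Subgroup G) := (x0' : (P0 : Subgroup G)).2
    have hx0ord : ∃ k : ℕ, orderOf ((x0' : (P0 : Subgroup G)) : G) = p ^ k := by
      obtain ⟨k, hk⟩ := (IsPGroup.iff_orderOf.1 P0.2) (x0' : (P0 : Subgroup G))
      exact ⟨k, by rw [Subgroup.orderOf_coe, hk]⟩
    set x0 : G := ((x0' : (P0 : Subgroup G)) : G) with hx0
    apply not_redundant_of_unique P0 x0 hx0ord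
    intro P' hxP'
    haveI : Nontrivial (P' : Subgroup G) := ⟨⟨⟨x0, hxP'⟩, 1, fun h' => hx01 (congrArg Subtype.val h')⟩⟩
    haveI := P'.2.center_nontrivial
    obtain ⟨y', hy'⟩ := exists_ne (1 : Subgroup.center (P' : Subgroup G))
    have hyc : ∀ n : G, n ∈ (P' : Subgroup G) → n * (y' : G) = (y' : G) * n := by
      intro n hn
      have := Subgroup.mem_center_iff.1 y'.2 ⟨n, hn⟩
      exact congrArg Subtype.val this
    have hy1 : ((y' : (P' : Subgroup G)) : G) ≠ 1 := by
      intro h'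
      apply hy'
      apply Subtype.ext
      apply Subtype.ext
      exact h'
    have hyord : ∃ k : ℕ, orderOf ((y' : (P' : Subgroup G)) : G) = p ^ k := by
      obtain ⟨k, hk⟩ := (IsPGroup.iff_orderOf.1 P'.2) (y' : (P' : Subgroup G))
      exact ⟨k, by rw [Subgroup.orderOf_coe, hk]⟩
    set y : G := ((y' : (P' : Subgroup G)) : G) with hy
    have hyx : y * x0 = x0 * y := (hyc x0 hxP').symm
    have hcomm : ∀ n ∈ (P0 : Subgroup G), ∀ m ∈ (P' : Subgroup G), n * m = m * n := by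
      intro n hn m hm
      have h1 : n * y = y * n := hab x0 hx01 hx0ord n y (hx0c n hn) hyx
      exact hab y hy1 hyord n m h1 (hyc m hm)
    have hle : (P0 : Subgroup G) ≤ (P' : Subgroup G) := by
      intro n hn
      obtain ⟨k, hk⟩ := (IsPGroup.iff_orderOf.1 P0.2) ⟨n, hn⟩
      rw [← Subgroup.orderOf_coe] at hk
      refine mem_of_normalizes_p P' n ?_ k hk
      rw [Subgroup.mem_set_normalizer_iff]
      intro m
      constructor
      · intro hm
        have := hcomm n hn m hm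
        rw [this, mul_inv_cancel_right]
        exact hm
      · intro hm
        have h2 := hcomm n hn _ hm
        have e : m = n * m * n⁻¹ := by
          calc m = n⁻¹ * ((n * m * n⁻¹) * n) := by group
            _ = n⁻¹ * (n * (n * m * n⁻¹)) := by rw [h2]
            _ = n * m * n⁻¹ := by group
        rw [e]
        exact hm
    symm
    apply Sylow.ext
    apply Subgroup.eq_of_le_of_card_ge hle
    rw [Sylow.card_eq_multiplicity, Sylow.card_eq_multiplicity]
  · rw [Subgroup.nontrivial_iff_ne_bot, not_not] at hP0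
    apply not_redundant_of_unique P0 1 ⟨0, by simp⟩
    intro P' _
    apply Sylow.ext
    rw [hP0]
    apply Subgroup.eq_bot_of_card_eq
    have h1 : Nat.card (P0 : Subgroup G) = 1 := by rw [hP0]; exact Subgroup.card_bot
    rw [Sylow.card_eq_multiplicity] at h1 ⊢
    exact h1

/-- Lemma A, final form -/
theorem redundant' (h : Setup A N z) (hnp : ∀ k : ℕ, Nat.card A ≠ 2 ^ k)
    (hz : ∀ w : G, w * w = z → ∃ m : G, m⁻¹ * w * m ∈ A)
    (Q : Sylow 2 G) (x : G) (hx : ∃ k : ℕ, orderOf x = 2 ^ k) :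
    ∃ P : Sylow 2 G, P ≠ Q ∧ x ∈ P :=
  redundant h hnp (exists_conj_mem h hz) Q x hx

end Cfsg.Agent.H9.RedundantSylow
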