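import Mathlib
import Cfsg.Prelude.Def_Characters
import Cfsg.Prelude.Def_ParabolicCharacters
import Cfsg.Agent.Lib.helper3.IndFun

set_option autoImplicit false

/-!
# Principal series of SL₂(F): the functions induced from the Borel subgroup
-/

namespace Cfsg.Agent.H9.PrincipalSeries

open Cfsg Matrix Cfsg.Agent.Lib.helper3.IndFun
open scoped ComplexConjugate

section general

variable {G : Type*} [Group G] [Fintype G]

/-- Induced function computed through a set of coset representatives. -/
theorem indFun_eq_sum_reps (H : Subgroup G) (θ : H → ℂ) (hθ : IsClassFunction H θ)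
    {ι : Type*} [Fintype ι] (T : ι → G)
    (hT : Function.Bijective (fun i => (T i : G ⧸ H))) (g : G) :
    indFun H θ g = ∑ i, extendByZero H θ ((T i)⁻¹ * g * T i) := by
  classical
  have hf : ∀ (x : G) (h : H), extendByZero H θ ((x * h)⁻¹ * g * (x * h))
      = extendByZero H θ (x⁻¹ * g * x) := by
    intro x h
    have e : (x * (h : G))⁻¹ * g * (x * h) = (h : G)⁻¹ * (x⁻¹ * g * x) * h := by group
    rw [e]
    by_cases hm : x⁻¹ * g * x ∈ H
    · have hm' : (h : G)⁻¹ * (x⁻¹ * g * x) * h ∈ H :=
        H.mul_mem (H.mul_mem (H.inv_mem h.2) hm) h.2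
      rw [extendByZero_mem H θ hm', extendByZero_mem H θ hm]
      have := hθ ⟨_, hm⟩ h⁻¹
      rw [← this]
      congr 1
      apply Subtype.ext
      simp
    · have hm' : (h : G)⁻¹ * (x⁻¹ * g * x) * h ∉ H := by
        intro hh
        apply hm
        have := H.mul_mem (H.mul_mem h.2 hh) (H.inv_mem h.2)
        convert this using 1
        group
      rw [extendByZero_not_mem H θ hm', extendByZero_not_mem H θ hm]
  let e : ι × H → G := fun p => T p.1 * p.2
  have he : Function.Bijective e := by
    constructor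
    · rintro ⟨i, h⟩ ⟨j, h'⟩ hij
      simp only [e] at hij
      have h1 : ((T i : G) : G ⧸ H) = (T j : G) := by
        rw [QuotientGroup.eq]
        have : (T i)⁻¹ * T j = h * (h' : G)⁻¹ := by
          rw [eq_mul_inv_iff_mul_eq, mul_assoc, ← hij]; group
        rw [this]
        exact H.mul_mem h.2 (H.inv_mem h'.2)
      have h2 : i = j := hT.1 h1
      subst h2
      have h3 : (h : G) = h' := mul_left_cancel hij
      rw [Subtype.ext h3]
    · intro x
      obtain ⟨i, hi⟩ := hT.2 (x : G ⧸ H)
      have h1 : (T i)⁻¹ * x ∈ H := by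
        rw [← QuotientGroup.eq]; exact hi
      exact ⟨(i, ⟨_, h1⟩), by simp [e]⟩
  rw [indFun_apply, ← he.sum_comp (fun x => extendByZero H θ (x⁻¹ * g * x)),
    Fintype.sum_prod_type]
  simp only [e, hf]
  rw [Finset.sum_comm]
  simp only [Finset.sum_const, Finset.card_univ, nsmul_eq_mul]
  rw [← Nat.card_eq_fintype_card]
  have hH : (Nat.card H : ℂ) ≠ 0 := card_ne_zero_complex H
  field_simp

end general

section sl2

variable {F : Type*} [Field F]

local notation "SL2" => Matrix.SpecialLinearGroup (Fin 2) F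

theorem mul_entries (g h : SL2) (i j : Fin 2) :
    (g * h).1 i j = g.1 i 0 * h.1 0 j + g.1 i 1 * h.1 1 j := by
  change (g.1 * h.1) i j = _
  rw [Matrix.mul_apply, Fin.sum_univ_two]

theorem inv_entries (g : SL2) :
    (g⁻¹).1 0 0 = g.1 1 1 ∧ (g⁻¹).1 0 1 = -g.1 0 1 ∧ (g⁻¹).1 1 0 = -g.1 1 0 ∧
      (g⁻¹).1 1 1 = g.1 0 0 := by
  have : (g⁻¹).1 = adjugate g.1 := Matrix.SpecialLinearGroup.coe_inv g
  rw [this, Matrix.adjugate_fin_two]
  simp

theorem det_entries (g : SL2) : g.1 0 0 * g.1 1 1 - g.1 0 1 * g.1 1 0 = 1 := by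
  have := g.2
  rw [Matrix.det_fin_two] at this
  exact this

theorem ext_entries {g h : SL2} (h00 : g.1 0 0 = h.1 0 0) (h01 : g.1 0 1 = h.1 0 1)
    (h10 : g.1 1 0 = h.1 1 0) (h11 : g.1 1 1 = h.1 1 1) : g = h := by
  apply Subtype.ext
  ext i j
  fin_cases i <;> fin_cases j <;> assumption

/-- the Borel subgroup -/
abbrev Bor : Subgroup SL2 :=
  (Cfsg.upperTriangularGL 2 F).comap Matrix.SpecialLinearGroup.toGL

theorem mem_Bor (g : SL2) : g ∈ (Bor : Subgroup SL2) ↔ g.1 1 0 = 0 := by
  change (g.1).BlockTriangular id ↔ _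
  constructor
  · intro h
    exact h (show (id (0 : Fin 2) : Fin 2) < id 1 by decide)
  · intro h i j hij
    fin_cases i <;> fin_cases j
    · exact absurd hij (by decide)
    · exact absurd hij (by decide)
    · exact h
    · exact absurd hij (by decide)

/-- lower unitriangular representatives -/
def xc (c : F) : SL2 := ⟨!![1, 0; c, 1], by simp [Matrix.det_fin_two]⟩

/-- the Weyl element -/
def ww : SL2 := ⟨!![0, -1; 1, 0], by simp [Matrix.det_fin_two]⟩

/-- coset representatives of the Borel subgroup -/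
def reps : Option F → SL2
  | some c => xc c
  | none => ww

theorem conj_xc (g : SL2) (c : F) :
    ((xc c)⁻¹ * g * xc c).1 1 0 = g.1 1 0 + (g.1 1 1 - g.1 0 0) * c - g.1 0 1 * c ^ 2 ∧
    ((xc c)⁻¹ * g * xc c).1 0 0 = g.1 0 0 + g.1 0 1 * c := by
  obtain ⟨e00, e01, e10, e11⟩ := inv_entries (xc c)
  refine ⟨?_, ?_⟩
  · rw [mul_entries, mul_entries, mul_entries, e10, e11]
    simp [xc]
    ring
  · rw [mul_entries, mul_entries, mul_entries, e00, e01]
    simp [xc]

theorem conj_ww (g : SL2) :
    ((ww : SL2)⁻¹ * g * ww).1 1 0 = -g.1 0 1 ∧ ((ww : SL2)⁻¹ * g * ww).1 0 0 = g.1 1 1 := by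
  obtain ⟨e00, e01, e10, e11⟩ := inv_entries (ww : SL2)
  refine ⟨?_, ?_⟩
  · rw [mul_entries, mul_entries, mul_entries, e10, e11]
    simp [ww]
  · rw [mul_entries, mul_entries, mul_entries, e00, e01]
    simp [ww]

theorem reps_bijective : Function.Bijective
    (fun i : Option F => ((reps i : SL2) : SL2 ⧸ (Bor : Subgroup SL2))) := by
  constructor
  · intro i j hij
    simp only at hij
    rw [QuotientGroup.eq, mem_Bor] at hij
    rcases i with _ | c <;> rcases j with _ | d
    · rfl
    · exfalso
      obtain ⟨e00, e01, e10, e11⟩ := inv_entries (ww : SL2)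
      rw [mul_entries] at hij
      simp only [reps] at hij
      rw [e10, e11] at hij
      simp [ww, xc] at hij
    · exfalso
      obtain ⟨e00, e01, e10, e11⟩ := inv_entries (xc c)
      rw [mul_entries] at hij
      simp only [reps] at hij
      rw [e10, e11] at hij
      simp [ww, xc] at hij
    · obtain ⟨e00, e01, e10, e11⟩ := inv_entries (xc c)
      rw [mul_entries] at hij
      simp only [reps] at hij
      rw [e10, e11] at hij
      simp [xc] at hij
      congr 1
      linear_combination -hij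
  · intro q
    obtain ⟨g, rfl⟩ := QuotientGroup.mk_surjective q
    by_cases h0 : g.1 0 0 = 0
    · refine ⟨none, ?_⟩
      simp only
      rw [QuotientGroup.eq, mem_Bor]
      obtain ⟨e00, e01, e10, e11⟩ := inv_entries (ww : SL2)
      rw [mul_entries]
      simp only [reps]
      rw [e10, e11]
      simp [ww, h0]
    · refine ⟨some (g.1 1 0 / g.1 0 0), ?_⟩
      simp only
      rw [QuotientGroup.eq, mem_Bor]
      obtain ⟨e00, e01, e10, e11⟩ := inv_entries (xc (g.1 1 0 / g.1 0 0))
      rw [mul_entries]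
      simp only [reps]
      rw [e10, e11]
      simp [xc]
      field_simp
      ring

/-- the linear character of the Borel subgroup attached to a multiplicative character -/
noncomputable def theta (α : MulChar F ℂ) : ↥(Bor : Subgroup SL2) → ℂ :=
  fun b => α (((b : SL2) : Matrix (Fin 2) (Fin 2) F) 0 0)

theorem theta_isClassFunction (α : MulChar F ℂ) : IsClassFunction _ (theta α) := by
  intro g h
  unfold theta
  congr 1
  have hg : (g : SL2).1 1 0 = 0 := (mem_Bor _).mp g.2
  have hh : (h : SL2).1 1 0 = 0 := (mem_Bor _).mp h.2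
  obtain ⟨e00, e01, e10, e11⟩ := inv_entries (h : SL2)
  have hdet := det_entries (h : SL2)
  rw [hh, mul_zero, sub_zero] at hdet
  change ((h : SL2) * g * (h : SL2)⁻¹).1 0 0 = _
  rw [mul_entries, mul_entries, mul_entries, e00, e10, hh, hg]
  linear_combination (g : SL2).1 0 0 * hdet

variable [Fintype F] [DecidableEq F]

/-- explicit formula for the principal series function -/
theorem R_apply (α : MulChar F ℂ) (g : SL2) :
    indFun (Bor : Subgroup SL2) (theta α) g =
      (∑ c : F, if g.1 1 0 + (g.1 1 1 - g.1 0 0) * c - g.1 0 1 * c ^ 2 = 0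
        then α (g.1 0 0 + g.1 0 1 * c) else 0) + (if g.1 0 1 = 0 then α (g.1 1 1) else 0) := by
  rw [indFun_eq_sum_reps _ _ (theta_isClassFunction α) reps reps_bijective, Fintype.sum_option,
    add_comm]
  congr 1
  · apply Finset.sum_congr rfl
    intro c _
    simp only [reps]
    obtain ⟨h1, h2⟩ := conj_xc g c
    by_cases h : g.1 1 0 + (g.1 1 1 - g.1 0 0) * c - g.1 0 1 * c ^ 2 = 0
    · have hm : (xc c)⁻¹ * g * xc c ∈ (Bor : Subgroup SL2) := by rw [mem_Bor, h1]; exact h
      rw [if_pos h, extendByZero_mem _ _ hm]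
      unfold theta
      simp only
      rw [h2]
    · have hm : (xc c)⁻¹ * g * xc c ∉ (Bor : Subgroup SL2) := by rw [mem_Bor, h1]; exact h
      rw [if_neg h, extendByZero_not_mem _ _ hm]
  · simp only [reps]
    obtain ⟨h1, h2⟩ := conj_ww g
    by_cases h : g.1 0 1 = 0
    · have hm : (ww : SL2)⁻¹ * g * ww ∈ (Bor : Subgroup SL2) := by
        rw [mem_Bor, h1, h, neg_zero]
      rw [if_pos h, extendByZero_mem _ _ hm]
      unfold theta
      simp only
      rw [h2]
    · have hm : (ww : SL2)⁻¹ * g * ww ∉ (Bor : Subgroup SL2) := by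
        rw [mem_Bor, h1, neg_eq_zero]; exact h
      rw [if_neg h, extendByZero_not_mem _ _ hm]

end sl2

end Cfsg.Agent.H9.PrincipalSeries
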