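import Mathlib
import Cfsg.Agent.H9.PrincipalSeries

set_option autoImplicit false

/-!
# Inner products of principal series functions of SL₂(F)
-/

namespace Cfsg.Agent.H9.PrincipalSeries

open Cfsg Matrix Cfsg.Agent.Lib.helper3.IndFun
open scoped ComplexConjugate

variable {F : Type*} [Field F]

local notation "SL2" => Matrix.SpecialLinearGroup (Fin 2) F

/-- upper triangular elements -/
def mkB (p : Fˣ × F) : ↥(Bor : Subgroup SL2) :=
  ⟨⟨!![(p.1 : F), p.2; 0, ((p.1⁻¹ : Fˣ) : F)], by simp [Matrix.det_fin_two]⟩,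
    (mem_Bor _).mpr (by simp)⟩

theorem mkB_bijective : Function.Bijective (mkB (F := F)) := by
  constructor
  · rintro ⟨a, x⟩ ⟨b, y⟩ h
    have h1 := congrArg (fun t : ↥(Bor : Subgroup SL2) => (t : SL2).1 0 0) h
    have h2 := congrArg (fun t : ↥(Bor : Subgroup SL2) => (t : SL2).1 0 1) h
    simp [mkB] at h1 h2
    rw [Prod.mk.injEq]
    exact ⟨Units.ext h1, h2⟩
  · intro b
    have hb : (b : SL2).1 1 0 = 0 := (mem_Bor _).mp b.2
    have hdet := det_entries (b : SL2)
    rw [hb, mul_zero, sub_zero] at hdet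
    refine ⟨(Units.mkOfMulEqOne _ _ hdet, (b : SL2).1 0 1), ?_⟩
    apply Subtype.ext
    apply ext_entries
    · simp [mkB]
    · simp [mkB]
    · simp [mkB, hb]
    · change ((Units.mkOfMulEqOne _ _ hdet)⁻¹ : Fˣ).val = _
      rfl

variable [Fintype F] [DecidableEq F]

theorem sum_units (χ : MulChar F ℂ) : ∑ u : Fˣ, χ (u : F) = ∑ a : F, χ a := by
  classical
  have h0 := Finset.sum_map Finset.univ ⟨((↑) : Fˣ → F), Units.val_injective⟩ (fun a => χ a)
  simp only [Function.Embedding.coeFn_mk] at h0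
  rw [← h0]
  apply Finset.sum_subset (Finset.subset_univ _)
  intro a _ ha
  apply MulChar.map_nonunit
  intro hu
  apply ha
  rw [Finset.mem_map]
  exact ⟨hu.unit, Finset.mem_univ _, rfl⟩

theorem sum_units_eq (χ : MulChar F ℂ) [Decidable (χ = 1)] :
    ∑ u : Fˣ, χ (u : F) = if χ = 1 then ((Fintype.card F : ℂ) - 1) else 0 := by
  rw [sum_units]
  split_ifs with h
  · rw [h, MulChar.sum_one_eq_card_units, Fintype.card_units]
    have : 1 ≤ Fintype.card F := Fintype.card_pos
    push_cast [Nat.cast_sub this]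
    ring
  · exact MulChar.sum_eq_zero_of_ne_one h

theorem inner_sum (φ : F → ℂ) (a : F) (ha : a ≠ 0) :
    ∑ x : F, ((∑ c : F, if (0 : F) + (a⁻¹ - a) * c - x * c ^ 2 = 0 then φ (a + x * c) else 0)
      + (if x = 0 then φ a⁻¹ else 0)) = (Fintype.card F : ℂ) * (φ a + φ a⁻¹) := by
  rw [Finset.sum_add_distrib, Finset.sum_comm]
  have h1 : ∀ c : F, (∑ x : F, if (0 : F) + (a⁻¹ - a) * c - x * c ^ 2 = 0 then φ (a + x * c) else 0)
      = φ a⁻¹ + (if c = 0 then ((Fintype.card F : ℂ) * φ a - φ a⁻¹) else 0) := by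
    intro c
    by_cases hc : c = 0
    · subst hc
      simp
    · rw [if_neg hc, add_zero]
      have : ∀ x : F, (if (0 : F) + (a⁻¹ - a) * c - x * c ^ 2 = 0 then φ (a + x * c) else 0)
          = if x = (a⁻¹ - a) / c then φ a⁻¹ else 0 := by
        intro x
        have hiff : (0 : F) + (a⁻¹ - a) * c - x * c ^ 2 = 0 ↔ x = (a⁻¹ - a) / c := by
          rw [eq_div_iff hc]
          constructor
          · intro h
            have : c * (x * c - (a⁻¹ - a)) = 0 := by linear_combination -h
            rcases mul_eq_zero.mp this with h | h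
            · exact absurd h hc
            · linear_combination h
          · intro h
            linear_combination -c * h
        by_cases hx : x = (a⁻¹ - a) / c
        · rw [if_pos (hiff.mpr hx), if_pos hx]
          congr 1
          rw [hx, div_mul_cancel₀ _ hc]
          ring
        · rw [if_neg (fun h => hx (hiff.mp h)), if_neg hx]
      simp only [this]
      simp
  simp only [h1]
  rw [Finset.sum_add_distrib]
  simp
  ring

theorem card_Bor : Nat.card ↥(Bor : Subgroup SL2) = (Fintype.card F - 1) * Fintype.card F := by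
  rw [← Nat.card_eq_of_bijective _ (mkB_bijective (F := F)), Nat.card_prod, Nat.card_units,
    Nat.card_eq_fintype_card]

theorem conj_apply (β : MulChar F ℂ) (a : F) : conj (β a) = β⁻¹ a := by
  have := MulChar.star_apply' β a
  rw [← this]
  rfl

theorem classInner_R (α β : MulChar F ℂ) [Decidable (α = β)] [Decidable (α = β⁻¹)] :
    classInner (indFun (Bor : Subgroup SL2) (theta α)) (indFun (Bor : Subgroup SL2) (theta β)) =
      (if α = β then 1 else 0) + (if α = β⁻¹ then 1 else 0) := by
  classical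
  letI : Fintype ↥(Bor : Subgroup SL2) := Fintype.ofFinite _
  rw [frobenius_reciprocity _ _ _ (indFun_isClassFunction _ _), classInner_apply]
  rw [← mkB_bijective.sum_comp
    (fun b => theta α b * conj (indFun (Bor : Subgroup SL2) (theta β) (b : SL2))),
    Fintype.sum_prod_type]
  have hterm : ∀ (a : Fˣ) (x : F), theta α (mkB (a, x)) *
      conj (indFun (Bor : Subgroup SL2) (theta β) ((mkB (a, x) : ↥(Bor : Subgroup SL2)) : SL2))
      = α a * ((∑ c : F, if (0 : F) + ((a : F)⁻¹ - a) * c - x * c ^ 2 = 0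
          then conj (β ((a : F) + x * c)) else 0) + (if x = 0 then conj (β (a : F)⁻¹) else 0)) := by
    intro a x
    rw [R_apply]
    have e00 : ((mkB (a, x) : ↥(Bor : Subgroup SL2)) : SL2).1 0 0 = a := by simp [mkB]
    have e01 : ((mkB (a, x) : ↥(Bor : Subgroup SL2)) : SL2).1 0 1 = x := by simp [mkB]
    have e10 : ((mkB (a, x) : ↥(Bor : Subgroup SL2)) : SL2).1 1 0 = 0 := by simp [mkB]
    have e11 : ((mkB (a, x) : ↥(Bor : Subgroup SL2)) : SL2).1 1 1 = (a : F)⁻¹ := by simp [mkB]
    rw [e00, e01, e10, e11]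
    have : theta α (mkB (a, x)) = α a := by unfold theta; rw [e00]
    rw [this, map_add, map_sum]
    congr 2
    · apply Finset.sum_congr rfl
      intro c _
      rw [apply_ite conj, map_zero]
    · rw [apply_ite conj, map_zero]
  simp only [hterm]
  simp only [← Finset.mul_sum]
  have h2 : ∀ a : Fˣ, α a * ∑ x : F, ((∑ c : F, if (0 : F) + ((a : F)⁻¹ - a) * c - x * c ^ 2 = 0
          then conj (β ((a : F) + x * c)) else 0) + (if x = 0 then conj (β (a : F)⁻¹) else 0))
      = (Fintype.card F : ℂ) * ((α * β⁻¹) a + (α * β) a) := by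
    intro a
    rw [inner_sum (fun t => conj (β t)) (a : F) a.ne_zero]
    simp only [conj_apply, MulChar.mul_apply]
    rw [MulChar.inv_apply' β (a : F)⁻¹, inv_inv]
    ring
  simp only [h2]
  rw [← Finset.mul_sum, Finset.sum_add_distrib, sum_units_eq, sum_units_eq, card_Bor]
  have hq : 2 ≤ Fintype.card F := Fintype.one_lt_card
  have hq1 : ((Fintype.card F : ℂ) - 1) ≠ 0 := by
    have : (Fintype.card F : ℂ) ≠ 1 := by
      have : Fintype.card F ≠ 1 := by omega
      exact_mod_cast this
    exact sub_ne_zero.mpr this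
  have hq0 : (Fintype.card F : ℂ) ≠ 0 := by
    have : Fintype.card F ≠ 0 := by omega
    exact_mod_cast this
  have e1 : α * β⁻¹ = 1 ↔ α = β := mul_inv_eq_one
  have e2 : α * β = 1 ↔ α = β⁻¹ := mul_eq_one_iff_eq_inv
  push_cast [Nat.cast_sub (show 1 ≤ Fintype.card F by omega)]
  by_cases h1 : α = β <;> by_cases h2 : α = β⁻¹
  · rw [if_pos (e1.mpr h1), if_pos (e2.mpr h2), if_pos h1, if_pos h2]
    field_simp
  · rw [if_pos (e1.mpr h1), if_neg (fun h => h2 (e2.mp h)), if_pos h1, if_neg h2]
    field_simp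
    ring
  · rw [if_neg (fun h => h1 (e1.mp h)), if_pos (e2.mpr h2), if_neg h1, if_pos h2]
    field_simp
    ring
  · rw [if_neg (fun h => h1 (e1.mp h)), if_neg (fun h => h2 (e2.mp h)), if_neg h1, if_neg h2]
    simp

end Cfsg.Agent.H9.PrincipalSeries
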