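import Mathlib
import Cfsg.Agent.S2308
import Cfsg.Agent.H9.PrincipalSeriesInner
import Cfsg.Agent.Lib.helper3.TransferChar
import Cfsg.Agent.Lib.helper3.Irr9

set_option autoImplicit false

/-!
# Principal series functions of GL₂(F) and their inner products
-/

namespace Cfsg.Agent.H9.PrincipalSeriesGL

open Cfsg Matrix Cfsg.Agent.Lib.helper3.IndFun Cfsg.Agent.H9.PrincipalSeries Cfsg.Agent.S2308
open scoped ComplexConjugate

variable {F : Type*} [Field F]

local notation "GL2" => Matrix.GeneralLinearGroup (Fin 2) F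
local notation "BGL" => Cfsg.upperTriangularGL 2 F

theorem conj_some_diag (g : GL2) (c : F) :
    (((repsGL (some c))⁻¹ * g * repsGL (some c) : GL2) : Matrix (Fin 2) (Fin 2) F) 0 0
      = (g : Matrix (Fin 2) (Fin 2) F) 0 0 + (g : Matrix (Fin 2) (Fin 2) F) 0 1 * c ∧
    (((repsGL (some c))⁻¹ * g * repsGL (some c) : GL2) : Matrix (Fin 2) (Fin 2) F) 1 1
      = (g : Matrix (Fin 2) (Fin 2) F) 1 1 - (g : Matrix (Fin 2) (Fin 2) F) 0 1 * c := by
  rw [Units.val_mul, Units.val_mul, coe_inv_repsGL, coe_repsGL]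
  simp only [reps]
  rw [inv_xc, Matrix.mul_apply, Fin.sum_univ_two, Matrix.mul_apply, Matrix.mul_apply,
    Fin.sum_univ_two, Fin.sum_univ_two, Matrix.mul_apply, Fin.sum_univ_two, Matrix.mul_apply,
    Matrix.mul_apply, Fin.sum_univ_two, Fin.sum_univ_two]
  constructor
  · simp [xc]
  · simp [xc]
    ring

theorem conj_none_diag (g : GL2) :
    (((repsGL none)⁻¹ * g * repsGL none : GL2) : Matrix (Fin 2) (Fin 2) F) 0 0
      = (g : Matrix (Fin 2) (Fin 2) F) 1 1 ∧
    (((repsGL none)⁻¹ * g * repsGL none : GL2) : Matrix (Fin 2) (Fin 2) F) 1 1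
      = (g : Matrix (Fin 2) (Fin 2) F) 0 0 := by
  rw [Units.val_mul, Units.val_mul, coe_inv_repsGL, coe_repsGL]
  simp only [reps]
  rw [inv_ww, Matrix.mul_apply, Fin.sum_univ_two, Matrix.mul_apply, Matrix.mul_apply,
    Fin.sum_univ_two, Fin.sum_univ_two, Matrix.mul_apply, Fin.sum_univ_two, Matrix.mul_apply,
    Matrix.mul_apply, Fin.sum_univ_two, Fin.sum_univ_two]
  constructor
  · simp [ww]
  · simp [ww]

/-- the linear character of the upper triangular subgroup of GL₂ attached to two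
multiplicative characters -/
noncomputable def thetaGL (α β : MulChar F ℂ) : ↥BGL → ℂ :=
  fun b => α (((b : GL2) : Matrix (Fin 2) (Fin 2) F) 0 0) *
    β (((b : GL2) : Matrix (Fin 2) (Fin 2) F) 1 1)

theorem det_BGL (b : ↥BGL) :
    ((b : GL2) : Matrix (Fin 2) (Fin 2) F) 0 0 * ((b : GL2) : Matrix (Fin 2) (Fin 2) F) 1 1 ≠ 0 := by
  have hb : ((b : GL2) : Matrix (Fin 2) (Fin 2) F) 1 0 = 0 := (mem_BGL _).mp b.2
  have hdet : ((b : GL2) : Matrix (Fin 2) (Fin 2) F).det ≠ 0 := by
    have := (Matrix.GeneralLinearGroup.det (b : GL2)).ne_zero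
    simpa using this
  rw [Matrix.det_fin_two, hb, mul_zero, sub_zero] at hdet
  exact hdet

/-- first diagonal entry -/
noncomputable def d0 : ↥BGL →* Fˣ where
  toFun b := Units.mk0 (((b : GL2) : Matrix (Fin 2) (Fin 2) F) 0 0) (left_ne_zero_of_mul (det_BGL b))
  map_one' := by
    apply Units.ext
    simp
  map_mul' b b' := by
    apply Units.ext
    have hb : ((b' : GL2) : Matrix (Fin 2) (Fin 2) F) 1 0 = 0 := (mem_BGL _).mp b'.2
    change (((b : GL2) * (b' : GL2) : GL2) : Matrix (Fin 2) (Fin 2) F) 0 0 = _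
    rw [Units.val_mul, Matrix.mul_apply, Fin.sum_univ_two, hb, mul_zero, add_zero]
    rfl

/-- second diagonal entry -/
noncomputable def d1 : ↥BGL →* Fˣ where
  toFun b := Units.mk0 (((b : GL2) : Matrix (Fin 2) (Fin 2) F) 1 1) (right_ne_zero_of_mul (det_BGL b))
  map_one' := by
    apply Units.ext
    simp
  map_mul' b b' := by
    apply Units.ext
    have hb : ((b : GL2) : Matrix (Fin 2) (Fin 2) F) 1 0 = 0 := (mem_BGL _).mp b.2
    change (((b : GL2) * (b' : GL2) : GL2) : Matrix (Fin 2) (Fin 2) F) 1 1 = _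
    rw [Units.val_mul, Matrix.mul_apply, Fin.sum_univ_two, hb, zero_mul, zero_add]
    rfl

theorem thetaGL_isCharacter (α β : MulChar F ℂ) : IsCharacter ↥BGL (thetaGL α β) := by
  have := Cfsg.Agent.Lib.helper3.Lin.isCharacter_of_hom
    (((MulChar.toUnitHom α).comp d0) * ((MulChar.toUnitHom β).comp d1))
  convert this using 1
  funext b
  rw [MonoidHom.mul_apply, Units.val_mul, MonoidHom.comp_apply, MonoidHom.comp_apply,
    MulChar.coe_toUnitHom, MulChar.coe_toUnitHom]
  rfl

theorem thetaGL_isClassFunction (α β : MulChar F ℂ) : IsClassFunction ↥BGL (thetaGL α β) :=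
  Cfsg.Agent.Lib.helper3.Irr.isClassFunction_of_isCharacter (thetaGL_isCharacter α β)


/-- upper triangular elements of GL₂ -/
def mkBGL (p : Fˣ × Fˣ × F) : ↥BGL :=
  ⟨⟨!![(p.1 : F), p.2.2; 0, (p.2.1 : F)],
    !![((p.1⁻¹ : Fˣ) : F), -(p.2.2 * ((p.1⁻¹ : Fˣ) : F) * ((p.2.1⁻¹ : Fˣ) : F)); 0,
      ((p.2.1⁻¹ : Fˣ) : F)], by
      have h1 : (p.1 : F) ≠ 0 := p.1.ne_zero
      have h2 : (p.2.1 : F) ≠ 0 := p.2.1.ne_zero
      ext i j; fin_cases i <;> fin_cases j <;> simp [Matrix.mul_apply, Fin.sum_univ_two]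
      field_simp
      ring, by
      have h1 : (p.1 : F) ≠ 0 := p.1.ne_zero
      have h2 : (p.2.1 : F) ≠ 0 := p.2.1.ne_zero
      ext i j; fin_cases i <;> fin_cases j <;> simp [Matrix.mul_apply, Fin.sum_univ_two]
      ring⟩,
    (mem_BGL _).mpr rfl⟩

theorem mkBGL_entries (p : Fˣ × Fˣ × F) :
    ((mkBGL p : ↥BGL) : GL2).1 0 0 = p.1 ∧ ((mkBGL p : ↥BGL) : GL2).1 0 1 = p.2.2 ∧
    ((mkBGL p : ↥BGL) : GL2).1 1 0 = 0 ∧ ((mkBGL p : ↥BGL) : GL2).1 1 1 = p.2.1 :=
  ⟨rfl, rfl, rfl, rfl⟩

theorem mkBGL_bijective : Function.Bijective (mkBGL (F := F)) := by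
  constructor
  · rintro ⟨a, d, x⟩ ⟨a', d', x'⟩ h
    obtain ⟨e1, e2, e3, e4⟩ := mkBGL_entries (a, d, x)
    obtain ⟨f1, f2, f3, f4⟩ := mkBGL_entries (a', d', x')
    rw [h] at e1 e2 e4
    rw [Prod.mk.injEq, Prod.mk.injEq]
    refine ⟨Units.ext (e1.symm.trans f1), Units.ext (e4.symm.trans f4), e2.symm.trans f2⟩
  · intro b
    have hb : ((b : GL2) : Matrix (Fin 2) (Fin 2) F) 1 0 = 0 := (mem_BGL _).mp b.2
    refine ⟨(d0 b, d1 b, ((b : GL2) : Matrix (Fin 2) (Fin 2) F) 0 1), ?_⟩
    apply Subtype.ext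
    apply Units.ext
    obtain ⟨e1, e2, e3, e4⟩ := mkBGL_entries (d0 b, d1 b, ((b : GL2) : Matrix (Fin 2) (Fin 2) F) 0 1)
    ext i j
    fin_cases i <;> fin_cases j
    · exact e1
    · exact e2
    · exact e3.trans hb.symm
    · exact e4

variable [Fintype F] [DecidableEq F]

/-- explicit formula for the principal series function of GL₂ -/
theorem RGL_apply (α β : MulChar F ℂ) (g : GL2) :
    indFun BGL (thetaGL α β) g =
      (∑ c : F, if (g : Matrix (Fin 2) (Fin 2) F) 1 0 + ((g : Matrix (Fin 2) (Fin 2) F) 1 1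
        - (g : Matrix (Fin 2) (Fin 2) F) 0 0) * c - (g : Matrix (Fin 2) (Fin 2) F) 0 1 * c ^ 2 = 0
        then α ((g : Matrix (Fin 2) (Fin 2) F) 0 0 + (g : Matrix (Fin 2) (Fin 2) F) 0 1 * c) *
          β ((g : Matrix (Fin 2) (Fin 2) F) 1 1 - (g : Matrix (Fin 2) (Fin 2) F) 0 1 * c) else 0)
      + (if (g : Matrix (Fin 2) (Fin 2) F) 0 1 = 0 then
          α ((g : Matrix (Fin 2) (Fin 2) F) 1 1) * β ((g : Matrix (Fin 2) (Fin 2) F) 0 0) else 0) := by
  rw [indFun_eq_sum_reps _ _ (thetaGL_isClassFunction α β) repsGL repsGL_bijective,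
    Fintype.sum_option, add_comm]
  congr 1
  · apply Finset.sum_congr rfl
    intro c _
    obtain ⟨h1, h2⟩ := conj_some_diag g c
    by_cases h : (g : Matrix (Fin 2) (Fin 2) F) 1 0 + ((g : Matrix (Fin 2) (Fin 2) F) 1 1
        - (g : Matrix (Fin 2) (Fin 2) F) 0 0) * c - (g : Matrix (Fin 2) (Fin 2) F) 0 1 * c ^ 2 = 0
    · have hm : (repsGL (some c))⁻¹ * g * repsGL (some c) ∈ BGL := by
        rw [mem_BGL, conj_some]; exact h
      rw [if_pos h, extendByZero_mem _ _ hm]
      unfold thetaGL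
      simp only
      rw [h1, h2]
    · have hm : (repsGL (some c))⁻¹ * g * repsGL (some c) ∉ BGL := by
        rw [mem_BGL, conj_some]; exact h
      rw [if_neg h, extendByZero_not_mem _ _ hm]
  · obtain ⟨h1, h2⟩ := conj_none_diag g
    by_cases h : (g : Matrix (Fin 2) (Fin 2) F) 0 1 = 0
    · have hm : (repsGL none)⁻¹ * g * repsGL none ∈ BGL := by
        rw [mem_BGL, conj_none, h, neg_zero]
      rw [if_pos h, extendByZero_mem _ _ hm]
      unfold thetaGL
      simp only
      rw [h1, h2]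
    · have hm : (repsGL none)⁻¹ * g * repsGL none ∉ BGL := by
        rw [mem_BGL, conj_none, neg_eq_zero]; exact h
      rw [if_neg h, extendByZero_not_mem _ _ hm]


theorem inner_sum₂ (φ : F → F → ℂ) (a d : F) :
    ∑ x : F, ((∑ c : F, if (0 : F) + (d - a) * c - x * c ^ 2 = 0 then φ (a + x * c) (d - x * c)
      else 0) + (if x = 0 then φ d a else 0)) = (Fintype.card F : ℂ) * (φ a d + φ d a) := by
  rw [Finset.sum_add_distrib, Finset.sum_comm]
  have h1 : ∀ c : F, (∑ x : F, if (0 : F) + (d - a) * c - x * c ^ 2 = 0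
      then φ (a + x * c) (d - x * c) else 0)
      = φ d a + (if c = 0 then ((Fintype.card F : ℂ) * φ a d - φ d a) else 0) := by
    intro c
    by_cases hc : c = 0
    · subst hc
      simp
    · rw [if_neg hc, add_zero]
      have : ∀ x : F, (if (0 : F) + (d - a) * c - x * c ^ 2 = 0
          then φ (a + x * c) (d - x * c) else 0)
          = if x = (d - a) / c then φ d a else 0 := by
        intro x
        have hiff : (0 : F) + (d - a) * c - x * c ^ 2 = 0 ↔ x = (d - a) / c := by
          rw [eq_div_iff hc]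
          constructor
          · intro h
            have : c * (x * c - (d - a)) = 0 := by linear_combination -h
            rcases mul_eq_zero.mp this with h | h
            · exact absurd h hc
            · linear_combination h
          · intro h
            linear_combination -c * h
        by_cases hx : x = (d - a) / c
        · rw [if_pos (hiff.mpr hx), if_pos hx]
          have e : x * c = d - a := by rw [hx, div_mul_cancel₀ _ hc]
          rw [e]
          congr 1 <;> ring
        · rw [if_neg (fun h => hx (hiff.mp h)), if_neg hx]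
      simp only [this]
      simp
  simp only [h1]
  rw [Finset.sum_add_distrib]
  simp
  ring

theorem card_BGL : Nat.card ↥BGL = (Fintype.card F - 1) * ((Fintype.card F - 1) * Fintype.card F) := by
  rw [← Nat.card_eq_of_bijective _ (mkBGL_bijective (F := F)), Nat.card_prod, Nat.card_prod,
    Nat.card_units, Nat.card_eq_fintype_card]

theorem classInner_RGL (α β α' β' : MulChar F ℂ) :
    classInner (indFun BGL (thetaGL α β)) (indFun BGL (thetaGL α' β')) =
      (if α = α' ∧ β = β' then 1 else 0) + (if α = β' ∧ β = α' then 1 else 0) := by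
  classical
  letI : Fintype ↥BGL := Fintype.ofFinite _
  rw [frobenius_reciprocity _ _ _ (indFun_isClassFunction _ _), classInner_apply]
  rw [← mkBGL_bijective.sum_comp
    (fun b => thetaGL α β b * conj (indFun BGL (thetaGL α' β') (b : GL2))),
    Fintype.sum_prod_type]
  simp only [Fintype.sum_prod_type]
  have hterm : ∀ (a d : Fˣ) (x : F), thetaGL α β (mkBGL (a, d, x)) *
      conj (indFun BGL (thetaGL α' β') ((mkBGL (a, d, x) : ↥BGL) : GL2))
      = α a * β d * ((∑ c : F, if (0 : F) + ((d : F) - a) * c - x * c ^ 2 = 0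
          then conj (α' ((a : F) + x * c) * β' ((d : F) - x * c)) else 0)
          + (if x = 0 then conj (α' (d : F) * β' (a : F)) else 0)) := by
    intro a d x
    rw [RGL_apply]
    obtain ⟨e00, e01, e10, e11⟩ := mkBGL_entries (a, d, x)
    simp only at e00 e01 e10 e11
    rw [e00, e01, e10, e11]
    have : thetaGL α β (mkBGL (a, d, x)) = α a * β d := by unfold thetaGL; rw [e00, e11]
    rw [this, map_add, map_sum]
    congr 2
    · apply Finset.sum_congr rfl
      intro c _
      rw [apply_ite conj, map_zero]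
    · rw [apply_ite conj, map_zero]
  simp only [hterm]
  simp only [← Finset.mul_sum]
  have h2 : ∀ a d : Fˣ, α a * β d * ∑ x : F, ((∑ c : F, if (0 : F) + ((d : F) - a) * c - x * c ^ 2 = 0
          then conj (α' ((a : F) + x * c) * β' ((d : F) - x * c)) else 0)
          + (if x = 0 then conj (α' (d : F) * β' (a : F)) else 0))
      = (Fintype.card F : ℂ) * ((α * α'⁻¹) a * (β * β'⁻¹) d + (α * β'⁻¹) a * (β * α'⁻¹) d) := by
    intro a d
    rw [inner_sum₂ (fun s t => conj (α' s * β' t)) (a : F) (d : F)]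
    simp only [map_mul, conj_apply, MulChar.mul_apply]
    ring
  simp only [h2]
  simp only [← Finset.mul_sum, Finset.sum_add_distrib, ← Finset.sum_mul]
  rw [sum_units_eq, sum_units_eq, sum_units_eq, sum_units_eq, card_BGL]
  have hq : 2 ≤ Fintype.card F := Fintype.one_lt_card
  have hq1 : ((Fintype.card F : ℂ) - 1) ≠ 0 := by
    have : (Fintype.card F : ℂ) ≠ 1 := by
      have : Fintype.card F ≠ 1 := by omega
      exact_mod_cast this
    exact sub_ne_zero.mpr this
  have hq0 : (Fintype.card F : ℂ) ≠ 0 := by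
    have : Fintype.card F ≠ 0 := by omega
    exact_mod_cast this
  have e1 : ∀ γ δ : MulChar F ℂ, γ * δ⁻¹ = 1 ↔ γ = δ := fun γ δ => mul_inv_eq_one
  push_cast [Nat.cast_sub (show 1 ≤ Fintype.card F by omega)]
  simp only [e1]
  have hite : ∀ (P Q : Prop) [Decidable P] [Decidable Q] (x : ℂ),
      (if P then x else 0) * (if Q then x else 0) = if P ∧ Q then x * x else 0 := by
    intro P Q _ _ x
    by_cases hP : P <;> by_cases hQ : Q <;> simp [hP, hQ]
  rw [hite, hite]
  by_cases h1 : α = α' ∧ β = β' <;> by_cases h2 : α = β' ∧ β = α'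
  · rw [if_pos h1, if_pos h2, if_pos h1, if_pos h2]
    field_simp
  · rw [if_pos h1, if_neg h2, if_pos h1, if_neg h2]
    field_simp
    ring
  · rw [if_neg h1, if_pos h2, if_neg h1, if_pos h2]
    field_simp
    ring
  · rw [if_neg h1, if_neg h2, if_neg h1, if_neg h2]
    simp

end Cfsg.Agent.H9.PrincipalSeriesGL
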