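import Mathlib
import Cfsg.Agent.H9.PrincipalSeriesGL
import Cfsg.Agent.S2307
import Cfsg.Agent.Lib.helper3.Gallagher3
import Cfsg.Agent.Lib.helper3.Irr8
import Cfsg.Agent.Lib.helper3.Irr7

set_option autoImplicit false

/-!
# Irreducible characters of GL₂(F): linear, Steinberg, principal series, cuspidal
-/

namespace Cfsg.Agent.H9.GL2Chars

open Cfsg Matrix Cfsg.Agent.Lib.helper3.IndFun Cfsg.Agent.Lib.helper3.Irr
open Cfsg.Agent.H9.PrincipalSeries Cfsg.Agent.H9.PrincipalSeriesGL Cfsg.Agent.S2308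
open scoped ComplexConjugate

variable {F : Type*} [Field F]

local notation "GL2" => Matrix.GeneralLinearGroup (Fin 2) F
local notation "BGL" => Cfsg.upperTriangularGL 2 F

/-- the linear character `α ∘ det` -/
noncomputable def Lfun (α : MulChar F ℂ) : GL2 → ℂ :=
  fun g => α ((Matrix.GeneralLinearGroup.det g : Fˣ) : F)

theorem Lfun_isCharacter (α : MulChar F ℂ) : IsCharacter GL2 (Lfun α) := by
  have := Cfsg.Agent.Lib.helper3.Lin.isCharacter_of_hom
    ((MulChar.toUnitHom α).comp (Matrix.GeneralLinearGroup.det (n := Fin 2) (R := F)))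
  convert this using 1
  funext g
  rw [MonoidHom.comp_apply, MulChar.coe_toUnitHom]
  rfl

theorem Lfun_one (α : MulChar F ℂ) : Lfun α 1 = 1 := by
  unfold Lfun
  simp

theorem Lfun_isIrr [Finite F] (α : MulChar F ℂ) : IsIrrCharacter GL2 (Lfun α) :=
  isIrrCharacter_of_linear (Lfun_isCharacter α) (Lfun_one α)

theorem Lfun_apply (α : MulChar F ℂ) (g : GL2) :
    Lfun α g = α ((g : Matrix (Fin 2) (Fin 2) F) 0 0 * (g : Matrix (Fin 2) (Fin 2) F) 1 1
      - (g : Matrix (Fin 2) (Fin 2) F) 0 1 * (g : Matrix (Fin 2) (Fin 2) F) 1 0) := by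
  unfold Lfun
  rw [Matrix.GeneralLinearGroup.val_det_apply, Matrix.det_fin_two]

variable [Fintype F] [DecidableEq F]

theorem classInner_RGL_Lfun (α β γ : MulChar F ℂ) :
    classInner (indFun BGL (thetaGL α β)) (Lfun γ) = if α = γ ∧ β = γ then 1 else 0 := by
  classical
  letI : Fintype ↥BGL := Fintype.ofFinite _
  rw [frobenius_reciprocity _ _ _ (isClassFunction_of_isCharacter (Lfun_isCharacter γ)),
    classInner_apply]
  rw [← mkBGL_bijective.sum_comp (fun b => thetaGL α β b * conj (Lfun γ (b : GL2))),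
    Fintype.sum_prod_type]
  simp only [Fintype.sum_prod_type]
  have hterm : ∀ (a d : Fˣ) (x : F), thetaGL α β (mkBGL (a, d, x)) *
      conj (Lfun γ ((mkBGL (a, d, x) : ↥BGL) : GL2)) = (α * γ⁻¹) a * (β * γ⁻¹) d := by
    intro a d x
    rw [Lfun_apply]
    obtain ⟨e00, e01, e10, e11⟩ := mkBGL_entries (a, d, x)
    simp only at e00 e01 e10 e11
    rw [e00, e01, e10, e11]
    have : thetaGL α β (mkBGL (a, d, x)) = α a * β d := by unfold thetaGL; rw [e00, e11]
    rw [this, mul_zero, sub_zero, map_mul, map_mul, conj_apply, conj_apply, MulChar.mul_apply,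
      MulChar.mul_apply]
    ring
  simp only [hterm]
  simp only [Finset.sum_const, Finset.card_univ, nsmul_eq_mul, ← Finset.mul_sum, ← Finset.sum_mul]
  rw [sum_units_eq, sum_units_eq, card_BGL]
  have hq : 2 ≤ Fintype.card F := Fintype.one_lt_card
  have hq1 : ((Fintype.card F : ℂ) - 1) ≠ 0 := by
    have : (Fintype.card F : ℂ) ≠ 1 := by
      have : Fintype.card F ≠ 1 := by omega
      exact_mod_cast this
    exact sub_ne_zero.mpr this
  have hq0 : (Fintype.card F : ℂ) ≠ 0 := by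
    have : Fintype.card F ≠ 0 := by omega
    exact_mod_cast this
  have e1 : ∀ γ δ : MulChar F ℂ, γ * δ⁻¹ = 1 ↔ γ = δ := fun γ δ => mul_inv_eq_one
  push_cast [Nat.cast_sub (show 1 ≤ Fintype.card F by omega)]
  simp only [e1]
  by_cases h1 : α = γ <;> by_cases h2 : β = γ
  · rw [if_pos h1, if_pos h2, if_pos ⟨h1, h2⟩]
    field_simp
  · rw [if_pos h1, if_neg h2, if_neg (show ¬(α = γ ∧ β = γ) from fun h => h2 h.2)]
    simp
  · rw [if_neg h1, if_neg (show ¬(α = γ ∧ β = γ) from fun h => h1 h.1)]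
    simp
  · rw [if_neg h1, if_neg (show ¬(α = γ ∧ β = γ) from fun h => h1 h.1)]
    simp


theorem RGL_isCharacter (α β : MulChar F ℂ) : IsCharacter GL2 (indFun BGL (thetaGL α β)) :=
  isCharacter_indFun _ _ (thetaGL_isCharacter α β)

theorem RGL_one (α β : MulChar F ℂ) :
    indFun BGL (thetaGL α β) 1 = (Fintype.card F : ℂ) + 1 := by
  rw [RGL_apply]
  simp

theorem RGL_isIrr (α β : MulChar F ℂ) (h : α ≠ β) :
    IsIrrCharacter GL2 (indFun BGL (thetaGL α β)) := by
  rw [isIrrCharacter_iff, classInner_RGL, if_pos ⟨rfl, rfl⟩,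
    if_neg (show ¬(α = β ∧ β = α) from fun h' => h h'.1), add_zero]
  exact ⟨RGL_isCharacter α β, rfl⟩

theorem RGL_symm (α β : MulChar F ℂ) :
    indFun BGL (thetaGL α β) = indFun BGL (thetaGL β α) := by
  have h1 := classInner_RGL α β α β
  have h2 := classInner_RGL α β β α
  have h3 := classInner_RGL β α α β
  have h4 := classInner_RGL β α β α
  have h5 : classInner (indFun BGL (thetaGL α β) - indFun BGL (thetaGL β α))
      (indFun BGL (thetaGL α β) - indFun BGL (thetaGL β α)) = 0 := by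
    rw [classInner_sub_left, classInner_sub_right, classInner_sub_right, h1, h2, h3, h4]
    by_cases hab : α = β
    · subst hab
      simp
    · have hba : ¬ β = α := fun h => hab h.symm
      simp [hab, hba]
  exact sub_eq_zero.mp (eq_zero_of_classInner_self_eq_zero _ h5)

theorem RGL_eq_iff (α β α' β' : MulChar F ℂ) :
    indFun BGL (thetaGL α β) = indFun BGL (thetaGL α' β') ↔
      (α = α' ∧ β = β') ∨ (α = β' ∧ β = α') := by
  constructor
  · intro h
    have h1 := classInner_RGL α β α β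
    have h2 := classInner_RGL α β α' β'
    rw [← h, h1, if_pos ⟨rfl, rfl⟩] at h2
    by_contra hno
    rw [not_or] at hno
    rw [if_neg hno.1, if_neg hno.2, add_zero] at h2
    have h3 : ((1 : ℂ) + if α = β ∧ β = α then 1 else 0) ≠ 0 := by
      split_ifs <;> norm_num
    exact h3 h2
  · rintro (⟨rfl, rfl⟩ | ⟨rfl, rfl⟩)
    · rfl
    · exact RGL_symm α β

/-- the Steinberg-type character -/
noncomputable def Stfun (α : MulChar F ℂ) : GL2 → ℂ := indFun BGL (thetaGL α α) - Lfun α

theorem Stfun_isIrr (α : MulChar F ℂ) : IsIrrCharacter GL2 (Stfun α) ∧ Stfun α ≠ Lfun α := by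
  have hnorm : classInner (indFun BGL (thetaGL α α)) (indFun BGL (thetaGL α α)) = 2 := by
    rw [classInner_RGL, if_pos ⟨rfl, rfl⟩]; norm_num
  obtain ⟨ψ₁, ψ₂, h1, h2, hne, hsum⟩ :=
    Cfsg.Agent.S2307.exists_two_of_norm_two (RGL_isCharacter α α) hnorm
  have hL := classInner_RGL_Lfun α α α
  rw [if_pos ⟨rfl, rfl⟩, hsum, classInner_add_left, irr_classInner_eq h1 (Lfun_isIrr α),
    irr_classInner_eq h2 (Lfun_isIrr α)] at hL
  by_cases e1 : ψ₁ = Lfun α
  · have : Stfun α = ψ₂ := by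
      unfold Stfun
      rw [hsum, e1]
      exact add_sub_cancel_left _ _
    rw [this]
    exact ⟨h2, fun h => hne (e1.trans h.symm)⟩
  · by_cases e2 : ψ₂ = Lfun α
    · have : Stfun α = ψ₁ := by
        unfold Stfun
        rw [hsum, e2]
        exact add_sub_cancel_right _ _
      rw [this]
      exact ⟨h1, e1⟩
    · rw [if_neg e1, if_neg e2] at hL
      norm_num at hL

theorem RGL_diag (α : MulChar F ℂ) : indFun BGL (thetaGL α α) = Lfun α + Stfun α := by
  unfold Stfun
  exact (add_sub_cancel _ _).symm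

theorem Stfun_one (α : MulChar F ℂ) : Stfun α 1 = (Fintype.card F : ℂ) := by
  unfold Stfun
  rw [Pi.sub_apply, RGL_one, Lfun_one]
  ring

/-- classification of the irreducible characters meeting a principal series function -/
theorem noncusp_cases {χ : GL2 → ℂ} (hχ : IsIrrCharacter GL2 χ) (α β : MulChar F ℂ)
    (h : classInner (indFun BGL (thetaGL α β)) χ ≠ 0) :
    (α ≠ β ∧ χ = indFun BGL (thetaGL α β)) ∨ (α = β ∧ (χ = Lfun α ∨ χ = Stfun α)) := by
  by_cases hab : α = β
  · right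
    subst hab
    refine ⟨rfl, ?_⟩
    rw [RGL_diag, classInner_add_left, irr_classInner_eq (Lfun_isIrr α) hχ,
      irr_classInner_eq (Stfun_isIrr α).1 hχ] at h
    by_cases e1 : Lfun α = χ
    · exact Or.inl e1.symm
    · by_cases e2 : Stfun α = χ
      · exact Or.inr e2.symm
      · rw [if_neg e1, if_neg e2] at h
        norm_num at h
  · left
    refine ⟨hab, ?_⟩
    rw [irr_classInner_eq (RGL_isIrr α β hab) hχ] at h
    by_contra hne
    rw [if_neg (fun h' => hne h'.symm)] at h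
    exact h rfl


section dual

noncomputable instance mulCharFintype : Fintype (MulChar F ℂ) := Fintype.ofFinite _

theorem card_mulChar : Fintype.card (MulChar F ℂ) = Fintype.card F - 1 := by
  rw [← Nat.card_eq_fintype_card, MulChar.card_eq_card_units_of_hasEnoughRootsOfUnity,
    Nat.card_units, Nat.card_eq_fintype_card]

/-- dual orthogonality for multiplicative characters -/
theorem sum_mulChar_apply (a : Fˣ) :
    ∑ χ : MulChar F ℂ, χ (a : F) = if a = 1 then ((Fintype.card F : ℂ) - 1) else 0 := by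
  split_ifs with ha
  · subst ha
    simp only [Units.val_one, map_one, Finset.sum_const, Finset.card_univ, nsmul_eq_mul, mul_one]
    rw [card_mulChar]
    have : 1 ≤ Fintype.card F := Fintype.card_pos
    push_cast [Nat.cast_sub this]
    ring
  · have ha' : (a : F) ≠ 1 := fun h => ha (Units.ext h)
    obtain ⟨χ, hχ⟩ := MulChar.exists_apply_ne_one_of_hasEnoughRootsOfUnity F ℂ ha'
    refine eq_zero_of_mul_eq_self_left hχ ?_
    simp only [Finset.mul_sum, ← MulChar.mul_apply]
    exact Fintype.sum_bijective _ (Group.mulLeft_bijective χ) _ _ fun χ' ↦ rfl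

theorem sum_mulChar_mul_conj (a a₀ : Fˣ) :
    ∑ χ : MulChar F ℂ, χ (a : F) * conj (χ (a₀ : F))
      = if a = a₀ then ((Fintype.card F : ℂ) - 1) else 0 := by
  have h : ∀ χ : MulChar F ℂ, χ (a : F) * conj (χ (a₀ : F)) = χ ((a * a₀⁻¹ : Fˣ) : F) := by
    intro χ
    rw [conj_apply, MulChar.inv_apply' χ (a₀ : F), Units.val_mul, map_mul,
      Units.val_inv_eq_inv_val]
  simp only [h]
  rw [sum_mulChar_apply]
  simp only [mul_inv_eq_one]

end dual


section unip

omit [Fintype F] [DecidableEq F] in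
/-- general integrality of Fourier coefficients of the restriction along a homomorphism
from the additive group of `F` -/
theorem restrict_nat [Fintype F] {G : Type*} [Group G] (u : Multiplicative F →* G) (ψ : AddChar F ℂ)
    {χ : G → ℂ} (hχ : IsCharacter G χ) (c : F) :
    ∃ n : ℕ, (Fintype.card F : ℂ)⁻¹ *
      ∑ b : F, χ (u (Multiplicative.ofAdd b)) * conj (ψ (c * b)) = n := by
  have h1 : IsCharacter (Multiplicative F) (fun x => χ (u x)) := isCharacter_comp hχ u
  have h2 : IsCharacter (Multiplicative F) (fun x => ψ (c * x.toAdd)) := by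
    have := Cfsg.Agent.Lib.helper3.Lin.isCharacter_of_hom
      ((AddChar.toMonoidHom (AddChar.mulShift ψ c)).toHomUnits)
    convert this using 1
    funext x
    rw [MonoidHom.coe_toHomUnits, AddChar.toMonoidHom_apply, AddChar.mulShift_apply]
  obtain ⟨n, hn⟩ := exists_nat_classInner_of_isCharacter_of_isCharacter h1 h2
  refine ⟨n, ?_⟩
  rw [← hn, classInner_apply]
  congr 1
  · simp [Nat.card_eq_fintype_card]
  · exact Fintype.sum_equiv Multiplicative.ofAdd _ _ (fun b => rfl)

/-- upper unitriangular matrices in GL₂ -/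
def uuG (b : F) : GL2 :=
  ⟨!![1, b; 0, 1], !![1, -b; 0, 1], by
    ext i j; fin_cases i <;> fin_cases j <;> simp [Matrix.mul_apply, Fin.sum_univ_two], by
    ext i j; fin_cases i <;> fin_cases j <;> simp [Matrix.mul_apply, Fin.sum_univ_two]⟩

omit [Fintype F] [DecidableEq F] in
theorem uuG_val (b : F) : ((uuG b : GL2) : Matrix (Fin 2) (Fin 2) F) = !![1, b; 0, 1] := rfl

omit [Fintype F] [DecidableEq F] in
theorem uuG_add (a b : F) : uuG (a + b) = uuG a * uuG b := by
  apply Units.ext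
  rw [Units.val_mul, uuG_val, uuG_val, uuG_val]
  ext i j; fin_cases i <;> fin_cases j <;> simp [Matrix.mul_apply, Fin.sum_univ_two]
  ring

omit [Fintype F] [DecidableEq F] in
theorem uuG_zero : uuG (0 : F) = 1 := by
  apply Units.ext
  rw [uuG_val]
  ext i j; fin_cases i <;> fin_cases j <;> simp

/-- the unipotent subgroup of GL₂ as a homomorphism -/
def uuGHom : Multiplicative F →* GL2 where
  toFun x := uuG x.toAdd
  map_one' := uuG_zero
  map_mul' x y := uuG_add _ _

omit [Fintype F] [DecidableEq F] in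
theorem uuG_conj (ν : Fˣ) (b : F) :
    uuG ((ν : F) * b) = Cfsg.Agent.S2307.dg ν * uuG b * (Cfsg.Agent.S2307.dg ν)⁻¹ := by
  rw [eq_mul_inv_iff_mul_eq]
  apply Units.ext
  rw [Units.val_mul, Units.val_mul, uuG_val, uuG_val]
  ext i j; fin_cases i <;> fin_cases j <;>
    simp [Cfsg.Agent.S2307.dg, Matrix.mul_apply, Fin.sum_univ_two]

omit [Fintype F] [DecidableEq F] in
theorem apply_uuG_of_ne_zero {χ : GL2 → ℂ} (hχ : IsClassFunction GL2 χ) (b : F) (hb : b ≠ 0) :
    χ (uuG b) = χ (uuG 1) := by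
  have := uuG_conj (Units.mk0 b hb) 1
  rw [Units.val_mk0, mul_one] at this
  rw [this, hχ]

/-- the restriction of a character of GL₂ to the unipotent subgroup is determined by two
natural numbers -/
theorem exists_unip_mults {χ : GL2 → ℂ} (hχ : IsCharacter GL2 χ) :
    ∃ n₀ n₁ : ℕ, χ 1 = n₀ + ((Fintype.card F : ℂ) - 1) * n₁ ∧ χ (uuG 1) = n₀ - n₁ ∧
      (Fintype.card F : ℂ)⁻¹ * ∑ b : F, χ (uuG b) = n₀ := by
  have hcf := isClassFunction_of_isCharacter hχ
  set ψ := AddChar.FiniteField.primitiveChar_to_Complex F with hψdef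
  have hψ : ψ.IsPrimitive := AddChar.FiniteField.primitiveChar_to_Complex_isPrimitive F
  obtain ⟨n₀, h0⟩ := restrict_nat uuGHom ψ hχ 0
  obtain ⟨n₁, h1⟩ := restrict_nat uuGHom ψ hχ 1
  have hq : (Fintype.card F : ℂ) ≠ 0 := by
    exact_mod_cast Fintype.card_ne_zero
  have hval : ∀ b : F, χ (uuGHom (Multiplicative.ofAdd b))
      = χ (uuG 1) + (if b = 0 then χ 1 - χ (uuG 1) else 0) := by
    intro b
    change χ (uuG b) = _
    by_cases hb : b = 0
    · rw [if_pos hb, hb, uuG_zero]; ring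
    · rw [if_neg hb, add_zero, apply_uuG_of_ne_zero hcf b hb]
  simp only [hval, add_mul, Finset.sum_add_distrib, ← Finset.mul_sum] at h0 h1
  have hs0 : ∑ b : F, conj (ψ (0 * b)) = (Fintype.card F : ℂ) := by
    simp
  have hs1 : ∑ b : F, conj (ψ (1 * b)) = 0 := by
    have := AddChar.sum_mulShift (1 : F) hψ
    rw [if_neg one_ne_zero, Nat.cast_zero] at this
    rw [← map_sum]
    simp_rw [mul_comm (1 : F)]
    rw [this, map_zero]
  have hs2 : ∀ c : F, ∑ b : F, (if b = 0 then χ 1 - χ (uuG 1) else 0) * conj (ψ (c * b))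
      = χ 1 - χ (uuG 1) := by
    intro c
    rw [Finset.sum_eq_single 0]
    · simp
    · intro b _ hb
      rw [if_neg hb, zero_mul]
    · intro h; exact absurd (Finset.mem_univ _) h
  rw [hs0, hs2] at h0
  rw [hs1, hs2] at h1
  refine ⟨n₀, n₁, ?_, ?_, ?_⟩
  · rw [← h0, ← h1]
    field_simp
    ring
  · rw [← h0, ← h1]
    field_simp
    ring
  · rw [← h0]
    congr 1
    have : ∀ b : F, χ (uuG b) = χ (uuG 1) + (if b = 0 then χ 1 - χ (uuG 1) else 0) := hval
    rw [Finset.sum_congr rfl (fun b _ => this b), Finset.sum_add_distrib]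
    simp
    ring

end unip


section jacquet

theorem dual_inv (f : Fˣ → ℂ) (a₀ : Fˣ) :
    ∑ α : MulChar F ℂ, conj (α (a₀ : F)) * ∑ a : Fˣ, α (a : F) * f a
      = ((Fintype.card F : ℂ) - 1) * f a₀ := by
  simp only [Finset.mul_sum]
  rw [Finset.sum_comm]
  have h : ∀ a : Fˣ, ∑ α : MulChar F ℂ, conj (α (a₀ : F)) * (α (a : F) * f a)
      = f a * (if a = a₀ then ((Fintype.card F : ℂ) - 1) else 0) := by
    intro a
    rw [← sum_mulChar_mul_conj, Finset.mul_sum]
    apply Finset.sum_congr rfl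
    intro α _
    ring
  simp only [h]
  rw [Finset.sum_eq_single a₀]
  · rw [if_pos rfl]; ring
  · intro a _ ha
    rw [if_neg ha, mul_zero]
  · intro h; exact absurd (Finset.mem_univ _) h

theorem classInner_RGL_eq {χ : GL2 → ℂ} (hχ : IsClassFunction GL2 χ) (α β : MulChar F ℂ) :
    classInner (indFun BGL (thetaGL α β)) χ =
      (Nat.card ↥BGL : ℂ)⁻¹ * ∑ d : Fˣ, β (d : F) * ∑ a : Fˣ, α (a : F) *
        ∑ x : F, conj (χ ((mkBGL (a, d, x) : ↥BGL) : GL2)) := by
  classical
  letI : Fintype ↥BGL := Fintype.ofFinite _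
  rw [frobenius_reciprocity _ _ _ hχ, classInner_apply]
  rw [← mkBGL_bijective.sum_comp (fun b => thetaGL α β b * conj (χ (b : GL2))),
    Fintype.sum_prod_type]
  simp only [Fintype.sum_prod_type]
  congr 1
  rw [Finset.sum_comm]
  apply Finset.sum_congr rfl
  intro d _
  rw [Finset.mul_sum]
  apply Finset.sum_congr rfl
  intro a _
  rw [Finset.mul_sum, Finset.mul_sum]
  apply Finset.sum_congr rfl
  intro x _
  obtain ⟨e00, e01, e10, e11⟩ := mkBGL_entries (a, d, x)
  simp only at e00 e11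
  have : thetaGL α β (mkBGL (a, d, x)) = α a * β d := by unfold thetaGL; rw [e00, e11]
  rw [this]
  ring

/-- the `U`-coinvariants of a class function, computed through the principal series -/
theorem sum_inner_RGL {χ : GL2 → ℂ} (hχ : IsClassFunction GL2 χ) (a₀ d₀ : Fˣ) :
    ∑ α : MulChar F ℂ, conj (α (a₀ : F)) * ∑ β : MulChar F ℂ, conj (β (d₀ : F)) *
        classInner (indFun BGL (thetaGL α β)) χ
      = (Fintype.card F : ℂ)⁻¹ * ∑ x : F, conj (χ ((mkBGL (a₀, d₀, x) : ↥BGL) : GL2)) := by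
  simp only [classInner_RGL_eq hχ]
  have h1 : ∀ α : MulChar F ℂ, ∑ β : MulChar F ℂ, conj (β (d₀ : F)) *
      ((Nat.card ↥BGL : ℂ)⁻¹ * ∑ d : Fˣ, β (d : F) * ∑ a : Fˣ, α (a : F) *
        ∑ x : F, conj (χ ((mkBGL (a, d, x) : ↥BGL) : GL2)))
      = (Nat.card ↥BGL : ℂ)⁻¹ * (((Fintype.card F : ℂ) - 1) * ∑ a : Fˣ, α (a : F) *
        ∑ x : F, conj (χ ((mkBGL (a, d₀, x) : ↥BGL) : GL2))) := by
    intro α
    rw [← dual_inv (fun d => ∑ a : Fˣ, α (a : F) *
        ∑ x : F, conj (χ ((mkBGL (a, d, x) : ↥BGL) : GL2))) d₀, Finset.mul_sum]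
    apply Finset.sum_congr rfl
    intro β _
    ring
  simp only [h1]
  have h2 : ∑ α : MulChar F ℂ, conj (α (a₀ : F)) * ((Nat.card ↥BGL : ℂ)⁻¹ *
      (((Fintype.card F : ℂ) - 1) * ∑ a : Fˣ, α (a : F) *
        ∑ x : F, conj (χ ((mkBGL (a, d₀, x) : ↥BGL) : GL2))))
      = (Nat.card ↥BGL : ℂ)⁻¹ * (((Fintype.card F : ℂ) - 1) * (((Fintype.card F : ℂ) - 1) *
        ∑ x : F, conj (χ ((mkBGL (a₀, d₀, x) : ↥BGL) : GL2)))) := by
    rw [← dual_inv (fun a => ∑ x : F, conj (χ ((mkBGL (a, d₀, x) : ↥BGL) : GL2))) a₀,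
      Finset.mul_sum, Finset.mul_sum]
    apply Finset.sum_congr rfl
    intro α _
    ring
  rw [h2, card_BGL]
  have hq : 2 ≤ Fintype.card F := Fintype.one_lt_card
  have hq1 : ((Fintype.card F : ℂ) - 1) ≠ 0 := by
    have : (Fintype.card F : ℂ) ≠ 1 := by
      have : Fintype.card F ≠ 1 := by omega
      exact_mod_cast this
    exact sub_ne_zero.mpr this
  have hq0 : (Fintype.card F : ℂ) ≠ 0 := by
    have : Fintype.card F ≠ 0 := by omega
    exact_mod_cast this
  push_cast [Nat.cast_sub (show 1 ≤ Fintype.card F by omega)]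
  field_simp

end jacquet


section cusp

/-- cuspidal class functions: orthogonal to all principal series functions -/
def IsCusp (χ : GL2 → ℂ) : Prop :=
  ∀ α β : MulChar F ℂ, classInner (indFun BGL (thetaGL α β)) χ = 0

theorem cusp_sum_zero {χ : GL2 → ℂ} (hχ : IsClassFunction GL2 χ) (hc : IsCusp χ) (a d : Fˣ) :
    ∑ x : F, χ ((mkBGL (a, d, x) : ↥BGL) : GL2) = 0 := by
  have h := sum_inner_RGL hχ a d
  have hq : (Fintype.card F : ℂ) ≠ 0 := by
    exact_mod_cast Fintype.card_ne_zero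
  have h0 : ∑ α : MulChar F ℂ, conj (α (a : F)) * ∑ β : MulChar F ℂ, conj (β (d : F)) *
        classInner (indFun BGL (thetaGL α β)) χ = 0 := by
    apply Finset.sum_eq_zero
    intro α _
    rw [Finset.sum_eq_zero, mul_zero]
    intro β _
    rw [hc α β, mul_zero]
  rw [h0] at h
  have h1 : ∑ x : F, conj (χ ((mkBGL (a, d, x) : ↥BGL) : GL2)) = 0 := by
    rcases mul_eq_zero.mp h.symm with h | h
    · exact absurd (inv_eq_zero.mp h) hq
    · exact h
  rw [← map_sum] at h1
  exact (map_eq_zero _).mp h1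

omit [Fintype F] [DecidableEq F] in
theorem mkBGL_one_one (x : F) : ((mkBGL ((1 : Fˣ), (1 : Fˣ), x) : ↥BGL) : GL2) = uuG x := by
  apply Units.ext
  rw [uuG_val]
  obtain ⟨e1, e2, e3, e4⟩ := mkBGL_entries ((1 : Fˣ), (1 : Fˣ), x)
  ext i j
  fin_cases i <;> fin_cases j
  · simpa using e1
  · simpa using e2
  · simpa using e3
  · simpa using e4

theorem cusp_degree {χ : GL2 → ℂ} (hχ : IsIrrCharacter GL2 χ) (hc : IsCusp χ) :
    ∃ n : ℕ, 1 ≤ n ∧ χ 1 = ((Fintype.card F : ℂ) - 1) * n ∧ χ (uuG 1) = -(n : ℂ) := by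
  have hch := isCharacter_of_isIrrCharacter hχ
  obtain ⟨n₀, n₁, h1, h2, h3⟩ := exists_unip_mults hch
  have h4 := cusp_sum_zero (isClassFunction_of_isCharacter hch) hc 1 1
  simp only [mkBGL_one_one] at h4
  rw [h4, mul_zero] at h3
  have hn0 : n₀ = 0 := by exact_mod_cast h3.symm
  rw [hn0, Nat.cast_zero, zero_add] at h1
  rw [hn0, Nat.cast_zero, zero_sub] at h2
  refine ⟨n₁, ?_, h1, h2⟩
  by_contra hlt
  have : n₁ = 0 := by omega
  rw [this, Nat.cast_zero, mul_zero] at h1
  exact apply_one_ne_zero hχ h1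

end cusp

end Cfsg.Agent.H9.GL2Chars
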