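import Mathlib
import Cfsg.Agent.H9.GL2Chars
import Cfsg.Agent.S2330

set_option autoImplicit false

/-!
# Counting the irreducible characters of GL₂(F)
-/

namespace Cfsg.Agent.H9.GL2Chars

open Cfsg Matrix Cfsg.Agent.Lib.helper3.IndFun Cfsg.Agent.Lib.helper3.Irr
open Cfsg.Agent.H9.PrincipalSeries Cfsg.Agent.H9.PrincipalSeriesGL Cfsg.Agent.S2308
open scoped ComplexConjugate

variable {F : Type*} [Field F] [Fintype F] [DecidableEq F]

local notation "GL2" => Matrix.GeneralLinearGroup (Fin 2) F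
local notation "BGL" => Cfsg.upperTriangularGL 2 F

/-- linear characters as irreducible characters -/
noncomputable def Lc (α : MulChar F ℂ) : IrrCharacter GL2 := ⟨Lfun α, Lfun_isIrr α⟩

/-- Steinberg-type characters as irreducible characters -/
noncomputable def Sc (α : MulChar F ℂ) : IrrCharacter GL2 := ⟨Stfun α, (Stfun_isIrr α).1⟩

/-- principal series functions on unordered pairs -/
noncomputable def Rfun : Sym2 (MulChar F ℂ) → (GL2 → ℂ) :=
  Sym2.lift ⟨fun α β => indFun BGL (thetaGL α β), RGL_symm⟩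

theorem Rfun_mk (α β : MulChar F ℂ) : Rfun s(α, β) = indFun BGL (thetaGL α β) := rfl

theorem Rfun_isIrr (z : Sym2 (MulChar F ℂ)) (hz : ¬ z.IsDiag) : IsIrrCharacter GL2 (Rfun z) := by
  induction z using Sym2.ind with
  | _ α β =>
    rw [Sym2.mk_isDiag_iff] at hz
    exact RGL_isIrr α β hz

/-- irreducible principal series characters -/
noncomputable def Rc (z : {z : Sym2 (MulChar F ℂ) // ¬ z.IsDiag}) : IrrCharacter GL2 :=
  ⟨Rfun z.1, Rfun_isIrr z.1 z.2⟩

theorem Lc_one (α : MulChar F ℂ) : (Lc α : GL2 → ℂ) 1 = 1 := Lfun_one α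

theorem Sc_one (α : MulChar F ℂ) : (Sc α : GL2 → ℂ) 1 = (Fintype.card F : ℂ) := Stfun_one α

theorem Rc_one (z : {z : Sym2 (MulChar F ℂ) // ¬ z.IsDiag}) :
    (Rc z : GL2 → ℂ) 1 = (Fintype.card F : ℂ) + 1 := by
  obtain ⟨z, hz⟩ := z
  induction z using Sym2.ind with
  | _ α β => exact RGL_one α β

theorem Lc_injective : Function.Injective (Lc (F := F)) := by
  intro α β h
  have h1 : Lfun α = Lfun β := congrArg Subtype.val h
  ext a
  have h2 := congrFun h1 (Cfsg.Agent.S2307.dg a)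
  rw [Lfun_apply, Lfun_apply] at h2
  simpa [Cfsg.Agent.S2307.dg] using h2

theorem classInner_RGL_Stfun (α β : MulChar F ℂ) :
    classInner (indFun BGL (thetaGL α α)) (Stfun β) = if α = β then 1 else 0 := by
  have h1 := classInner_RGL α α β β
  have h2 := classInner_RGL_Lfun α α β
  unfold Stfun
  rw [classInner_sub_right, h1, h2]
  by_cases h : α = β
  · simp [h]
  · simp [h]

theorem Sc_injective : Function.Injective (Sc (F := F)) := by
  intro α β h
  have h1 : Stfun α = Stfun β := congrArg Subtype.val h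
  have h2 := classInner_RGL_Stfun α α
  rw [h1, classInner_RGL_Stfun, if_pos rfl] at h2
  by_contra hne
  rw [if_neg hne] at h2
  exact zero_ne_one h2

theorem Rc_injective : Function.Injective (Rc (F := F)) := by
  rintro ⟨z, hz⟩ ⟨w, hw⟩ h
  have h1 : Rfun z = Rfun w := congrArg Subtype.val h
  apply Subtype.ext
  simp only
  induction z using Sym2.ind with
  | _ α β =>
    induction w using Sym2.ind with
    | _ α' β' =>
      rw [Rfun_mk, Rfun_mk, RGL_eq_iff] at h1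
      rw [Sym2.eq_iff]
      exact h1

/-- the parametrization of the non-cuspidal irreducible characters -/
noncomputable def Phi : MulChar F ℂ ⊕ (MulChar F ℂ ⊕ {z : Sym2 (MulChar F ℂ) // ¬ z.IsDiag}) →
    IrrCharacter GL2 :=
  Sum.elim Lc (Sum.elim Sc Rc)

theorem card_ne_aux : (1 : ℂ) ≠ (Fintype.card F : ℂ) ∧ (1 : ℂ) ≠ (Fintype.card F : ℂ) + 1 ∧
    (Fintype.card F : ℂ) ≠ (Fintype.card F : ℂ) + 1 := by
  have hq : 2 ≤ Fintype.card F := Fintype.one_lt_card
  refine ⟨?_, ?_, ?_⟩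
  · have : (1 : ℕ) ≠ Fintype.card F := by omega
    exact_mod_cast this
  · have : (1 : ℕ) ≠ Fintype.card F + 1 := by omega
    exact_mod_cast this
  · have : Fintype.card F ≠ Fintype.card F + 1 := by omega
    exact_mod_cast this

theorem Phi_injective : Function.Injective (Phi (F := F)) := by
  obtain ⟨c1, c2, c3⟩ := card_ne_aux (F := F)
  rintro (α | α | z) (β | β | w) h
  · exact congrArg Sum.inl (Lc_injective h)
  · exfalso
    have := congrArg (fun χ : IrrCharacter GL2 => (χ : GL2 → ℂ) 1) h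
    simp only [Phi, Sum.elim_inl, Sum.elim_inr, Lc_one, Sc_one] at this
    exact c1 this
  · exfalso
    have := congrArg (fun χ : IrrCharacter GL2 => (χ : GL2 → ℂ) 1) h
    simp only [Phi, Sum.elim_inl, Sum.elim_inr, Lc_one, Rc_one] at this
    exact c2 this
  · exfalso
    have := congrArg (fun χ : IrrCharacter GL2 => (χ : GL2 → ℂ) 1) h
    simp only [Phi, Sum.elim_inl, Sum.elim_inr, Lc_one, Sc_one] at this
    exact c1 this.symm
  · exact congrArg (Sum.inr ∘ Sum.inl) (Sc_injective h)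
  · exfalso
    have := congrArg (fun χ : IrrCharacter GL2 => (χ : GL2 → ℂ) 1) h
    simp only [Phi, Sum.elim_inl, Sum.elim_inr, Sc_one, Rc_one] at this
    exact c3 this
  · exfalso
    have := congrArg (fun χ : IrrCharacter GL2 => (χ : GL2 → ℂ) 1) h
    simp only [Phi, Sum.elim_inl, Sum.elim_inr, Lc_one, Rc_one] at this
    exact c2 this.symm
  · exfalso
    have := congrArg (fun χ : IrrCharacter GL2 => (χ : GL2 → ℂ) 1) h
    simp only [Phi, Sum.elim_inl, Sum.elim_inr, Sc_one, Rc_one] at this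
    exact c3 this.symm
  · exact congrArg (Sum.inr ∘ Sum.inr) (Rc_injective h)

theorem cusp_of_not_mem_range (χ : IrrCharacter GL2) (h : χ ∉ Set.range (Phi (F := F))) :
    IsCusp (χ : GL2 → ℂ) := by
  intro α β
  by_contra hne
  apply h
  rcases noncusp_cases χ.2 α β hne with ⟨hab, h1⟩ | ⟨-, h1 | h1⟩
  · refine ⟨Sum.inr (Sum.inr ⟨s(α, β), by rw [Sym2.mk_isDiag_iff]; exact hab⟩), ?_⟩
    apply Subtype.ext
    exact h1.symm
  · exact ⟨Sum.inl α, Subtype.ext h1.symm⟩
  · exact ⟨Sum.inr (Sum.inl α), Subtype.ext h1.symm⟩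


section count

open Classical in
/-- the set of cuspidal irreducible characters -/
noncomputable def cuspSet : Finset (IrrCharacter GL2) := (Finset.univ.image (Phi (F := F)))ᶜ

open Classical in
theorem mem_cuspSet (χ : IrrCharacter GL2) :
    χ ∈ cuspSet (F := F) ↔ χ ∉ Set.range (Phi (F := F)) := by
  unfold cuspSet
  rw [Finset.mem_compl, Finset.mem_image]
  simp

open Classical in
theorem sum_split (f : IrrCharacter GL2 → ℂ) :
    ∑ χ, f χ = ∑ α, f (Lc α) + ∑ α, f (Sc α) + ∑ z, f (Rc z) + ∑ χ ∈ cuspSet (F := F), f χ := by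
  rw [← Finset.sum_add_sum_compl (Finset.univ.image (Phi (F := F))) f,
    Finset.sum_image (fun x _ y _ h => Phi_injective h), Fintype.sum_sum_type,
    Fintype.sum_sum_type]
  simp only [Phi, Sum.elim_inl, Sum.elim_inr, cuspSet]
  ring

theorem card_GL2 : (Nat.card GL2 : ℂ) =
    (Fintype.card F : ℂ) * ((Fintype.card F : ℂ) - 1) ^ 2 * ((Fintype.card F : ℂ) + 1) := by
  rw [Matrix.card_GL_field, Fin.prod_univ_two]
  have hq : 1 ≤ Fintype.card F := Fintype.card_pos
  have h1 : 1 ≤ Fintype.card F ^ 2 := Nat.one_le_pow _ _ hq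
  have h2 : Fintype.card F ≤ Fintype.card F ^ 2 := by nlinarith
  simp only [Fin.val_zero, Fin.val_one, pow_zero, pow_one]
  push_cast [Nat.cast_sub h1, Nat.cast_sub h2]
  ring

theorem card_irr_GL2 : (Fintype.card (IrrCharacter GL2) : ℂ) = (Fintype.card F : ℂ) ^ 2 - 1 := by
  rw [← Nat.card_eq_fintype_card, card_irr_eq_card_conjClasses, Cfsg.Agent.S2330.result]
  have hq : 1 ≤ Fintype.card F := Fintype.card_pos
  have h1 : 1 ≤ Fintype.card F ^ 2 := Nat.one_le_pow _ _ hq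
  push_cast [Nat.cast_sub h1]
  ring

theorem card_pairs : (Fintype.card {z : Sym2 (MulChar F ℂ) // ¬ z.IsDiag} : ℂ) =
    ((Fintype.card F : ℂ) - 1) * ((Fintype.card F : ℂ) - 2) / 2 := by
  classical
  have h := Sym2.card_subtype_not_diag (α := MulChar F ℂ)
  have h2 : Fintype.card {z : Sym2 (MulChar F ℂ) // ¬ z.IsDiag}
      = (Fintype.card (MulChar F ℂ)).choose 2 := by
    rw [← h]
  rw [h2, card_mulChar, Nat.cast_choose_two]
  have hq : 1 ≤ Fintype.card F := Fintype.card_pos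
  push_cast [Nat.cast_sub hq]
  ring

theorem card_mulChar_cast : (Fintype.card (MulChar F ℂ) : ℂ) = (Fintype.card F : ℂ) - 1 := by
  rw [card_mulChar]
  have hq : 1 ≤ Fintype.card F := Fintype.card_pos
  push_cast [Nat.cast_sub hq]
  ring

/-- every cuspidal irreducible character has degree `q - 1` and value `-1` at transvections -/
theorem cusp_degree_eq (χ : IrrCharacter GL2) (hχ : χ ∈ cuspSet (F := F)) :
    (χ : GL2 → ℂ) 1 = (Fintype.card F : ℂ) - 1 ∧ (χ : GL2 → ℂ) (uuG 1) = -1 := by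
  classical
  have hex : ∀ ψ : IrrCharacter GL2, ∃ n : ℕ, ψ ∈ cuspSet (F := F) →
      (1 ≤ n ∧ (ψ : GL2 → ℂ) 1 = ((Fintype.card F : ℂ) - 1) * n ∧
        (ψ : GL2 → ℂ) (uuG 1) = -(n : ℂ)) := by
    intro ψ
    by_cases hψ : ψ ∈ cuspSet (F := F)
    · obtain ⟨n, hn⟩ := cusp_degree ψ.2 (cusp_of_not_mem_range ψ ((mem_cuspSet ψ).mp hψ))
      exact ⟨n, fun _ => hn⟩
    · exact ⟨0, fun h => absurd h hψ⟩
  choose n hn using hex
  have hq : 2 ≤ Fintype.card F := Fintype.one_lt_card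
  have hq1 : ((Fintype.card F : ℂ) - 1) ≠ 0 := by
    have : (Fintype.card F : ℂ) ≠ 1 := by
      have : Fintype.card F ≠ 1 := by omega
      exact_mod_cast this
    exact sub_ne_zero.mpr this
  have E1 := sum_split (F := F) (fun _ => (1 : ℂ))
  have E2 := sum_split (F := F) (fun ψ => (ψ : GL2 → ℂ) 1 ^ 2)
  rw [sum_sq_degree, card_GL2] at E2
  simp only [Lc_one, Sc_one, Rc_one, Finset.sum_const, Finset.card_univ, nsmul_eq_mul, mul_one,
    card_mulChar_cast, card_pairs, card_irr_GL2] at E1 E2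
  have E3 : ∑ ψ ∈ cuspSet (F := F), (ψ : GL2 → ℂ) 1 ^ 2
      = ((Fintype.card F : ℂ) - 1) ^ 2 * ∑ ψ ∈ cuspSet (F := F), ((n ψ : ℂ)) ^ 2 := by
    rw [Finset.mul_sum]
    apply Finset.sum_congr rfl
    intro ψ hψ
    rw [(hn ψ hψ).2.1]
    ring
  rw [E3] at E2
  have E4 : ((Fintype.card F : ℂ) - 1) ^ 2 * ∑ ψ ∈ cuspSet (F := F), ((n ψ : ℂ)) ^ 2
      = ((Fintype.card F : ℂ) - 1) ^ 2 * ((cuspSet (F := F)).card : ℂ) := by
    linear_combination ((Fintype.card F : ℂ) - 1) ^ 2 * E1 - E2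
  have E5 : ∑ ψ ∈ cuspSet (F := F), ((n ψ : ℂ)) ^ 2 = ((cuspSet (F := F)).card : ℂ) :=
    mul_left_cancel₀ (pow_ne_zero 2 hq1) E4
  have E6 : ∑ ψ ∈ cuspSet (F := F), (n ψ) ^ 2 = ∑ ψ ∈ cuspSet (F := F), 1 := by
    rw [Finset.sum_const, smul_eq_mul, mul_one]
    exact_mod_cast E5
  have hle : ∀ ψ ∈ cuspSet (F := F), 1 ≤ (n ψ) ^ 2 := by
    intro ψ hψ
    exact Nat.one_le_pow _ _ (hn ψ hψ).1
  have E7 := (Finset.sum_eq_sum_iff_of_le hle).mp E6.symm χ hχ
  have hn1 : n χ = 1 := by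
    have h1 := (hn χ hχ).1
    nlinarith
  obtain ⟨-, h2, h3⟩ := hn χ hχ
  rw [hn1, Nat.cast_one] at h2 h3
  rw [mul_one] at h2
  exact ⟨h2, h3⟩

end count


section classify

theorem irr_cases (χ : IrrCharacter GL2) :
    (∃ α, χ = Lc α) ∨ (∃ α, χ = Sc α) ∨ (∃ z, χ = Rc z) ∨ χ ∈ cuspSet (F := F) := by
  by_cases h : χ ∈ Set.range (Phi (F := F))
  · obtain ⟨x, hx⟩ := h
    rcases x with α | α | z
    · exact Or.inl ⟨α, hx.symm⟩
    · exact Or.inr (Or.inl ⟨α, hx.symm⟩)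
    · exact Or.inr (Or.inr (Or.inl ⟨z, hx.symm⟩))
  · exact Or.inr (Or.inr (Or.inr ((mem_cuspSet χ).mpr h)))

/-- classification of the irreducible characters of GL₂(F) -/
theorem irr_cases' {χ : GL2 → ℂ} (hχ : IsIrrCharacter GL2 χ) :
    (∃ α, χ = Lfun α) ∨ (∃ α, χ = Stfun α) ∨
      (∃ α β, α ≠ β ∧ χ = indFun BGL (thetaGL α β)) ∨
      (IsCusp χ ∧ χ 1 = (Fintype.card F : ℂ) - 1 ∧ χ (uuG 1) = -1) := by
  rcases irr_cases (⟨χ, hχ⟩ : IrrCharacter GL2) with ⟨α, h⟩ | ⟨α, h⟩ | ⟨⟨z, hz⟩, h⟩ | h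
  · exact Or.inl ⟨α, congrArg Subtype.val h⟩
  · exact Or.inr (Or.inl ⟨α, congrArg Subtype.val h⟩)
  · right; right; left
    induction z using Sym2.ind with
    | _ α β =>
      rw [Sym2.mk_isDiag_iff] at hz
      exact ⟨α, β, hz, congrArg Subtype.val h⟩
  · right; right; right
    have h1 := cusp_degree_eq _ h
    exact ⟨cusp_of_not_mem_range _ ((mem_cuspSet _).mp h), h1.1, h1.2⟩

theorem card_degree_eq {ι : Type*} [Fintype ι] (f : ι → IrrCharacter GL2)
    (hf : Function.Injective f) (d : ℂ) (hd : ∀ i, (f i : GL2 → ℂ) 1 = d)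
    (hsurj : ∀ χ : IrrCharacter GL2, (χ : GL2 → ℂ) 1 = d → ∃ i, f i = χ) :
    Nat.card {χ : IrrCharacter GL2 // (χ : GL2 → ℂ) 1 = d} = Fintype.card ι := by
  rw [← Nat.card_eq_fintype_card]
  symm
  apply Nat.card_eq_of_bijective (fun i => (⟨f i, hd i⟩ : {χ : IrrCharacter GL2 // (χ : GL2 → ℂ) 1 = d}))
  constructor
  · intro i j h
    exact hf (congrArg Subtype.val h)
  · rintro ⟨χ, hχ⟩
    obtain ⟨i, hi⟩ := hsurj χ hχ
    exact ⟨i, Subtype.ext hi⟩

theorem card_cuspSet : (cuspSet (F := F)).card = Fintype.card F * (Fintype.card F - 1) / 2 := by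
  have E1 := sum_split (F := F) (fun _ => (1 : ℂ))
  simp only [Finset.sum_const, Finset.card_univ, nsmul_eq_mul, mul_one,
    card_mulChar_cast, card_pairs, card_irr_GL2] at E1
  have hq : 1 ≤ Fintype.card F := Fintype.card_pos
  have h1 : (((cuspSet (F := F)).card * 2 : ℕ) : ℂ) = ((Fintype.card F * (Fintype.card F - 1) : ℕ) : ℂ) := by
    push_cast [Nat.cast_sub hq]
    linear_combination (-2 : ℂ) * E1
  have h2 : (cuspSet (F := F)).card * 2 = Fintype.card F * (Fintype.card F - 1) := by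
    exact_mod_cast h1
  omega

end classify

end Cfsg.Agent.H9.GL2Chars
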