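import Mathlib
import Cfsg.Agent.H9.GL2Count

set_option autoImplicit false

/-!
# Values of the irreducible characters of GL₂(F)
-/

namespace Cfsg.Agent.H9.GL2Chars

open Cfsg Matrix Cfsg.Agent.Lib.helper3.IndFun Cfsg.Agent.Lib.helper3.Irr
open Cfsg.Agent.H9.PrincipalSeries Cfsg.Agent.H9.PrincipalSeriesGL Cfsg.Agent.S2308
open scoped ComplexConjugate

variable {F : Type*} [Field F] [Fintype F] [DecidableEq F]

local notation "GL2" => Matrix.GeneralLinearGroup (Fin 2) F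
local notation "BGL" => Cfsg.upperTriangularGL 2 F

theorem RGL_uuG (α β : MulChar F ℂ) : indFun BGL (thetaGL α β) (uuG 1) = 1 := by
  rw [RGL_apply, uuG_val]
  simp only [Matrix.of_apply, Matrix.cons_val', Matrix.cons_val_zero, Matrix.cons_val_one,
    Matrix.cons_val_fin_one, if_neg one_ne_zero, add_zero]
  rw [Finset.sum_eq_single 0]
  · simp
  · intro c _ hc
    rw [if_neg]
    simp [hc]
  · intro h; exact absurd (Finset.mem_univ _) h

omit [Fintype F] [DecidableEq F] in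
theorem Lfun_uuG (α : MulChar F ℂ) : Lfun α (uuG 1) = 1 := by
  rw [Lfun_apply, uuG_val]
  simp

theorem Stfun_uuG (α : MulChar F ℂ) : Stfun α (uuG 1) = 0 := by
  unfold Stfun
  rw [Pi.sub_apply, RGL_uuG, Lfun_uuG, sub_self]

theorem RGL_split (α β : MulChar F ℂ) (g : GL2) (h01 : (g : Matrix (Fin 2) (Fin 2) F) 0 1 = 0)
    (h10 : (g : Matrix (Fin 2) (Fin 2) F) 1 0 = 0)
    (hne : (g : Matrix (Fin 2) (Fin 2) F) 0 0 ≠ (g : Matrix (Fin 2) (Fin 2) F) 1 1) :
    indFun BGL (thetaGL α β) g =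
      α ((g : Matrix (Fin 2) (Fin 2) F) 0 0) * β ((g : Matrix (Fin 2) (Fin 2) F) 1 1) +
      α ((g : Matrix (Fin 2) (Fin 2) F) 1 1) * β ((g : Matrix (Fin 2) (Fin 2) F) 0 0) := by
  rw [RGL_apply, h01, h10, if_pos rfl]
  congr 1
  rw [Finset.sum_eq_single 0]
  · simp
  · intro c _ hc
    rw [if_neg]
    have hd : (g : Matrix (Fin 2) (Fin 2) F) 1 1 - (g : Matrix (Fin 2) (Fin 2) F) 0 0 ≠ 0 :=
      sub_ne_zero.mpr (Ne.symm hne)
    simp [hd, hc]
  · intro h; exact absurd (Finset.mem_univ _) h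

theorem RGL_elliptic (α β : MulChar F ℂ) (g : GL2)
    (hno : ∀ (c : F) (v : Fin 2 → F), v ≠ 0 → (g : Matrix (Fin 2) (Fin 2) F).mulVec v ≠ c • v) :
    indFun BGL (thetaGL α β) g = 0 := by
  rw [RGL_apply]
  have h1 : ∀ c : F, ¬ ((g : Matrix (Fin 2) (Fin 2) F) 1 0 + ((g : Matrix (Fin 2) (Fin 2) F) 1 1
      - (g : Matrix (Fin 2) (Fin 2) F) 0 0) * c - (g : Matrix (Fin 2) (Fin 2) F) 0 1 * c ^ 2 = 0) := by
    intro c h
    apply hno ((g : Matrix (Fin 2) (Fin 2) F) 0 0 + (g : Matrix (Fin 2) (Fin 2) F) 0 1 * c) ![1, c]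
    · intro hv
      have := congrFun hv 0
      simp at this
    · ext i
      fin_cases i
      · simp [Matrix.mulVec, dotProduct, Fin.sum_univ_two]
      · simp [Matrix.mulVec, dotProduct, Fin.sum_univ_two]
        linear_combination h
  have h2 : (g : Matrix (Fin 2) (Fin 2) F) 0 1 ≠ 0 := by
    intro h
    apply hno ((g : Matrix (Fin 2) (Fin 2) F) 1 1) ![0, 1]
    · intro hv
      have := congrFun hv 1
      simp at this
    · ext i
      fin_cases i
      · simp [Matrix.mulVec, dotProduct, Fin.sum_univ_two, h]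
      · simp [Matrix.mulVec, dotProduct, Fin.sum_univ_two]
  simp only [if_neg (h1 _), if_neg h2]
  simp

theorem norm_mulChar_apply (α : MulChar F ℂ) (a : F) (ha : a ≠ 0) : ‖α a‖ = 1 := by
  have h1 : α a * conj (α a) = 1 := by
    rw [conj_apply, ← MulChar.mul_apply, mul_inv_cancel, MulChar.one_apply (IsUnit.mk0 a ha)]
  rw [Complex.mul_conj] at h1
  have h2 : Complex.normSq (α a) = 1 := by exact_mod_cast h1
  rw [Complex.normSq_eq_norm_sq] at h2
  have h3 : 0 ≤ ‖α a‖ := norm_nonneg _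
  nlinarith

omit [Fintype F] [DecidableEq F] in
theorem det_ne_zero_GL2 (g : GL2) :
    (g : Matrix (Fin 2) (Fin 2) F) 0 0 * (g : Matrix (Fin 2) (Fin 2) F) 1 1
      - (g : Matrix (Fin 2) (Fin 2) F) 0 1 * (g : Matrix (Fin 2) (Fin 2) F) 1 0 ≠ 0 := by
  have := (Matrix.GeneralLinearGroup.det g).ne_zero
  rw [Matrix.GeneralLinearGroup.val_det_apply, Matrix.det_fin_two] at this
  exact this

/-- every element `[[a, x], [0, d]]` with `a ≠ d` is conjugate to `diag(a, d)` -/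
theorem cusp_split_zero {χ : GL2 → ℂ} (hχ : IsClassFunction GL2 χ) (hc : IsCusp χ) (g : GL2)
    (h01 : (g : Matrix (Fin 2) (Fin 2) F) 0 1 = 0)
    (h10 : (g : Matrix (Fin 2) (Fin 2) F) 1 0 = 0)
    (hne : (g : Matrix (Fin 2) (Fin 2) F) 0 0 ≠ (g : Matrix (Fin 2) (Fin 2) F) 1 1) :
    χ g = 0 := by
  have hdet := det_ne_zero_GL2 g
  rw [h01, zero_mul, sub_zero] at hdet
  obtain ⟨a, ha⟩ : ∃ a : Fˣ, (a : F) = (g : Matrix (Fin 2) (Fin 2) F) 0 0 :=
    ⟨Units.mk0 _ (left_ne_zero_of_mul hdet), rfl⟩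
  obtain ⟨d, hd⟩ : ∃ d : Fˣ, (d : F) = (g : Matrix (Fin 2) (Fin 2) F) 1 1 :=
    ⟨Units.mk0 _ (right_ne_zero_of_mul hdet), rfl⟩
  have hsum := cusp_sum_zero hχ hc a d
  have hda : (d : F) - (a : F) ≠ 0 := by
    rw [ha, hd]
    exact sub_ne_zero.mpr (Ne.symm hne)
  have hG : (g : Matrix (Fin 2) (Fin 2) F) = !![(a : F), 0; 0, (d : F)] := by
    ext i j
    fin_cases i <;> fin_cases j
    · exact ha.symm
    · exact h01
    · exact h10
    · exact hd.symm
  have hconj : ∀ x : F, ((mkBGL (a, d, x) : ↥BGL) : GL2)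
      = uuG (x / ((d : F) - a)) * g * (uuG (x / ((d : F) - a)))⁻¹ := by
    intro x
    rw [eq_mul_inv_iff_mul_eq]
    apply Units.ext
    rw [Units.val_mul, Units.val_mul, uuG_val, hG]
    obtain ⟨e1, e2, e3, e4⟩ := mkBGL_entries (a, d, x)
    simp only at e1 e2 e3 e4
    have hM : (((mkBGL (a, d, x) : ↥BGL) : GL2) : Matrix (Fin 2) (Fin 2) F)
        = !![(a : F), x; 0, (d : F)] := by
      ext i j
      fin_cases i <;> fin_cases j
      · exact e1
      · exact e2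
      · exact e3
      · exact e4
    rw [hM]
    ext i j
    fin_cases i <;> fin_cases j <;> simp [Matrix.mul_apply, Fin.sum_univ_two]
    field_simp
    ring
  have hval : ∀ x : F, χ ((mkBGL (a, d, x) : ↥BGL) : GL2) = χ g := by
    intro x
    rw [hconj x, hχ]
  simp only [hval, Finset.sum_const, Finset.card_univ, nsmul_eq_mul] at hsum
  have hq : (Fintype.card F : ℂ) ≠ 0 := by
    exact_mod_cast Fintype.card_ne_zero
  rcases mul_eq_zero.mp hsum with h | h
  · exact absurd h hq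
  · exact h

end Cfsg.Agent.H9.GL2Chars
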