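import Mathlib
import Cfsg.Agent.H9.GL2Values
import Cfsg.Agent.Lib.helper3.BrauerInd1

set_option autoImplicit false

/-!
# SL₂(F) in characteristic two as a retract of GL₂(F)
-/

namespace Cfsg.Agent.H9.SL2Even

open Cfsg Matrix Cfsg.Agent.Lib.helper3.IndFun Cfsg.Agent.Lib.helper3.Irr
open Cfsg.Agent.H9.PrincipalSeries Cfsg.Agent.H9.PrincipalSeriesGL Cfsg.Agent.S2308
open Cfsg.Agent.H9.GL2Chars
open scoped ComplexConjugate

variable {F : Type*} [Field F] [Fintype F] [CharP F 2]

local notation "GL2" => Matrix.GeneralLinearGroup (Fin 2) F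
local notation "SL2" => Matrix.SpecialLinearGroup (Fin 2) F
local notation "BGL" => Cfsg.upperTriangularGL 2 F

/-- square roots of units in characteristic two -/
noncomputable def sqrtU : Fˣ →* Fˣ :=
  Units.map ((frobeniusEquiv F 2).symm.toRingHom : F →* F)

theorem sqrtU_sq (a : Fˣ) : ((sqrtU a : Fˣ) : F) ^ 2 = a := by
  change ((frobeniusEquiv F 2).symm (a : F)) ^ 2 = a
  exact frobeniusEquiv_symm_pow_p F 2 (a : F)

/-- the retraction of GL₂ onto SL₂ -/
noncomputable def piHom : GL2 →* SL2 where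
  toFun g := ⟨(((sqrtU (Matrix.GeneralLinearGroup.det g))⁻¹ : Fˣ) : F) • (g : Matrix (Fin 2) (Fin 2) F), by
    rw [Matrix.det_smul, Fintype.card_fin]
    have h1 := sqrtU_sq (Matrix.GeneralLinearGroup.det g)
    rw [Matrix.GeneralLinearGroup.val_det_apply] at h1
    rw [← h1, ← mul_pow, Units.inv_mul, one_pow]⟩
  map_one' := by
    apply Subtype.ext
    simp
  map_mul' g h := by
    apply Subtype.ext
    change _ = ((((sqrtU (Matrix.GeneralLinearGroup.det g))⁻¹ : Fˣ) : F)
      • (g : Matrix (Fin 2) (Fin 2) F)) * ((((sqrtU (Matrix.GeneralLinearGroup.det h))⁻¹ : Fˣ) : F)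
      • (h : Matrix (Fin 2) (Fin 2) F))
    simp only [map_mul, mul_inv, Units.val_mul]
    rw [Matrix.smul_mul, Matrix.mul_smul, smul_smul]

theorem piHom_toGL (s : SL2) : piHom (Matrix.SpecialLinearGroup.toGL s) = s := by
  apply Subtype.ext
  change (((sqrtU (Matrix.GeneralLinearGroup.det (Matrix.SpecialLinearGroup.toGL s)))⁻¹ : Fˣ) : F)
    • ((Matrix.SpecialLinearGroup.toGL s : GL2) : Matrix (Fin 2) (Fin 2) F) = s.1
  have : Matrix.GeneralLinearGroup.det (Matrix.SpecialLinearGroup.toGL s) = 1 := by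
    apply Units.ext
    rw [Matrix.GeneralLinearGroup.val_det_apply]
    simp
  rw [this, map_one, inv_one, Units.val_one, one_smul]
  rfl

theorem piHom_surjective : Function.Surjective (piHom (F := F)) :=
  fun s => ⟨_, piHom_toGL s⟩

theorem isIrr_comp_pi [DecidableEq F] {χ : SL2 → ℂ} (hχ : IsIrrCharacter SL2 χ) :
    IsIrrCharacter GL2 (fun g => χ (piHom g)) := by
  rw [isIrrCharacter_iff]
  refine ⟨isCharacter_comp (isCharacter_of_isIrrCharacter hχ) piHom, ?_⟩
  have h1 := irr_classInner_self hχ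
  rw [classInner_apply] at h1 ⊢
  rw [Cfsg.Agent.Lib.helper3.BrauerInd.sum_comp_hom piHom piHom_surjective (fun s => χ s * conj (χ s))]
  have hcard : (Nat.card GL2 : ℂ) = (Nat.card (piHom (F := F)).ker : ℂ) * (Nat.card SL2 : ℂ) := by
    have := Subgroup.card_eq_card_quotient_mul_card_subgroup (piHom (F := F)).ker
    rw [Nat.card_congr (QuotientGroup.quotientKerEquivOfSurjective piHom piHom_surjective).toEquiv]
      at this
    rw [this]
    push_cast
    ring
  rw [hcard]
  have hk : (Nat.card (piHom (F := F)).ker : ℂ) ≠ 0 := by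
    have : Nat.card (piHom (F := F)).ker ≠ 0 := Nat.card_pos.ne'
    exact_mod_cast this
  have hs : (Nat.card SL2 : ℂ) ≠ 0 := by
    have : Nat.card SL2 ≠ 0 := Nat.card_pos.ne'
    exact_mod_cast this
  rw [← h1]
  field_simp


section restrict

omit [Fintype F] [CharP F 2] in
theorem toGL_uu (b : F) :
    Matrix.SpecialLinearGroup.toGL (Cfsg.Agent.S2307.uu b : SL2) = uuG b := by
  apply Units.ext
  rw [uuG_val]
  rfl

omit [CharP F 2] in
/-- on SL₂ the diagonal principal series functions of GL₂ all coincide -/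
theorem RGL_diag_SL [DecidableEq F] (α : MulChar F ℂ) (s : SL2) :
    indFun BGL (thetaGL α α) (Matrix.SpecialLinearGroup.toGL s)
      = indFun BGL (thetaGL 1 1) (Matrix.SpecialLinearGroup.toGL s) := by
  rw [RGL_apply, RGL_apply]
  have hcoe : ((Matrix.SpecialLinearGroup.toGL s : GL2) : Matrix (Fin 2) (Fin 2) F) = s.1 := rfl
  rw [hcoe]
  have hdet := det_entries s
  have key : ∀ x y : F, x * y = 1 → α x * α y = (1 : MulChar F ℂ) x * (1 : MulChar F ℂ) y := by
    intro x y hxy
    rw [← map_mul, ← map_mul, hxy, map_one, map_one]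
  congr 1
  · apply Finset.sum_congr rfl
    intro c _
    by_cases h : s.1 1 0 + (s.1 1 1 - s.1 0 0) * c - s.1 0 1 * c ^ 2 = 0
    · rw [if_pos h, if_pos h]
      apply key
      linear_combination hdet + s.1 0 1 * h
    · rw [if_neg h, if_neg h]
  · by_cases h : s.1 0 1 = 0
    · rw [if_pos h, if_pos h]
      apply key
      rw [h, zero_mul, sub_zero] at hdet
      rw [mul_comm]; exact hdet
    · rw [if_neg h, if_neg h]

/-- classification of the irreducible characters of SL₂ in characteristic two, through GL₂ -/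
theorem even_cases [DecidableEq F] {χ : SL2 → ℂ} (hχ : IsIrrCharacter SL2 χ) :
    (χ 1 = 1 ∧ χ (Cfsg.Agent.S2307.uu 1) = 1 ∧ ∀ s, χ s = 1) ∨
    (χ 1 = (Fintype.card F : ℂ) ∧ χ (Cfsg.Agent.S2307.uu 1) = 0 ∧
      ∀ s, χ s = indFun BGL (thetaGL 1 1) (Matrix.SpecialLinearGroup.toGL s) - 1) ∨
    (χ 1 = (Fintype.card F : ℂ) + 1 ∧ χ (Cfsg.Agent.S2307.uu 1) = 1 ∧
      ∃ α β : MulChar F ℂ, α ≠ β ∧
        ∀ s, χ s = indFun BGL (thetaGL α β) (Matrix.SpecialLinearGroup.toGL s)) ∨
    (χ 1 = (Fintype.card F : ℂ) - 1 ∧ χ (Cfsg.Agent.S2307.uu 1) = -1) := by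
  have hval : ∀ s : SL2, χ s = (fun g => χ (piHom g)) (Matrix.SpecialLinearGroup.toGL s) := by
    intro s
    simp only [piHom_toGL]
  have h1 : (1 : SL2) = piHom (1 : GL2) := (map_one _).symm
  rcases irr_cases' (isIrr_comp_pi hχ) with ⟨α, h⟩ | ⟨α, h⟩ | ⟨α, β, hab, h⟩ | ⟨-, hd, hu⟩
  · left
    have hs : ∀ s : SL2, χ s = 1 := by
      intro s
      rw [hval s, h, Lfun_apply]
      have hcoe : ((Matrix.SpecialLinearGroup.toGL s : GL2) : Matrix (Fin 2) (Fin 2) F) = s.1 := rfl
      rw [hcoe, det_entries s, map_one]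
    exact ⟨hs 1, hs _, hs⟩
  · right; left
    have hs : ∀ s : SL2, χ s
        = indFun BGL (thetaGL 1 1) (Matrix.SpecialLinearGroup.toGL s) - 1 := by
      intro s
      rw [hval s, h]
      unfold Stfun
      rw [Pi.sub_apply, RGL_diag_SL, Lfun_apply]
      have hcoe : ((Matrix.SpecialLinearGroup.toGL s : GL2) : Matrix (Fin 2) (Fin 2) F) = s.1 := rfl
      rw [hcoe, det_entries s, map_one]
    refine ⟨?_, ?_, hs⟩
    · rw [hs 1, map_one, RGL_one]; ring
    · rw [hs, toGL_uu, RGL_uuG]; ring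
  · right; right; left
    have hs : ∀ s : SL2, χ s = indFun BGL (thetaGL α β) (Matrix.SpecialLinearGroup.toGL s) := by
      intro s
      rw [hval s, h]
    refine ⟨?_, ?_, α, β, hab, hs⟩
    · rw [hs 1, map_one, RGL_one]
    · rw [hs, toGL_uu, RGL_uuG]
  · right; right; right
    constructor
    · rw [h1]; exact hd
    · rw [hval, toGL_uu]; exact hu

end restrict

end Cfsg.Agent.H9.SL2Even
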