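import Mathlib
import Cfsg.Agent.S2307
import Cfsg.Agent.Lib.helper3.Gallagher3

set_option autoImplicit false

/-!
# Non-cuspidal irreducible characters of SL₂(F)
-/

namespace Cfsg.Agent.H9.SL2Chars

open Cfsg Matrix Cfsg.Agent.Lib.helper3.IndFun Cfsg.Agent.Lib.helper3.Irr
open Cfsg.Agent.H9.PrincipalSeries Cfsg.Agent.S2307
open scoped ComplexConjugate

variable {F : Type*} [Field F] [Fintype F] [DecidableEq F]

local notation "SL2" => Matrix.SpecialLinearGroup (Fin 2) F

theorem R_isCharacter (α : MulChar F ℂ) : IsCharacter SL2 (indFun (Bor : Subgroup SL2) (theta α)) :=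
  isCharacter_indFun _ _ (Cfsg.Agent.S2306.theta_isCharacter α)

theorem R_one (α : MulChar F ℂ) :
    indFun (Bor : Subgroup SL2) (theta α) 1 = (Fintype.card F : ℂ) + 1 := by
  have := R_uu α (0 : F)
  rw [uu_zero, if_pos rfl] at this
  rw [this]; ring

theorem inner_const' (α : MulChar F ℂ) {χ : SL2 → ℂ} (hχ : IsClassFunction SL2 χ)
    (hc : ∀ g, χ g = χ 1) :
    classInner (indFun (Bor : Subgroup SL2) (theta α)) χ = if α = 1 then conj (χ 1) else 0 := by
  classical
  letI : Fintype ↥(Bor : Subgroup SL2) := Fintype.ofFinite _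
  rw [frobenius_reciprocity _ _ _ hχ, classInner_apply]
  rw [← mkB_bijective.sum_comp (fun b => theta α b * conj (χ (b : SL2))), Fintype.sum_prod_type]
  have hterm : ∀ (a : Fˣ) (x : F), theta α (mkB (a, x)) *
      conj (χ ((mkB (a, x) : ↥(Bor : Subgroup SL2)) : SL2)) = α a * conj (χ 1) := by
    intro a x
    rw [hc]
    simp [theta, mkB]
  simp_rw [hterm]
  have h2 : ∀ a : Fˣ, ∑ _x : F, α (a : F) * conj (χ 1)
      = (Fintype.card F : ℂ) * conj (χ 1) * α (a : F) := by
    intro a
    rw [Finset.sum_const, Finset.card_univ, nsmul_eq_mul]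
    ring
  simp_rw [h2]
  rw [← Finset.mul_sum, sum_units_eq, card_Bor]
  have hq : 2 ≤ Fintype.card F := Fintype.one_lt_card
  have hq1 : ((Fintype.card F : ℂ) - 1) ≠ 0 := by
    have : (Fintype.card F : ℂ) ≠ 1 := by
      have : Fintype.card F ≠ 1 := by omega
      exact_mod_cast this
    exact sub_ne_zero.mpr this
  have hq0 : (Fintype.card F : ℂ) ≠ 0 := by
    have : Fintype.card F ≠ 0 := by omega
    exact_mod_cast this
  push_cast [Nat.cast_sub (show 1 ≤ Fintype.card F by omega)]
  split_ifs with h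
  · field_simp
  · simp

/-- the Steinberg character of SL₂ -/
noncomputable def StSL : SL2 → ℂ := indFun (Bor : Subgroup SL2) (theta 1) - fun _ => 1

theorem StSL_isIrr : IsIrrCharacter SL2 (StSL (F := F)) ∧ StSL (F := F) ≠ fun _ => 1 := by
  have hnorm : classInner (indFun (Bor : Subgroup SL2) (theta 1))
      (indFun (Bor : Subgroup SL2) (theta 1)) = 2 := by
    rw [classInner_R, if_pos rfl, if_pos (by simp)]; norm_num
  obtain ⟨ψ₁, ψ₂, h1, h2, hne, hsum⟩ := exists_two_of_norm_two (R_isCharacter (1 : MulChar F ℂ)) hnorm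
  have hone : IsIrrCharacter SL2 (fun _ : SL2 => (1 : ℂ)) := isIrrCharacter_one
  have hL := inner_const' (1 : MulChar F ℂ)
    (isClassFunction_of_isCharacter (isCharacter_of_isIrrCharacter hone)) (fun _ => rfl)
  rw [if_pos rfl, map_one, hsum, classInner_add_left, irr_classInner_eq h1 hone,
    irr_classInner_eq h2 hone] at hL
  by_cases e1 : ψ₁ = fun _ => 1
  · have : StSL (F := F) = ψ₂ := by
      unfold StSL
      rw [hsum, e1]
      exact add_sub_cancel_left _ _
    rw [this]
    exact ⟨h2, fun h => hne (e1.trans h.symm)⟩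
  · by_cases e2 : ψ₂ = fun _ => 1
    · have : StSL (F := F) = ψ₁ := by
        unfold StSL
        rw [hsum, e2]
        exact add_sub_cancel_right _ _
      rw [this]
      exact ⟨h1, e1⟩
    · rw [if_neg e1, if_neg e2] at hL
      norm_num at hL

theorem StSL_one : StSL (F := F) 1 = (Fintype.card F : ℂ) := by
  unfold StSL
  rw [Pi.sub_apply, R_one]
  ring

theorem R_triv_eq : indFun (Bor : Subgroup SL2) (theta (1 : MulChar F ℂ))
    = (fun _ => (1 : ℂ)) + StSL := by
  unfold StSL
  exact (add_sub_cancel _ _).symm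

end Cfsg.Agent.H9.SL2Chars
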