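import Mathlib
import Cfsg.Agent.H9.SL2Chars
import Cfsg.Agent.H9.GL2Chars

set_option autoImplicit false

/-!
# Restriction of characters of SL₂(F) to the Borel and unipotent subgroups
-/

namespace Cfsg.Agent.H9.SL2Chars

open Cfsg Matrix Cfsg.Agent.Lib.helper3.IndFun Cfsg.Agent.Lib.helper3.Irr
open Cfsg.Agent.H9.PrincipalSeries Cfsg.Agent.S2307
open Cfsg.Agent.H9.GL2Chars (dual_inv mulCharFintype)
open scoped ComplexConjugate

variable {F : Type*} [Field F] [Fintype F] [DecidableEq F]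

local notation "SL2" => Matrix.SpecialLinearGroup (Fin 2) F

theorem classInner_R_eq {χ : SL2 → ℂ} (hχ : IsClassFunction SL2 χ) (α : MulChar F ℂ) :
    classInner (indFun (Bor : Subgroup SL2) (theta α)) χ =
      (Nat.card ↥(Bor : Subgroup SL2) : ℂ)⁻¹ * ∑ a : Fˣ, α (a : F) *
        ∑ x : F, conj (χ ((mkB (a, x) : ↥(Bor : Subgroup SL2)) : SL2)) := by
  classical
  letI : Fintype ↥(Bor : Subgroup SL2) := Fintype.ofFinite _
  rw [frobenius_reciprocity _ _ _ hχ, classInner_apply]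
  rw [← mkB_bijective.sum_comp (fun b => theta α b * conj (χ (b : SL2))), Fintype.sum_prod_type]
  congr 1
  apply Finset.sum_congr rfl
  intro a _
  rw [Finset.mul_sum]
  apply Finset.sum_congr rfl
  intro x _
  congr 1

/-- the `U`-coinvariants of a class function of SL₂, computed through the principal series -/
theorem sum_inner_R {χ : SL2 → ℂ} (hχ : IsClassFunction SL2 χ) (a₀ : Fˣ) :
    ∑ α : MulChar F ℂ, conj (α (a₀ : F)) * classInner (indFun (Bor : Subgroup SL2) (theta α)) χ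
      = (Fintype.card F : ℂ)⁻¹ *
        ∑ x : F, conj (χ ((mkB (a₀, x) : ↥(Bor : Subgroup SL2)) : SL2)) := by
  simp only [classInner_R_eq hχ]
  have h2 : ∑ α : MulChar F ℂ, conj (α (a₀ : F)) * ((Nat.card ↥(Bor : Subgroup SL2) : ℂ)⁻¹ *
      ∑ a : Fˣ, α (a : F) * ∑ x : F, conj (χ ((mkB (a, x) : ↥(Bor : Subgroup SL2)) : SL2)))
      = (Nat.card ↥(Bor : Subgroup SL2) : ℂ)⁻¹ * (((Fintype.card F : ℂ) - 1) *
        ∑ x : F, conj (χ ((mkB (a₀, x) : ↥(Bor : Subgroup SL2)) : SL2))) := by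
    rw [← dual_inv (fun a => ∑ x : F, conj (χ ((mkB (a, x) : ↥(Bor : Subgroup SL2)) : SL2))) a₀,
      Finset.mul_sum]
    apply Finset.sum_congr rfl
    intro α _
    ring
  rw [h2, card_Bor]
  have hq : 2 ≤ Fintype.card F := Fintype.one_lt_card
  have hq1 : ((Fintype.card F : ℂ) - 1) ≠ 0 := by
    have : (Fintype.card F : ℂ) ≠ 1 := by
      have : Fintype.card F ≠ 1 := by omega
      exact_mod_cast this
    exact sub_ne_zero.mpr this
  have hq0 : (Fintype.card F : ℂ) ≠ 0 := by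
    have : Fintype.card F ≠ 0 := by omega
    exact_mod_cast this
  push_cast [Nat.cast_sub (show 1 ≤ Fintype.card F by omega)]
  field_simp

/-- cuspidal class functions of SL₂ -/
def IsCuspSL (χ : SL2 → ℂ) : Prop :=
  ∀ α : MulChar F ℂ, classInner (indFun (Bor : Subgroup SL2) (theta α)) χ = 0

theorem cuspSL_sum_zero {χ : SL2 → ℂ} (hχ : IsClassFunction SL2 χ) (hc : IsCuspSL χ) (a : Fˣ) :
    ∑ x : F, χ ((mkB (a, x) : ↥(Bor : Subgroup SL2)) : SL2) = 0 := by
  have h := sum_inner_R hχ a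
  have hq : (Fintype.card F : ℂ) ≠ 0 := by
    exact_mod_cast Fintype.card_ne_zero
  have h0 : ∑ α : MulChar F ℂ, conj (α (a : F)) *
      classInner (indFun (Bor : Subgroup SL2) (theta α)) χ = 0 := by
    apply Finset.sum_eq_zero
    intro α _
    rw [hc α, mul_zero]
  rw [h0] at h
  have h1 : ∑ x : F, conj (χ ((mkB (a, x) : ↥(Bor : Subgroup SL2)) : SL2)) = 0 := by
    rcases mul_eq_zero.mp h.symm with h | h
    · exact absurd (inv_eq_zero.mp h) hq
    · exact h
  rw [← map_sum] at h1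
  exact (map_eq_zero _).mp h1

omit [Fintype F] [DecidableEq F] in
theorem mkB_one (x : F) : ((mkB ((1 : Fˣ), x) : ↥(Bor : Subgroup SL2)) : SL2) = uu x := by
  apply ext_entries <;> simp [mkB, uu]

/-- the multiplicity of the trivial character of `U`, through the principal series -/
theorem sum_inner_R_one {χ : SL2 → ℂ} (hχ : IsClassFunction SL2 χ) (ψ : AddChar F ℂ) :
    ∑ α : MulChar F ℂ, classInner (indFun (Bor : Subgroup SL2) (theta α)) χ
      = conj (NN ψ χ 0) := by
  have h := sum_inner_R hχ 1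
  simp only [Units.val_one, map_one, one_mul, mkB_one] at h
  rw [h]
  unfold NN
  simp [map_sum]

/-- Fourier inversion on the unipotent subgroup -/
theorem fourier_inv (ψ : AddChar F ℂ) (hψ : ψ.IsPrimitive) (χ : SL2 → ℂ) (b : F) :
    χ (uu b) = ∑ c : F, NN ψ χ c * ψ (c * b) := by
  have hq : (Fintype.card F : ℂ) ≠ 0 := by
    exact_mod_cast Fintype.card_ne_zero
  unfold NN
  simp only [mul_assoc, Finset.sum_mul]
  rw [← Finset.mul_sum, Finset.sum_comm]
  have h3 : ∀ b' : F, ∑ c : F, χ (uu b') * (conj (ψ (c * b')) * ψ (c * b))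
      = χ (uu b') * (if b - b' = 0 then (Fintype.card F : ℂ) else 0) := by
    intro b'
    have h4 := AddChar.sum_mulShift (b - b') hψ
    simp_rw [conj_mul_psi]
    rw [← Finset.mul_sum, h4]
    split_ifs <;> simp
  simp_rw [h3]
  rw [Finset.sum_eq_single b]
  · rw [sub_self, if_pos rfl]
    field_simp
  · intro b' _ hb
    rw [if_neg (sub_ne_zero.mpr (Ne.symm hb)), mul_zero]
  · intro h; exact absurd (Finset.mem_univ _) h

omit [Fintype F] [DecidableEq F] in
theorem uu_conj_diag (a : Fˣ) (b : F) :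
    uu ((a : F) ^ 2 * b) = ((mkB (a, 0) : ↥(Bor : Subgroup SL2)) : SL2) * uu b *
      ((mkB (a, 0) : ↥(Bor : Subgroup SL2)) : SL2)⁻¹ := by
  rw [eq_mul_inv_iff_mul_eq]
  have ha : (a : F) ≠ 0 := a.ne_zero
  apply ext_entries
  · rw [mul_entries, mul_entries]; simp [mkB, uu]
  · rw [mul_entries, mul_entries]; simp [mkB, uu]; field_simp
  · rw [mul_entries, mul_entries]; simp [mkB, uu]
  · rw [mul_entries, mul_entries]; simp [mkB, uu]

/-- the Fourier coefficients only depend on the square class -/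
theorem NN_sq_mul (ψ : AddChar F ℂ) {χ : SL2 → ℂ} (hχ : IsClassFunction SL2 χ) (a : Fˣ) (c : F) :
    NN ψ χ ((a : F) ^ 2 * c) = NN ψ χ c := by
  unfold NN
  congr 1
  symm
  apply Fintype.sum_equiv (Equiv.mulLeft₀ (((a : F) ^ 2)⁻¹) (inv_ne_zero (pow_ne_zero 2 a.ne_zero)))
  intro b
  simp only [Equiv.mulLeft₀_apply]
  have ha : (a : F) ≠ 0 := a.ne_zero
  have h1 : χ (uu b) = χ (uu (((a : F) ^ 2)⁻¹ * b)) := by
    have := uu_conj_diag a (((a : F) ^ 2)⁻¹ * b)
    rw [← mul_assoc, mul_inv_cancel₀ (pow_ne_zero 2 ha), one_mul] at this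
    rw [this, hχ]
  rw [h1]
  congr 3
  field_simp

end Cfsg.Agent.H9.SL2Chars
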