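import Mathlib
import Cfsg.Agent.H9.SL2Unip

set_option autoImplicit false

/-!
# Square classes and the restriction of characters of SL₂(F) to the unipotent subgroup, `q` odd
-/

namespace Cfsg.Agent.H9.SL2Chars

open Cfsg Matrix Cfsg.Agent.Lib.helper3.IndFun Cfsg.Agent.Lib.helper3.Irr
open Cfsg.Agent.H9.PrincipalSeries Cfsg.Agent.S2307
open scoped ComplexConjugate

variable {F : Type*} [Field F] [Fintype F] [DecidableEq F]

local notation "SL2" => Matrix.SpecialLinearGroup (Fin 2) F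

theorem ringChar_ne_two_of_odd (hodd : Odd (Fintype.card F)) : ringChar F ≠ 2 := by
  intro h
  have := FiniteField.even_card_iff_char_two.mp h
  have h2 := Nat.odd_iff.mp hodd
  omega

theorem NN_of_square (ψ : AddChar F ℂ) {χ : SL2 → ℂ} (hχ : IsClassFunction SL2 χ) {c : F}
    (hc : quadraticChar F c = 1) : NN ψ χ c = NN ψ χ 1 := by
  have hc0 : c ≠ 0 := by
    intro h
    rw [h, quadraticChar_zero] at hc
    exact zero_ne_one hc
  obtain ⟨a, ha⟩ := (quadraticChar_one_iff_isSquare hc0).mp hc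
  have ha0 : a ≠ 0 := by
    intro h
    rw [h, mul_zero] at ha
    exact hc0 ha
  have := NN_sq_mul ψ hχ (Units.mk0 a ha0) 1
  rw [Units.val_mk0, mul_one, pow_two, ← ha] at this
  exact this

theorem NN_of_nonsquare (ψ : AddChar F ℂ) {χ : SL2 → ℂ} (hχ : IsClassFunction SL2 χ) {ν c : F}
    (hν : quadraticChar F ν = -1) (hc : quadraticChar F c = -1) : NN ψ χ c = NN ψ χ ν := by
  have hν0 : ν ≠ 0 := by
    intro h
    rw [h, quadraticChar_zero] at hν
    norm_num at hν
  have h1 : quadraticChar F (c * ν⁻¹) = 1 := by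
    have h2 : quadraticChar F ν⁻¹ = -1 := by
      have h3 : quadraticChar F (ν⁻¹ * ν) = 1 := by
        rw [inv_mul_cancel₀ hν0, map_one]
      rw [map_mul, hν] at h3
      linarith
    rw [map_mul, hc, h2]
    norm_num
  have hc0 : c * ν⁻¹ ≠ 0 := by
    intro h
    rw [h, quadraticChar_zero] at h1
    exact zero_ne_one h1
  obtain ⟨a, ha⟩ := (quadraticChar_one_iff_isSquare hc0).mp h1
  have ha0 : a ≠ 0 := by
    intro h
    rw [h, mul_zero] at ha
    exact hc0 ha
  have := NN_sq_mul ψ hχ (Units.mk0 a ha0) ν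
  rw [Units.val_mk0, pow_two, ← ha, mul_assoc, inv_mul_cancel₀ hν0, mul_one] at this
  exact this

/-- the complex-valued quadratic character -/
noncomputable def eta (c : F) : ℂ := ((quadraticChar F c : ℤ) : ℂ)

theorem NN_eq_eta (ψ : AddChar F ℂ) {χ : SL2 → ℂ} (hχ : IsClassFunction SL2 χ) {ν : F}
    (hν : quadraticChar F ν = -1) (c : F) (hc : c ≠ 0) :
    NN ψ χ c = (NN ψ χ 1 + NN ψ χ ν) / 2 + eta c * ((NN ψ χ 1 - NN ψ χ ν) / 2) := by
  unfold eta
  rcases quadraticChar_dichotomy hc with h | h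
  · rw [NN_of_square ψ hχ h, h]
    push_cast
    ring
  · rw [NN_of_nonsquare ψ hχ hν h, h]
    push_cast
    ring

theorem sum_eta (hodd : Odd (Fintype.card F)) : ∑ c : F, eta c = 0 := by
  unfold eta
  have := quadraticChar_sum_zero (ringChar_ne_two_of_odd hodd)
  rw [← Int.cast_sum, this, Int.cast_zero]

theorem eta_zero : eta (0 : F) = 0 := by
  unfold eta
  rw [quadraticChar_zero, Int.cast_zero]

/-- the degree in terms of the three multiplicities -/
theorem degree_eq (hodd : Odd (Fintype.card F)) (ψ : AddChar F ℂ) (hψ : ψ.IsPrimitive)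
    {χ : SL2 → ℂ} (hχ : IsClassFunction SL2 χ) {ν : F} (hν : quadraticChar F ν = -1) :
    χ 1 = NN ψ χ 0 + ((Fintype.card F : ℂ) - 1) / 2 * (NN ψ χ 1 + NN ψ χ ν) := by
  have h := fourier_inv ψ hψ χ 0
  rw [uu_zero] at h
  rw [h]
  have hterm : ∀ c : F, NN ψ χ c * ψ (c * 0) = (if c = 0 then NN ψ χ 0
      - (NN ψ χ 1 + NN ψ χ ν) / 2 else 0) + ((NN ψ χ 1 + NN ψ χ ν) / 2
      + eta c * ((NN ψ χ 1 - NN ψ χ ν) / 2)) := by
    intro c
    rw [mul_zero, AddChar.map_zero_eq_one, mul_one]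
    by_cases hc : c = 0
    · rw [if_pos hc, hc, eta_zero]; ring
    · rw [if_neg hc, zero_add]
      exact NN_eq_eta ψ hχ hν c hc
  simp only [hterm, Finset.sum_add_distrib, ← Finset.sum_mul, sum_eta hodd]
  simp
  ring

end Cfsg.Agent.H9.SL2Chars
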