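import Mathlib
import Cfsg.Agent.H9.SL2OddUnip
import Cfsg.Agent.Lib.helper3.Irr7
import Cfsg.Agent.S2300

set_option autoImplicit false

/-!
# The norm of the Gelfand–Graev character of SL₂(F), `q` odd
-/

namespace Cfsg.Agent.H9.SL2Chars

open Cfsg Matrix Cfsg.Agent.Lib.helper3.IndFun Cfsg.Agent.Lib.helper3.Irr
open Cfsg.Agent.H9.PrincipalSeries Cfsg.Agent.S2307
open scoped ComplexConjugate

variable {F : Type*} [Field F] [Fintype F] [DecidableEq F]

local notation "SL2" => Matrix.SpecialLinearGroup (Fin 2) F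

omit [Fintype F] [DecidableEq F] in
theorem conj_uu_iff (y : SL2) (b b' : F) :
    y * uu b' * y⁻¹ = uu b ↔
      (b * y.1 1 0 = 0 ∧ y.1 0 0 * b' = b * y.1 1 1 ∧ y.1 1 0 * b' = 0) := by
  rw [mul_inv_eq_iff_eq_mul]
  constructor
  · intro h
    have h00 := congrArg (fun g : SL2 => g.1 0 0) h
    have h01 := congrArg (fun g : SL2 => g.1 0 1) h
    have h11 := congrArg (fun g : SL2 => g.1 1 1) h
    simp only [mul_entries] at h00 h01 h11
    simp [uu] at h00 h01 h11
    exact ⟨mul_eq_zero.mpr h00, by linear_combination h01, mul_eq_zero.mpr h11⟩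
  · rintro ⟨h1, h2, h3⟩
    apply ext_entries
    · rw [mul_entries, mul_entries]; simp [uu]; exact (mul_eq_zero.mp h1)
    · rw [mul_entries, mul_entries]; simp [uu]; linear_combination h2
    · rw [mul_entries, mul_entries]; simp [uu]
    · rw [mul_entries, mul_entries]; simp [uu]; exact (mul_eq_zero.mp h3)

/-- the inner double sum for a fixed conjugating element -/
noncomputable def TT (ψ : AddChar F ℂ) (c : F) (y : SL2) : ℂ :=
  ∑ b : F, ∑ b' : F, if y * uu b' * y⁻¹ = uu b then conj (ψ (c * b)) * ψ (c * b') else 0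

theorem TT_of_ne (ψ : AddChar F ℂ) (c : F) (y : SL2) (hy : y.1 1 0 ≠ 0) : TT ψ c y = 1 := by
  unfold TT
  rw [Finset.sum_eq_single 0, Finset.sum_eq_single 0]
  · rw [if_pos]
    · simp
    · rw [conj_uu_iff]; simp
  · intro b' _ hb'
    rw [if_neg]
    rw [conj_uu_iff]
    intro h
    rcases mul_eq_zero.mp h.2.2 with h | h
    · exact hy h
    · exact hb' h
  · intro h; exact absurd (Finset.mem_univ _) h
  · intro b _ hb
    apply Finset.sum_eq_zero
    intro b' _
    rw [if_neg]
    rw [conj_uu_iff]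
    intro h
    rcases mul_eq_zero.mp h.1 with h | h
    · exact hb h
    · exact hy h
  · intro h; exact absurd (Finset.mem_univ _) h

theorem TT_mkB (ψ : AddChar F ℂ) (hψ : ψ.IsPrimitive) (c : F) (hc : c ≠ 0) (a : Fˣ) (s : F) :
    TT ψ c ((mkB (a, s) : ↥(Bor : Subgroup SL2)) : SL2)
      = if (a : F) ^ 2 = 1 then (Fintype.card F : ℂ) else 0 := by
  unfold TT
  have ha : (a : F) ≠ 0 := a.ne_zero
  have e00 : ((mkB (a, s) : ↥(Bor : Subgroup SL2)) : SL2).1 0 0 = a := by simp [mkB]
  have e10 : ((mkB (a, s) : ↥(Bor : Subgroup SL2)) : SL2).1 1 0 = 0 := by simp [mkB]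
  have e11 : ((mkB (a, s) : ↥(Bor : Subgroup SL2)) : SL2).1 1 1 = (a : F)⁻¹ := by simp [mkB]
  rw [Finset.sum_comm]
  have h1 : ∀ b' : F, (∑ b : F, if ((mkB (a, s) : ↥(Bor : Subgroup SL2)) : SL2) * uu b' *
      (((mkB (a, s) : ↥(Bor : Subgroup SL2)) : SL2))⁻¹ = uu b
      then conj (ψ (c * b)) * ψ (c * b') else 0) = ψ (b' * (c * (1 - (a : F) ^ 2))) := by
    intro b'
    rw [Finset.sum_eq_single ((a : F) ^ 2 * b')]
    · rw [if_pos]
      · rw [← AddChar.map_neg_eq_conj, ← AddChar.map_add_eq_mul]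
        congr 1
        ring
      · rw [conj_uu_iff, e00, e10, e11]
        refine ⟨by ring, ?_, by ring⟩
        field_simp
    · intro b _ hb
      rw [if_neg]
      rw [conj_uu_iff, e00, e10, e11]
      intro h
      apply hb
      have := h.2.1
      field_simp at this
      linear_combination -this
    · intro h; exact absurd (Finset.mem_univ _) h
  simp only [h1]
  rw [AddChar.sum_mulShift _ hψ]
  by_cases h : (a : F) ^ 2 = 1
  · rw [if_pos h, if_pos (by rw [h, sub_self, mul_zero])]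
  · rw [if_neg h, if_neg]
    · simp
    · intro h'
      rcases mul_eq_zero.mp h' with h' | h'
      · exact hc h'
      · exact h (by linear_combination -h')


theorem card_sq_eq_one (hodd : Odd (Fintype.card F)) :
    ∑ a : Fˣ, (if (a : F) ^ 2 = 1 then (1 : ℂ) else 0) = 2 := by
  classical
  have h2 : (2 : F) ≠ 0 := Ring.two_ne_zero (ringChar_ne_two_of_odd hodd)
  have hne : (1 : Fˣ) ≠ -1 := by
    intro h
    have := congrArg Units.val h
    simp only [Units.val_one, Units.val_neg] at this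
    apply h2
    linear_combination this
  rw [← Finset.sum_filter, Finset.sum_const, nsmul_eq_mul, mul_one]
  have : Finset.univ.filter (fun a : Fˣ => (a : F) ^ 2 = 1) = {1, -1} := by
    ext a
    simp only [Finset.mem_filter, Finset.mem_univ, true_and, Finset.mem_insert,
      Finset.mem_singleton]
    constructor
    · intro h
      have : ((a : F) - 1) * ((a : F) + 1) = 0 := by linear_combination h
      rcases mul_eq_zero.mp this with h | h
      · left; apply Units.ext; simp only [Units.val_one]; linear_combination h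
      · right; apply Units.ext; simp only [Units.val_neg, Units.val_one]; linear_combination h
    · rintro (rfl | rfl) <;> simp
  rw [this, Finset.card_pair hne]
  norm_num

theorem sum_TT (hodd : Odd (Fintype.card F)) (ψ : AddChar F ℂ) (hψ : ψ.IsPrimitive) (c : F)
    (hc : c ≠ 0) :
    ∑ y : SL2, TT ψ c y = (Fintype.card F : ℂ) ^ 2 * ((Fintype.card F : ℂ) + 1) := by
  classical
  letI : Fintype ↥(Bor : Subgroup SL2) := Fintype.ofFinite _
  rw [← Finset.sum_filter_add_sum_filter_not Finset.univ (fun y : SL2 => y ∈ (Bor : Subgroup SL2))]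
  have h1 : ∑ y ∈ Finset.univ.filter (fun y : SL2 => y ∈ (Bor : Subgroup SL2)), TT ψ c y
      = 2 * (Fintype.card F : ℂ) ^ 2 := by
    rw [Finset.sum_subtype (Finset.univ.filter (fun y : SL2 => y ∈ (Bor : Subgroup SL2)))
      (p := fun y : SL2 => y ∈ (Bor : Subgroup SL2)) (by simp) (TT ψ c)]
    rw [← mkB_bijective.sum_comp (fun b : ↥(Bor : Subgroup SL2) => TT ψ c (b : SL2)),
      Fintype.sum_prod_type]
    simp only [TT_mkB ψ hψ c hc, Finset.sum_const, Finset.card_univ, nsmul_eq_mul]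
    have : ∀ a : Fˣ, (Fintype.card F : ℂ) * (if (a : F) ^ 2 = 1 then (Fintype.card F : ℂ) else 0)
        = (Fintype.card F : ℂ) ^ 2 * (if (a : F) ^ 2 = 1 then (1 : ℂ) else 0) := by
      intro a
      split_ifs <;> ring
    simp only [this]
    rw [← Finset.mul_sum, card_sq_eq_one hodd]
    ring
  have h2 : ∑ y ∈ Finset.univ.filter (fun y : SL2 => ¬ y ∈ (Bor : Subgroup SL2)), TT ψ c y
      = (Nat.card SL2 : ℂ) - (Nat.card ↥(Bor : Subgroup SL2) : ℂ) := by
    have h3 : ∀ y ∈ Finset.univ.filter (fun y : SL2 => ¬ y ∈ (Bor : Subgroup SL2)),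
        TT ψ c y = 1 := by
      intro y hy
      rw [Finset.mem_filter, mem_Bor] at hy
      exact TT_of_ne ψ c y hy.2
    rw [Finset.sum_congr rfl h3, Finset.sum_const, nsmul_eq_mul, mul_one, Finset.filter_not,
      Finset.card_sdiff_of_subset (Finset.filter_subset _ _), Finset.card_univ,
      Nat.cast_sub (Finset.card_le_univ _), Nat.card_eq_fintype_card, Nat.card_eq_fintype_card,
      Fintype.card_subtype]
  rw [h1, h2, Cfsg.Agent.S2300.card_SL2_cast, card_Bor]
  have hq : 1 ≤ Fintype.card F := Fintype.card_pos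
  push_cast [Nat.cast_sub hq]
  ring

/-- the Gelfand–Graev characters of SL₂(F), `q` odd, have norm `q + 1` -/
theorem GG_norm (hodd : Odd (Fintype.card F)) (ψ : AddChar F ℂ) (hψ : ψ.IsPrimitive) (c : F)
    (hc : c ≠ 0) :
    ∑ χ : IrrCharacter SL2, NN ψ (χ : SL2 → ℂ) c * conj (NN ψ (χ : SL2 → ℂ) c)
      = (Fintype.card F : ℂ) + 1 := by
  classical
  have hq0 : (Fintype.card F : ℂ) ≠ 0 := by
    exact_mod_cast Fintype.card_ne_zero
  have hterm : ∀ χ : IrrCharacter SL2, NN ψ (χ : SL2 → ℂ) c * conj (NN ψ (χ : SL2 → ℂ) c)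
      = ((Fintype.card F : ℂ)⁻¹) ^ 2 * ∑ b : F, ∑ b' : F,
        ((χ : SL2 → ℂ) (uu b) * conj ((χ : SL2 → ℂ) (uu b'))) * (conj (ψ (c * b)) * ψ (c * b')) := by
    intro χ
    have hconj : conj (NN ψ (χ : SL2 → ℂ) c) = (Fintype.card F : ℂ)⁻¹ *
        ∑ b' : F, conj ((χ : SL2 → ℂ) (uu b')) * ψ (c * b') := by
      unfold NN
      rw [(starRingEnd ℂ).map_mul, map_inv₀, Complex.conj_natCast, map_sum]
      congr 1
      apply Finset.sum_congr rfl
      intro b' _
      rw [(starRingEnd ℂ).map_mul, Complex.conj_conj]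
    rw [hconj]
    unfold NN
    rw [mul_mul_mul_comm, ← pow_two, Finset.sum_mul_sum]
    congr 1
    apply Finset.sum_congr rfl
    intro b _
    apply Finset.sum_congr rfl
    intro b' _
    ring
  simp only [hterm]
  rw [← Finset.mul_sum, Finset.sum_comm]
  have h2 : ∀ b : F, ∑ χ : IrrCharacter SL2, ∑ b' : F,
      ((χ : SL2 → ℂ) (uu b) * conj ((χ : SL2 → ℂ) (uu b'))) * (conj (ψ (c * b)) * ψ (c * b'))
      = ∑ b' : F, ∑ y : SL2, if y * uu b' * y⁻¹ = uu b
          then conj (ψ (c * b)) * ψ (c * b') else 0 := by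
    intro b
    rw [Finset.sum_comm]
    apply Finset.sum_congr rfl
    intro b' _
    rw [← Finset.sum_mul, sum_irr_mul_conj, Nat.card_eq_fintype_card, Fintype.card_subtype,
      ← Finset.sum_filter, Finset.sum_const, nsmul_eq_mul]
  simp only [h2]
  have h3 : ∑ b : F, ∑ b' : F, ∑ y : SL2, (if y * uu b' * y⁻¹ = uu b
      then conj (ψ (c * b)) * ψ (c * b') else 0) = ∑ y : SL2, TT ψ c y := by
    unfold TT
    calc ∑ b : F, ∑ b' : F, ∑ y : SL2, (if y * uu b' * y⁻¹ = uu b
          then conj (ψ (c * b)) * ψ (c * b') else 0)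
        = ∑ b : F, ∑ y : SL2, ∑ b' : F, (if y * uu b' * y⁻¹ = uu b
          then conj (ψ (c * b)) * ψ (c * b') else 0) :=
          Finset.sum_congr rfl (fun b _ => Finset.sum_comm)
      _ = ∑ y : SL2, ∑ b : F, ∑ b' : F, (if y * uu b' * y⁻¹ = uu b
          then conj (ψ (c * b)) * ψ (c * b') else 0) := Finset.sum_comm
  rw [h3, sum_TT hodd ψ hψ c hc]
  field_simp

end Cfsg.Agent.H9.SL2Chars
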