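import Mathlib
import Cfsg.Agent.H9.SL2GG

set_option autoImplicit false

/-!
# The non-cuspidal irreducible characters of SL₂(F), `q` odd
-/

namespace Cfsg.Agent.H9.SL2Chars

open Cfsg Matrix Cfsg.Agent.Lib.helper3.IndFun Cfsg.Agent.Lib.helper3.Irr
open Cfsg.Agent.H9.PrincipalSeries Cfsg.Agent.S2307
open Cfsg.Agent.H9.GL2Chars (mulCharFintype card_mulChar)
open scoped ComplexConjugate

variable {F : Type*} [Field F] [Fintype F] [DecidableEq F]

local notation "SL2" => Matrix.SpecialLinearGroup (Fin 2) F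

theorem card_sq_eq_one_mulChar (hodd : Odd (Fintype.card F)) :
    ∑ α : MulChar F ℂ, (if α ^ 2 = 1 then (1 : ℂ) else 0) = 2 := by
  classical
  obtain ⟨e⟩ := MulChar.mulEquiv_units F ℂ
  rw [← card_sq_eq_one hodd]
  apply Fintype.sum_equiv e.toEquiv
  intro α
  have h1 : α ^ 2 = 1 ↔ ((e α : Fˣ) : F) ^ 2 = 1 := by
    constructor
    · intro h
      have := congrArg e h
      rw [map_pow, map_one] at this
      have := congrArg Units.val this
      simpa using this
    · intro h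
      apply e.injective
      rw [map_pow, map_one]
      apply Units.ext
      simpa using h
  simp only [MulEquiv.toEquiv_eq_coe, MulEquiv.coe_toEquiv]
  by_cases h : α ^ 2 = 1
  · rw [if_pos h, if_pos (h1.mp h)]
  · rw [if_neg h, if_neg (fun h' => h (h1.mpr h'))]

theorem card_filter_sq (hodd : Odd (Fintype.card F)) :
    (Finset.univ.filter (fun α : MulChar F ℂ => α ^ 2 = 1)).card = 2 := by
  classical
  have h := card_sq_eq_one_mulChar hodd
  rw [← Finset.sum_filter, Finset.sum_const, nsmul_eq_mul, mul_one] at h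
  exact_mod_cast h

theorem exists_quad (hodd : Odd (Fintype.card F)) :
    ∃ α₀ : MulChar F ℂ, α₀ ^ 2 = 1 ∧ α₀ ≠ 1 ∧ ∀ α : MulChar F ℂ, α ^ 2 = 1 → α = 1 ∨ α = α₀ := by
  classical
  obtain ⟨x, y, hxy, hs⟩ := Finset.card_eq_two.mp (card_filter_sq hodd)
  have h1 : (1 : MulChar F ℂ) ∈ Finset.univ.filter (fun α : MulChar F ℂ => α ^ 2 = 1) := by
    simp
  have hmem : ∀ α : MulChar F ℂ, α ^ 2 = 1 ↔ α = x ∨ α = y := by
    intro α
    have : α ∈ Finset.univ.filter (fun α : MulChar F ℂ => α ^ 2 = 1) ↔ α ∈ ({x, y} : Finset _) := by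
      rw [hs]
    simpa using this
  rw [hs, Finset.mem_insert, Finset.mem_singleton] at h1
  rcases h1 with h1 | h1
  · refine ⟨y, (hmem y).mpr (Or.inr rfl), fun h => hxy (h1.symm ▸ h.symm), ?_⟩
    intro α hα
    rcases (hmem α).mp hα with h | h
    · left; rw [h, h1]
    · right; exact h
  · refine ⟨x, (hmem x).mpr (Or.inl rfl), fun h => hxy (h.trans h1), ?_⟩
    intro α hα
    rcases (hmem α).mp hα with h | h
    · right; exact h
    · left; rw [h, h1]

theorem R_inv (α : MulChar F ℂ) :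
    indFun (Bor : Subgroup SL2) (theta α) = indFun (Bor : Subgroup SL2) (theta α⁻¹) := by
  classical
  have h1 := classInner_R α α
  have h2 := classInner_R α α⁻¹
  have h3 := classInner_R α⁻¹ α
  have h4 := classInner_R α⁻¹ α⁻¹
  have h5 : classInner (indFun (Bor : Subgroup SL2) (theta α) - indFun (Bor : Subgroup SL2) (theta α⁻¹))
      (indFun (Bor : Subgroup SL2) (theta α) - indFun (Bor : Subgroup SL2) (theta α⁻¹)) = 0 := by
    rw [classInner_sub_left, classInner_sub_right, classInner_sub_right, h1, h2, h3, h4]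
    have e3 : (if α⁻¹ = α then (1 : ℂ) else 0) = if α = α⁻¹ then 1 else 0 := by
      by_cases hab : α = α⁻¹
      · rw [if_pos hab, if_pos hab.symm]
      · rw [if_neg hab, if_neg (fun h => hab h.symm)]
    rw [inv_inv, if_pos rfl, if_pos rfl, e3]
    ring
  exact sub_eq_zero.mp (eq_zero_of_classInner_self_eq_zero _ h5)

theorem R_eq_iff (α β : MulChar F ℂ) :
    indFun (Bor : Subgroup SL2) (theta α) = indFun (Bor : Subgroup SL2) (theta β) ↔
      α = β ∨ α = β⁻¹ := by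
  classical
  constructor
  · intro h
    have h1 := classInner_R α α
    have h2 := classInner_R α β
    rw [← h, h1, if_pos rfl] at h2
    by_contra hno
    rw [not_or] at hno
    rw [if_neg hno.1, if_neg hno.2, add_zero] at h2
    have h3 : ((1 : ℂ) + if α = α⁻¹ then 1 else 0) ≠ 0 := by
      split_ifs <;> norm_num
    exact h3 h2
  · rintro (rfl | rfl)
    · rfl
    · exact (R_inv β).symm

/-- the data of the two halves of the principal series of the quadratic character -/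
structure Halves (F : Type*) [Field F] [Fintype F] [DecidableEq F] where
  α₀ : MulChar F ℂ
  sq : α₀ ^ 2 = 1
  ne : α₀ ≠ 1
  uniq : ∀ α : MulChar F ℂ, α ^ 2 = 1 → α = 1 ∨ α = α₀
  ψ₁ : Matrix.SpecialLinearGroup (Fin 2) F → ℂ
  ψ₂ : Matrix.SpecialLinearGroup (Fin 2) F → ℂ
  irr₁ : IsIrrCharacter (Matrix.SpecialLinearGroup (Fin 2) F) ψ₁
  irr₂ : IsIrrCharacter (Matrix.SpecialLinearGroup (Fin 2) F) ψ₂
  ne12 : ψ₁ ≠ ψ₂
  sum : indFun (Bor : Subgroup (Matrix.SpecialLinearGroup (Fin 2) F)) (theta α₀) = ψ₁ + ψ₂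
  deg₁ : ψ₁ 1 = (((Fintype.card F + 1) / 2 : ℕ) : ℂ)
  deg₂ : ψ₂ 1 = (((Fintype.card F + 1) / 2 : ℕ) : ℂ)

theorem exists_halves (hodd : Odd (Fintype.card F)) : Nonempty (Halves F) := by
  obtain ⟨α₀, hsq, hne, huniq⟩ := exists_quad hodd
  obtain ⟨χ₁, χ₂, h1, h2, h12, hsum, hd1, hd2, -⟩ := Cfsg.Agent.S2307.result hodd α₀ hsq hne
  exact ⟨⟨α₀, hsq, hne, huniq, χ₁, χ₂, h1, h2, h12, hsum, hd1, hd2⟩⟩


section known

variable (H : Halves F)

theorem R_isIrr (α : MulChar F ℂ) (hα : α ^ 2 ≠ 1) :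
    IsIrrCharacter SL2 (indFun (Bor : Subgroup SL2) (theta α)) :=
  (Cfsg.Agent.S2306.result α).mpr hα

theorem noncusp_cases_SL {χ : SL2 → ℂ} (hχ : IsIrrCharacter SL2 χ) (α : MulChar F ℂ)
    (h : classInner (indFun (Bor : Subgroup SL2) (theta α)) χ ≠ 0) :
    (α ^ 2 ≠ 1 ∧ χ = indFun (Bor : Subgroup SL2) (theta α)) ∨ χ = (fun _ => 1) ∨ χ = StSL ∨
      χ = H.ψ₁ ∨ χ = H.ψ₂ := by
  by_cases hα : α ^ 2 = 1
  · right
    rcases H.uniq α hα with rfl | rfl
    · rw [R_triv_eq, classInner_add_left, irr_classInner_eq isIrrCharacter_one hχ,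
        irr_classInner_eq StSL_isIrr.1 hχ] at h
      by_cases e1 : (fun _ : SL2 => (1 : ℂ)) = χ
      · exact Or.inl e1.symm
      · by_cases e2 : StSL = χ
        · exact Or.inr (Or.inl e2.symm)
        · rw [if_neg e1, if_neg e2] at h
          norm_num at h
    · rw [H.sum, classInner_add_left, irr_classInner_eq H.irr₁ hχ,
        irr_classInner_eq H.irr₂ hχ] at h
      by_cases e1 : H.ψ₁ = χ
      · exact Or.inr (Or.inr (Or.inl e1.symm))
      · by_cases e2 : H.ψ₂ = χ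
        · exact Or.inr (Or.inr (Or.inr e2.symm))
        · rw [if_neg e1, if_neg e2] at h
          norm_num at h
  · left
    refine ⟨hα, ?_⟩
    rw [irr_classInner_eq (R_isIrr α hα) hχ] at h
    by_contra hne
    rw [if_neg (fun h' => hne h'.symm)] at h
    exact h rfl

theorem NN_one (ψ : AddChar F ℂ) (hψ : ψ.IsPrimitive) (c : F) (hc : c ≠ 0) :
    NN ψ (fun _ : SL2 => (1 : ℂ)) c = 0 := by
  unfold NN
  have h1 : ∑ b : F, conj (ψ (c * b)) = 0 := by
    have := AddChar.sum_mulShift c hψ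
    rw [if_neg hc, Nat.cast_zero] at this
    rw [← map_sum]
    simp_rw [mul_comm c]
    rw [this, map_zero]
  simp only [one_mul]
  rw [h1, mul_zero]

theorem NN_St (ψ : AddChar F ℂ) (hψ : ψ.IsPrimitive) (c : F) (hc : c ≠ 0) :
    NN ψ (StSL (F := F)) c = 1 := by
  have h := NN_R ψ hψ (1 : MulChar F ℂ) c hc
  rw [R_triv_eq, NN_add, NN_one ψ hψ c hc, zero_add] at h
  exact h

theorem NN_halves (ψ : AddChar F ℂ) (hψ : ψ.IsPrimitive) (c : F) (hc : c ≠ 0) :
    NN ψ H.ψ₁ c + NN ψ H.ψ₂ c = 1 := by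
  have h := NN_R ψ hψ H.α₀ c hc
  rw [H.sum, NN_add] at h
  exact h

/-- the squares of the two multiplicities of the halves add up to one -/
theorem NN_halves_sq (ψ : AddChar F ℂ) (hψ : ψ.IsPrimitive) (c : F) (hc : c ≠ 0) :
    NN ψ H.ψ₁ c * conj (NN ψ H.ψ₁ c) + NN ψ H.ψ₂ c * conj (NN ψ H.ψ₂ c) = 1 := by
  obtain ⟨n1, h1⟩ := NN_nat ψ (isCharacter_of_isIrrCharacter H.irr₁) c
  obtain ⟨n2, h2⟩ := NN_nat ψ (isCharacter_of_isIrrCharacter H.irr₂) c
  have h := NN_halves H ψ hψ c hc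
  rw [h1, h2] at h ⊢
  have h3 : n1 + n2 = 1 := by exact_mod_cast h
  rw [Complex.conj_natCast, Complex.conj_natCast]
  have h4 : n1 * n1 + n2 * n2 = 1 := by
    have : (n1 = 0 ∧ n2 = 1) ∨ (n1 = 1 ∧ n2 = 0) := by omega
    rcases this with ⟨a, b⟩ | ⟨a, b⟩ <;> simp [a, b]
  exact_mod_cast h4

end known

end Cfsg.Agent.H9.SL2Chars
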