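import Mathlib
import Cfsg.Agent.H9.SL2OddKnown

set_option autoImplicit false

/-!
# Enumeration of the non-cuspidal irreducible characters of SL₂(F), `q` odd
-/

namespace Cfsg.Agent.H9.SL2Chars

open Cfsg Matrix Cfsg.Agent.Lib.helper3.IndFun Cfsg.Agent.Lib.helper3.Irr
open Cfsg.Agent.H9.PrincipalSeries Cfsg.Agent.S2307
open Cfsg.Agent.H9.GL2Chars (mulCharFintype card_mulChar)
open scoped ComplexConjugate

variable {F : Type*} [Field F] [Fintype F] [DecidableEq F]

local notation "SL2" => Matrix.SpecialLinearGroup (Fin 2) F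

/-- the trivial character -/
noncomputable def trivc : IrrCharacter SL2 := ⟨fun _ => 1, isIrrCharacter_one⟩

/-- the Steinberg character -/
noncomputable def Stc : IrrCharacter SL2 := ⟨StSL, StSL_isIrr.1⟩

/-- the first half -/
noncomputable def p1c (H : Halves F) : IrrCharacter SL2 := ⟨H.ψ₁, H.irr₁⟩

/-- the second half -/
noncomputable def p2c (H : Halves F) : IrrCharacter SL2 := ⟨H.ψ₂, H.irr₂⟩

/-- the irreducible principal series -/
noncomputable def RcSL (s : {α : MulChar F ℂ // α ^ 2 ≠ 1}) : IrrCharacter SL2 :=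
  ⟨indFun (Bor : Subgroup SL2) (theta s.1), R_isIrr s.1 s.2⟩

open Classical in
/-- the set of irreducible principal series characters -/
noncomputable def K3 : Finset (IrrCharacter SL2) := Finset.univ.image (RcSL (F := F))

theorem card_S (hodd : Odd (Fintype.card F)) :
    Fintype.card {α : MulChar F ℂ // α ^ 2 ≠ 1} = Fintype.card F - 3 := by
  classical
  rw [Fintype.card_subtype_compl, card_mulChar, Fintype.card_subtype, card_filter_sq hodd]
  omega

/-- inversion on the parameter set -/
noncomputable def invS (s : {α : MulChar F ℂ // α ^ 2 ≠ 1}) : {α : MulChar F ℂ // α ^ 2 ≠ 1} :=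
  ⟨s.1⁻¹, by
    intro h
    apply s.2
    rw [inv_pow, inv_eq_one] at h
    exact h⟩

open Classical in
theorem two_mul_card_K3 (hodd : Odd (Fintype.card F)) :
    2 * (K3 (F := F)).card = Fintype.card F - 3 := by
  rw [← card_S hodd, ← Finset.card_univ,
    Finset.card_eq_sum_card_image (RcSL (F := F)) Finset.univ]
  have hfib : ∀ χ ∈ Finset.univ.image (RcSL (F := F)),
      (Finset.univ.filter (fun s => RcSL (F := F) s = χ)).card = 2 := by
    intro χ hχ
    obtain ⟨s, -, rfl⟩ := Finset.mem_image.mp hχ
    have hne : s ≠ invS s := by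
      intro h
      have h1 : s.1 = s.1⁻¹ := congrArg Subtype.val h
      apply s.2
      rw [pow_two]
      nth_rewrite 2 [h1]
      exact mul_inv_cancel _
    have : Finset.univ.filter (fun t => RcSL (F := F) t = RcSL s) = {s, invS s} := by
      ext t
      simp only [Finset.mem_filter, Finset.mem_univ, true_and, Finset.mem_insert,
        Finset.mem_singleton]
      constructor
      · intro h
        have h1 : indFun (Bor : Subgroup SL2) (theta t.1) = indFun (Bor : Subgroup SL2) (theta s.1) :=
          congrArg Subtype.val h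
        rcases (R_eq_iff t.1 s.1).mp h1 with h2 | h2
        · left; exact Subtype.ext h2
        · right; exact Subtype.ext h2
      · rintro (rfl | rfl)
        · rfl
        · apply Subtype.ext
          exact (R_inv s.1).symm
    rw [this, Finset.card_pair hne]
  rw [Finset.sum_congr rfl hfib, Finset.sum_const, smul_eq_mul, K3, mul_comm]

theorem K3_deg (χ : IrrCharacter SL2) (hχ : χ ∈ K3 (F := F)) :
    (χ : SL2 → ℂ) 1 = (Fintype.card F : ℂ) + 1 := by
  classical
  obtain ⟨s, -, rfl⟩ := Finset.mem_image.mp hχ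
  exact R_one s.1

theorem K3_NN (ψ : AddChar F ℂ) (hψ : ψ.IsPrimitive) (c : F) (hc : c ≠ 0)
    (χ : IrrCharacter SL2) (hχ : χ ∈ K3 (F := F)) : NN ψ (χ : SL2 → ℂ) c = 1 := by
  classical
  obtain ⟨s, -, rfl⟩ := Finset.mem_image.mp hχ
  exact NN_R ψ hψ s.1 c hc

end Cfsg.Agent.H9.SL2Chars
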