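import Mathlib
import Cfsg.Agent.H9.SL2OddCount
import Cfsg.Agent.S2325
import Cfsg.Agent.Lib.helper3.Irr8

set_option autoImplicit false

/-!
# Classification of the irreducible characters of SL₂(F), `q` odd
-/

namespace Cfsg.Agent.H9.SL2Chars

open Cfsg Matrix Cfsg.Agent.Lib.helper3.IndFun Cfsg.Agent.Lib.helper3.Irr
open Cfsg.Agent.H9.PrincipalSeries Cfsg.Agent.S2307
open Cfsg.Agent.H9.GL2Chars (mulCharFintype card_mulChar)
open scoped ComplexConjugate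

variable {F : Type*} [Field F] [Fintype F] [DecidableEq F]

local notation "SL2" => Matrix.SpecialLinearGroup (Fin 2) F

omit [DecidableEq F] in
theorem deg_ne (hodd : Odd (Fintype.card F)) :
    (1 : ℂ) ≠ (Fintype.card F : ℂ) ∧ (1 : ℂ) ≠ (((Fintype.card F + 1) / 2 : ℕ) : ℂ) ∧
    (1 : ℂ) ≠ (Fintype.card F : ℂ) + 1 ∧
    (Fintype.card F : ℂ) ≠ (((Fintype.card F + 1) / 2 : ℕ) : ℂ) ∧
    (Fintype.card F : ℂ) ≠ (Fintype.card F : ℂ) + 1 ∧
    (((Fintype.card F + 1) / 2 : ℕ) : ℂ) ≠ (Fintype.card F : ℂ) + 1 := by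
  have hq : 2 ≤ Fintype.card F := Fintype.one_lt_card
  obtain ⟨k, hk⟩ := hodd
  refine ⟨?_, ?_, ?_, ?_, ?_, ?_⟩
  · have : (1 : ℕ) ≠ Fintype.card F := by omega
    exact_mod_cast this
  · have : (1 : ℕ) ≠ (Fintype.card F + 1) / 2 := by omega
    exact_mod_cast this
  · have : (1 : ℕ) ≠ Fintype.card F + 1 := by omega
    exact_mod_cast this
  · have : Fintype.card F ≠ (Fintype.card F + 1) / 2 := by omega
    exact_mod_cast this
  · have : Fintype.card F ≠ Fintype.card F + 1 := by omega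
    exact_mod_cast this
  · have : (Fintype.card F + 1) / 2 ≠ Fintype.card F + 1 := by omega
    exact_mod_cast this

section main

variable (H : Halves F)

open Classical in
/-- the set of non-cuspidal irreducible characters -/
noncomputable def knownSet : Finset (IrrCharacter SL2) :=
  insert trivc (insert Stc (insert (p1c H) (insert (p2c H) K3)))

open Classical in
/-- the set of cuspidal irreducible characters -/
noncomputable def cuspSetSL : Finset (IrrCharacter SL2) := (knownSet H)ᶜ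

open Classical in
theorem sum_split_SL (hodd : Odd (Fintype.card F)) (f : IrrCharacter SL2 → ℂ) :
    ∑ χ, f χ = f trivc + f Stc + f (p1c H) + f (p2c H) + ∑ χ ∈ K3 (F := F), f χ +
      ∑ χ ∈ cuspSetSL H, f χ := by
  obtain ⟨d1, d2, d3, d4, d5, d6⟩ := deg_ne (F := F) hodd
  have hdeg : ∀ {χ χ' : IrrCharacter SL2}, (χ : SL2 → ℂ) 1 ≠ (χ' : SL2 → ℂ) 1 → χ ≠ χ' := by
    intro χ χ' h e
    exact h (by rw [e])
  have ht : (trivc : IrrCharacter SL2).1 1 = 1 := rfl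
  have hs : (Stc : IrrCharacter SL2).1 1 = (Fintype.card F : ℂ) := StSL_one
  have h1 : (p1c H).1 1 = (((Fintype.card F + 1) / 2 : ℕ) : ℂ) := H.deg₁
  have h2 : (p2c H).1 1 = (((Fintype.card F + 1) / 2 : ℕ) : ℂ) := H.deg₂
  have h12 : p1c H ≠ p2c H := fun e => H.ne12 (congrArg Subtype.val e)
  have hK : ∀ {χ : IrrCharacter SL2}, (χ : SL2 → ℂ) 1 ≠ (Fintype.card F : ℂ) + 1 → χ ∉ K3 (F := F) :=
    fun h hm => h (K3_deg _ hm)
  rw [← Finset.sum_add_sum_compl (knownSet H) f]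
  unfold cuspSetSL knownSet
  rw [Finset.sum_insert, Finset.sum_insert, Finset.sum_insert, Finset.sum_insert]
  · ring
  · exact hK (by rw [h2]; exact d6)
  · rw [Finset.mem_insert, not_or]
    exact ⟨h12, hK (by rw [h1]; exact d6)⟩
  · rw [Finset.mem_insert, Finset.mem_insert, not_or, not_or]
    exact ⟨hdeg (by rw [hs, h1]; exact d4), hdeg (by rw [hs, h2]; exact d4),
      hK (by rw [hs]; exact d5)⟩
  · rw [Finset.mem_insert, Finset.mem_insert, Finset.mem_insert, not_or, not_or, not_or]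
    exact ⟨hdeg (by rw [ht, hs]; exact d1), hdeg (by rw [ht, h1]; exact d2),
      hdeg (by rw [ht, h2]; exact d2), hK (by rw [ht]; exact d3)⟩

open Classical in
theorem irr_cases_SL (χ : IrrCharacter SL2) :
    χ = trivc ∨ χ = Stc ∨ χ = p1c H ∨ χ = p2c H ∨ χ ∈ K3 (F := F) ∨ χ ∈ cuspSetSL H := by
  by_cases h : χ ∈ knownSet H
  · unfold knownSet at h
    simp only [Finset.mem_insert] at h
    tauto
  · right; right; right; right; right
    unfold cuspSetSL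
    rw [Finset.mem_compl]
    exact h

open Classical in
theorem cuspSL_of_mem (χ : IrrCharacter SL2) (hχ : χ ∈ cuspSetSL H) :
    IsCuspSL (χ : SL2 → ℂ) := by
  intro α
  by_contra hne
  unfold cuspSetSL at hχ
  rw [Finset.mem_compl] at hχ
  apply hχ
  unfold knownSet
  simp only [Finset.mem_insert]
  rcases noncusp_cases_SL H χ.2 α hne with ⟨hα, h⟩ | h | h | h | h
  · right; right; right; right
    unfold K3
    rw [Finset.mem_image]
    exact ⟨⟨α, hα⟩, Finset.mem_univ _, Subtype.ext h.symm⟩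
  · left; exact Subtype.ext h
  · right; left; exact Subtype.ext h
  · right; right; left; exact Subtype.ext h
  · right; right; right; left; exact Subtype.ext h

end main


section finale

variable (H : Halves F)

theorem card_irr_SL2 (hodd : Odd (Fintype.card F)) :
    (Fintype.card (IrrCharacter SL2) : ℂ) = (Fintype.card F : ℂ) + 4 := by
  rw [← Nat.card_eq_fintype_card, card_irr_eq_card_conjClasses, Cfsg.Agent.S2325.result hodd]
  push_cast
  ring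

omit [DecidableEq F] in
theorem int_form_ge (a b : ℕ) (h : ¬ (a = 0 ∧ b = 0)) :
    (1 : ℤ) ≤ (a : ℤ) ^ 2 - a * b + (b : ℤ) ^ 2 := by
  have ha : (0 : ℤ) ≤ a := Int.natCast_nonneg a
  have hb : (0 : ℤ) ≤ b := Int.natCast_nonneg b
  have h' : (1 : ℤ) ≤ a ∨ (1 : ℤ) ≤ b := by
    by_contra hno
    rw [not_or] at hno
    apply h
    constructor <;> omega
  rcases h' with h1 | h1
  · nlinarith [sq_nonneg ((a : ℤ) - b), sq_nonneg ((a : ℤ) - 2 * b)]
  · nlinarith [sq_nonneg ((a : ℤ) - b), sq_nonneg ((b : ℤ) - 2 * a)]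

omit [DecidableEq F] in
theorem int_form_eq_one (a b : ℕ) (h : (a : ℤ) ^ 2 - a * b + (b : ℤ) ^ 2 = 1) :
    (a = 1 ∧ b = 1) ∨ (a = 1 ∧ b = 0) ∨ (a = 0 ∧ b = 1) := by
  have ha : (a : ℤ) ≤ 1 := by nlinarith [sq_nonneg (2 * (b : ℤ) - a)]
  have hb : (b : ℤ) ≤ 1 := by nlinarith [sq_nonneg (2 * (a : ℤ) - b)]
  have ha' : a ≤ 1 := by exact_mod_cast ha
  have hb' : b ≤ 1 := by exact_mod_cast hb
  interval_cases a <;> interval_cases b <;> simp_all

/-- the multiplicities of the cuspidal characters of SL₂(F), `q` odd -/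
theorem cusp_data (hodd : Odd (Fintype.card F)) (ψ : AddChar F ℂ) (hψ : ψ.IsPrimitive) {ν : F}
    (hν : quadraticChar F ν = -1) (χ : IrrCharacter SL2) (hχ : χ ∈ cuspSetSL H) :
    NN ψ (χ : SL2 → ℂ) 0 = 0 ∧
      ((NN ψ (χ : SL2 → ℂ) 1 = 1 ∧ NN ψ (χ : SL2 → ℂ) ν = 1) ∨
       (NN ψ (χ : SL2 → ℂ) 1 = 1 ∧ NN ψ (χ : SL2 → ℂ) ν = 0) ∨
       (NN ψ (χ : SL2 → ℂ) 1 = 0 ∧ NN ψ (χ : SL2 → ℂ) ν = 1)) := by
  classical
  have hν0 : ν ≠ 0 := by
    intro h
    rw [h, quadraticChar_zero] at hν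
    norm_num at hν
  have hq : 2 ≤ Fintype.card F := Fintype.one_lt_card
  have hq1 : ((Fintype.card F : ℂ) - 1) ≠ 0 := by
    have : (Fintype.card F : ℂ) ≠ 1 := by
      have : Fintype.card F ≠ 1 := by omega
      exact_mod_cast this
    exact sub_ne_zero.mpr this
  -- the natural number multiplicities
  have hchar : ∀ φ : IrrCharacter SL2, IsCharacter SL2 (φ : SL2 → ℂ) :=
    fun φ => isCharacter_of_isIrrCharacter φ.2
  have hcf : ∀ φ : IrrCharacter SL2, IsClassFunction SL2 (φ : SL2 → ℂ) :=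
    fun φ => isClassFunction_of_isCharacter (hchar φ)
  choose a ha using fun φ : IrrCharacter SL2 => NN_nat ψ (hchar φ) 1
  choose b hb using fun φ : IrrCharacter SL2 => NN_nat ψ (hchar φ) ν
  have hzero : ∀ φ ∈ cuspSetSL H, NN ψ (φ : SL2 → ℂ) 0 = 0 := by
    intro φ hφ
    have h := sum_inner_R_one (hcf φ) ψ
    rw [Finset.sum_eq_zero (fun α _ => cuspSL_of_mem H φ hφ α)] at h
    exact (map_eq_zero _).mp h.symm
  have hdeg : ∀ φ ∈ cuspSetSL H, (φ : SL2 → ℂ) 1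
      = ((Fintype.card F : ℂ) - 1) / 2 * ((a φ : ℂ) + b φ) := by
    intro φ hφ
    rw [degree_eq hodd ψ hψ (hcf φ) hν, hzero φ hφ, ha, hb, zero_add]
  have hne : ∀ φ ∈ cuspSetSL H, ¬ (a φ = 0 ∧ b φ = 0) := by
    intro φ hφ h
    have := hdeg φ hφ
    rw [h.1, h.2] at this
    simp only [Nat.cast_zero, add_zero, mul_zero] at this
    exact apply_one_ne_zero φ.2 this
  -- the four equations
  have E1 := sum_split_SL H hodd (fun _ => (1 : ℂ))
  have E2 := sum_split_SL H hodd (fun φ => (φ : SL2 → ℂ) 1 ^ 2)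
  have E3 := sum_split_SL H hodd
    (fun φ => NN ψ (φ : SL2 → ℂ) 1 * conj (NN ψ (φ : SL2 → ℂ) 1))
  have E4 := sum_split_SL H hodd
    (fun φ => NN ψ (φ : SL2 → ℂ) ν * conj (NN ψ (φ : SL2 → ℂ) ν))
  rw [GG_norm hodd ψ hψ 1 one_ne_zero] at E3
  rw [GG_norm hodd ψ hψ ν hν0] at E4
  rw [sum_sq_degree, Cfsg.Agent.S2300.card_SL2_cast] at E2
  simp only [Finset.sum_const, Finset.card_univ, nsmul_eq_mul, mul_one] at E1
  rw [card_irr_SL2 hodd] at E1
  have hK2 : ∑ φ ∈ K3 (F := F), (φ : SL2 → ℂ) 1 ^ 2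
      = ((K3 (F := F)).card : ℂ) * ((Fintype.card F : ℂ) + 1) ^ 2 := by
    rw [Finset.sum_congr rfl (fun φ hφ => by rw [K3_deg φ hφ]), Finset.sum_const, nsmul_eq_mul]
  have hK3 : ∀ c : F, c ≠ 0 → ∑ φ ∈ K3 (F := F),
      NN ψ (φ : SL2 → ℂ) c * conj (NN ψ (φ : SL2 → ℂ) c) = ((K3 (F := F)).card : ℂ) := by
    intro c hc
    rw [Finset.sum_congr rfl (fun φ hφ => by rw [K3_NN ψ hψ c hc φ hφ, map_one, mul_one]),
      Finset.sum_const, nsmul_eq_mul, mul_one]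
  rw [hK2] at E2
  rw [hK3 1 one_ne_zero] at E3
  rw [hK3 ν hν0] at E4
  have ht : (trivc : IrrCharacter SL2).1 1 = 1 := rfl
  have hs : (Stc : IrrCharacter SL2).1 1 = (Fintype.card F : ℂ) := StSL_one
  have h1 : (p1c H).1 1 = (((Fintype.card F + 1) / 2 : ℕ) : ℂ) := H.deg₁
  have h2 : (p2c H).1 1 = (((Fintype.card F + 1) / 2 : ℕ) : ℂ) := H.deg₂
  have hhalf : (((Fintype.card F + 1) / 2 : ℕ) : ℂ) = ((Fintype.card F : ℂ) + 1) / 2 := by
    obtain ⟨k, hk⟩ := hodd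
    have : (Fintype.card F + 1) / 2 = k + 1 := by omega
    rw [this, hk]
    push_cast
    ring
  rw [ht, hs, h1, h2, hhalf] at E2
  have ht3 : ∀ c : F, c ≠ 0 → NN ψ ((trivc : IrrCharacter SL2) : SL2 → ℂ) c = 0 :=
    fun c hc => NN_one ψ hψ c hc
  have hs3 : ∀ c : F, c ≠ 0 → NN ψ ((Stc : IrrCharacter SL2) : SL2 → ℂ) c = 1 :=
    fun c hc => NN_St ψ hψ c hc
  have hp3 : ∀ c : F, c ≠ 0 →
      NN ψ ((p1c H : IrrCharacter SL2) : SL2 → ℂ) c * conj (NN ψ ((p1c H : IrrCharacter SL2) : SL2 → ℂ) c)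
      + NN ψ ((p2c H : IrrCharacter SL2) : SL2 → ℂ) c *
        conj (NN ψ ((p2c H : IrrCharacter SL2) : SL2 → ℂ) c) = 1 :=
    fun c hc => NN_halves_sq H ψ hψ c hc
  rw [ht3 1 one_ne_zero, hs3 1 one_ne_zero] at E3
  rw [ht3 ν hν0, hs3 ν hν0] at E4
  simp only [map_zero, map_one, mul_zero, mul_one, zero_add] at E3 E4
  have hk : 2 * ((K3 (F := F)).card : ℂ) = (Fintype.card F : ℂ) - 3 := by
    have h := two_mul_card_K3 (F := F) hodd
    have h3 : 3 ≤ Fintype.card F := by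
      obtain ⟨k, hk⟩ := hodd
      omega
    have : ((2 * (K3 (F := F)).card : ℕ) : ℂ) = ((Fintype.card F - 3 : ℕ) : ℂ) := by rw [h]
    push_cast [Nat.cast_sub h3] at this
    exact this
  -- sums over the cuspidal set in terms of a, b
  have S2 : ∑ φ ∈ cuspSetSL H, (φ : SL2 → ℂ) 1 ^ 2
      = (((Fintype.card F : ℂ) - 1) / 2) ^ 2 * ∑ φ ∈ cuspSetSL H, ((a φ : ℂ) + b φ) ^ 2 := by
    rw [Finset.mul_sum]
    apply Finset.sum_congr rfl
    intro φ hφ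
    rw [hdeg φ hφ]
    ring
  have S3 : ∑ φ ∈ cuspSetSL H, NN ψ (φ : SL2 → ℂ) 1 * conj (NN ψ (φ : SL2 → ℂ) 1)
      = ∑ φ ∈ cuspSetSL H, (a φ : ℂ) ^ 2 := by
    apply Finset.sum_congr rfl
    intro φ _
    rw [ha, Complex.conj_natCast]
    ring
  have S4 : ∑ φ ∈ cuspSetSL H, NN ψ (φ : SL2 → ℂ) ν * conj (NN ψ (φ : SL2 → ℂ) ν)
      = ∑ φ ∈ cuspSetSL H, (b φ : ℂ) ^ 2 := by
    apply Finset.sum_congr rfl
    intro φ _
    rw [hb, Complex.conj_natCast]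
    ring
  rw [S2] at E2
  rw [S3] at E3
  rw [S4] at E4
  have hx : ((cuspSetSL H).card : ℂ) = ((Fintype.card F : ℂ) + 3) / 2 := by
    linear_combination (-1 : ℂ) * E1 - (1 / 2 : ℂ) * hk
  have hA : ∑ φ ∈ cuspSetSL H, (a φ : ℂ) ^ 2 = ((Fintype.card F : ℂ) + 1) / 2 := by
    have := hp3 1 one_ne_zero
    linear_combination (-1 : ℂ) * E3 - this - (1 / 2 : ℂ) * hk
  have hB : ∑ φ ∈ cuspSetSL H, (b φ : ℂ) ^ 2 = ((Fintype.card F : ℂ) + 1) / 2 := by
    have := hp3 ν hν0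
    linear_combination (-1 : ℂ) * E4 - this - (1 / 2 : ℂ) * hk
  have hAB : ∑ φ ∈ cuspSetSL H, ((a φ : ℂ) + b φ) ^ 2 = 2 * (Fintype.card F : ℂ) := by
    have h4 : (((Fintype.card F : ℂ) - 1) / 2) ^ 2 * ∑ φ ∈ cuspSetSL H, ((a φ : ℂ) + b φ) ^ 2
        = (((Fintype.card F : ℂ) - 1) / 2) ^ 2 * (2 * (Fintype.card F : ℂ)) := by
      linear_combination (-1 : ℂ) * E2 - (1 / 2 : ℂ) * ((Fintype.card F : ℂ) + 1) ^ 2 * hk
    exact mul_left_cancel₀ (pow_ne_zero 2 (div_ne_zero hq1 two_ne_zero)) h4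
  have hform : ∑ φ ∈ cuspSetSL H, ((a φ : ℂ) ^ 2 - a φ * b φ + (b φ : ℂ) ^ 2)
      = ((cuspSetSL H).card : ℂ) := by
    have : ∀ φ : IrrCharacter SL2, ((a φ : ℂ) ^ 2 - a φ * b φ + (b φ : ℂ) ^ 2)
        = (3 / 2 : ℂ) * ((a φ : ℂ) ^ 2) + (3 / 2 : ℂ) * ((b φ : ℂ) ^ 2)
          - (1 / 2 : ℂ) * ((a φ : ℂ) + b φ) ^ 2 := by
      intro φ; ring
    simp only [this, Finset.sum_add_distrib, Finset.sum_sub_distrib, ← Finset.mul_sum]
    rw [hA, hB, hAB, hx]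
    ring
  have hformZ : ∑ φ ∈ cuspSetSL H, ((a φ : ℤ) ^ 2 - a φ * b φ + (b φ : ℤ) ^ 2)
      = ∑ φ ∈ cuspSetSL H, (1 : ℤ) := by
    rw [Finset.sum_const, nsmul_eq_mul, mul_one]
    have : ((∑ φ ∈ cuspSetSL H, ((a φ : ℤ) ^ 2 - a φ * b φ + (b φ : ℤ) ^ 2) : ℤ) : ℂ)
        = (((cuspSetSL H).card : ℤ) : ℂ) := by
      push_cast
      exact hform
    exact_mod_cast this
  have hle : ∀ φ ∈ cuspSetSL H, (1 : ℤ) ≤ (a φ : ℤ) ^ 2 - a φ * b φ + (b φ : ℤ) ^ 2 :=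
    fun φ hφ => int_form_ge _ _ (hne φ hφ)
  have hone := (Finset.sum_eq_sum_iff_of_le hle).mp hformZ.symm χ hχ
  refine ⟨hzero χ hχ, ?_⟩
  rw [ha, hb]
  rcases int_form_eq_one _ _ hone.symm with ⟨e1, e2⟩ | ⟨e1, e2⟩ | ⟨e1, e2⟩
  · left; rw [e1, e2]; simp
  · right; left; rw [e1, e2]; simp
  · right; right; rw [e1, e2]; simp

end finale

end Cfsg.Agent.H9.SL2Chars
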