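import Mathlib
import Cfsg.Agent.H9.SL2OddMain

set_option autoImplicit false

/-!
# The irreducible characters of SL₂(F), `q` odd: function-level classification
-/

namespace Cfsg.Agent.H9.SL2Chars

open Cfsg Matrix Cfsg.Agent.Lib.helper3.IndFun Cfsg.Agent.Lib.helper3.Irr
open Cfsg.Agent.H9.PrincipalSeries Cfsg.Agent.S2307
open scoped ComplexConjugate

variable {F : Type*} [Field F] [Fintype F] [DecidableEq F]

local notation "SL2" => Matrix.SpecialLinearGroup (Fin 2) F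

/-- the type of an irreducible character of SL₂(F), `q` odd -/
theorem irr_cases_SL' (H : Halves F) (hodd : Odd (Fintype.card F)) (ψ : AddChar F ℂ)
    (hψ : ψ.IsPrimitive) {ν : F} (hν : quadraticChar F ν = -1) {χ : SL2 → ℂ}
    (hχ : IsIrrCharacter SL2 χ) :
    χ = (fun _ => 1) ∨ χ = StSL ∨ χ = H.ψ₁ ∨ χ = H.ψ₂ ∨
      (∃ α : MulChar F ℂ, α ^ 2 ≠ 1 ∧ χ = indFun (Bor : Subgroup SL2) (theta α)) ∨
      (IsCuspSL χ ∧ NN ψ χ 0 = 0 ∧
        ((NN ψ χ 1 = 1 ∧ NN ψ χ ν = 1) ∨ (NN ψ χ 1 = 1 ∧ NN ψ χ ν = 0) ∨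
          (NN ψ χ 1 = 0 ∧ NN ψ χ ν = 1))) := by
  classical
  rcases irr_cases_SL H (⟨χ, hχ⟩ : IrrCharacter SL2) with h | h | h | h | h | h
  · exact Or.inl (congrArg Subtype.val h)
  · exact Or.inr (Or.inl (congrArg Subtype.val h))
  · exact Or.inr (Or.inr (Or.inl (congrArg Subtype.val h)))
  · exact Or.inr (Or.inr (Or.inr (Or.inl (congrArg Subtype.val h))))
  · right; right; right; right; left
    unfold K3 at h
    obtain ⟨s, -, hs⟩ := Finset.mem_image.mp h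
    exact ⟨s.1, s.2, (congrArg Subtype.val hs).symm⟩
  · right; right; right; right; right
    have h1 := cusp_data H hodd ψ hψ hν _ h
    exact ⟨cuspSL_of_mem H _ h, h1.1, h1.2⟩

/-- degrees of the cuspidal characters -/
theorem cusp_degree_SL (hodd : Odd (Fintype.card F)) (ψ : AddChar F ℂ)
    (hψ : ψ.IsPrimitive) {ν : F} (hν : quadraticChar F ν = -1) {χ : SL2 → ℂ}
    (hχ : IsClassFunction SL2 χ) (h0 : NN ψ χ 0 = 0) :
    (NN ψ χ 1 = 1 ∧ NN ψ χ ν = 1 → χ 1 = (Fintype.card F : ℂ) - 1) ∧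
    ((NN ψ χ 1 = 1 ∧ NN ψ χ ν = 0) ∨ (NN ψ χ 1 = 0 ∧ NN ψ χ ν = 1) →
      χ 1 = (((Fintype.card F - 1) / 2 : ℕ) : ℂ)) := by
  have hd := degree_eq hodd ψ hψ hχ hν
  have hhalf : (((Fintype.card F - 1) / 2 : ℕ) : ℂ) = ((Fintype.card F : ℂ) - 1) / 2 := by
    obtain ⟨k, hk⟩ := hodd
    have : (Fintype.card F - 1) / 2 = k := by omega
    rw [this, hk]
    push_cast
    ring
  constructor
  · rintro ⟨h1, h2⟩
    rw [hd, h0, h1, h2]
    ring
  · rintro (⟨h1, h2⟩ | ⟨h1, h2⟩)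
    · rw [hd, h0, h1, h2, hhalf]; ring
    · rw [hd, h0, h1, h2, hhalf]; ring

theorem exists_nonsquare (hodd : Odd (Fintype.card F)) : ∃ ν : F, quadraticChar F ν = -1 :=
  quadraticChar_exists_neg_one (ringChar_ne_two_of_odd hodd)

end Cfsg.Agent.H9.SL2Chars
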