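import Mathlib
import Cfsg.Agent.H9.SL2OddExport

set_option autoImplicit false

/-!
# Values of the irreducible characters of SL₂(F) on unipotent elements, `q` odd
-/

namespace Cfsg.Agent.H9.SL2Chars

open Cfsg Matrix Cfsg.Agent.Lib.helper3.IndFun Cfsg.Agent.Lib.helper3.Irr
open Cfsg.Agent.H9.PrincipalSeries Cfsg.Agent.S2307
open Cfsg.Agent.H9.GL2Chars (mulCharFintype)
open scoped ComplexConjugate

variable {F : Type*} [Field F] [Fintype F] [DecidableEq F]

local notation "SL2" => Matrix.SpecialLinearGroup (Fin 2) F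

omit [DecidableEq F] in
theorem sum_uu (ψ : AddChar F ℂ) (χ : SL2 → ℂ) :
    ∑ b : F, χ (uu b) = (Fintype.card F : ℂ) * NN ψ χ 0 := by
  have hq : (Fintype.card F : ℂ) ≠ 0 := by
    exact_mod_cast Fintype.card_ne_zero
  unfold NN
  simp only [zero_mul, AddChar.map_zero_eq_one, map_one, mul_one]
  field_simp

theorem NN_R_zero (ψ : AddChar F ℂ) (α : MulChar F ℂ) :
    NN ψ (indFun (Bor : Subgroup SL2) (theta α)) 0 = 2 := by
  have hq : (Fintype.card F : ℂ) ≠ 0 := by
    exact_mod_cast Fintype.card_ne_zero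
  have h := sum_uu ψ (indFun (Bor : Subgroup SL2) (theta α))
  simp only [R_uu, Finset.sum_add_distrib, Finset.sum_const, Finset.card_univ, nsmul_eq_mul,
    mul_one, Finset.sum_ite_eq', Finset.mem_univ, if_true] at h
  have : (Fintype.card F : ℂ) * 2 = (Fintype.card F : ℂ) * NN ψ (indFun (Bor : Subgroup SL2) (theta α)) 0 := by
    rw [← h]; ring
  exact (mul_left_cancel₀ hq this).symm

theorem NN_one_zero (ψ : AddChar F ℂ) : NN ψ (fun _ : SL2 => (1 : ℂ)) 0 = 1 := by
  have hq : (Fintype.card F : ℂ) ≠ 0 := by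
    exact_mod_cast Fintype.card_ne_zero
  have h := sum_uu ψ (fun _ : SL2 => (1 : ℂ))
  simp only [Finset.sum_const, Finset.card_univ, nsmul_eq_mul, mul_one] at h
  have : (Fintype.card F : ℂ) * 1 = (Fintype.card F : ℂ) * NN ψ (fun _ : SL2 => (1 : ℂ)) 0 := by
    rw [← h]; ring
  exact (mul_left_cancel₀ hq this).symm

theorem NN_St_zero (ψ : AddChar F ℂ) : NN ψ (StSL (F := F)) 0 = 1 := by
  have h := NN_R_zero ψ (1 : MulChar F ℂ)
  rw [R_triv_eq, NN_add, NN_one_zero] at h
  linear_combination h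

/-- the multiplicity of the trivial character of `U` in both halves is one -/
theorem halves_n0 (H : Halves F) (ψ : AddChar F ℂ) :
    NN ψ H.ψ₁ 0 = 1 ∧ NN ψ H.ψ₂ 0 = 1 := by
  classical
  obtain ⟨n1, h1⟩ := NN_nat ψ (isCharacter_of_isIrrCharacter H.irr₁) 0
  obtain ⟨n2, h2⟩ := NN_nat ψ (isCharacter_of_isIrrCharacter H.irr₂) 0
  have hsum := NN_R_zero ψ H.α₀
  rw [H.sum, NN_add, h1, h2] at hsum
  have hs : n1 + n2 = 2 := by exact_mod_cast hsum
  have hge : ∀ {χ : SL2 → ℂ} (hχ : IsIrrCharacter SL2 χ) (n : ℕ), NN ψ χ 0 = n →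
      classInner (indFun (Bor : Subgroup SL2) (theta H.α₀)) χ = 1 → 1 ≤ n := by
    intro χ hχ n hn hin
    have hch := isCharacter_of_isIrrCharacter hχ
    have h := sum_inner_R_one (isClassFunction_of_isCharacter hch) ψ
    rw [hn, Complex.conj_natCast] at h
    choose m hm using fun α : MulChar F ℂ =>
      exists_nat_classInner_of_isCharacter_of_isCharacter (R_isCharacter α) hch
    simp only [hm] at h
    have h' : ∑ α : MulChar F ℂ, m α = n := by exact_mod_cast h
    have h0 : m H.α₀ = 1 := by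
      have := hm H.α₀
      rw [hin] at this
      exact_mod_cast this.symm
    rw [← h', ← h0]
    exact Finset.single_le_sum (fun _ _ => Nat.zero_le _) (Finset.mem_univ _)
  have hin1 : classInner (indFun (Bor : Subgroup SL2) (theta H.α₀)) H.ψ₁ = 1 := by
    rw [H.sum, classInner_add_left, irr_classInner_self H.irr₁,
      irr_classInner_eq_zero H.irr₂ H.irr₁ (Ne.symm H.ne12), add_zero]
  have hin2 : classInner (indFun (Bor : Subgroup SL2) (theta H.α₀)) H.ψ₂ = 1 := by
    rw [H.sum, classInner_add_left, irr_classInner_self H.irr₂,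
      irr_classInner_eq_zero H.irr₁ H.irr₂ H.ne12, zero_add]
  have g1 := hge H.irr₁ n1 h1 hin1
  have g2 := hge H.irr₂ n2 h2 hin2
  have e1 : n1 = 1 := by omega
  have e2 : n2 = 1 := by omega
  rw [h1, h2, e1, e2]
  simp

/-- the quadratic Gauss sum -/
noncomputable def GS (ψ : AddChar F ℂ) : ℂ := ∑ c : F, eta c * ψ c

theorem GS_sq (hodd : Odd (Fintype.card F)) (ψ : AddChar F ℂ) (hψ : ψ.IsPrimitive) :
    GS ψ ^ 2 = (-1 : ℂ) ^ ((Fintype.card F - 1) / 2) * (Fintype.card F : ℂ) := by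
  have hF := ringChar_ne_two_of_odd hodd
  set χ : MulChar F ℂ := (quadraticChar F).ringHomComp (Int.castRingHom ℂ) with hχdef
  have hχ2 : χ.IsQuadratic := (quadraticChar_isQuadratic F).comp _
  have hχ1 : χ ≠ 1 := by
    obtain ⟨ν, hν⟩ := quadraticChar_exists_neg_one hF
    intro h
    have h1 : χ ν = -1 := by
      rw [hχdef, MulChar.ringHomComp_apply, hν]
      simp
    have hν0 : ν ≠ 0 := by
      intro h0
      rw [h0, quadraticChar_zero] at hν
      norm_num at hν
    rw [h, MulChar.one_apply (IsUnit.mk0 ν hν0)] at h1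
    norm_num at h1
  have h := gaussSum_sq hχ1 hχ2 hψ
  have hG : gaussSum χ ψ = GS ψ := by
    unfold gaussSum GS eta
    apply Finset.sum_congr rfl
    intro c _
    rw [hχdef, MulChar.ringHomComp_apply]
    rfl
  rw [hG] at h
  rw [h]
  congr 1
  rw [hχdef, MulChar.ringHomComp_apply, quadraticChar_neg_one hF,
    ZMod.χ₄_eq_neg_one_pow (Nat.odd_iff.mp hodd)]
  have : Fintype.card F / 2 = (Fintype.card F - 1) / 2 := by
    obtain ⟨k, hk⟩ := hodd
    omega
  rw [this]
  simp

/-- the value at the standard transvection -/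
theorem apply_uu_one (hodd : Odd (Fintype.card F)) (ψ : AddChar F ℂ) (hψ : ψ.IsPrimitive)
    {χ : SL2 → ℂ} (hχ : IsClassFunction SL2 χ) {ν : F} (hν : quadraticChar F ν = -1) :
    χ (uu 1) = NN ψ χ 0 - (NN ψ χ 1 + NN ψ χ ν) / 2 + (NN ψ χ 1 - NN ψ χ ν) / 2 * GS ψ := by
  have h := fourier_inv ψ hψ χ 1
  rw [h]
  have hterm : ∀ c : F, NN ψ χ c * ψ (c * 1) = (if c = 0 then NN ψ χ 0
      - (NN ψ χ 1 + NN ψ χ ν) / 2 else 0) + ((NN ψ χ 1 + NN ψ χ ν) / 2 * ψ c
      + ((NN ψ χ 1 - NN ψ χ ν) / 2) * (eta c * ψ c)) := by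
    intro c
    rw [mul_one]
    by_cases hc : c = 0
    · rw [if_pos hc, hc, eta_zero, AddChar.map_zero_eq_one]; ring
    · rw [if_neg hc, zero_add, NN_eq_eta ψ hχ hν c hc]
      ring
  simp only [hterm, Finset.sum_add_distrib, ← Finset.mul_sum]
  have hs : ∑ c : F, ψ c = 0 := by
    have := AddChar.sum_mulShift (1 : F) hψ
    rw [if_neg one_ne_zero, Nat.cast_zero] at this
    simpa using this
  rw [hs]
  unfold GS
  simp

end Cfsg.Agent.H9.SL2Chars
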