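import Mathlib
import Cfsg.Agent.H9.SL2OddValues

set_option autoImplicit false

/-!
# The type of an irreducible character of SL₂(F), `q ≥ 5` odd, read off from its degree
-/

namespace Cfsg.Agent.H9.SL2Chars

open Cfsg Matrix Cfsg.Agent.Lib.helper3.IndFun Cfsg.Agent.Lib.helper3.Irr
open Cfsg.Agent.H9.PrincipalSeries Cfsg.Agent.S2307
open scoped ComplexConjugate

variable {F : Type*} [Field F] [Fintype F] [DecidableEq F]

local notation "SL2" => Matrix.SpecialLinearGroup (Fin 2) F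

/-- the natural number degree and type of an irreducible character -/
theorem degree_nat_type (H : Halves F) (hodd : Odd (Fintype.card F)) (ψ : AddChar F ℂ)
    (hψ : ψ.IsPrimitive) {ν : F} (hν : quadraticChar F ν = -1) {χ : SL2 → ℂ}
    (hχ : IsIrrCharacter SL2 χ) :
    (χ = (fun _ => 1) ∧ χ 1 = ((1 : ℕ) : ℂ)) ∨
    (χ = StSL ∧ χ 1 = ((Fintype.card F : ℕ) : ℂ)) ∨
    ((χ = H.ψ₁ ∨ χ = H.ψ₂) ∧ χ 1 = (((Fintype.card F + 1) / 2 : ℕ) : ℂ)) ∨
    ((∃ α : MulChar F ℂ, α ^ 2 ≠ 1 ∧ χ = indFun (Bor : Subgroup SL2) (theta α)) ∧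
      χ 1 = ((Fintype.card F + 1 : ℕ) : ℂ)) ∨
    ((IsCuspSL χ ∧ NN ψ χ 0 = 0 ∧ NN ψ χ 1 = 1 ∧ NN ψ χ ν = 1) ∧
      χ 1 = ((Fintype.card F - 1 : ℕ) : ℂ)) ∨
    ((IsCuspSL χ ∧ NN ψ χ 0 = 0 ∧ ((NN ψ χ 1 = 1 ∧ NN ψ χ ν = 0) ∨
      (NN ψ χ 1 = 0 ∧ NN ψ χ ν = 1))) ∧ χ 1 = (((Fintype.card F - 1) / 2 : ℕ) : ℂ)) := by
  have hq1 : 1 ≤ Fintype.card F := Fintype.card_pos
  rcases irr_cases_SL' H hodd ψ hψ hν hχ with h | h | h | h | h | h
  · left; refine ⟨h, ?_⟩; rw [h]; simp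
  · right; left; refine ⟨h, ?_⟩; rw [h]; exact StSL_one
  · right; right; left; refine ⟨Or.inl h, ?_⟩; rw [h]; exact H.deg₁
  · right; right; left; refine ⟨Or.inr h, ?_⟩; rw [h]; exact H.deg₂
  · right; right; right; left
    refine ⟨h, ?_⟩
    obtain ⟨α, -, rfl⟩ := h
    rw [R_one]; push_cast; ring
  · have hcf := isClassFunction_of_isCharacter (isCharacter_of_isIrrCharacter hχ)
    have hdeg := cusp_degree_SL hodd ψ hψ hν hcf h.2.1
    rcases h.2.2 with h1 | h1 | h1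
    · right; right; right; right; left
      refine ⟨⟨h.1, h.2.1, h1.1, h1.2⟩, ?_⟩
      rw [hdeg.1 h1]
      push_cast [Nat.cast_sub hq1]
      ring
    · right; right; right; right; right
      exact ⟨⟨h.1, h.2.1, Or.inl h1⟩, hdeg.2 (Or.inl h1)⟩
    · right; right; right; right; right
      exact ⟨⟨h.1, h.2.1, Or.inr h1⟩, hdeg.2 (Or.inr h1)⟩

/-- the type of an irreducible character, `q ≥ 5`, from its degree -/
theorem type_by_degree (H : Halves F) (hodd : Odd (Fintype.card F)) (hq : 5 ≤ Fintype.card F)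
    (ψ : AddChar F ℂ) (hψ : ψ.IsPrimitive) {ν : F} (hν : quadraticChar F ν = -1) {χ : SL2 → ℂ}
    (hχ : IsIrrCharacter SL2 χ) :
    (χ 1 = (Fintype.card F : ℂ) + 1 →
      ∃ α : MulChar F ℂ, α ^ 2 ≠ 1 ∧ χ = indFun (Bor : Subgroup SL2) (theta α)) ∧
    (χ 1 = (Fintype.card F : ℂ) → χ = StSL) ∧
    (χ 1 = (Fintype.card F : ℂ) - 1 →
      IsCuspSL χ ∧ NN ψ χ 0 = 0 ∧ NN ψ χ 1 = 1 ∧ NN ψ χ ν = 1) ∧
    (χ 1 = (((Fintype.card F + 1) / 2 : ℕ) : ℂ) → χ = H.ψ₁ ∨ χ = H.ψ₂) ∧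
    (χ 1 = (((Fintype.card F - 1) / 2 : ℕ) : ℂ) →
      IsCuspSL χ ∧ NN ψ χ 0 = 0 ∧ ((NN ψ χ 1 = 1 ∧ NN ψ χ ν = 0) ∨
        (NN ψ χ 1 = 0 ∧ NN ψ χ ν = 1))) := by
  have hq1 : 1 ≤ Fintype.card F := Fintype.card_pos
  have hcm1 : (Fintype.card F : ℂ) - 1 = ((Fintype.card F - 1 : ℕ) : ℂ) := by
    push_cast [Nat.cast_sub hq1]; ring
  have hcp1 : (Fintype.card F : ℂ) + 1 = ((Fintype.card F + 1 : ℕ) : ℂ) := by
    push_cast; ring
  obtain ⟨k, hk⟩ := id hodd
  have hk2 : 2 ≤ k := by omega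
  have key := degree_nat_type H hodd ψ hψ hν hχ
  have inj : ∀ {a b : ℕ}, χ 1 = (a : ℂ) → χ 1 = (b : ℂ) → a = b := by
    intro a b ha hb
    exact Nat.cast_injective (ha.symm.trans hb)
  refine ⟨?_, ?_, ?_, ?_, ?_⟩
  · intro hd
    rw [hcp1] at hd
    rcases key with h | h | h | h | h | h
    · have := inj h.2 hd; omega
    · have := inj h.2 hd; omega
    · have := inj h.2 hd; omega
    · exact h.1
    · have := inj h.2 hd; omega
    · have := inj h.2 hd; omega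
  · intro hd
    rcases key with h | h | h | h | h | h
    · have := inj h.2 hd; omega
    · exact h.1
    · have := inj h.2 hd; omega
    · have := inj h.2 hd; omega
    · have := inj h.2 hd; omega
    · have := inj h.2 hd; omega
  · intro hd
    rw [hcm1] at hd
    rcases key with h | h | h | h | h | h
    · have := inj h.2 hd; omega
    · have := inj h.2 hd; omega
    · have := inj h.2 hd; omega
    · have := inj h.2 hd; omega
    · exact h.1
    · have := inj h.2 hd; omega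
  · intro hd
    rcases key with h | h | h | h | h | h
    · have := inj h.2 hd; omega
    · have := inj h.2 hd; omega
    · exact h.1
    · have := inj h.2 hd; omega
    · have := inj h.2 hd; omega
    · have := inj h.2 hd; omega
  · intro hd
    rcases key with h | h | h | h | h | h
    · have := inj h.2 hd; omega
    · have := inj h.2 hd; omega
    · have := inj h.2 hd; omega
    · have := inj h.2 hd; omega
    · have := inj h.2 hd; omega
    · exact h.1

end Cfsg.Agent.H9.SL2Chars
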