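import Mathlib
import Cfsg.Agent.H9.ClassSize

set_option autoImplicit false

/-! Class sizes in a quotient by a central subgroup `{1, z}`. -/

namespace Cfsg.Agent.H9.CentralQuot

open Cfsg.Agent.H9.ClassSize

variable {G : Type*} [Group G] (Z : Subgroup G) [Z.Normal] (z : G)

theorem isConj_mk_iff (hz : z ∈ Subgroup.center G) (hZ : ∀ x, x ∈ Z ↔ x = 1 ∨ x = z) (g h : G) :
    IsConj (g : G ⧸ Z) (h : G ⧸ Z) ↔ IsConj g h ∨ IsConj (z * g) h := by
  have hzc : ∀ c : G, c * z = z * c := fun c => Subgroup.mem_center_iff.1 hz c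
  constructor
  · intro hc
    rw [isConj_iff] at hc
    obtain ⟨c', hc'⟩ := hc
    obtain ⟨c, rfl⟩ := QuotientGroup.mk_surjective c'
    rw [← QuotientGroup.mk_inv, ← QuotientGroup.mk_mul, ← QuotientGroup.mk_mul,
      QuotientGroup.eq, hZ] at hc'
    rcases hc' with h1 | h1
    · left
      rw [isConj_iff]
      refine ⟨c, ?_⟩
      rw [inv_mul_eq_one] at h1
      exact h1
    · right
      rw [isConj_iff]
      refine ⟨c, ?_⟩
      rw [inv_mul_eq_iff_eq_mul] at h1
      rw [h1, ← mul_assoc, hzc c, hzc (c * g * c⁻¹)]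
      group
  · rintro (hc | hc)
    · exact MonoidHom.map_isConj (QuotientGroup.mk' Z) hc
    · have := MonoidHom.map_isConj (QuotientGroup.mk' Z) hc
      have hzZ : z ∈ Z := (hZ z).2 (Or.inr rfl)
      have hzg : ((z * g : G) : G ⧸ Z) = (g : G ⧸ Z) := by
        rw [QuotientGroup.mk_mul, (QuotientGroup.eq_one_iff z).2 hzZ, one_mul]
      rw [QuotientGroup.mk'_apply, QuotientGroup.mk'_apply, hzg] at this
      exact this

theorem centralizer_mul_central (hz : z ∈ Subgroup.center G) (g : G) :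
    Subgroup.centralizer ({z * g} : Set G) = Subgroup.centralizer ({g} : Set G) := by
  have hzc : ∀ c : G, c * z = z * c := fun c => Subgroup.mem_center_iff.1 hz c
  ext c
  rw [Subgroup.mem_centralizer_iff, Subgroup.mem_centralizer_iff]
  simp only [Set.mem_singleton_iff, forall_eq]
  constructor
  · intro h
    have : z * (g * c) = z * (c * g) := by
      rw [← mul_assoc, h, ← mul_assoc, hzc c, mul_assoc]
    exact mul_left_cancel this
  · intro h
    rw [mul_assoc, h, ← mul_assoc, ← hzc c, mul_assoc]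

/-- the preimage of the class of `g Z` -/
theorem card_mul_index (hz : z ∈ Subgroup.center G) (hZ : ∀ x, x ∈ Z ↔ x = 1 ∨ x = z) (g : G) :
    Nat.card Z * (Subgroup.centralizer ({(g : G ⧸ Z)} : Set (G ⧸ Z))).index =
      Nat.card {h : G // IsConj g h ∨ IsConj (z * g) h} := by
  rw [index_centralizer_eq_card_conj]
  have e := QuotientGroup.preimageMkEquivSubgroupProdSet Z {x : G ⧸ Z | IsConj (g : G ⧸ Z) x}
  have h1 := Nat.card_congr e
  rw [Nat.card_prod] at h1
  have h2 : Nat.card ↑{x : G ⧸ Z | IsConj (g : G ⧸ Z) x} =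
    Nat.card {h : G ⧸ Z // IsConj (g : G ⧸ Z) h} := rfl
  rw [← h2, ← h1]
  apply Nat.card_congr
  refine Equiv.subtypeEquivRight (fun h => ?_)
  rw [Set.mem_preimage, Set.mem_ofPred_eq]
  exact isConj_mk_iff Z z hz hZ g h

theorem index_mk_of_conj (hz : z ∈ Subgroup.center G) (hZ : ∀ x, x ∈ Z ↔ x = 1 ∨ x = z) (g : G)
    (hc : IsConj g (z * g)) :
    Nat.card Z * (Subgroup.centralizer ({(g : G ⧸ Z)} : Set (G ⧸ Z))).index =
      (Subgroup.centralizer ({g} : Set G)).index := by
  rw [card_mul_index Z z hz hZ, index_centralizer_eq_card_conj]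
  apply Nat.card_congr
  refine Equiv.subtypeEquivRight (fun h => ?_)
  constructor
  · rintro (h' | h')
    · exact h'
    · exact hc.trans h'
  · intro h'
    exact Or.inl h'

theorem index_mk_of_not_conj [Finite G] (hz : z ∈ Subgroup.center G) (hZ : ∀ x, x ∈ Z ↔ x = 1 ∨ x = z) (g : G)
    (hc : ¬ IsConj g (z * g)) :
    Nat.card Z * (Subgroup.centralizer ({(g : G ⧸ Z)} : Set (G ⧸ Z))).index =
      2 * (Subgroup.centralizer ({g} : Set G)).index := by
  classical
  rw [card_mul_index Z z hz hZ, two_mul]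
  nth_rw 2 [← centralizer_mul_central z hz g]
  rw [index_centralizer_eq_card_conj, index_centralizer_eq_card_conj, ← Nat.card_sum]
  apply Nat.card_congr
  refine (subtypeOrEquiv _ _ ?_)
  rw [Pi.disjoint_iff]
  intro h
  simp only [disjoint_iff, inf_Prop_eq]
  rw [eq_iff_iff, Prop.bot_eq_false, iff_false]
  rintro ⟨h1, h2⟩
  exact hc (h1.trans h2.symm)

theorem card_eq_two (hne : z ≠ 1) (hZ : ∀ x, x ∈ Z ↔ x = 1 ∨ x = z) : Nat.card Z = 2 := by
  have : (Z : Set G) = {1, z} := by
    ext x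
    rw [SetLike.mem_coe, hZ]
    simp
  rw [← SetLike.coe_sort_coe, Nat.card_coe_set_eq, this, Set.ncard_pair hne.symm]

end Cfsg.Agent.H9.CentralQuot
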