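import Mathlib

set_option autoImplicit false

/-!
A finite field with `q` elements embeds in one with `q ^ 2` elements, as a subfield of index two.
-/

namespace Cfsg.Agent.H9.FieldEmbed

open Module

theorem exists_ringHom {K F : Type*} [Field K] [Fintype K] [Field F] [Fintype F] {q : ℕ}
    (hK : Fintype.card K = q ^ 2) (hF : Fintype.card F = q) : Nonempty (F →+* K) := by
  obtain ⟨p, hcp⟩ := CharP.exists F
  haveI : Fact p.Prime := ⟨CharP.char_is_prime F p⟩
  have hp : p.Prime := Fact.out
  obtain ⟨n, -, hn⟩ := FiniteField.card F p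
  rw [hF] at hn
  have hK0 : ((Fintype.card K : ℕ) : K) = 0 := Nat.cast_card_eq_zero K
  rw [hK, hn] at hK0
  have hpK : (p : K) = 0 := by
    push_cast at hK0
    exact pow_eq_zero_iff (by positivity) |>.1 (pow_eq_zero_iff (by norm_num) |>.1 hK0)
  haveI : CharP K p := ringChar.of_eq (CharP.ringChar_of_prime_eq_zero hp hpK)
  letI := ZMod.algebra F p
  letI := ZMod.algebra K p
  have h1 := FiniteField.pow_finrank_eq_card p F
  have h2 := FiniteField.pow_finrank_eq_card p K
  rw [hF] at h1
  rw [hK, ← h1, ← pow_mul] at h2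
  have h3 : finrank (ZMod p) K = finrank (ZMod p) F * 2 := Nat.pow_right_injective hp.two_le h2
  obtain ⟨f⟩ := FiniteField.nonempty_algHom_of_finrank_dvd (F := ZMod p) (K := F) (L := K)
    (h3 ▸ dvd_mul_right _ _)
  exact ⟨f.toRingHom⟩

theorem finrank_eq_two {K F : Type*} [Field K] [Fintype K] [Field F] [Fintype F] [Algebra F K] {q : ℕ}
    (hK : Fintype.card K = q ^ 2) (hF : Fintype.card F = q) : finrank F K = 2 := by
  have h := Module.card_eq_pow_finrank (K := F) (V := K)
  rw [hK, hF] at h
  have hq : 2 ≤ q := by rw [← hF]; exact Fintype.one_lt_card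
  exact (Nat.pow_right_injective hq h).symm

end Cfsg.Agent.H9.FieldEmbed
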