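import Mathlib
import Cfsg.Agent.H9.FieldEmbed

set_option autoImplicit false

/-! Element orders of `PSL₂(q)`: every element has order dividing `p`, `(q-1)/d` or `(q+1)/d`. -/

namespace Cfsg.Agent.H9.PSL2Spec

open Polynomial Matrix

section Basic

variable {F : Type*} [Field F]

/-- the characteristic polynomial of an element of `SL₂` with trace `t` -/
noncomputable def fpoly (t : F) : F[X] := X ^ 2 - C t * X + 1

theorem fpoly_natDegree (t : F) : (fpoly t).natDegree = 2 := by
  unfold fpoly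
  compute_degree!

theorem fpoly_monic (t : F) : (fpoly t).Monic := by
  unfold fpoly
  monicity!

theorem fpoly_ne_zero (t : F) : fpoly t ≠ 0 := (fpoly_monic t).ne_zero

theorem charpoly_sl (A : Matrix.SpecialLinearGroup (Fin 2) F) :
    (A : Matrix (Fin 2) (Fin 2) F).charpoly = fpoly (A : Matrix (Fin 2) (Fin 2) F).trace := by
  rw [Matrix.charpoly_fin_two, A.2, map_one]
  rfl

theorem pow_eq_of_dvd (A : Matrix.SpecialLinearGroup (Fin 2) F) (N : ℕ) (ε : F)
    (h : fpoly (A : Matrix (Fin 2) (Fin 2) F).trace ∣ X ^ N - C ε) :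
    (A : Matrix (Fin 2) (Fin 2) F) ^ N = ε • (1 : Matrix (Fin 2) (Fin 2) F) := by
  obtain ⟨g, hg⟩ := h
  have h1 := congrArg (aeval (A : Matrix (Fin 2) (Fin 2) F)) hg
  rw [map_mul, ← charpoly_sl, Matrix.aeval_self_charpoly, zero_mul, map_sub, map_pow, aeval_X,
    aeval_C, Algebra.algebraMap_eq_smul_one] at h1
  exact sub_eq_zero.1 h1

theorem mk_pow_eq_one (A : Matrix.SpecialLinearGroup (Fin 2) F) (N : ℕ) (ε : F) (hε : ε ^ 2 = 1)
    (h : (A : Matrix (Fin 2) (Fin 2) F) ^ N = ε • (1 : Matrix (Fin 2) (Fin 2) F)) :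
    (QuotientGroup.mk A : Matrix.ProjectiveSpecialLinearGroup (Fin 2) F) ^ N = 1 := by
  rw [← QuotientGroup.mk_pow, QuotientGroup.eq_one_iff, Matrix.SpecialLinearGroup.mem_center_iff]
  refine ⟨ε, by rw [Fintype.card_fin]; exact hε, ?_⟩
  rw [Matrix.SpecialLinearGroup.coe_pow, h]
  ext i j
  simp [Matrix.scalar_apply, Matrix.diagonal_apply, Matrix.one_apply]

/-- a root of `fpoly t` with `a² ≠ 1`: split semisimple case. -/
theorem dvd_of_root {t a : F} (ha : (fpoly t).IsRoot a) (ha1 : a ^ 2 ≠ 1) (N : ℕ) (ε : F)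
    (hε : ε ^ 2 = 1) (haN : a ^ N = ε) : fpoly t ∣ X ^ N - C ε := by
  have ha' : a ^ 2 - t * a + 1 = 0 := by
    have := ha
    unfold fpoly at this
    simpa using this
  have ha0 : a ≠ 0 := by
    rintro rfl
    simp at ha'
  have hfac : fpoly t = (X - C a) * (X - C a⁻¹) := by
    have ht : t = a + a⁻¹ := by
      field_simp
      linear_combination -ha'
    unfold fpoly
    rw [ht, map_add]
    have : C a * C a⁻¹ = (1 : F[X]) := by rw [← C_mul, mul_inv_cancel₀ ha0, C_1]
    linear_combination -this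
  rw [hfac]
  have hne : a - a⁻¹ ≠ 0 := by
    intro h
    apply ha1
    have : a = a⁻¹ := sub_eq_zero.1 h
    calc a ^ 2 = a * a := sq a
      _ = a * a⁻¹ := by rw [← this]
      _ = 1 := mul_inv_cancel₀ ha0
  have hε0 : ε ≠ 0 := by
    rintro rfl
    simp at hε
  have hεinv : ε⁻¹ = ε := by
    field_simp
    exact hε.symm
  refine IsCoprime.mul_dvd (isCoprime_X_sub_C_of_isUnit_sub (Ne.isUnit hne)) ?_ ?_
  · rw [dvd_iff_isRoot]
    simp [haN]
  · rw [dvd_iff_isRoot]
    simp [inv_pow, haN, hεinv]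

/-- a root `ε = ±1`: unipotent case. -/
theorem pow_char_of_root (p : ℕ) [Fact p.Prime] [CharP F p]
    (A : Matrix.SpecialLinearGroup (Fin 2) F) {ε : F} (hε : ε ^ 2 = 1)
    (ha : (fpoly (A : Matrix (Fin 2) (Fin 2) F).trace).IsRoot ε) :
    (A : Matrix (Fin 2) (Fin 2) F) ^ p = (ε ^ p) • (1 : Matrix (Fin 2) (Fin 2) F) := by
  set t := (A : Matrix (Fin 2) (Fin 2) F).trace with ht
  have ha' : ε ^ 2 - t * ε + 1 = 0 := by
    have := ha
    unfold fpoly at this
    simpa using this
  have hε0 : ε ≠ 0 := by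
    rintro rfl
    simp at hε
  have ht2 : t = 2 * ε := by
    have h1 : t * ε = 2 * ε * ε := by
      have : ε * ε = 1 := by rw [← sq]; exact hε
      linear_combination -ha' + hε - 2 * this
    exact mul_right_cancel₀ hε0 h1
  have hfac : fpoly t = (X - C ε) ^ 2 := by
    unfold fpoly
    rw [ht2]
    have : C ε * C ε = (1 : F[X]) := by rw [← C_mul, ← sq, hε, C_1]
    simp only [map_mul, map_ofNat]
    linear_combination -this
  have h0 : ((A : Matrix (Fin 2) (Fin 2) F) - ε • 1) ^ 2 = 0 := by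
    have h1 := Matrix.aeval_self_charpoly (A : Matrix (Fin 2) (Fin 2) F)
    rw [charpoly_sl, ← ht, hfac, map_pow, map_sub, aeval_X, aeval_C,
      Algebra.algebraMap_eq_smul_one] at h1
    exact h1
  have hp2 : 2 ≤ p := (Fact.out : p.Prime).two_le
  have h0p : ((A : Matrix (Fin 2) (Fin 2) F) - ε • 1) ^ p = 0 := by
    have : p = 2 + (p - 2) := by omega
    rw [this, pow_add, h0, zero_mul]
  have hcomm : Commute (ε • (1 : Matrix (Fin 2) (Fin 2) F))
      ((A : Matrix (Fin 2) (Fin 2) F) - ε • 1) := by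
    apply Commute.smul_left
    exact Commute.one_left _
  have := add_pow_char_of_commute p hcomm
  rw [add_sub_cancel, h0p, add_zero, _root_.smul_pow, one_pow] at this
  exact this

end Basic

section Irred

variable {F : Type*} [Field F] [Fintype F]

theorem root_pow_card_add_one {t : F} (hirr : Irreducible (fpoly t)) :
    (AdjoinRoot.root (fpoly t)) ^ (Fintype.card F + 1) = 1 := by
  have : Fact (Irreducible (fpoly t)) := ⟨hirr⟩
  have hne := fpoly_ne_zero t
  set pb := AdjoinRoot.powerBasis hne with hpb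
  have hfin : Module.Finite F (AdjoinRoot (fpoly t)) := pb.finite
  have hfinK : Finite (AdjoinRoot (fpoly t)) := Module.finite_of_finite F
  have h1 := FiniteField.algebraMap_norm_eq_pow (K := F) (K' := AdjoinRoot (fpoly t))
    (x := AdjoinRoot.root (fpoly t))
  have hcard : Nat.card (AdjoinRoot (fpoly t)) = Fintype.card F ^ 2 := by
    rw [Module.natCard_eq_pow_finrank (K := F), pb.finrank, AdjoinRoot.powerBasis_dim,
      fpoly_natDegree, Nat.card_eq_fintype_card]
  have hq : 2 ≤ Fintype.card F := Fintype.one_lt_card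
  have hdiv : (Nat.card (AdjoinRoot (fpoly t)) - 1) / (Nat.card F - 1) = Fintype.card F + 1 := by
    rw [hcard, Nat.card_eq_fintype_card]
    obtain ⟨k, hk⟩ : ∃ k, Fintype.card F = k + 2 := ⟨Fintype.card F - 2, by omega⟩
    rw [hk]
    have e1 : (k + 2) ^ 2 - 1 = (k + 1) * (k + 2 + 1) := by
      have : (k + 2) ^ 2 = (k + 1) * (k + 2 + 1) + 1 := by ring
      rw [this, Nat.add_sub_cancel]
    have e2 : k + 2 - 1 = k + 1 := by omega
    rw [e1, e2]
    exact Nat.mul_div_cancel_left _ (by omega)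
  rw [hdiv] at h1
  rw [← h1]
  have h2 := Algebra.PowerBasis.norm_gen_eq_coeff_zero_minpoly pb
  rw [hpb, AdjoinRoot.powerBasis_gen, AdjoinRoot.powerBasis_dim, fpoly_natDegree,
    AdjoinRoot.minpoly_root hne, (fpoly_monic t).leadingCoeff, inv_one, map_one, mul_one] at h2
  rw [h2]
  have : (fpoly t).coeff 0 = 1 := by
    unfold fpoly
    simp
  rw [this]
  simp

theorem dvd_of_irreducible {t : F} (hirr : Irreducible (fpoly t)) (N d : ℕ)
    (hd : N * d = Fintype.card F + 1) (hd2 : d = 1 ∨ d = 2) :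
    ∃ ε : F, ε ^ 2 = 1 ∧ fpoly t ∣ X ^ N - C ε := by
  have : Fact (Irreducible (fpoly t)) := ⟨hirr⟩
  have h1 := root_pow_card_add_one hirr
  rw [← hd, pow_mul] at h1
  have key : ∀ ε : F, (AdjoinRoot.root (fpoly t)) ^ N = AdjoinRoot.of (fpoly t) ε →
      fpoly t ∣ X ^ N - C ε := by
    intro ε h
    rw [← AdjoinRoot.mk_eq_zero, map_sub, map_pow, AdjoinRoot.mk_X, AdjoinRoot.mk_C, h, sub_self]
  rcases hd2 with rfl | rfl
  · rw [pow_one] at h1
    exact ⟨1, one_pow 2, key 1 (by rw [h1, map_one])⟩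
  · rw [sq, mul_self_eq_one_iff] at h1
    rcases h1 with h1 | h1
    · exact ⟨1, one_pow 2, key 1 (by rw [h1, map_one])⟩
    · exact ⟨-1, by ring, key (-1) (by rw [h1, map_neg, map_one])⟩

end Irred

section Upper

variable {F : Type*} [Field F] [Fintype F]

theorem gcd_cases (n : ℕ) : Nat.gcd 2 n = 1 ∨ Nat.gcd 2 n = 2 :=
  (Nat.dvd_prime Nat.prime_two).1 (Nat.gcd_dvd_left 2 n)

theorem exists_pow_eq_one (p : ℕ) [Fact p.Prime] [CharP F p]
    (g : Matrix.ProjectiveSpecialLinearGroup (Fin 2) F) :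
    g ^ p = 1 ∨ g ^ ((Fintype.card F - 1) / Nat.gcd 2 (Fintype.card F - 1)) = 1 ∨
      g ^ ((Fintype.card F + 1) / Nat.gcd 2 (Fintype.card F - 1)) = 1 := by
  obtain ⟨A, rfl⟩ := QuotientGroup.mk_surjective g
  set t := (A : Matrix (Fin 2) (Fin 2) F).trace with ht
  set q := Fintype.card F with hq
  have hq1 : 1 ≤ q := Fintype.card_pos
  set d := Nat.gcd 2 (q - 1) with hd
  have hd12 : d = 1 ∨ d = 2 := gcd_cases _
  have hdq : d ∣ q - 1 := Nat.gcd_dvd_right 2 (q - 1)
  have hdq' : d ∣ q + 1 := by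
    have h2 : d ∣ 2 := Nat.gcd_dvd_left 2 (q - 1)
    have : q + 1 = (q - 1) + 2 := by omega
    rw [this]
    exact Nat.dvd_add hdq h2
  have hsq : ∀ x : F, x ^ d = 1 → x ^ 2 = 1 := by
    intro x hx
    rcases hd12 with h | h
    · rw [h, pow_one] at hx
      rw [hx, one_pow]
    · rw [h] at hx
      exact hx
  by_cases hroot : ∃ a, (fpoly t).IsRoot a
  · obtain ⟨a, ha⟩ := hroot
    by_cases ha1 : a ^ 2 = 1
    · left
      have := pow_char_of_root p A ha1 ha
      exact mk_pow_eq_one A p (a ^ p) (by rw [← pow_mul, mul_comm, pow_mul, ha1, one_pow]) this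
    · right; left
      have ha0 : a ≠ 0 := by
        rintro rfl
        have := ha
        unfold fpoly at this
        simp at this
      have hε : (a ^ ((q - 1) / d)) ^ 2 = 1 := by
        have h1 : (a ^ ((q - 1) / d)) ^ d = 1 := by
          rw [← pow_mul, Nat.div_mul_cancel hdq]
          exact FiniteField.pow_card_sub_one_eq_one a ha0
        exact hsq _ h1
      have h2 := dvd_of_root ha ha1 ((q - 1) / d) _ hε rfl
      exact mk_pow_eq_one A _ _ hε (pow_eq_of_dvd A _ _ h2)
  · right; right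
    have hirr : Irreducible (fpoly t) := by
      rw [irreducible_iff_roots_eq_zero_of_degree_le_three (by rw [fpoly_natDegree])
        (by rw [fpoly_natDegree]; norm_num)]
      apply Multiset.eq_zero_of_forall_notMem
      intro a ha
      exact hroot ⟨a, (mem_roots (fpoly_ne_zero t)).1 ha⟩
    obtain ⟨ε, hε, h2⟩ := dvd_of_irreducible hirr ((q + 1) / d) d (Nat.div_mul_cancel hdq') hd12
    exact mk_pow_eq_one A _ _ hε (pow_eq_of_dvd A _ _ h2)

end Upper

section Lower

variable {F : Type*} [Field F]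

theorem dvd_two_mul_iff (n k : ℕ) : n ∣ 2 * k ↔ n / Nat.gcd 2 n ∣ k := by
  rcases gcd_cases n with h | h
  · rw [h, Nat.div_one]
    have hc : Nat.Coprime n 2 := by
      rw [Nat.coprime_comm]; exact h
    exact Nat.Coprime.dvd_mul_left hc
  · rw [h]
    have h2 : 2 ∣ n := by
      have := Nat.gcd_dvd_right 2 n
      rwa [h] at this
    obtain ⟨m, rfl⟩ := h2
    rw [Nat.mul_div_cancel_left m (by norm_num)]
    exact Nat.mul_dvd_mul_iff_left (by norm_num)

theorem orderOf_eq_of_forall {G : Type*} [Group G] (x : G) (n : ℕ)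
    (h : ∀ k, x ^ k = 1 ↔ n ∣ k) : orderOf x = n := by
  apply Nat.dvd_antisymm
  · rw [orderOf_dvd_iff_pow_eq_one, h]
  · rw [← h, pow_orderOf_eq_one]

theorem sq_eq_one_of_mem_center {A : Matrix.SpecialLinearGroup (Fin 2) F}
    (h : A ∈ Subgroup.center (Matrix.SpecialLinearGroup (Fin 2) F)) : A ^ 2 = 1 := by
  rw [Matrix.SpecialLinearGroup.mem_center_iff] at h
  obtain ⟨r, hr, hA⟩ := h
  rw [Fintype.card_fin] at hr
  apply Subtype.ext
  rw [Matrix.SpecialLinearGroup.coe_pow, ← hA, Matrix.SpecialLinearGroup.coe_one, ← map_pow, hr,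
    map_one]

/-- the transvection -/
def uMat : Matrix (Fin 2) (Fin 2) F := !![1, 1; 0, 1]

theorem det_uMat : (uMat : Matrix (Fin 2) (Fin 2) F).det = 1 := by
  simp [uMat, Matrix.det_fin_two]

theorem exists_orderOf_eq_char (p : ℕ) [Fact p.Prime] [CharP F p] :
    ∃ g : Matrix.ProjectiveSpecialLinearGroup (Fin 2) F, orderOf g = p := by
  set u : Matrix.SpecialLinearGroup (Fin 2) F := ⟨uMat, det_uMat⟩ with hu
  refine ⟨QuotientGroup.mk u, orderOf_eq_prime ?_ ?_⟩
  · have htr : (u : Matrix (Fin 2) (Fin 2) F).trace = 2 := by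
      change (uMat : Matrix (Fin 2) (Fin 2) F).trace = 2
      simp [uMat, Matrix.trace_fin_two]
      norm_num
    have hroot : (fpoly (u : Matrix (Fin 2) (Fin 2) F).trace).IsRoot 1 := by
      rw [htr]
      unfold fpoly
      simp
      norm_num
    have := pow_char_of_root p u (one_pow 2) hroot
    exact mk_pow_eq_one u p (1 ^ p) (by simp) this
  · intro h
    rw [QuotientGroup.eq_one_iff, Matrix.SpecialLinearGroup.mem_center_iff] at h
    obtain ⟨r, -, hr⟩ := h
    have := congrFun (congrFun hr 0) 1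
    simp [Matrix.scalar_apply, hu, uMat] at this

/-- diagonal torus -/
def dgMat (a : Fˣ) : Matrix (Fin 2) (Fin 2) F := !![(a : F), 0; 0, ((a⁻¹ : Fˣ) : F)]

theorem det_dgMat (a : Fˣ) : (dgMat a).det = 1 := by
  simp [dgMat, Matrix.det_fin_two]

/-- diagonal torus as a homomorphism -/
def dg : Fˣ →* Matrix.SpecialLinearGroup (Fin 2) F where
  toFun a := ⟨dgMat a, det_dgMat a⟩
  map_one' := by
    apply Subtype.ext
    change dgMat 1 = 1
    ext i j
    fin_cases i <;> fin_cases j <;> simp [dgMat]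
  map_mul' a b := by
    apply Subtype.ext
    change dgMat (a * b) = dgMat a * dgMat b
    ext i j
    fin_cases i <;> fin_cases j <;> simp [dgMat, Matrix.mul_apply, Fin.sum_univ_two, mul_comm]

theorem coe_dg (a : Fˣ) : ((dg a : Matrix.SpecialLinearGroup (Fin 2) F) :
    Matrix (Fin 2) (Fin 2) F) = dgMat a := rfl

theorem dg_mem_center_iff (a : Fˣ) :
    dg a ∈ Subgroup.center (Matrix.SpecialLinearGroup (Fin 2) F) ↔ a ^ 2 = 1 := by
  constructor
  · intro h
    have h1 := sq_eq_one_of_mem_center h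
    rw [← map_pow] at h1
    have h2 := congrArg (fun A : Matrix.SpecialLinearGroup (Fin 2) F =>
      (A : Matrix (Fin 2) (Fin 2) F) 0 0) h1
    simp only [coe_dg, Matrix.SpecialLinearGroup.coe_one, Matrix.one_apply_eq] at h2
    apply Units.ext
    rw [Units.val_one, ← h2]
    simp [dgMat]
  · intro h
    rw [Matrix.SpecialLinearGroup.mem_center_iff]
    refine ⟨(a : F), ?_, ?_⟩
    · rw [Fintype.card_fin, ← Units.val_pow_eq_pow_val, h, Units.val_one]
    · have hinv : ((a⁻¹ : Fˣ) : F) = (a : F) := by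
        have : a⁻¹ = a := by
          rw [inv_eq_iff_mul_eq_one, ← sq, h]
        rw [this]
      rw [coe_dg]
      ext i j
      fin_cases i <;> fin_cases j <;> simp [dgMat, Matrix.scalar_apply, hinv]

theorem exists_orderOf_eq_split [Fintype F] :
    ∃ g : Matrix.ProjectiveSpecialLinearGroup (Fin 2) F,
      orderOf g = (Fintype.card F - 1) / Nat.gcd 2 (Fintype.card F - 1) := by
  classical
  obtain ⟨a, ha⟩ := IsCyclic.exists_generator (α := Fˣ)
  have hoa : orderOf a = Fintype.card F - 1 := by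
    rw [orderOf_eq_card_of_forall_mem_zpowers ha, Nat.card_eq_fintype_card, Fintype.card_units]
  refine ⟨QuotientGroup.mk (dg a), orderOf_eq_of_forall _ _ (fun k => ?_)⟩
  rw [← QuotientGroup.mk_pow, QuotientGroup.eq_one_iff, ← map_pow, dg_mem_center_iff, ← pow_mul,
    ← orderOf_dvd_iff_pow_eq_one, hoa, mul_comm, dvd_two_mul_iff]

end Lower

section Nonsplit

variable {F : Type*} [Field F] [Fintype F]

theorem exists_orderOf_eq_nonsplit (p : ℕ) [Fact p.Prime] [CharP F p] :
    ∃ g : Matrix.ProjectiveSpecialLinearGroup (Fin 2) F,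
      orderOf g = (Fintype.card F + 1) / Nat.gcd 2 (Fintype.card F - 1) := by
  classical
  set q := Fintype.card F with hq
  have hq2 : 2 ≤ q := Fintype.one_lt_card
  obtain ⟨n, -, hn⟩ := FiniteField.card F p
  -- the quadratic extension
  let K := GaloisField p (2 * (n : ℕ))
  let _ : Fintype K := Fintype.ofFinite K
  have hK : Fintype.card K = q ^ 2 := by
    rw [← Nat.card_eq_fintype_card, GaloisField.card p _ (by have := n.pos; omega), hq, hn,
      ← pow_mul, mul_comm]
  obtain ⟨φ⟩ := Cfsg.Agent.H9.FieldEmbed.exists_ringHom hK (rfl : Fintype.card F = q)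
  let _ : Algebra F K := φ.toAlgebra
  have hfr : Module.finrank F K = 2 := Cfsg.Agent.H9.FieldEmbed.finrank_eq_two hK rfl
  let b : Module.Basis (Fin 2) F K := Module.finBasisOfFinrankEq F K hfr
  let L := Algebra.leftMulMatrix b
  have hLinj : Function.Injective L := Algebra.leftMulMatrix_injective b
  obtain ⟨ζ, hζ⟩ := IsCyclic.exists_generator (α := Kˣ)
  have hoζ : orderOf ζ = q ^ 2 - 1 := by
    rw [orderOf_eq_card_of_forall_mem_zpowers hζ, Nat.card_eq_fintype_card, Fintype.card_units, hK]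
  have hfac : q ^ 2 - 1 = (q + 1) * (q - 1) := by
    obtain ⟨k, hk⟩ : ∃ k, q = k + 1 := ⟨q - 1, by omega⟩
    rw [hk, Nat.add_sub_cancel]
    have : (k + 1) ^ 2 = (k + 1 + 1) * k + 1 := by ring
    rw [this, Nat.add_sub_cancel]
  set x : Kˣ := ζ ^ (q - 1) with hx
  have hox : orderOf x = q + 1 := by
    rw [hx, orderOf_pow, hoζ, hfac, Nat.gcd_mul_left_left,
      Nat.mul_div_cancel _ (by omega : 0 < q - 1)]
  have hdet : (L (x : K)).det = 1 := by
    rw [← Algebra.norm_eq_matrix_det b, hx, Units.val_pow_eq_pow_val, map_pow]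
    have h0 : Algebra.norm F (ζ : K) ≠ 0 := Algebra.norm_ne_zero_iff.2 ζ.ne_zero
    exact FiniteField.pow_card_sub_one_eq_one _ h0
  set g : Matrix.SpecialLinearGroup (Fin 2) F := ⟨L (x : K), hdet⟩ with hg
  have hgk : ∀ k : ℕ, ((g ^ k : Matrix.SpecialLinearGroup (Fin 2) F) :
      Matrix (Fin 2) (Fin 2) F) = L ((x ^ k : Kˣ) : K) := by
    intro k
    rw [Matrix.SpecialLinearGroup.coe_pow, Units.val_pow_eq_pow_val, map_pow]
  have hgcd : Nat.gcd 2 (q + 1) = Nat.gcd 2 (q - 1) := by
    have : q + 1 = (q - 1) + 2 := by omega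
    rw [this, Nat.gcd_add_self_right]
  refine ⟨QuotientGroup.mk g, orderOf_eq_of_forall _ _ (fun k => ?_)⟩
  rw [← QuotientGroup.mk_pow, QuotientGroup.eq_one_iff, ← hgcd, ← dvd_two_mul_iff, ← hox,
    orderOf_dvd_iff_pow_eq_one]
  constructor
  · intro h
    have h1 := sq_eq_one_of_mem_center h
    have h2 : ((g ^ k) ^ 2 : Matrix.SpecialLinearGroup (Fin 2) F) = g ^ (2 * k) := by
      rw [← pow_mul, mul_comm]
    rw [h2] at h1
    have h3 := congrArg (fun A : Matrix.SpecialLinearGroup (Fin 2) F =>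
      (A : Matrix (Fin 2) (Fin 2) F)) h1
    simp only [hgk, Matrix.SpecialLinearGroup.coe_one] at h3
    rw [← map_one L] at h3
    exact Units.ext (hLinj h3)
  · intro h
    have h1 : ((x ^ k : Kˣ) : K) * ((x ^ k : Kˣ) : K) = 1 := by
      rw [← Units.val_mul, ← pow_add, ← two_mul, h, Units.val_one]
    rw [mul_self_eq_one_iff] at h1
    rw [Matrix.SpecialLinearGroup.mem_center_iff]
    rcases h1 with h1 | h1
    · refine ⟨1, one_pow _, ?_⟩
      rw [hgk, h1, map_one, map_one]
    · refine ⟨-1, by rw [Fintype.card_fin]; ring, ?_⟩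
      rw [hgk, h1, map_neg, map_one, map_neg, map_one]

end Nonsplit

end Cfsg.Agent.H9.PSL2Spec
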