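import Mathlib
import Cfsg.Prelude.Def_Blocks
import Cfsg.Agent.H9.SL2OddByDeg
import Cfsg.Agent.H9.SL2Even
import Cfsg.Agent.S2299
import Cfsg.Agent.S2300
import Cfsg.Agent.S2508
import Cfsg.Agent.Lib.helper3.Inflate2

set_option autoImplicit false

/-!
# Degrees of the irreducible characters of SL₂(F) and PSL₂(F)
-/

namespace Cfsg.Agent.H9.PSL2Degrees

open Cfsg Matrix Cfsg.Agent.Lib.helper3.IndFun Cfsg.Agent.Lib.helper3.Irr
open Cfsg.Agent.H9.PrincipalSeries Cfsg.Agent.S2307 Cfsg.Agent.H9.SL2Chars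

variable {F : Type*} [Field F] [Fintype F]

local notation "SL2" => Matrix.SpecialLinearGroup (Fin 2) F
local notation "negOne" => (Cfsg.Agent.S2325.negOne : Matrix.SpecialLinearGroup (Fin 2) F)

theorem charDegree_eq' {G : Type*} [Group G] {χ : G → ℂ} {d : ℕ} (hd : χ 1 = d) :
    charDegree χ = d := by
  unfold charDegree
  rw [hd, Complex.natCast_re, Nat.floor_natCast]

/-- the possible degrees of the irreducible characters of SL₂(F) -/
theorem degree_cases {χ : SL2 → ℂ} (hχ : IsIrrCharacter SL2 χ) :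
    ∃ n : ℕ, χ 1 = (n : ℂ) ∧ (n = 1 ∨ n = Fintype.card F ∨ n = Fintype.card F + 1 ∨
      n = Fintype.card F - 1 ∨
      (Odd (Fintype.card F) ∧ (n = (Fintype.card F + 1) / 2 ∨ n = (Fintype.card F - 1) / 2))) := by
  have hq1 : 1 ≤ Fintype.card F := Fintype.card_pos
  have hcm1 : (Fintype.card F : ℂ) - 1 = ((Fintype.card F - 1 : ℕ) : ℂ) := by
    push_cast [Nat.cast_sub hq1]; ring
  have hcp1 : (Fintype.card F : ℂ) + 1 = ((Fintype.card F + 1 : ℕ) : ℂ) := by
    push_cast; ring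
  rcases Nat.even_or_odd (Fintype.card F) with hev | hodd
  · have hc2 : ringChar F = 2 := (FiniteField.even_card_iff_char_two).mpr (Nat.even_iff.mp hev)
    haveI : CharP F 2 := ringChar.of_eq hc2
    rcases (Cfsg.Agent.S2300.result (F := F)).1 χ hχ with h | h | h | h
    · exact ⟨1, by rw [h]; simp, Or.inl rfl⟩
    · exact ⟨Fintype.card F - 1, by rw [h, hcm1], Or.inr (Or.inr (Or.inr (Or.inl rfl)))⟩
    · exact ⟨Fintype.card F, h, Or.inr (Or.inl rfl)⟩
    · exact ⟨Fintype.card F + 1, by rw [h, hcp1], Or.inr (Or.inr (Or.inl rfl))⟩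
  · rcases (Cfsg.Agent.S2299.result (F := F) hodd).1 χ hχ with h | h | h | h | h | h
    · exact ⟨1, by rw [h]; simp, Or.inl rfl⟩
    · exact ⟨Fintype.card F, h, Or.inr (Or.inl rfl)⟩
    · exact ⟨Fintype.card F + 1, by rw [h, hcp1], Or.inr (Or.inr (Or.inl rfl))⟩
    · exact ⟨Fintype.card F - 1, by rw [h, hcm1], Or.inr (Or.inr (Or.inr (Or.inl rfl)))⟩
    · exact ⟨(Fintype.card F + 1) / 2, h, Or.inr (Or.inr (Or.inr (Or.inr ⟨hodd, Or.inl rfl⟩)))⟩
    · exact ⟨(Fintype.card F - 1) / 2, h, Or.inr (Or.inr (Or.inr (Or.inr ⟨hodd, Or.inr rfl⟩)))⟩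

/-- a degree divisible by the characteristic is `q` -/
theorem degree_eq_card_of_dvd {p : ℕ} (hp : p.Prime) (hpq : p ∣ Fintype.card F)
    {χ : SL2 → ℂ} (hχ : IsIrrCharacter SL2 χ) {n : ℕ} (hn : χ 1 = (n : ℂ)) (hpn : p ∣ n) :
    n = Fintype.card F := by
  have hq1 : 1 ≤ Fintype.card F := Fintype.card_pos
  obtain ⟨m, hm, hcases⟩ := degree_cases hχ
  have hnm : n = m := Nat.cast_injective (hn.symm.trans hm)
  subst hnm
  have hp1 : ¬ p ∣ 1 := fun h => hp.one_lt.ne' (Nat.dvd_one.mp h)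
  rcases hcases with h | h | h | h | ⟨hodd, h | h⟩
  · rw [h] at hpn; exact absurd hpn hp1
  · exact h
  · rw [h] at hpn
    exact absurd ((Nat.dvd_add_right hpq).mp hpn) hp1
  · rw [h] at hpn
    have : p ∣ Fintype.card F - (Fintype.card F - 1) := Nat.dvd_sub hpq hpn
    rw [Nat.sub_sub_self hq1] at this
    exact absurd this hp1
  · rw [h] at hpn
    obtain ⟨k, hk⟩ := hodd
    have h2 : p ∣ 2 * ((Fintype.card F + 1) / 2) := Dvd.dvd.mul_left hpn 2
    have h3 : 2 * ((Fintype.card F + 1) / 2) = Fintype.card F + 1 := by omega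
    rw [h3] at h2
    exact absurd ((Nat.dvd_add_right hpq).mp h2) hp1
  · rw [h] at hpn
    obtain ⟨k, hk⟩ := hodd
    have h2 : p ∣ 2 * ((Fintype.card F - 1) / 2) := Dvd.dvd.mul_left hpn 2
    have h3 : 2 * ((Fintype.card F - 1) / 2) = Fintype.card F - 1 := by omega
    rw [h3] at h2
    have : p ∣ Fintype.card F - (Fintype.card F - 1) := Nat.dvd_sub hpq h2
    rw [Nat.sub_sub_self hq1] at this
    exact absurd this hp1

/-- there is exactly one irreducible character of degree `q`, `q ≥ 4` -/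
theorem card_degree_q (hq : 4 ≤ Fintype.card F) :
    Nat.card {χ : IrrCharacter SL2 // (χ : SL2 → ℂ) 1 = (Fintype.card F : ℂ)} = 1 := by
  rcases Nat.even_or_odd (Fintype.card F) with hev | hodd
  · have hc2 : ringChar F = 2 := (FiniteField.even_card_iff_char_two).mpr (Nat.even_iff.mp hev)
    haveI : CharP F 2 := ringChar.of_eq hc2
    exact ((Cfsg.Agent.S2300.result (F := F)).2 hq).2.1
  · have hq5 : 5 ≤ Fintype.card F := by
      obtain ⟨k, hk⟩ := hodd
      omega
    exact ((Cfsg.Agent.S2299.result (F := F) hodd).2 hq5).2.1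

/-- the trivial principal series character is invariant under the centre -/
theorem R_one_negOne_mul [DecidableEq F] (g : SL2) :
    indFun (Bor : Subgroup SL2) (theta (1 : MulChar F ℂ)) (negOne * g)
      = indFun (Bor : Subgroup SL2) (theta (1 : MulChar F ℂ)) g := by
  rw [Cfsg.Agent.H9.PrincipalSeries.R_apply, Cfsg.Agent.H9.PrincipalSeries.R_apply,
    Cfsg.Agent.S2508.coe_negOne_mul]
  have hneg : ∀ x : F, (1 : MulChar F ℂ) (-x) = (1 : MulChar F ℂ) x := by
    intro x
    have h1 : (1 : MulChar F ℂ) (-1) = 1 := MulChar.one_apply (isUnit_one.neg)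
    rw [← neg_one_mul, map_mul, h1, one_mul]
  simp only [Matrix.neg_apply]
  congr 1
  · apply Finset.sum_congr rfl
    intro c _
    have hiff : (-g.1 1 0 + (-g.1 1 1 - -g.1 0 0) * c - -g.1 0 1 * c ^ 2 = 0) ↔
        (g.1 1 0 + (g.1 1 1 - g.1 0 0) * c - g.1 0 1 * c ^ 2 = 0) := by
      constructor
      · intro h; linear_combination -h
      · intro h; linear_combination -h
    have hval : (1 : MulChar F ℂ) (-g.1 0 0 + -g.1 0 1 * c)
        = (1 : MulChar F ℂ) (g.1 0 0 + g.1 0 1 * c) := by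
      rw [← hneg (g.1 0 0 + g.1 0 1 * c)]
      congr 1
      ring
    exact if_congr hiff hval rfl
  · exact if_congr neg_eq_zero (hneg _) rfl

/-- the character of degree `q` is constant on the cosets of the centre -/
theorem degree_q_central (hq : 4 ≤ Fintype.card F) {χ : SL2 → ℂ} (hχ : IsIrrCharacter SL2 χ)
    (hd : χ 1 = (Fintype.card F : ℂ)) (g n : SL2) (hn : n ∈ Subgroup.center SL2) :
    χ (g * n) = χ g := by
  classical
  rcases (Cfsg.Agent.S2508.mem_center_iff' n).mp hn with rfl | rfl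
  · rw [mul_one]
  · rcases Nat.even_or_odd (Fintype.card F) with hev | hodd
    · have hc2 : ringChar F = 2 := (FiniteField.even_card_iff_char_two).mpr (Nat.even_iff.mp hev)
      haveI : CharP F 2 := ringChar.of_eq hc2
      have h1 : negOne = 1 := by
        apply Subtype.ext
        rw [Cfsg.Agent.S2508.coe_negOne, Matrix.SpecialLinearGroup.coe_one]
        exact CharTwo.neg_eq _
      rw [h1, mul_one]
    · have hq5 : 5 ≤ Fintype.card F := by
        obtain ⟨k, hk⟩ := hodd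
        omega
      obtain ⟨H⟩ := exists_halves (F := F) hodd
      set ψ := AddChar.FiniteField.primitiveChar_to_Complex F with hψdef
      have hψ : ψ.IsPrimitive := AddChar.FiniteField.primitiveChar_to_Complex_isPrimitive F
      obtain ⟨ν, hν⟩ := exists_nonsquare (F := F) hodd
      have key := (type_by_degree H hodd hq5 ψ hψ hν hχ).2.1 hd
      rw [key, Cfsg.Agent.S2325.negOne_comm]
      unfold StSL
      rw [Pi.sub_apply, Pi.sub_apply, R_one_negOne_mul]

local notation "PSL2" => Matrix.ProjectiveSpecialLinearGroup (Fin 2) F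

/-- inflation from PSL₂ to SL₂ -/
theorem psl_inflate {ψ : PSL2 → ℂ} (hψ : IsIrrCharacter PSL2 ψ) :
    IsIrrCharacter SL2 (inflate (Subgroup.center SL2) ψ) ∧
      inflate (Subgroup.center SL2) ψ 1 = ψ 1 :=
  ⟨isIrrCharacter_inflate (Subgroup.center SL2) hψ, rfl⟩

/-- an irreducible character of SL₂ constant on the cosets of the centre comes from PSL₂ -/
theorem psl_exists {χ : SL2 → ℂ} (hχ : IsIrrCharacter SL2 χ)
    (hconst : ∀ g n : SL2, n ∈ Subgroup.center SL2 → χ (g * n) = χ g) :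
    ∃ ψ : PSL2 → ℂ, IsIrrCharacter PSL2 ψ ∧ ψ 1 = χ 1 := by
  obtain ⟨ψ, hψ, rfl⟩ := exists_eq_inflate hχ (Subgroup.center SL2) hconst
  exact ⟨ψ, hψ, rfl⟩

/-- the irreducible characters of PSL₂(F), `q ≥ 4`, of degree divisible by the characteristic -/
theorem psl_p_singular {p : ℕ} (hp : p.Prime) (hpq : p ∣ Fintype.card F)
    (hq : 4 ≤ Fintype.card F) :
    Nat.card {χ : IrrCharacter PSL2 // p ∣ charDegree (χ : PSL2 → ℂ)} = 1 ∧
      ∀ χ : IrrCharacter PSL2, p ∣ charDegree (χ : PSL2 → ℂ) →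
        charDegree (χ : PSL2 → ℂ) = Fintype.card F := by
  classical
  have hdeg : ∀ χ : IrrCharacter PSL2, p ∣ charDegree (χ : PSL2 → ℂ) →
      (χ : PSL2 → ℂ) 1 = (Fintype.card F : ℂ) := by
    intro χ hdvd
    obtain ⟨hirr, h1⟩ := psl_inflate χ.2
    obtain ⟨n, hn, -⟩ := degree_cases hirr
    rw [h1] at hn
    rw [charDegree_eq' hn] at hdvd
    have hn' : inflate (Subgroup.center SL2) (χ : PSL2 → ℂ) 1 = (n : ℂ) := by rw [h1, hn]
    rw [hn, degree_eq_card_of_dvd hp hpq hirr hn' hdvd]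
  refine ⟨?_, fun χ hdvd => charDegree_eq' (hdeg χ hdvd)⟩
  apply le_antisymm
  · rw [← card_degree_q (F := F) hq]
    apply Nat.card_le_card_of_injective
      (fun χ : {χ : IrrCharacter PSL2 // p ∣ charDegree (χ : PSL2 → ℂ)} =>
        (⟨⟨inflate (Subgroup.center SL2) ((χ : IrrCharacter PSL2) : PSL2 → ℂ),
          (psl_inflate (χ : IrrCharacter PSL2).2).1⟩, hdeg χ.1 χ.2⟩ :
          {χ : IrrCharacter SL2 // (χ : SL2 → ℂ) 1 = (Fintype.card F : ℂ)}))
    intro a b hab
    have h1 : inflate (Subgroup.center SL2) ((a : IrrCharacter PSL2) : PSL2 → ℂ)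
        = inflate (Subgroup.center SL2) ((b : IrrCharacter PSL2) : PSL2 → ℂ) :=
      congrArg (fun d : {χ : IrrCharacter SL2 // (χ : SL2 → ℂ) 1 = (Fintype.card F : ℂ)} =>
        ((d : IrrCharacter SL2) : SL2 → ℂ)) hab
    exact Subtype.ext (Subtype.ext (inflate_injective _ h1))
  · have hne : Nonempty {χ : IrrCharacter SL2 // (χ : SL2 → ℂ) 1 = (Fintype.card F : ℂ)} := by
      have h := card_degree_q (F := F) hq
      have hpos : 0 < Nat.card {χ : IrrCharacter SL2 // (χ : SL2 → ℂ) 1 = (Fintype.card F : ℂ)} := by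
        rw [h]; norm_num
      exact (Nat.card_pos_iff.mp hpos).1
    obtain ⟨⟨χ, hχd⟩⟩ := hne
    obtain ⟨ψ, hψ, hψ1⟩ := psl_exists χ.2 (degree_q_central hq χ.2 hχd)
    rw [hχd] at hψ1
    have hmem : p ∣ charDegree ψ := by rw [charDegree_eq' hψ1]; exact hpq
    haveI : Nonempty {χ : IrrCharacter PSL2 // p ∣ charDegree (χ : PSL2 → ℂ)} :=
      ⟨⟨⟨ψ, hψ⟩, hmem⟩⟩
    exact Nat.card_pos

end Cfsg.Agent.H9.PSL2Degrees
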