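import Mathlib
import Cfsg.Agent.Lib.helper3.Irr12
import Cfsg.Agent.Lib.helper3.Irr10
import Cfsg.Agent.Lib.helper3.Irr8
import Cfsg.Agent.Lib.helper3.Irr7
import Cfsg.Agent.Lib.helper3.Inflate2
import Cfsg.Agent.H9.PSL2Degrees

set_option autoImplicit false

/-! Tools for counting irreducible characters of `ℓ'`-degree. -/

namespace Cfsg.Agent.H9.McKayTools

open Cfsg Cfsg.Agent.Lib.helper3.Irr
open Cfsg.Agent.H9.PSL2Degrees (charDegree_eq')

/-- the count of `ℓ'`-degree irreducible characters is invariant under isomorphism -/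
theorem card_pdeg_mulEquiv {S : Type*} {G : Type*} [Group S] [Group G] [Finite G]
    (e : S ≃* G) (ℓ : ℕ) :
    Nat.card {χ : IrrCharacter S // ¬ ℓ ∣ charDegree (χ : S → ℂ)}
      = Nat.card {χ : IrrCharacter G // ¬ ℓ ∣ charDegree (χ : G → ℂ)} := by
  haveI : Finite S := Finite.of_equiv G e.symm.toEquiv
  apply Nat.card_congr
  refine
    { toFun := fun χ => ⟨⟨fun g => (χ.1 : S → ℂ) (e.symm g),
        isIrrCharacter_comp_mulEquiv e.symm χ.1.2⟩, ?_⟩
      invFun := fun χ => ⟨⟨fun g => (χ.1 : G → ℂ) (e g),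
        isIrrCharacter_comp_mulEquiv e χ.1.2⟩, ?_⟩
      left_inv := ?_
      right_inv := ?_ }
  · have := χ.2
    unfold charDegree at this ⊢
    simpa only [map_one] using this
  · have := χ.2
    unfold charDegree at this ⊢
    simpa only [map_one] using this
  · intro χ
    apply Subtype.ext
    apply Subtype.ext
    funext g
    simp
  · intro χ
    apply Subtype.ext
    apply Subtype.ext
    funext g
    simp

variable {H : Type*} [Group H] [Finite H]

/-- the degree of an irreducible character as a positive natural number -/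
theorem charDegree_spec (χ : IrrCharacter H) :
    (χ : H → ℂ) 1 = (charDegree (χ : H → ℂ) : ℂ) ∧ 0 < charDegree (χ : H → ℂ) := by
  obtain ⟨n, hn⟩ := exists_nat_apply_one (isCharacter_of_isIrrCharacter χ.2)
  have h1 := charDegree_eq' hn
  rw [h1]
  refine ⟨hn, ?_⟩
  rcases Nat.eq_zero_or_pos n with h | h
  · exfalso
    rw [h, Nat.cast_zero] at hn
    exact apply_one_ne_zero χ.2 hn
  · exact h

/-- if every irreducible character has `ℓ'`-degree, their number is the class number -/
theorem card_pdeg_eq_card_conjClasses (ℓ : ℕ)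
    (h : ∀ χ : IrrCharacter H, ¬ ℓ ∣ charDegree (χ : H → ℂ)) :
    Nat.card {χ : IrrCharacter H // ¬ ℓ ∣ charDegree (χ : H → ℂ)} = Nat.card (ConjClasses H) := by
  rw [← card_irr_eq_card_conjClasses]
  apply Nat.card_congr
  exact Equiv.subtypeUnivEquiv h

/-- the degree is at most the index of an abelian subgroup -/
theorem charDegree_le_index (χ : IrrCharacter H) (A : Subgroup H)
    (hA : ∀ a ∈ A, ∀ b ∈ A, a * b = b * a) : charDegree (χ : H → ℂ) ≤ A.index := by
  classical
  letI : Fintype H := Fintype.ofFinite H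
  have h1 := degree_le_index_of_abelian χ.2 A hA
  rw [(charDegree_spec χ).1, Complex.natCast_re] at h1
  exact_mod_cast h1

/-- with an abelian subgroup of index two, all degrees are prime to an odd prime -/
theorem not_dvd_of_index_two (ℓ : ℕ) (hℓ : ℓ.Prime) (hℓ2 : ℓ ≠ 2) (A : Subgroup H)
    (hA : ∀ a ∈ A, ∀ b ∈ A, a * b = b * a) (hidx : A.index = 2) (χ : IrrCharacter H) :
    ¬ ℓ ∣ charDegree (χ : H → ℂ) := by
  have h1 := charDegree_le_index χ A hA
  rw [hidx] at h1
  have h2 := (charDegree_spec χ).2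
  intro hd
  have h3 := Nat.le_of_dvd h2 hd
  have h4 := hℓ.two_le
  have : ℓ = 2 := by omega
  exact hℓ2 this

section conj

variable {G : Type*} [Group G] [Finite G]

/-- normalizers of conjugate Sylow subgroups have the same counts -/
theorem card_pdeg_normalizer_conj (ℓ : ℕ) [Fact ℓ.Prime] (S₀ S : Sylow ℓ G) (k : ℕ) :
    Nat.card {ψ : IrrCharacter (Subgroup.normalizer ((S : Subgroup G) : Set G)) //
        ¬ k ∣ charDegree (ψ : Subgroup.normalizer ((S : Subgroup G) : Set G) → ℂ)}
      = Nat.card {ψ : IrrCharacter (Subgroup.normalizer ((S₀ : Subgroup G) : Set G)) //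
        ¬ k ∣ charDegree (ψ : Subgroup.normalizer ((S₀ : Subgroup G) : Set G) → ℂ)} := by
  obtain ⟨c, hc⟩ := MulAction.exists_smul_eq G S₀ S
  have hPeq : (S : Subgroup G) = (S₀ : Subgroup G).map (MulAut.conj c).toMonoidHom := by
    rw [← hc]
    rfl
  have hinj : Function.Injective (MulAut.conj c).toMonoidHom := (MulAut.conj c).injective
  have hN : Subgroup.normalizer ((S : Subgroup G) : Set G)
      = (Subgroup.normalizer ((S₀ : Subgroup G) : Set G)).map (MulAut.conj c).toMonoidHom := by
    rw [hPeq, ← Subgroup.map_equiv_normalizer_eq]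
  have e : Subgroup.normalizer ((S₀ : Subgroup G) : Set G) ≃*
      Subgroup.normalizer ((S : Subgroup G) : Set G) :=
    ((Subgroup.normalizer ((S₀ : Subgroup G) : Set G)).equivMapOfInjective _ hinj).trans
      (MulEquiv.subgroupCongr hN.symm)
  exact (card_pdeg_mulEquiv e k).symm

/-- the McKay equality for primes not dividing the group order -/
theorem mckay_of_not_dvd (ℓ : ℕ) [Fact ℓ.Prime] (S : Sylow ℓ G) (h : ¬ ℓ ∣ Nat.card G) :
    Nat.card {χ : IrrCharacter G // ¬ ℓ ∣ charDegree (χ : G → ℂ)}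
      = Nat.card {ψ : IrrCharacter (Subgroup.normalizer ((S : Subgroup G) : Set G)) //
        ¬ ℓ ∣ charDegree (ψ : Subgroup.normalizer ((S : Subgroup G) : Set G) → ℂ)} := by
  have hcard : Nat.card (S : Subgroup G) = 1 := by
    have := S.card_eq_multiplicity
    rw [Nat.factorization_eq_zero_of_not_dvd h, pow_zero] at this
    exact this
  have hbot : (S : Subgroup G) = ⊥ := Subgroup.card_eq_one.1 hcard
  have htop : Subgroup.normalizer ((S : Subgroup G) : Set G) = ⊤ := by
    rw [eq_top_iff]
    intro g _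
    rw [hbot]
    apply Subgroup.mem_normalizer_fintype
    intro x hx
    rw [SetLike.mem_coe, Subgroup.mem_bot] at hx ⊢
    rw [hx]
    group
  have e : Subgroup.normalizer ((S : Subgroup G) : Set G) ≃* G :=
    (MulEquiv.subgroupCongr htop).trans Subgroup.topEquiv
  exact (card_pdeg_mulEquiv e ℓ).symm

end conj

/-- if all odd degrees are one, the number of odd degree irreducible characters is the index of
the commutator subgroup -/
theorem card_odd_eq_index_commutator
    (h : ∀ χ : IrrCharacter H, ¬ 2 ∣ charDegree (χ : H → ℂ) → charDegree (χ : H → ℂ) = 1) :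
    Nat.card {χ : IrrCharacter H // ¬ 2 ∣ charDegree (χ : H → ℂ)} = (commutator H).index := by
  rw [← card_linear_eq_index_commutator (G := H)]
  apply Nat.card_congr
  refine Equiv.subtypeEquivRight ?_
  intro χ
  constructor
  · intro h2
    rw [(charDegree_spec χ).1, h χ h2, Nat.cast_one]
  · intro h1
    have : charDegree (χ : H → ℂ) = 1 := charDegree_eq' (by rw [h1, Nat.cast_one])
    rw [this]
    norm_num

/-- a group of order `24` with commutator subgroup of index `3` has exactly four irreducible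
characters of odd degree -/
theorem card_odd_of_card_24 (h24 : Nat.card H = 24) (hidx : (commutator H).index = 3) :
    Nat.card {χ : IrrCharacter H // ¬ 2 ∣ charDegree (χ : H → ℂ)} = 4 := by
  classical
  letI : Fintype H := Fintype.ofFinite H
  set n : IrrCharacter H → ℕ := fun χ => charDegree (χ : H → ℂ) with hn
  have hsum : ∑ χ : IrrCharacter H, n χ ^ 2 = 24 := by
    have h1 := sum_sq_degree (G := H)
    rw [h24] at h1
    have h2 : ∑ χ : IrrCharacter H, ((n χ : ℂ)) ^ 2 = ((24 : ℕ) : ℂ) := by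
      rw [← h1]
      apply Finset.sum_congr rfl
      intro χ _
      rw [(charDegree_spec χ).1]
    have h3 : ((∑ χ : IrrCharacter H, n χ ^ 2 : ℕ) : ℂ) = ((24 : ℕ) : ℂ) := by
      rw [← h2]
      push_cast
      rfl
    exact_mod_cast h3
  set L := (Finset.univ : Finset (IrrCharacter H)).filter (fun χ => n χ = 1) with hL
  set R := (Finset.univ : Finset (IrrCharacter H)).filter (fun χ => ¬ n χ = 1) with hR
  set O := R.filter (fun χ => ¬ 2 ∣ n χ) with hO
  set E := R.filter (fun χ => ¬ ¬ 2 ∣ n χ) with hE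
  have hLcard : L.card = 3 := by
    rw [← hidx, ← card_linear_eq_index_commutator (G := H), Nat.card_eq_fintype_card,
      Fintype.card_subtype]
    congr 1
    ext χ
    simp only [hL, Finset.mem_filter, Finset.mem_univ, true_and]
    constructor
    · intro h1
      rw [(charDegree_spec χ).1]
      show ((n χ : ℕ) : ℂ) = 1
      rw [h1, Nat.cast_one]
    · intro h1
      exact charDegree_eq' (by rw [h1, Nat.cast_one])
  have hs1 : ∑ χ : IrrCharacter H, n χ ^ 2 = ∑ χ ∈ L, n χ ^ 2 + ∑ χ ∈ R, n χ ^ 2 := by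
    rw [hL, hR, Finset.sum_filter_add_sum_filter_not]
  have hs2 : ∑ χ ∈ R, n χ ^ 2 = ∑ χ ∈ O, n χ ^ 2 + ∑ χ ∈ E, n χ ^ 2 := by
    rw [hO, hE, Finset.sum_filter_add_sum_filter_not]
  have hsL : ∑ χ ∈ L, n χ ^ 2 = 3 := by
    rw [← hLcard, Finset.card_eq_sum_ones]
    apply Finset.sum_congr rfl
    intro χ hχ
    rw [hL, Finset.mem_filter] at hχ
    rw [hχ.2]
    norm_num
  have hsE : (∑ χ ∈ E, n χ ^ 2) % 4 = 0 := by
    rw [Finset.sum_nat_mod]
    have : ∀ χ ∈ E, n χ ^ 2 % 4 = 0 := by
      intro χ hχ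
      rw [hE, Finset.mem_filter, not_not] at hχ
      obtain ⟨m, hm⟩ := hχ.2
      rw [hm]
      have : (2 * m) ^ 2 = 4 * m ^ 2 := by ring
      rw [this]
      exact Nat.mul_mod_right 4 _
    rw [Finset.sum_congr rfl this]
    simp
  have hsO : (∑ χ ∈ O, n χ ^ 2) % 4 = O.card % 4 := by
    rw [Finset.sum_nat_mod]
    have : ∀ χ ∈ O, n χ ^ 2 % 4 = 1 := by
      intro χ hχ
      rw [hO, Finset.mem_filter] at hχ
      have hodd : n χ % 2 = 1 := by
        have := hχ.2
        omega
      have h4 : n χ % 4 = 1 ∨ n χ % 4 = 3 := by omega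
      rcases h4 with h4 | h4
      · rw [Nat.pow_mod, h4]
      · rw [Nat.pow_mod, h4]
    rw [Finset.sum_congr rfl this]
    simp
  have hOge : 9 * O.card ≤ ∑ χ ∈ O, n χ ^ 2 := by
    rw [mul_comm, ← smul_eq_mul, ← Finset.sum_const]
    apply Finset.sum_le_sum
    intro χ hχ
    rw [hO, Finset.mem_filter, hR, Finset.mem_filter] at hχ
    have h1 : n χ ≠ 1 := hχ.1.2
    have h2 : ¬ 2 ∣ n χ := hχ.2
    have h3 : 0 < n χ := (charDegree_spec χ).2
    have h4 : 3 ≤ n χ := by
      by_contra hlt
      have : n χ = 2 := by omega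
      exact h2 ⟨1, by omega⟩
    nlinarith
  have hOcard : O.card = 1 := by
    rw [hs1, hsL, hs2] at hsum
    omega
  -- the count
  rw [Nat.card_eq_fintype_card, Fintype.card_subtype]
  show ((Finset.univ : Finset (IrrCharacter H)).filter
      (fun χ : IrrCharacter H => ¬ 2 ∣ n χ)).card = 4
  have hunion : (Finset.univ : Finset (IrrCharacter H)).filter
      (fun χ : IrrCharacter H => ¬ 2 ∣ n χ) = L ∪ O := by
    ext χ
    simp only [hL, hO, hR, Finset.mem_filter, Finset.mem_univ, true_and, Finset.mem_union]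
    constructor
    · intro h2
      by_cases h1 : n χ = 1
      · exact Or.inl h1
      · exact Or.inr ⟨h1, h2⟩
    · rintro (h1 | ⟨-, h2⟩)
      · rw [h1]
        norm_num
      · exact h2
  have hdisj : Disjoint L O := by
    rw [Finset.disjoint_left]
    intro χ h1 h2
    rw [hL, Finset.mem_filter] at h1
    rw [hO, Finset.mem_filter, hR, Finset.mem_filter] at h2
    exact h2.1.2 h1.2
  rw [hunion, Finset.card_union_of_disjoint hdisj, hLcard, hOcard]

/-- if all degrees are at most two: `3 · #{odd degree} + |H| = 4 k(H)` -/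
theorem three_mul_card_odd_add (h : ∀ χ : IrrCharacter H, charDegree (χ : H → ℂ) ≤ 2) :
    3 * Nat.card {χ : IrrCharacter H // ¬ 2 ∣ charDegree (χ : H → ℂ)} + Nat.card H
      = 4 * Nat.card (ConjClasses H) := by
  classical
  letI : Fintype H := Fintype.ofFinite H
  set n : IrrCharacter H → ℕ := fun χ => charDegree (χ : H → ℂ) with hn
  have hsum : ∑ χ : IrrCharacter H, n χ ^ 2 = Nat.card H := by
    have h1 := sum_sq_degree (G := H)
    have h2 : ∑ χ : IrrCharacter H, ((n χ : ℂ)) ^ 2 = ((Nat.card H : ℕ) : ℂ) := by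
      rw [← h1]
      apply Finset.sum_congr rfl
      intro χ _
      rw [(charDegree_spec χ).1]
    have h3 : ((∑ χ : IrrCharacter H, n χ ^ 2 : ℕ) : ℂ) = ((Nat.card H : ℕ) : ℂ) := by
      rw [← h2]
      push_cast
      rfl
    exact_mod_cast h3
  set L := (Finset.univ : Finset (IrrCharacter H)).filter
    (fun χ : IrrCharacter H => ¬ 2 ∣ n χ) with hL
  set R := (Finset.univ : Finset (IrrCharacter H)).filter
    (fun χ : IrrCharacter H => ¬ ¬ 2 ∣ n χ) with hR
  have hs1 : ∑ χ : IrrCharacter H, n χ ^ 2 = ∑ χ ∈ L, n χ ^ 2 + ∑ χ ∈ R, n χ ^ 2 := by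
    rw [hL, hR, Finset.sum_filter_add_sum_filter_not]
  have hc1 : (Finset.univ : Finset (IrrCharacter H)).card = L.card + R.card := by
    rw [hL, hR, Finset.card_filter_add_card_filter_not]
  have hsL : ∑ χ ∈ L, n χ ^ 2 = L.card := by
    rw [Finset.card_eq_sum_ones]
    apply Finset.sum_congr rfl
    intro χ hχ
    rw [hL, Finset.mem_filter] at hχ
    have h1 := h χ
    have h2 := (charDegree_spec χ).2
    have : n χ = 1 := by
      have h3 : ¬ 2 ∣ n χ := hχ.2
      have h1' : n χ ≤ 2 := h1
      have h2' : 0 < n χ := h2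
      omega
    rw [this]
    norm_num
  have hsR : ∑ χ ∈ R, n χ ^ 2 = 4 * R.card := by
    rw [mul_comm, ← smul_eq_mul, ← Finset.sum_const]
    apply Finset.sum_congr rfl
    intro χ hχ
    rw [hR, Finset.mem_filter, not_not] at hχ
    have h1 : n χ ≤ 2 := h χ
    have h2 : 0 < n χ := (charDegree_spec χ).2
    have : n χ = 2 := by
      have h3 : 2 ∣ n χ := hχ.2
      omega
    rw [this]
    norm_num
  have hk : Nat.card (ConjClasses H) = (Finset.univ : Finset (IrrCharacter H)).card := by
    rw [← card_irr_eq_card_conjClasses, Nat.card_eq_fintype_card, Finset.card_univ]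
  have hL' : Nat.card {χ : IrrCharacter H // ¬ 2 ∣ charDegree (χ : H → ℂ)} = L.card := by
    rw [Nat.card_eq_fintype_card, Fintype.card_subtype]
  rw [hk, hc1, hL', ← hsum, hs1, hsL, hsR]
  ring

end Cfsg.Agent.H9.McKayTools
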