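import Mathlib
import Cfsg.Agent.H9.McKayTools
import Cfsg.Agent.H9.SylowTorus

set_option autoImplicit false

/-! The characters of the normalizer of a Sylow `ℓ`-subgroup lying in a cyclic self-centralizing
torus of index two in its normalizer (`ℓ` odd). -/

namespace Cfsg.Agent.H9.McKayTorus

open Cfsg Cfsg.Agent.H9.McKayTools

variable {G : Type*} [Group G] [Finite G]

theorem card_pdeg_normalizer_torus (A : Subgroup G) (hA : IsCyclic A)
    (hcent : ∀ g ∈ A, g * g ≠ 1 → Subgroup.centralizer ({g} : Set G) = A)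
    (ℓ : ℕ) [Fact ℓ.Prime] (hℓ2 : ℓ ≠ 2) (hℓA : ℓ ∣ Nat.card A)
    (hpart : (Nat.card G).factorization ℓ = (Nat.card A).factorization ℓ)
    (hidx : (A.subgroupOf (Subgroup.normalizer (A : Set G))).index = 2) (P : Sylow ℓ G) :
    Nat.card {ψ : IrrCharacter (Subgroup.normalizer ((P : Subgroup G) : Set G)) //
        ¬ ℓ ∣ charDegree (ψ : Subgroup.normalizer ((P : Subgroup G) : Set G) → ℂ)}
      = Nat.card (ConjClasses (Subgroup.normalizer (A : Set G))) := by
  have hAc : ∀ a ∈ A, ∀ b ∈ A, a * b = b * a := by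
    intro a ha b hb
    have hcomm : ∀ u v : A, u * v = v * u := fun u v => by
      let _ := hA.commGroup
      exact mul_comm u v
    have := hcomm ⟨a, ha⟩ ⟨b, hb⟩
    exact congrArg Subtype.val this
  have hℓG : ℓ ∣ Nat.card G := hℓA.trans (Subgroup.card_subgroup_dvd_card A)
  obtain ⟨Q⟩ : Nonempty (Sylow ℓ A) := inferInstance
  set P₀ : Subgroup G := (Q : Subgroup A).map A.subtype with hP₀
  have hP₀A : P₀ ≤ A := by
    rintro _ ⟨q, -, rfl⟩
    exact q.2
  have hcard : Nat.card P₀ = ℓ ^ (Nat.card G).factorization ℓ := by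
    rw [hP₀, Subgroup.card_map_of_injective A.subtype_injective, Q.card_eq_multiplicity, hpart]
  let P₀' : Sylow ℓ G := Sylow.ofCard P₀ hcard
  rw [card_pdeg_normalizer_conj ℓ P₀' P ℓ]
  obtain ⟨-, h2⟩ := Cfsg.Agent.H9.SylowTorus.core A hAc hcent ℓ hℓ2 hℓG P₀' hP₀A
  rw [h2]
  apply card_pdeg_eq_card_conjClasses
  intro χ
  refine not_dvd_of_index_two ℓ Fact.out hℓ2 (A.subgroupOf (Subgroup.normalizer (A : Set G))) ?_
    hidx χ
  intro a ha b hb
  rw [Subgroup.mem_subgroupOf] at ha hb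
  apply Subtype.ext
  rw [Subgroup.coe_mul, Subgroup.coe_mul]
  exact hAc _ ha _ hb

end Cfsg.Agent.H9.McKayTorus
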