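import Mathlib
import Cfsg.Agent.H9.SL2OddExport
import Cfsg.Agent.H9.PSL2Degrees

set_option autoImplicit false

/-!
# The number of irreducible characters of SL₂(F), `q` odd, of each degree
-/

namespace Cfsg.Agent.H9.SL2Chars

open Cfsg Matrix Cfsg.Agent.Lib.helper3.IndFun Cfsg.Agent.Lib.helper3.Irr
open Cfsg.Agent.H9.PrincipalSeries Cfsg.Agent.S2307
open Cfsg.Agent.H9.PSL2Degrees (charDegree_eq')
open scoped ComplexConjugate

variable {F : Type*} [Field F] [Fintype F]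

local notation "SL2" => Matrix.SpecialLinearGroup (Fin 2) F

/-- the number of irreducible characters whose degree satisfies a given predicate -/
theorem card_by_degree (hodd : Odd (Fintype.card F)) (P : ℕ → Prop) [DecidablePred P] :
    Nat.card {χ : IrrCharacter SL2 // P (charDegree (χ : SL2 → ℂ))}
      = (if P 1 then 1 else 0) + (if P (Fintype.card F) then 1 else 0)
        + 2 * (if P ((Fintype.card F + 1) / 2) then 1 else 0)
        + (Fintype.card F - 3) / 2 * (if P (Fintype.card F + 1) then 1 else 0)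
        + (Fintype.card F - 1) / 2 * (if P (Fintype.card F - 1) then 1 else 0)
        + 2 * (if P ((Fintype.card F - 1) / 2) then 1 else 0) := by
  classical
  obtain ⟨H⟩ := exists_halves (F := F) hodd
  set ψ := AddChar.FiniteField.primitiveChar_to_Complex F with hψdef
  have hψ : ψ.IsPrimitive := AddChar.FiniteField.primitiveChar_to_Complex_isPrimitive F
  obtain ⟨ν, hν⟩ := exists_nonsquare (F := F) hodd
  have hq1 : 1 ≤ Fintype.card F := Fintype.card_pos
  have hq3 : 3 ≤ Fintype.card F := by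
    have h1 : 1 < Fintype.card F := Fintype.one_lt_card
    rcases hodd with ⟨k, hk⟩
    omega
  obtain ⟨k, hk⟩ := id hodd
  have hk1 : 1 ≤ k := by omega
  set q := Fintype.card F with hq
  have hcm1 : (q : ℂ) - 1 = ((q - 1 : ℕ) : ℂ) := by
    push_cast [Nat.cast_sub hq1]; ring
  have hhalfm : (((q - 1) / 2 : ℕ) : ℂ) = ((q : ℂ) - 1) / 2 := by
    have : (q - 1) / 2 = k := by omega
    rw [this, hk]
    push_cast
    ring
  have hhalfp : (((q + 1) / 2 : ℕ) : ℂ) = ((q : ℂ) + 1) / 2 := by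
    have : (q + 1) / 2 = k + 1 := by omega
    rw [this, hk]
    push_cast
    ring
  have hhalf3 : (((q - 3) / 2 : ℕ) : ℂ) = ((q : ℂ) - 3) / 2 := by
    have : (q - 3) / 2 = k - 1 := by omega
    rw [this, hk]
    push_cast [Nat.cast_sub hk1]
    ring
  set ind : ℕ → ℕ := fun d => if P d then 1 else 0 with hind
  set f : IrrCharacter SL2 → ℂ := fun χ => ((ind (charDegree (χ : SL2 → ℂ)) : ℕ) : ℂ) with hf
  have hcard : (Nat.card {χ : IrrCharacter SL2 // P (charDegree (χ : SL2 → ℂ))} : ℂ) = ∑ χ, f χ := by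
    rw [Nat.card_eq_fintype_card, Fintype.card_subtype, ← Nat.cast_sum]
    congr 1
    rw [Finset.card_filter]
  -- degrees of the known characters
  have dt : charDegree ((trivc : IrrCharacter SL2) : SL2 → ℂ) = 1 :=
    charDegree_eq' (by simp [trivc])
  have dS : charDegree ((Stc : IrrCharacter SL2) : SL2 → ℂ) = q :=
    charDegree_eq' StSL_one
  have d1 : charDegree ((p1c H : IrrCharacter SL2) : SL2 → ℂ) = (q + 1) / 2 :=
    charDegree_eq' H.deg₁
  have d2 : charDegree ((p2c H : IrrCharacter SL2) : SL2 → ℂ) = (q + 1) / 2 :=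
    charDegree_eq' H.deg₂
  have dK : ∀ χ ∈ K3 (F := F), charDegree ((χ : IrrCharacter SL2) : SL2 → ℂ) = q + 1 := by
    intro χ hχ
    apply charDegree_eq'
    rw [K3_deg χ hχ]
    push_cast
    ring
  have dC : ∀ χ ∈ cuspSetSL H, ((χ : SL2 → ℂ) 1 = ((q - 1 : ℕ) : ℂ) ∧
        charDegree ((χ : IrrCharacter SL2) : SL2 → ℂ) = q - 1) ∨
      ((χ : SL2 → ℂ) 1 = (((q - 1) / 2 : ℕ) : ℂ) ∧
        charDegree ((χ : IrrCharacter SL2) : SL2 → ℂ) = (q - 1) / 2) := by
    intro χ hχ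
    have h1 := cusp_data H hodd ψ hψ hν χ hχ
    have hcf := isClassFunction_of_isCharacter (isCharacter_of_isIrrCharacter χ.2)
    have hdeg := cusp_degree_SL hodd ψ hψ hν hcf h1.1
    rcases h1.2 with h | h | h
    · left
      have := hdeg.1 h
      rw [hcm1] at this
      exact ⟨this, charDegree_eq' this⟩
    · right
      have := hdeg.2 (Or.inl h)
      exact ⟨this, charDegree_eq' this⟩
    · right
      have := hdeg.2 (Or.inr h)
      exact ⟨this, charDegree_eq' this⟩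
  have hne : q - 1 ≠ (q - 1) / 2 := by omega
  -- the cuspidal characters of degree `q - 1`
  set Ca := (cuspSetSL H).filter
    (fun χ => charDegree ((χ : IrrCharacter SL2) : SL2 → ℂ) = q - 1) with hCa
  set Cb := (cuspSetSL H).filter
    (fun χ => ¬ charDegree ((χ : IrrCharacter SL2) : SL2 → ℂ) = q - 1) with hCb
  have hsplit : ∀ g : IrrCharacter SL2 → ℂ, ∑ χ ∈ cuspSetSL H, g χ
      = ∑ χ ∈ Ca, g χ + ∑ χ ∈ Cb, g χ := by
    intro g
    rw [hCa, hCb, Finset.sum_filter_add_sum_filter_not]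
  have hCa_deg : ∀ χ ∈ Ca, (χ : SL2 → ℂ) 1 = ((q - 1 : ℕ) : ℂ) ∧
      charDegree ((χ : IrrCharacter SL2) : SL2 → ℂ) = q - 1 := by
    intro χ hχ
    rw [hCa, Finset.mem_filter] at hχ
    rcases dC χ hχ.1 with h | h
    · exact h
    · exact absurd (h.2.symm.trans hχ.2).symm hne
  have hCb_deg : ∀ χ ∈ Cb, (χ : SL2 → ℂ) 1 = (((q - 1) / 2 : ℕ) : ℂ) ∧
      charDegree ((χ : IrrCharacter SL2) : SL2 → ℂ) = (q - 1) / 2 := by
    intro χ hχ
    rw [hCb, Finset.mem_filter] at hχ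
    rcases dC χ hχ.1 with h | h
    · exact absurd h.2 hχ.2
    · exact h
  -- the two equations
  have E1 := sum_split_SL H hodd (fun _ => (1 : ℂ))
  have E2 := sum_split_SL H hodd (fun φ => (φ : SL2 → ℂ) 1 ^ 2)
  rw [sum_sq_degree, Cfsg.Agent.S2300.card_SL2_cast] at E2
  simp only [Finset.sum_const, Finset.card_univ, nsmul_eq_mul, mul_one] at E1
  rw [card_irr_SL2 hodd] at E1
  have hK2 : ∑ φ ∈ K3 (F := F), (φ : SL2 → ℂ) 1 ^ 2
      = ((K3 (F := F)).card : ℂ) * ((q : ℂ) + 1) ^ 2 := by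
    rw [Finset.sum_congr rfl (fun φ hφ => by rw [K3_deg φ hφ]), Finset.sum_const, nsmul_eq_mul]
  have hKc : ((K3 (F := F)).card : ℂ) = ((q : ℂ) - 3) / 2 := by
    have := two_mul_card_K3 (F := F) hodd
    have h2 : ((2 * (K3 (F := F)).card : ℕ) : ℂ) = ((q - 3 : ℕ) : ℂ) := by rw [this]
    push_cast [Nat.cast_sub hq3] at h2
    linear_combination h2 / 2
  rw [hsplit] at E2
  have hcc : ((cuspSetSL H).card : ℂ) = (Ca.card : ℂ) + (Cb.card : ℂ) := by
    have := Finset.card_filter_add_card_filter_not (s := cuspSetSL H)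
      (fun χ => charDegree ((χ : IrrCharacter SL2) : SL2 → ℂ) = q - 1)
    rw [← hCa, ← hCb] at this
    rw [← this]
    push_cast
    ring
  have hA2 : ∑ φ ∈ Ca, (φ : SL2 → ℂ) 1 ^ 2 = (Ca.card : ℂ) * ((q : ℂ) - 1) ^ 2 := by
    rw [Finset.sum_congr rfl (fun φ hφ => by rw [(hCa_deg φ hφ).1, ← hcm1]), Finset.sum_const,
      nsmul_eq_mul]
  have hB2 : ∑ φ ∈ Cb, (φ : SL2 → ℂ) 1 ^ 2 = (Cb.card : ℂ) * (((q : ℂ) - 1) / 2) ^ 2 := by
    rw [Finset.sum_congr rfl (fun φ hφ => by rw [(hCb_deg φ hφ).1, hhalfm]), Finset.sum_const,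
      nsmul_eq_mul]
  rw [hK2, hA2, hB2, hKc] at E2
  rw [hKc, hcc] at E1
  have ht1 : ((trivc : IrrCharacter SL2) : SL2 → ℂ) 1 = 1 := rfl
  have hs1 : ((Stc : IrrCharacter SL2) : SL2 → ℂ) 1 = (q : ℂ) := StSL_one
  have hp1 : ((p1c H : IrrCharacter SL2) : SL2 → ℂ) 1 = ((q : ℂ) + 1) / 2 := by
    rw [← hhalfp]; exact H.deg₁
  have hp2 : ((p2c H : IrrCharacter SL2) : SL2 → ℂ) 1 = ((q : ℂ) + 1) / 2 := by
    rw [← hhalfp]; exact H.deg₂
  rw [ht1, hs1, hp1, hp2] at E2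
  rw [← hq] at E1 E2
  have hqm1 : ((q : ℂ) - 1) ≠ 0 := by
    have : (q : ℂ) ≠ 1 := by
      have : q ≠ 1 := by omega
      exact_mod_cast this
    exact sub_ne_zero.mpr this
  -- solve for the two cardinalities
  have hb : (Cb.card : ℂ) = 2 := by
    have h3 : ((q : ℂ) - 1) ^ 2 * (3 * (Cb.card : ℂ) - 6) = 0 := by
      linear_combination (4 : ℂ) * E2 - 4 * ((q : ℂ) - 1) ^ 2 * E1
    rcases mul_eq_zero.1 h3 with h | h
    · exact absurd ((pow_eq_zero_iff two_ne_zero).1 h) hqm1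
    · linear_combination h / 3
  have ha : (Ca.card : ℂ) = ((q : ℂ) - 1) / 2 := by
    linear_combination -E1 - hb
  have hbN : Cb.card = 2 := by exact_mod_cast hb
  have haN : Ca.card = (q - 1) / 2 := by
    have : (Ca.card : ℂ) = (((q - 1) / 2 : ℕ) : ℂ) := by rw [ha, hhalfm]
    exact_mod_cast this
  have hKN : (K3 (F := F)).card = (q - 3) / 2 := by
    have : ((K3 (F := F)).card : ℂ) = (((q - 3) / 2 : ℕ) : ℂ) := by rw [hKc, hhalf3]
    exact_mod_cast this
  -- the count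
  have hmain := sum_split_SL H hodd f
  rw [hsplit] at hmain
  have hfK : ∑ χ ∈ K3 (F := F), f χ = (((q - 3) / 2 * ind (q + 1) : ℕ) : ℂ) := by
    have : ∑ χ ∈ K3 (F := F), f χ = ∑ _χ ∈ K3 (F := F), ((ind (q + 1) : ℕ) : ℂ) :=
      Finset.sum_congr rfl (fun φ hφ => by
        show ((ind (charDegree ((φ : IrrCharacter SL2) : SL2 → ℂ)) : ℕ) : ℂ) = _
        rw [dK φ hφ])
    rw [this, Finset.sum_const, nsmul_eq_mul, hKN]
    push_cast
    ring
  have hfA : ∑ χ ∈ Ca, f χ = (((q - 1) / 2 * ind (q - 1) : ℕ) : ℂ) := by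
    have : ∑ χ ∈ Ca, f χ = ∑ _χ ∈ Ca, ((ind (q - 1) : ℕ) : ℂ) :=
      Finset.sum_congr rfl (fun φ hφ => by
        show ((ind (charDegree ((φ : IrrCharacter SL2) : SL2 → ℂ)) : ℕ) : ℂ) = _
        rw [(hCa_deg φ hφ).2])
    rw [this, Finset.sum_const, nsmul_eq_mul, haN]
    push_cast
    ring
  have hfB : ∑ χ ∈ Cb, f χ = ((2 * ind ((q - 1) / 2) : ℕ) : ℂ) := by
    have : ∑ χ ∈ Cb, f χ = ∑ _χ ∈ Cb, ((ind ((q - 1) / 2) : ℕ) : ℂ) :=
      Finset.sum_congr rfl (fun φ hφ => by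
        show ((ind (charDegree ((φ : IrrCharacter SL2) : SL2 → ℂ)) : ℕ) : ℂ) = _
        rw [(hCb_deg φ hφ).2])
    rw [this, Finset.sum_const, nsmul_eq_mul, hbN]
    push_cast
    ring
  have hft : f trivc = ((ind 1 : ℕ) : ℂ) := by
    show ((ind (charDegree ((trivc : IrrCharacter SL2) : SL2 → ℂ)) : ℕ) : ℂ) = _
    rw [dt]
  have hfS : f Stc = ((ind q : ℕ) : ℂ) := by
    show ((ind (charDegree ((Stc : IrrCharacter SL2) : SL2 → ℂ)) : ℕ) : ℂ) = _
    rw [dS]
  have hf1 : f (p1c H) = ((ind ((q + 1) / 2) : ℕ) : ℂ) := by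
    show ((ind (charDegree ((p1c H : IrrCharacter SL2) : SL2 → ℂ)) : ℕ) : ℂ) = _
    rw [d1]
  have hf2 : f (p2c H) = ((ind ((q + 1) / 2) : ℕ) : ℂ) := by
    show ((ind (charDegree ((p2c H : IrrCharacter SL2) : SL2 → ℂ)) : ℕ) : ℂ) = _
    rw [d2]
  rw [hfK, hfA, hfB, hft, hfS, hf1, hf2, ← hcard] at hmain
  have : (Nat.card {χ : IrrCharacter SL2 // P (charDegree (χ : SL2 → ℂ))} : ℂ)
      = ((ind 1 + ind q + 2 * ind ((q + 1) / 2) + (q - 3) / 2 * ind (q + 1)
        + (q - 1) / 2 * ind (q - 1) + 2 * ind ((q - 1) / 2) : ℕ) : ℂ) := by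
    rw [hmain]
    push_cast
    ring
  exact_mod_cast this

end Cfsg.Agent.H9.SL2Chars
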