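import Mathlib

set_option autoImplicit false

/-! Class number of a "dicyclic-like" group: an abelian subgroup `A` of index two all of whose
outside elements invert it, and only two elements of square one. -/

namespace Cfsg.Agent.H9.Dicyclic

variable {N : Type*} [Group N] [Finite N]

/-- If `A ≤ N` is abelian of index two, every element outside `A` inverts `A`, and the only
solutions of `g² = 1` are `1` and an element `z ≠ 1` of `A`, then `2 k(N) = |A| + 6`. -/
theorem two_mul_card_conjClasses (A : Subgroup N) (z : N) (hz1 : z ≠ 1) (hzA : z ∈ A)
    (hzz : z * z = 1) (hsq : ∀ g : N, g * g = 1 → g = 1 ∨ g = z)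
    (hA : ∀ a ∈ A, ∀ b ∈ A, a * b = b * a) (hidx : A.index = 2)
    (hinv : ∀ g : N, g ∉ A → ∀ a ∈ A, g * a * g⁻¹ = a⁻¹) :
    2 * Nat.card (ConjClasses N) = Nat.card A + 6 := by
  classical
  let _ : Fintype N := Fintype.ofFinite N
  set m := Nat.card A with hm
  have hcardN : Nat.card N = 2 * m := by
    rw [← A.card_mul_index, hidx, mul_comm]
  have hzinv : z⁻¹ = z := inv_eq_of_mul_eq_one_left hzz
  -- z is central
  have hzc : ∀ g : N, Commute z g := by
    intro g
    by_cases hg : g ∈ A
    · exact hA z hzA g hg
    · have := hinv g hg z hzA
      rw [hzinv] at this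
      change z * g = g * z
      calc z * g = (g * z * g⁻¹) * g := by rw [this]
        _ = g * z := by group
  have hm2 : 2 ≤ m := by
    have h1 : ({1, z} : Finset N).card = 2 := Finset.card_pair (Ne.symm hz1)
    have h2 : ({1, z} : Finset N) ⊆ Finset.univ.filter (fun g => g ∈ A) := by
      intro g hg
      simp only [Finset.mem_insert, Finset.mem_singleton] at hg
      rcases hg with rfl | rfl
      · simp [A.one_mem]
      · simp [hzA]
    have h3 := Finset.card_le_card h2
    rw [h1] at h3
    rw [hm, Nat.card_eq_fintype_card, Fintype.card_subtype]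
    exact h3
  -- centralizer sizes
  have hc1 : ∀ g : N, (g = 1 ∨ g = z) → Nat.card {h : N // Commute g h} = 2 * m := by
    intro g hg
    rw [← hcardN]
    apply Nat.card_congr
    refine Equiv.subtypeUnivEquiv (fun h => ?_)
    rcases hg with rfl | rfl
    · exact Commute.one_left h
    · exact hzc h
  have hc2 : ∀ g : N, g ∈ A → ¬ (g = 1 ∨ g = z) → Nat.card {h : N // Commute g h} = m := by
    intro g hgA hg
    apply Nat.card_congr
    refine Equiv.subtypeEquivRight (fun h => ?_)
    constructor
    · intro hc
      by_contra hh
      have h1 := hinv h hh g hgA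
      have h2 : h * g * h⁻¹ = g := by
        have : g * h = h * g := hc
        rw [← this]
        group
      rw [h2] at h1
      apply hg
      apply hsq
      calc g * g = g * g⁻¹ := by rw [← h1]
        _ = 1 := mul_inv_cancel g
    · intro hh
      exact hA g hgA h hh
  have hc3 : ∀ g : N, g ∉ A → Nat.card {h : N // Commute g h} = 4 := by
    intro g hg
    rw [Nat.card_eq_fintype_card, Fintype.card_subtype]
    have hmemA : ∀ h : N, h ∈ A → Commute g h → h = 1 ∨ h = z := by
      intro h hh hc
      apply hsq
      have h1 := hinv g hg h hh
      have h2 : g * h * g⁻¹ = h := by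
        have : g * h = h * g := hc
        rw [this]
        group
      rw [h2] at h1
      calc h * h = h * h⁻¹ := by rw [← h1]
        _ = 1 := mul_inv_cancel h
    have hset : (Finset.univ.filter fun h : N => Commute g h) = {1, z, g, g * z} := by
      ext h
      simp only [Finset.mem_filter, Finset.mem_univ, true_and, Finset.mem_insert,
        Finset.mem_singleton]
      constructor
      · intro hc
        by_cases hh : h ∈ A
        · rcases hmemA h hh hc with h1 | h1
          · exact Or.inl h1
          · exact Or.inr (Or.inl h1)
        · -- g⁻¹ h ∈ A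
          have hgh : g⁻¹ * h ∈ A := by
            have h2 := Subgroup.index_eq_two_iff.1 hidx
            obtain ⟨a, ha⟩ := h2
            -- use the coset characterization: both outside A
            have hg' := ha g
            have hh' := ha h
            have hga : g * a ∈ A := by
              rcases hg' with ⟨h1, -⟩ | ⟨h1, -⟩
              · exact h1
              · exact absurd h1 hg
            have hha : h * a ∈ A := by
              rcases hh' with ⟨h1, -⟩ | ⟨h1, -⟩
              · exact h1
              · exact absurd h1 hh
            have hn : A.Normal := Subgroup.normal_of_index_eq_two hidx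
            have h3 : h * g⁻¹ ∈ A := by
              have : h * g⁻¹ = (h * a) * (g * a)⁻¹ := by group
              rw [this]
              exact A.mul_mem hha (A.inv_mem hga)
            have h4 := hn.conj_mem _ h3 g⁻¹
            have : g⁻¹ * h = g⁻¹ * (h * g⁻¹) * g⁻¹⁻¹ := by group
            rw [this]
            exact h4
          have hc' : Commute g (g⁻¹ * h) := by
            change g * (g⁻¹ * h) = g⁻¹ * h * g
            have : g * h = h * g := hc
            calc g * (g⁻¹ * h) = g⁻¹ * (g * h) := by group
              _ = g⁻¹ * (h * g) := by rw [this]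
              _ = g⁻¹ * h * g := by group
          rcases hmemA _ hgh hc' with h1 | h1
          · right; right; left
            calc h = g * (g⁻¹ * h) := by group
              _ = g := by rw [h1, mul_one]
          · right; right; right
            calc h = g * (g⁻¹ * h) := by group
              _ = g * z := by rw [h1]
      · rintro (h1 | h1 | h1 | h1)
        · rw [h1]; exact Commute.one_right g
        · rw [h1]; exact (hzc g).symm
        · rw [h1]
        · rw [h1]; exact (Commute.refl g).mul_right (hzc g).symm
    rw [hset]
    have n1 : g ≠ g * z := by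
      intro h
      apply hz1
      have := mul_left_cancel (a := g) (b := 1) (c := z) (by rw [mul_one]; exact h)
      exact this.symm
    have n2 : z ≠ g := fun h => hg (h ▸ hzA)
    have n3 : z ≠ g * z := by
      intro h
      apply hg
      have : g = 1 := by
        have := mul_right_cancel (a := 1) (b := z) (c := g) (by rw [one_mul]; exact h)
        exact this.symm
      rw [this]
      exact A.one_mem
    have n4 : (1 : N) ≠ z := Ne.symm hz1
    have n5 : (1 : N) ≠ g := fun h => hg (h ▸ A.one_mem)
    have n6 : (1 : N) ≠ g * z := by
      intro h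
      apply hg
      have : g = z := by
        calc g = g * z * z := by rw [mul_assoc, hzz, mul_one]
          _ = z := by rw [← h, one_mul]
      rw [this]
      exact hzA
    rw [Finset.card_insert_of_notMem, Finset.card_insert_of_notMem, Finset.card_pair n1]
    · simp only [Finset.mem_insert, Finset.mem_singleton, not_or]
      exact ⟨n2, n3⟩
    · simp only [Finset.mem_insert, Finset.mem_singleton, not_or]
      exact ⟨n4, n5, n6⟩
  -- the sum
  have hsum : Nat.card {p : N × N // Commute p.1 p.2}
      = ∑ g : N, Nat.card {h : N // Commute g h} := by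
    rw [Nat.card_congr (Equiv.subtypeProdEquivSigmaSubtype (fun a b : N => Commute a b)),
      Nat.card_sigma]
  have hval : ∀ g : N, Nat.card {h : N // Commute g h}
      = if g = 1 ∨ g = z then 2 * m else if g ∈ A then m else 4 := by
    intro g
    split_ifs with h1 h2
    · exact hc1 g h1
    · exact hc2 g h2 h1
    · exact hc3 g h2
  have hcnt1 : (Finset.univ.filter fun g : N => g = 1 ∨ g = z).card = 2 := by
    have : (Finset.univ.filter fun g : N => g = 1 ∨ g = z) = {1, z} := by
      ext g; simp
    rw [this, Finset.card_pair (Ne.symm hz1)]
  have hcntA : (Finset.univ.filter fun g : N => g ∈ A).card = m := by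
    rw [hm, Nat.card_eq_fintype_card, Fintype.card_subtype]
  have hcnt2 : (Finset.univ.filter fun g : N => ¬ (g = 1 ∨ g = z) ∧ g ∈ A).card = m - 2 := by
    have hdisj : (Finset.univ.filter fun g : N => g ∈ A)
        = (Finset.univ.filter fun g : N => g = 1 ∨ g = z) ∪
          (Finset.univ.filter fun g : N => ¬ (g = 1 ∨ g = z) ∧ g ∈ A) := by
      ext g
      simp only [Finset.mem_filter, Finset.mem_univ, true_and, Finset.mem_union]
      constructor
      · intro h
        by_cases h1 : g = 1 ∨ g = z
        · exact Or.inl h1
        · exact Or.inr ⟨h1, h⟩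
      · rintro (h | h)
        · rcases h with rfl | rfl
          · exact A.one_mem
          · exact hzA
        · exact h.2
    have hd : Disjoint (Finset.univ.filter fun g : N => g = 1 ∨ g = z)
        (Finset.univ.filter fun g : N => ¬ (g = 1 ∨ g = z) ∧ g ∈ A) := by
      rw [Finset.disjoint_filter]
      intro g _ h1 h2
      exact h2.1 h1
    have := congrArg Finset.card hdisj
    rw [Finset.card_union_of_disjoint hd, hcntA, hcnt1] at this
    omega
  have hcnt3 : (Finset.univ.filter fun g : N => ¬ (g = 1 ∨ g = z) ∧ ¬ g ∈ A).card = m := by
    have h1 : (Finset.univ.filter fun g : N => ¬ (g = 1 ∨ g = z) ∧ ¬ g ∈ A)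
        = (Finset.univ.filter fun g : N => ¬ g ∈ A) := by
      ext g
      simp only [Finset.mem_filter, Finset.mem_univ, true_and]
      constructor
      · exact fun h => h.2
      · intro h
        refine ⟨?_, h⟩
        rintro (rfl | rfl)
        · exact h A.one_mem
        · exact h hzA
    rw [h1]
    have h2 := Finset.card_filter_add_card_filter_not (s := (Finset.univ : Finset N))
      (fun g : N => g ∈ A)
    rw [hcntA, Finset.card_univ, ← Nat.card_eq_fintype_card, hcardN] at h2
    omega
  have htotal : ∑ g : N, Nat.card {h : N // Commute g h} = 2 * (2 * m) + (m - 2) * m + m * 4 := by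
    simp_rw [hval]
    rw [Finset.sum_ite, Finset.sum_ite]
    simp only [Finset.sum_const, smul_eq_mul, Finset.filter_filter]
    rw [hcnt1]
    have e2 : (Finset.univ.filter fun g : N => ¬ (g = 1 ∨ g = z) ∧ g ∈ A).card = m - 2 := hcnt2
    have e3 : (Finset.univ.filter fun g : N => ¬ (g = 1 ∨ g = z) ∧ ¬ g ∈ A).card = m := hcnt3
    rw [e2, e3]
    ring
  have hmain := card_comm_eq_card_conjClasses_mul_card N
  rw [hsum, htotal, hcardN] at hmain
  -- arithmetic
  set k := Nat.card (ConjClasses N) with hk
  obtain ⟨m', hm'⟩ : ∃ m', m = m' + 2 := ⟨m - 2, by omega⟩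
  rw [hm'] at hmain ⊢
  simp only [Nat.add_sub_cancel] at hmain
  have h1 : (m' + 2) * (m' + 2 + 6) = (m' + 2) * (2 * k) := by
    have : 2 * (2 * (m' + 2)) + m' * (m' + 2) + (m' + 2) * 4 = (m' + 2) * (m' + 2 + 6) := by ring
    rw [← this, hmain]
    ring
  have h2 := Nat.eq_of_mul_eq_mul_left (by omega : 0 < m' + 2) h1
  omega

end Cfsg.Agent.H9.Dicyclic
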