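import Mathlib
import Cfsg.Agent.S2428
import Cfsg.Agent.S2508
import Cfsg.Agent.S0242

set_option autoImplicit false

/-! The non-split torus `{x + yJ : x² - δ y² = 1}` of `SL₂(F)`, `J = [[0, δ], [1, 0]]`, and its
normalizer. -/

namespace Cfsg.Agent.H9.NonsplitTorus

open Matrix
open Cfsg.Agent.S2428 Cfsg.Agent.Lib.Helper8.SL2Odd

variable {F : Type*} [Field F]

local notation "SL2" => Matrix.SpecialLinearGroup (Fin 2) F

/-- the torus attached to `δ` -/
def Tn (δ : F) : Subgroup SL2 where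
  carrier := {g | g.1 0 0 = g.1 1 1 ∧ g.1 0 1 = δ * g.1 1 0}
  one_mem' := by simp
  mul_mem' := by
    rintro g h ⟨g1, g2⟩ ⟨h1, h2⟩
    refine ⟨?_, ?_⟩
    · rw [mul_entries, mul_entries, g1, g2, h1, h2]; ring
    · rw [mul_entries, mul_entries, g1, g2, h1, h2]; ring
  inv_mem' := by
    rintro g ⟨g1, g2⟩
    obtain ⟨e00, e01, e10, e11⟩ := inv_entries g
    exact ⟨by rw [e00, e11, g1], by rw [e01, e10, g2]; ring⟩

theorem mem_Tn (δ : F) (g : SL2) :
    g ∈ Tn δ ↔ g.1 0 0 = g.1 1 1 ∧ g.1 0 1 = δ * g.1 1 0 := Iff.rfl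

/-- the normalizer of the torus -/
def Mn (δ : F) : Subgroup SL2 where
  carrier := {g | (g.1 0 0 = g.1 1 1 ∧ g.1 0 1 = δ * g.1 1 0) ∨
    (g.1 0 0 = -g.1 1 1 ∧ g.1 0 1 = -(δ * g.1 1 0))}
  one_mem' := Or.inl (by simp)
  mul_mem' := by
    rintro g h (⟨g1, g2⟩ | ⟨g1, g2⟩) (⟨h1, h2⟩ | ⟨h1, h2⟩)
    · left
      exact ⟨by rw [mul_entries, mul_entries, g1, g2, h1, h2]; ring,
        by rw [mul_entries, mul_entries, g1, g2, h1, h2]; ring⟩
    · right
      exact ⟨by rw [mul_entries, mul_entries, g1, g2, h1, h2]; ring,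
        by rw [mul_entries, mul_entries, g1, g2, h1, h2]; ring⟩
    · right
      exact ⟨by rw [mul_entries, mul_entries, g1, g2, h1, h2]; ring,
        by rw [mul_entries, mul_entries, g1, g2, h1, h2]; ring⟩
    · left
      exact ⟨by rw [mul_entries, mul_entries, g1, g2, h1, h2]; ring,
        by rw [mul_entries, mul_entries, g1, g2, h1, h2]; ring⟩
  inv_mem' := by
    rintro g (⟨g1, g2⟩ | ⟨g1, g2⟩)
    · left
      obtain ⟨e00, e01, e10, e11⟩ := inv_entries g
      exact ⟨by rw [e00, e11, g1], by rw [e01, e10, g2]; ring⟩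
    · right
      obtain ⟨e00, e01, e10, e11⟩ := inv_entries g
      exact ⟨by rw [e00, e11, g1]; ring, by rw [e01, e10, g2]; ring⟩

theorem mem_Mn (δ : F) (g : SL2) :
    g ∈ Mn δ ↔ (g.1 0 0 = g.1 1 1 ∧ g.1 0 1 = δ * g.1 1 0) ∨
      (g.1 0 0 = -g.1 1 1 ∧ g.1 0 1 = -(δ * g.1 1 0)) := Iff.rfl

theorem Tn_le_Mn (δ : F) : Tn δ ≤ Mn δ := fun _ hg => Or.inl hg

theorem Tn_comm (δ : F) (g h : SL2) (hg : g ∈ Tn δ) (hh : h ∈ Tn δ) : g * h = h * g := by
  obtain ⟨g1, g2⟩ := hg
  obtain ⟨h1, h2⟩ := hh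
  apply ext_entries <;> simp only [mul_entries, g1, g2, h1, h2] <;> ring

/-- elements of the second coset have square `-1` -/
theorem sq_of_anti (δ : F) (g : SL2) (g1 : g.1 0 0 = -g.1 1 1) (g2 : g.1 0 1 = -(δ * g.1 1 0)) :
    (g * g).1 = -1 := by
  have hdet := entries g
  rw [g1, g2] at hdet
  ext i j
  fin_cases i <;> fin_cases j
  · simp only [Fin.zero_eta, Fin.isValue, mul_entries, g1, g2, Matrix.neg_apply,
      Matrix.one_apply_eq]
    linear_combination -hdet
  · simp only [Fin.zero_eta, Fin.isValue, Fin.mk_one, mul_entries, g1, g2, Matrix.neg_apply]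
    simp
    ring
  · simp only [Fin.zero_eta, Fin.isValue, Fin.mk_one, mul_entries, g1, Matrix.neg_apply]
    simp
    ring
  · simp only [Fin.mk_one, Fin.isValue, mul_entries, g1, g2, Matrix.neg_apply,
      Matrix.one_apply_eq]
    linear_combination -hdet

/-- elements of the second coset invert the torus -/
theorem anti_inverts (δ : F) (g a : SL2) (g1 : g.1 0 0 = -g.1 1 1)
    (g2 : g.1 0 1 = -(δ * g.1 1 0)) (ha : a ∈ Tn δ) : g * a * g⁻¹ = a⁻¹ := by
  obtain ⟨a1, a2⟩ := ha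
  rw [mul_inv_eq_iff_eq_mul]
  obtain ⟨e00, e01, e10, e11⟩ := inv_entries a
  apply ext_entries <;> simp only [mul_entries, g1, g2, a1, a2, e00, e01, e10, e11] <;> ring

/-- the centralizer of a non-scalar element of the torus -/
theorem centralizer_eq (δ : F) (g : SL2) (hg : g ∈ Tn δ) (hy : g.1 1 0 ≠ 0) :
    Subgroup.centralizer ({g} : Set SL2) = Tn δ := by
  obtain ⟨g1, g2⟩ := hg
  ext h
  rw [Subgroup.mem_centralizer_iff]
  constructor
  · intro hc
    have h1 := hc g rfl
    have e00 := congrArg (fun A : SL2 => A.1 0 0) h1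
    have e10 := congrArg (fun A : SL2 => A.1 1 0) h1
    simp only [mul_entries, g1, g2] at e00 e10
    constructor
    · have : g.1 1 0 * (h.1 0 0 - h.1 1 1) = 0 := by linear_combination e10
      exact sub_eq_zero.1 ((mul_eq_zero.1 this).resolve_left hy)
    · have : g.1 1 0 * (h.1 0 1 - δ * h.1 1 0) = 0 := by linear_combination -e00
      exact sub_eq_zero.1 ((mul_eq_zero.1 this).resolve_left hy)
  · rintro hh k rfl
    exact Tn_comm δ k h ⟨g1, g2⟩ hh

/-- the centralizer of the torus -/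
theorem centralizer_set_eq (δ : F) (g : SL2) (hg : g ∈ Tn δ) (hy : g.1 1 0 ≠ 0) :
    Subgroup.centralizer ((Tn δ : Subgroup SL2) : Set SL2) = Tn δ := by
  apply le_antisymm
  · exact (Subgroup.centralizer_le (Set.singleton_subset_iff.2 hg)).trans
      (centralizer_eq δ g hg hy).le
  · intro h hh
    rw [Subgroup.mem_centralizer_iff]
    intro k hk
    exact Tn_comm δ k h hk hh

section Nonsquare

variable {δ : F} (hδ : ¬ IsSquare δ)
include hδ

theorem delta_ne_zero : δ ≠ 0 := by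
  rintro rfl
  exact hδ ⟨0, by simp⟩

theorem delta_ne_one : δ ≠ 1 := by
  rintro rfl
  exact hδ ⟨1, by simp⟩

/-- elements of the torus other than `±1` are not scalar -/
theorem y_ne_zero (g : SL2) (hg : g ∈ Tn δ) (h1 : g.1 ≠ 1) (h2 : g.1 ≠ -1) : g.1 1 0 ≠ 0 := by
  obtain ⟨g1, g2⟩ := hg
  intro hy
  have hdet := entries g
  simp only [g2, hy, mul_zero, zero_mul, sub_zero, g1] at hdet
  have : (g.1 1 1 - 1) * (g.1 1 1 + 1) = 0 := by linear_combination hdet
  rcases mul_eq_zero.1 this with h | h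
  · apply h1
    have hx : g.1 1 1 = 1 := by linear_combination h
    ext i j
    fin_cases i <;> fin_cases j <;> simp [g1, g2, hy, hx]
  · apply h2
    have hx : g.1 1 1 = -1 := by linear_combination h
    ext i j
    fin_cases i <;> fin_cases j <;> simp [g1, g2, hy, hx]

theorem not_scalar (g : SL2) (hy : g.1 1 0 ≠ 0) :
    ¬ ∃ a : F, g.1 = a • (1 : Matrix (Fin 2) (Fin 2) F) := by
  rintro ⟨a, ha⟩
  apply hy
  rw [ha]
  simp

theorem trace_eq (g : SL2) (hg : g ∈ Tn δ) : g.1.trace = 2 * g.1 1 1 := by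
  rw [Matrix.trace_fin_two, hg.1]
  ring

theorem norm_eq (g : SL2) (hg : g ∈ Tn δ) : g.1 1 1 ^ 2 - δ * g.1 1 0 ^ 2 = 1 := by
  have hdet := entries g
  rw [hg.1, hg.2] at hdet
  linear_combination hdet

end Nonsquare

section Finite

variable [Fintype F] {δ : F} (hδ : ¬ IsSquare δ)
include hδ

theorem trace_sq_ne (hodd : Odd (Fintype.card F)) (g : SL2) (hg : g ∈ Tn δ) (hy : g.1 1 0 ≠ 0) :
    g.1.trace ^ 2 ≠ 4 := by
  have h2 : (2 : F) ≠ 0 := two_ne_zero' hodd
  rw [trace_eq hδ g hg]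
  intro h
  have hn := norm_eq hδ g hg
  have : (4 : F) * (δ * g.1 1 0 ^ 2) = 0 := by linear_combination h - 4 * hn
  have h4 : (4 : F) ≠ 0 := by
    have : (4 : F) = 2 * 2 := by norm_num
    rw [this]
    exact mul_ne_zero h2 h2
  rcases mul_eq_zero.1 this with h | h
  · exact h4 h
  · rcases mul_eq_zero.1 h with h | h
    · exact delta_ne_zero hδ h
    · exact hy ((pow_eq_zero_iff (two_ne_zero)).1 h)

theorem r_eq_zero [DecidableEq F] (g : SL2) (hg : g ∈ Tn δ) (hy : g.1 1 0 ≠ 0) :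
    Cfsg.Agent.S2508.r g.1.trace = 0 := by
  unfold Cfsg.Agent.S2508.r
  rw [Finset.card_eq_zero, Finset.filter_eq_empty_iff]
  intro a _ ha
  apply hδ
  rw [trace_eq hδ g hg] at ha
  have hn := norm_eq hδ g hg
  refine ⟨(a - g.1 1 1) / g.1 1 0, ?_⟩
  rw [div_mul_div_comm, eq_div_iff (mul_ne_zero hy hy)]
  linear_combination ha - hn

theorem card_SL2 : Nat.card SL2 * (Fintype.card F - 1)
    = (Fintype.card F ^ 2 - 1) * (Fintype.card F ^ 2 - Fintype.card F) := by
  have := Cfsg.Agent.S0242.result (F := F) rfl 2 (by norm_num)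
  rw [Fin.prod_univ_two] at this
  simp only [Fin.val_zero, pow_zero, Fin.val_one, pow_one] at this
  rw [mul_comm, this]

theorem card_Tn (hodd : Odd (Fintype.card F)) (g : SL2) (hg : g ∈ Tn δ) (hy : g.1 1 0 ≠ 0) :
    Nat.card (Tn δ : Subgroup SL2) = Fintype.card F + 1 := by
  classical
  have hodd' : Fintype.card F % 2 = 1 := Nat.odd_iff.1 hodd
  have hidx := Cfsg.Agent.S2508.index_reg hodd' g (not_scalar hδ g hy)
    (trace_sq_ne hδ hodd g hg hy)
  rw [r_eq_zero hδ g hg hy, mul_zero, add_zero, centralizer_eq δ g hg hy] at hidx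
  have h1 := (Tn δ : Subgroup SL2).index_mul_card
  rw [hidx] at h1
  have h2 := card_SL2 hδ
  rw [← h1] at h2
  have hq : 3 ≤ Fintype.card F := by
    have h1 : 1 < Fintype.card F := Fintype.one_lt_card
    rcases hodd with ⟨k, hk⟩
    omega
  obtain ⟨n, hn⟩ : ∃ n, Fintype.card F = n + 1 := ⟨Fintype.card F - 1, by omega⟩
  rw [hn] at h2 ⊢
  simp only [Nat.add_sub_cancel] at h2
  have e1 : (n + 1) ^ 2 - 1 = n * (n + 2) := by
    have : (n + 1) ^ 2 = n * (n + 2) + 1 := by ring
    rw [this, Nat.add_sub_cancel]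
  have e2 : (n + 1) ^ 2 - (n + 1) = (n + 1) * n := by
    have : (n + 1) ^ 2 = (n + 1) * n + (n + 1) := by ring
    rw [this, Nat.add_sub_cancel]
  rw [e1, e2] at h2
  have h3 : (n * n * (n + 1)) * Nat.card (Tn δ : Subgroup SL2) = (n * n * (n + 1)) * (n + 2) := by
    calc n * n * (n + 1) * Nat.card (Tn δ : Subgroup SL2)
        = (n + 1) * n * Nat.card (Tn δ : Subgroup SL2) * n := by ring
      _ = n * (n + 2) * ((n + 1) * n) := h2
      _ = n * n * (n + 1) * (n + 2) := by ring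
  have hpos : 0 < n * n * (n + 1) := by
    have : 0 < n := by omega
    positivity
  have := Nat.eq_of_mul_eq_mul_left hpos h3
  omega

/-- the torus is cyclic -/
theorem isCyclic_Tn : IsCyclic (Tn δ : Subgroup SL2) := by
  let K := AlgebraicClosure F
  obtain ⟨ε, hε⟩ := IsAlgClosed.exists_pow_nat_eq (algebraMap F K δ) (n := 2) (by norm_num)
  let f : (Tn δ : Subgroup SL2) →* K :=
    { toFun := fun g => algebraMap F K (g.1.1 1 1) + algebraMap F K (g.1.1 1 0) * ε
      map_one' := by simp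
      map_mul' := by
        rintro ⟨g, g1, g2⟩ ⟨h, h1, h2⟩
        simp only [Subgroup.coe_mul, mul_entries, map_add, map_mul]
        rw [h1, h2, map_mul]
        linear_combination (-(algebraMap F K (g.1 1 0) * algebraMap F K (h.1 1 0))) * hε }
  have hinj : Function.Injective f := by
    rintro ⟨g, g1, g2⟩ ⟨h, h1, h2⟩ hgh
    have hgh' : algebraMap F K (g.1 1 1) + algebraMap F K (g.1 1 0) * ε
        = algebraMap F K (h.1 1 1) + algebraMap F K (h.1 1 0) * ε := hgh
    have hy : g.1 1 0 = h.1 1 0 := by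
      by_contra hne
      apply hδ
      have hne' : g.1 1 0 - h.1 1 0 ≠ 0 := sub_ne_zero.2 hne
      refine ⟨(h.1 1 1 - g.1 1 1) / (g.1 1 0 - h.1 1 0), ?_⟩
      apply (algebraMap F K).injective
      have hε' : ε = algebraMap F K ((h.1 1 1 - g.1 1 1) / (g.1 1 0 - h.1 1 0)) := by
        rw [map_div₀, map_sub, map_sub, eq_div_iff (by
          rw [← map_sub]
          exact (map_ne_zero _).2 hne')]
        linear_combination hgh'
      rw [map_mul, ← hε', ← hε, pow_two]
    have hx : g.1 1 1 = h.1 1 1 := by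
      apply (algebraMap F K).injective
      rw [hy] at hgh'
      exact add_right_cancel hgh'
    apply Subtype.ext
    apply ext_entries
    · rw [g1, h1, hx]
    · rw [g2, h2, hy]
    · exact hy
    · exact hx
  exact isCyclic_of_injective_ringHom f hinj

/-- a non-scalar element of the torus -/
theorem exists_nonscalar (hodd : Odd (Fintype.card F)) : ∃ g : SL2, g ∈ Tn δ ∧ g.1 1 0 ≠ 0 := by
  have h2 : (2 : F) ≠ 0 := two_ne_zero' hodd
  have h1 : (1 - δ) ≠ 0 := sub_ne_zero.2 (Ne.symm (delta_ne_one hδ))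
  refine ⟨⟨!![(1 + δ) / (1 - δ), δ * (2 / (1 - δ)); 2 / (1 - δ), (1 + δ) / (1 - δ)], ?_⟩, ?_, ?_⟩
  · rw [Matrix.det_fin_two_of]
    field_simp
    ring
  · exact ⟨by simp, by simp⟩
  · simp only [Matrix.of_apply, Matrix.cons_val', Matrix.cons_val_one, Matrix.cons_val_zero,
      Matrix.empty_val', Matrix.cons_val_fin_one]
    exact div_ne_zero h2 h1

/-- elements without eigenvectors are conjugate into the torus -/
theorem exists_conj_mem (hodd : Odd (Fintype.card F)) (g : SL2)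
    (hno : ∀ (c : F) (v : Fin 2 → F), v ≠ 0 → g.1.mulVec v ≠ c • v) :
    ∃ h : SL2, h * g * h⁻¹ ∈ Tn δ := by
  classical
  have h2 : (2 : F) ≠ 0 := two_ne_zero' hodd
  have hodd' : Fintype.card F % 2 = 1 := Nat.odd_iff.1 hodd
  set t := g.1.trace with ht
  have hA : ¬ IsSquare (t ^ 2 - 4) := by
    rintro ⟨s, hs⟩
    set l := (t + s) / 2 with hl
    have hl2 : l ^ 2 - t * l + 1 = 0 := by
      rw [hl]
      field_simp
      linear_combination -hs
    have hdet : (g.1 - l • (1 : Matrix (Fin 2) (Fin 2) F)).det = 0 := by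
      have hd := entries g
      rw [Matrix.det_fin_two]
      simp only [Matrix.sub_apply, Matrix.smul_apply, Matrix.one_apply_eq, smul_eq_mul, mul_one,
        Matrix.one_apply_ne (show (0 : Fin 2) ≠ 1 by decide),
        Matrix.one_apply_ne (show (1 : Fin 2) ≠ 0 by decide), mul_zero, sub_zero]
      have htr : t = g.1 0 0 + g.1 1 1 := by rw [ht, Matrix.trace_fin_two]
      rw [htr] at hl2
      linear_combination hl2 + hd
    obtain ⟨v, hv, hv0⟩ := Matrix.exists_mulVec_eq_zero_iff.2 hdet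
    apply hno l v hv
    rw [Matrix.sub_mulVec, Matrix.smul_mulVec, Matrix.one_mulVec, sub_eq_zero] at hv0
    exact hv0
  have ht4 : t ^ 2 - 4 ≠ 0 := by
    intro h
    apply hA
    rw [h]
    exact ⟨0, by simp⟩
  have hgns : ¬ ∃ a : F, g.1 = a • (1 : Matrix (Fin 2) (Fin 2) F) := by
    rintro ⟨a, ha⟩
    apply ht4
    have hd := g.2
    rw [ha, Matrix.det_smul, Matrix.det_one, mul_one, Fintype.card_fin] at hd
    rw [ht, ha, Matrix.trace_smul, Matrix.trace_one, Fintype.card_fin, smul_eq_mul]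
    push_cast
    linear_combination 4 * hd
  have hδ0 := delta_ne_zero hδ
  have hsq : IsSquare ((t ^ 2 - 4) * δ) :=
    Cfsg.Agent.S2325.isSquare_mul_of_iff ht4 hδ0 ⟨fun h => absurd h hA, fun h => absurd h hδ⟩
  obtain ⟨u, hu⟩ := hsq
  have hu0 : u ≠ 0 := by
    rintro rfl
    rw [mul_zero] at hu
    exact (mul_ne_zero ht4 hδ0) hu
  set y := u / (2 * δ) with hy
  set x := t / 2 with hx
  have hy0 : y ≠ 0 := div_ne_zero hu0 (mul_ne_zero h2 hδ0)
  have hnorm : x * x - δ * y * y = 1 := by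
    rw [hx, hy]
    field_simp
    linear_combination hu
  let g' : SL2 := ⟨!![x, δ * y; y, x], by rw [Matrix.det_fin_two_of]; linear_combination hnorm⟩
  have hg'T : g' ∈ Tn δ := ⟨by simp [g'], by simp [g']⟩
  have hg'y : g'.1 1 0 ≠ 0 := by simpa [g'] using hy0
  have htr : g.1.trace = g'.1.trace := by
    rw [trace_eq hδ g' hg'T]
    simp only [g', Matrix.of_apply, Matrix.cons_val', Matrix.cons_val_one,
      Matrix.empty_val', Matrix.cons_val_fin_one]
    rw [← ht, hx]
    field_simp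
  have hc := Cfsg.Agent.H9.SL2OddCls.isConj_of_trace_eq hodd' g g' hgns (not_scalar hδ g' hg'y) htr
    (trace_sq_ne hδ hodd g' hg'T hg'y)
  obtain ⟨c, hc⟩ := isConj_iff.1 hc
  exact ⟨c, by rw [hc]; exact hg'T⟩

/-- the torus does not meet the second coset -/
theorem not_anti (hodd : Odd (Fintype.card F)) (g : SL2) (hg : g ∈ Tn δ)
    (g1 : g.1 0 0 = -g.1 1 1) (g2 : g.1 0 1 = -(δ * g.1 1 0)) : False := by
  have h2 : (2 : F) ≠ 0 := two_ne_zero' hodd
  obtain ⟨t1, t2⟩ := hg
  have hδ0 := delta_ne_zero hδ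
  have e1 : g.1 1 1 = 0 := by
    have : (2 : F) * g.1 1 1 = 0 := by linear_combination g1 - t1
    exact (mul_eq_zero.1 this).resolve_left h2
  have e2 : g.1 1 0 = 0 := by
    have : (2 : F) * (δ * g.1 1 0) = 0 := by linear_combination g2 - t2
    exact (mul_eq_zero.1 ((mul_eq_zero.1 this).resolve_left h2)).resolve_left hδ0
  have hdet := entries g
  rw [e1, e2] at hdet
  simp at hdet

/-- the normalizer of the torus -/
theorem normalizer_eq (hodd : Odd (Fintype.card F)) :
    Subgroup.normalizer ((Tn δ : Subgroup SL2) : Set SL2) = Mn δ := by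
  have h2 : (2 : F) ≠ 0 := two_ne_zero' hodd
  have hδ0 := delta_ne_zero hδ
  obtain ⟨g₀, hg₀, hy₀⟩ := exists_nonscalar hδ hodd
  ext g
  constructor
  · intro hg
    have he : g * g₀ * g⁻¹ ∈ (Tn δ : Subgroup SL2) :=
      (Subgroup.mem_set_normalizer_iff.1 hg g₀).1 hg₀
    set e := g * g₀ * g⁻¹ with hedef
    have heg : e * g = g * g₀ := by rw [hedef]; group
    have htr : e.1.trace = g₀.1.trace :=
      (Cfsg.Agent.S2325.trace_eq_of_isConj (isConj_iff.2 ⟨g, rfl⟩)).symm
    rw [trace_eq hδ e he, trace_eq hδ g₀ hg₀] at htr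
    have hx : e.1 1 1 = g₀.1 1 1 := mul_left_cancel₀ h2 htr
    have hn1 := norm_eq hδ e he
    have hn2 := norm_eq hδ g₀ hg₀
    rw [hx] at hn1
    have hyy : (e.1 1 0 - g₀.1 1 0) * (e.1 1 0 + g₀.1 1 0) = 0 := by
      have : δ * ((e.1 1 0 - g₀.1 1 0) * (e.1 1 0 + g₀.1 1 0)) = 0 := by
        linear_combination hn2 - hn1
      exact (mul_eq_zero.1 this).resolve_left hδ0
    obtain ⟨e1, e2⟩ := he
    obtain ⟨k1, k2⟩ := hg₀
    rcases mul_eq_zero.1 hyy with hy | hy
    · -- e = g₀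
      have hy' : e.1 1 0 = g₀.1 1 0 := sub_eq_zero.1 hy
      have hee : e = g₀ := by
        apply ext_entries
        · rw [e1, k1, hx]
        · rw [e2, k2, hy']
        · exact hy'
        · exact hx
      rw [hee] at heg
      have : g ∈ Subgroup.centralizer ({g₀} : Set SL2) := by
        rw [Subgroup.mem_centralizer_iff]
        rintro k rfl
        exact heg
      rw [centralizer_eq δ g₀ ⟨k1, k2⟩ hy₀] at this
      exact Or.inl this
    · have hy' : e.1 1 0 = -g₀.1 1 0 := by linear_combination hy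
      right
      have c00 := congrArg (fun A : SL2 => A.1 0 0) heg
      have c10 := congrArg (fun A : SL2 => A.1 1 0) heg
      simp only [mul_entries, e1, e2, k1, k2, hx, hy'] at c00 c10
      constructor
      · have : g₀.1 1 0 * (g.1 0 0 + g.1 1 1) = 0 := by linear_combination -c10
        have := (mul_eq_zero.1 this).resolve_left hy₀
        linear_combination this
      · have : g₀.1 1 0 * (g.1 0 1 + δ * g.1 1 0) = 0 := by linear_combination -c00
        have := (mul_eq_zero.1 this).resolve_left hy₀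
        linear_combination this
  · intro hg
    apply Subgroup.mem_normalizer_fintype
    intro n hn
    rcases hg with hg | ⟨g1, g2⟩
    · exact Subgroup.mul_mem _ (Subgroup.mul_mem _ hg hn) (Subgroup.inv_mem _ hg)
    · rw [SetLike.mem_coe, anti_inverts δ g n g1 g2 hn]
      exact Subgroup.inv_mem _ hn

/-- an element of the second coset -/
theorem exists_anti (hodd : Odd (Fintype.card F)) :
    ∃ w : SL2, w.1 0 0 = -w.1 1 1 ∧ w.1 0 1 = -(δ * w.1 1 0) := by
  open Polynomial in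
  have hδ0 := delta_ne_zero hδ
  have hf : degree (X ^ 2 + C 1 : F[X]) = 2 := by
    rw [degree_add_C (by rw [degree_X_pow]; norm_num), degree_X_pow]
    rfl
  have hg : degree (C (-δ) * X ^ 2 : F[X]) = 2 := by
    rw [degree_C_mul_X_pow 2 (neg_ne_zero.2 hδ0)]; rfl
  obtain ⟨a, c, h⟩ := FiniteField.exists_root_sum_quadratic hf hg (Nat.odd_iff.mp hodd)
  simp only [eval_add, eval_pow, eval_X, eval_C, eval_mul] at h
  refine ⟨⟨!![a, -(δ * c); c, -a], ?_⟩, by simp, by simp⟩
  rw [Matrix.det_fin_two_of]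
  linear_combination -h

theorem index_Tn_in_Mn (hodd : Odd (Fintype.card F)) :
    ((Tn δ : Subgroup SL2).subgroupOf (Mn δ)).index = 2 := by
  rw [Subgroup.index_eq_two_iff]
  obtain ⟨w, w1, w2⟩ := exists_anti hδ hodd
  have hwM : w ∈ (Mn δ : Subgroup SL2) := Or.inr ⟨w1, w2⟩
  refine ⟨⟨w, hwM⟩, ?_⟩
  rintro ⟨b, hb⟩
  rcases hb with hb | ⟨b1, b2⟩
  · right
    refine ⟨?_, ?_⟩
    · rw [Subgroup.mem_subgroupOf]
      exact hb
    · rw [Subgroup.mem_subgroupOf]
      intro h
      change b * w ∈ Tn δ at h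
      obtain ⟨t1, t2⟩ := hb
      refine not_anti hδ hodd (b * w) h ?_ ?_
      · rw [mul_entries, mul_entries, t1, t2, w1, w2]; ring
      · rw [mul_entries, mul_entries, t1, t2, w1, w2]; ring
  · left
    refine ⟨?_, ?_⟩
    · rw [Subgroup.mem_subgroupOf]
      change b * w ∈ Tn δ
      refine ⟨?_, ?_⟩
      · rw [mul_entries, mul_entries, b1, b2, w1, w2]; ring
      · rw [mul_entries, mul_entries, b1, b2, w1, w2]; ring
    · rw [Subgroup.mem_subgroupOf]
      intro h
      exact not_anti hδ hodd b h b1 b2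

theorem card_Mn (hodd : Odd (Fintype.card F)) :
    Nat.card (Mn δ : Subgroup SL2) = 2 * (Fintype.card F + 1) := by
  obtain ⟨g₀, hg₀, hy₀⟩ := exists_nonscalar hδ hodd
  have h1 := ((Tn δ : Subgroup SL2).subgroupOf (Mn δ)).card_mul_index
  rw [index_Tn_in_Mn hδ hodd, Nat.card_congr (Subgroup.subgroupOfEquivOfLe (Tn_le_Mn δ)).toEquiv,
    card_Tn hδ hodd g₀ hg₀ hy₀] at h1
  rw [← h1, mul_comm]

theorem card_conjClasses_Mn (hodd : Odd (Fintype.card F)) :
    Nat.card (ConjClasses (Mn δ : Subgroup SL2)) = (Fintype.card F + 7) / 2 := by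
  have h2 : (2 : F) ≠ 0 := two_ne_zero' hodd
  obtain ⟨g₀, hg₀, hy₀⟩ := exists_nonscalar hδ hodd
  have hnegM : (-1 : SL2) ∈ (Mn δ : Subgroup SL2) := Or.inl (by simp)
  have key := Cfsg.Agent.H9.Dicyclic.two_mul_card_conjClasses (N := (Mn δ : Subgroup SL2))
    ((Tn δ : Subgroup SL2).subgroupOf (Mn δ)) ⟨-1, hnegM⟩ ?_ ?_ ?_ ?_ ?_
    (index_Tn_in_Mn hδ hodd) ?_
  · rw [Nat.card_congr (Subgroup.subgroupOfEquivOfLe (Tn_le_Mn δ)).toEquiv,
      card_Tn hδ hodd g₀ hg₀ hy₀] at key
    rcases hodd with ⟨k, hk⟩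
    omega
  · intro h
    have := congrArg (fun x : (Mn δ : Subgroup SL2) => x.1.1 0 0) h
    simp only [Matrix.SpecialLinearGroup.coe_neg, Matrix.SpecialLinearGroup.coe_one,
      Matrix.neg_apply, Matrix.one_apply_eq, Subgroup.coe_one] at this
    apply h2
    linear_combination -this
  · rw [Subgroup.mem_subgroupOf]
    exact ⟨by simp, by simp⟩
  · apply Subtype.ext
    change (-1 : SL2) * (-1) = 1
    simp
  · rintro ⟨g, hg⟩ hgg
    have hgg' : g ^ 2 = 1 := by
      have := congrArg Subtype.val hgg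
      rw [pow_two]
      exact this
    rcases eq_one_or_neg_one hodd g hgg' with h | h
    · left; exact Subtype.ext h
    · right; exact Subtype.ext h
  · rintro ⟨a, ha⟩ haD ⟨b, hb⟩ hbD
    rw [Subgroup.mem_subgroupOf] at haD hbD
    exact Subtype.ext (Tn_comm δ a b haD hbD)
  · rintro ⟨g, hg⟩ hgD ⟨a, ha⟩ haD
    rw [Subgroup.mem_subgroupOf] at hgD haD
    rcases hg with hg | ⟨g1, g2⟩
    · exact absurd hg hgD
    · exact Subtype.ext (anti_inverts δ g a g1 g2 haD)

end Finite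

end Cfsg.Agent.H9.NonsplitTorus
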