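import Mathlib
import Cfsg.Agent.S2437
import Cfsg.Agent.S2430
import Cfsg.Agent.H9.McKayTools
import Cfsg.Agent.Lib.helper3.NormalSylow2

set_option autoImplicit false

/-! The normalizer of a Sylow `p`-subgroup of `SL₂(q)` (`q` odd) and its characters. -/

namespace Cfsg.Agent.H9.SL2McKayP

open Cfsg Matrix
open Cfsg.Agent.S2428 Cfsg.Agent.Lib.Helper8.SL2Odd Cfsg.Agent.H9.McKayTools

variable {F : Type*} [Field F]

local notation "SL2" => Matrix.SpecialLinearGroup (Fin 2) F
local notation "BB" => (Cfsg.Agent.S2437.B : Subgroup (Matrix.SpecialLinearGroup (Fin 2) F))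

/-- the upper unitriangular subgroup -/
def Uni : Subgroup SL2 where
  carrier := {g | g.1 1 0 = 0 ∧ g.1 0 0 = 1 ∧ g.1 1 1 = 1}
  one_mem' := by simp
  mul_mem' := by
    rintro a b ⟨a1, a2, a3⟩ ⟨b1, b2, b3⟩
    refine ⟨?_, ?_, ?_⟩
    · rw [mul_entries, a1, b1]; ring
    · rw [mul_entries, a2, b2, b1]; ring
    · rw [mul_entries, a1, a3, b3]; ring
  inv_mem' := by
    rintro a ⟨a1, a2, a3⟩
    obtain ⟨i00, i01, i10, i11⟩ := inv_entries a
    exact ⟨by rw [i10, a1, neg_zero], by rw [i00, a3], by rw [i11, a2]⟩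

theorem mem_Uni (g : SL2) : g ∈ (Uni : Subgroup SL2) ↔ g.1 1 0 = 0 ∧ g.1 0 0 = 1 ∧ g.1 1 1 = 1 :=
  Iff.rfl

theorem Uni_comm (g h : SL2) (hg : g ∈ (Uni : Subgroup SL2)) (hh : h ∈ (Uni : Subgroup SL2)) :
    g * h = h * g := by
  obtain ⟨g1, g2, g3⟩ := hg
  obtain ⟨h1, h2, h3⟩ := hh
  apply ext_entries
  · rw [mul_entries, mul_entries, g1, h1]; ring
  · rw [mul_entries, mul_entries, g2, g3, h2, h3]; ring
  · rw [mul_entries, mul_entries, g1, h1]; ring
  · rw [mul_entries, mul_entries, g1, h1]; ring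

theorem Uni_le_B : (Uni : Subgroup SL2) ≤ BB := by
  intro g hg
  rw [Cfsg.Agent.S2437.mem_B]
  exact hg.1

/-- the standard unipotent element -/
def uu (b : F) : SL2 := ⟨!![1, b; 0, 1], by rw [Matrix.det_fin_two_of]; ring⟩

theorem uu_mem (b : F) : uu b ∈ (Uni : Subgroup SL2) := by
  refine ⟨?_, ?_, ?_⟩ <;> simp [uu]

theorem card_Uni [Fintype F] : Nat.card (Uni : Subgroup SL2) = Fintype.card F := by
  rw [← Nat.card_eq_fintype_card]
  apply Nat.card_congr
  refine Equiv.symm (Equiv.ofBijective (fun b : F => (⟨uu b, uu_mem b⟩ : (Uni : Subgroup SL2))) ⟨?_, ?_⟩)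
  · intro b b' h
    have := congrArg (fun g : (Uni : Subgroup SL2) => g.1.1 0 1) h
    simpa [uu] using this
  · rintro ⟨g, g1, g2, g3⟩
    refine ⟨g.1 0 1, ?_⟩
    apply Subtype.ext
    apply ext_entries <;> simp [uu, g1, g2, g3]

theorem normalizer_Uni :
    Subgroup.normalizer ((Uni : Subgroup SL2) : Set SL2) = BB := by
  ext g
  rw [Cfsg.Agent.S2437.mem_B]
  constructor
  · intro hg
    have h1 : g * uu 1 * g⁻¹ ∈ (Uni : Subgroup SL2) :=
      (Subgroup.mem_set_normalizer_iff.1 hg (uu 1)).1 (uu_mem 1)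
    obtain ⟨i00, i01, i10, i11⟩ := inv_entries g
    have h2 := h1.1
    rw [mul_entries, mul_entries, mul_entries, i00, i10] at h2
    simp only [uu, Matrix.of_apply, Matrix.cons_val', Matrix.cons_val_zero, Matrix.cons_val_one,
      Matrix.cons_val_fin_one] at h2
    have h3 : g.1 1 0 * g.1 1 0 = 0 := by
      have hdet := entries g
      linear_combination -h2
    exact mul_self_eq_zero.1 h3
  · intro hg
    rw [Subgroup.mem_set_normalizer_iff]
    intro u
    constructor
    · intro hu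
      obtain ⟨c00, c01, c10, c11⟩ := Cfsg.Agent.S2437.conj_entries g u hg hu.1
      exact ⟨c10, by rw [c00, hu.2.1], by rw [c11, hu.2.2]⟩
    · intro hu
      have hgi : (g⁻¹).1 1 0 = 0 := by
        obtain ⟨i00, i01, i10, i11⟩ := inv_entries g
        rw [i10, hg, neg_zero]
      obtain ⟨c00, c01, c10, c11⟩ := Cfsg.Agent.S2437.conj_entries g⁻¹ (g * u * g⁻¹) hgi hu.1
      have : g⁻¹ * (g * u * g⁻¹) * g⁻¹⁻¹ = u := by group
      rw [this] at c00 c10 c11
      exact ⟨c10, by rw [c00, hu.2.1], by rw [c11, hu.2.2]⟩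

variable [Fintype F]

/-- the `p`-part of `|SL₂(q)|` -/
theorem factorization_char (hodd : Odd (Fintype.card F)) (p : ℕ) [Fact p.Prime] [CharP F p] :
    p ^ (Nat.card SL2).factorization p = Fintype.card F := by
  have hp : p.Prime := Fact.out
  obtain ⟨n, hn⟩ := FiniteField.card F p
  have hq := Cfsg.Agent.S2430.three_le hodd
  have hne : Fintype.card F * (Fintype.card F - 1) ≠ 0 :=
    Nat.mul_ne_zero (by omega) (by omega)
  rw [Cfsg.Agent.S2430.card_SL2' hodd, Nat.factorization_mul hne (by omega),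
    Nat.factorization_mul (by omega) (by omega)]
  simp only [Finsupp.add_apply]
  have hpq : p ∣ Fintype.card F := by
    rw [hn.2]
    exact dvd_pow_self p n.pos.ne'
  have h1 : ¬ p ∣ Fintype.card F - 1 := by
    intro h'
    have := Nat.dvd_sub hpq h'
    have e : Fintype.card F - (Fintype.card F - 1) = 1 := by omega
    rw [e] at this
    exact hp.one_lt.ne' (Nat.dvd_one.1 this)
  have h2 : ¬ p ∣ Fintype.card F + 1 := by
    intro h'
    have := Nat.dvd_sub h' hpq
    have e : Fintype.card F + 1 - Fintype.card F = 1 := by omega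
    rw [e] at this
    exact hp.one_lt.ne' (Nat.dvd_one.1 this)
  rw [Nat.factorization_eq_zero_of_not_dvd h1, Nat.factorization_eq_zero_of_not_dvd h2, add_zero,
    add_zero]
  nth_rewrite 1 [hn.2]
  rw [Nat.Prime.factorization_pow hp, Finsupp.single_eq_same, ← hn.2]

/-- the count for the normalizer of a Sylow `p`-subgroup -/
theorem card_pdeg_normalizer (hodd : Odd (Fintype.card F)) (p : ℕ) [Fact p.Prime] [CharP F p]
    (S : Sylow p SL2) :
    Nat.card {ψ : IrrCharacter (Subgroup.normalizer ((S : Subgroup SL2) : Set SL2)) //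
        ¬ p ∣ charDegree (ψ : Subgroup.normalizer ((S : Subgroup SL2) : Set SL2) → ℂ)}
      = Fintype.card F + 3 := by
  have hcard : Nat.card (Uni : Subgroup SL2) = p ^ (Nat.card SL2).factorization p := by
    rw [card_Uni, factorization_char hodd p]
  let S₀ : Sylow p SL2 := Sylow.ofCard Uni hcard
  rw [card_pdeg_normalizer_conj p S₀ S p]
  have hS₀ : (S₀ : Subgroup SL2) = Uni := rfl
  rw [hS₀, normalizer_Uni, ← Cfsg.Agent.S2437.result hodd]
  apply card_pdeg_eq_card_conjClasses
  -- Ito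
  haveI hnorm : ((Uni : Subgroup SL2).subgroupOf BB).Normal := by
    have := Subgroup.normal_in_normalizer (H := (Uni : Subgroup SL2))
    rw [normalizer_Uni] at this
    exact this
  have hc : ∀ a ∈ (Uni : Subgroup SL2).subgroupOf BB, ∀ b ∈ (Uni : Subgroup SL2).subgroupOf BB,
      a * b = b * a := by
    intro a ha b hb
    rw [Subgroup.mem_subgroupOf] at ha hb
    apply Subtype.ext
    rw [Subgroup.coe_mul, Subgroup.coe_mul]
    exact Uni_comm _ _ ha hb
  have hidx : ¬ p ∣ ((Uni : Subgroup SL2).subgroupOf BB).index := by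
    intro hd
    have h1 : (Uni : Subgroup SL2).relIndex BB ∣ (Uni : Subgroup SL2).index :=
      Subgroup.relIndex_dvd_index_of_le Uni_le_B
    have h2 : ¬ p ∣ (S₀ : Subgroup SL2).index := S₀.not_dvd_index
    exact h2 (hd.trans h1)
  have hP := Cfsg.Agent.Lib.helper3.NormalSylow.pdeg_of_normal_abelian p
    ((Uni : Subgroup SL2).subgroupOf BB) hc hidx
  intro χ
  exact hP χ _ (charDegree_spec χ).1

end Cfsg.Agent.H9.SL2McKayP
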