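import Mathlib
import Cfsg.Agent.H9.SylowTwoDicyclic
import Cfsg.Agent.H9.Dicyclic
import Cfsg.Agent.H9.McKayTools

set_option autoImplicit false

/-! Odd degree characters of the normalizer of a Sylow `2`-subgroup in the dicyclic setup. -/

namespace Cfsg.Agent.H9.SylowTwoDicyclic

open Cfsg Cfsg.Agent.H9.McKayTools Cfsg.Agent.Lib.helper3.Irr

variable {G : Type*} [Group G] [Finite G] {A N : Subgroup G} {z : G}

/-- the generating pair of a Sylow `2`-subgroup inside `N` -/
theorem Setup.exists_tw (h : Setup A N z) (S : Sylow 2 G) (hSN : (S : Subgroup G) ≤ N) :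
    ∃ t w : G, t ∈ A ∧ t ∈ (S : Subgroup G) ∧ orderOf t = 2 ^ (Nat.card A).factorization 2 ∧
      w ∈ (S : Subgroup G) ∧ w ∉ A := by
  have h0 : Nat.card A ≠ 0 := Nat.card_pos.ne'
  set v := (Nat.card A).factorization 2 with hv
  have hcardS : Nat.card S = 2 ^ (v + 1) := by
    rw [S.card_eq_multiplicity, h.part]
  obtain ⟨t, htA, hto⟩ := h.exists_t
  rw [← hv] at hto
  have htpow : t ^ 2 ^ v = 1 := by rw [← hto]; exact pow_orderOf_eq_one t
  have htS : t ∈ (S : Subgroup G) :=
    mem_of_normalized S t (hSN.trans (h.le_normalizer_zpowers t htA)) v htpow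
  obtain ⟨w, hwS, hwA⟩ : ∃ w ∈ (S : Subgroup G), w ∉ A := by
    by_contra hcon
    push Not at hcon
    have hle : (S : Subgroup G) ≤ A := hcon
    have hd : Nat.card S ∣ Nat.card A := Subgroup.card_dvd_of_le hle
    rw [hcardS] at hd
    have := (Nat.Prime.pow_dvd_iff_le_factorization Nat.prime_two h0).1 hd
    omega
  exact ⟨t, w, htA, htS, hto, hwS, hwA⟩

/-- the order of `S ∩ A` -/
theorem Setup.card_inf (h : Setup A N z) (S : Sylow 2 G) (hSN : (S : Subgroup G) ≤ N) :
    Nat.card (A ⊓ (S : Subgroup G) : Subgroup G) = 2 ^ (Nat.card A).factorization 2 := by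
  have h0 : Nat.card A ≠ 0 := Nat.card_pos.ne'
  obtain ⟨t, w, htA, htS, hto, hwS, hwA⟩ := h.exists_tw S hSN
  set v := (Nat.card A).factorization 2 with hv
  have hp : IsPGroup 2 (A ⊓ (S : Subgroup G) : Subgroup G) := S.2.to_le inf_le_right
  obtain ⟨n, hn⟩ := hp.exists_card_eq
  have hd : Nat.card (A ⊓ (S : Subgroup G) : Subgroup G) ∣ Nat.card A :=
    Subgroup.card_dvd_of_le inf_le_left
  rw [hn] at hd ⊢
  have h1 := (Nat.Prime.pow_dvd_iff_le_factorization Nat.prime_two h0).1 hd
  have hle : Subgroup.zpowers t ≤ A ⊓ (S : Subgroup G) := by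
    rw [Subgroup.zpowers_le]
    exact ⟨htA, htS⟩
  have h2 := Subgroup.card_dvd_of_le hle
  rw [Nat.card_zpowers, hto, hn] at h2
  have h3 : v ≤ n := (Nat.pow_dvd_pow_iff_le_right (by norm_num)).1 h2
  have : n = v := le_antisymm h1 h3
  rw [this]

/-- the central involution lies in every Sylow `2`-subgroup inside `N` -/
theorem Setup.z_mem (h : Setup A N z) (S : Sylow 2 G) (hSN : (S : Subgroup G) ≤ N) :
    z ∈ A ∧ z ∈ (S : Subgroup G) := by
  obtain ⟨t, w, htA, htS, hto, hwS, hwA⟩ := h.exists_tw S hSN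
  have hv2 := h.two_le
  set v := (Nat.card A).factorization 2 with hv
  have hzS : z ∈ (S : Subgroup G) := by
    rw [← h.sq w (hSN hwS) hwA]
    exact Subgroup.mul_mem _ hwS hwS
  refine ⟨?_, hzS⟩
  -- `t ^ 2 ^ (v - 1)` is an involution of `A`
  set s := t ^ 2 ^ (v - 1) with hs
  have hsA : s ∈ A := Subgroup.pow_mem _ htA _
  have hss : s * s = 1 := by
    rw [hs, ← pow_add, ← two_mul, ← pow_succ', show v - 1 + 1 = v by omega, ← hto]
    exact pow_orderOf_eq_one t
  have hs1 : s ≠ 1 := by
    intro h'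
    have hd := orderOf_dvd_of_pow_eq_one h'
    rw [hto] at hd
    have := (Nat.pow_dvd_pow_iff_le_right (by norm_num : 1 < 2)).1 hd
    omega
  rcases h.invol s hsA hss with h' | h'
  · exact absurd h' hs1
  · rw [← h']; exact hsA

/-- a Sylow `2`-subgroup inside `N` has exactly four irreducible characters of odd degree -/
theorem Setup.card_odd (h : Setup A N z) (S : Sylow 2 G) (hSN : (S : Subgroup G) ≤ N) :
    Nat.card {χ : IrrCharacter ↥(S : Subgroup G) // ¬ 2 ∣ charDegree (χ : ↥(S : Subgroup G) → ℂ)}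
      = 4 := by
  classical
  obtain ⟨t, w, htA, htS, hto, hwS, hwA⟩ := h.exists_tw S hSN
  obtain ⟨hzA, hzS⟩ := h.z_mem S hSN
  set v := (Nat.card A).factorization 2 with hv
  have hcardS : Nat.card (S : Subgroup G) = 2 ^ (v + 1) := by
    have := S.card_eq_multiplicity
    rw [h.part] at this
    exact this
  set A' : Subgroup (S : Subgroup G) := A.subgroupOf (S : Subgroup G) with hA'
  have hA'c : ∀ a ∈ A', ∀ b ∈ A', a * b = b * a := by
    intro a ha b hb
    rw [hA', Subgroup.mem_subgroupOf] at ha hb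
    apply Subtype.ext
    rw [Subgroup.coe_mul, Subgroup.coe_mul]
    exact h.comm _ ha _ hb
  have hcardA' : Nat.card A' = 2 ^ v := by
    rw [hA', ← Subgroup.inf_subgroupOf_right,
      Nat.card_congr (Subgroup.subgroupOfEquivOfLe (inf_le_right)).toEquiv]
    exact h.card_inf S hSN
  have hidx : A'.index = 2 := by
    have := A'.card_mul_index
    rw [hcardA', hcardS, pow_succ] at this
    exact Nat.eq_of_mul_eq_mul_left (by positivity) this
  have key := Cfsg.Agent.H9.Dicyclic.two_mul_card_conjClasses (N := (S : Subgroup G)) A'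
    ⟨z, hzS⟩ (fun h' => h.z1 (congrArg Subtype.val h')) (by rw [hA', Subgroup.mem_subgroupOf]; exact hzA)
    (Subtype.ext h.zz)
    (by
      intro g hg
      have hg' : (g : G) * g = 1 := congrArg Subtype.val hg
      by_cases hgA : (g : G) ∈ A
      · rcases h.invol g hgA hg' with h' | h'
        · left; exact Subtype.ext h'
        · right; exact Subtype.ext h'
      · exfalso
        rw [h.sq g (hSN g.2) hgA] at hg'
        exact h.z1 hg')
    hA'c hidx
    (by
      intro g hg a ha
      rw [hA', Subgroup.mem_subgroupOf] at hg ha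
      apply Subtype.ext
      exact h.inv g (hSN g.2) hg a ha)
  rw [hcardA'] at key
  -- degrees are at most two
  have hdeg : ∀ χ : IrrCharacter ↥(S : Subgroup G),
      charDegree (χ : ↥(S : Subgroup G) → ℂ) ≤ 2 := by
    intro χ
    have := charDegree_le_index χ A' hA'c
    rwa [hidx] at this
  have h3 := three_mul_card_odd_add hdeg
  rw [hcardS] at h3
  have : 2 ^ (v + 1) = 2 * 2 ^ v := by rw [pow_succ, mul_comm]
  omega

/-- the data of the quaternion case -/
theorem Setup.q8_data (h : Setup A N z) (S : Sylow 2 G) (hSN : (S : Subgroup G) ≤ N)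
    (h8 : ¬ 8 ∣ Nat.card A)
    (hH : ∀ t w : G, t ∈ A → t * t = z → w ∈ N → w ∉ A →
        ∃ x : G, x * t = t * w * x ∧ x * w = t * x) :
    ∃ t w x : G, t ∈ A ∧ t ∈ (S : Subgroup G) ∧ t * t = z ∧ w ∈ (S : Subgroup G) ∧ w ∉ A ∧
      (S : Subgroup G) = Subgroup.closure {t, w} ∧
      x ∈ Subgroup.normalizer ((S : Subgroup G) : Set G) ∧ x * t * x⁻¹ = t * w ∧
      x * w * x⁻¹ = t ∧ Nat.card (S : Subgroup G) = 8 := by
  have h0 : Nat.card A ≠ 0 := Nat.card_pos.ne'
  obtain ⟨t, w, htA, htS, hto, hwS, hwA⟩ := h.exists_tw S hSN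
  have hv2 := h.two_le
  set v := (Nat.card A).factorization 2 with hv
  have hcardS : Nat.card (S : Subgroup G) = 2 ^ (v + 1) := by
    have := S.card_eq_multiplicity
    rw [h.part] at this
    exact this
  have hv2' : v = 2 := by
    have : ¬ 3 ≤ v := by
      intro h3
      apply h8
      have : 2 ^ 3 ∣ Nat.card A :=
        (Nat.Prime.pow_dvd_iff_le_factorization Nat.prime_two h0).2 h3
      exact this
    omega
  have hcardS8 : Nat.card (S : Subgroup G) = 8 := by rw [hcardS, hv2']; norm_num
  have hto4 : orderOf t = 4 := by rw [hto, hv2']; norm_num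
  have htt : t * t ≠ 1 := by
    intro h'
    have : t ^ 2 = 1 := by rw [pow_two]; exact h'
    have hd := orderOf_dvd_of_pow_eq_one this
    rw [hto4] at hd
    norm_num at hd
  have htz : t * t = z := by
    have h4 : t ^ 4 = 1 := by rw [← hto4]; exact pow_orderOf_eq_one t
    have : (t * t) * (t * t) = 1 := by
      rw [← h4]
      norm_num [pow_succ, mul_assoc]
    rcases h.invol (t * t) (Subgroup.mul_mem _ htA htA) this with h' | h'
    · exact absurd h' htt
    · exact h'
  have hwN : w ∈ N := hSN hwS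
  have hSclos : (S : Subgroup G) = Subgroup.closure {t, w} := by
    symm
    have hQS : Subgroup.closure {t, w} ≤ (S : Subgroup G) := by
      rw [Subgroup.closure_le]
      intro y hy
      rcases hy with rfl | rfl
      · exact htS
      · exact hwS
    apply Subgroup.eq_of_le_of_card_ge hQS
    have htQ : Subgroup.zpowers t ≤ Subgroup.closure {t, w} := by
      rw [Subgroup.zpowers_le]
      exact Subgroup.subset_closure (by simp)
    have hwQ : w ∈ Subgroup.closure {t, w} := Subgroup.subset_closure (by simp)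
    have hd1 : 4 ∣ Nat.card (Subgroup.closure {t, w} : Subgroup G) := by
      have := Subgroup.card_dvd_of_le htQ
      rwa [Nat.card_zpowers, hto4] at this
    have hd2 : Nat.card (Subgroup.closure {t, w} : Subgroup G) ∣ 8 := by
      have := Subgroup.card_dvd_of_le hQS
      rwa [hcardS8] at this
    have hne4 : Nat.card (Subgroup.closure {t, w} : Subgroup G) ≠ 4 := by
      intro h4
      have : Subgroup.zpowers t = Subgroup.closure {t, w} := by
        apply Subgroup.eq_of_le_of_card_ge htQ
        rw [Nat.card_zpowers, hto4, h4]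
      rw [← this] at hwQ
      apply hwA
      have hzA : Subgroup.zpowers t ≤ A := by
        rw [Subgroup.zpowers_le]
        exact htA
      exact hzA hwQ
    rw [hcardS8]
    obtain ⟨k, hk⟩ := hd1
    have hk8 : Nat.card (Subgroup.closure {t, w} : Subgroup G) ≤ 8 :=
      Nat.le_of_dvd (by norm_num) hd2
    have hk2 : k ≤ 2 := by omega
    interval_cases k
    · rw [hk] at hd2; norm_num at hd2
    · omega
    · omega
  obtain ⟨x, hx1, hx2⟩ := hH t w htA htz hwN hwA
  have hxt : x * t * x⁻¹ = t * w := by rw [hx1]; group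
  have hxw : x * w * x⁻¹ = t := by rw [hx2]; group
  have hxM : x ∈ Subgroup.normalizer ((S : Subgroup G) : Set G) := by
    apply Subgroup.mem_normalizer_fintype
    intro s hs
    rw [SetLike.mem_coe, hSclos] at hs
    rw [SetLike.mem_coe]
    induction hs using Subgroup.closure_induction with
    | mem y hy =>
      rcases hy with rfl | rfl
      · rw [hxt]; exact Subgroup.mul_mem _ htS hwS
      · rw [hxw]; exact htS
    | one => simp
    | mul a b _ _ ha hb =>
      have : x * (a * b) * x⁻¹ = (x * a * x⁻¹) * (x * b * x⁻¹) := by group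
      rw [this]
      exact Subgroup.mul_mem _ ha hb
    | inv a _ ha =>
      have : x * a⁻¹ * x⁻¹ = (x * a * x⁻¹)⁻¹ := by group
      rw [this]
      exact Subgroup.inv_mem _ ha
  exact ⟨t, w, x, htA, htS, htz, hwS, hwA, hSclos, hxM, hxt, hxw, hcardS8⟩

/-- in the quaternion case the normalizer has four irreducible characters of odd degree -/
theorem Setup.card_odd_normalizer (h : Setup A N z) (S : Sylow 2 G) (hSN : (S : Subgroup G) ≤ N)
    (h8 : ¬ 8 ∣ Nat.card A)
    (hH : ∀ t w : G, t ∈ A → t * t = z → w ∈ N → w ∉ A →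
        ∃ x : G, x * t = t * w * x ∧ x * w = t * x) :
    Nat.card {ψ : IrrCharacter ↥(Subgroup.normalizer ((S : Subgroup G) : Set G)) //
        ¬ 2 ∣ charDegree (ψ : ↥(Subgroup.normalizer ((S : Subgroup G) : Set G)) → ℂ)} = 4 := by
  obtain ⟨t, w, x, htA, htS, htz, hwS, hwA, hSclos, hxM, hxt, hxw, hcardS8⟩ :=
    h.q8_data S hSN h8 hH
  have hcard24 : Nat.card (Subgroup.normalizer ((S : Subgroup G) : Set G)) = 24 := by
    have := (core h S hSN).2.2 h8 hH
    rw [this]
    have : Nat.card S = 8 := hcardS8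
    rw [this]
  set M := Subgroup.normalizer ((S : Subgroup G) : Set G) with hM
  have hSM : (S : Subgroup G) ≤ M := Subgroup.le_normalizer
  have htM : t ∈ M := hSM htS
  have hwM : w ∈ M := hSM hwS
  set S' : Subgroup M := (S : Subgroup G).subgroupOf M with hS'
  haveI hnorm : S'.Normal := Subgroup.normal_in_normalizer
  have hcardS' : Nat.card S' = 8 := by
    rw [hS', Nat.card_congr (Subgroup.subgroupOfEquivOfLe hSM).toEquiv]
    exact hcardS8
  have hidxS' : S'.index = 3 := by
    have := S'.card_mul_index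
    rw [hcardS', hcard24] at this
    omega
  -- the commutator subgroup is `S'`
  have hle : commutator M ≤ S' := by
    haveI : Fact (Nat.Prime 3) := ⟨Nat.prime_three⟩
    have hq : Nat.card (M ⧸ S') = 3 := by
      rw [← Subgroup.index_eq_card]
      exact hidxS'
    haveI : IsCyclic (M ⧸ S') := isCyclic_of_prime_card hq
    letI : CommGroup (M ⧸ S') := IsCyclic.commGroup
    have := Abelianization.commutator_subset_ker (QuotientGroup.mk' S')
    rwa [QuotientGroup.ker_mk'] at this
  have hge : S' ≤ commutator M := by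
    set C : Subgroup G := (commutator M).map M.subtype with hC
    have hcomm : ∀ a b : M, (a : G) * b * (a : G)⁻¹ * (b : G)⁻¹ ∈ C := by
      intro a b
      rw [hC, Subgroup.mem_map]
      refine ⟨a * b * a⁻¹ * b⁻¹, ?_, ?_⟩
      · rw [commutator_def, ← commutatorElement_def]
        exact Subgroup.commutator_mem_commutator (Subgroup.mem_top a) (Subgroup.mem_top b)
      · simp
    have hwtw : w * t * w⁻¹ = t⁻¹ := h.inv w (hSN hwS) hwA t htA
    have hzz := h.zz
    have hzC : z ∈ C := by
      have := hcomm ⟨w, hwM⟩ ⟨t, htM⟩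
      simp only at this
      have e : w * t * w⁻¹ * t⁻¹ = z := by
        rw [hwtw]
        have : t⁻¹ * t⁻¹ = (t * t)⁻¹ := by group
        rw [this, htz]
        exact inv_eq_of_mul_eq_one_left hzz
      rwa [e] at this
    have h1C : t * w * t⁻¹ ∈ C := by
      have := hcomm ⟨x, hxM⟩ ⟨t, htM⟩
      simp only at this
      rwa [hxt] at this
    have h2C : t * w⁻¹ ∈ C := by
      have := hcomm ⟨x, hxM⟩ ⟨w, hwM⟩
      simp only at this
      rwa [hxw] at this
    have htC : t ∈ C := by
      have h3 : (t * w⁻¹)⁻¹ * (t * w * t⁻¹) ∈ C :=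
        Subgroup.mul_mem _ (Subgroup.inv_mem _ h2C) h1C
      have e : (t * w⁻¹)⁻¹ * (t * w * t⁻¹) = z * t⁻¹ := by
        have hww : w * w = z := h.sq w (hSN hwS) hwA
        calc (t * w⁻¹)⁻¹ * (t * w * t⁻¹) = (w * w) * t⁻¹ := by group
          _ = z * t⁻¹ := by rw [hww]
      rw [e] at h3
      have h4 : z⁻¹ * (z * t⁻¹) ∈ C := Subgroup.mul_mem _ (Subgroup.inv_mem _ hzC) h3
      rw [inv_mul_cancel_left] at h4
      have := Subgroup.inv_mem _ h4
      rwa [inv_inv] at this
    have hwC : w ∈ C := by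
      have h3 : t⁻¹ * (t * w⁻¹) ∈ C := Subgroup.mul_mem _ (Subgroup.inv_mem _ htC) h2C
      rw [inv_mul_cancel_left] at h3
      have := Subgroup.inv_mem _ h3
      rwa [inv_inv] at this
    have hSC : (S : Subgroup G) ≤ C := by
      rw [hSclos, Subgroup.closure_le]
      intro y hy
      rcases hy with rfl | rfl
      · exact htC
      · exact hwC
    intro s hs
    rw [hS', Subgroup.mem_subgroupOf] at hs
    obtain ⟨c, hc, hcs⟩ := hSC hs
    have : c = s := Subtype.ext hcs
    rw [← this]
    exact hc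
  have heq : commutator M = S' := le_antisymm hle hge
  apply card_odd_of_card_24 hcard24
  rw [heq]
  exact hidxS'

/-- the number of odd degree irreducible characters of the normalizer of any Sylow
`2`-subgroup is four -/
theorem main_card_odd (h : Setup A N z)
    (hH : ¬ 8 ∣ Nat.card A → ∀ t w : G, t ∈ A → t * t = z → w ∈ N → w ∉ A →
        ∃ x : G, x * t = t * w * x ∧ x * w = t * x) (S : Sylow 2 G) :
    Nat.card {ψ : IrrCharacter ↥(Subgroup.normalizer ((S : Subgroup G) : Set G)) //
        ¬ 2 ∣ charDegree (ψ : ↥(Subgroup.normalizer ((S : Subgroup G) : Set G)) → ℂ)} = 4 := by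
  have h0 : Nat.card A ≠ 0 := Nat.card_pos.ne'
  obtain ⟨Q⟩ : Nonempty (Sylow 2 N) := inferInstance
  set S₀ : Subgroup G := (Q : Subgroup N).map N.subtype with hS₀
  have hS₀N : S₀ ≤ N := by
    rintro _ ⟨q, -, rfl⟩
    exact q.2
  have hcard : Nat.card S₀ = 2 ^ (Nat.card G).factorization 2 := by
    rw [hS₀, Subgroup.card_map_of_injective N.subtype_injective, Q.card_eq_multiplicity, h.cardN,
      h.part, Nat.factorization_mul two_ne_zero h0, Finsupp.add_apply,
      Nat.Prime.factorization_self Nat.prime_two, add_comm]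
  let S₀' : Sylow 2 G := Sylow.ofCard S₀ hcard
  have hS₀'N : (S₀' : Subgroup G) ≤ N := hS₀N
  rw [card_pdeg_normalizer_conj 2 S₀' S 2]
  by_cases h8 : 8 ∣ Nat.card A
  · have h2 := (core h S₀' hS₀'N).2.1 h8
    rw [card_pdeg_mulEquiv (MulEquiv.subgroupCongr h2) 2]
    exact h.card_odd S₀' hS₀'N
  · exact h.card_odd_normalizer S₀' hS₀'N h8 (hH h8)

end Cfsg.Agent.H9.SylowTwoDicyclic
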