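import Mathlib
import Cfsg.Agent.H9.RedundantSylow
import Cfsg.Agent.S2436

set_option autoImplicit false

/-! Redundant Sylow subgroups of `SL₂(q)`. -/

namespace Cfsg.Agent.H9.RedundantSL2

open Matrix
open Cfsg.Agent.S2428 Cfsg.Agent.H9.NonsplitTorus Cfsg.Agent.Lib.Helper8.SL2Odd
open Cfsg.Agent.H9.SylowTwoDicyclic Cfsg.Agent.H9.McKayTools Cfsg.Agent.S2431
open Cfsg.Agent.H9.RedundantSylow

variable {F : Type*} [Field F]

local notation "SL2" => Matrix.SpecialLinearGroup (Fin 2) F

/-- the centralizer of a non-scalar element of `SL₂` is abelian -/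
theorem commute_of_nonscalar (x g h : SL2)
    (hx : ¬ ∃ a : F, (x : Matrix (Fin 2) (Fin 2) F) = a • (1 : Matrix (Fin 2) (Fin 2) F))
    (hg : g * x = x * g) (hh : h * x = x * h) : g * h = h * g := by
  have hg' : g.1 * x.1 = x.1 * g.1 := congrArg Subtype.val hg
  have hh' : h.1 * x.1 = x.1 * h.1 := congrArg Subtype.val hh
  have g00 := congrFun (congrFun hg' 0) 0
  have g01 := congrFun (congrFun hg' 0) 1
  have g10 := congrFun (congrFun hg' 1) 0
  have g11 := congrFun (congrFun hg' 1) 1
  have h00 := congrFun (congrFun hh' 0) 0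
  have h01 := congrFun (congrFun hh' 0) 1
  have h10 := congrFun (congrFun hh' 1) 0
  have h11 := congrFun (congrFun hh' 1) 1
  simp only [Matrix.mul_apply, Fin.sum_univ_two] at g00 g01 g10 g11 h00 h01 h10 h11
  have hns : x.1 0 1 ≠ 0 ∨ x.1 1 0 ≠ 0 ∨ x.1 0 0 ≠ x.1 1 1 := by
    by_contra hcon
    push Not at hcon
    obtain ⟨c1, c2, c3⟩ := hcon
    apply hx
    refine ⟨x.1 0 0, ?_⟩
    ext i j
    fin_cases i <;> fin_cases j <;> simp [c1, c2, c3]
  apply Subtype.ext
  show g.1 * h.1 = h.1 * g.1
  ext i j
  fin_cases i <;> fin_cases j <;>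
    simp only [Matrix.mul_apply, Fin.sum_univ_two, Fin.zero_eta, Fin.mk_one, Fin.isValue] <;>
    rcases hns with hb | hc | had <;> grind

/-- a nontrivial `p`-element of `SL₂` is non-scalar unless `p = 2` and the characteristic is odd -/
theorem nonscalar_of_p (p : ℕ) [Fact p.Prime] (hp : p ≠ 2 ∨ (2 : F) = 0) (x : SL2) (hx1 : x ≠ 1)
    (hxo : ∃ k : ℕ, orderOf x = p ^ k) :
    ¬ ∃ a : F, (x : Matrix (Fin 2) (Fin 2) F) = a • (1 : Matrix (Fin 2) (Fin 2) F) := by
  rintro ⟨a, ha⟩
  have hdet := x.2
  rw [ha, Matrix.det_smul, Matrix.det_one, Fintype.card_fin, mul_one] at hdet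
  have ha2 : (a - 1) * (a + 1) = 0 := by linear_combination hdet
  rcases mul_eq_zero.1 ha2 with h1 | h1
  · apply hx1
    apply Subtype.ext
    rw [ha, sub_eq_zero.1 h1, one_smul]
    rfl
  · have ham : a = -1 := by linear_combination h1
    have hxx : x * x = 1 := by
      apply Subtype.ext
      show x.1 * x.1 = 1
      rw [ha, ham]
      simp
    obtain ⟨k, hk⟩ := hxo
    have hdvd : orderOf x ∣ 2 := orderOf_dvd_of_pow_eq_one (by rw [pow_two]; exact hxx)
    have hne1 : orderOf x ≠ 1 := by
      intro h'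
      exact hx1 (orderOf_eq_one_iff.1 h')
    have h2 : orderOf x = 2 := by
      rcases (Nat.dvd_prime Nat.prime_two).1 hdvd with h' | h'
      · exact absurd h' hne1
      · exact h'
    have hp2 : p = 2 := by
      have hpp : p.Prime := Fact.out
      rw [hk] at h2
      have hk0 : k ≠ 0 := by
        intro h'
        rw [h', pow_zero] at h2
        omega
      have : p ∣ 2 := by
        rw [← h2]
        exact dvd_pow_self p hk0
      exact (Nat.prime_dvd_prime_iff_eq hpp Nat.prime_two).1 this
    rcases hp with hp | hp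
    · exact hp hp2
    · apply hx1
      apply Subtype.ext
      rw [ha, ham]
      have : (-1 : F) = 1 := by linear_combination -hp
      rw [this, one_smul]
      rfl

variable [Fintype F]

/-- Lemma TI for `SL₂` -/
theorem not_redundant_TI (p : ℕ) [Fact p.Prime] (hp : p ≠ 2 ∨ (2 : F) = 0) :
    ¬ ∃ Q : Sylow p SL2, ∀ x : SL2, (∃ k : ℕ, orderOf x = p ^ k) →
      ∃ P : Sylow p SL2, P ≠ Q ∧ x ∈ P := by
  apply not_redundant_of_abelian
  intro x hx1 hxo a b ha hb
  exact commute_of_nonscalar x a b (nonscalar_of_p p hp x hx1 hxo) ha hb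

/-- the dicyclic setup for `SL₂(q)`, `q` odd, with the order of the torus -/
theorem exists_setup_card (hodd : Odd (Fintype.card F)) :
    ∃ (A N : Subgroup SL2), Setup A N (-1 : SL2) ∧
      ((Fintype.card F % 4 = 1 ∧ Nat.card A = Fintype.card F - 1) ∨
        (Fintype.card F % 4 = 3 ∧ Nat.card A = Fintype.card F + 1)) := by
  have h2 : (2 : F) ≠ 0 := two_ne_zero' hodd
  have hq := Cfsg.Agent.S2430.three_le hodd
  have hmod : Fintype.card F % 4 = 1 ∨ Fintype.card F % 4 = 3 := by
    rcases hodd with ⟨k, hk⟩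
    omega
  rcases hmod with hmod | hmod
  · refine ⟨D, M, ?_, Or.inl ⟨hmod, card_D⟩⟩
    refine
      { cyc := Cfsg.Agent.S2430.isCyclic_D
        le := D_le_M
        norm := normalizer_D_eq hodd hmod
        cent := fun g hg hgg => Cfsg.Agent.S2430.D_cent hodd g hg hgg
        inv := ?_
        sq := ?_
        zc := negOne_mem_center
        z1 := negOne_ne_one h2
        zz := negOne_mul_negOne
        invol := fun a _ haa => eq_of_sq_eq_one h2 a haa
        cardN := by rw [card_M, card_D]
        four := by rw [card_D]; omega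
        part := by rw [card_D]; exact factorization_two_split hodd hmod }
    · intro g hg hgD a ha
      rcases hg with hg | ⟨g1, g2⟩
      · exact absurd hg hgD
      · exact Cfsg.Agent.S2428.anti_inverts g a g1 g2 ha
    · intro g hg hgD
      rcases hg with hg | ⟨g1, g2⟩
      · exact absurd hg hgD
      · apply Subtype.ext
        rw [Cfsg.Agent.S2428.sq_of_anti g g1 g2]
        simp
  · have hchar : ringChar F ≠ 2 := by
      intro h'
      have := FiniteField.even_card_of_char_two h'
      rw [Nat.odd_iff] at hodd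
      omega
    obtain ⟨δ, hδ⟩ := FiniteField.exists_nonsquare hchar
    obtain ⟨g₀, hg₀, hy₀⟩ := exists_nonscalar hδ hodd
    have hcT := card_Tn hδ hodd g₀ hg₀ hy₀
    refine ⟨Tn δ, Mn δ, ?_, Or.inr ⟨hmod, hcT⟩⟩
    refine
      { cyc := isCyclic_Tn hδ
        le := Tn_le_Mn δ
        norm := normalizer_eq hδ hodd
        cent := ?_
        inv := ?_
        sq := ?_
        zc := negOne_mem_center
        z1 := negOne_ne_one h2
        zz := negOne_mul_negOne
        invol := fun a _ haa => eq_of_sq_eq_one h2 a haa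
        cardN := by rw [card_Mn hδ hodd, hcT]
        four := by rw [hcT]; omega
        part := by rw [hcT]; exact factorization_two_nonsplit hodd hmod }
    · intro g hg hgg
      refine centralizer_eq δ g hg (y_ne_zero hδ g hg ?_ ?_)
      · intro h1
        apply hgg
        have : g = 1 := Subtype.ext h1
        rw [this, mul_one]
      · intro h1
        apply hgg
        have : g = -1 := Subtype.ext h1
        rw [this]
        simp
    · intro g hg hgT a ha
      rcases hg with hg | ⟨g1, g2⟩
      · exact absurd hg hgT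
      · exact Cfsg.Agent.H9.NonsplitTorus.anti_inverts δ g a g1 g2 ha
    · intro g hg hgT
      rcases hg with hg | ⟨g1, g2⟩
      · exact absurd hg hgT
      · apply Subtype.ext
        rw [Cfsg.Agent.H9.NonsplitTorus.sq_of_anti δ g g1 g2]
        simp

/-- square roots of `-1` form a single conjugacy class of `SL₂(q)`, `q` odd -/
theorem isConj_of_sq (hodd : Odd (Fintype.card F)) (w t : SL2) (hw : w * w = -1) (ht : t * t = -1) :
    IsConj w t := by
  have h2 : (2 : F) ≠ 0 := two_ne_zero' hodd
  have hw' : w.1 * w.1 = -1 := by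
    have := congrArg Subtype.val hw
    simpa using this
  have ht' : t.1 * t.1 = -1 := by
    have := congrArg Subtype.val ht
    simpa using this
  have hwtr := Cfsg.Agent.H9.Hurwitz.trace_zero_of_sq h2 w hw'
  have httr := Cfsg.Agent.H9.Hurwitz.trace_zero_of_sq h2 t ht'
  have nonsc : ∀ u : SL2, u.1 1 1 = -u.1 0 0 →
      ¬ ∃ a : F, (u : Matrix (Fin 2) (Fin 2) F) = a • (1 : Matrix (Fin 2) (Fin 2) F) := by
    rintro u hu ⟨a, ha⟩
    have e00 : u.1 0 0 = a := by rw [ha]; simp
    have e11 : u.1 1 1 = a := by rw [ha]; simp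
    have ha0 : a = 0 := by
      have : (2 : F) * a = 0 := by linear_combination hu - e00 - e11
      rcases mul_eq_zero.1 this with h' | h'
      · exact absurd h' h2
      · exact h'
    have hdet := u.2
    rw [ha, ha0, zero_smul, Matrix.det_zero] at hdet
    exact zero_ne_one hdet
  have htr : w.1.trace = t.1.trace := by
    rw [Matrix.trace_fin_two, Matrix.trace_fin_two, hwtr, httr]
    ring
  have hreg : t.1.trace ^ 2 ≠ 4 := by
    rw [Matrix.trace_fin_two, httr]
    intro h'
    have : (2 : F) * 2 = 0 := by linear_combination -h'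
    rcases mul_eq_zero.1 this with h'' | h'' <;> exact h2 h''
  have hoddm : Fintype.card F % 2 = 1 := Nat.odd_iff.1 hodd
  exact Cfsg.Agent.H9.SL2OddCls.isConj_of_trace_eq hoddm w t (nonsc w hwtr) (nonsc t httr) htr hreg

end Cfsg.Agent.H9.RedundantSL2
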