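import Mathlib
import Cfsg.Agent.H9.KleinGeneral
import Cfsg.Agent.H9.RedundantSL2
import Cfsg.Agent.H9.ClassSize
import Cfsg.Agent.H9.AutPSL2Core
import Cfsg.Agent.H9.Q8Norm

set_option autoImplicit false

/-! Klein four subgroups of `PSL₂(q)`, `q` odd, via anticommuting pairs in `SL₂(q)`. -/

namespace Cfsg.Agent.H9.KleinPSL2

open Matrix
open Cfsg.Agent.H9.AutPSL2 (pr pr_eq_iff pr_surjective mem_center_iff')
open Cfsg.Agent.H9.KleinGeneral

variable {F : Type*} [Field F]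

local notation "SL2" => Matrix.SpecialLinearGroup (Fin 2) F
local notation "PSL2" => Matrix.ProjectiveSpecialLinearGroup (Fin 2) F

theorem neg_one_val : ((-1 : SL2) : Matrix (Fin 2) (Fin 2) F) = -1 := by simp

theorem neg_val (X : SL2) : ((-X : SL2) : Matrix (Fin 2) (Fin 2) F) = -X.1 := by simp

/-- an element anticommuting with something has trace zero -/
theorem anti_trace (h2 : (2 : F) ≠ 0) (X Y : SL2) (h : X * Y = -(Y * X)) :
    Y.1 1 1 = -Y.1 0 0 := by
  have h' : X.1 * Y.1 = -(Y.1 * X.1) := by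
    have := congrArg Subtype.val h
    simpa using this
  have hdet := X.2
  rw [Matrix.det_fin_two] at hdet
  have e00 := congrFun (congrFun h' 0) 0
  have e01 := congrFun (congrFun h' 0) 1
  have e10 := congrFun (congrFun h' 1) 0
  have e11 := congrFun (congrFun h' 1) 1
  simp only [Matrix.mul_apply, Fin.sum_univ_two, Matrix.neg_apply, Fin.isValue] at e00 e01 e10 e11
  have : (2 : F) * (Y.1 0 0 + Y.1 1 1) = 0 := by
    linear_combination (X.1 1 1) * e00 - (X.1 0 1) * e10 - (X.1 1 0) * e01 + (X.1 0 0) * e11 -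
      2 * (Y.1 0 0 + Y.1 1 1) * hdet
  rcases mul_eq_zero.1 this with h'' | h''
  · exact absurd h'' h2
  · linear_combination h''

/-- trace zero elements square to `-1` -/
theorem sq_of_trace (X : SL2) (h : X.1 1 1 = -X.1 0 0) : X * X = -1 := by
  apply Subtype.ext
  show X.1 * X.1 = ((-1 : SL2) : Matrix (Fin 2) (Fin 2) F)
  rw [neg_one_val, Cfsg.Agent.H9.Q8GL2.cayley_hamilton, X.2, Matrix.trace_fin_two, h]
  simp

theorem anti_symm (X Y : SL2) (h : X * Y = -(Y * X)) : Y * X = -(X * Y) := by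
  rw [h, neg_neg]

theorem anti_sq (h2 : (2 : F) ≠ 0) (X Y : SL2) (h : X * Y = -(Y * X)) :
    X * X = -1 ∧ Y * Y = -1 :=
  ⟨sq_of_trace X (anti_trace h2 Y X (anti_symm X Y h)), sq_of_trace Y (anti_trace h2 X Y h)⟩

/-- the standard element of order four -/
def X0 : SL2 := ⟨!![0, 1; -1, 0], by rw [Matrix.det_fin_two_of]; ring⟩

/-- a partner of `X0` -/
def Y0 (s t : F) (h : s ^ 2 + t ^ 2 = -1) : SL2 :=
  ⟨!![s, t; t, -s], by rw [Matrix.det_fin_two_of]; linear_combination -h⟩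

theorem anti0 (s t : F) (h : s ^ 2 + t ^ 2 = -1) : X0 * Y0 s t h = -(Y0 s t h * X0) := by
  apply Subtype.ext
  rw [neg_val]
  show X0.1 * (Y0 s t h).1 = -((Y0 s t h).1 * X0.1)
  simp only [X0, Y0]
  ext i j
  fin_cases i <;> fin_cases j <;> simp [Matrix.mul_apply, Fin.sum_univ_two]

theorem X0_sq : (X0 : SL2) * X0 = -1 := by
  apply sq_of_trace
  simp [X0]

section lifts

open Cfsg.Agent.S2431 (negOne_ne_one eq_of_sq_eq_one)

variable [Fintype F]

theorem pr_eq_one_iff (X : SL2) : pr X = 1 ↔ X = 1 ∨ X = -1 := by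
  rw [← map_one pr, pr_eq_iff]

theorem pr_neg (X : SL2) : pr (-X) = pr X := by
  rw [pr_eq_iff]
  right; rfl

theorem sq_of_pr (h2 : (2 : F) ≠ 0) (X : SL2) (h : pr X * pr X = 1) (h1 : pr X ≠ 1) :
    X * X = -1 := by
  rw [← map_mul, pr_eq_one_iff] at h
  rcases h with h | h
  · exfalso
    apply h1
    rw [pr_eq_one_iff]
    exact eq_of_sq_eq_one h2 X h
  · exact h

theorem inv_of_sq (X : SL2) (h : X * X = -1) : X⁻¹ = -X := by
  apply inv_eq_of_mul_eq_one_left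
  rw [neg_mul, h, neg_neg]

theorem anti_of_pr (h2 : (2 : F) ≠ 0) (X Y : SL2) (hX : X * X = -1) (hY : Y * Y = -1)
    (hc : pr X * pr Y = pr Y * pr X) (hne : pr X ≠ pr Y) : X * Y = -(Y * X) := by
  rw [← map_mul, ← map_mul, pr_eq_iff] at hc
  rcases hc with hc | hc
  · exfalso
    have h1 : (X * Y) * (X * Y) = 1 := by
      calc (X * Y) * (X * Y) = X * (Y * X) * Y := by group
        _ = X * (X * Y) * Y := by rw [hc]
        _ = (X * X) * (Y * Y) := by group
        _ = 1 := by rw [hX, hY, neg_mul_neg, one_mul]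
    apply hne
    rcases eq_of_sq_eq_one h2 _ h1 with h | h
    · have : Y = X⁻¹ := (inv_eq_of_mul_eq_one_right h).symm
      rw [this, inv_of_sq X hX, pr_neg]
    · have : Y = X⁻¹ * (-1) := by rw [← h]; group
      rw [this, inv_of_sq X hX, neg_mul_neg, mul_one]
  · exact hc

theorem pr_props (h2 : (2 : F) ≠ 0) (X Y : SL2) (h : X * Y = -(Y * X)) :
    pr X * pr X = 1 ∧ pr Y * pr Y = 1 ∧ pr X * pr Y = pr Y * pr X ∧ pr X ≠ 1 ∧ pr Y ≠ 1 ∧
      pr X ≠ pr Y := by
  obtain ⟨hX, hY⟩ := anti_sq h2 X Y h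
  have hn1 : pr (-1 : SL2) = 1 := by rw [pr_eq_one_iff]; right; rfl
  have hne1 : ∀ Z : SL2, Z * Z = -1 → pr Z ≠ 1 := by
    intro Z hZ h1
    rw [pr_eq_one_iff] at h1
    rcases h1 with rfl | rfl
    · rw [mul_one] at hZ
      exact negOne_ne_one h2 hZ.symm
    · rw [neg_mul_neg, mul_one] at hZ
      exact negOne_ne_one h2 hZ.symm
  refine ⟨by rw [← map_mul, hX, hn1], by rw [← map_mul, hY, hn1], ?_, hne1 X hX, hne1 Y hY, ?_⟩
  · rw [← map_mul, ← map_mul, h, pr_neg]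
  · intro heq
    rw [pr_eq_iff] at heq
    have hcomm : X * Y = Y * X := by
      rcases heq with rfl | rfl
      · rfl
      · rw [neg_mul, mul_neg]
    rw [hcomm] at h
    have h3 : (1 : SL2) = -1 := by
      calc (1 : SL2) = (Y * X) * (Y * X)⁻¹ := by group
        _ = (-(Y * X)) * (Y * X)⁻¹ := by rw [← h]
        _ = -1 := by rw [neg_mul]; group
    exact negOne_ne_one h2 h3.symm

end lifts

section count

open Cfsg.Agent.S2431 (negOne_ne_one eq_of_sq_eq_one)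

variable [Fintype F]

theorem card_ker_pr (h2 : (2 : F) ≠ 0) : Nat.card (pr : SL2 →* PSL2).ker = 2 := by
  rw [Nat.card_eq_two_iff]
  have hk : ∀ z : SL2, z ∈ (pr : SL2 →* PSL2).ker ↔ z = 1 ∨ z = -1 := by
    intro z
    rw [MonoidHom.mem_ker, pr_eq_one_iff]
  refine ⟨⟨1, (hk 1).2 (Or.inl rfl)⟩, ⟨-1, (hk (-1)).2 (Or.inr rfl)⟩, ?_, ?_⟩
  · intro h
    have := congrArg Subtype.val h
    exact negOne_ne_one h2 this.symm
  · ext z
    simp only [Set.mem_insert_iff, Set.mem_singleton_iff, Set.mem_univ, iff_true]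
    rcases (hk z.1).1 z.2 with h | h
    · left; exact Subtype.ext h
    · right; exact Subtype.ext h

theorem card_SL2_eq (h2 : (2 : F) ≠ 0) : Nat.card SL2 = 2 * Nat.card PSL2 := by
  have h := Subgroup.card_eq_card_quotient_mul_card_subgroup (Subgroup.center SL2)
  have hk : Nat.card (Subgroup.center SL2) = 2 := by
    have := card_ker_pr (F := F) h2
    unfold pr at this
    rwa [QuotientGroup.ker_mk'] at this
  rw [hk, mul_comm] at h
  exact h

/-- the `24` pairs over a Klein four subgroup -/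
theorem card_fiber (h2 : (2 : F) ≠ 0) (V : Subgroup PSL2) [hV : IsKleinFour V] :
    Nat.card {p : SL2 × SL2 // (pr p.1 ∈ V ∧ pr p.1 ≠ 1) ∧
      (pr p.2 ∈ V ∧ pr p.2 ≠ 1 ∧ pr p.2 ≠ pr p.1)} = 24 := by
  have hV4 : (V : Set PSL2).ncard = 4 := by
    rw [← Nat.card_coe_set_eq]
    exact hV.card_four
  have hfin : (V : Set PSL2).Finite := Set.toFinite _
  have h3 : ({v : PSL2 | v ∈ V ∧ v ≠ 1} : Set PSL2).ncard = 3 := by
    have : ({v : PSL2 | v ∈ V ∧ v ≠ 1} : Set PSL2) = (V : Set PSL2) \ {1} := by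
      ext v; simp
    rw [this, Set.ncard_diff_singleton_of_mem V.one_mem, hV4]
  have key := card_pairs (α := SL2) (β := SL2) (fun X => pr X ∈ V ∧ pr X ≠ 1)
    (fun X Y => pr Y ∈ V ∧ pr Y ≠ 1 ∧ pr Y ≠ pr X) 6 4 ?_ ?_
  · rw [key]
  · have := card_preimage (pr : SL2 →* PSL2) pr_surjective {v : PSL2 | v ∈ V ∧ v ≠ 1}
    rw [card_ker_pr h2, Nat.card_coe_set_eq, h3] at this
    exact this
  · rintro X ⟨hXV, hX1⟩
    have h2' : ({v : PSL2 | v ∈ V ∧ v ≠ 1 ∧ v ≠ pr X} : Set PSL2).ncard = 2 := by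
      have : ({v : PSL2 | v ∈ V ∧ v ≠ 1 ∧ v ≠ pr X} : Set PSL2) =
          {v : PSL2 | v ∈ V ∧ v ≠ 1} \ {pr X} := by
        ext v; simp [and_assoc]
      rw [this, Set.ncard_diff_singleton_of_mem (show pr X ∈ {v : PSL2 | v ∈ V ∧ v ≠ 1} from
        ⟨hXV, hX1⟩), h3]
    have := card_preimage (pr : SL2 →* PSL2) pr_surjective
      {v : PSL2 | v ∈ V ∧ v ≠ 1 ∧ v ≠ pr X}
    rw [card_ker_pr h2, Nat.card_coe_set_eq, h2'] at this
    exact this

end count

section countQP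

open Cfsg.Agent.S2431 (negOne_ne_one eq_of_sq_eq_one)
open Cfsg.Agent.H9.RedundantSL2 (isConj_of_sq)

variable [Fintype F]

/-- partners of `X` form a coset of the centralizer -/
theorem card_partners (X Y1 : SL2) (h1 : X * Y1 = -(Y1 * X)) :
    Nat.card {Y : SL2 // X * Y = -(Y * X)} = Nat.card (Subgroup.centralizer ({X} : Set SL2)) := by
  have hinv : X * Y1⁻¹ = -(Y1⁻¹ * X) := by
    have : Y1⁻¹ * (X * Y1) * Y1⁻¹ = Y1⁻¹ * (-(Y1 * X)) * Y1⁻¹ := by rw [h1]
    rw [mul_neg, neg_mul] at this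
    have e1 : Y1⁻¹ * (X * Y1) * Y1⁻¹ = Y1⁻¹ * X := by group
    have e2 : Y1⁻¹ * (Y1 * X) * Y1⁻¹ = X * Y1⁻¹ := by group
    rw [e1, e2] at this
    rw [this, neg_neg]
  apply Nat.card_congr
  refine
    { toFun := fun Y => ⟨Y1⁻¹ * Y.1, ?_⟩
      invFun := fun c => ⟨Y1 * c.1, ?_⟩
      left_inv := fun Y => by apply Subtype.ext; simp
      right_inv := fun c => by apply Subtype.ext; simp }
  · rw [Subgroup.mem_centralizer_singleton_iff]
    have hY := Y.2
    calc Y1⁻¹ * Y.1 * X = Y1⁻¹ * (Y.1 * X) := by group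
      _ = Y1⁻¹ * (-(X * Y.1)) := by rw [hY, neg_neg]
      _ = -(Y1⁻¹ * X) * Y.1 := by rw [mul_neg, neg_mul, mul_assoc]
      _ = X * Y1⁻¹ * Y.1 := by rw [hinv]
      _ = X * (Y1⁻¹ * Y.1) := by group
  · have hc := Subgroup.mem_centralizer_singleton_iff.1 c.2
    calc X * (Y1 * c.1) = (X * Y1) * c.1 := by group
      _ = -(Y1 * X) * c.1 := by rw [h1]
      _ = -(Y1 * (X * c.1)) := by rw [neg_mul, mul_assoc]
      _ = -(Y1 * (c.1 * X)) := by rw [hc]
      _ = -(Y1 * c.1 * X) := by rw [mul_assoc]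

theorem card_centralizer_conj (X c : SL2) :
    Nat.card (Subgroup.centralizer ({c * X * c⁻¹} : Set SL2)) =
      Nat.card (Subgroup.centralizer ({X} : Set SL2)) := by
  have h1 := Cfsg.Agent.H9.ClassSize.index_centralizer_equiv (MulAut.conj c) X
  rw [MulAut.conj_apply] at h1
  have h2 := Subgroup.card_mul_index (Subgroup.centralizer ({c * X * c⁻¹} : Set SL2))
  have h3 := Subgroup.card_mul_index (Subgroup.centralizer ({X} : Set SL2))
  rw [h1] at h2
  have h0 : (Subgroup.centralizer ({X} : Set SL2)).index ≠ 0 := Subgroup.index_ne_zero_of_finite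
  exact Nat.eq_of_mul_eq_mul_right (Nat.pos_of_ne_zero h0) (h2.trans h3.symm)

/-- the number of anticommuting pairs is the order of the group -/
theorem card_QP (hodd : Odd (Fintype.card F)) :
    Nat.card {p : SL2 × SL2 // p.1 * p.2 = -(p.2 * p.1)} = Nat.card SL2 := by
  have h2 : (2 : F) ≠ 0 := Cfsg.Agent.Lib.Helper8.SL2Odd.two_ne_zero' hodd
  obtain ⟨s, t, hst⟩ := Cfsg.Agent.H9.AutPSL2.exists_sq_add_sq (-1 : F)
  have e : {p : SL2 × SL2 // p.1 * p.2 = -(p.2 * p.1)} ≃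
      {p : SL2 × SL2 // p.1 * p.1 = -1 ∧ p.1 * p.2 = -(p.2 * p.1)} :=
    Equiv.subtypeEquivRight (fun p => ⟨fun h => ⟨(anti_sq h2 _ _ h).1, h⟩, fun h => h.2⟩)
  rw [Nat.card_congr e]
  have key := card_pairs (α := SL2) (β := SL2) (fun X => X * X = -1)
    (fun X Y => X * Y = -(Y * X)) (Subgroup.centralizer ({X0} : Set SL2)).index
    (Nat.card (Subgroup.centralizer ({X0} : Set SL2))) ?_ ?_
  · rw [key, Subgroup.index_mul_card]
  · rw [Cfsg.Agent.H9.ClassSize.index_centralizer_eq_card_conj]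
    apply Nat.card_congr
    refine Equiv.subtypeEquivRight (fun X => ⟨fun h => ?_, fun h => ?_⟩)
    · exact (isConj_of_sq hodd X X0 h X0_sq).symm
    · obtain ⟨c, hc⟩ := isConj_iff.1 h
      rw [← hc]
      calc c * X0 * c⁻¹ * (c * X0 * c⁻¹) = c * (X0 * X0) * c⁻¹ := by group
        _ = -1 := by rw [X0_sq, mul_neg, neg_mul, mul_one, mul_inv_cancel]
  · intro X hX
    obtain ⟨c, hc⟩ := isConj_iff.1 (isConj_of_sq hodd X0 X X0_sq hX)
    have hY1 : X * (c * Y0 s t hst.symm * c⁻¹) = -((c * Y0 s t hst.symm * c⁻¹) * X) := by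
      rw [← hc]
      calc c * X0 * c⁻¹ * (c * Y0 s t hst.symm * c⁻¹) = c * (X0 * Y0 s t hst.symm) * c⁻¹ := by group
        _ = c * (-(Y0 s t hst.symm * X0)) * c⁻¹ := by rw [anti0]
        _ = -(c * (Y0 s t hst.symm * X0) * c⁻¹) := by rw [mul_neg, neg_mul]
        _ = -(c * Y0 s t hst.symm * c⁻¹ * (c * X0 * c⁻¹)) := by congr 1; group
    rw [card_partners X _ hY1, ← hc, card_centralizer_conj]

/-- the Klein four subgroup of an anticommuting pair -/
theorem isKleinFour_of_anti (h2 : (2 : F) ≠ 0) (X Y : SL2) (h : X * Y = -(Y * X)) :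
    IsKleinFour (Subgroup.closure ({pr X, pr Y} : Set PSL2)) := by
  obtain ⟨h1, h2', h3, h4, h5, h6⟩ := pr_props h2 X Y h
  exact isKleinFour_closure_pair _ _ h1 h2' h3 h4 h5 h6

/-- which pairs generate a given Klein four subgroup -/
theorem fiber_iff (h2 : (2 : F) ≠ 0) (V : Subgroup PSL2) [hV : IsKleinFour V] (p : SL2 × SL2) :
    (p.1 * p.2 = -(p.2 * p.1) ∧ Subgroup.closure ({pr p.1, pr p.2} : Set PSL2) = V) ↔
      ((pr p.1 ∈ V ∧ pr p.1 ≠ 1) ∧ (pr p.2 ∈ V ∧ pr p.2 ≠ 1 ∧ pr p.2 ≠ pr p.1)) := by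
  constructor
  · rintro ⟨ha, hcl⟩
    obtain ⟨h1, h2', h3, h4, h5, h6⟩ := pr_props h2 _ _ ha
    refine ⟨⟨?_, h4⟩, ?_, h5, fun h => h6 h.symm⟩
    · rw [← hcl]; exact Subgroup.subset_closure (by simp)
    · rw [← hcl]; exact Subgroup.subset_closure (by simp)
  · rintro ⟨⟨hXV, hX1⟩, hYV, hY1, hne⟩
    obtain ⟨haa, hbb, hab, -⟩ := klein_elems V (pr p.1) (pr p.2) hXV hYV hX1 hY1 (fun h => hne h.symm)
    refine ⟨?_, klein_eq_closure V _ _ hXV hYV hX1 hY1 (fun h => hne h.symm)⟩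
    exact anti_of_pr h2 _ _ (sq_of_pr h2 _ haa hX1) (sq_of_pr h2 _ hbb hY1) hab (fun h => hne h.symm)

/-- `24` times the number of Klein four subgroups is `|SL₂(q)|` -/
theorem card_klein (hodd : Odd (Fintype.card F)) :
    24 * Nat.card {V : Subgroup PSL2 // IsKleinFour V} = Nat.card SL2 := by
  classical
  have h2 : (2 : F) ≠ 0 := Cfsg.Agent.Lib.Helper8.SL2Odd.two_ne_zero' hodd
  rw [← card_QP hodd]
  let f : {p : SL2 × SL2 // p.1 * p.2 = -(p.2 * p.1)} → {V : Subgroup PSL2 // IsKleinFour V} :=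
    fun p => ⟨Subgroup.closure ({pr p.1.1, pr p.1.2} : Set PSL2), isKleinFour_of_anti h2 _ _ p.2⟩
  rw [← Nat.card_congr (Equiv.sigmaFiberEquiv f)]
  haveI : Fintype {V : Subgroup PSL2 // IsKleinFour V} := Fintype.ofFinite _
  rw [Nat.card_sigma]
  have hfib : ∀ V : {V : Subgroup PSL2 // IsKleinFour V},
      Nat.card {p : {p : SL2 × SL2 // p.1 * p.2 = -(p.2 * p.1)} // f p = V} = 24 := by
    intro V
    haveI : IsKleinFour V.1 := V.2
    rw [← card_fiber h2 V.1]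
    apply Nat.card_congr
    refine (Equiv.subtypeEquivRight (fun p => ?_)).trans
      ((Equiv.subtypeSubtypeEquivSubtypeInter
        (fun p : SL2 × SL2 => p.1 * p.2 = -(p.2 * p.1))
        (fun p : SL2 × SL2 => Subgroup.closure ({pr p.1, pr p.2} : Set PSL2) = V.1)).trans
      (Equiv.subtypeEquivRight (fun p => fiber_iff h2 V.1 p)))
    show f p = V ↔ Subgroup.closure ({pr p.1.1, pr p.1.2} : Set PSL2) = V.1
    rw [Subtype.ext_iff]
  rw [Finset.sum_congr rfl (fun V _ => hfib V), Finset.sum_const, Finset.card_univ,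
    ← Nat.card_eq_fintype_card, smul_eq_mul, mul_comm]

end countQP

end Cfsg.Agent.H9.KleinPSL2
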