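import Mathlib
import Cfsg.Agent.H9.KleinPSL2
import Cfsg.Agent.S0228

set_option autoImplicit false

/-! `A₄` and `PSL₂(2ⁿ)`. -/

namespace Cfsg.Agent.H9.A4Char2

open Matrix
open Cfsg.Agent.H9.AutPSL2 (pr pr_eq_iff pr_surjective)
open Cfsg.Agent.H9.KleinPSL2

variable {F : Type*} [Field F]

local notation "SL2" => Matrix.SpecialLinearGroup (Fin 2) F
local notation "PSL2" => Matrix.ProjectiveSpecialLinearGroup (Fin 2) F

/-- the commutant of a non-scalar element is spanned by `1` and the element -/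
theorem exists_lin_of_commute (x g : SL2)
    (hx : ¬ ∃ a : F, (x : Matrix (Fin 2) (Fin 2) F) = a • (1 : Matrix (Fin 2) (Fin 2) F))
    (hg : g * x = x * g) :
    ∃ α β : F, g.1 = α • (1 : Matrix (Fin 2) (Fin 2) F) + β • x.1 := by
  have hg' : g.1 * x.1 = x.1 * g.1 := congrArg Subtype.val hg
  have g00 := congrFun (congrFun hg' 0) 0
  have g01 := congrFun (congrFun hg' 0) 1
  have g10 := congrFun (congrFun hg' 1) 0
  have g11 := congrFun (congrFun hg' 1) 1
  simp only [Matrix.mul_apply, Fin.sum_univ_two] at g00 g01 g10 g11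
  have hns : x.1 0 1 ≠ 0 ∨ x.1 1 0 ≠ 0 ∨ x.1 0 0 ≠ x.1 1 1 := by
    by_contra hcon
    push Not at hcon
    obtain ⟨c1, c2, c3⟩ := hcon
    apply hx
    refine ⟨x.1 0 0, ?_⟩
    ext i j
    fin_cases i <;> fin_cases j <;> simp [c1, c2, c3]
  rcases hns with hb | hc | had
  · refine ⟨g.1 0 0 - g.1 0 1 / x.1 0 1 * x.1 0 0, g.1 0 1 / x.1 0 1, ?_⟩
    ext i j
    fin_cases i <;> fin_cases j <;>
      simp only [Matrix.add_apply, Matrix.smul_apply, Matrix.one_apply_eq, smul_eq_mul,
        Fin.zero_eta, Fin.mk_one, Fin.isValue, ne_eq, not_false_eq_true, Matrix.one_apply_ne,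
        zero_ne_one, one_ne_zero, mul_zero, mul_one, zero_add] <;>
      field_simp <;> grind
  · refine ⟨g.1 0 0 - g.1 1 0 / x.1 1 0 * x.1 0 0, g.1 1 0 / x.1 1 0, ?_⟩
    ext i j
    fin_cases i <;> fin_cases j <;>
      simp only [Matrix.add_apply, Matrix.smul_apply, Matrix.one_apply_eq, smul_eq_mul,
        Fin.zero_eta, Fin.mk_one, Fin.isValue, ne_eq, not_false_eq_true, Matrix.one_apply_ne,
        zero_ne_one, one_ne_zero, mul_zero, mul_one, zero_add] <;>
      field_simp <;> grind
  · have hsub : x.1 0 0 - x.1 1 1 ≠ 0 := sub_ne_zero.2 had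
    by_cases hb : x.1 0 1 = 0
    · by_cases hc : x.1 1 0 = 0
      · refine ⟨g.1 0 0 - (g.1 0 0 - g.1 1 1) / (x.1 0 0 - x.1 1 1) * x.1 0 0,
          (g.1 0 0 - g.1 1 1) / (x.1 0 0 - x.1 1 1), ?_⟩
        rw [hb] at g01
        rw [hc] at g10
        have h01 : g.1 0 1 = 0 := by
          have : g.1 0 1 * (x.1 0 0 - x.1 1 1) = 0 := by linear_combination -g01
          rcases mul_eq_zero.1 this with h | h
          · exact h
          · exact absurd h hsub
        have h10 : g.1 1 0 = 0 := by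
          have : g.1 1 0 * (x.1 0 0 - x.1 1 1) = 0 := by linear_combination g10
          rcases mul_eq_zero.1 this with h | h
          · exact h
          · exact absurd h hsub
        ext i j
        fin_cases i <;> fin_cases j <;>
          simp only [Matrix.add_apply, Matrix.smul_apply, Matrix.one_apply_eq, smul_eq_mul,
            Fin.zero_eta, Fin.mk_one, Fin.isValue, ne_eq, not_false_eq_true, Matrix.one_apply_ne,
            zero_ne_one, one_ne_zero, mul_zero, mul_one, zero_add, hb, hc, h01, h10] <;>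
          field_simp <;> ring
      · refine ⟨g.1 0 0 - g.1 1 0 / x.1 1 0 * x.1 0 0, g.1 1 0 / x.1 1 0, ?_⟩
        ext i j
        fin_cases i <;> fin_cases j <;>
          simp only [Matrix.add_apply, Matrix.smul_apply, Matrix.one_apply_eq, smul_eq_mul,
            Fin.zero_eta, Fin.mk_one, Fin.isValue, ne_eq, not_false_eq_true, Matrix.one_apply_ne,
            zero_ne_one, one_ne_zero, mul_zero, mul_one, zero_add] <;>
          field_simp <;> grind
    · refine ⟨g.1 0 0 - g.1 0 1 / x.1 0 1 * x.1 0 0, g.1 0 1 / x.1 0 1, ?_⟩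
      ext i j
      fin_cases i <;> fin_cases j <;>
        simp only [Matrix.add_apply, Matrix.smul_apply, Matrix.one_apply_eq, smul_eq_mul,
          Fin.zero_eta, Fin.mk_one, Fin.isValue, ne_eq, not_false_eq_true, Matrix.one_apply_ne,
          zero_ne_one, one_ne_zero, mul_zero, mul_one, zero_add] <;>
        field_simp <;> grind

/-- in characteristic two without cube roots of unity, an element of order three normalizing
a four-group centralizes it (matrix form) -/
theorem no_config (h2 : (2 : F) = 0) (h3 : ∀ c : F, c ^ 3 = 1 → c = 1) (g1 gw : SL2)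
    (h11 : g1 * g1 = 1) (hne : g1 ≠ 1) (hw : gw * gw * gw = 1)
    (hcomm : (gw * g1 * gw⁻¹) * g1 = g1 * (gw * g1 * gw⁻¹)) : gw * g1 * gw⁻¹ = g1 := by
  have hneg : (-1 : F) = 1 := by linear_combination -h2
  have hnegM : ∀ A : Matrix (Fin 2) (Fin 2) F, -A = A := by
    intro A
    have : A + A = 0 := by rw [← two_smul F A, h2, zero_smul]
    exact (eq_neg_of_add_eq_zero_left this).symm
  have hns : ¬ ∃ a : F, (g1 : Matrix (Fin 2) (Fin 2) F) = a • (1 : Matrix (Fin 2) (Fin 2) F) := by
    rintro ⟨a, ha⟩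
    have hdet := g1.2
    rw [ha, Matrix.det_smul, Matrix.det_one, Fintype.card_fin, mul_one] at hdet
    have ha2 : (a - 1) * (a + 1) = 0 := by linear_combination hdet
    have ha1 : a = 1 := by
      rcases mul_eq_zero.1 ha2 with h | h
      · linear_combination h
      · linear_combination h - h2
    apply hne
    apply Subtype.ext
    rw [ha, ha1, one_smul]
    rfl
  set g2 := gw * g1 * gw⁻¹ with hg2
  have h22 : g2 * g2 = 1 := by
    rw [hg2]
    calc gw * g1 * gw⁻¹ * (gw * g1 * gw⁻¹) = gw * (g1 * g1) * gw⁻¹ := by group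
      _ = 1 := by rw [h11]; group
  obtain ⟨α, β, hαβ⟩ := exists_lin_of_commute g1 g2 hns hcomm
  have hM1 : g1.1 * g1.1 = 1 := congrArg Subtype.val h11
  have hM2 : g2.1 * g2.1 = 1 := congrArg Subtype.val h22
  have hsq : α * α + β * β = 1 := by
    have e : g2.1 * g2.1 = (α * α + β * β) • (1 : Matrix (Fin 2) (Fin 2) F) +
        (α * β + α * β) • g1.1 := by
      rw [hαβ]
      simp only [Matrix.add_mul, Matrix.mul_add, Matrix.smul_mul, Matrix.mul_smul, Matrix.one_mul,
        Matrix.mul_one, hM1]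
      module
    have h0 : α * β + α * β = 0 := by linear_combination (α * β) * h2
    rw [hM2, h0, zero_smul, add_zero] at e
    have e00 := congrFun (congrFun e 0) 0
    simp only [Matrix.one_apply_eq, Matrix.smul_apply, smul_eq_mul, mul_one] at e00
    exact e00.symm
  have hα : α = β + 1 := by
    have : (α + β + 1) * (α + β + 1) = 0 := by
      linear_combination hsq + (α * β + α + β + 1) * h2
    have h0 := mul_self_eq_zero.1 this
    linear_combination h0 - (β + 1) * h2
  set W := gw.1 with hW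
  set N := g1.1 + 1 with hN
  have hg2N : g2.1 + 1 = β • N := by
    rw [hαβ, hα, hN, smul_add, add_smul, one_smul]
    have : β • (1 : Matrix (Fin 2) (Fin 2) F) + 1 + β • g1.1 + 1 =
        β • g1.1 + β • 1 + ((1 : Matrix (Fin 2) (Fin 2) F) + 1) := by abel
    rw [this]
    have h11' : (1 : Matrix (Fin 2) (Fin 2) F) + 1 = 0 := by
      rw [← two_smul F (1 : Matrix (Fin 2) (Fin 2) F), h2, zero_smul]
    rw [h11', add_zero]
  have hrel : g2.1 * W = W * g1.1 := by
    have : g2 * gw = gw * g1 := by rw [hg2]; group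
    exact congrArg Subtype.val this
  have s1 : W * N = β • (N * W) := by
    rw [← Matrix.smul_mul, ← hg2N, Matrix.add_mul, hrel, hN, Matrix.mul_add, Matrix.one_mul,
      Matrix.mul_one]
  have hW3 : W * W * W = 1 := congrArg Subtype.val hw
  have s2 : W * (W * N) = (β * β) • (N * W * W) := by
    rw [s1, Matrix.mul_smul, ← Matrix.mul_assoc, s1, Matrix.smul_mul, smul_smul]
  have s3 : W * (W * (W * N)) = (β * β * β) • (N * W * W * W) := by
    rw [s2, Matrix.mul_smul, ← Matrix.mul_assoc, ← Matrix.mul_assoc, s1, Matrix.smul_mul,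
      Matrix.smul_mul, smul_smul]
  have hN3 : N = (β * β * β) • N := by
    have e1 : W * (W * (W * N)) = N := by
      rw [← Matrix.mul_assoc, ← Matrix.mul_assoc, hW3, Matrix.one_mul]
    have e2 : N * W * W * W = N := by
      rw [Matrix.mul_assoc, Matrix.mul_assoc, ← Matrix.mul_assoc W, hW3, Matrix.mul_one]
    rw [e1, e2] at s3
    exact s3
  have hN0 : N ≠ 0 := by
    intro h0
    apply hne
    apply Subtype.ext
    have : g1.1 = -1 := eq_neg_of_add_eq_zero_left h0
    rw [this, hnegM]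
    rfl
  have hβ : β = 1 := by
    apply h3
    have : (β * β * β - 1) • N = 0 := by
      rw [sub_smul, one_smul, ← hN3, sub_self]
    rcases smul_eq_zero.1 this with h | h
    · linear_combination h
    · exact absurd h hN0
  apply Subtype.ext
  have : g2.1 + 1 = g1.1 + 1 := by rw [hg2N, hβ, one_smul]
  exact add_right_cancel this

theorem neg_eq_self (h2 : (2 : F) = 0) (y : SL2) : -y = y := by
  apply Subtype.ext
  rw [neg_val]
  have : y.1 + y.1 = 0 := by rw [← two_smul F y.1, h2, zero_smul]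
  exact (eq_neg_of_add_eq_zero_left this).symm

theorem pr_injective (h2 : (2 : F) = 0) : Function.Injective (pr : SL2 →* PSL2) := by
  intro x y hxy
  rw [pr_eq_iff] at hxy
  rcases hxy with h | h
  · exact h
  · rw [h, neg_eq_self h2]

/-- the configuration inside `A₄` -/
theorem a4_config : ∃ a c : alternatingGroup (Fin 4), a * a = 1 ∧ a ≠ 1 ∧ c * c * c = 1 ∧
    (c * a * c⁻¹) * a = a * (c * a * c⁻¹) ∧ c * a * c⁻¹ ≠ a := by
  refine ⟨⟨Equiv.swap 0 1 * Equiv.swap 2 3, Equiv.Perm.mem_alternatingGroup.2 (by decide)⟩,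
    ⟨Equiv.swap 0 1 * Equiv.swap 1 2, Equiv.Perm.mem_alternatingGroup.2 (by decide)⟩, ?_⟩
  decide

/-- no `A₄` in `PSL₂(2ⁿ)`, `n` odd -/
theorem no_A4 (h2 : (2 : F) = 0) (h3 : ∀ c : F, c ^ 3 = 1 → c = 1) :
    ¬ ∃ H : Subgroup PSL2, Nonempty (H ≃* alternatingGroup (Fin 4)) := by
  rintro ⟨H, ⟨e⟩⟩
  obtain ⟨a, c, haa, ha1, hccc, hcomm, hne⟩ := a4_config
  have hψ : Function.Injective (H.subtype.comp e.symm.toMonoidHom) := by
    intro x y hxy
    exact e.symm.injective (H.subtype_injective hxy)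
  set ψ := H.subtype.comp e.symm.toMonoidHom with hψdef
  obtain ⟨g1, hg1⟩ := pr_surjective (ψ a)
  obtain ⟨gw, hgw⟩ := pr_surjective (ψ c)
  have hinj := pr_injective (F := F) h2
  have h11 : g1 * g1 = 1 := by
    apply hinj
    rw [map_mul, hg1, ← map_mul, haa, map_one, map_one]
  have hne1 : g1 ≠ 1 := by
    intro h
    apply ha1
    apply hψ
    rw [← hg1, h, map_one, map_one]
  have hw : gw * gw * gw = 1 := by
    apply hinj
    rw [map_mul, map_mul, hgw, ← map_mul, ← map_mul, hccc, map_one, map_one]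
  have hconj : pr (gw * g1 * gw⁻¹) = ψ (c * a * c⁻¹) := by
    rw [map_mul, map_mul, map_inv, hg1, hgw, map_mul, map_mul, map_inv]
  have hc' : (gw * g1 * gw⁻¹) * g1 = g1 * (gw * g1 * gw⁻¹) := by
    apply hinj
    have e1 : pr (gw * g1 * gw⁻¹ * g1) = ψ (c * a * c⁻¹ * a) := by
      rw [map_mul, hconj, hg1, ← map_mul]
    have e2 : pr (g1 * (gw * g1 * gw⁻¹)) = ψ (a * (c * a * c⁻¹)) := by
      rw [map_mul, hconj, hg1, ← map_mul]
    rw [e1, e2, hcomm]
  have := no_config h2 h3 g1 gw h11 hne1 hw hc'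
  apply hne
  apply hψ
  rw [← hconj, this, hg1]

end Cfsg.Agent.H9.A4Char2
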