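import Mathlib
import Cfsg.Agent.H9.A4Char2

set_option autoImplicit false

/-! A copy of `A₄` inside `PSL₂(4ᵐ)`. -/

namespace Cfsg.Agent.H9.A4Char2

open Matrix
open Cfsg.Agent.H9.AutPSL2 (pr pr_eq_iff pr_surjective mul_00 mul_01 mul_10 mul_11 inv_00 inv_01
  inv_10 inv_11 ext4 det_eq)
open Cfsg.Agent.H9.KleinPSL2

variable {F : Type*} [Field F]

local notation "SL2" => Matrix.SpecialLinearGroup (Fin 2) F
local notation "PSL2" => Matrix.ProjectiveSpecialLinearGroup (Fin 2) F

theorem add_pow_four (h2 : (2 : F) = 0) (x y : F) : (x + y) ^ 4 = x ^ 4 + y ^ 4 := by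
  linear_combination (2 * x ^ 3 * y + 3 * x ^ 2 * y ^ 2 + 2 * x * y ^ 3) * h2

/-- the Borel subgroup of `SL₂(𝔽₄)` inside `SL₂(F)` -/
def B4 (h2 : (2 : F) = 0) : Subgroup SL2 where
  carrier := {g | g.1 1 0 = 0 ∧ g.1 0 0 ^ 3 = 1 ∧ g.1 0 1 ^ 4 = g.1 0 1}
  mul_mem' := by
    rintro g h ⟨g1, g2, g3⟩ ⟨h1, h2', h3'⟩
    have hdet := det_eq h
    rw [h1, mul_zero, sub_zero] at hdet
    have h11 : h.1 1 1 ^ 4 = h.1 1 1 := by
      have : h.1 1 1 ^ 3 = 1 := by
        calc h.1 1 1 ^ 3 = (h.1 0 0 * h.1 1 1) ^ 3 := by rw [mul_pow, h2', one_mul]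
          _ = 1 := by rw [hdet, one_pow]
      rw [pow_succ, this, one_mul]
    have g00 : g.1 0 0 ^ 4 = g.1 0 0 := by rw [pow_succ, g2, one_mul]
    refine ⟨?_, ?_, ?_⟩
    · rw [mul_10, g1, h1, zero_mul, mul_zero, add_zero]
    · rw [mul_00, h1, mul_zero, add_zero, mul_pow, g2, h2', one_mul]
    · rw [mul_01, add_pow_four h2, mul_pow, mul_pow, g00, h3', g3, h11]
  one_mem' := by
    refine ⟨?_, ?_, ?_⟩ <;> simp
  inv_mem' := by
    rintro g ⟨g1, g2, g3⟩
    have hdet := det_eq g
    rw [g1, mul_zero, sub_zero] at hdet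
    refine ⟨?_, ?_, ?_⟩
    · rw [inv_10, g1, neg_zero]
    · rw [inv_00]
      calc g.1 1 1 ^ 3 = (g.1 0 0 * g.1 1 1) ^ 3 := by rw [mul_pow, g2, one_mul]
        _ = 1 := by rw [hdet, one_pow]
    · rw [inv_01]
      have : (-g.1 0 1) ^ 4 = g.1 0 1 ^ 4 := by ring
      rw [this, g3]
      have hneg : (-1 : F) = 1 := by linear_combination -h2
      calc g.1 0 1 = (-1) * (-g.1 0 1) := by ring
        _ = -g.1 0 1 := by rw [hneg, one_mul]

theorem mem_B4 (h2 : (2 : F) = 0) (g : SL2) :
    g ∈ B4 h2 ↔ g.1 1 0 = 0 ∧ g.1 0 0 ^ 3 = 1 ∧ g.1 0 1 ^ 4 = g.1 0 1 := Iff.rfl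

section omega

variable (h2 : (2 : F) = 0) (ω : F) (hω : ω ^ 2 + ω + 1 = 0)

include h2 hω in
theorem omega_facts : ω ≠ 0 ∧ ω ≠ 1 ∧ ω ^ 3 = 1 := by
  refine ⟨?_, ?_, ?_⟩
  · rintro rfl
    have : (1 : F) = 0 := by linear_combination hω
    exact one_ne_zero this
  · rintro rfl
    have : (1 : F) = 0 := by linear_combination hω - h2
    exact one_ne_zero this
  · linear_combination (ω - 1) * hω

include h2 hω in
theorem cube_roots [DecidableEq F] : {a : F | a ^ 3 = 1} = (({1, ω, ω + 1} : Finset F) : Set F) := by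
  ext a
  simp only [Set.mem_setOf_eq, Finset.coe_insert, Finset.coe_singleton, Set.mem_insert_iff,
    Set.mem_singleton_iff]
  constructor
  · intro h
    have : (a - 1) * (a - ω) * (a - (ω + 1)) = 0 := by
      linear_combination h + (a - 1) * hω + (-(ω + 1) * a ^ 2 + ω * a + 1) * h2
    rcases mul_eq_zero.1 this with h' | h'
    · rcases mul_eq_zero.1 h' with h'' | h''
      · left; linear_combination h''
      · right; left; linear_combination h''
    · right; right; linear_combination h'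
  · rintro (h | h | h) <;> rw [h]
    · simp
    · exact (omega_facts h2 ω hω).2.2
    · linear_combination (ω + 2) * hω - h2

include h2 hω in
theorem card_cube_roots : Nat.card {a : F // a ^ 3 = 1} = 3 := by
  classical
  obtain ⟨h0, h1, -⟩ := omega_facts h2 ω hω
  show Nat.card ({a : F | a ^ 3 = 1} : Set F) = 3
  rw [Nat.card_coe_set_eq, cube_roots h2 ω hω, Set.ncard_coe_finset,
    Finset.card_insert_of_notMem, Finset.card_insert_of_notMem, Finset.card_singleton]
  · simp
  · simp only [Finset.mem_insert, Finset.mem_singleton, not_or]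
    refine ⟨fun h => h1 h.symm, fun h => h0 ?_⟩
    linear_combination -h

include h2 hω in
theorem four_roots [DecidableEq F] :
    {b : F | b ^ 4 = b} = (({0, 1, ω, ω + 1} : Finset F) : Set F) := by
  ext b
  simp only [Set.mem_setOf_eq, Finset.coe_insert, Finset.coe_singleton, Set.mem_insert_iff,
    Set.mem_singleton_iff]
  have hc := cube_roots h2 ω hω
  constructor
  · intro h
    by_cases hb : b = 0
    · left; exact hb
    · right
      have h3 : b ^ 3 = 1 := by
        have : b * (b ^ 3 - 1) = 0 := by linear_combination h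
        rcases mul_eq_zero.1 this with h' | h'
        · exact absurd h' hb
        · linear_combination h'
      have : b ∈ {a : F | a ^ 3 = 1} := h3
      rw [hc] at this
      simpa using this
  · rintro (h | h)
    · rw [h]; simp
    · have : b ∈ {a : F | a ^ 3 = 1} := by
        rw [hc]
        simpa using h
      have h3 : b ^ 3 = 1 := this
      rw [pow_succ, h3, one_mul]

include h2 hω in
theorem card_four_roots : Nat.card {b : F // b ^ 4 = b} = 4 := by
  classical
  obtain ⟨h0, h1, -⟩ := omega_facts h2 ω hω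
  show Nat.card ({b : F | b ^ 4 = b} : Set F) = 4
  rw [Nat.card_coe_set_eq, four_roots h2 ω hω, Set.ncard_coe_finset,
    Finset.card_insert_of_notMem, Finset.card_insert_of_notMem, Finset.card_insert_of_notMem,
    Finset.card_singleton]
  · simp
  · simp only [Finset.mem_insert, Finset.mem_singleton, not_or]
    refine ⟨fun h => h1 h.symm, fun h => h0 ?_⟩
    linear_combination -h
  · simp only [Finset.mem_insert, Finset.mem_singleton, not_or]
    refine ⟨zero_ne_one, fun h => h0 h.symm, fun h => ?_⟩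
    apply h1
    have hneg : (-1 : F) = 1 := by linear_combination -h2
    linear_combination -h + hneg

end omega

/-- upper triangular elements -/
def bor (a b : F) (h : a ^ 3 = 1) : SL2 :=
  ⟨!![a, b; 0, a ^ 2], by rw [Matrix.det_fin_two_of]; linear_combination h⟩

@[simp] theorem bor_00 (a b : F) (h : a ^ 3 = 1) : (bor a b h).1 0 0 = a := rfl
@[simp] theorem bor_01 (a b : F) (h : a ^ 3 = 1) : (bor a b h).1 0 1 = b := rfl
@[simp] theorem bor_10 (a b : F) (h : a ^ 3 = 1) : (bor a b h).1 1 0 = 0 := rfl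
@[simp] theorem bor_11 (a b : F) (h : a ^ 3 = 1) : (bor a b h).1 1 1 = a ^ 2 := rfl

theorem bor_mem (h2 : (2 : F) = 0) (a b : F) (h : a ^ 3 = 1) (hb : b ^ 4 = b) :
    bor a b h ∈ B4 h2 := ⟨rfl, h, hb⟩

theorem eq_bor (h2 : (2 : F) = 0) (g : SL2) (hg : g ∈ B4 h2) :
    g = bor (g.1 0 0) (g.1 0 1) hg.2.1 := by
  obtain ⟨g1, g2, g3⟩ := hg
  have hdet := det_eq g
  rw [g1, mul_zero, sub_zero] at hdet
  apply ext4
  · rfl
  · rfl
  · exact g1
  · rw [bor_11]
    calc g.1 1 1 = g.1 1 1 * g.1 0 0 ^ 3 := by rw [g2, mul_one]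
      _ = (g.1 0 0 * g.1 1 1) * g.1 0 0 ^ 2 := by ring
      _ = g.1 0 0 ^ 2 := by rw [hdet, one_mul]

theorem card_B4 [Fintype F] (h2 : (2 : F) = 0) (ω : F) (hω : ω ^ 2 + ω + 1 = 0) :
    Nat.card (B4 (F := F) h2) = 12 := by
  have e : B4 (F := F) h2 ≃ {a : F // a ^ 3 = 1} × {b : F // b ^ 4 = b} :=
    { toFun := fun g => (⟨g.1.1 0 0, g.2.2.1⟩, ⟨g.1.1 0 1, g.2.2.2⟩)
      invFun := fun p => ⟨bor p.1.1 p.2.1 p.1.2, bor_mem h2 _ _ p.1.2 p.2.2⟩
      left_inv := fun g => by
        apply Subtype.ext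
        exact (eq_bor h2 g.1 g.2).symm
      right_inv := fun p => rfl }
  rw [Nat.card_congr e, Nat.card_prod, card_cube_roots h2 ω hω, card_four_roots h2 ω hω]

/-- `A₄ ≤ PSL₂(F)` in characteristic two when `F` contains a primitive cube root of unity -/
theorem exists_A4_even [Fintype F] (h2 : (2 : F) = 0) (ω : F) (hω : ω ^ 2 + ω + 1 = 0) :
    ∃ H : Subgroup PSL2, Nonempty (H ≃* alternatingGroup (Fin 4)) := by
  obtain ⟨hω0, hω1, hω3⟩ := omega_facts h2 ω hω
  have hcard := card_B4 h2 ω hω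
  have hz : ∀ z : B4 (F := F) h2, orderOf z = 2 → z ∉ Subgroup.center (B4 (F := F) h2) := by
    intro z hz2 hzc
    have hz1 : z ≠ 1 := by
      intro h1
      rw [h1, orderOf_one] at hz2
      omega
    have hzz : z.1 * z.1 = 1 := by
      have : z ^ 2 = 1 := by
        have := pow_orderOf_eq_one z
        rwa [hz2] at this
      rw [pow_two] at this
      exact congrArg Subtype.val this
    obtain ⟨g1, g2, g3⟩ := z.2
    have hcomm := Subgroup.mem_center_iff.1 hzc ⟨bor ω 0 hω3, bor_mem h2 _ _ hω3 (by ring)⟩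
    have hcomm' : bor ω 0 hω3 * z.1 = z.1 * bor ω 0 hω3 := congrArg Subtype.val hcomm
    have e01 := congrArg (fun g : SL2 => g.1 0 1) hcomm'
    simp only [mul_01, bor_00, bor_01, bor_11] at e01
    have h01 : z.1.1 0 1 = 0 := by
      have : z.1.1 0 1 * (ω * (ω - 1)) = 0 := by linear_combination -e01
      rcases mul_eq_zero.1 this with h | h
      · exact h
      · exfalso
        rcases mul_eq_zero.1 h with h' | h'
        · exact hω0 h'
        · exact hω1 (by linear_combination h')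
    have e00 := congrArg (fun g : SL2 => g.1 0 0) hzz
    simp only [mul_00] at e00
    rw [g1, mul_zero, add_zero] at e00
    have h00 : z.1.1 0 0 = 1 := by
      have h1 : (1 : SL2).1 0 0 = 1 := by simp
      rw [h1] at e00
      have : (z.1.1 0 0 - 1) * (z.1.1 0 0 - 1) = 0 := by
        linear_combination e00 - (z.1.1 0 0 - 1) * h2
      have := mul_self_eq_zero.1 this
      linear_combination this
    apply hz1
    apply Subtype.ext
    rw [eq_bor h2 z.1 z.2]
    apply ext4 <;> simp [h00, h01]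
  obtain ⟨e1⟩ := Cfsg.Agent.S0228.result hcard hz
  exact ⟨(B4 (F := F) h2).map pr,
    ⟨(((B4 (F := F) h2).equivMapOfInjective pr (pr_injective h2)).symm).trans e1⟩⟩

end Cfsg.Agent.H9.A4Char2
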