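import Mathlib
import Cfsg.Agent.H9.KleinGeneral

set_option autoImplicit false

/-! The normalizer of a self-centralizing Klein four subgroup. -/

namespace Cfsg.Agent.H9.KleinNormGen

open Cfsg.Agent.H9.KleinGeneral

variable {G : Type*} [Group G] [Finite G]

theorem conj_ne_one {n v : G} (hv : v ≠ 1) : n * v * n⁻¹ ≠ 1 := by
  intro h
  apply hv
  have : v = n⁻¹ * (n * v * n⁻¹) * n := by group
  rw [this, h]
  group

/-- the order of the normalizer of a self-centralizing Klein four subgroup divides `24` -/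
theorem card_normalizer_dvd (V : Subgroup G) [hV : IsKleinFour V]
    (hC : ∀ c : G, (∀ v ∈ V, c * v = v * c) → c ∈ V) :
    Nat.card (Subgroup.normalizer (V : Set G)) ∣ 24 := by
  classical
  have hcommV : ∀ a ∈ V, ∀ b ∈ V, a * b = b * a := by
    intro a ha b hb
    haveI := IsKleinFour.isMulCommutative (G := V)
    exact congrArg Subtype.val (mul_comm' (⟨a, ha⟩ : V) ⟨b, hb⟩)
  have hT : Nat.card {v : G // v ∈ V ∧ v ≠ 1} = 3 := by
    have hV4 : (V : Set G).ncard = 4 := by
      rw [← Nat.card_coe_set_eq]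
      exact hV.card_four
    have : ({v : G | v ∈ V ∧ v ≠ 1} : Set G) = (V : Set G) \ {1} := by
      ext v; simp
    show Nat.card ({v : G | v ∈ V ∧ v ≠ 1} : Set G) = 3
    rw [Nat.card_coe_set_eq, this, Set.ncard_diff_singleton_of_mem V.one_mem, hV4]
  let φ : Subgroup.normalizer (V : Set G) →* Equiv.Perm {v : G // v ∈ V ∧ v ≠ 1} :=
    { toFun := fun n =>
        { toFun := fun v => ⟨n.1 * v.1 * n.1⁻¹,
            (Subgroup.mem_set_normalizer_iff.1 n.2 v.1).1 v.2.1, conj_ne_one v.2.2⟩
          invFun := fun v => ⟨n.1⁻¹ * v.1 * n.1, by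
            have := (Subgroup.mem_set_normalizer_iff.1 (Subgroup.inv_mem _ n.2) v.1).1 v.2.1
            rwa [inv_inv] at this, by
            have := conj_ne_one (n := n.1⁻¹) v.2.2
            rwa [inv_inv] at this⟩
          left_inv := fun v => by apply Subtype.ext; simp only; group
          right_inv := fun v => by apply Subtype.ext; simp only; group }
      map_one' := by
        ext v
        simp
      map_mul' := fun n m => by
        ext v
        simp only [Subgroup.coe_mul, Equiv.coe_fn_mk, Equiv.Perm.coe_mul, Function.comp_apply]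
        group }
  have hker : ∀ n : Subgroup.normalizer (V : Set G), n ∈ φ.ker ↔ n.1 ∈ V := by
    intro n
    rw [MonoidHom.mem_ker]
    constructor
    · intro h
      apply hC
      intro v hv
      by_cases hv1 : v = 1
      · rw [hv1, mul_one, one_mul]
      · have := congrArg (fun σ : Equiv.Perm {v : G // v ∈ V ∧ v ≠ 1} => (σ ⟨v, hv, hv1⟩).1) h
        simp only [φ, MonoidHom.coe_mk, OneHom.coe_mk, Equiv.coe_fn_mk, Equiv.Perm.coe_one,
          id_eq] at this
        calc n.1 * v = n.1 * v * n.1⁻¹ * n.1 := by group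
          _ = v * n.1 := by rw [this]
    · intro hn
      ext v
      simp only [φ, MonoidHom.coe_mk, OneHom.coe_mk, Equiv.coe_fn_mk, Equiv.Perm.coe_one, id_eq]
      rw [hcommV n.1 hn v.1 v.2.1]
      group
  have hcardker : Nat.card φ.ker = 4 := by
    rw [← hV.card_four]
    apply Nat.card_congr
    refine
      { toFun := fun n => ⟨n.1.1, (hker n.1).1 n.2⟩
        invFun := fun v => ⟨⟨v.1, Subgroup.le_normalizer v.2⟩, (hker _).2 v.2⟩
        left_inv := fun n => rfl
        right_inv := fun v => rfl }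
  have h1 := Subgroup.card_mul_index φ.ker
  rw [Subgroup.index_ker, hcardker] at h1
  have h2 : Nat.card φ.range ∣ 6 := by
    have := Subgroup.card_subgroup_dvd_card φ.range
    rwa [Nat.card_perm, hT] at this
  rw [← h1]
  obtain ⟨k, hk⟩ := h2
  refine ⟨k, ?_⟩
  have h24 : (24 : ℕ) = 4 * 6 := by norm_num
  rw [h24, hk, mul_assoc]

/-- an element of the normalizer outside `V` with square in `V` forces `8 ∣ |N|` -/
theorem eight_dvd (V : Subgroup G) [hV : IsKleinFour V] (s : G)
    (hs : s ∈ Subgroup.normalizer (V : Set G)) (hsV : s ∉ V) (hss : s * s ∈ V) :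
    8 ∣ Nat.card (Subgroup.normalizer (V : Set G)) := by
  haveI : (V.subgroupOf (Subgroup.normalizer (V : Set G))).Normal := Subgroup.normal_in_normalizer
  have h1 := Subgroup.card_eq_card_quotient_mul_card_subgroup
    (V.subgroupOf (Subgroup.normalizer (V : Set G)))
  have h4 : Nat.card (V.subgroupOf (Subgroup.normalizer (V : Set G))) = 4 := by
    rw [← hV.card_four]
    exact Nat.card_congr (Subgroup.subgroupOfEquivOfLe Subgroup.le_normalizer).toEquiv
  set q : (Subgroup.normalizer (V : Set G)) ⧸ (V.subgroupOf (Subgroup.normalizer (V : Set G))) :=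
    QuotientGroup.mk ⟨s, hs⟩ with hq
  have hq1 : q ≠ 1 := by
    intro h
    rw [hq, QuotientGroup.eq_one_iff, Subgroup.mem_subgroupOf] at h
    exact hsV h
  have hq2 : q ^ 2 = 1 := by
    rw [hq, ← QuotientGroup.mk_pow, QuotientGroup.eq_one_iff, Subgroup.mem_subgroupOf, pow_two]
    exact hss
  have hord : orderOf q = 2 := orderOf_eq_prime hq2 hq1
  have h2 : 2 ∣ Nat.card ((Subgroup.normalizer (V : Set G)) ⧸
      (V.subgroupOf (Subgroup.normalizer (V : Set G)))) := by
    rw [← hord]
    exact orderOf_dvd_natCard q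
  rw [h1, h4]
  obtain ⟨k, hk⟩ := h2
  exact ⟨k, by rw [hk]; ring⟩

/-- an element of order three in a subgroup -/
theorem three_dvd (N : Subgroup G) (g : G) (hg : g ∈ N) (hord : orderOf g = 3) :
    3 ∣ Nat.card N := by
  have := orderOf_dvd_natCard (⟨g, hg⟩ : N)
  rwa [← Subgroup.orderOf_coe, hord] at this

end Cfsg.Agent.H9.KleinNormGen
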