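import Mathlib
import Cfsg.Agent.H9.KleinPSL2
import Cfsg.Agent.H9.KleinNormGen
import Cfsg.Agent.H9.Hurwitz2

set_option autoImplicit false

/-! Normalizers of Klein four subgroups of `PSL₂(q)`, `q` odd. -/

namespace Cfsg.Agent.H9.KleinNorm

open Matrix
open Cfsg.Agent.H9.AutPSL2 (pr pr_eq_iff pr_surjective mem_center_iff')
open Cfsg.Agent.H9.KleinGeneral Cfsg.Agent.H9.KleinPSL2 Cfsg.Agent.H9.KleinNormGen
open Cfsg.Agent.S2431 (negOne_ne_one eq_of_sq_eq_one)

variable {F : Type*} [Field F] [Fintype F]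

local notation "SL2" => Matrix.SpecialLinearGroup (Fin 2) F
local notation "PSL2" => Matrix.ProjectiveSpecialLinearGroup (Fin 2) F

/-- every Klein four subgroup comes from an anticommuting pair -/
theorem exists_pair (h2 : (2 : F) ≠ 0) (V : Subgroup PSL2) [hV : IsKleinFour V] :
    ∃ X Y : SL2, X * Y = -(Y * X) ∧ Subgroup.closure ({pr X, pr Y} : Set PSL2) = V := by
  have hV4 : (V : Set PSL2).ncard = 4 := by
    rw [← Nat.card_coe_set_eq]
    exact hV.card_four
  obtain ⟨a, haV, ha⟩ := Set.exists_mem_notMem_of_ncard_lt_ncard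
    (s := ({1} : Set PSL2)) (t := (V : Set PSL2)) (by rw [Set.ncard_singleton, hV4]; norm_num)
  obtain ⟨b, hbV, hb⟩ := Set.exists_mem_notMem_of_ncard_lt_ncard
    (s := ({1, a} : Set PSL2)) (t := (V : Set PSL2)) (by
      have := Set.ncard_insert_le (1 : PSL2) ({a} : Set PSL2)
      rw [Set.ncard_singleton] at this
      rw [hV4]
      omega)
  simp only [Set.mem_singleton_iff, Set.mem_insert_iff, not_or] at ha hb
  obtain ⟨X, rfl⟩ := pr_surjective a
  obtain ⟨Y, rfl⟩ := pr_surjective b
  have := (fiber_iff h2 V (X, Y)).2 ⟨⟨haV, ha⟩, hbV, hb.1, hb.2⟩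
  exact ⟨X, Y, this.1, this.2⟩

/-- only `±1` commutes with an anticommuting pair -/
theorem central_of_commute (h2 : (2 : F) ≠ 0) (X Y : SL2) (h : X * Y = -(Y * X)) (g : SL2)
    (hX : g * X = X * g) (hY : g * Y = Y * g) : g = 1 ∨ g = -1 := by
  obtain ⟨hXX, hYY⟩ := anti_sq h2 X Y h
  have m1 : X.1 * X.1 = -1 := by
    have := congrArg Subtype.val hXX
    simpa using this
  have m2 : Y.1 * Y.1 = -1 := by
    have := congrArg Subtype.val hYY
    simpa using this
  have m3 : X.1 * Y.1 = -(Y.1 * X.1) := by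
    have := congrArg Subtype.val h
    simpa using this
  obtain ⟨c, hc⟩ := Cfsg.Agent.H9.Q8Norm.scalar_of_commute h2 X Y m1 m2 m3 g.1
    (congrArg Subtype.val hX) (congrArg Subtype.val hY)
  have hdet := g.2
  rw [hc, Matrix.det_smul, Matrix.det_one, Fintype.card_fin, mul_one] at hdet
  have hc2 : (c - 1) * (c + 1) = 0 := by linear_combination hdet
  rcases mul_eq_zero.1 hc2 with h1 | h1
  · left
    apply Subtype.ext
    rw [hc, sub_eq_zero.1 h1, one_smul]
    rfl
  · right
    apply Subtype.ext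
    have : c = -1 := by linear_combination h1
    rw [hc, this]
    simp

/-- auxiliary case: `g` commutes with `Y` -/
theorem mem_of_commute_aux (h2 : (2 : F) ≠ 0) (X Y : SL2) (h : X * Y = -(Y * X)) (g : SL2)
    (hX : g * X = X * g ∨ g * X = -(X * g)) (hY : g * Y = Y * g) :
    pr g = 1 ∨ pr g = pr Y := by
  obtain ⟨hXX, hYY⟩ := anti_sq h2 X Y h
  have hYX : Y * X = -(X * Y) := anti_symm X Y h
  rcases hX with hX | hX
  · left
    rw [pr_eq_one_iff]
    exact central_of_commute h2 X Y h g hX hY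
  · right
    have h1 : (g * Y) * X = X * (g * Y) := by
      calc g * Y * X = g * (Y * X) := mul_assoc _ _ _
        _ = g * (-(X * Y)) := by rw [hYX]
        _ = -(g * X * Y) := by rw [mul_neg, mul_assoc]
        _ = -(-(X * g) * Y) := by rw [hX]
        _ = X * g * Y := by rw [neg_mul, neg_neg]
        _ = X * (g * Y) := mul_assoc _ _ _
    have h2' : (g * Y) * Y = Y * (g * Y) := by
      calc g * Y * Y = Y * g * Y := by rw [hY]
        _ = Y * (g * Y) := mul_assoc _ _ _
    rcases central_of_commute h2 X Y h (g * Y) h1 h2' with h3 | h3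
    · have : g = Y⁻¹ := eq_inv_of_mul_eq_one_left h3
      rw [this, inv_of_sq Y hYY, pr_neg]
    · have : g = -Y⁻¹ := by
        have : g = (g * Y) * Y⁻¹ := by group
        rw [this, h3, neg_mul, one_mul]
      rw [this, pr_neg, inv_of_sq Y hYY, pr_neg]

/-- an element of `PSL₂` centralizing the images of an anticommuting pair lies in their group -/
theorem mem_of_commute (h2 : (2 : F) ≠ 0) (X Y : SL2) (h : X * Y = -(Y * X)) (g : SL2)
    (hX : pr g * pr X = pr X * pr g) (hY : pr g * pr Y = pr Y * pr g) :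
    pr g = 1 ∨ pr g = pr X ∨ pr g = pr Y ∨ pr g = pr X * pr Y := by
  obtain ⟨hXX, hYY⟩ := anti_sq h2 X Y h
  obtain ⟨p1, p2, p3, -, -, -⟩ := pr_props h2 X Y h
  rw [← map_mul, ← map_mul, pr_eq_iff] at hX hY
  rcases hY with hY | hY
  · rcases mem_of_commute_aux h2 X Y h g hX hY with h1 | h1
    · left; exact h1
    · right; right; left; exact h1
  · have hY' : (g * X) * Y = Y * (g * X) := by
      calc g * X * Y = g * (X * Y) := mul_assoc _ _ _
        _ = g * (-(Y * X)) := by rw [h]
        _ = -(g * Y * X) := by rw [mul_neg, mul_assoc]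
        _ = -(-(Y * g) * X) := by rw [hY]
        _ = Y * g * X := by rw [neg_mul, neg_neg]
        _ = Y * (g * X) := mul_assoc _ _ _
    have hX' : (g * X) * X = X * (g * X) ∨ (g * X) * X = -(X * (g * X)) := by
      rcases hX with hX | hX
      · left
        calc g * X * X = X * g * X := by rw [hX]
          _ = X * (g * X) := mul_assoc _ _ _
      · right
        calc g * X * X = -(X * g) * X := by rw [hX]
          _ = -(X * (g * X)) := by rw [neg_mul, mul_assoc]
    have hgX : pr g = pr (g * X) * pr X := by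
      rw [map_mul, mul_assoc, p1, mul_one]
    rcases mem_of_commute_aux h2 X Y h (g * X) hX' hY' with h1 | h1
    · right; left
      rw [hgX, h1, one_mul]
    · right; right; right
      rw [hgX, h1, p3]

/-- Klein four subgroups of `PSL₂(q)` are self-centralizing -/
theorem centralizer_le (h2 : (2 : F) ≠ 0) (V : Subgroup PSL2) [hV : IsKleinFour V] (c : PSL2)
    (hc : ∀ v ∈ V, c * v = v * c) : c ∈ V := by
  obtain ⟨X, Y, h, hcl⟩ := exists_pair h2 V
  obtain ⟨g, rfl⟩ := pr_surjective c
  have hXV : pr X ∈ V := by rw [← hcl]; exact Subgroup.subset_closure (by simp)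
  have hYV : pr Y ∈ V := by rw [← hcl]; exact Subgroup.subset_closure (by simp)
  rcases mem_of_commute h2 X Y h g (hc _ hXV) (hc _ hYV) with h1 | h1 | h1 | h1 <;> rw [h1]
  · exact V.one_mem
  · exact hXV
  · exact hYV
  · exact V.mul_mem hXV hYV

/-- membership in the normalizer of a finite subgroup generated by two elements -/
theorem mem_normalizer_of_gens {G : Type*} [Group G] [Finite G] (a b n : G)
    (ha : n * a * n⁻¹ ∈ Subgroup.closure ({a, b} : Set G))
    (hb : n * b * n⁻¹ ∈ Subgroup.closure ({a, b} : Set G)) :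
    n ∈ Subgroup.normalizer ((Subgroup.closure ({a, b} : Set G) : Subgroup G) : Set G) := by
  rw [Subgroup.mem_normalizer_iff_map_conj_eq]
  apply Subgroup.eq_of_le_of_card_ge
  · rw [MonoidHom.map_closure, Subgroup.closure_le]
    rintro _ ⟨x, hx, rfl⟩
    rcases hx with rfl | rfl
    · exact ha
    · exact hb
  · rw [Subgroup.card_map_of_injective (MulAut.conj n).injective]

/-- trace `-1` elements have order dividing three -/
theorem cube_of_trace (g : SL2) (ht : g.1.trace = -1) : g * g * g = 1 := by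
  apply Subtype.ext
  show g.1 * g.1 * g.1 = 1
  have hch := Cfsg.Agent.H9.Q8GL2.cayley_hamilton g.1
  rw [g.2, ht] at hch
  rw [hch, Matrix.sub_mul, Matrix.smul_mul, hch]
  simp

theorem mat_facts (h2 : (2 : F) ≠ 0) (X Y : SL2) (h : X * Y = -(Y * X)) :
    X.1 * X.1 = -1 ∧ Y.1 * Y.1 = -1 ∧ X.1 * Y.1 = -(Y.1 * X.1) := by
  obtain ⟨hXX, hYY⟩ := anti_sq h2 X Y h
  refine ⟨?_, ?_, ?_⟩
  · have := congrArg Subtype.val hXX
    simpa using this
  · have := congrArg Subtype.val hYY
    simpa using this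
  · have := congrArg Subtype.val h
    simpa using this

/-- the Hurwitz element of order three normalizing the Klein four group of a pair -/
theorem exists_order_three (h2 : (2 : F) ≠ 0) (X Y : SL2) (h : X * Y = -(Y * X)) :
    ∃ g : PSL2, g ∈ Subgroup.normalizer
      ((Subgroup.closure ({pr X, pr Y} : Set PSL2) : Subgroup PSL2) : Set PSL2) ∧ orderOf g = 3 := by
  obtain ⟨m1, m2, m3⟩ := mat_facts h2 X Y h
  obtain ⟨hXX, hYY⟩ := anti_sq h2 X Y h
  obtain ⟨w, hw1, hw2, hwt⟩ := Cfsg.Agent.H9.Hurwitz2.exists_hurwitz_trace h2 X Y m1 m2 m3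
  refine ⟨pr w, ?_, ?_⟩
  · apply mem_normalizer_of_gens
    · have : pr w * pr X * (pr w)⁻¹ = pr X * pr Y := by
        rw [← map_mul, hw1, map_mul, map_mul, mul_inv_cancel_right]
      rw [this]
      exact Subgroup.mul_mem _ (Subgroup.subset_closure (by simp)) (Subgroup.subset_closure (by simp))
    · have : pr w * pr Y * (pr w)⁻¹ = pr X := by
        rw [← map_mul, hw2, map_mul, mul_inv_cancel_right]
      rw [this]
      exact Subgroup.subset_closure (by simp)
  · have h3 : (3 : ℕ).Prime := by norm_num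
    haveI := Fact.mk h3
    apply orderOf_eq_prime
    · rw [← map_pow, pow_succ, pow_two, cube_of_trace w hwt, map_one]
    · intro h1
      rw [pr_eq_one_iff] at h1
      have hcomm : w * X = X * w := by
        rcases h1 with rfl | rfl
        · rw [one_mul, mul_one]
        · rw [neg_mul, mul_neg, one_mul, mul_one]
      rw [hw1, mul_assoc] at hcomm
      have hcomm' := mul_left_cancel hcomm
      have : Y = 1 := by
        have := mul_right_cancel (b := w) (a := Y) (c := 1) (by rw [hcomm', one_mul])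
        exact this
      rw [this, mul_one] at hYY
      exact negOne_ne_one h2 hYY.symm

/-- the swap element `(X + Y)/√2` -/
def swapEl (h2 : (2 : F) ≠ 0) (X Y : SL2) (h : X * Y = -(Y * X)) (r : F) (hr : r * r = 2) : SL2 :=
  ⟨r⁻¹ • (X.1 + Y.1), by
    have hX11 := anti_trace h2 Y X (anti_symm X Y h)
    have hY11 := anti_trace h2 X Y h
    obtain ⟨m1, m2, m3⟩ := mat_facts h2 X Y h
    have e00 := congrFun (congrFun m3 0) 0
    simp only [Matrix.mul_apply, Fin.sum_univ_two, Matrix.neg_apply, Fin.isValue] at e00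
    have hdX := X.2
    have hdY := Y.2
    rw [Matrix.det_fin_two] at hdX hdY
    rw [hX11] at hdX
    rw [hY11] at hdY
    have hr0 : r ≠ 0 := by
      rintro rfl
      rw [mul_zero] at hr
      exact h2 hr.symm
    rw [Matrix.det_smul, Fintype.card_fin, Matrix.det_fin_two]
    simp only [Matrix.add_apply]
    rw [hX11, hY11]
    have hd : (X.1 0 0 + Y.1 0 0) * (-X.1 0 0 + -Y.1 0 0) -
        (X.1 0 1 + Y.1 0 1) * (X.1 1 0 + Y.1 1 0) = 2 := by
      linear_combination hdX + hdY - e00
    rw [hd, ← hr]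
    field_simp⟩

theorem swapEl_val (h2 : (2 : F) ≠ 0) (X Y : SL2) (h : X * Y = -(Y * X)) (r : F) (hr : r * r = 2) :
    (swapEl h2 X Y h r hr).1 = r⁻¹ • (X.1 + Y.1) := rfl

theorem swapEl_X (h2 : (2 : F) ≠ 0) (X Y : SL2) (h : X * Y = -(Y * X)) (r : F) (hr : r * r = 2) :
    swapEl h2 X Y h r hr * X = Y * swapEl h2 X Y h r hr := by
  obtain ⟨m1, m2, m3⟩ := mat_facts h2 X Y h
  apply Subtype.ext
  show (swapEl h2 X Y h r hr).1 * X.1 = Y.1 * (swapEl h2 X Y h r hr).1
  rw [swapEl_val, Matrix.smul_mul, Matrix.mul_smul, Matrix.add_mul, Matrix.mul_add, m1, m2, add_comm]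

theorem swapEl_Y (h2 : (2 : F) ≠ 0) (X Y : SL2) (h : X * Y = -(Y * X)) (r : F) (hr : r * r = 2) :
    swapEl h2 X Y h r hr * Y = X * swapEl h2 X Y h r hr := by
  obtain ⟨m1, m2, m3⟩ := mat_facts h2 X Y h
  apply Subtype.ext
  show (swapEl h2 X Y h r hr).1 * Y.1 = X.1 * (swapEl h2 X Y h r hr).1
  rw [swapEl_val, Matrix.smul_mul, Matrix.mul_smul, Matrix.add_mul, Matrix.mul_add, m1, m2, add_comm]

theorem swapEl_sq (h2 : (2 : F) ≠ 0) (X Y : SL2) (h : X * Y = -(Y * X)) (r : F) (hr : r * r = 2) :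
    swapEl h2 X Y h r hr * swapEl h2 X Y h r hr = -1 := by
  apply sq_of_trace
  have hX11 := anti_trace h2 Y X (anti_symm X Y h)
  have hY11 := anti_trace h2 X Y h
  rw [swapEl_val]
  simp only [Matrix.smul_apply, Matrix.add_apply, smul_eq_mul]
  rw [hX11, hY11]
  ring

/-- the normalizer of a Klein four subgroup has order `24` when `2` is a square -/
theorem card_normalizer_of_sq (h2 : (2 : F) ≠ 0) (r : F) (hr : r * r = 2) (V : Subgroup PSL2)
    [hV : IsKleinFour V] : Nat.card (Subgroup.normalizer (V : Set PSL2)) = 24 := by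
  obtain ⟨X, Y, h, hcl⟩ := exists_pair h2 V
  obtain ⟨p1, p2, p3, p4, p5, p6⟩ := pr_props h2 X Y h
  have hd := card_normalizer_dvd V (centralizer_le h2 V)
  obtain ⟨g, hgN, hg3⟩ := exists_order_three h2 X Y h
  rw [hcl] at hgN
  have h3 := three_dvd _ g hgN hg3
  set S := swapEl h2 X Y h r hr with hS
  have hSX : pr S * pr X * (pr S)⁻¹ = pr Y := by
    rw [← map_mul, hS, swapEl_X, map_mul, mul_inv_cancel_right]
  have hSY : pr S * pr Y * (pr S)⁻¹ = pr X := by
    rw [← map_mul, hS, swapEl_Y, map_mul, mul_inv_cancel_right]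
  have hXV : pr X ∈ V := by rw [← hcl]; exact Subgroup.subset_closure (by simp)
  have hYV : pr Y ∈ V := by rw [← hcl]; exact Subgroup.subset_closure (by simp)
  have hSN : pr S ∈ Subgroup.normalizer (V : Set PSL2) := by
    rw [← hcl]
    apply mem_normalizer_of_gens
    · rw [hSX]; exact Subgroup.subset_closure (by simp)
    · rw [hSY]; exact Subgroup.subset_closure (by simp)
  have hSV : pr S ∉ V := by
    intro hmem
    haveI := IsKleinFour.isMulCommutative (G := V)
    have hc := congrArg Subtype.val (mul_comm' (⟨pr S, hmem⟩ : V) ⟨pr X, hXV⟩)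
    simp only [Subgroup.coe_mul] at hc
    apply p6
    rw [← hSX, hc, mul_inv_cancel_right]
  have hSS : pr S * pr S ∈ V := by
    rw [← map_mul, hS, swapEl_sq, (pr_eq_one_iff _).2 (Or.inr rfl)]
    exact V.one_mem
  have h8 := eight_dvd V (pr S) hSN hSV hSS
  have hpos : 0 < Nat.card (Subgroup.normalizer (V : Set PSL2)) := Nat.card_pos
  obtain ⟨a, ha⟩ := hd
  obtain ⟨b, hb⟩ := h3
  obtain ⟨c, hc⟩ := h8
  have : a = 1 := by
    rcases a with _ | _ | a
    · omega
    · rfl
    · exfalso
      have : Nat.card (Subgroup.normalizer (V : Set PSL2)) ≤ 12 := by nlinarith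
      omega
  rw [this, mul_one] at ha
  exact ha.symm

end Cfsg.Agent.H9.KleinNorm
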