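import Mathlib
import Cfsg.Agent.H9.A4Char2B
import Cfsg.Agent.H9.KleinNorm
import Cfsg.Agent.S3377
import Cfsg.Agent.S0242

set_option autoImplicit false

/-! Copies of `A₅` inside `PSL₂(q)`. -/

namespace Cfsg.Agent.H9.A5inPSL2

open Matrix
open Cfsg.Agent.H9.AutPSL2 (pr pr_eq_iff pr_surjective mul_00 mul_01 mul_10 mul_11 inv_00 inv_01
  inv_10 inv_11 ext4 det_eq)
open Cfsg.Agent.H9.KleinPSL2

section general

variable {G : Type*} [Group G]

/-- a nontrivial `(3,5,2)`-generated subgroup is `A₅` -/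
theorem exists_A5_of_gens (a b : G) (ha : a ^ 3 = 1) (hb : b ^ 5 = 1) (hab : (a * b) ^ 2 = 1)
    (ha1 : a ≠ 1) : ∃ H : Subgroup G, Nonempty (H ≃* alternatingGroup (Fin 5)) := by
  obtain ⟨e⟩ := Cfsg.Agent.S3377.result
  have hrel : ∀ r ∈ ({FreeGroup.of (0 : Fin 2) ^ 3, FreeGroup.of (1 : Fin 2) ^ 5,
      (FreeGroup.of (0 : Fin 2) * FreeGroup.of 1) ^ 2} : Set (FreeGroup (Fin 2))),
      FreeGroup.lift ![a, b] r = 1 := by
    intro r hr
    rcases hr with rfl | rfl | rfl
    · simpa using ha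
    · simpa using hb
    · simpa using hab
  let ψ := PresentedGroup.toGroup hrel
  let φ : alternatingGroup (Fin 5) →* G := ψ.comp e.symm.toMonoidHom
  have hker : φ.ker = ⊥ := by
    haveI : IsSimpleGroup (alternatingGroup (Fin 5)) := alternatingGroup.isSimpleGroup_five
    rcases (φ.normal_ker).eq_bot_or_eq_top with h | h
    · exact h
    · exfalso
      apply ha1
      have h1 : e (PresentedGroup.of 0) ∈ φ.ker := by rw [h]; trivial
      rw [MonoidHom.mem_ker] at h1
      have h2 : φ (e (PresentedGroup.of 0)) = a := by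
        show ψ (e.symm (e (PresentedGroup.of 0))) = a
        rw [MulEquiv.symm_apply_apply]
        show PresentedGroup.toGroup hrel (PresentedGroup.of 0) = a
        rw [PresentedGroup.toGroup.of]
        rfl
      rw [← h2, h1]
  have hinj : Function.Injective φ := (MonoidHom.ker_eq_bot_iff φ).1 hker
  exact ⟨φ.range, ⟨(MonoidHom.ofInjective hinj).symm⟩⟩

end general

section sl2

variable {F : Type*} [Field F]

local notation "SL2" => Matrix.SpecialLinearGroup (Fin 2) F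
local notation "PSL2" => Matrix.ProjectiveSpecialLinearGroup (Fin 2) F

/-- elements of trace `τ` with `τ² + τ - 1 = 0` have order dividing five -/
theorem pow_five_of_trace (B : SL2) (τ : F) (hτ : τ ^ 2 + τ - 1 = 0) (ht : B.1.trace = τ) :
    B ^ 5 = 1 := by
  apply Subtype.ext
  have e5 : B ^ 5 = B * B * B * B * B := by
    simp [pow_succ]
  rw [e5]
  show B.1 * B.1 * B.1 * B.1 * B.1 = 1
  have h2 := Cfsg.Agent.H9.Q8GL2.cayley_hamilton B.1
  rw [B.2, ht, one_smul] at h2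
  have h3 : B.1 * B.1 * B.1 = (τ ^ 2 - 1) • B.1 - τ • (1 : Matrix (Fin 2) (Fin 2) F) := by
    rw [h2, Matrix.sub_mul, Matrix.smul_mul, h2, Matrix.one_mul]
    module
  have h4 : B.1 * B.1 * B.1 * B.1 =
      (τ ^ 3 - 2 * τ) • B.1 - (τ ^ 2 - 1) • (1 : Matrix (Fin 2) (Fin 2) F) := by
    rw [h3, Matrix.sub_mul, Matrix.smul_mul, Matrix.smul_mul, h2, Matrix.one_mul]
    module
  have h5 : B.1 * B.1 * B.1 * B.1 * B.1 =
      (τ ^ 4 - 3 * τ ^ 2 + 1) • B.1 - (τ ^ 3 - 2 * τ) • (1 : Matrix (Fin 2) (Fin 2) F) := by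
    rw [h4, Matrix.sub_mul, Matrix.smul_mul, Matrix.smul_mul, h2, Matrix.one_mul]
    module
  have c1 : τ ^ 4 - 3 * τ ^ 2 + 1 = 0 := by linear_combination (τ ^ 2 - τ - 1) * hτ
  have c2 : τ ^ 3 - 2 * τ = -1 := by linear_combination (τ - 1) * hτ
  rw [h5, c1, c2, zero_smul, zero_sub, neg_smul, neg_neg, one_smul]

variable [Fintype F]

/-- the `(3,5,2)` generators -/
theorem exists_A5_aux (a b τ : F) (hτ : τ ^ 2 + τ - 1 = 0)
    (hab : a ^ 2 + a + b ^ 2 - τ * b + 1 = 0) :
    ∃ H : Subgroup PSL2, Nonempty (H ≃* alternatingGroup (Fin 5)) := by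
  let A : SL2 := ⟨!![a, b; b - τ, -1 - a], by
    rw [Matrix.det_fin_two_of]; linear_combination -hab⟩
  let B : SL2 := A⁻¹ * X0
  have hA : A * A * A = 1 := by
    apply Cfsg.Agent.H9.KleinNorm.cube_of_trace
    rw [Matrix.trace_fin_two]
    show a + (-1 - a) = -1
    ring
  have hB : B ^ 5 = 1 := by
    apply pow_five_of_trace B τ hτ
    rw [Matrix.trace_fin_two, mul_00, mul_11, inv_00, inv_01, inv_10, inv_11]
    show (-1 - a) * (X0 : SL2).1 0 0 + -b * (X0 : SL2).1 1 0 +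
      (-(b - τ) * (X0 : SL2).1 0 1 + a * (X0 : SL2).1 1 1) = τ
    simp [X0]
  have hAB : A * B = X0 := by
    show A * (A⁻¹ * X0) = X0
    group
  apply exists_A5_of_gens (pr A) (pr B)
  · rw [← map_pow, pow_succ, pow_two, hA, map_one]
  · rw [← map_pow, hB, map_one]
  · rw [← map_mul, hAB, ← map_pow, pow_two, X0_sq, (pr_eq_one_iff _).2 (Or.inr rfl)]
  · intro h1
    rw [pr_eq_one_iff] at h1
    have hτ0 : τ ≠ 0 := by
      rintro rfl
      have : (1 : F) = 0 := by linear_combination -hτ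
      exact one_ne_zero this
    have e01 : A.1 0 1 = b := rfl
    have e10 : A.1 1 0 = b - τ := rfl
    rcases h1 with h | h
    · rw [h] at e01 e10
      simp at e01 e10
      apply hτ0
      linear_combination e10 - e01
    · rw [h] at e01 e10
      simp at e01 e10
      apply hτ0
      linear_combination e10 - e01

end sl2

section exist

open ZMod

variable {F : Type*} [Field F] [Fintype F]

local notation "SL2" => Matrix.SpecialLinearGroup (Fin 2) F
local notation "PSL2" => Matrix.ProjectiveSpecialLinearGroup (Fin 2) F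

theorem sq5 : ∀ y : ZMod 5, y * (y ^ 2 - 1) = 0 → ∀ e : ZMod 5, (e = 1 ∨ e = -1) →
    IsSquare (e * y) := by decide

/-- `5` is a square in `𝔽_q` when `5 ∣ q(q²-1)`, `q` odd -/
theorem isSquare_five (hodd : Odd (Fintype.card F))
    (h5 : 5 ∣ Fintype.card F * (Fintype.card F ^ 2 - 1)) : IsSquare ((5 : ℕ) : F) := by
  haveI : Fact (Nat.Prime 5) := ⟨by norm_num⟩
  have hchar : ringChar F ≠ 2 := by
    intro h'
    have := FiniteField.even_card_of_char_two h'
    rw [Nat.odd_iff] at hodd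
    omega
  rw [FiniteField.isSquare_odd_prime_iff hchar (p := 5) (by norm_num)]
  intro hneg
  rw [quadraticChar_neg_one_iff_not_isSquare] at hneg
  apply hneg
  have hq1 : 1 ≤ Fintype.card F ^ 2 := Nat.one_le_pow _ _ Fintype.card_pos
  have hy : ((Fintype.card F : ℕ) : ZMod 5) * (((Fintype.card F : ℕ) : ZMod 5) ^ 2 - 1) = 0 := by
    have := (ZMod.natCast_eq_zero_iff (Fintype.card F * (Fintype.card F ^ 2 - 1)) 5).2 h5
    rw [Nat.cast_mul, Nat.cast_sub hq1, Nat.cast_pow, Nat.cast_one] at this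
    exact this
  apply sq5 _ hy
  rw [ZMod.χ₄_nat_eq_if_mod_four]
  rw [Nat.odd_iff] at hodd
  rw [if_neg (by omega)]
  split_ifs
  · left; simp
  · right; simp

/-- `A₅ ≤ PSL₂(q)`, `q` odd, `5 ∣ q(q²-1)` -/
theorem exists_A5_odd (hodd : Odd (Fintype.card F))
    (h5 : 5 ∣ Fintype.card F * (Fintype.card F ^ 2 - 1)) :
    ∃ H : Subgroup PSL2, Nonempty (H ≃* alternatingGroup (Fin 5)) := by
  have h2 : (2 : F) ≠ 0 := Cfsg.Agent.Lib.Helper8.SL2Odd.two_ne_zero' hodd
  obtain ⟨r, hr⟩ := isSquare_five hodd h5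
  have hr' : r * r = 5 := by
    rw [← hr]; norm_num
  set τ : F := (r - 1) / 2 with hτdef
  have hτ : τ ^ 2 + τ - 1 = 0 := by
    rw [hτdef]
    field_simp
    linear_combination hr'
  obtain ⟨u, v, huv⟩ := Cfsg.Agent.H9.AutPSL2.exists_sq_add_sq ((τ ^ 2 - 3) / 4 : F)
  have h4 : (4 : F) ≠ 0 := by
    have : (4 : F) = 2 * 2 := by norm_num
    rw [this]
    exact mul_ne_zero h2 h2
  apply exists_A5_aux (u - 1 / 2) (v + τ / 2) τ hτ
  field_simp
  have huv' : τ ^ 2 - 3 = 4 * (u ^ 2 + v ^ 2) := by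
    rw [← huv]
    field_simp
  linear_combination (-1 : F) * huv'

/-- `A₅ ≤ PSL₂(q)`, `q = 4ᵐ` -/
theorem exists_A5_even (h2 : (2 : F) = 0) (ω : F) (hω : ω ^ 2 + ω + 1 = 0) :
    ∃ H : Subgroup PSL2, Nonempty (H ≃* alternatingGroup (Fin 5)) := by
  apply exists_A5_aux ω 0 ω
  · linear_combination hω - h2
  · linear_combination hω

end exist

end Cfsg.Agent.H9.A5inPSL2
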