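import Mathlib

set_option autoImplicit false

namespace Cfsg.Agent.H9.CoxA3

open Equiv

section general

variable {G : Type*} [Group G] {a b c : G}

theorem bab (haa : a * a = 1) (hbb : b * b = 1) (hab : (a * b) ^ 3 = 1) : b * a * b = a * b * a := by
  have h : a * b * (a * b) * (a * b) = 1 := by
    rw [← hab, pow_succ, pow_two]
  have hainv : a⁻¹ = a := inv_eq_of_mul_eq_one_right haa
  have hbinv : b⁻¹ = b := inv_eq_of_mul_eq_one_right hbb
  have h1 : a * b * (a * b) = b * a := by
    have : a * b * (a * b) = (a * b)⁻¹ := eq_inv_of_mul_eq_one_left h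
    rw [this, mul_inv_rev, hainv, hbinv]
  calc b * a * b = a⁻¹ * (a * b * (a * b)) := by group
    _ = a * b * a := by rw [h1, hainv, mul_assoc]

/-- The set of 24 normal forms. -/
def K6 (a b : G) : Set G := {1, a, b, a * b, b * a, a * b * a}
def K3 (a b : G) : Set G := {1, a, b}
def R4 (a b c : G) : Set G := {1, c, c * b, c * b * a}

theorem K6_mul_K3 (haa : a * a = 1) (hbb : b * b = 1) (hab : (a * b) ^ 3 = 1) :
    ∀ k ∈ K6 a b, ∀ k' ∈ K3 a b, k * k' ∈ K6 a b := by
  have hbab := bab haa hbb hab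
  intro k hk k' hk'
  simp only [K6, K3, Set.mem_insert_iff, Set.mem_singleton_iff] at hk hk' ⊢
  rcases hk' with hk' | hk' | hk'
  · rw [hk', mul_one]; exact hk
  · rcases hk with hk | hk | hk | hk | hk | hk <;> rw [hk, hk']
    · right; left; rw [one_mul]
    · left; exact haa
    · right; right; right; right; left; rfl
    · right; right; right; right; right; rfl
    · right; right; left; rw [mul_assoc, haa, mul_one]
    · right; right; right; left; rw [mul_assoc, haa, mul_one]
  · rcases hk with hk | hk | hk | hk | hk | hk <;> rw [hk, hk']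
    · right; right; left; rw [one_mul]
    · right; right; right; left; rfl
    · left; exact hbb
    · right; left; rw [mul_assoc, hbb, mul_one]
    · right; right; right; right; right; exact hbab
    · right; right; right; right; left
      rw [mul_assoc, mul_assoc, ← mul_assoc b, hbab, ← mul_assoc, ← mul_assoc, haa, one_mul]

theorem R4_mul (haa : a * a = 1) (hbb : b * b = 1) (hcc : c * c = 1) (hab : (a * b) ^ 3 = 1)
    (hbc : (b * c) ^ 3 = 1) (hac : a * c = c * a) :
    ∀ r ∈ R4 a b c, ∀ x ∈ ({a, b, c} : Set G), ∃ k ∈ K3 a b, ∃ r' ∈ R4 a b c, r * x = k * r' := by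
  have hbab := bab haa hbb hab
  have hcbc := bab hbb hcc hbc
  intro r hr x hx
  simp only [R4, K3, Set.mem_insert_iff, Set.mem_singleton_iff] at hr hx ⊢
  rcases hx with hx | hx | hx <;> rcases hr with hr | hr | hr | hr <;> rw [hx, hr]
  · exact ⟨a, Or.inr (Or.inl rfl), 1, Or.inl rfl, by rw [one_mul, mul_one]⟩
  · exact ⟨a, Or.inr (Or.inl rfl), c, Or.inr (Or.inl rfl), hac.symm⟩
  · exact ⟨1, Or.inl rfl, c * b * a, Or.inr (Or.inr (Or.inr rfl)), by rw [one_mul]⟩
  · exact ⟨1, Or.inl rfl, c * b, Or.inr (Or.inr (Or.inl rfl)), by rw [one_mul, mul_assoc, haa, mul_one]⟩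
  · exact ⟨b, Or.inr (Or.inr rfl), 1, Or.inl rfl, by rw [one_mul, mul_one]⟩
  · exact ⟨1, Or.inl rfl, c * b, Or.inr (Or.inr (Or.inl rfl)), by rw [one_mul]⟩
  · exact ⟨1, Or.inl rfl, c, Or.inr (Or.inl rfl), by rw [one_mul, mul_assoc, hbb, mul_one]⟩
  · refine ⟨a, Or.inr (Or.inl rfl), c * b * a, Or.inr (Or.inr (Or.inr rfl)), ?_⟩
    calc c * b * a * b = c * (b * a * b) := by group
      _ = c * (a * b * a) := by rw [hbab]
      _ = (c * a) * b * a := by group
      _ = (a * c) * b * a := by rw [hac]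
      _ = a * (c * b * a) := by group
  · exact ⟨1, Or.inl rfl, c, Or.inr (Or.inl rfl), rfl⟩
  · exact ⟨1, Or.inl rfl, 1, Or.inl rfl, by rw [hcc, one_mul]⟩
  · exact ⟨b, Or.inr (Or.inr rfl), c * b, Or.inr (Or.inr (Or.inl rfl)), by rw [hcbc]; group⟩
  · refine ⟨b, Or.inr (Or.inr rfl), c * b * a, Or.inr (Or.inr (Or.inr rfl)), ?_⟩
    calc c * b * a * c = c * b * (a * c) := by group
      _ = c * b * (c * a) := by rw [hac]
      _ = (c * b * c) * a := by group
      _ = (b * c * b) * a := by rw [hcbc]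
      _ = b * (c * b * a) := by group

/-- The 24-element set `K6 * R4`. -/
def S24 (a b c : G) : Set G := Set.image2 (· * ·) (K6 a b) (R4 a b c)

theorem S24_mul (haa : a * a = 1) (hbb : b * b = 1) (hcc : c * c = 1) (hab : (a * b) ^ 3 = 1)
    (hbc : (b * c) ^ 3 = 1) (hac : a * c = c * a) :
    ∀ s ∈ S24 a b c, ∀ x ∈ ({a, b, c} : Set G), s * x ∈ S24 a b c := by
  rintro _ ⟨k, hk, r, hr, rfl⟩ x hx
  obtain ⟨k', hk', r', hr', h⟩ := R4_mul haa hbb hcc hab hbc hac r hr x hx
  refine ⟨k * k', K6_mul_K3 haa hbb hab k hk k' hk', r', hr', ?_⟩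
  show k * k' * r' = k * r * x
  rw [mul_assoc, ← h, mul_assoc]

theorem S24_finite (a b c : G) : (S24 a b c).Finite := by
  apply Set.Finite.image2
  · simp only [K6]; exact Set.toFinite _
  · simp only [R4]; exact Set.toFinite _

theorem S24_ncard (a b c : G) : (S24 a b c).ncard ≤ 24 := by
  have h1 : (K6 a b).ncard ≤ 6 := by
    unfold K6
    refine (Set.ncard_insert_le _ _).trans ?_
    refine Nat.succ_le_succ ((Set.ncard_insert_le _ _).trans ?_)
    refine Nat.succ_le_succ ((Set.ncard_insert_le _ _).trans ?_)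
    refine Nat.succ_le_succ ((Set.ncard_insert_le _ _).trans ?_)
    refine Nat.succ_le_succ ((Set.ncard_insert_le _ _).trans ?_)
    rw [Set.ncard_singleton]
  have h2 : (R4 a b c).ncard ≤ 4 := by
    unfold R4
    refine (Set.ncard_insert_le _ _).trans ?_
    refine Nat.succ_le_succ ((Set.ncard_insert_le _ _).trans ?_)
    refine Nat.succ_le_succ ((Set.ncard_insert_le _ _).trans ?_)
    rw [Set.ncard_singleton]
  have hK : (K6 a b).Finite := by simp only [K6]; exact Set.toFinite _
  have hR : (R4 a b c).Finite := by simp only [R4]; exact Set.toFinite _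
  have himg : S24 a b c = (fun x : G × G => x.1 * x.2) '' (K6 a b ×ˢ R4 a b c) := by
    unfold S24; rw [Set.image_prod]
  calc (S24 a b c).ncard ≤ (K6 a b ×ˢ R4 a b c).ncard := by
        rw [himg]; exact Set.ncard_image_le (hK.prod hR)
    _ = (K6 a b).ncard * (R4 a b c).ncard := Set.ncard_prod
    _ ≤ 6 * 4 := Nat.mul_le_mul h1 h2

/-- A group generated by `a b c` satisfying the Coxeter relations of type A₃ has at most 24 elements. -/
theorem card_le (haa : a * a = 1) (hbb : b * b = 1) (hcc : c * c = 1) (hab : (a * b) ^ 3 = 1)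
    (hbc : (b * c) ^ 3 = 1) (hac : a * c = c * a) (hgen : Subgroup.closure ({a, b, c} : Set G) = ⊤) :
    Finite G ∧ Nat.card G ≤ 24 := by
  have hmul := S24_mul haa hbb hcc hab hbc hac
  have hall : ∀ w : G, (∀ s ∈ S24 a b c, s * w ∈ S24 a b c) ∧ (∀ s ∈ S24 a b c, s * w⁻¹ ∈ S24 a b c) := by
    intro w
    have hw : w ∈ Subgroup.closure ({a, b, c} : Set G) := hgen ▸ Subgroup.mem_top w
    induction hw using Subgroup.closure_induction with
    | mem x hx =>
      refine ⟨fun s hs => hmul s hs x hx, fun s hs => ?_⟩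
      have : x⁻¹ = x := by
        simp only [Set.mem_insert_iff, Set.mem_singleton_iff] at hx
        rcases hx with rfl | rfl | rfl
        · exact inv_eq_of_mul_eq_one_right haa
        · exact inv_eq_of_mul_eq_one_right hbb
        · exact inv_eq_of_mul_eq_one_right hcc
      rw [this]; exact hmul s hs x hx
    | one => simp
    | mul x y _ _ ihx ihy =>
      refine ⟨fun s hs => ?_, fun s hs => ?_⟩
      · rw [← mul_assoc]; exact ihy.1 _ (ihx.1 s hs)
      · rw [mul_inv_rev, ← mul_assoc]; exact ihx.2 _ (ihy.2 s hs)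
    | inv x _ ih =>
      refine ⟨ih.2, ?_⟩
      rw [inv_inv]; exact ih.1
  have h1 : (1 : G) ∈ S24 a b c := ⟨1, by simp [K6], 1, by simp [R4], by simp⟩
  have huniv : S24 a b c = Set.univ := by
    ext w
    simp only [Set.mem_univ, iff_true]
    have := (hall w).1 1 h1
    rwa [one_mul] at this
  have hfin : Finite G := by
    rw [← Set.finite_univ_iff, ← huniv]
    exact S24_finite a b c
  refine ⟨hfin, ?_⟩
  rw [← Set.ncard_univ, ← huniv]
  exact S24_ncard a b c

end general

end Cfsg.Agent.H9.CoxA3
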