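import Mathlib
import Cfsg.Agent.H9.CoxA3

set_option autoImplicit false

namespace Cfsg.Agent.H9.CoxA3

open Equiv

/-- The Coxeter relations of type A₃ on three generators. -/
def rels : Set (FreeGroup (Fin 3)) :=
  {FreeGroup.of 0 * FreeGroup.of 0, FreeGroup.of 1 * FreeGroup.of 1, FreeGroup.of 2 * FreeGroup.of 2,
   (FreeGroup.of 0 * FreeGroup.of 1) ^ 3, (FreeGroup.of 1 * FreeGroup.of 2) ^ 3,
   FreeGroup.of 0 * FreeGroup.of 2 * (FreeGroup.of 0)⁻¹ * (FreeGroup.of 2)⁻¹}

/-- The Coxeter group of type A₃ as a presented group. -/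
abbrev W : Type := PresentedGroup rels

/-- generators -/
def x (i : Fin 3) : W := PresentedGroup.of i

theorem lift_rels {G : Type*} [Group G] {a b c : G} (haa : a * a = 1) (hbb : b * b = 1) (hcc : c * c = 1)
    (hab : (a * b) ^ 3 = 1) (hbc : (b * c) ^ 3 = 1) (hac : a * c = c * a) :
    ∀ r ∈ rels, FreeGroup.lift ![a, b, c] r = 1 := by
  intro r hr
  simp only [rels, Set.mem_insert_iff, Set.mem_singleton_iff] at hr
  rcases hr with rfl | rfl | rfl | rfl | rfl | rfl
  · simpa using haa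
  · simpa using hbb
  · simpa using hcc
  · simpa using hab
  · simpa using hbc
  · simp only [map_mul, map_inv, FreeGroup.lift_apply_of]
    simp only [Matrix.cons_val_zero, Matrix.cons_val_two, Matrix.tail_cons, Matrix.head_cons]
    rw [hac]; group

/-- The hom from `W` to any group with elements satisfying the relations. -/
noncomputable def toGrp {G : Type*} [Group G] {a b c : G} (haa : a * a = 1) (hbb : b * b = 1) (hcc : c * c = 1)
    (hab : (a * b) ^ 3 = 1) (hbc : (b * c) ^ 3 = 1) (hac : a * c = c * a) : W →* G :=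
  PresentedGroup.toGroup (lift_rels haa hbb hcc hab hbc hac)

theorem toGrp_x {G : Type*} [Group G] {a b c : G} (haa : a * a = 1) (hbb : b * b = 1) (hcc : c * c = 1)
    (hab : (a * b) ^ 3 = 1) (hbc : (b * c) ^ 3 = 1) (hac : a * c = c * a) (i : Fin 3) :
    toGrp haa hbb hcc hab hbc hac (x i) = ![a, b, c] i :=
  PresentedGroup.toGroup.of _

-- relations in W
theorem x_rel (r : FreeGroup (Fin 3)) (hr : r ∈ rels) : PresentedGroup.mk rels r = 1 :=
  PresentedGroup.one_of_mem hr

theorem x00 : x 0 * x 0 = 1 := by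
  have := x_rel (FreeGroup.of 0 * FreeGroup.of 0) (by simp [rels])
  simpa [x, PresentedGroup.of] using this

theorem x11 : x 1 * x 1 = 1 := by
  have := x_rel (FreeGroup.of 1 * FreeGroup.of 1) (by simp [rels])
  simpa [x, PresentedGroup.of] using this

theorem x22 : x 2 * x 2 = 1 := by
  have := x_rel (FreeGroup.of 2 * FreeGroup.of 2) (by simp [rels])
  simpa [x, PresentedGroup.of] using this

theorem x01 : (x 0 * x 1) ^ 3 = 1 := by
  have := x_rel ((FreeGroup.of 0 * FreeGroup.of 1) ^ 3) (by simp [rels])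
  simpa [x, PresentedGroup.of] using this

theorem x12 : (x 1 * x 2) ^ 3 = 1 := by
  have := x_rel ((FreeGroup.of 1 * FreeGroup.of 2) ^ 3) (by simp [rels])
  simpa [x, PresentedGroup.of] using this

theorem x02 : x 0 * x 2 = x 2 * x 0 := by
  have := x_rel (FreeGroup.of 0 * FreeGroup.of 2 * (FreeGroup.of 0)⁻¹ * (FreeGroup.of 2)⁻¹) (by simp [rels])
  have h2 : x 0 * x 2 * (x 0)⁻¹ * (x 2)⁻¹ = 1 := by simpa [x, PresentedGroup.of] using this
  calc x 0 * x 2 = (x 0 * x 2 * (x 0)⁻¹ * (x 2)⁻¹) * (x 2 * x 0) := by group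
    _ = x 2 * x 0 := by rw [h2, one_mul]

theorem closure_x : Subgroup.closure ({x 0, x 1, x 2} : Set W) = ⊤ := by
  have h := PresentedGroup.closure_range_of rels
  have : (Set.range (PresentedGroup.of : Fin 3 → PresentedGroup rels)) = {x 0, x 1, x 2} := by
    ext w
    constructor
    · rintro ⟨i, rfl⟩
      fin_cases i
      · left; rfl
      · right; left; rfl
      · right; right; rfl
    · rintro (rfl | rfl | rfl)
      · exact ⟨0, rfl⟩
      · exact ⟨1, rfl⟩
      · exact ⟨2, rfl⟩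
  rw [← this]; exact h

theorem W_finite : Finite W := (card_le x00 x11 x22 x01 x12 x02 closure_x).1

theorem W_card : Nat.card W ≤ 24 := (card_le x00 x11 x22 x01 x12 x02 closure_x).2

/-- The hom to `S₄`. -/
noncomputable def toS4 : W →* Perm (Fin 4) :=
  toGrp (a := swap 0 1) (b := swap 1 2) (c := swap 2 3) (by decide) (by decide) (by decide) (by decide)
    (by decide) (by decide)

theorem toS4_x (i : Fin 3) : toS4 (x i) = swap i.castSucc i.succ := by
  rw [toS4, toGrp_x]
  fin_cases i <;> rfl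

theorem toS4_surjective : Function.Surjective toS4 := by
  rw [← MonoidHom.mrange_eq_top, eq_top_iff, ← Equiv.Perm.mclosure_swap_castSucc_succ 3, Submonoid.closure_le]
  rintro _ ⟨i, rfl⟩
  exact ⟨x i, toS4_x i⟩

theorem toS4_bijective : Function.Bijective toS4 := by
  have := W_finite
  apply toS4_surjective.bijective_of_nat_card_le
  have h24 : Nat.card (Perm (Fin 4)) = 24 := by
    rw [Nat.card_eq_fintype_card, Fintype.card_perm, Fintype.card_fin]; rfl
  rw [h24]
  exact W_card

/-- `W ≃* S₄`. -/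
noncomputable def equivS4 : W ≃* Perm (Fin 4) := MulEquiv.ofBijective toS4 toS4_bijective

theorem equivS4_symm_swap (i : Fin 3) : equivS4.symm (swap i.castSucc i.succ) = x i := by
  rw [MulEquiv.symm_apply_eq]
  exact (toS4_x i).symm

set_option maxRecDepth 100000 in
theorem conj_reps : ∀ σ : Perm (Fin 4), σ = 1 ∨ ∃ τ : Perm (Fin 4),
    τ * σ * τ⁻¹ = swap 0 1 ∨ τ * σ * τ⁻¹ = swap 0 1 * swap 2 3 ∨ τ * σ * τ⁻¹ = swap 0 1 * swap 1 2 ∨
    τ * σ * τ⁻¹ = swap 0 1 * swap 1 2 * swap 2 3 := by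
  decide

/-- Main theorem: elements `a b c` of a group satisfying the Coxeter relations of type A₃, with
`a ≠ 1`, `a * c ≠ 1`, `a * b ≠ 1`, `a * b * c ≠ 1` give an embedding of `S₄`. -/
theorem exists_embedding {G : Type*} [Group G] {a b c : G} (haa : a * a = 1) (hbb : b * b = 1) (hcc : c * c = 1)
    (hab : (a * b) ^ 3 = 1) (hbc : (b * c) ^ 3 = 1) (hac : a * c = c * a)
    (h1 : a ≠ 1) (h2 : a * c ≠ 1) (h3 : a * b ≠ 1) (h4 : a * b * c ≠ 1) :
    ∃ φ : Perm (Fin 4) →* G, Function.Injective φ ∧ φ (swap 0 1) = a ∧ φ (swap 1 2) = b ∧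
      φ (swap 2 3) = c := by
  let φ : Perm (Fin 4) →* G := (toGrp haa hbb hcc hab hbc hac).comp equivS4.symm.toMonoidHom
  have hφ0 : φ (swap 0 1) = a := by
    have := equivS4_symm_swap 0
    show toGrp haa hbb hcc hab hbc hac (equivS4.symm (swap 0 1)) = a
    rw [show (swap 0 1 : Perm (Fin 4)) = swap (0 : Fin 3).castSucc (0 : Fin 3).succ from rfl, this, toGrp_x]
    rfl
  have hφ1 : φ (swap 1 2) = b := by
    have := equivS4_symm_swap 1
    show toGrp haa hbb hcc hab hbc hac (equivS4.symm (swap 1 2)) = b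
    rw [show (swap 1 2 : Perm (Fin 4)) = swap (1 : Fin 3).castSucc (1 : Fin 3).succ from rfl, this, toGrp_x]
    rfl
  have hφ2 : φ (swap 2 3) = c := by
    have := equivS4_symm_swap 2
    show toGrp haa hbb hcc hab hbc hac (equivS4.symm (swap 2 3)) = c
    rw [show (swap 2 3 : Perm (Fin 4)) = swap (2 : Fin 3).castSucc (2 : Fin 3).succ from rfl, this, toGrp_x]
    rfl
  refine ⟨φ, ?_, hφ0, hφ1, hφ2⟩
  rw [injective_iff_map_eq_one]
  intro σ hσ
  rcases conj_reps σ with h | ⟨τ, h⟩
  · exact h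
  · exfalso
    have hconj : φ (τ * σ * τ⁻¹) = 1 := by
      rw [map_mul, map_mul, hσ, mul_one, ← map_mul, mul_inv_cancel, map_one]
    rcases h with h | h | h | h
    · rw [h, hφ0] at hconj; exact h1 hconj
    · rw [h, map_mul, hφ0, hφ2] at hconj; exact h2 hconj
    · rw [h, map_mul, hφ0, hφ1] at hconj; exact h3 hconj
    · rw [h, map_mul, map_mul, hφ0, hφ1, hφ2] at hconj; exact h4 hconj

end Cfsg.Agent.H9.CoxA3
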