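import Mathlib
import Cfsg.Prelude.Def_Blocks
import Cfsg.Agent.Lib.helper3.Contrib12

/-!
# The contribution matrix of a subsection `(x, b)` with `x` an involution
-/

set_option autoImplicit false
set_option linter.style.haveILetI false
set_option linter.unusedSectionVars false
set_option linter.unusedVariables false

namespace Cfsg.Agent.H9.KK

open Cfsg Module Cfsg.Agent.Lib.helper3.CharBasic Cfsg.Agent.Lib.helper3.Irr
open Cfsg.Agent.Lib.helper3.Central Cfsg.Agent.Lib.helper3.LocalM Cfsg.Agent.Lib.helper3.IndFun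
open Cfsg.Agent.Lib.helper3.Lin Cfsg.Agent.Lib.helper3.Block Cfsg.Agent.Lib.helper3.HZSub
open Cfsg.Agent.Lib.helper3.HallNilp Cfsg.Agent.Lib.helper3.Contrib
open scoped ComplexConjugate
open Polynomial

universe u

variable {G : Type u} [Group G] [Fintype G] {M : Ideal AlgInt}

/-- an even integer lies in the local ideal of a `2`-modular `M` -/
theorem memLocalIdeal_even (hM : IsPModular 2 M) (r : ℤ) :
    MemLocalIdeal M (((r + r : ℤ) : ℂ)) := by
  have hMtop : M ≠ ⊤ := hM.2.1.ne_top
  have h6 : ((2 : ℕ) : AlgInt) ∈ M := hM.2.2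
  have h7 := memLocalIdeal_of_mem h6 hMtop
  have h8 := memLocalIdeal_mul_integral h7 (c := (r : ℂ))
    (by
      have := isIntegral_algebraMap (R := ℤ) (A := ℂ) (x := r)
      simpa using this)
  have h10 : ((((2 : ℕ) : AlgInt)) : ℂ) = 2 := by
    push_cast
    rfl
  have h9 : ((r + r : ℤ) : ℂ) = (r : ℂ) * (((2 : ℕ) : AlgInt) : ℂ) := by
    rw [h10]
    push_cast
    ring
  rw [h9]
  exact h8

open Classical in
/-- **The contribution matrix** of the subsection `(x, b)`, `x` an involution: an integral symmetric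
matrix `a` with `a² = 2^d a`, trace `2^d l(b)`, vanishing outside `B`, odd at height zero. -/
theorem exists_contrib_matrix (hM : IsPModular 2 M) (B : Set (IrrCharacter G))
    (x : G) (hx : orderOf x = 2) (H : Subgroup G) [Fintype H]
    (hH : H = Subgroup.centralizer ({x} : Set G)) (b : Set (IrrCharacter H))
    (hind : IsInducedBlock M H b B) :
    ∃ a : IrrCharacter G → IrrCharacter G → ℤ,
      (∀ χ ψ, ((2 ^ blockDefect 2 b : ℕ) : ℂ) * regPair 2 (secPart H b x χ) (secPart H b x ψ)
          = (Nat.card H : ℂ) * (a χ ψ : ℂ)) ∧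
      (∀ χ ψ, a χ ψ = a ψ χ) ∧
      (∀ χ η, ∑ ψ : IrrCharacter G, a χ ψ * a ψ η = (2 ^ blockDefect 2 b : ℤ) * a χ η) ∧
      (∑ χ : IrrCharacter G, (if χ ∈ B then a χ χ else 0)
        = (2 ^ blockDefect 2 b : ℤ) * (blockRank 2 b : ℤ)) ∧
      (∀ χ ψ, χ ∉ B → a χ ψ = 0) ∧
      (∀ χ ψ, χ ∈ B → ψ ∈ B → blockHeight 2 B (χ : G → ℂ) = 0 →
        blockHeight 2 B (ψ : G → ℂ) = 0 → Odd (a χ ψ)) := by
  haveI hMp := isPrime_of_isPModular hM
  have hMtop : M ≠ ⊤ := hM.2.1.ne_top
  have he : IsPBlock M b := hind.1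
  have hx1 : orderOf x = 2 ^ 1 := by rw [hx, pow_one]
  have hxH : x ∈ H := by
    rw [hH]
    exact Subgroup.mem_centralizer_singleton_iff.mpr rfl
  have hxc : ∀ c : H, (c : G) * x = x * (c : G) := by
    intro c
    have h1 : (c : G) ∈ Subgroup.centralizer ({x} : Set G) := hH ▸ c.2
    rw [Subgroup.mem_centralizer_singleton_iff] at h1
    exact h1
  have hx2 : x ^ 2 = 1 := by rw [← hx, pow_orderOf_eq_one]
  have hprim : IsPrimitiveRoot (-1 : ℂ) 2 := by
    rw [show (2 : ℕ) = 2 ^ 1 from rfl]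
    exact IsPrimitiveRoot.neg_one 0 (by norm_num)
  obtain ⟨d, hd⟩ : ∃ d : ℕ, d = blockDefect 2 b := ⟨_, rfl⟩
  rw [← hd]
  have hHC : (Nat.card H : ℂ) ≠ 0 := card_ne_zero_complex _
  have h2d : ((2 ^ d : ℕ) : ℂ) ≠ 0 := by
    exact_mod_cast (pow_pos (by norm_num : 0 < 2) d).ne'
  -- the matrix
  have hex : ∀ χ ψ : IrrCharacter G, ∃ a : ℤ,
      ((2 ^ d : ℕ) : ℂ) * regPair 2 (secPart H b x χ) (secPart H b x ψ)
        = (Nat.card H : ℂ) * (a : ℂ) := by
    intro χ ψ
    obtain ⟨F, hF⟩ := exists_poly_contrib (p := 2) x H hxH hxc b 2 two_pos hx2 (-1) hprim χ ψ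
    refine ⟨aeval (-1 : ℤ) F, ?_⟩
    have h1 := hF 1
    rw [pow_one, pow_one, ← hd] at h1
    rw [h1]
    congr 1
    have := aeval_algebraMap_apply (R := ℤ) (A := ℤ) ℂ (-1 : ℤ) F
    simpa using this
  choose a ha using hex
  refine ⟨a, ha, ?_, ?_, ?_, ?_, ?_⟩
  · -- symmetry
    intro χ ψ
    have h1 := congrArg conj (ha χ ψ)
    rw [map_mul, map_mul, Complex.conj_natCast, Complex.conj_natCast, regPair_conj,
      map_intCast, ha ψ χ] at h1
    have h2 := mul_left_cancel₀ hHC h1
    exact_mod_cast h2.symm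
  · -- idempotency
    intro χ η
    have h1 := sum_regPair_mul_regPair hM x 1 hx1 H hH b he χ η
    have h2 : (Nat.card H : ℂ) * ((Nat.card H : ℂ)
        * ((∑ ψ : IrrCharacter G, a χ ψ * a ψ η : ℤ) : ℂ))
        = (Nat.card H : ℂ) * ((Nat.card H : ℂ) * (((2 ^ d : ℤ) * a χ η : ℤ) : ℂ)) := by
      push_cast
      calc (Nat.card H : ℂ) * ((Nat.card H : ℂ) * ∑ ψ : IrrCharacter G, (a χ ψ : ℂ) * (a ψ η : ℂ))
          = ∑ ψ : IrrCharacter G, ((Nat.card H : ℂ) * (a χ ψ : ℂ))
              * ((Nat.card H : ℂ) * (a ψ η : ℂ)) := by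
            rw [Finset.mul_sum, Finset.mul_sum]
            apply Finset.sum_congr rfl
            intro ψ _
            ring
        _ = ∑ ψ : IrrCharacter G, (((2 ^ d : ℕ) : ℂ)
              * regPair 2 (secPart H b x χ) (secPart H b x ψ))
              * (((2 ^ d : ℕ) : ℂ) * regPair 2 (secPart H b x ψ) (secPart H b x η)) := by
            apply Finset.sum_congr rfl
            intro ψ _
            rw [ha χ ψ, ha ψ η]
        _ = ((2 ^ d : ℕ) : ℂ) * ((2 ^ d : ℕ) : ℂ)
              * ∑ ψ : IrrCharacter G, regPair 2 (secPart H b x χ) (secPart H b x ψ)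
                * regPair 2 (secPart H b x ψ) (secPart H b x η) := by
            rw [Finset.mul_sum]
            apply Finset.sum_congr rfl
            intro ψ _
            ring
        _ = ((2 ^ d : ℕ) : ℂ) * (Nat.card H : ℂ)
              * (((2 ^ d : ℕ) : ℂ) * regPair 2 (secPart H b x χ) (secPart H b x η)) := by
            rw [h1]
            ring
        _ = _ := by
            rw [ha χ η]
            push_cast
            ring
    have h3 := mul_left_cancel₀ hHC (mul_left_cancel₀ hHC h2)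
    exact_mod_cast h3
  · -- trace
    have h1 := sum_regPair_self hM x 1 hx1 H hH B b hind
    have h2 : (Nat.card H : ℂ)
        * ((∑ χ : IrrCharacter G, (if χ ∈ B then a χ χ else 0) : ℤ) : ℂ)
        = (Nat.card H : ℂ) * (((2 ^ d : ℤ) * (blockRank 2 b : ℤ) : ℤ) : ℂ) := by
      push_cast
      calc (Nat.card H : ℂ) * ∑ χ : IrrCharacter G, (if χ ∈ B then (a χ χ : ℂ) else 0)
          = ∑ χ : IrrCharacter G, (if χ ∈ B then (1 : ℂ) else 0)
              * ((Nat.card H : ℂ) * (a χ χ : ℂ)) := by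
            rw [Finset.mul_sum]
            apply Finset.sum_congr rfl
            intro χ _
            by_cases hχ : χ ∈ B
            · rw [if_pos hχ, if_pos hχ, one_mul]
            · rw [if_neg hχ, if_neg hχ, mul_zero, zero_mul]
        _ = ∑ χ : IrrCharacter G, (if χ ∈ B then (1 : ℂ) else 0)
              * (((2 ^ d : ℕ) : ℂ) * regPair 2 (secPart H b x χ) (secPart H b x χ)) := by
            apply Finset.sum_congr rfl
            intro χ _
            rw [ha χ χ]
        _ = ((2 ^ d : ℕ) : ℂ) * ∑ χ : IrrCharacter G, (if χ ∈ B then (1 : ℂ) else 0)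
              * regPair 2 (secPart H b x χ) (secPart H b x χ) := by
            rw [Finset.mul_sum]
            apply Finset.sum_congr rfl
            intro χ _
            ring
        _ = _ := by
            rw [h1]
            push_cast
            ring
    have h3 := mul_left_cancel₀ hHC h2
    exact_mod_cast h3
  · -- vanishing outside `B`
    intro χ ψ hχ
    have h1 : regPair 2 (secPart H b x χ) (secPart H b x ψ) = 0 := by
      rw [regPair_eq_sum]
      apply Finset.sum_eq_zero
      intro s _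
      by_cases hs : 2 ∣ orderOf s
      · rw [if_pos hs, zero_mul]
      · rw [secPart_eq_zero hM x 1 hx1 H hH B b hind χ hχ s hs, zero_mul, mul_zero]
    have h2 := ha χ ψ
    rw [h1, mul_zero] at h2
    have h3 : (a χ ψ : ℂ) = 0 := by
      rcases mul_eq_zero.mp h2.symm with h | h
      · exact absurd h hHC
      · exact h
    exact_mod_cast h3
  · -- oddness
    intro χ ψ hχ hψ h0χ h0ψ
    rw [← Int.not_even_iff_odd]
    intro heven
    obtain ⟨r, hr⟩ := heven
    have hnot := not_memLocalIdeal_contrib hM x 1 hx1 H hH B b hind χ ψ hχ hψ h0χ h0ψ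
      (a χ ψ : ℂ) (by rw [← hd]; exact ha χ ψ)
    apply hnot
    rw [hr]
    exact memLocalIdeal_even hM r

end Cfsg.Agent.H9.KK
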