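import Mathlib
import Cfsg.Prelude.Def_Blocks
import Cfsg.Agent.H9.KK1
import Cfsg.Agent.S4710

/-!
# A `2`-block of defect `2` with a subsection `(x, b)`, `x` an involution, `d(b) = 2`, `l(b) = 1`,
has exactly four characters
-/

set_option autoImplicit false
set_option linter.style.haveILetI false
set_option linter.unusedSectionVars false
set_option linter.unusedVariables false

namespace Cfsg.Agent.H9.KK

open Cfsg Module Cfsg.Agent.Lib.helper3.CharBasic Cfsg.Agent.Lib.helper3.Irr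
open Cfsg.Agent.Lib.helper3.Central Cfsg.Agent.Lib.helper3.LocalM Cfsg.Agent.Lib.helper3.IndFun
open Cfsg.Agent.Lib.helper3.Lin Cfsg.Agent.Lib.helper3.Block Cfsg.Agent.Lib.helper3.HZSub
open Cfsg.Agent.Lib.helper3.HallNilp Cfsg.Agent.Lib.helper3.Contrib
open scoped ComplexConjugate

universe u

/-- no integer has square `3` -/
theorem sq_ne_three (z : ℤ) : z * z ≠ 3 := by
  intro h
  have h1 : -2 < z := by nlinarith
  have h2 : z < 2 := by nlinarith
  interval_cases z <;> omega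

/-- **Arithmetic lemma**: a symmetric integral matrix with odd entries, `A² = 4A`, `tr A = 4`
has size `4`. -/
theorem card_eq_four_of_matrix {ι : Type*} [DecidableEq ι] (S : Finset ι) (a : ι → ι → ℤ)
    (hsymm : ∀ χ ψ, a χ ψ = a ψ χ)
    (hodd : ∀ χ ∈ S, ∀ ψ ∈ S, Odd (a χ ψ))
    (hsq : ∀ χ ∈ S, ∀ η ∈ S, ∑ ψ ∈ S, a χ ψ * a ψ η = 4 * a χ η)
    (htr : ∑ χ ∈ S, a χ χ = 4) : S.card = 4 := by
  have hpos : ∀ χ ∈ S, 1 ≤ a χ χ := by
    intro χ hχ
    have h1 := hsq χ hχ χ hχ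
    have h2 : a χ χ * a χ χ ≤ ∑ ψ ∈ S, a χ ψ * a ψ χ :=
      Finset.single_le_sum (f := fun ψ => a χ ψ * a ψ χ)
        (fun ψ _ => by
          show 0 ≤ a χ ψ * a ψ χ
          rw [hsymm ψ χ]
          exact mul_self_nonneg _) hχ
    obtain ⟨k, hk⟩ := hodd χ hχ χ hχ
    have h3 : 0 < a χ χ * a χ χ := by
      apply mul_self_pos.mpr
      omega
    by_contra hcon
    push Not at hcon
    have : a χ χ ≤ 0 := by omega
    nlinarith
  have hle : (S.card : ℤ) ≤ 4 := by
    rw [← htr]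
    calc (S.card : ℤ) = ∑ _χ ∈ S, (1 : ℤ) := by
          rw [Finset.sum_const, nsmul_eq_mul, mul_one]
      _ ≤ _ := Finset.sum_le_sum hpos
  have hle' : S.card ≤ 4 := by exact_mod_cast hle
  obtain ⟨c, hc⟩ : ∃ c, c = S.card := ⟨_, rfl⟩
  rw [← hc] at hle' ⊢
  interval_cases c
  · exfalso
    rw [Finset.card_eq_zero.mp hc.symm, Finset.sum_empty] at htr
    omega
  · exfalso
    obtain ⟨χ, hχ⟩ := Finset.card_eq_one.mp hc.symm
    rw [hχ, Finset.sum_singleton] at htr
    obtain ⟨k, hk⟩ := hodd χ (by rw [hχ]; exact Finset.mem_singleton_self χ) χ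
      (by rw [hχ]; exact Finset.mem_singleton_self χ)
    omega
  · exfalso
    obtain ⟨χ, ψ, hne, hS⟩ := Finset.card_eq_two.mp hc.symm
    have hχ : χ ∈ S := by rw [hS]; simp
    have hψ : ψ ∈ S := by rw [hS]; simp
    have h1 := hsq χ hχ χ hχ
    rw [hS, Finset.sum_pair hne] at h1 htr
    rw [hsymm ψ χ] at h1
    have h2 := hpos χ hχ
    have h3 := hpos ψ hψ
    obtain ⟨k, hk⟩ := hodd χ hχ χ hχ
    have h4 : a χ χ = 1 ∨ a χ χ = 3 := by omega
    rcases h4 with h | h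
    · rw [h] at h1
      exact sq_ne_three (a χ ψ) (by linarith)
    · rw [h] at h1
      exact sq_ne_three (a χ ψ) (by linarith)
  · exfalso
    obtain ⟨χ, ψ, η, h12, h13, h23, hS⟩ := Finset.card_eq_three.mp hc.symm
    have hχ : χ ∈ S := by rw [hS]; simp
    have hψ : ψ ∈ S := by rw [hS]; simp
    have hη : η ∈ S := by rw [hS]; simp
    rw [hS, Finset.sum_insert (by simp [h12, h13]), Finset.sum_pair h23] at htr
    obtain ⟨k1, hk1⟩ := hodd χ hχ χ hχ
    obtain ⟨k2, hk2⟩ := hodd ψ hψ ψ hψ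
    obtain ⟨k3, hk3⟩ := hodd η hη η hη
    omega
  · rfl

variable {G : Type u} [Group G] [Fintype G] {M : Ideal AlgInt}

open Classical in
/-- **Piece K of S4637**: `k(B) = 4`. -/
theorem card_eq_four (hM : IsPModular 2 M) (B : Set (IrrCharacter G)) (hB : IsPBlock M B)
    (hdB : blockDefect 2 B = 2) (x : G) (hx : orderOf x = 2) (H : Subgroup G) [Fintype H]
    (hH : H = Subgroup.centralizer ({x} : Set G)) (b : Set (IrrCharacter H))
    (hind : IsInducedBlock M H b B) (hdb : blockDefect 2 b = 2) (hlb : blockRank 2 b = 1) :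
    Nat.card B = 4 := by
  have hh0 : ∀ χ ∈ B, blockHeight 2 B (χ : G → ℂ) = 0 := by
    intro χ hχ
    have := ((Cfsg.Agent.S4710.result 2 M hM B hB 2 hdB).2 χ hχ).2 le_rfl
    omega
  obtain ⟨a, ha, hsymm, hsq, htr, hout, hodd⟩ := exists_contrib_matrix hM B x hx H hH b hind
  rw [hdb] at hsq htr
  rw [hlb] at htr
  have hcard : Nat.card B = (Finset.univ.filter (fun χ : IrrCharacter G => χ ∈ B)).card := by
    rw [Nat.card_eq_fintype_card, Fintype.card_subtype]
  rw [hcard]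
  apply card_eq_four_of_matrix _ a hsymm
  · intro χ hχ ψ hψ
    rw [Finset.mem_filter] at hχ hψ
    exact hodd χ ψ hχ.2 hψ.2 (hh0 χ hχ.2) (hh0 ψ hψ.2)
  · intro χ _ η _
    rw [Finset.sum_filter, ← show ((2 : ℤ) ^ 2) = 4 by norm_num, ← hsq χ η]
    apply Finset.sum_congr rfl
    intro ψ _
    by_cases hψ : ψ ∈ B
    · rw [if_pos hψ]
    · rw [if_neg hψ, hout ψ η hψ, mul_zero]
  · rw [Finset.sum_filter, htr]
    norm_num

end Cfsg.Agent.H9.KK
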