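import Mathlib
import Cfsg.Prelude.Def_Blocks
import Cfsg.Agent.H9.KK2

/-!
# Sign structure of the contribution matrix of a block with four characters
-/

set_option autoImplicit false
set_option linter.style.haveILetI false
set_option linter.unusedSectionVars false
set_option linter.unusedVariables false

namespace Cfsg.Agent.H9.KK

open Cfsg Module Cfsg.Agent.Lib.helper3.CharBasic Cfsg.Agent.Lib.helper3.Irr
open Cfsg.Agent.Lib.helper3.Central Cfsg.Agent.Lib.helper3.LocalM Cfsg.Agent.Lib.helper3.IndFun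
open Cfsg.Agent.Lib.helper3.Lin Cfsg.Agent.Lib.helper3.Block Cfsg.Agent.Lib.helper3.HZSub
open Cfsg.Agent.Lib.helper3.HallNilp Cfsg.Agent.Lib.helper3.Contrib
open scoped ComplexConjugate

universe u

theorem eq_one_of_sum_eq_card_of_ge {ι : Type*} (S : Finset ι) (f : ι → ℤ)
    (h1 : ∀ i ∈ S, 1 ≤ f i) (hs : ∑ i ∈ S, f i = S.card) : ∀ i ∈ S, f i = 1 := by
  have h2 := (Finset.sum_eq_sum_iff_of_le (f := fun _ => (1 : ℤ)) (g := f) h1).mp
    (by rw [hs, Finset.sum_const, nsmul_eq_mul, mul_one])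
  intro i hi
  exact (h2 i hi).symm

theorem eq_one_of_sum_eq_card_of_le {ι : Type*} (S : Finset ι) (f : ι → ℤ)
    (h1 : ∀ i ∈ S, f i ≤ 1) (hs : ∑ i ∈ S, f i = S.card) : ∀ i ∈ S, f i = 1 := by
  have h2 := (Finset.sum_eq_sum_iff_of_le (f := f) (g := fun _ => (1 : ℤ)) h1).mp
    (by rw [hs, Finset.sum_const, nsmul_eq_mul, mul_one])
  intro i hi
  exact h2 i hi

theorem sq_eq_one_cases (z : ℤ) (h : z * z = 1) : z = 1 ∨ z = -1 := by
  have h1 : -2 < z := by nlinarith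
  have h2 : z < 2 := by nlinarith
  interval_cases z <;> omega

/-- **Arithmetic lemma, second form**: a symmetric integral matrix of size `4` with odd entries,
`A² = 2^d A`, `tr A = 2^d`, `d ≤ 2`, has `d = 2` and is a rank one sign matrix. -/
theorem sign_matrix_of_card_four {ι : Type*} [DecidableEq ι] (S : Finset ι) (a : ι → ι → ℤ)
    (d : ℕ) (hcard : S.card = 4) (hd : d ≤ 2)
    (hsymm : ∀ χ ψ, a χ ψ = a ψ χ)
    (hodd : ∀ χ ∈ S, ∀ ψ ∈ S, Odd (a χ ψ))
    (hsq : ∀ χ ∈ S, ∀ η ∈ S, ∑ ψ ∈ S, a χ ψ * a ψ η = 2 ^ d * a χ η)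
    (htr : ∑ χ ∈ S, a χ χ = 2 ^ d) :
    d = 2 ∧ (∀ χ ∈ S, ∀ ψ ∈ S, a χ ψ = 1 ∨ a χ ψ = -1) ∧
      (∀ χ ∈ S, ∀ ψ ∈ S, ∀ η ∈ S, a χ ψ * a ψ η = a χ η) := by
  have h2d : (0 : ℤ) < 2 ^ d := by positivity
  have hsqpos : ∀ χ ∈ S, ∀ ψ ∈ S, 1 ≤ a χ ψ * a ψ χ := by
    intro χ hχ ψ hψ
    rw [hsymm ψ χ]
    obtain ⟨k, hk⟩ := hodd χ hχ ψ hψ
    have h3 : 0 < a χ ψ * a χ ψ := by
      apply mul_self_pos.mpr
      omega
    omega
  have hpos : ∀ χ ∈ S, 1 ≤ a χ χ := by
    intro χ hχ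
    have h1 := hsq χ hχ χ hχ
    have h2 : a χ χ * a χ χ ≤ ∑ ψ ∈ S, a χ ψ * a ψ χ :=
      Finset.single_le_sum (f := fun ψ => a χ ψ * a ψ χ)
        (fun ψ hψ => by
          show 0 ≤ a χ ψ * a ψ χ
          have := hsqpos χ hχ ψ hψ
          omega) hχ
    have h3 := hsqpos χ hχ χ hχ
    by_contra hcon
    push Not at hcon
    have : a χ χ ≤ 0 := by omega
    nlinarith
  have hle : (S.card : ℤ) ≤ 2 ^ d := by
    rw [← htr]
    calc (S.card : ℤ) = ∑ _χ ∈ S, (1 : ℤ) := by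
          rw [Finset.sum_const, nsmul_eq_mul, mul_one]
      _ ≤ _ := Finset.sum_le_sum hpos
  have hd2 : d = 2 := by
    rw [hcard] at hle
    interval_cases d
    · norm_num at hle
    · norm_num at hle
    · rfl
  subst hd2
  have hdiag : ∀ χ ∈ S, a χ χ = 1 := by
    apply eq_one_of_sum_eq_card_of_ge S (fun χ => a χ χ) hpos
    rw [htr, hcard]
    norm_num
  have hsign : ∀ χ ∈ S, ∀ ψ ∈ S, a χ ψ = 1 ∨ a χ ψ = -1 := by
    intro χ hχ ψ hψ
    have h1 := hsq χ hχ χ hχ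
    rw [hdiag χ hχ] at h1
    have h2 := eq_one_of_sum_eq_card_of_ge S (fun ψ => a χ ψ * a ψ χ) (hsqpos χ hχ)
      (by rw [h1, hcard]; norm_num) ψ hψ
    rw [hsymm ψ χ] at h2
    exact sq_eq_one_cases _ h2
  refine ⟨rfl, hsign, ?_⟩
  intro χ hχ ψ hψ η hη
  have h1 := hsq χ hχ η hη
  have hε := hsign χ hχ η hη
  have hεsq : a χ η * a χ η = 1 := by
    rcases hε with h | h <;> rw [h] <;> norm_num
  have h2 : ∑ ψ ∈ S, a χ η * (a χ ψ * a ψ η) = S.card := by
    rw [← Finset.mul_sum, h1, hcard]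
    have : a χ η * (2 ^ 2 * a χ η) = 4 * (a χ η * a χ η) := by ring
    rw [this, hεsq]
    norm_num
  have h3 := eq_one_of_sum_eq_card_of_le S (fun ψ => a χ η * (a χ ψ * a ψ η))
    (by
      intro ψ hψ
      show a χ η * (a χ ψ * a ψ η) ≤ 1
      rcases hε with h | h <;> rcases hsign χ hχ ψ hψ with h' | h' <;>
        rcases hsign ψ hψ η hη with h'' | h'' <;> rw [h, h', h''] <;> norm_num) h2 ψ hψ
  have h4 : a χ ψ * a ψ η = (a χ η * a χ η) * (a χ ψ * a ψ η) := by rw [hεsq, one_mul]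
  rw [h4, mul_assoc, h3, mul_one]

section regpair

variable {H : Type u} [Group H] [Fintype H]

/-- expansion of `regPair (f - c g) (f - c g)` for an integer `c` -/
theorem regPair_sub_int_mul (p : ℕ) (f g : H → ℂ) (c : ℤ) :
    regPair p (fun s => f s - (c : ℂ) * g s) (fun s => f s - (c : ℂ) * g s)
      = regPair p f f - (c : ℂ) * regPair p f g - (c : ℂ) * regPair p g f
        + (c : ℂ) * (c : ℂ) * regPair p g g := by
  simp only [regPair_eq_sum, Finset.mul_sum]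
  rw [← Finset.sum_sub_distrib, ← Finset.sum_sub_distrib, ← Finset.sum_add_distrib]
  apply Finset.sum_congr rfl
  intro s _
  rw [map_sub, map_mul, map_intCast]
  ring

/-- `regPair f f = 0` forces `f` to vanish on the `p`-regular elements -/
theorem eq_zero_of_regPair_self (p : ℕ) (f : H → ℂ) (h : regPair p f f = 0) (s : H)
    (hs : ¬ p ∣ orderOf s) : f s = 0 := by
  classical
  rw [regPair_eq_sum] at h
  have h1 : ∀ t : H, (if p ∣ orderOf t then (0 : ℂ) else 1) * (f t * conj (f t))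
      = (((if p ∣ orderOf t then (0 : ℝ) else 1) * Complex.normSq (f t) : ℝ) : ℂ) := by
    intro t
    rw [Complex.mul_conj]
    push_cast
    split_ifs <;> simp
  simp_rw [h1] at h
  rw [← Complex.ofReal_sum, Complex.ofReal_eq_zero] at h
  have h2 := (Finset.sum_eq_zero_iff_of_nonneg (fun t _ => by
    split_ifs
    · simp
    · rw [one_mul]; exact Complex.normSq_nonneg _)).mp h s (Finset.mem_univ s)
  rw [if_neg hs, one_mul] at h2
  exact Complex.normSq_eq_zero.mp h2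

end regpair

end Cfsg.Agent.H9.KK
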