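import Mathlib
import Cfsg.Prelude.Def_Blocks
import Cfsg.Agent.H9.KK3
import Cfsg.Agent.H2.KQ4
import Cfsg.Agent.Lib.Helper8.ProjInt3

/-!
# The sign column of a subsection `(u, b)` of a `2`-block with four characters (S4638, piece P2)
-/

set_option autoImplicit false
set_option linter.style.haveILetI false
set_option linter.unusedSectionVars false
set_option linter.unusedVariables false

namespace Cfsg.Agent.H9.KK

open Cfsg Module Cfsg.Agent.Lib.helper3.CharBasic Cfsg.Agent.Lib.helper3.Irr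
open Cfsg.Agent.Lib.helper3.Central Cfsg.Agent.Lib.helper3.LocalM Cfsg.Agent.Lib.helper3.IndFun
open Cfsg.Agent.Lib.helper3.Lin Cfsg.Agent.Lib.helper3.Block Cfsg.Agent.Lib.helper3.HZSub
open Cfsg.Agent.Lib.helper3.HallNilp Cfsg.Agent.Lib.helper3.Contrib
open scoped ComplexConjugate

universe u

section general

variable {H : Type u} [Group H] [Fintype H]

open Classical in
/-- the block part of a function is a class function -/
theorem isClassFunction_blockPart (e : Set (IrrCharacter H)) (ϑ : H → ℂ) :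
    IsClassFunction H (blockPart e ϑ) := by
  intro g h
  rw [blockPart_apply, blockPart_apply]
  apply Finset.sum_congr rfl
  intro ψ _
  rw [isClassFunction_of_isCharacter (isCharacter_of_isIrrCharacter ψ.2) g h]

open Classical in
/-- **Integrality of the truncated block part.**  If the multiplicities of `ϑ` are algebraic
integers, then `p^d(e)` times the truncation of the `e`-part of `ϑ` to the `p`-regular elements
is a combination of irreducible characters with algebraic integer coefficients. -/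
theorem exists_integral_coeff_truncReg_blockPart {p : ℕ} [hp : Fact p.Prime]
    (e : Set (IrrCharacter H)) (ϑ : H → ℂ)
    (hint : ∀ θ : IrrCharacter H, IsIntegral ℤ (classInner ϑ (θ : H → ℂ))) :
    ∃ a : IrrCharacter H → ℂ, (∀ θ, IsIntegral ℤ (a θ)) ∧
      ∀ g : H, ∑ θ : IrrCharacter H, a θ * (θ : H → ℂ) g
        = ((p ^ blockDefect p e : ℕ) : ℂ) * truncReg p (blockPart e ϑ) g := by
  have hHC : (Nat.card H : ℂ) ≠ 0 := card_ne_zero_complex _
  refine ⟨fun θ => ((p ^ blockDefect p e : ℕ) : ℂ)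
    * classInner (truncReg p (blockPart e ϑ)) (θ : H → ℂ), ?_, ?_⟩
  · intro θ
    choose! u hu using fun (θ' : IrrCharacter H) (hθ' : θ' ∈ e) =>
      exists_int_regPair_defect (p := p) e θ' θ hθ'
    have h1 : ((p ^ blockDefect p e : ℕ) : ℂ)
        * classInner (truncReg p (blockPart e ϑ)) (θ : H → ℂ)
        = ∑ θ' : IrrCharacter H, (if θ' ∈ e then (1 : ℂ) else 0)
            * classInner ϑ (θ' : H → ℂ) * (u θ' : ℂ) := by
      apply mul_left_cancel₀ hHC
      rw [mul_left_comm, ← regPair_eq_card_mul_classInner, blockPart_eq_sum, regPair_sum_left,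
        Finset.mul_sum, Finset.mul_sum]
      apply Finset.sum_congr rfl
      intro θ' _
      by_cases hθ' : θ' ∈ e
      · rw [if_pos hθ', one_mul]
        calc ((p ^ blockDefect p e : ℕ) : ℂ)
              * (classInner ϑ (θ' : H → ℂ) * regPair p (θ' : H → ℂ) (θ : H → ℂ))
            = classInner ϑ (θ' : H → ℂ) * (((p ^ blockDefect p e : ℕ) : ℂ)
              * regPair p (θ' : H → ℂ) (θ : H → ℂ)) := by ring
          _ = _ := by
              rw [hu θ' hθ']
              ring
      · rw [if_neg hθ']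
        ring
    show IsIntegral ℤ (((p ^ blockDefect p e : ℕ) : ℂ)
        * classInner (truncReg p (blockPart e ϑ)) (θ : H → ℂ))
    rw [h1]
    apply IsIntegral.sum
    intro θ' _
    apply IsIntegral.mul
    · apply IsIntegral.mul
      · split_ifs
        · exact isIntegral_one
        · exact isIntegral_zero
      · exact hint θ'
    · have := isIntegral_algebraMap (R := ℤ) (A := ℂ) (x := u θ')
      simpa using this
  · intro g
    have hcf := isClassFunction_truncReg p (isClassFunction_blockPart e ϑ)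
    have h1 := congrFun (classFunction_eq_sum _ hcf) g
    rw [Finset.sum_apply] at h1
    conv_rhs => rw [h1]
    rw [Finset.mul_sum]
    apply Finset.sum_congr rfl
    intro θ _
    rw [Pi.smul_apply, smul_eq_mul]
    ring

end general

variable {G : Type u} [Group G] [Fintype G] {M : Ideal AlgInt}

open Classical in
/-- **S4638, piece P2**: the sign column of a subsection `(u, b)`. -/
theorem exists_column (hM : IsPModular 2 M) (𝔅 : Set (IrrCharacter G)) (h𝔅 : IsPBlock M 𝔅)
    (h4 : Nat.card 𝔅 = 4) (hd𝔅 : blockDefect 2 𝔅 = 2)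
    (u : G) (hu : orderOf u = 2) (H : Subgroup G) [Fintype H]
    (hH : H = Subgroup.centralizer ({u} : Set G)) (b : Set (IrrCharacter H))
    (hind : IsInducedBlock M H b 𝔅) (hlb : blockRank 2 b = 1) :
    ∃ (d : IrrCharacter G → ℤ) (φ : H → ℂ),
      (∀ χ ∈ 𝔅, d χ = 1 ∨ d χ = -1) ∧
      (∀ χ ∈ 𝔅, ∀ s : H, ¬ 2 ∣ orderOf s → secPart H b u χ s = (d χ : ℂ) * φ s) ∧
      (∀ s, IsIntegral ℤ (φ s)) ∧
      (∀ s : H, ¬ 2 ∣ orderOf s →
        MemLocalRing M (4 * φ s / (Nat.card ↥(Subgroup.centralizer ({s} : Set H)) : ℂ))) := by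
  have hh0 : ∀ χ ∈ 𝔅, blockHeight 2 𝔅 (χ : G → ℂ) = 0 := by
    intro χ hχ
    have := ((Cfsg.Agent.S4710.result 2 M hM 𝔅 h𝔅 2 hd𝔅).2 χ hχ).2 le_rfl
    omega
  have hdle : blockDefect 2 b ≤ 2 :=
    le_trans (Cfsg.Agent.H2.KQ.blockDefect_le_of_isInducedBlock hM H b 𝔅 hind) hd𝔅.le
  obtain ⟨a, ha, hsymm, hsq, htr, hout, hodd⟩ := exists_contrib_matrix hM 𝔅 u hu H hH b hind
  rw [hlb] at htr
  have hcard : Nat.card 𝔅 = (Finset.univ.filter (fun χ : IrrCharacter G => χ ∈ 𝔅)).card := by
    rw [Nat.card_eq_fintype_card, Fintype.card_subtype]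
  rw [h4] at hcard
  obtain ⟨hd2, hsign, hmul⟩ := sign_matrix_of_card_four
    (Finset.univ.filter (fun χ : IrrCharacter G => χ ∈ 𝔅)) a (blockDefect 2 b) hcard.symm hdle
    hsymm
    (by
      intro χ hχ ψ hψ
      rw [Finset.mem_filter] at hχ hψ
      exact hodd χ ψ hχ.2 hψ.2 (hh0 χ hχ.2) (hh0 ψ hψ.2))
    (by
      intro χ _ η _
      rw [Finset.sum_filter, ← hsq χ η]
      apply Finset.sum_congr rfl
      intro ψ _
      by_cases hψ : ψ ∈ 𝔅
      · rw [if_pos hψ]
      · rw [if_neg hψ, hout ψ η hψ, mul_zero])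
    (by
      rw [Finset.sum_filter, htr]
      push_cast
      ring)
  rw [hd2] at ha
  have hmem : ∀ χ, χ ∈ 𝔅 → χ ∈ Finset.univ.filter (fun χ : IrrCharacter G => χ ∈ 𝔅) :=
    fun χ hχ => Finset.mem_filter.mpr ⟨Finset.mem_univ χ, hχ⟩
  -- a base character
  obtain ⟨χ₀, hχ₀⟩ : 𝔅.Nonempty := by
    rw [← Set.nonempty_coe_sort, ← Finite.card_pos_iff, h4]
    norm_num
  have hxH : u ∈ H := by
    rw [hH]
    exact Subgroup.mem_centralizer_singleton_iff.mpr rfl
  have hxc : ∀ c : H, (c : G) * u = u * (c : G) := by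
    intro c
    have h1 : (c : G) ∈ Subgroup.centralizer ({u} : Set G) := hH ▸ c.2
    rw [Subgroup.mem_centralizer_singleton_iff] at h1
    exact h1
  have hHC : (Nat.card H : ℂ) ≠ 0 := card_ne_zero_complex _
  have hsqone : ∀ χ ∈ 𝔅, ∀ ψ ∈ 𝔅, a χ ψ * a χ ψ = 1 := by
    intro χ hχ ψ hψ
    rcases hsign χ (hmem χ hχ) ψ (hmem ψ hψ) with h | h <;> rw [h] <;> norm_num
  have hdiag : ∀ χ ∈ 𝔅, a χ χ = 1 := by
    intro χ hχ
    have := hmul χ (hmem χ hχ) χ₀ (hmem χ₀ hχ₀) χ (hmem χ hχ)
    rw [hsymm χ₀ χ, hsqone χ hχ χ₀ hχ₀] at this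
    exact this.symm
  refine ⟨fun χ => a χ χ₀, secPart H b u χ₀, ?_, ?_, ?_, ?_⟩
  · intro χ hχ
    exact hsign χ (hmem χ hχ) χ₀ (hmem χ₀ hχ₀)
  · intro χ hχ s hs
    have h1 := regPair_sub_int_mul 2 (secPart H b u χ) (secPart H b u χ₀) (a χ χ₀)
    have h2 : ((2 ^ 2 : ℕ) : ℂ) * regPair 2
        (fun s => secPart H b u χ s - (a χ χ₀ : ℂ) * secPart H b u χ₀ s)
        (fun s => secPart H b u χ s - (a χ χ₀ : ℂ) * secPart H b u χ₀ s) = 0 := by
      rw [h1]
      have e1 := ha χ χ
      have e2 := ha χ χ₀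
      have e3 := ha χ₀ χ
      have e4 := ha χ₀ χ₀
      rw [hdiag χ hχ] at e1
      rw [hdiag χ₀ hχ₀] at e4
      rw [hsymm χ₀ χ] at e3
      have hc : ((a χ χ₀ : ℤ) : ℂ) * ((a χ χ₀ : ℤ) : ℂ) = 1 := by
        have := hsqone χ hχ χ₀ hχ₀
        exact_mod_cast this
      calc ((2 ^ 2 : ℕ) : ℂ) * (regPair 2 (secPart H b u χ) (secPart H b u χ)
            - (a χ χ₀ : ℂ) * regPair 2 (secPart H b u χ) (secPart H b u χ₀)
            - (a χ χ₀ : ℂ) * regPair 2 (secPart H b u χ₀) (secPart H b u χ)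
            + (a χ χ₀ : ℂ) * (a χ χ₀ : ℂ) * regPair 2 (secPart H b u χ₀) (secPart H b u χ₀))
          = ((2 ^ 2 : ℕ) : ℂ) * regPair 2 (secPart H b u χ) (secPart H b u χ)
            - (a χ χ₀ : ℂ) * (((2 ^ 2 : ℕ) : ℂ)
              * regPair 2 (secPart H b u χ) (secPart H b u χ₀))
            - (a χ χ₀ : ℂ) * (((2 ^ 2 : ℕ) : ℂ)
              * regPair 2 (secPart H b u χ₀) (secPart H b u χ))
            + (a χ χ₀ : ℂ) * (a χ χ₀ : ℂ) * (((2 ^ 2 : ℕ) : ℂ)
              * regPair 2 (secPart H b u χ₀) (secPart H b u χ₀)) := by ring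
        _ = (Nat.card H : ℂ) * (1 - (a χ χ₀ : ℂ) * (a χ χ₀ : ℂ) - (a χ χ₀ : ℂ) * (a χ χ₀ : ℂ)
            + (a χ χ₀ : ℂ) * (a χ χ₀ : ℂ) * 1) := by
            rw [e1, e2, e3, e4]
            push_cast
            ring
        _ = 0 := by
            rw [hc]
            ring
    have h3 : regPair 2
        (fun s => secPart H b u χ s - (a χ χ₀ : ℂ) * secPart H b u χ₀ s)
        (fun s => secPart H b u χ s - (a χ χ₀ : ℂ) * secPart H b u χ₀ s) = 0 := by
      rcases mul_eq_zero.mp h2 with h | h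
      · exfalso
        norm_num at h
      · exact h
    have h4 := eq_zero_of_regPair_self 2 _ h3 s hs
    exact sub_eq_zero.mp h4
  · intro s
    rw [secPart_def, blockPart_apply]
    apply IsIntegral.sum
    intro θ _
    apply IsIntegral.mul
    · split_ifs
      · exact isIntegral_one
      · exact isIntegral_zero
    · apply IsIntegral.mul
      · exact isIntegral_classInner_shift H u hxH hxc (isCharacter_of_isIrrCharacter χ₀.2) θ
      · exact isIntegral_of_isCharacter (isCharacter_of_isIrrCharacter θ.2) s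
  · intro s hs
    obtain ⟨a', ha'int, ha'⟩ := exists_integral_coeff_truncReg_blockPart (p := 2) b
      (fun c : H => (χ₀ : G → ℂ) (u * (c : G)))
      (fun θ => isIntegral_classInner_shift H u hxH hxc (isCharacter_of_isIrrCharacter χ₀.2) θ)
    rw [hd2] at ha'
    have h1 := Cfsg.Agent.Lib.Helper8.ProjInt.div_card_centralizer_mem 2 hM a' ha'int
      (by
        intro g hg
        rw [ha' g, truncReg_apply, if_pos hg, zero_mul, mul_zero]) s
    rw [ha' s, truncReg_apply, if_neg hs, one_mul] at h1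
    have e : ((2 ^ 2 : ℕ) : ℂ) = 4 := by norm_num
    rw [e] at h1
    exact h1

end Cfsg.Agent.H9.KK
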