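import Mathlib
import Cfsg.Agent.Lib.Helper5.SympCount

set_option autoImplicit false

/-!
Symplectic bases over finite fields and the resulting embedding of any group of isometries of a nondegenerate
alternating form of dimension `2m` into `Matrix.symplecticGroup (Fin m) F`.
-/

namespace Cfsg.Agent.H9.SympEmbed

open Module Cfsg.Agent.Lib.Helper5.SympCount

universe u v

variable {F : Type v} [Field F] [Finite F] {V : Type u} [AddCommGroup V] [Module F V] [FiniteDimensional F V]

/-- a symplectic basis: the Gram matrix is `J`. -/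
theorem exists_symplectic_basis (B : LinearMap.BilinForm F V) (hB : B.Nondegenerate) (hA : B.IsAlt) (m : ℕ)
    (hdim : finrank F V = 2 * m) :
    ∃ b : Basis (Fin m ⊕ Fin m) F V, ∀ i j, B (b i) (b j) = Matrix.J (Fin m) F i j := by
  have hcard := card_SB m V B hB hA hdim
  have hq : 2 ≤ Nat.card F := Finite.one_lt_card
  have hne : Nat.card (SB B m) ≠ 0 := by
    rw [hcard]
    apply Finset.prod_ne_zero_iff.2
    intro i _
    have h1 : 1 < Nat.card F ^ (2 * (i + 1)) := Nat.one_lt_pow (by omega) hq
    have h2 : 0 < Nat.card F ^ (2 * i + 1) := pow_pos (by omega) _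
    have h3 : 0 < Nat.card F ^ (2 * (i + 1)) - 1 := by omega
    exact (Nat.mul_pos h3 h2).ne'
  obtain ⟨⟨⟨e, f⟩, h1, h2, h3⟩⟩ : Nonempty (SB B m) := by
    by_contra hcon
    rw [not_nonempty_iff] at hcon
    exact hne Nat.card_of_isEmpty
  simp only at h1 h2 h3
  let w : Fin m ⊕ Fin m → V := Sum.elim f e
  have hgram : ∀ i j, B (w i) (w j) = Matrix.J (Fin m) F i j := by
    intro i j
    rcases i with i | i <;> rcases j with j | j
    · simp [w, h3, Matrix.J]
    · simp only [w, Sum.elim_inl, Sum.elim_inr, Matrix.J, Matrix.fromBlocks_apply₁₂, Matrix.neg_apply,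
        Matrix.one_apply]
      rw [← hA.neg_eq, h1]
      by_cases hij : i = j
      · subst hij; simp
      · rw [if_neg hij, if_neg (Ne.symm hij)]
    · simp only [w, Sum.elim_inl, Sum.elim_inr, Matrix.J, Matrix.fromBlocks_apply₂₁, Matrix.one_apply]
      rw [h1]
    · simp [w, h2, Matrix.J]
  have hli : LinearIndependent F w := by
    rw [Fintype.linearIndependent_iff]
    intro c hc k
    have key : ∀ l, ∑ k, c k * Matrix.J (Fin m) F k l = 0 := by
      intro l
      have := congrArg (fun x => B x (w l)) hc
      simp only [map_sum, map_smul, LinearMap.sum_apply, LinearMap.smul_apply, smul_eq_mul, hgram, map_zero,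
        LinearMap.zero_apply] at this
      exact this
    rcases k with k | k
    · have := key (Sum.inr k)
      simp only [Fintype.sum_sum_type, Matrix.J, Matrix.fromBlocks_apply₁₂, Matrix.fromBlocks_apply₂₂,
        Matrix.neg_apply, Matrix.one_apply, Matrix.zero_apply, mul_zero, Finset.sum_const_zero, add_zero,
        mul_neg, mul_ite, mul_one, Finset.sum_neg_distrib, Finset.sum_ite_eq', Finset.mem_univ, if_true,
        neg_eq_zero] at this
      exact this
    · have := key (Sum.inl k)
      simp only [Fintype.sum_sum_type, Matrix.J, Matrix.fromBlocks_apply₁₁, Matrix.fromBlocks_apply₂₁,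
        Matrix.one_apply, Matrix.zero_apply, mul_zero, Finset.sum_const_zero, zero_add,
        mul_ite, mul_one, Finset.sum_ite_eq', Finset.mem_univ, if_true] at this
      exact this
  have hsp : ⊤ ≤ Submodule.span F (Set.range w) := by
    rw [hli.span_eq_top_of_card_eq_finrank' (by rw [Fintype.card_sum, Fintype.card_fin, hdim, two_mul])]
  refine ⟨Basis.mk hli hsp, ?_⟩
  intro i j
  rw [Basis.mk_apply, Basis.mk_apply, hgram]

/-- a faithful group of isometries of a nondegenerate alternating form embeds in the symplectic group. -/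
theorem exists_embedding (B : LinearMap.BilinForm F V) (hB : B.Nondegenerate) (hA : B.IsAlt) (m : ℕ)
    (hdim : finrank F V = 2 * m) {H : Type*} [Group H] (ρ : H →* (V →ₗ[F] V)) (hρ : Function.Injective ρ)
    (hiso : ∀ h u v, B (ρ h u) (ρ h v) = B u v) :
    ∃ φ : H →* ↥(Matrix.symplecticGroup (Fin m) F), Function.Injective φ := by
  obtain ⟨b, hb⟩ := exists_symplectic_basis B hB hA m hdim
  have hJ : LinearMap.BilinForm.toMatrix b B = Matrix.J (Fin m) F := by
    ext i j
    rw [LinearMap.BilinForm.toMatrix_apply, hb]
  have hmem : ∀ h : H, LinearMap.toMatrix b b (ρ h) ∈ Matrix.symplecticGroup (Fin m) F := by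
    intro h
    rw [SymplecticGroup.mem_iff', ← hJ, ← LinearMap.BilinForm.toMatrix_comp b b B (ρ h) (ρ h)]
    congr 1
    ext u v
    exact hiso h u v
  refine ⟨{ toFun := fun h => ⟨LinearMap.toMatrix b b (ρ h), hmem h⟩
            map_one' := by
              apply Subtype.ext
              change LinearMap.toMatrix b b (ρ 1) = 1
              rw [map_one]; exact LinearMap.toMatrix_one b
            map_mul' := by
              intro x y
              apply Subtype.ext
              change LinearMap.toMatrix b b (ρ (x * y)) = LinearMap.toMatrix b b (ρ x) * LinearMap.toMatrix b b (ρ y)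
              rw [map_mul]; exact LinearMap.toMatrix_mul b _ _ }, ?_⟩
  intro x y hxy
  have h1 : LinearMap.toMatrix b b (ρ x) = LinearMap.toMatrix b b (ρ y) := congrArg Subtype.val hxy
  exact hρ ((LinearMap.toMatrix b b).injective h1)

end Cfsg.Agent.H9.SympEmbed
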