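import Mathlib
import Cfsg.Prelude.Def_ClassicalGeometry

set_option autoImplicit false

/-! The standard alternating form `Cfsg.sympForm` as a Mathlib bilinear form. -/

namespace Cfsg.Agent.H9.SympForm

open Matrix

variable (d : ℕ) (F : Type*) [Field F]

/-- `Cfsg.sympForm` as a bilinear form. -/
noncomputable def sympB : LinearMap.BilinForm F (Fin d ⊕ Fin d → F) := Matrix.toBilin' (Matrix.J (Fin d) F)

theorem sympB_apply (u v : Fin d ⊕ Fin d → F) : sympB d F u v = Cfsg.sympForm d F u v := by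
  unfold sympB Cfsg.sympForm
  rw [Matrix.toBilin'_apply']

theorem sympB_self (v : Fin d ⊕ Fin d → F) : sympB d F v v = 0 := by
  rw [sympB_apply]
  unfold Cfsg.sympForm
  simp only [dotProduct, Fintype.sum_sum_type, Matrix.mulVec, Matrix.J, Matrix.fromBlocks,
    Matrix.of_apply, Sum.elim_inl, Sum.elim_inr, Matrix.zero_apply, zero_mul, Finset.sum_const_zero,
    zero_add, add_zero, Matrix.neg_apply, Matrix.one_apply, neg_mul, Finset.sum_neg_distrib]
  simp only [ite_mul, one_mul, zero_mul, Finset.sum_ite_eq, Finset.mem_univ, if_true]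
  rw [← Finset.sum_add_distrib]
  apply Finset.sum_eq_zero
  intro i _
  ring

theorem sympB_mulVec {A : Matrix (Fin d ⊕ Fin d) (Fin d ⊕ Fin d) F} (hA : A ∈ symplecticGroup (Fin d) F)
    (u v : Fin d ⊕ Fin d → F) : sympB d F (A *ᵥ u) (A *ᵥ v) = sympB d F u v := by
  unfold sympB
  rw [Matrix.toBilin'_apply', Matrix.toBilin'_apply', Matrix.mulVec_mulVec, ← Matrix.vecMul_transpose,
    Matrix.dotProduct_mulVec, Matrix.vecMul_vecMul, ← Matrix.dotProduct_mulVec, ← Matrix.mul_assoc,
    SymplecticGroup.mem_iff'.1 hA]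

theorem sympB_nondeg (u : Fin d ⊕ Fin d → F) (hu : u ≠ 0) : ∃ v, sympB d F u v ≠ 0 := by
  obtain ⟨i, hi⟩ : ∃ i, u i ≠ 0 := by
    by_contra h
    push Not at h
    exact hu (funext h)
  refine ⟨(-J (Fin d) F) *ᵥ Pi.single i 1, ?_⟩
  unfold sympB
  rw [Matrix.toBilin'_apply', Matrix.mulVec_mulVec, Matrix.mul_neg, J_squared, neg_neg, Matrix.one_mulVec,
    dotProduct_single, mul_one]
  exact hi

end Cfsg.Agent.H9.SympForm
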