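import Mathlib

set_option autoImplicit false

/-!
Regular nilpotent endomorphisms (`f ^ n = 0` on an `n`-dimensional space, kernel a line): the kernels of the powers
have the expected dimensions and are the only invariant subspaces.
-/

namespace Cfsg.Agent.H9.RegNil

open Module

variable {F V : Type*} [Field F] [AddCommGroup V] [Module F V] [FiniteDimensional F V]

/-- Sylvester: nullity is subadditive under composition. -/
theorem finrank_ker_comp_le (g h : V →ₗ[F] V) :
    finrank F (LinearMap.ker (g ∘ₗ h)) ≤ finrank F (LinearMap.ker h) + finrank F (LinearMap.ker g) := by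
  set K := LinearMap.ker (g ∘ₗ h) with hK
  have h1 := LinearMap.finrank_range_add_finrank_ker (h.domRestrict K)
  have h2 : finrank F (LinearMap.range (h.domRestrict K)) ≤ finrank F (LinearMap.ker g) := by
    apply Submodule.finrank_mono
    rw [LinearMap.range_domRestrict]
    rintro _ ⟨x, hx, rfl⟩
    exact hx
  have h3 : finrank F (LinearMap.ker (h.domRestrict K)) ≤ finrank F (LinearMap.ker h) := by
    rw [LinearMap.ker_domRestrict]
    rw [← Submodule.finrank_map_subtype_eq K (Submodule.comap K.subtype (LinearMap.ker h))]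
    apply Submodule.finrank_mono
    rintro _ ⟨x, hx, rfl⟩
    exact hx
  omega

theorem finrank_ker_pow_le (f : V →ₗ[F] V) (k : ℕ) :
    finrank F (LinearMap.ker (f ^ k)) ≤ k * finrank F (LinearMap.ker f) := by
  induction k with
  | zero =>
    rw [pow_zero, zero_mul]
    have : LinearMap.ker (1 : V →ₗ[F] V) = ⊥ := LinearMap.ker_id
    rw [this, finrank_bot]
  | succ k ih =>
    rw [pow_succ]
    have := finrank_ker_comp_le (f ^ k) f
    rw [Module.End.mul_eq_comp]
    nlinarith

/-- For a regular nilpotent endomorphism the kernel of the `k`-th power has dimension `k`. -/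
theorem finrank_ker_pow_eq {n : ℕ} (hV : finrank F V = n) (f : V →ₗ[F] V) (hnil : f ^ n = 0)
    (hreg : finrank F (LinearMap.ker f) ≤ 1) (k : ℕ) (hk : k ≤ n) :
    finrank F (LinearMap.ker (f ^ k)) = k := by
  have h1 := finrank_ker_pow_le f k
  have h2 := finrank_ker_pow_le f (n - k)
  have h3 := finrank_ker_comp_le (f ^ (n - k)) (f ^ k)
  have h4 : (f ^ (n - k)) ∘ₗ (f ^ k) = 0 := by
    rw [← Module.End.mul_eq_comp, ← pow_add, Nat.sub_add_cancel hk, hnil]
  rw [h4] at h3
  have h5 : LinearMap.ker (0 : V →ₗ[F] V) = ⊤ := LinearMap.ker_zero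
  rw [h5, finrank_top, hV] at h3
  have h6 : k * finrank F (LinearMap.ker f) ≤ k := by nlinarith
  have h7 : (n - k) * finrank F (LinearMap.ker f) ≤ n - k := by nlinarith
  omega

/-- An invariant subspace of a regular nilpotent endomorphism is the kernel of a power. -/
theorem invariant_eq_ker_pow {n : ℕ} (hV : finrank F V = n) (f : V →ₗ[F] V) (hnil : f ^ n = 0)
    (hreg : finrank F (LinearMap.ker f) ≤ 1) (W : Submodule F V) (hW : ∀ v ∈ W, f v ∈ W) :
    W = LinearMap.ker (f ^ finrank F W) := by
  have hle : finrank F W ≤ n := hV ▸ Submodule.finrank_le W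
  have hnilW : IsNilpotent (f.restrict hW) := by
    refine ⟨n, ?_⟩
    rw [Module.End.pow_restrict]
    ext x
    simp [hnil]
  have h0 : (f.restrict hW) ^ finrank F W = 0 := by
    have h1 := hnilW.charpoly_eq_X_pow_finrank
    have h2 := (f.restrict hW).aeval_self_charpoly
    rw [h1] at h2
    simpa using h2
  have hsub : W ≤ LinearMap.ker (f ^ finrank F W) := by
    intro w hw
    rw [LinearMap.mem_ker]
    have h1 : ((f.restrict hW) ^ finrank F W) ⟨w, hw⟩ = 0 := by rw [h0]; rfl
    rw [Module.End.pow_restrict] at h1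
    have h2 := congrArg Subtype.val h1
    simpa using h2
  exact Submodule.eq_of_le_of_finrank_le hsub (by rw [finrank_ker_pow_eq hV f hnil hreg _ hle])

/-- the kernel of `f ^ k` is the range of `f ^ (n - k)`. -/
theorem ker_pow_eq_range_pow {n : ℕ} (hV : finrank F V = n) (f : V →ₗ[F] V) (hnil : f ^ n = 0)
    (hreg : finrank F (LinearMap.ker f) ≤ 1) (k : ℕ) (hk : k ≤ n) :
    LinearMap.ker (f ^ k) = LinearMap.range (f ^ (n - k)) := by
  symm
  apply Submodule.eq_of_le_of_finrank_le
  · rintro _ ⟨x, rfl⟩
    rw [LinearMap.mem_ker, ← Module.End.mul_apply, ← pow_add, Nat.add_sub_cancel' hk, hnil,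
      LinearMap.zero_apply]
  · have h1 := LinearMap.finrank_range_add_finrank_ker (f ^ (n - k))
    rw [finrank_ker_pow_eq hV f hnil hreg (n - k) (Nat.sub_le n k), hV] at h1
    rw [finrank_ker_pow_eq hV f hnil hreg k hk]
    omega

/-- adjoint computation: if `g` preserves `B` then `B (f^j a) b = (-1)^j B (g^j a) (f^j b)` for `f = g - 1`. -/
theorem form_pow_sub_one (B : LinearMap.BilinForm F V) (g : V →ₗ[F] V) (hg : ∀ x y, B (g x) (g y) = B x y)
    (j : ℕ) : ∀ a b : V, B (((g - 1) ^ j) a) b = (-1) ^ j * B ((g ^ j) a) (((g - 1) ^ j) b) := by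
  induction j with
  | zero => intro a b; simp
  | succ j ih =>
    intro a b
    have hcomm : Commute g (g - 1) := (Commute.refl g).sub_right (Commute.one_right g)
    have h1 : ((g - 1) ^ (j + 1)) a = ((g - 1) ^ j) ((g - 1) a) := by
      rw [pow_succ, Module.End.mul_apply]
    have h2 : ((g - 1) ^ (j + 1)) b = ((g - 1) ^ j) ((g - 1) b) := by
      rw [pow_succ, Module.End.mul_apply]
    have h3 : (g ^ (j + 1)) a = (g ^ j) (g a) := by
      rw [pow_succ, Module.End.mul_apply]
    -- B (f a') b = - B (g a') (f b)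
    have key : ∀ a' b' : V, B ((g - 1) a') b' = - B (g a') ((g - 1) b') := by
      intro a' b'
      simp only [LinearMap.sub_apply, Module.End.one_apply, map_sub, hg]
      ring
    have h4 : ((g - 1) ^ (j + 1)) a = (g - 1) (((g - 1) ^ j) a) := by
      rw [pow_succ', Module.End.mul_apply]
    have h5 : g (((g - 1) ^ j) a) = ((g - 1) ^ j) (g a) := by
      have := (hcomm.pow_right j).eq
      have h := congrArg (fun φ : V →ₗ[F] V => φ a) this
      simpa [Module.End.mul_apply] using h
    rw [h4, key, h5, ih, h3, h2, pow_succ]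
    ring

/-- small invariant subspaces of an isometry `g` with `g - 1` regular nilpotent are totally isotropic. -/
theorem isotropic_of_invariant {n : ℕ} (hV : finrank F V = n) (B : LinearMap.BilinForm F V) (g : V →ₗ[F] V)
    (hg : ∀ x y, B (g x) (g y) = B x y) (hnil : (g - 1) ^ n = 0)
    (hreg : finrank F (LinearMap.ker (g - 1)) ≤ 1) (W : Submodule F V) (hW : ∀ v ∈ W, g v ∈ W)
    (hdim : 2 * finrank F W ≤ n) : ∀ v ∈ W, ∀ w ∈ W, B v w = 0 := by
  have hWf : ∀ v ∈ W, (g - 1) v ∈ W := by
    intro v hv
    rw [LinearMap.sub_apply, Module.End.one_apply]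
    exact W.sub_mem (hW v hv) hv
  have hWk := invariant_eq_ker_pow hV (g - 1) hnil hreg W hWf
  set k := finrank F W with hk
  have hkn : k ≤ n := by omega
  have hWr := ker_pow_eq_range_pow hV (g - 1) hnil hreg k hkn
  intro v hv w hw
  rw [hWk, hWr] at hv
  obtain ⟨x, rfl⟩ := hv
  rw [form_pow_sub_one B g hg]
  have hw0 : ((g - 1) ^ (n - k)) w = 0 := by
    have h1 : n - k = (n - 2 * k) + k := by omega
    rw [hWk, LinearMap.mem_ker] at hw
    rw [h1, pow_add, Module.End.mul_apply, hw, map_zero]
  rw [hw0, map_zero, mul_zero]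

end Cfsg.Agent.H9.RegNil
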