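import Mathlib

set_option autoImplicit false

/-!
An irreducible operator `A` on a finite-dimensional space `W`: its centraliser in `End W` is the
image of the field `AdjoinRoot (minpoly F A)`, which is `F`-linearly isomorphic to `W`; the
determinant on the centraliser is the norm.
-/

namespace Cfsg.Agent.H9.IrredOp

open Module Polynomial

variable {F : Type*} [Field F] {W : Type*} [AddCommGroup W] [Module F W] [FiniteDimensional F W]

/-- irreducibility of an operator -/
def Irred (A : Module.End F W) : Prop :=
  Nontrivial W ∧ ∀ U : Submodule F W, U ≤ U.comap A → U = ⊥ ∨ U = ⊤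

theorem Irred.bijective_of_commute {A : Module.End F W} (h : Irred A) {c : Module.End F W}
    (hc : Commute c A) (hc0 : c ≠ 0) : Function.Bijective c := by
  have hk : LinearMap.ker c = ⊥ := by
    rcases h.2 (LinearMap.ker c) (by
      intro v hv
      rw [Submodule.mem_comap, LinearMap.mem_ker]
      have := LinearMap.congr_fun hc.eq v
      rw [Module.End.mul_apply, Module.End.mul_apply] at this
      rw [this, LinearMap.mem_ker.1 hv, map_zero]) with h1 | h1
    · exact h1
    · exfalso
      apply hc0
      exact LinearMap.ker_eq_top.1 h1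
  have hinj : Function.Injective c := LinearMap.ker_eq_bot.1 hk
  exact ⟨hinj, LinearMap.injective_iff_surjective.1 hinj⟩

theorem commute_aeval (A : Module.End F W) (p : F[X]) : Commute (aeval A p) A := by
  have : aeval A p * aeval A (X : F[X]) = aeval A (X : F[X]) * aeval A p := by
    rw [← map_mul, ← map_mul, mul_comm]
  rw [aeval_X] at this
  exact this

theorem Irred.minpoly_irreducible {A : Module.End F W} (h : Irred A) :
    Irreducible (minpoly F A) := by
  have : Nontrivial W := h.1
  have hint : IsIntegral F A := Algebra.IsIntegral.isIntegral A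
  rw [irreducible_iff]
  refine ⟨minpoly.not_isUnit F A, ?_⟩
  intro a b hab
  have hne : minpoly F A ≠ 0 := minpoly.ne_zero hint
  have ha0 : a ≠ 0 := fun h0 => hne (by rw [hab, h0, zero_mul])
  have hb0 : b ≠ 0 := fun h0 => hne (by rw [hab, h0, mul_zero])
  have hprod : aeval A a * aeval A b = 0 := by
    rw [← map_mul, ← hab, minpoly.aeval]
  have hdeg : (minpoly F A).degree = a.degree + b.degree := by rw [hab, degree_mul]
  by_cases hb : aeval A b = 0
  · left
    have h1 := minpoly.degree_le_of_ne_zero F A hb0 hb
    rw [hdeg] at h1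
    have hbd : b.degree ≠ ⊥ := fun h0 => hb0 (degree_eq_bot.1 h0)
    have had : a.degree ≠ ⊥ := fun h0 => ha0 (degree_eq_bot.1 h0)
    have : a.degree = 0 := by
      obtain ⟨m, hm⟩ := WithBot.ne_bot_iff_exists.1 had
      obtain ⟨k, hk⟩ := WithBot.ne_bot_iff_exists.1 hbd
      rw [← hm, ← hk, ← WithBot.coe_add, WithBot.coe_le_coe] at h1
      rw [← hm]
      have : m = 0 := by omega
      rw [this]; rfl
    exact isUnit_iff_degree_eq_zero.2 this
  · right
    have hbij := h.bijective_of_commute (commute_aeval A b) hb
    have ha : aeval A a = 0 := by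
      apply LinearMap.ext
      intro v
      obtain ⟨u, rfl⟩ := hbij.2 v
      have := LinearMap.congr_fun hprod u
      exact this
    have h1 := minpoly.degree_le_of_ne_zero F A ha0 ha
    rw [hdeg] at h1
    have hbd : b.degree ≠ ⊥ := fun h0 => hb0 (degree_eq_bot.1 h0)
    have had : a.degree ≠ ⊥ := fun h0 => ha0 (degree_eq_bot.1 h0)
    have : b.degree = 0 := by
      obtain ⟨m, hm⟩ := WithBot.ne_bot_iff_exists.1 had
      obtain ⟨k, hk⟩ := WithBot.ne_bot_iff_exists.1 hbd
      rw [← hm, ← hk, ← WithBot.coe_add, WithBot.coe_le_coe] at h1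
      rw [← hk]
      have : k = 0 := by omega
      rw [this]; rfl
    exact isUnit_iff_degree_eq_zero.2 this

/-- the field attached to an operator. -/
abbrev KK (A : Module.End F W) : Type _ := AdjoinRoot (minpoly F A)

/-- the representation of `KK A` on `W`. -/
noncomputable def rho (A : Module.End F W) : KK A →ₐ[F] Module.End F W :=
  Ideal.Quotient.liftₐ (Ideal.span {minpoly F A}) (aeval A) (by
    intro a ha
    obtain ⟨b, rfl⟩ := Ideal.mem_span_singleton.1 ha
    rw [map_mul, minpoly.aeval, zero_mul])

theorem rho_mk (A : Module.End F W) (p : F[X]) : rho A (AdjoinRoot.mk _ p) = aeval A p := rfl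

theorem rho_root (A : Module.End F W) : rho A (AdjoinRoot.root _) = A := by
  rw [← AdjoinRoot.mk_X, rho_mk, aeval_X]

theorem commute_rho (A : Module.End F W) (κ : KK A) : Commute (rho A κ) A := by
  obtain ⟨p, rfl⟩ := AdjoinRoot.mk_surjective κ
  rw [rho_mk]
  exact commute_aeval A p

/-- evaluation at a vector. -/
noncomputable def ev (A : Module.End F W) (w : W) : KK A →ₗ[F] W :=
  (LinearMap.applyₗ w) ∘ₗ (rho A).toLinearMap

theorem ev_apply (A : Module.End F W) (w : W) (κ : KK A) : ev A w κ = rho A κ w := rfl

theorem ev_mul (A : Module.End F W) (w : W) (κ κ' : KK A) :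
    ev A w (κ * κ') = rho A κ (ev A w κ') := by
  rw [ev_apply, ev_apply, map_mul]
  rfl

theorem Irred.ev_bijective {A : Module.End F W} (h : Irred A) {w : W} (hw : w ≠ 0) :
    Function.Bijective (ev A w) := by
  have hirr : Fact (Irreducible (minpoly F A)) := ⟨h.minpoly_irreducible⟩
  constructor
  · rw [← LinearMap.ker_eq_bot, LinearMap.ker_eq_bot']
    intro κ hκ
    by_contra hne
    have h1 : rho A κ⁻¹ * rho A κ = 1 := by
      rw [← map_mul, inv_mul_cancel₀ hne, map_one]
    have h2 := LinearMap.congr_fun h1 w
    rw [Module.End.mul_apply, ← ev_apply A w κ, hκ, map_zero, Module.End.one_apply] at h2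
    exact hw h2.symm
  · rw [← LinearMap.range_eq_top]
    rcases h.2 (LinearMap.range (ev A w)) (by
      rintro _ ⟨κ, rfl⟩
      rw [Submodule.mem_comap]
      refine ⟨AdjoinRoot.root _ * κ, ?_⟩
      rw [ev_mul, rho_root]) with h1 | h1
    · exfalso
      apply hw
      have : w ∈ LinearMap.range (ev A w) := ⟨1, by rw [ev_apply, map_one, Module.End.one_apply]⟩
      rw [h1] at this
      exact (Submodule.mem_bot F).1 this
    · exact h1

/-- evaluation at a nonzero vector as an equivalence. -/
noncomputable def evEquiv {A : Module.End F W} (h : Irred A) {w : W} (hw : w ≠ 0) :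
    KK A ≃ₗ[F] W :=
  LinearEquiv.ofBijective (ev A w) (h.ev_bijective hw)

theorem evEquiv_apply {A : Module.End F W} (h : Irred A) {w : W} (hw : w ≠ 0) (κ : KK A) :
    evEquiv h hw κ = rho A κ w := rfl

/-- the determinant of `rho κ` is the norm of `κ`. -/
theorem Irred.det_rho {A : Module.End F W} (h : Irred A) (κ : KK A) :
    LinearMap.det (rho A κ) = Algebra.norm F κ := by
  have : Nontrivial W := h.1
  obtain ⟨w, hw⟩ := exists_ne (0 : W)
  have h1 : rho A κ = (evEquiv h hw : KK A →ₗ[F] W) ∘ₗ (LinearMap.mul F (KK A) κ) ∘ₗ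
      ((evEquiv h hw).symm : W →ₗ[F] KK A) := by
    apply LinearMap.ext
    intro v
    obtain ⟨κ', rfl⟩ := (evEquiv h hw).surjective v
    simp only [LinearMap.comp_apply, LinearEquiv.coe_coe, LinearEquiv.symm_apply_apply,
      LinearMap.mul_apply']
    rw [evEquiv_apply, evEquiv_apply, map_mul]
    rfl
  rw [h1, LinearMap.det_conj, Algebra.norm_apply]
  rfl

/-- the centraliser of `A` is the image of `rho`. -/
theorem Irred.exists_rho_eq {A : Module.End F W} (h : Irred A) {c : Module.End F W}
    (hc : Commute c A) : ∃ κ : KK A, rho A κ = c := by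
  have : Nontrivial W := h.1
  obtain ⟨w, hw⟩ := exists_ne (0 : W)
  obtain ⟨κ, hκ⟩ := (h.ev_bijective hw).2 (c w)
  refine ⟨κ, ?_⟩
  by_contra hne
  have hd : c - rho A κ ≠ 0 := fun h0 => hne (sub_eq_zero.1 h0).symm
  have hcomm : Commute (c - rho A κ) A := hc.sub_left (commute_rho A κ)
  have hbij := h.bijective_of_commute hcomm hd
  have h0 : (c - rho A κ) w = 0 := by
    rw [LinearMap.sub_apply, ← ev_apply, hκ, sub_self]
  exact hw (hbij.1 (by rw [h0, map_zero]))

theorem Irred.rho_injective {A : Module.End F W} (h : Irred A) : Function.Injective (rho A) := by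
  have hirr : Fact (Irreducible (minpoly F A)) := ⟨h.minpoly_irreducible⟩
  have : Nontrivial W := h.1
  exact (rho A).toRingHom.injective

theorem finite_KK [Finite F] (A : Module.End F W) : Finite (KK A) := by
  have hint : IsIntegral F A := Algebra.IsIntegral.isIntegral A
  have hne : minpoly F A ≠ 0 := minpoly.ne_zero hint
  have : Module.Finite F (KK A) := (AdjoinRoot.powerBasis hne).finite
  exact Module.finite_of_finite F

/-- over a finite field every scalar is the determinant of an operator commuting with `A`. -/
theorem Irred.exists_commute_det [Finite F] {A : Module.End F W} (h : Irred A) (μ : F) :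
    ∃ c : Module.End F W, Commute c A ∧ LinearMap.det c = μ := by
  have hirr : Fact (Irreducible (minpoly F A)) := ⟨h.minpoly_irreducible⟩
  have := finite_KK A
  obtain ⟨κ, hκ⟩ := FiniteField.norm_surjective F (KK A) μ
  exact ⟨rho A κ, commute_rho A κ, by rw [h.det_rho, hκ]⟩

end Cfsg.Agent.H9.IrredOp
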