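import Mathlib
import Cfsg.Agent.H9.IrredOp

set_option autoImplicit false

/-! Semisimple operators with the same characteristic polynomial are conjugate. -/

namespace Cfsg.Agent.H9.SemisimpleConj

open Module Polynomial Cfsg.Agent.H9.IrredOp

universe u v

variable {F : Type v} [Field F]

section Intertwine

variable {V₁ V₂ : Type*} [AddCommGroup V₁] [Module F V₁] [AddCommGroup V₂] [Module F V₂]

theorem pow_intertwine (X₁ : End F V₁) (X₂ : End F V₂) (e : V₁ →ₗ[F] V₂)
    (h : ∀ v, X₂ (e v) = e (X₁ v)) (k : ℕ) (v : V₁) : (X₂ ^ k) (e v) = e ((X₁ ^ k) v) := by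
  induction k generalizing v with
  | zero => simp
  | succ k ih => rw [pow_succ, pow_succ, Module.End.mul_apply, Module.End.mul_apply, h, ih]

theorem aeval_intertwine (X₁ : End F V₁) (X₂ : End F V₂) (e : V₁ →ₗ[F] V₂)
    (h : ∀ v, X₂ (e v) = e (X₁ v)) (p : F[X]) (v : V₁) :
    aeval X₂ p (e v) = e (aeval X₁ p v) := by
  rw [aeval_eq_sum_range, aeval_eq_sum_range, LinearMap.sum_apply, LinearMap.sum_apply, map_sum]
  refine Finset.sum_congr rfl (fun i _ => ?_)
  rw [LinearMap.smul_apply, LinearMap.smul_apply, pow_intertwine _ _ e h, map_smul]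

theorem isSemisimple_of_intertwine [FiniteDimensional F V₁] [FiniteDimensional F V₂]
    (X₁ : End F V₁) (X₂ : End F V₂) (e : V₁ →ₗ[F] V₂)
    (he : Function.Injective e) (h : ∀ v, X₂ (e v) = e (X₁ v)) (hss : X₂.IsSemisimple) :
    X₁.IsSemisimple := by
  apply Module.End.isSemisimple_of_squarefree_aeval_eq_zero (p := minpoly F X₂)
  · exact hss.minpoly_squarefree
  · apply LinearMap.ext
    intro v
    apply he
    rw [← aeval_intertwine _ _ e h, minpoly.aeval]
    simp

theorem charpoly_eq_of_equiv [FiniteDimensional F V₁] [FiniteDimensional F V₂]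
    (X₁ : End F V₁) (X₂ : End F V₂) (e : V₁ ≃ₗ[F] V₂)
    (h : ∀ v, X₂ (e v) = e (X₁ v)) : X₂.charpoly = X₁.charpoly := by
  have : X₂ = e.conj X₁ := by
    apply LinearMap.ext
    intro v
    rw [LinearEquiv.conj_apply]
    simp only [LinearMap.comp_apply, LinearEquiv.coe_coe]
    rw [← h, LinearEquiv.apply_symm_apply]
  rw [this, LinearEquiv.charpoly_conj]

end Intertwine

section Irred

variable {W : Type*} [AddCommGroup W] [Module F W] [FiniteDimensional F W]

/-- the characteristic polynomial of an irreducible operator is its minimal polynomial. -/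
theorem Irred.charpoly_eq {A : End F W} (h : Irred A) : A.charpoly = minpoly F A := by
  have : Nontrivial W := h.1
  obtain ⟨w, hw⟩ := exists_ne (0 : W)
  have hint : IsIntegral F A := Algebra.IsIntegral.isIntegral A
  have hne : minpoly F A ≠ 0 := minpoly.ne_zero hint
  have hdeg : (minpoly F A).natDegree = finrank F W := by
    rw [← (evEquiv h hw).finrank_eq, (AdjoinRoot.powerBasis hne).finrank, AdjoinRoot.powerBasis_dim]
  refine Polynomial.eq_of_monic_of_dvd_of_natDegree_le (minpoly.monic hint) A.charpoly_monic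
    (LinearMap.minpoly_dvd_charpoly A) ?_
  rw [hdeg, LinearMap.charpoly_natDegree]

/-- irreducible operators with the same minimal polynomial are conjugate. -/
theorem exists_equiv_of_irred {W' : Type*} [AddCommGroup W'] [Module F W']
    [FiniteDimensional F W'] {A : End F W} {B : End F W'} (hA : Irred A) (hB : Irred B)
    (h : minpoly F A = minpoly F B) : ∃ φ : W ≃ₗ[F] W', ∀ w, φ (A w) = B (φ w) := by
  have hWn : Nontrivial W := hA.1
  have hW'n : Nontrivial W' := hB.1
  obtain ⟨w, hw⟩ := exists_ne (0 : W)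
  obtain ⟨w', hw'⟩ := exists_ne (0 : W')
  have key : ∀ (q : F[X]) (hq : minpoly F B = q), ∃ ψ : AdjoinRoot q ≃ₗ[F] W',
      ∀ κ, ψ (AdjoinRoot.root q * κ) = B (ψ κ) := by
    rintro q rfl
    refine ⟨evEquiv hB hw', fun κ => ?_⟩
    change ev B w' (AdjoinRoot.root _ * κ) = B (ev B w' κ)
    rw [ev_mul, rho_root]
  obtain ⟨ψ, hψ⟩ := key (minpoly F A) h.symm
  refine ⟨(evEquiv hA hw).symm.trans ψ, fun x => ?_⟩
  obtain ⟨κ, rfl⟩ := (evEquiv hA hw).surjective x
  have e1 : A (evEquiv hA hw κ) = evEquiv hA hw (AdjoinRoot.root _ * κ) := by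
    change A (ev A w κ) = ev A w (AdjoinRoot.root _ * κ)
    rw [ev_mul, rho_root]
  rw [e1, LinearEquiv.trans_apply, LinearEquiv.trans_apply, LinearEquiv.symm_apply_apply,
    LinearEquiv.symm_apply_apply, hψ]

end Irred

section Split

variable {V : Type u} [AddCommGroup V] [Module F V] [FiniteDimensional F V]

/-- a minimal nonzero invariant subspace gives an irreducible restriction. -/
theorem exists_irred_invt (X : End F V) (hV : Nontrivial V) :
    ∃ (W : Submodule F V) (hW : W ≤ W.comap X), Irred (X.restrict hW) := by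
  let S : Set (Submodule F V) := {U | U ≤ U.comap X ∧ U ≠ ⊥}
  have hS : S.Nonempty := ⟨⊤, le_top, top_ne_bot⟩
  obtain ⟨W, ⟨hWinv, hW0⟩, hmin⟩ := wellFounded_lt.has_min S hS
  refine ⟨W, hWinv, ?_⟩
  set A : Module.End F W := X.restrict hWinv with hA
  refine ⟨Submodule.nontrivial_iff_ne_bot.2 hW0, ?_⟩
  intro U hU
  by_cases h0 : U = ⊥
  · left; exact h0
  · right
    have h1 : U.map W.subtype ∈ S := by
      refine ⟨?_, ?_⟩
      · rintro _ ⟨u, hu, rfl⟩
        rw [Submodule.mem_comap]
        exact ⟨A u, hU hu, rfl⟩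
      · intro h2
        apply h0
        rw [Submodule.eq_bot_iff]
        intro u hu
        have : W.subtype u ∈ U.map W.subtype := ⟨u, hu, rfl⟩
        rw [h2, Submodule.mem_bot] at this
        exact Subtype.ext this
    have h2 : U.map W.subtype ≤ W := Submodule.map_subtype_le W U
    have h3 : U.map W.subtype = W := by
      by_contra hne
      exact hmin _ h1 (lt_of_le_of_ne h2 hne)
    rw [eq_top_iff]
    intro w _
    have : (w : V) ∈ U.map W.subtype := by rw [h3]; exact w.2
    obtain ⟨u, hu, hu'⟩ := this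
    have : u = w := Subtype.ext hu'
    rw [← this]; exact hu

/-- splitting off an irreducible summand of a semisimple operator. -/
theorem exists_split (X : End F V) (hss : X.IsSemisimple) (hV : Nontrivial V) :
    ∃ (U C : Type u) (_ : AddCommGroup U) (_ : Module F U) (_ : FiniteDimensional F U)
      (_ : AddCommGroup C) (_ : Module F C) (_ : FiniteDimensional F C)
      (A : End F U) (X' : End F C) (e : (U × C) ≃ₗ[F] V),
      (∀ p, X (e p) = e (A.prodMap X' p)) ∧ Irred A := by
  obtain ⟨W, hWinv, hirr⟩ := exists_irred_invt X hV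
  obtain ⟨W', hW'inv, hcompl⟩ := Module.End.isSemisimple_iff.1 hss W
    ((Module.End.mem_invtSubmodule X).2 hWinv)
  rw [Module.End.mem_invtSubmodule] at hW'inv
  let e := Submodule.prodEquivOfIsCompl W W' hcompl
  have he : ∀ (w : W) (w' : W'), e (w, w') = (w : V) + (w' : V) := fun w w' =>
    Submodule.coe_prodEquivOfIsCompl' W W' hcompl (w, w')
  refine ⟨W, W', inferInstance, inferInstance, inferInstance, inferInstance, inferInstance,
    inferInstance, X.restrict hWinv, X.restrict hW'inv, e, ?_, hirr⟩
  rintro ⟨w, w'⟩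
  rw [LinearMap.prodMap_apply, he, he, map_add]
  rfl

variable {U C : Type u} [AddCommGroup U] [Module F U] [FiniteDimensional F U]
  [AddCommGroup C] [Module F C] [FiniteDimensional F C]

theorem split_charpoly {X : End F V} {A : End F U} {X' : End F C} (e : (U × C) ≃ₗ[F] V)
    (he : ∀ p, X (e p) = e (A.prodMap X' p)) : X.charpoly = A.charpoly * X'.charpoly := by
  rw [charpoly_eq_of_equiv (A.prodMap X') X e he, LinearMap.charpoly_prodMap]

theorem split_finrank (e : (U × C) ≃ₗ[F] V) : finrank F V = finrank F U + finrank F C := by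
  rw [← e.finrank_eq, Module.finrank_prod]

theorem split_semisimple {X : End F V} {A : End F U} {X' : End F C} (e : (U × C) ≃ₗ[F] V)
    (he : ∀ p, X (e p) = e (A.prodMap X' p)) (hss : X.IsSemisimple) : X'.IsSemisimple := by
  refine isSemisimple_of_intertwine X' X ((e : (U × C) →ₗ[F] V) ∘ₗ LinearMap.inr F U C) ?_ ?_ hss
  · intro c c' h
    simp only [LinearMap.comp_apply, LinearEquiv.coe_coe, LinearMap.inr_apply] at h
    have := e.injective h
    exact (Prod.ext_iff.1 this).2
  · intro c
    simp only [LinearMap.comp_apply, LinearEquiv.coe_coe, LinearMap.inr_apply]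
    rw [he, LinearMap.prodMap_apply, map_zero]

end Split

section Main

theorem charpoly_eq_one_of_subsingleton {V : Type u} [AddCommGroup V] [Module F V]
    [FiniteDimensional F V] [Subsingleton V] (Y : End F V) : Y.charpoly = 1 := by
  have h1 : Y.charpoly.natDegree = 0 := by
    rw [LinearMap.charpoly_natDegree, Module.finrank_zero_of_subsingleton]
  exact Polynomial.eq_one_of_monic_natDegree_zero Y.charpoly_monic h1

/-- an irreducible factor of the characteristic polynomial of a semisimple operator is the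
minimal polynomial of an irreducible direct summand. -/
theorem exists_split_of_dvd (q : F[X]) (hq : Irreducible q) (hqm : q.Monic) :
    ∀ (n : ℕ) (V : Type u) [AddCommGroup V] [Module F V] [FiniteDimensional F V] (Y : End F V),
      finrank F V = n → Y.IsSemisimple → q ∣ Y.charpoly →
    ∃ (U C : Type u) (_ : AddCommGroup U) (_ : Module F U) (_ : FiniteDimensional F U)
      (_ : AddCommGroup C) (_ : Module F C) (_ : FiniteDimensional F C)
      (B : End F U) (Y' : End F C) (e : (U × C) ≃ₗ[F] V),
      (∀ p, Y (e p) = e (B.prodMap Y' p)) ∧ Irred B ∧ minpoly F B = q := by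
  intro n
  induction n using Nat.strong_induction_on with
  | _ n ih =>
    intro V _ _ _ Y hn hss hdvd
    have hV : Nontrivial V := by
      by_contra hnt
      rw [not_nontrivial_iff_subsingleton] at hnt
      rw [charpoly_eq_one_of_subsingleton] at hdvd
      exact hq.not_isUnit (isUnit_of_dvd_one hdvd)
    obtain ⟨U₁, C₁, _, _, _, _, _, _, A₁, Y₁, e₁, he₁, hA₁⟩ := exists_split Y hss hV
    have hcp := split_charpoly e₁ he₁
    rw [hcp, Irred.charpoly_eq hA₁] at hdvd
    have hint : IsIntegral F A₁ := Algebra.IsIntegral.isIntegral A₁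
    rcases hq.prime.dvd_or_dvd hdvd with h | h
    · refine ⟨U₁, C₁, inferInstance, inferInstance, inferInstance, inferInstance, inferInstance,
        inferInstance, A₁, Y₁, e₁, he₁, hA₁, ?_⟩
      exact (eq_of_monic_of_associated hqm (minpoly.monic hint)
        (hq.associated_of_dvd hA₁.minpoly_irreducible h)).symm
    · have hfr := split_finrank (F := F) e₁
      have hU₁ : 0 < finrank F U₁ := (Module.finrank_pos_iff (R := F)).2 hA₁.1
      obtain ⟨U₂, C₂, _, _, _, _, _, _, B, Y₂, e₂, he₂, hB, hBq⟩ :=
        ih (finrank F C₁) (by omega) C₁ Y₁ rfl (split_semisimple e₁ he₁ hss) h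
      let e : (U₂ × (U₁ × C₂)) ≃ₗ[F] V :=
        (LinearEquiv.prodAssoc F U₂ U₁ C₂).symm ≪≫ₗ
          ((LinearEquiv.prodComm F U₂ U₁).prodCongr (LinearEquiv.refl F C₂)) ≪≫ₗ
          (LinearEquiv.prodAssoc F U₁ U₂ C₂) ≪≫ₗ
          ((LinearEquiv.refl F U₁).prodCongr e₂) ≪≫ₗ e₁
      have hee : ∀ u w c, e (u, (w, c)) = e₁ (w, e₂ (u, c)) := fun u w c => rfl
      refine ⟨U₂, U₁ × C₂, inferInstance, inferInstance, inferInstance, inferInstance,
        inferInstance, inferInstance, B, A₁.prodMap Y₂, e, ?_, hB, hBq⟩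
      rintro ⟨u, w, c⟩
      rw [LinearMap.prodMap_apply, LinearMap.prodMap_apply, hee, hee, he₁, LinearMap.prodMap_apply,
        he₂, LinearMap.prodMap_apply]

/-- semisimple operators with the same characteristic polynomial are conjugate. -/
theorem exists_equiv_of_charpoly_eq_aux :
    ∀ (n : ℕ) (V V' : Type u) [AddCommGroup V] [Module F V] [FiniteDimensional F V]
      [AddCommGroup V'] [Module F V'] [FiniteDimensional F V'] (X : End F V) (Y : End F V'),
      finrank F V = n → finrank F V' = n → X.IsSemisimple → Y.IsSemisimple →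
      X.charpoly = Y.charpoly → ∃ φ : V ≃ₗ[F] V', ∀ v, φ (X v) = Y (φ v) := by
  intro n
  induction n using Nat.strong_induction_on with
  | _ n ih =>
    intro V V' _ _ _ _ _ _ X Y hn hn' hX hY hc
    rcases Nat.eq_zero_or_pos n with h0 | hpos
    · have h1 : Subsingleton V := Module.finrank_zero_iff.1 (hn.trans h0)
      have h2 : Subsingleton V' := Module.finrank_zero_iff.1 (hn'.trans h0)
      exact ⟨LinearEquiv.ofFinrankEq V V' (hn.trans hn'.symm), fun v => Subsingleton.elim _ _⟩
    · have hV : Nontrivial V := (Module.finrank_pos_iff (R := F)).1 (by omega)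
      obtain ⟨U, C, _, _, _, _, _, _, A, X', e, he, hA⟩ := exists_split X hX hV
      have hint : IsIntegral F A := Algebra.IsIntegral.isIntegral A
      have hcX := split_charpoly e he
      rw [Irred.charpoly_eq hA] at hcX
      have hdvd : minpoly F A ∣ Y.charpoly := by
        rw [← hc, hcX]; exact dvd_mul_right _ _
      obtain ⟨U', C', _, _, _, _, _, _, B, Y', e', he', hB, hBq⟩ :=
        exists_split_of_dvd (minpoly F A) hA.minpoly_irreducible (minpoly.monic hint) n V' Y hn'
          hY hdvd
      have hcY := split_charpoly e' he'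
      rw [Irred.charpoly_eq hB, hBq] at hcY
      obtain ⟨φU, hφU⟩ := exists_equiv_of_irred hA hB hBq.symm
      have hc' : X'.charpoly = Y'.charpoly := by
        have : minpoly F A * X'.charpoly = minpoly F A * Y'.charpoly := by
          rw [← hcX, ← hcY, hc]
        exact mul_left_cancel₀ (minpoly.ne_zero hint) this
      have hfr := split_finrank (F := F) e
      have hfr' := split_finrank (F := F) e'
      have hU : 0 < finrank F U := (Module.finrank_pos_iff (R := F)).2 hA.1
      have hUU' := φU.finrank_eq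
      obtain ⟨φC, hφC⟩ := ih (finrank F C) (by omega) C C' X' Y' rfl (by omega)
        (split_semisimple e he hX) (split_semisimple e' he' hY) hc'
      refine ⟨e.symm ≪≫ₗ (φU.prodCongr φC) ≪≫ₗ e', fun v => ?_⟩
      obtain ⟨⟨u, c⟩, rfl⟩ := e.surjective v
      rw [he]
      simp only [LinearEquiv.trans_apply, LinearEquiv.symm_apply_apply,
        LinearEquiv.prodCongr_apply, LinearMap.prodMap_apply]
      rw [he', LinearMap.prodMap_apply, hφU, hφC]

theorem exists_equiv_of_charpoly_eq {V V' : Type u} [AddCommGroup V] [Module F V]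
    [FiniteDimensional F V] [AddCommGroup V'] [Module F V'] [FiniteDimensional F V']
    (X : End F V) (Y : End F V') (hX : X.IsSemisimple) (hY : Y.IsSemisimple)
    (hc : X.charpoly = Y.charpoly) : ∃ φ : V ≃ₗ[F] V', ∀ v, φ (X v) = Y (φ v) := by
  refine exists_equiv_of_charpoly_eq_aux (finrank F V) V V' X Y rfl ?_ hX hY hc
  rw [← LinearMap.charpoly_natDegree Y, ← hc, LinearMap.charpoly_natDegree]

end Main

section Mat

open Matrix

variable {ι : Type*} [Fintype ι] [DecidableEq ι]

/-- semisimple matrices with the same characteristic polynomial are conjugate under `GL`. -/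
theorem exists_gl_conj (M N : Matrix ι ι F) (hM : Module.End.IsSemisimple (Matrix.toLin' M))
    (hN : Module.End.IsSemisimple (Matrix.toLin' N)) (hc : M.charpoly = N.charpoly) :
    ∃ P : GL ι F, (P : Matrix ι ι F) * M = N * (P : Matrix ι ι F) := by
  obtain ⟨φ, hφ⟩ := exists_equiv_of_charpoly_eq (Matrix.toLin' M) (Matrix.toLin' N) hM hN
    (by rw [Matrix.charpoly_toLin', Matrix.charpoly_toLin', hc])
  have h1 : LinearMap.toMatrix' (φ : (ι → F) →ₗ[F] (ι → F)) *
      LinearMap.toMatrix' (φ.symm : (ι → F) →ₗ[F] (ι → F)) = 1 := by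
    rw [← LinearMap.toMatrix'_comp, LinearEquiv.comp_symm, LinearMap.toMatrix'_id]
  have h2 : LinearMap.toMatrix' (φ.symm : (ι → F) →ₗ[F] (ι → F)) *
      LinearMap.toMatrix' (φ : (ι → F) →ₗ[F] (ι → F)) = 1 := by
    rw [← LinearMap.toMatrix'_comp, LinearEquiv.symm_comp, LinearMap.toMatrix'_id]
  refine ⟨⟨LinearMap.toMatrix' (φ : (ι → F) →ₗ[F] (ι → F)),
    LinearMap.toMatrix' (φ.symm : (ι → F) →ₗ[F] (ι → F)), h1, h2⟩, ?_⟩
  change LinearMap.toMatrix' (φ : (ι → F) →ₗ[F] (ι → F)) * M = N * LinearMap.toMatrix' _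
  apply Matrix.toLin'.injective
  rw [Matrix.toLin'_mul, Matrix.toLin'_mul, Matrix.toLin'_toMatrix']
  apply LinearMap.ext
  intro v
  rw [LinearMap.comp_apply, LinearMap.comp_apply]
  exact hφ v

/-- a matrix of finite order prime to the characteristic is semisimple. -/
theorem isSemisimple_of_pow_eq_one (M : Matrix ι ι F) (k : ℕ) (hk : (k : F) ≠ 0)
    (hM : M ^ k = 1) : Module.End.IsSemisimple (Matrix.toLin' M) := by
  apply Module.End.isSemisimple_of_squarefree_aeval_eq_zero
    (p := (Polynomial.X : F[X]) ^ k - C 1)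
  · exact (separable_X_pow_sub_C (1 : F) hk one_ne_zero).squarefree
  · rw [map_sub, map_pow, aeval_X, aeval_C, ← Matrix.toLin'_pow, hM, Matrix.toLin'_one, map_one]
    exact sub_self _

end Mat

end Cfsg.Agent.H9.SemisimpleConj
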