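import Mathlib

set_option autoImplicit false

/-! Over a finite field of characteristic `p`, every monic polynomial with nonzero constant term
is the characteristic polynomial of an invertible matrix of order prime to `p`. -/

namespace Cfsg.Agent.H9.SemisimpleExists

open Module Polynomial

universe v

variable {F : Type v} [Field F] [Finite F]

/-- multiplication by the root on `AdjoinRoot q`. -/
theorem exists_irred_block (p : ℕ) [Fact p.Prime] [CharP F p] (q : F[X]) (hq : Irreducible q)
    (hqm : q.Monic) (hq0 : q.coeff 0 ≠ 0) :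
    ∃ (_ : FiniteDimensional F (AdjoinRoot q)) (X : End F (AdjoinRoot q)) (k : ℕ),
      k.Coprime p ∧ X ^ k = 1 ∧ X.charpoly = q := by
  have : Fact (Irreducible q) := ⟨hq⟩
  have hfd : FiniteDimensional F (AdjoinRoot q) := (AdjoinRoot.powerBasis hq.ne_zero).finite
  have : Finite (AdjoinRoot q) := Module.finite_of_finite F
  let _ : Fintype (AdjoinRoot q) := Fintype.ofFinite _
  have : CharP (AdjoinRoot q) p :=
    charP_of_injective_algebraMap (algebraMap F (AdjoinRoot q)).injective p
  have hroot : AdjoinRoot.root q ≠ 0 := by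
    intro h0
    have h1 := AdjoinRoot.eval₂_root q
    rw [h0, Polynomial.eval₂_at_zero] at h1
    exact hq0 ((map_eq_zero _).1 h1)
  obtain ⟨m, -, hm⟩ := FiniteField.card (AdjoinRoot q) p
  have hp : p.Prime := Fact.out
  refine ⟨hfd, Algebra.lmul F (AdjoinRoot q) (AdjoinRoot.root q), Fintype.card (AdjoinRoot q) - 1,
    ?_, ?_, ?_⟩
  · rw [hm]
    have h2 : p ∣ p ^ (m : ℕ) := dvd_pow_self p m.pos.ne'
    have h3 : 0 < p ^ (m : ℕ) := pow_pos hp.pos _
    rw [Nat.coprime_comm, Nat.Prime.coprime_iff_not_dvd hp]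
    intro h4
    have : p ∣ 1 := by
      have h5 : p ^ (m : ℕ) = (p ^ (m : ℕ) - 1) + 1 := by omega
      rw [h5] at h2
      exact (Nat.dvd_add_right h4).1 h2
    exact hp.one_lt.ne' (Nat.dvd_one.1 this)
  · rw [← map_pow, FiniteField.pow_card_sub_one_eq_one _ hroot, map_one]
  · have h1 := charpoly_leftMulMatrix (AdjoinRoot.powerBasis hq.ne_zero)
    rw [Algebra.leftMulMatrix_apply, LinearMap.charpoly_toMatrix, AdjoinRoot.powerBasis_gen,
      AdjoinRoot.minpoly_root hq.ne_zero, hqm.leadingCoeff, inv_one, map_one, mul_one] at h1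
    exact h1

theorem charpoly_eq_one_of_subsingleton {V : Type*} [AddCommGroup V] [Module F V]
    [FiniteDimensional F V] [Subsingleton V] (Y : End F V) : Y.charpoly = 1 := by
  have h1 : Y.charpoly.natDegree = 0 := by
    rw [LinearMap.charpoly_natDegree, Module.finrank_zero_of_subsingleton]
  exact Polynomial.eq_one_of_monic_natDegree_zero Y.charpoly_monic h1

/-- every monic polynomial with nonzero constant term is the characteristic polynomial of an
operator of order prime to `p`. -/
theorem exists_operator (p : ℕ) [Fact p.Prime] [CharP F p] :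
    ∀ (d : ℕ) (f : F[X]), f.Monic → f.natDegree = d → f.coeff 0 ≠ 0 →
    ∃ (V : Type v) (_ : AddCommGroup V) (_ : Module F V) (_ : FiniteDimensional F V)
      (X : End F V) (k : ℕ), k.Coprime p ∧ X ^ k = 1 ∧ X.charpoly = f := by
  intro d
  induction d using Nat.strong_induction_on with
  | _ d ih =>
    intro f hfm hfd hf0
    rcases Nat.eq_zero_or_pos d with h0 | hpos
    · have hf1 : f = 1 := Polynomial.eq_one_of_monic_natDegree_zero hfm (hfd.trans h0)
      refine ⟨PUnit, inferInstance, inferInstance, inferInstance, 1, 1, Nat.coprime_one_left p,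
        pow_one _, ?_⟩
      rw [hf1]
      exact charpoly_eq_one_of_subsingleton _
    · have hnu : ¬ IsUnit f := by
        intro hu
        have := Polynomial.natDegree_eq_zero_of_isUnit hu
        omega
      obtain ⟨q, hqm, hq, f', rfl⟩ := Polynomial.exists_monic_irreducible_factor f hnu
      have hf'm : f'.Monic := hqm.of_mul_monic_left hfm
      rw [Polynomial.mul_coeff_zero] at hf0
      have hq0 : q.coeff 0 ≠ 0 := left_ne_zero_of_mul hf0
      have hf'0 : f'.coeff 0 ≠ 0 := right_ne_zero_of_mul hf0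
      rw [hqm.natDegree_mul hf'm] at hfd
      have hqd : 0 < q.natDegree := hq.natDegree_pos
      obtain ⟨V', _, _, _, X', k', hk', hX'k, hX'c⟩ :=
        ih f'.natDegree (by omega) f' hf'm rfl hf'0
      obtain ⟨_, X₁, k₁, hk₁, hX₁k, hX₁c⟩ := exists_irred_block p q hq hqm hq0
      refine ⟨AdjoinRoot q × V', inferInstance, inferInstance, inferInstance,
        X₁.prodMap X', k₁ * k', Nat.Coprime.mul_left hk₁ hk', ?_, ?_⟩
      · have h1 : X₁.prodMap X' = LinearMap.prodMapAlgHom F _ _ (X₁, X') := rfl
        rw [h1, ← map_pow, Prod.pow_mk, pow_mul, hX₁k, one_pow, mul_comm, pow_mul, hX'k, one_pow]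
        exact map_one _
      · rw [LinearMap.charpoly_prodMap, hX₁c, hX'c]

/-- matrix version -/
theorem exists_gl (p : ℕ) [Fact p.Prime] [CharP F p] (n : ℕ) (f : F[X]) (hfm : f.Monic)
    (hfd : f.natDegree = n) (hf0 : f.coeff 0 ≠ 0) :
    ∃ g : GL (Fin n) F, (orderOf g).Coprime p ∧
      (g : Matrix (Fin n) (Fin n) F).charpoly = f := by
  obtain ⟨V, _, _, _, X, k, hk, hXk, hXc⟩ := exists_operator p n f hfm hfd hf0
  have hfr : finrank F V = n := by rw [← LinearMap.charpoly_natDegree X, hXc, hfd]
  let b := Module.finBasisOfFinrankEq F V hfr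
  set M := LinearMap.toMatrix b b X with hM
  have hMk : M ^ k = 1 := by rw [hM, LinearMap.toMatrix_pow, hXk, LinearMap.toMatrix_one]
  have hk1 : 1 ≤ k := by
    rcases Nat.eq_zero_or_pos k with h | h
    · subst h
      rw [Nat.coprime_zero_left] at hk
      exact absurd hk (Fact.out : p.Prime).one_lt.ne'
    · exact h
  have hk' : k = (k - 1) + 1 := by omega
  let g : GL (Fin n) F := ⟨M, M ^ (k - 1), by rw [← pow_succ', ← hk', hMk],
    by rw [← pow_succ, ← hk', hMk]⟩
  refine ⟨g, ?_, ?_⟩
  · have : g ^ k = 1 := Units.ext (by rw [Units.val_pow_eq_pow_val]; exact hMk)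
    exact Nat.Coprime.coprime_dvd_left (orderOf_dvd_of_pow_eq_one this) hk
  · change M.charpoly = f
    rw [hM, LinearMap.charpoly_toMatrix, hXc]

end Cfsg.Agent.H9.SemisimpleExists


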