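import Mathlib

set_option autoImplicit false

/-! Zsigmondy's theorem via cyclotomic polynomials. -/

namespace Cfsg.Agent.H9.Zsigmondy

open Polynomial

/-- the value of the `n`-th cyclotomic polynomial at `a` -/
noncomputable def cyc (n a : ℕ) : ℕ := ((cyclotomic n ℤ).eval (a : ℤ)).natAbs

theorem cyc_cast_int (n a : ℕ) (ha : 2 ≤ a) :
    ((cyc n a : ℕ) : ℤ) = (cyclotomic n ℤ).eval (a : ℤ) := by
  unfold cyc
  have h : 0 < (cyclotomic n ℤ).eval (a : ℤ) := cyclotomic_pos' n (by exact_mod_cast ha)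
  rw [Int.natCast_natAbs, abs_of_pos h]

theorem cyc_cast_real (n a : ℕ) (ha : 2 ≤ a) :
    ((cyc n a : ℕ) : ℝ) = (cyclotomic n ℝ).eval (a : ℝ) := by
  have h1 := cyc_cast_int n a ha
  have h2 := cyclotomic.eval_apply (a : ℤ) n (Int.castRingHom ℝ)
  have h3 : ((cyc n a : ℕ) : ℝ) = (((cyc n a : ℕ) : ℤ) : ℝ) := by push_cast; rfl
  rw [h3, h1]
  simpa using h2.symm

theorem cyc_pos (n a : ℕ) (ha : 2 ≤ a) : 0 < cyc n a := by
  have h : 0 < (cyclotomic n ℤ).eval (a : ℤ) := cyclotomic_pos' n (by exact_mod_cast ha)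
  rw [← cyc_cast_int n a ha] at h
  exact_mod_cast h

/-- `Φ_n(a)` divides `a^n - 1` -/
theorem cyc_dvd_int (n a : ℕ) : (cyclotomic n ℤ).eval (a : ℤ) ∣ (a : ℤ) ^ n - 1 := by
  have h := eval_dvd (x := (a : ℤ)) (cyclotomic.dvd_X_pow_sub_one n ℤ)
  simpa using h

/-- `Φ_n(a)` divides the geometric sum `Σ_{i<s} (a^(n/s))^i` for a prime `s ∣ n` -/
theorem cyc_dvd_geom (n a s : ℕ) (ha : 2 ≤ a) (hn : 0 < n) (hs : s.Prime) (hsn : s ∣ n) :
    (cyclotomic n ℤ).eval (a : ℤ) ∣ ∑ i ∈ Finset.range s, ((a : ℤ) ^ (n / s)) ^ i := by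
  have hd : n / s ∈ n.properDivisors := by
    rw [Nat.mem_properDivisors]
    exact ⟨Nat.div_dvd_of_dvd hsn, Nat.div_lt_self hn hs.one_lt⟩
  have h := eval_dvd (x := (a : ℤ))
    (X_pow_sub_one_mul_cyclotomic_dvd_X_pow_sub_one_of_dvd ℤ hd)
  simp only [eval_mul, eval_sub, eval_pow, eval_X, eval_one] at h
  have hn' : n = n / s * s := (Nat.div_mul_cancel hsn).symm
  have h2 : (a : ℤ) ^ n - 1 = ((a : ℤ) ^ (n / s) - 1) *
      ∑ i ∈ Finset.range s, ((a : ℤ) ^ (n / s)) ^ i := by
    rw [mul_geom_sum, ← pow_mul, ← hn']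
  rw [h2] at h
  have hne : ((a : ℤ) ^ (n / s) - 1) ≠ 0 := by
    have hpos : 0 < n / s := Nat.div_pos (Nat.le_of_dvd hn hsn) hs.pos
    have : (1 : ℤ) < (a : ℤ) ^ (n / s) := by
      have h1 : (1 : ℤ) < (a : ℤ) := by exact_mod_cast ha
      exact one_lt_pow₀ h1 hpos.ne'
    omega
  exact (mul_dvd_mul_iff_left hne).1 h

section Mod

variable (n a r : ℕ) [hr : Fact r.Prime]

theorem root_of_dvd (h : (r : ℤ) ∣ (cyclotomic n ℤ).eval (a : ℤ)) :
    IsRoot (cyclotomic n (ZMod r)) (a : ZMod r) := by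
  have : ((a : ℤ) : ZMod r) = ↑(Int.castRingHom (ZMod r) a) := by simp
  rw [IsRoot.def, ← map_cyclotomic_int n (ZMod r), eval_map, ← Int.cast_natCast, this,
    eval₂_hom, Int.coe_castRingHom, ZMod.intCast_zmod_eq_zero_iff_dvd]
  exact h

theorem pow_eq_one_of_dvd (h : (r : ℤ) ∣ (cyclotomic n ℤ).eval (a : ℤ)) :
    (a : ZMod r) ^ n = 1 := by
  have h1 := h.trans (cyc_dvd_int n a)
  rw [← ZMod.intCast_zmod_eq_zero_iff_dvd] at h1
  push_cast at h1
  exact sub_eq_zero.1 h1

/-- a prime divisor of `Φ_n(a)` not dividing `n` is a primitive prime divisor -/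
theorem orderOf_eq (hn : 0 < n) (h : (r : ℤ) ∣ (cyclotomic n ℤ).eval (a : ℤ)) (hrn : ¬ r ∣ n) :
    orderOf (a : ZMod r) = n := by
  have hroot := root_of_dvd n a r h
  have : NeZero (n : ZMod r) := NeZero.of_not_dvd (ZMod r) hrn
  exact (isRoot_cyclotomic_iff.mp hroot).eq_orderOf.symm

/-- if `r ∣ n` then `a^(n/r) ≡ 1` -/
theorem pow_div_eq_one (h : (r : ℤ) ∣ (cyclotomic n ℤ).eval (a : ℤ)) (hrn : r ∣ n) :
    (a : ZMod r) ^ (n / r) = 1 := by
  have h1 := pow_eq_one_of_dvd n a r h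
  have hn' : n = n / r * r := (Nat.div_mul_cancel hrn).symm
  rw [hn', pow_mul, ZMod.pow_card] at h1
  exact h1

/-- a prime divisor of `Φ_n(a)` is not smaller than any prime divisor of `n` -/
theorem not_lt_of_dvd (ha : 2 ≤ a) (hn : 0 < n) (p : ℕ) (hp : p.Prime) (hpn : p ∣ n) (hrp : r < p)
    (h : (r : ℤ) ∣ (cyclotomic n ℤ).eval (a : ℤ)) : False := by
  have h1 := pow_eq_one_of_dvd n a r h
  have ha0 : (a : ZMod r) ≠ 0 := by
    intro h0
    rw [h0, zero_pow hn.ne'] at h1
    exact zero_ne_one h1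
  set f := orderOf (a : ZMod r) with hf
  have hfn : f ∣ n := orderOf_dvd_of_pow_eq_one h1
  have hfr : f ∣ r - 1 := ZMod.orderOf_dvd_card_sub_one ha0
  have hfpos : 0 < f := Nat.pos_of_dvd_of_pos hfn hn
  have hr1 : 0 < r - 1 := by have := hr.out.two_le; omega
  have hfle : f ≤ r - 1 := Nat.le_of_dvd hr1 hfr
  have hcop : Nat.Coprime f p := by
    rw [Nat.coprime_comm, hp.coprime_iff_not_dvd]
    intro hpf
    have := Nat.le_of_dvd hfpos hpf
    omega
  have hfnp : f ∣ n / p := by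
    have hn' : n = p * (n / p) := (Nat.mul_div_cancel' hpn).symm
    rw [hn'] at hfn
    exact hcop.dvd_of_dvd_mul_left hfn
  have h2 : (a : ZMod r) ^ (n / p) = 1 := orderOf_dvd_iff_pow_eq_one.1 hfnp
  have h3 := h.trans (cyc_dvd_geom n a p ha hn hp hpn)
  rw [← ZMod.intCast_zmod_eq_zero_iff_dvd] at h3
  push_cast at h3
  rw [h2] at h3
  simp only [one_pow, Finset.sum_const, Finset.card_range, nsmul_eq_mul, mul_one] at h3
  rw [ZMod.natCast_eq_zero_iff] at h3
  have := (Nat.prime_dvd_prime_iff_eq hr.out hp).1 h3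
  omega

/-- an odd prime divisor of `n` divides `Φ_n(a)` at most once -/
theorem not_sq_dvd_odd (ha : 2 ≤ a) (hn : 0 < n) (hodd : Odd r) (hrn : r ∣ n)
    (h : (r : ℤ) ∣ (cyclotomic n ℤ).eval (a : ℤ)) :
    ¬ ((r : ℤ) ^ 2 ∣ (cyclotomic n ℤ).eval (a : ℤ)) := by
  intro hsq
  set b := a ^ (n / r) with hb
  have hpos : 0 < n / r := Nat.div_pos (Nat.le_of_dvd hn hrn) hr.out.pos
  have hb2 : 1 < b := Nat.one_lt_pow hpos.ne' (by omega)
  have hb1 : r ∣ b - 1 := by
    rw [← ZMod.natCast_eq_zero_iff, Nat.cast_sub hb2.le, hb, Nat.cast_pow,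
      pow_div_eq_one n a r h hrn]
    simp
  have hrb : ¬ r ∣ b := by
    intro hrb
    have h1 : r ∣ b - (b - 1) := Nat.dvd_sub hrb hb1
    have h2 : b - (b - 1) = 1 := by omega
    rw [h2] at h1
    exact hr.out.one_lt.ne' (Nat.dvd_one.1 h1)
  have hlte := padicValNat.pow_sub_pow (p := r) hodd hb2 hb1 hrb (n := r) hr.out.ne_zero
  rw [one_pow, padicValNat_self] at hlte
  set S := ∑ i ∈ Finset.range r, b ^ i with hS
  have hbr : 1 ≤ b ^ r := Nat.one_le_pow _ _ (by omega)
  have hmul : (b - 1) * S = b ^ r - 1 := by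
    zify [hb2.le, hbr]
    rw [hS]
    push_cast
    exact mul_geom_sum _ _
  have hS0 : S ≠ 0 := by
    intro h0
    rw [h0, mul_zero] at hmul
    have : 1 < b ^ r := Nat.one_lt_pow hr.out.ne_zero hb2
    omega
  have hb10 : b - 1 ≠ 0 := by omega
  rw [← hmul, padicValNat.mul hb10 hS0] at hlte
  have hval : padicValNat r S = 1 := by omega
  have hdvd : (r : ℤ) ^ 2 ∣ (S : ℤ) := by
    have h3 := hsq.trans (cyc_dvd_geom n a r ha hn hr.out hrn)
    rw [hS, hb]
    push_cast
    exact h3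
  have hdvd' : r ^ 2 ∣ S := by
    have : ((r ^ 2 : ℕ) : ℤ) ∣ (S : ℤ) := by
      push_cast
      exact hdvd
    exact Int.natCast_dvd_natCast.1 this
  have := (padicValNat_dvd_iff_le hS0).1 hdvd'
  omega

end Mod

/-- if `4 ∣ n` then `4 ∤ Φ_n(a)` -/
theorem not_four_dvd (n a : ℕ) (ha : 2 ≤ a) (hn : 0 < n) (h4 : 4 ∣ n)
    (h : (2 : ℤ) ∣ (cyclotomic n ℤ).eval (a : ℤ)) :
    ¬ ((4 : ℤ) ∣ (cyclotomic n ℤ).eval (a : ℤ)) := by
  intro h4'
  have : Fact (Nat.Prime 2) := ⟨Nat.prime_two⟩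
  have h2n : 2 ∣ n := (by norm_num : 2 ∣ 4).trans h4
  have hodd : Odd a := by
    rw [← Nat.not_even_iff_odd]
    intro hev
    have h1 := pow_eq_one_of_dvd n a 2 (by exact_mod_cast h)
    have h0 : (a : ZMod 2) = 0 := by
      rw [ZMod.natCast_eq_zero_iff]
      exact even_iff_two_dvd.1 hev
    rw [h0, zero_pow hn.ne'] at h1
    exact zero_ne_one h1
  have h3 := h4'.trans (cyc_dvd_geom n a 2 ha hn Nat.prime_two h2n)
  rw [Finset.sum_range_succ, Finset.sum_range_one, pow_zero, pow_one] at h3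
  obtain ⟨k, hk⟩ := h4
  have hn2 : n / 2 = (n / 4) * 2 := by omega
  rw [hn2, pow_mul] at h3
  have hc : Odd ((a : ℤ) ^ (n / 4)) := by
    apply Odd.pow
    exact_mod_cast hodd
  have hsq := Int.sq_mod_four_eq_one_of_odd hc
  omega

theorem cyc_one (x : ℕ) (h : 1 ≤ x) : cyc 1 x = x - 1 := by
  unfold cyc
  rw [cyclotomic_one, eval_sub, eval_X, eval_one]
  have : ((x : ℤ) - 1) = ((x - 1 : ℕ) : ℤ) := by
    rw [Nat.cast_sub h, Nat.cast_one]
  rw [this, Int.natAbs_natCast]

theorem big_pow (p : ℕ) (hp : 5 ≤ p) : 3 * p + 2 ≤ 2 ^ p := by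
  induction p, hp using Nat.le_induction with
  | base => norm_num
  | succ k hk ih =>
    rw [pow_succ]
    omega

theorem seven_pow (k : ℕ) : 3 * 3 ^ (k + 2) < 7 ^ (k + 2) := by
  have h : 3 ^ k ≤ 7 ^ k := Nat.pow_le_pow_left (by norm_num) k
  have h' : 0 < 7 ^ k := by positivity
  rw [pow_add, pow_add]
  omega

/-- the lower bound `p < Φ_n(a)` for prime divisors `p` of `n` -/
theorem lt_cyc (n a p : ℕ) (ha : 2 ≤ a) (hn : 3 ≤ n) (h6 : ¬ (a = 2 ∧ n = 6)) (hp : p.Prime)
    (hpn : p ∣ n) (hp2 : p = 2 → 4 ∣ n) : p < cyc n a := by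
  rcases Nat.lt_or_ge 2 a with ha3 | ha2
  · have h1 := sub_one_pow_totient_lt_natAbs_cyclotomic_eval (n := n) (q := a) (by omega)
      (by omega)
    have h2 : p - 1 ≤ n.totient := by
      have := Nat.totient_dvd_of_dvd hpn
      rw [Nat.totient_prime hp] at this
      exact Nat.le_of_dvd (Nat.totient_pos.2 (by omega)) this
    have h3 : 2 ^ (p - 1) ≤ (a - 1) ^ n.totient :=
      calc 2 ^ (p - 1) ≤ 2 ^ n.totient := Nat.pow_le_pow_right (by norm_num) h2
        _ ≤ (a - 1) ^ n.totient := Nat.pow_le_pow_left (by omega) _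
    have h4 : p ≤ 2 ^ (p - 1) := by
      have h5 := Nat.lt_two_pow_self (n := p - 1)
      have := hp.pos
      omega
    unfold cyc
    omega
  · have ha' : a = 2 := by omega
    subst ha'
    obtain ⟨m, rfl⟩ := hpn
    have hm : 0 < m := by
      rcases Nat.eq_zero_or_pos m with h | h
      · rw [h, mul_zero] at hn
        omega
      · exact h
    by_cases hpm : p ∣ m
    · have e : cyclotomic (m * p) ℤ = expand ℤ p (cyclotomic m ℤ) :=
        (cyclotomic_expand_eq_cyclotomic hp hpm ℤ).symm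
      have hcyc : cyc (p * m) 2 = cyc m (2 ^ p) := by
        unfold cyc
        rw [mul_comm p m, e, expand_eval]
        push_cast
        rfl
      rw [hcyc]
      have hm2 : 1 < m := lt_of_lt_of_le hp.one_lt (Nat.le_of_dvd hm hpm)
      have h2p : 1 < 2 ^ p := Nat.one_lt_two_pow hp.ne_zero
      have h1 := sub_one_pow_totient_lt_natAbs_cyclotomic_eval (n := m) (q := 2 ^ p) hm2
        (by omega)
      have h2 : 2 ^ p - 1 ≤ (2 ^ p - 1) ^ m.totient :=
        Nat.le_self_pow (Nat.totient_pos.2 hm).ne' _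
      have h3 : p < 2 ^ p := Nat.lt_two_pow_self
      unfold cyc
      omega
    · have hp3 : 3 ≤ p := by
        by_contra hlt
        have hp2' : p = 2 := by
          have := hp.two_le
          omega
        have h4 := hp2 hp2'
        subst hp2'
        apply hpm
        omega
      have e : expand ℤ p (cyclotomic m ℤ) = cyclotomic (m * p) ℤ * cyclotomic m ℤ :=
        cyclotomic_expand_eq_cyclotomic_mul hp hpm ℤ
      have hmul : cyc (p * m) 2 * cyc m 2 = cyc m (2 ^ p) := by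
        have h := congrArg (eval (2 : ℤ)) e
        rw [expand_eval, eval_mul] at h
        unfold cyc
        rw [mul_comm p m, ← Int.natAbs_mul]
        push_cast
        rw [← h]
      have hub : (cyc m 2 : ℝ) ≤ 3 ^ m.totient := by
        rw [cyc_cast_real m 2 le_rfl]
        have := cyclotomic_eval_le_add_one_pow_totient (q := (2 : ℝ)) (by norm_num) m
        norm_num at this ⊢
        exact this
      have hub' : cyc m 2 ≤ 3 ^ m.totient := by exact_mod_cast hub
      have h2p : 2 ≤ 2 ^ p := by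
        have := Nat.one_lt_two_pow hp.ne_zero
        omega
      have hlb : (2 ^ p - 1) ^ m.totient ≤ cyc m (2 ^ p) := by
        have h1 : (1 : ℝ) < ((2 ^ p : ℕ) : ℝ) := by exact_mod_cast h2p
        have h := sub_one_pow_totient_le_cyclotomic_eval h1 m
        rw [← cyc_cast_real m (2 ^ p) h2p] at h
        have h' : (((2 ^ p - 1) ^ m.totient : ℕ) : ℝ) ≤ (cyc m (2 ^ p) : ℝ) := by
          rw [Nat.cast_pow, Nat.cast_sub (by omega), Nat.cast_one]
          exact h
        exact_mod_cast h'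
      by_contra hle
      rw [not_lt] at hle
      have hφ : 1 ≤ m.totient := Nat.totient_pos.2 hm
      have key : (2 ^ p - 1) ^ m.totient ≤ p * 3 ^ m.totient := by
        calc (2 ^ p - 1) ^ m.totient ≤ cyc m (2 ^ p) := hlb
          _ = cyc (p * m) 2 * cyc m 2 := hmul.symm
          _ ≤ p * 3 ^ m.totient := Nat.mul_le_mul hle hub'
      rcases Nat.lt_or_ge p 5 with hp5 | hp5
      · have hp3' : p = 3 := by
          interval_cases p
          · rfl
          · exact absurd hp (by norm_num)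
        subst hp3'
        rcases Nat.lt_or_ge m 3 with hm3 | hm3
        · interval_cases m
          · rw [cyc_one _ (by norm_num), cyc_one _ (by norm_num)] at hmul
            omega
          · exact h6 ⟨rfl, rfl⟩
        · have hev := Nat.totient_even (n := m) (by omega)
          obtain ⟨k, hk⟩ : ∃ k, m.totient = k + 2 := by
            obtain ⟨j, hj⟩ := hev
            exact ⟨m.totient - 2, by omega⟩
          rw [hk] at key
          have := seven_pow k
          norm_num at key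
          omega
      · have h1 : 3 * p + 2 ≤ 2 ^ p := big_pow p hp5
        have h2 : (3 * p) ^ m.totient < (2 ^ p - 1) ^ m.totient :=
          Nat.pow_lt_pow_left (by omega) (by omega)
        rw [mul_pow] at h2
        have h3 : p ≤ p ^ m.totient := Nat.le_self_pow (by omega) p
        have h4 : 3 ^ m.totient * p ≤ 3 ^ m.totient * p ^ m.totient :=
          Nat.mul_le_mul_left _ h3
        have h5 := lt_of_lt_of_le h2 key
        rw [mul_comm p] at h5
        omega

/-- Zsigmondy's theorem for `n ≥ 3`, in terms of multiplicative orders -/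
theorem exists_primitive (a n : ℕ) (ha : 2 ≤ a) (hn : 3 ≤ n) (h6 : ¬ (a = 2 ∧ n = 6)) :
    ∃ r : ℕ, r.Prime ∧ orderOf (a : ZMod r) = n := by
  by_contra hno
  push Not at hno
  have hne : n.primeFactors.Nonempty := Nat.nonempty_primeFactors.2 (by omega)
  obtain ⟨p, hpmem, hpmax⟩ := Finset.exists_max_image n.primeFactors id hne
  have hp : p.Prime := Nat.prime_of_mem_primeFactors hpmem
  have hpn : p ∣ n := Nat.dvd_of_mem_primeFactors hpmem
  have hmax : ∀ s, s.Prime → s ∣ n → s ≤ p := fun s hs hsn =>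
    hpmax s (Nat.mem_primeFactors.2 ⟨hs, hsn, by omega⟩)
  have hp2 : p = 2 → 4 ∣ n := by
    intro h2
    have hn2 : n = 2 ^ n.primeFactorsList.length :=
      Nat.eq_prime_pow_of_unique_prime_dvd (by omega) (fun {d} hd hdn => by
        have h1 := hmax d hd hdn
        have h3 := hd.two_le
        omega)
    set k := n.primeFactorsList.length with hk
    have hk2 : 2 ≤ k := by
      by_contra hlt
      have : k = 0 ∨ k = 1 := by omega
      rcases this with h | h
      · rw [h, pow_zero] at hn2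
        omega
      · rw [h, pow_one] at hn2
        omega
    rw [hn2]
    exact pow_dvd_pow 2 hk2
  have hlt := lt_cyc n a p ha hn h6 hp hpn hp2
  have hall : ∀ {d : ℕ}, d.Prime → d ∣ cyc n a → d = p := by
    intro d hd hdc
    have : Fact d.Prime := ⟨hd⟩
    have hdi : (d : ℤ) ∣ (cyclotomic n ℤ).eval (a : ℤ) := by
      rw [← cyc_cast_int n a ha]
      exact_mod_cast hdc
    by_cases hdn : d ∣ n
    · rcases lt_or_eq_of_le (hmax d hd hdn) with hlt' | heq
      · exact (not_lt_of_dvd n a d ha (by omega) p hp hpn hlt' hdi).elim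
      · exact heq
    · exact absurd (orderOf_eq n a d (by omega) hdi hdn) (hno d hd)
  have hpow := Nat.eq_prime_pow_of_unique_prime_dvd (cyc_pos n a ha).ne' hall
  set k := (cyc n a).primeFactorsList.length with hk
  have hk1 : k ≤ 1 := by
    by_contra hkn
    have hk2 : 2 ≤ k := by omega
    have hsq : p ^ 2 ∣ cyc n a := by
      rw [hpow]
      exact pow_dvd_pow p hk2
    have hp1 : p ∣ cyc n a := (dvd_pow_self p two_ne_zero).trans hsq
    have : Fact p.Prime := ⟨hp⟩
    have hpi : (p : ℤ) ∣ (cyclotomic n ℤ).eval (a : ℤ) := by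
      rw [← cyc_cast_int n a ha]
      exact_mod_cast hp1
    have hsqi : (p : ℤ) ^ 2 ∣ (cyclotomic n ℤ).eval (a : ℤ) := by
      rw [← cyc_cast_int n a ha]
      exact_mod_cast hsq
    rcases hp.eq_two_or_odd' with h2 | hodd
    · subst h2
      refine not_four_dvd n a ha (by omega) (hp2 rfl) (by exact_mod_cast hpi) ?_
      norm_num at hsqi
      exact hsqi
    · exact not_sq_dvd_odd n a p ha (by omega) hodd hpn hpi hsqi
  have hle : cyc n a ≤ p := by
    rw [hpow]
    calc p ^ k ≤ p ^ 1 := Nat.pow_le_pow_right hp.pos hk1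
      _ = p := pow_one p
  omega

/-- Zsigmondy's theorem -/
theorem zsigmondy (a n : ℕ) (ha : 1 < a) (hn : 1 < n) (h6 : ¬ (a = 2 ∧ n = 6))
    (h2 : ¬ (n = 2 ∧ ∃ m : ℕ, a + 1 = 2 ^ m)) :
    ∃ r : ℕ, r.Prime ∧ r ∣ a ^ n - 1 ∧ ∀ k : ℕ, 0 < k → k < n → ¬ r ∣ a ^ k - 1 := by
  rcases Nat.lt_or_ge n 3 with hn3 | hn3
  · have hn2 : n = 2 := by omega
    subst hn2
    have hpow : ¬ ∃ m, a + 1 = 2 ^ m := fun h => h2 ⟨rfl, h⟩
    rcases Nat.eq_two_pow_or_exists_odd_prime_and_dvd (a + 1) with h | ⟨r, hr, hra, hodd⟩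
    · exact absurd h hpow
    · refine ⟨r, hr, ?_, ?_⟩
      · have h1 : a ^ 2 - 1 = (a - 1) * (a + 1) := by
          obtain ⟨b, rfl⟩ : ∃ b, a = b + 1 := ⟨a - 1, by omega⟩
          have : (b + 1) ^ 2 = b * (b + 1 + 1) + 1 := by ring
          rw [this]
          simp
        rw [h1]
        exact hra.mul_left _
      · intro k hk0 hk2 hdvd
        have hk1 : k = 1 := by omega
        subst hk1
        rw [pow_one] at hdvd
        have h3 : r ∣ (a + 1) - (a - 1) := Nat.dvd_sub hra hdvd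
        have h4 : (a + 1) - (a - 1) = 2 := by omega
        rw [h4] at h3
        have h5 := (Nat.prime_dvd_prime_iff_eq hr Nat.prime_two).1 h3
        subst h5
        exact absurd hodd (by decide)
  · obtain ⟨r, hr, hord⟩ := exists_primitive a n ha hn3 h6
    have : Fact r.Prime := ⟨hr⟩
    have key : ∀ k, r ∣ a ^ k - 1 ↔ (a : ZMod r) ^ k = 1 := by
      intro k
      have h1 : 1 ≤ a ^ k := Nat.one_le_pow _ _ (by omega)
      rw [← ZMod.natCast_eq_zero_iff, Nat.cast_sub h1, Nat.cast_pow, Nat.cast_one, sub_eq_zero]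
    refine ⟨r, hr, (key n).2 (by rw [← hord]; exact pow_orderOf_eq_one _), ?_⟩
    intro k hk0 hkn hdvd
    have h1 := orderOf_dvd_of_pow_eq_one ((key k).1 hdvd)
    rw [hord] at h1
    have := Nat.le_of_dvd hk0 h1
    omega

end Cfsg.Agent.H9.Zsigmondy
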