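import Mathlib

/-!
# A₄ inside GL₂(ℤ/2ᵏ): ring-level lemmas (helper9)

`red k hk : ZMod (2^k) →+* ZMod 2` is reduction mod 2.  We prove the basic divisibility lemmas,
that matrices congruent to `1` mod `2` have `2`-power order, and the "level" lemma:
if `A, B, T` satisfy the relations of `A₄` (`A² = B² = 1`, `TA = BT`, `TB = ABT`, `T³ = 1`),
`A ≠ 1` and `T` is not `1` mod `2`, then `A, B` are two distinct members of the three matrices
`1 + 2^(k-1) • S i`.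
-/

set_option autoImplicit false

namespace Cfsg.Agent.H9.A4GL2

open Matrix

/-- reduction mod 2 -/
noncomputable def red (k : ℕ) (hk : k ≠ 0) : ZMod (2 ^ k) →+* ZMod 2 :=
  ZMod.castHom (dvd_pow_self 2 hk) (ZMod 2)

theorem red_eq_zero_of_mul {k : ℕ} (hk : k ≠ 0) {j : ℕ} (hj : j < k) (r : ZMod (2 ^ k))
    (h : (2 : ZMod (2 ^ k)) ^ j * r = 0) : red k hk r = 0 := by
  obtain ⟨n, rfl⟩ : ∃ n : ℕ, r = (n : ZMod (2 ^ k)) := ⟨r.val, (ZMod.natCast_zmod_val r).symm⟩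
  have h1 : ((2 ^ j * n : ℕ) : ZMod (2 ^ k)) = 0 := by push_cast; exact h
  rw [ZMod.natCast_eq_zero_iff] at h1
  have h2 : 2 ^ (k - j) ∣ n := by
    have : 2 ^ k = 2 ^ j * 2 ^ (k - j) := by rw [← pow_add]; congr 1; omega
    rw [this] at h1
    exact Nat.dvd_of_mul_dvd_mul_left (by positivity) h1
  have h3 : 2 ∣ n := dvd_trans (dvd_pow_self 2 (by omega)) h2
  rw [red, map_natCast]
  exact (ZMod.natCast_eq_zero_iff n 2).mpr h3

theorem exists_two_mul_of_red {k : ℕ} (hk : k ≠ 0) (r : ZMod (2 ^ k)) (h : red k hk r = 0) :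
    ∃ s, r = 2 * s := by
  obtain ⟨n, rfl⟩ : ∃ n : ℕ, r = (n : ZMod (2 ^ k)) := ⟨r.val, (ZMod.natCast_zmod_val r).symm⟩
  rw [red, map_natCast, ZMod.natCast_eq_zero_iff] at h
  obtain ⟨m, rfl⟩ := h
  exact ⟨m, by push_cast; ring⟩

theorem two_pow_self (k : ℕ) : (2 : ZMod (2 ^ k)) ^ k = 0 := by
  have : ((2 ^ k : ℕ) : ZMod (2 ^ k)) = 0 := ZMod.natCast_self _
  push_cast at this
  exact this

theorem red_two {k : ℕ} (hk : k ≠ 0) : red k hk 2 = 0 := by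
  rw [map_ofNat]; decide

theorem red_two_pow {k : ℕ} (hk : k ≠ 0) {j : ℕ} (hj : 1 ≤ j) : red k hk (2 ^ j) = 0 := by
  rw [map_pow, red_two, zero_pow (by omega)]

theorem redM_eq_zero_of_smul {k : ℕ} (hk : k ≠ 0) {j : ℕ} (hj : j < k)
    (M : Matrix (Fin 2) (Fin 2) (ZMod (2 ^ k)))
    (h : ((2 : ZMod (2 ^ k)) ^ j) • M = 0) : (red k hk).mapMatrix M = 0 := by
  ext a b
  simp only [RingHom.mapMatrix_apply, Matrix.map_apply, Matrix.zero_apply]
  apply red_eq_zero_of_mul hk hj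
  have := congr_fun (congr_fun h a) b
  simpa using this

theorem exists_smul_of_redM {k : ℕ} (hk : k ≠ 0) (M : Matrix (Fin 2) (Fin 2) (ZMod (2 ^ k)))
    (h : (red k hk).mapMatrix M = 0) :
    ∃ N : Matrix (Fin 2) (Fin 2) (ZMod (2 ^ k)), M = (2 : ZMod (2 ^ k)) • N := by
  have h' : ∀ a b, ∃ s, M a b = 2 * s := fun a b =>
    exists_two_mul_of_red hk _ (by
      have := congr_fun (congr_fun h a) b
      simpa using this)
  choose f hf using h'
  exact ⟨Matrix.of f, by ext a b; simp [hf a b]⟩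

theorem redM_smul {k : ℕ} (hk : k ≠ 0) (c : ZMod (2 ^ k)) (M : Matrix (Fin 2) (Fin 2) (ZMod (2 ^ k))) :
    (red k hk).mapMatrix (c • M) = (red k hk c) • (red k hk).mapMatrix M := by
  ext a b
  simp

/-- squaring raises the level -/
theorem sq_level {k : ℕ} {j : ℕ} (hj : 1 ≤ j) (M N : Matrix (Fin 2) (Fin 2) (ZMod (2 ^ k)))
    (h : M = 1 + ((2 : ZMod (2 ^ k)) ^ j) • N) :
    ∃ N', M * M = 1 + ((2 : ZMod (2 ^ k)) ^ (j + 1)) • N' := by
  refine ⟨N + ((2 : ZMod (2 ^ k)) ^ (j - 1)) • (N * N), ?_⟩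
  subst h
  simp only [add_mul, mul_add, one_mul, mul_one, smul_mul_assoc, mul_smul_comm, smul_smul, smul_add]
  have : (2 : ZMod (2 ^ k)) ^ j * 2 ^ j = 2 ^ (j + 1) * 2 ^ (j - 1) := by
    rw [← pow_add, ← pow_add]; congr 1; omega
  rw [this, pow_succ]
  module

theorem pow_level {k : ℕ} (M N : Matrix (Fin 2) (Fin 2) (ZMod (2 ^ k)))
    (h : M = 1 + (2 : ZMod (2 ^ k)) • N) (i : ℕ) :
    ∃ N', M ^ (2 ^ i) = 1 + ((2 : ZMod (2 ^ k)) ^ (1 + i)) • N' := by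
  induction i with
  | zero => exact ⟨N, by simpa using h⟩
  | succ i ih =>
    obtain ⟨N', hN'⟩ := ih
    obtain ⟨N'', hN''⟩ := sq_level (by omega) _ _ hN'
    refine ⟨N'', ?_⟩
    rw [pow_succ, pow_mul, sq, hN'', add_assoc]

theorem pow_eq_one_of_redM {k : ℕ} (hk : k ≠ 0) (M : Matrix (Fin 2) (Fin 2) (ZMod (2 ^ k)))
    (h : (red k hk).mapMatrix M = 1) : M ^ (2 ^ (k - 1)) = 1 := by
  have h0 : (red k hk).mapMatrix (M - 1) = 0 := by rw [map_sub, h, map_one, sub_self]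
  obtain ⟨N, hN⟩ := exists_smul_of_redM hk _ h0
  have hM : M = 1 + (2 : ZMod (2 ^ k)) • N := by rw [← hN]; abel
  obtain ⟨N', hN'⟩ := pow_level M N hM (k - 1)
  rw [hN', show 1 + (k - 1) = k by omega, two_pow_self, zero_smul, add_zero]

end Cfsg.Agent.H9.A4GL2
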