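import Cfsg.Agent.H9.A4GL2A

set_option autoImplicit false

namespace Cfsg.Agent.H9.A4GL2

open Matrix

set_option maxRecDepth 100000 in
theorem dec_base : ∀ (a b t : Matrix (Fin 2) (Fin 2) (ZMod 2)),
    a * a = 1 → b * b = 1 → t * a = b * t → t * b = a * b * t →
    t * t * t = 1 → a = 1 ∧ b = 1 := by
  decide

set_option maxRecDepth 100000 in
theorem dec_step : ∀ (ε : ZMod 2) (x y t : Matrix (Fin 2) (Fin 2) (ZMod 2)),
    x + ε • (x * x) = 0 → y + ε • (y * y) = 0 → t * x - y * t = 0 → t * y - (x + y) * t = 0 →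
    t * t * t = 1 → x = 0 ∧ y = 0 := by
  decide

set_option maxRecDepth 100000 in
set_option synthInstance.maxSize 100000 in
set_option synthInstance.maxHeartbeats 2000000 in
theorem dec_final : ∀ (x y t : Matrix (Fin 2) (Fin 2) (ZMod 2)),
    t * x - y * t = 0 → t * y - (x + y) * t = 0 →
    t * t * t = 1 → t ≠ 1 → x ≠ 0 →
    (x = !![0,1;1,0] ∨ x = !![1,1;0,1] ∨ x = !![1,0;1,1]) ∧
    (y = !![0,1;1,0] ∨ y = !![1,1;0,1] ∨ y = !![1,0;1,1]) ∧ x ≠ y := by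
  decide

section
variable {k : ℕ} (hk : k ≠ 0)
variable (A B T X Y : Matrix (Fin 2) (Fin 2) (ZMod (2 ^ k)))

/-- relation (I1) -/
theorem rel_sq {j : ℕ} (hj : 1 ≤ j) (hA : A = 1 + ((2 : ZMod (2 ^ k)) ^ j) • X) (hAA : A * A = 1) :
    ((2 : ZMod (2 ^ k)) ^ (j + 1)) • (X + ((2 : ZMod (2 ^ k)) ^ (j - 1)) • (X * X)) = 0 := by
  obtain ⟨i, rfl⟩ : ∃ i, j = i + 1 := ⟨j - 1, by omega⟩
  subst hA
  simp only [add_mul, mul_add, one_mul, mul_one, smul_mul_assoc, mul_smul_comm, Nat.add_sub_cancel] at hAA ⊢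
  linear_combination (norm := module) hAA

theorem rel_conj1 {j : ℕ} (hA : A = 1 + ((2 : ZMod (2 ^ k)) ^ j) • X)
    (hB : B = 1 + ((2 : ZMod (2 ^ k)) ^ j) • Y) (h : T * A = B * T) :
    ((2 : ZMod (2 ^ k)) ^ j) • (T * X - Y * T) = 0 := by
  subst hA hB
  simp only [add_mul, mul_add, one_mul, mul_one, smul_mul_assoc, mul_smul_comm] at h
  rw [smul_sub, sub_eq_zero]
  exact add_left_cancel h

theorem rel_conj2 {j : ℕ} (hA : A = 1 + ((2 : ZMod (2 ^ k)) ^ j) • X)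
    (hB : B = 1 + ((2 : ZMod (2 ^ k)) ^ j) • Y) (h : T * B = A * B * T) :
    ((2 : ZMod (2 ^ k)) ^ j) • (T * Y - (X + Y) * T - ((2 : ZMod (2 ^ k)) ^ j) • (X * Y * T)) = 0 := by
  subst hA hB
  simp only [add_mul, mul_add, one_mul, mul_one, smul_mul_assoc, mul_smul_comm] at h ⊢
  linear_combination (norm := module) h

/-- the mod 2 conjugation relations at level `j` -/
theorem rel_mod2 {j : ℕ} (hj : 1 ≤ j) (hjk : j < k)
    (hTA : T * A = B * T) (hTB : T * B = A * B * T)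
    (hA : A = 1 + ((2 : ZMod (2 ^ k)) ^ j) • X) (hB : B = 1 + ((2 : ZMod (2 ^ k)) ^ j) • Y) :
    (red k hk).mapMatrix T * (red k hk).mapMatrix X
        - (red k hk).mapMatrix Y * (red k hk).mapMatrix T = 0 ∧
    (red k hk).mapMatrix T * (red k hk).mapMatrix Y
        - ((red k hk).mapMatrix X + (red k hk).mapMatrix Y) * (red k hk).mapMatrix T = 0 := by
  have e3 := redM_eq_zero_of_smul hk hjk _ (rel_conj1 A B T X Y hA hB hTA)
  have e4 := redM_eq_zero_of_smul hk hjk _ (rel_conj2 A B T X Y hA hB hTB)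
  rw [map_sub, map_mul, map_mul] at e3
  rw [map_sub, map_sub, map_mul, map_mul, map_add, redM_smul, red_two_pow hk hj, zero_smul,
    sub_zero] at e4
  exact ⟨e3, e4⟩

include hk in
theorem level_step {j : ℕ} (hj : 1 ≤ j) (hjk : j + 1 < k)
    (hAA : A * A = 1) (hBB : B * B = 1) (hTA : T * A = B * T) (hTB : T * B = A * B * T)
    (hT : T * T * T = 1)
    (hA : A = 1 + ((2 : ZMod (2 ^ k)) ^ j) • X) (hB : B = 1 + ((2 : ZMod (2 ^ k)) ^ j) • Y) :
    ∃ X' Y', A = 1 + ((2 : ZMod (2 ^ k)) ^ (j + 1)) • X' ∧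
      B = 1 + ((2 : ZMod (2 ^ k)) ^ (j + 1)) • Y' := by
  have e1 := redM_eq_zero_of_smul hk hjk _ (rel_sq A X hj hA hAA)
  have e2 := redM_eq_zero_of_smul hk hjk _ (rel_sq B Y hj hB hBB)
  obtain ⟨e3, e4⟩ := rel_mod2 hk A B T X Y hj (by omega) hTA hTB hA hB
  have e5 : (red k hk).mapMatrix T * (red k hk).mapMatrix T * (red k hk).mapMatrix T = 1 := by
    rw [← map_mul, ← map_mul, hT, map_one]
  rw [map_add, redM_smul, map_mul] at e1 e2
  obtain ⟨hx, hy⟩ := dec_step _ _ _ _ e1 e2 e3 e4 e5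
  obtain ⟨X', hX'⟩ := exists_smul_of_redM hk X hx
  obtain ⟨Y', hY'⟩ := exists_smul_of_redM hk Y hy
  refine ⟨X', Y', ?_, ?_⟩
  · rw [hA, hX', smul_smul, pow_succ]
  · rw [hB, hY', smul_smul, pow_succ]

include hk in
theorem level_all (hAA : A * A = 1) (hBB : B * B = 1) (hTA : T * A = B * T)
    (hTB : T * B = A * B * T) (hT : T * T * T = 1) (j : ℕ) (hj : 1 ≤ j) (hjk : j < k) :
    ∃ X Y, A = 1 + ((2 : ZMod (2 ^ k)) ^ j) • X ∧ B = 1 + ((2 : ZMod (2 ^ k)) ^ j) • Y := by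
  induction j, hj using Nat.le_induction with
  | base =>
    have e5 : (red k hk).mapMatrix T * (red k hk).mapMatrix T * (red k hk).mapMatrix T = 1 := by
      rw [← map_mul, ← map_mul, hT, map_one]
    have ha := congrArg (red k hk).mapMatrix hAA
    have hb := congrArg (red k hk).mapMatrix hBB
    have hta := congrArg (red k hk).mapMatrix hTA
    have htb := congrArg (red k hk).mapMatrix hTB
    simp only [map_mul, map_one] at ha hb hta htb
    obtain ⟨h1, h2⟩ := dec_base _ _ _ ha hb hta htb e5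
    have h1' : (red k hk).mapMatrix (A - 1) = 0 := by rw [map_sub, h1, map_one, sub_self]
    have h2' : (red k hk).mapMatrix (B - 1) = 0 := by rw [map_sub, h2, map_one, sub_self]
    obtain ⟨X, hX⟩ := exists_smul_of_redM hk _ h1'
    obtain ⟨Y, hY⟩ := exists_smul_of_redM hk _ h2'
    refine ⟨X, Y, ?_, ?_⟩
    · rw [pow_one, ← hX]; abel
    · rw [pow_one, ← hY]; abel
  | succ j hj ih =>
    obtain ⟨X, Y, hX, hY⟩ := ih (by omega)
    exact level_step hk A B T X Y hj hjk hAA hBB hTA hTB hT hX hY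

end


/-- the three involutions of `GL₂(𝔽₂)` as matrices -/
def sF : Fin 3 → Matrix (Fin 2) (Fin 2) (ZMod 2)
  | 0 => !![0,1;1,0]
  | 1 => !![1,1;0,1]
  | 2 => !![1,0;1,1]

/-- their `0/1` lifts -/
def S (k : ℕ) : Fin 3 → Matrix (Fin 2) (Fin 2) (ZMod (2 ^ k))
  | 0 => !![0,1;1,0]
  | 1 => !![1,1;0,1]
  | 2 => !![1,0;1,1]

/-- the three involutions `1 + 2^(k-1) S i` -/
def U (k : ℕ) (i : Fin 3) : Matrix (Fin 2) (Fin 2) (ZMod (2 ^ k)) :=
  1 + ((2 : ZMod (2 ^ k)) ^ (k - 1)) • S k i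

theorem redM_S {k : ℕ} (hk : k ≠ 0) (i : Fin 3) : (red k hk).mapMatrix (S k i) = sF i := by
  fin_cases i <;> ext a b <;> fin_cases a <;> fin_cases b <;> simp [S, sF]

theorem sF_add : ∀ i j l : Fin 3, i ≠ j → l ≠ i → l ≠ j → sF i + sF j = sF l := by decide

theorem sF_inj : ∀ i j : Fin 3, sF i = sF j → i = j := by decide

theorem smul_congr_of_redM {k : ℕ} (hk : k ≠ 0) (P Q : Matrix (Fin 2) (Fin 2) (ZMod (2 ^ k)))
    (h : (red k hk).mapMatrix P = (red k hk).mapMatrix Q) :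
    ((2 : ZMod (2 ^ k)) ^ (k - 1)) • P = ((2 : ZMod (2 ^ k)) ^ (k - 1)) • Q := by
  have h0 : (red k hk).mapMatrix (P - Q) = 0 := by rw [map_sub, h, sub_self]
  obtain ⟨Z, hZ⟩ := exists_smul_of_redM hk _ h0
  have hP : P = Q + (2 : ZMod (2 ^ k)) • Z := by rw [← hZ]; abel
  rw [hP, smul_add, smul_smul, ← pow_succ, show k - 1 + 1 = k by omega, two_pow_self, zero_smul,
    add_zero]

theorem U_mul {k : ℕ} (hk2 : 2 ≤ k) (i j l : Fin 3) (hij : i ≠ j) (hli : l ≠ i) (hlj : l ≠ j) :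
    U k i * U k j = U k l := by
  have hk : k ≠ 0 := by omega
  have hh : (2 : ZMod (2 ^ k)) ^ (k - 1) * 2 ^ (k - 1) = 0 := by
    rw [← pow_add, show k - 1 + (k - 1) = k + (k - 2) by omega, pow_add, two_pow_self, zero_mul]
  have h1 : ((2 : ZMod (2 ^ k)) ^ (k - 1)) • (S k i + S k j) = ((2 : ZMod (2 ^ k)) ^ (k - 1)) • S k l := by
    apply smul_congr_of_redM hk
    rw [map_add, redM_S, redM_S, redM_S, sF_add i j l hij hli hlj]
  unfold U
  rw [← h1]
  simp only [add_mul, mul_add, one_mul, mul_one, smul_mul_assoc, mul_smul_comm, smul_smul, hh,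
    zero_smul, add_zero, smul_add]
  abel

section
variable {k : ℕ} (hk : k ≠ 0)
variable (A B T X Y : Matrix (Fin 2) (Fin 2) (ZMod (2 ^ k)))

theorem level_final (hk2 : 2 ≤ k) (hAA : A * A = 1) (hBB : B * B = 1) (hTA : T * A = B * T)
    (hTB : T * B = A * B * T) (hT : T * T * T = 1) (hA1 : A ≠ 1)
    (hT1 : (red k hk).mapMatrix T ≠ 1) :
    ∃ i j : Fin 3, i ≠ j ∧ A = U k i ∧ B = U k j := by
  obtain ⟨X, Y, hX, hY⟩ := level_all hk A B T hAA hBB hTA hTB hT (k - 1) (by omega) (by omega)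
  obtain ⟨e3, e4⟩ := rel_mod2 hk A B T X Y (by omega) (by omega) hTA hTB hX hY
  have e5 : (red k hk).mapMatrix T * (red k hk).mapMatrix T * (red k hk).mapMatrix T = 1 := by
    rw [← map_mul, ← map_mul, hT, map_one]
  have hx0 : (red k hk).mapMatrix X ≠ 0 := by
    intro h0
    apply hA1
    have := smul_congr_of_redM hk X 0 (by rw [h0, map_zero])
    rw [hX, this, smul_zero, add_zero]
  obtain ⟨hx, hy, hxy⟩ := dec_final _ _ _ e3 e4 e5 hT1 hx0
  have hx' : ∃ i, (red k hk).mapMatrix X = sF i := by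
    rcases hx with h | h | h
    · exact ⟨0, h⟩
    · exact ⟨1, h⟩
    · exact ⟨2, h⟩
  have hy' : ∃ i, (red k hk).mapMatrix Y = sF i := by
    rcases hy with h | h | h
    · exact ⟨0, h⟩
    · exact ⟨1, h⟩
    · exact ⟨2, h⟩
  obtain ⟨i, hi⟩ := hx'
  obtain ⟨j, hj⟩ := hy'
  refine ⟨i, j, ?_, ?_, ?_⟩
  · rintro rfl
    exact hxy (hi.trans hj.symm)
  · rw [hX, U, smul_congr_of_redM hk X (S k i) (by rw [hi, redM_S])]
  · rw [hY, U, smul_congr_of_redM hk Y (S k j) (by rw [hj, redM_S])]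

end

end Cfsg.Agent.H9.A4GL2
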