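import Cfsg.Agent.H9.A4GL2B

/-!
# A₄ inside GL₂(ℤ/2ᵏ): group-level lemmas (helper9)
-/

set_option autoImplicit false

namespace Cfsg.Agent.H9.A4GL2

open Matrix Equiv

/-- `(0 1)(2 3)` -/
def pa : alternatingGroup (Fin 4) := ⟨swap 0 1 * swap 2 3, by rw [Equiv.Perm.mem_alternatingGroup]; decide⟩
/-- `(0 2)(1 3)` -/
def pb : alternatingGroup (Fin 4) := ⟨swap 0 2 * swap 1 3, by rw [Equiv.Perm.mem_alternatingGroup]; decide⟩
/-- `(1 2 3)` -/
def pc : alternatingGroup (Fin 4) := ⟨swap 1 2 * swap 2 3, by rw [Equiv.Perm.mem_alternatingGroup]; decide⟩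

theorem pa_sq : pa * pa = 1 := by decide
theorem pb_sq : pb * pb = 1 := by decide
theorem pc_pa : pc * pa = pb * pc := by decide
theorem pc_pb : pc * pb = pa * pb * pc := by decide
theorem pc_cube : pc * pc * pc = 1 := by decide
theorem pa_ne : pa ≠ 1 := by decide
theorem pc_ne : pc ≠ 1 := by decide

set_option maxRecDepth 100000 in
theorem a4_cover : ∀ x : alternatingGroup (Fin 4), ∃ n : Fin 3,
    x = pc ^ (n : ℕ) ∨ x = pa * pc ^ (n : ℕ) ∨ x = pb * pc ^ (n : ℕ) ∨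
      x = pa * pb * pc ^ (n : ℕ) := by
  decide

theorem orderOf_pc : orderOf pc = 3 := by
  apply orderOf_eq_prime
  · rw [pow_succ, pow_succ, pow_one]; exact pc_cube
  · exact pc_ne


/-- Main lemma: the structure of a subgroup of `GL₂(ℤ/2ᵏ)` isomorphic to `A₄`. -/
theorem structure_of_A4 {k : ℕ} (hk2 : 2 ≤ k) (H : Subgroup (GL (Fin 2) (ZMod (2 ^ k))))
    (e : ↥H ≃* ↥(alternatingGroup (Fin 4))) :
    ∃ t : GL (Fin 2) (ZMod (2 ^ k)), t ∈ H ∧ orderOf t = 3 ∧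
      (∀ l : Fin 3, ∃ u ∈ H, (u : Matrix (Fin 2) (Fin 2) (ZMod (2 ^ k))) = U k l) ∧
      (∀ x ∈ H, ∃ v ∈ H, ∃ n : ℕ,
        ((v : Matrix (Fin 2) (Fin 2) (ZMod (2 ^ k))) = 1 ∨
          ∃ l, (v : Matrix (Fin 2) (Fin 2) (ZMod (2 ^ k))) = U k l) ∧ x = v * t ^ n) := by
  have hk : k ≠ 0 := by omega
  set ga : ↥H := e.symm pa with hga
  set gb : ↥H := e.symm pb with hgb
  set gc : ↥H := e.symm pc with hgc
  have coe_mul : ∀ x y : ↥H, (((x * y : ↥H) : GL (Fin 2) (ZMod (2 ^ k))) :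
      Matrix (Fin 2) (Fin 2) (ZMod (2 ^ k))) = (x : GL (Fin 2) (ZMod (2 ^ k))).1 *
        (y : GL (Fin 2) (ZMod (2 ^ k))).1 := fun x y => rfl
  have coe_one : (((1 : ↥H) : GL (Fin 2) (ZMod (2 ^ k))) :
      Matrix (Fin 2) (Fin 2) (ZMod (2 ^ k))) = 1 := rfl
  have coe_inj : ∀ x y : ↥H, (x : GL (Fin 2) (ZMod (2 ^ k))).1 = (y : GL (Fin 2) (ZMod (2 ^ k))).1 →
      x = y := fun x y h => Subtype.ext (Units.ext h)
  have r1 : ga * ga = 1 := by rw [hga, ← map_mul, pa_sq, map_one]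
  have r2 : gb * gb = 1 := by rw [hgb, ← map_mul, pb_sq, map_one]
  have r3 : gc * ga = gb * gc := by rw [hga, hgb, hgc, ← map_mul, ← map_mul, pc_pa]
  have r4 : gc * gb = ga * gb * gc := by
    rw [hga, hgb, hgc, ← map_mul, ← map_mul, ← map_mul, pc_pb]
  have r5 : gc * gc * gc = 1 := by rw [hgc, ← map_mul, ← map_mul, pc_cube, map_one]
  have hga1 : ga ≠ 1 := by
    intro h
    apply pa_ne
    have := congrArg e h
    rwa [hga, MulEquiv.apply_symm_apply, map_one] at this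
  have hoc : orderOf gc = 3 := by rw [hgc, MulEquiv.orderOf_eq, orderOf_pc]
  have hAA := (coe_mul ga ga).symm.trans ((congrArg (fun x : ↥H => (x : GL (Fin 2) (ZMod (2 ^ k))).1) r1).trans coe_one)
  have hBB := (coe_mul gb gb).symm.trans ((congrArg (fun x : ↥H => (x : GL (Fin 2) (ZMod (2 ^ k))).1) r2).trans coe_one)
  have hTA := (coe_mul gc ga).symm.trans ((congrArg (fun x : ↥H => (x : GL (Fin 2) (ZMod (2 ^ k))).1) r3).trans (coe_mul gb gc))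
  have hTB : (gc : GL (Fin 2) (ZMod (2 ^ k))).1 * (gb : GL (Fin 2) (ZMod (2 ^ k))).1 =
      (ga : GL (Fin 2) (ZMod (2 ^ k))).1 * (gb : GL (Fin 2) (ZMod (2 ^ k))).1 *
        (gc : GL (Fin 2) (ZMod (2 ^ k))).1 :=
    (coe_mul gc gb).symm.trans ((congrArg (fun x : ↥H => (x : GL (Fin 2) (ZMod (2 ^ k))).1) r4))
  have hT : (gc : GL (Fin 2) (ZMod (2 ^ k))).1 * (gc : GL (Fin 2) (ZMod (2 ^ k))).1 *
      (gc : GL (Fin 2) (ZMod (2 ^ k))).1 = 1 :=
    (congrArg (fun x : ↥H => (x : GL (Fin 2) (ZMod (2 ^ k))).1) r5).trans coe_one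
  have hA1 : (ga : GL (Fin 2) (ZMod (2 ^ k))).1 ≠ 1 := fun h => hga1 (coe_inj ga 1 (h.trans coe_one.symm))
  have hT1 : (red k hk).mapMatrix (gc : GL (Fin 2) (ZMod (2 ^ k))).1 ≠ 1 := by
    intro h
    have h2 := pow_eq_one_of_redM hk _ h
    have h3 : gc ^ (2 ^ (k - 1)) = 1 := by
      apply coe_inj
      rw [coe_one, ← h2]
      simp
    have h4 := orderOf_dvd_of_pow_eq_one h3
    rw [hoc] at h4
    have h5 := Nat.Prime.dvd_of_dvd_pow Nat.prime_three h4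
    omega
  obtain ⟨i, j, hij, hAi, hBj⟩ := level_final hk _ _ _ hk2 hAA hBB hTA hTB hT hA1 hT1
  have hUl : ∀ l : Fin 3, ∃ u ∈ H, (u : Matrix (Fin 2) (Fin 2) (ZMod (2 ^ k))) = U k l := by
    intro l
    by_cases hli : l = i
    · exact ⟨ga, ga.2, by rw [hli]; exact hAi⟩
    · by_cases hlj : l = j
      · exact ⟨gb, gb.2, by rw [hlj]; exact hBj⟩
      · refine ⟨(ga * gb : ↥H), (ga * gb).2, ?_⟩
        rw [coe_mul, hAi, hBj]
        exact U_mul hk2 i j l hij hli hlj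
  refine ⟨gc, gc.2, ?_, hUl, ?_⟩
  · rw [Subgroup.orderOf_coe, hoc]
  · intro x hx
    obtain ⟨n, hn⟩ := a4_cover (e ⟨x, hx⟩)
    have hx' : (⟨x, hx⟩ : ↥H) = e.symm (e ⟨x, hx⟩) := (e.symm_apply_apply _).symm
    have key : ∀ v : ↥(alternatingGroup (Fin 4)), e ⟨x, hx⟩ = v * pc ^ (n : ℕ) →
        x = ((e.symm v : ↥H) : GL (Fin 2) (ZMod (2 ^ k))) * (gc : GL (Fin 2) (ZMod (2 ^ k))) ^ (n : ℕ) := by
      intro v hv
      have : (⟨x, hx⟩ : ↥H) = e.symm v * gc ^ (n : ℕ) := by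
        rw [hx', hv, map_mul, map_pow]
      have := congrArg (fun y : ↥H => (y : GL (Fin 2) (ZMod (2 ^ k)))) this
      simpa using this
    rcases hn with h | h | h | h
    · refine ⟨1, H.one_mem, n, Or.inl rfl, ?_⟩
      have := key 1 (by rw [h, one_mul])
      rwa [map_one] at this
    · exact ⟨ga, ga.2, n, Or.inr ⟨i, hAi⟩, key pa h⟩
    · exact ⟨gb, gb.2, n, Or.inr ⟨j, hBj⟩, key pb h⟩
    · obtain ⟨l, hli, hlj⟩ : ∃ l : Fin 3, l ≠ i ∧ l ≠ j :=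
        (by decide : ∀ i j : Fin 3, i ≠ j → ∃ l : Fin 3, l ≠ i ∧ l ≠ j) i j hij
      refine ⟨(ga * gb : ↥H), (ga * gb).2, n, Or.inr ⟨l, ?_⟩, ?_⟩
      · rw [coe_mul, hAi, hBj]
        exact U_mul hk2 i j l hij hli hlj
      · have := key (pa * pb) h
        rwa [map_mul] at this

end Cfsg.Agent.H9.A4GL2
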