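import Cfsg.Agent.H9.A4GL2C

/-!
# A₄ inside GL₂(ℤ/2ᵏ): conjugacy of subgroups of order three (helper9)
-/

set_option autoImplicit false

namespace Cfsg.Agent.H9.A4GL2

open Matrix

theorem card_GL2F2 : Nat.card (GL (Fin 2) (ZMod 2)) = 6 := by
  rw [Matrix.card_GL_field, ZMod.card, Fin.prod_univ_two]
  norm_num

theorem isPGroup_ker {k : ℕ} (hk : k ≠ 0) :
    IsPGroup 2 (Matrix.GeneralLinearGroup.map (n := Fin 2) (red k hk)).ker := by
  intro g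
  refine ⟨k - 1, ?_⟩
  have hg := g.2
  rw [MonoidHom.mem_ker] at hg
  have h1 : (red k hk).mapMatrix (g.1 : GL (Fin 2) (ZMod (2 ^ k))).1 = 1 := by
    have := congrArg (fun x : GL (Fin 2) (ZMod 2) => x.1) hg
    simpa using this
  have h2 := pow_eq_one_of_redM hk _ h1
  apply Subtype.ext
  apply Units.ext
  simpa using h2

theorem card_GL_form {k : ℕ} (hk : k ≠ 0) :
    ∃ a r : ℕ, Nat.card (GL (Fin 2) (ZMod (2 ^ k))) = 2 ^ a * r ∧ r ∣ 6 := by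
  obtain ⟨a, ha⟩ := (isPGroup_ker hk).exists_card_eq
  refine ⟨a, Nat.card (Matrix.GeneralLinearGroup.map (n := Fin 2) (red k hk)).range, ?_, ?_⟩
  · rw [← ha, ← Subgroup.index_ker, Subgroup.card_mul_index]
  · rw [← card_GL2F2]
    exact Subgroup.card_subgroup_dvd_card _

theorem order3_conj {k : ℕ} (hk : k ≠ 0) (t₁ t₂ : GL (Fin 2) (ZMod (2 ^ k)))
    (h₁ : orderOf t₁ = 3) (h₂ : orderOf t₂ = 3) :
    ∃ g : GL (Fin 2) (ZMod (2 ^ k)),
      (Subgroup.zpowers t₁).map (MulAut.conj g).toMonoidHom = Subgroup.zpowers t₂ := by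
  have : Fact (Nat.Prime 3) := ⟨Nat.prime_three⟩
  obtain ⟨a, r, hcard, hr⟩ := card_GL_form hk
  have key : ∀ t : GL (Fin 2) (ZMod (2 ^ k)), orderOf t = 3 →
      ∃ Q : Sylow 3 (GL (Fin 2) (ZMod (2 ^ k))), (Q : Subgroup (GL (Fin 2) (ZMod (2 ^ k)))) = Subgroup.zpowers t := by
    intro t ht
    have hc : Nat.card (Subgroup.zpowers t) = 3 := by rw [Nat.card_zpowers, ht]
    have hp : IsPGroup 3 (Subgroup.zpowers t) := IsPGroup.of_card (n := 1) (by rw [hc, pow_one])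
    obtain ⟨Q, hQ⟩ := hp.exists_le_sylow
    refine ⟨Q, ?_⟩
    obtain ⟨n, hn⟩ := Q.2.exists_card_eq
    have hdvd : 3 ^ n ∣ 2 ^ a * r := by
      rw [← hn, ← hcard]; exact Subgroup.card_subgroup_dvd_card _
    have hcop : Nat.Coprime (3 ^ n) (2 ^ a) := Nat.Coprime.pow _ _ (by norm_num)
    have h3 : 3 ^ n ∣ 6 := dvd_trans (hcop.dvd_of_dvd_mul_left hdvd) hr
    have hn1 : n ≤ 1 := by
      by_contra hcon
      rw [not_le] at hcon
      have : 3 ^ 2 ∣ 6 := dvd_trans (pow_dvd_pow 3 hcon) h3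
      omega
    have hQ3 : Nat.card (Q : Subgroup (GL (Fin 2) (ZMod (2 ^ k)))) ≤ 3 := by
      rw [hn]
      calc 3 ^ n ≤ 3 ^ 1 := Nat.pow_le_pow_right (by norm_num) hn1
        _ = 3 := by norm_num
    exact (Subgroup.eq_of_le_of_card_ge (show Subgroup.zpowers t ≤ (Q : Subgroup (GL (Fin 2) (ZMod (2 ^ k)))) from hQ) (by rw [hc]; exact hQ3)).symm
  obtain ⟨Q₁, hQ₁⟩ := key t₁ h₁
  obtain ⟨Q₂, hQ₂⟩ := key t₂ h₂
  obtain ⟨g, hg⟩ := MulAction.exists_smul_eq (GL (Fin 2) (ZMod (2 ^ k))) Q₁ Q₂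
  refine ⟨g, ?_⟩
  rw [← hQ₁, ← hQ₂, ← hg, Sylow.coe_subgroup_smul, Subgroup.pointwise_smul_def]
  rfl

end Cfsg.Agent.H9.A4GL2
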