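import Mathlib
import Cfsg.Agent.H9.KleinNorm

set_option autoImplicit false

/-! Conjugacy classes of Klein four subgroups of `PSL₂(q)`, `q` odd. -/

namespace Cfsg.Agent.H9.KleinClasses

open Cfsg.Agent.H9.KleinGeneral Cfsg.Agent.H9.KleinPSL2 Cfsg.Agent.H9.KleinNormGen
  Cfsg.Agent.H9.KleinNorm

section general

variable {G : Type*} [Group G]

/-- the conjugacy class of a subgroup -/
def cls (V : Subgroup G) : Set (Subgroup G) :=
  {W | ∃ g : G, W = V.map (MulAut.conj g).toMonoidHom}

theorem isKleinFour_map (V : Subgroup G) [hV : IsKleinFour V] (g : G) :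
    IsKleinFour (V.map (MulAut.conj g).toMonoidHom) := by
  have e : V ≃* V.map (MulAut.conj g).toMonoidHom :=
    V.equivMapOfInjective _ (MulAut.conj g).injective
  constructor
  · rw [← Nat.card_congr e.toEquiv]
    exact hV.card_four
  · rw [← Monoid.exponent_eq_of_mulEquiv e]
    exact hV.exponent_two

open Pointwise in
theorem card_cls [Finite G] (V : Subgroup G) :
    (cls V).ncard * Nat.card (Subgroup.normalizer (V : Set G)) = Nat.card G := by
  letI : MulAction G (Subgroup G) := MulAction.compHom _ (MulAut.conj : G →* MulAut G)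
  have hsmul : ∀ g : G, g • V = V.map (MulAut.conj g).toMonoidHom := fun g => rfl
  have h1 : MulAction.orbit G V = cls V := by
    ext W
    constructor
    · rintro ⟨g, rfl⟩
      exact ⟨g, hsmul g⟩
    · rintro ⟨g, rfl⟩
      exact ⟨g, hsmul g⟩
  have h2 : MulAction.stabilizer G V = Subgroup.normalizer (V : Set G) := by
    ext g
    rw [MulAction.mem_stabilizer_iff, Subgroup.mem_normalizer_iff_map_conj_eq, hsmul]
    rfl
  have h3 := MulAction.index_stabilizer G V
  rw [h1, h2] at h3
  rw [← h3, mul_comm, Subgroup.card_mul_index]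

theorem cls_symm {V W : Subgroup G} (h : W ∈ cls V) : V ∈ cls W := by
  obtain ⟨g, rfl⟩ := h
  refine ⟨g⁻¹, ?_⟩
  rw [Subgroup.map_map]
  have : (MulAut.conj g⁻¹).toMonoidHom.comp (MulAut.conj g).toMonoidHom = MonoidHom.id G := by
    ext x
    simp only [MonoidHom.coe_comp, MulEquiv.coe_toMonoidHom, Function.comp_apply,
      MulAut.conj_apply, inv_inv, MonoidHom.id_apply]
    group
  rw [this, Subgroup.map_id]

theorem cls_trans {U V W : Subgroup G} (h1 : V ∈ cls U) (h2 : W ∈ cls V) : W ∈ cls U := by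
  obtain ⟨g, rfl⟩ := h1
  obtain ⟨k, rfl⟩ := h2
  refine ⟨k * g, ?_⟩
  rw [Subgroup.map_map]
  congr 1
  ext x
  simp [mul_assoc]

end general

section psl

open Cfsg.Agent.H9.AutPSL2 (pr pr_eq_iff pr_surjective)

variable {F : Type*} [Field F] [Fintype F]

local notation "SL2" => Matrix.SpecialLinearGroup (Fin 2) F
local notation "PSL2" => Matrix.ProjectiveSpecialLinearGroup (Fin 2) F

theorem factorization_of_mod (n : ℕ) (h : n % 8 = 4) : n.factorization 2 = 2 := by
  have hn : n = 4 * (n / 4) := by omega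
  have h0 : n / 4 ≠ 0 := by omega
  rw [hn, Nat.factorization_mul (by norm_num) h0]
  have h4 : (4 : ℕ).factorization 2 = 2 := by
    rw [show (4 : ℕ) = 2 ^ 2 by norm_num, Nat.Prime.factorization_pow Nat.prime_two]
    simp
  have hodd : (n / 4).factorization 2 = 0 := by
    apply Nat.factorization_eq_zero_of_not_dvd
    omega
  rw [Finsupp.add_apply, h4, hodd]

/-- the `2`-part of `|PSL₂(q)|` for `q ≡ ±3 mod 8` -/
theorem factorization_PSL2 (hodd : Odd (Fintype.card F))
    (hmod : Fintype.card F % 8 = 3 ∨ Fintype.card F % 8 = 5) :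
    (Nat.card PSL2).factorization 2 = 2 := by
  have h2 : (2 : F) ≠ 0 := Cfsg.Agent.Lib.Helper8.SL2Odd.two_ne_zero' hodd
  have hSL := card_SL2_eq (F := F) h2
  have hpos : Nat.card PSL2 ≠ 0 := Nat.card_pos.ne'
  have h1 : (Nat.card SL2).factorization 2 = (Nat.card PSL2).factorization 2 + 1 := by
    rw [hSL, Nat.factorization_mul (by norm_num) hpos, Finsupp.add_apply,
      Nat.Prime.factorization_self Nat.prime_two, add_comm]
  rcases hmod with hmod | hmod
  · have h4 : Fintype.card F % 4 = 3 := by omega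
    have := Cfsg.Agent.S2431.factorization_two_nonsplit hodd h4
    rw [factorization_of_mod (Fintype.card F + 1) (by omega)] at this
    omega
  · have h4 : Fintype.card F % 4 = 1 := by omega
    have := Cfsg.Agent.S2431.factorization_two_split hodd h4
    rw [factorization_of_mod (Fintype.card F - 1) (by omega)] at this
    omega

/-- `q ≡ ±3 mod 8`: all Klein four subgroups are conjugate -/
theorem sylow_case (hodd : Odd (Fintype.card F))
    (hmod : Fintype.card F % 8 = 3 ∨ Fintype.card F % 8 = 5) (V W : Subgroup PSL2)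
    [hV : IsKleinFour V] [hW : IsKleinFour W] : W ∈ cls V := by
  have hf := factorization_PSL2 hodd hmod
  have hcV : Nat.card V = 2 ^ (Nat.card PSL2).factorization 2 := by
    rw [hf, hV.card_four]; norm_num
  have hcW : Nat.card W = 2 ^ (Nat.card PSL2).factorization 2 := by
    rw [hf, hW.card_four]; norm_num
  obtain ⟨g, hg⟩ := MulAction.exists_smul_eq PSL2 (Sylow.ofCard V hcV) (Sylow.ofCard W hcW)
  refine ⟨g, ?_⟩
  have := congrArg (fun P : Sylow 2 PSL2 => (P : Subgroup PSL2)) hg
  simp only [Sylow.coe_subgroup_smul, Sylow.coe_ofCard] at this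
  rw [← this]
  rfl

/-- `q ≡ ±1 mod 8`: exactly two classes of Klein four subgroups -/
theorem two_classes (hodd : Odd (Fintype.card F))
    (hmod : Fintype.card F % 8 = 1 ∨ Fintype.card F % 8 = 7) :
    ∃ V₁ V₂ : Subgroup PSL2, IsKleinFour V₁ ∧ IsKleinFour V₂ ∧ V₂ ∉ cls V₁ ∧
      ∀ W : Subgroup PSL2, IsKleinFour W → W ∈ cls V₁ ∨ W ∈ cls V₂ := by
  have h2 : (2 : F) ≠ 0 := Cfsg.Agent.Lib.Helper8.SL2Odd.two_ne_zero' hodd
  obtain ⟨r, hr⟩ : IsSquare (2 : F) := by
    rw [FiniteField.isSquare_two_iff]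
    omega
  have hcount := card_klein hodd
  rw [card_SL2_eq h2] at hcount
  have hK : 12 * ({V : Subgroup PSL2 | IsKleinFour V} : Set (Subgroup PSL2)).ncard =
      Nat.card PSL2 := by
    rw [← Nat.card_coe_set_eq]
    have : Nat.card {V : Subgroup PSL2 // IsKleinFour V} =
        Nat.card ({V : Subgroup PSL2 | IsKleinFour V} : Set (Subgroup PSL2)) := rfl
    omega
  have hcls : ∀ V : Subgroup PSL2, IsKleinFour V → 24 * (cls V).ncard = Nat.card PSL2 := by
    intro V hV
    have := card_cls V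
    rw [card_normalizer_of_sq h2 r hr.symm V, mul_comm] at this
    exact this
  have hsub : ∀ V : Subgroup PSL2, IsKleinFour V →
      cls V ⊆ {V : Subgroup PSL2 | IsKleinFour V} := by
    rintro V hV _ ⟨g, rfl⟩
    exact isKleinFour_map V g
  have hpos : 0 < Nat.card PSL2 := Nat.card_pos
  have hfin : ({V : Subgroup PSL2 | IsKleinFour V} : Set (Subgroup PSL2)).Finite := Set.toFinite _
  have hne : ({V : Subgroup PSL2 | IsKleinFour V} : Set (Subgroup PSL2)).Nonempty := by
    rw [← Set.ncard_pos hfin]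
    omega
  obtain ⟨V₁, hV₁⟩ := hne
  have h1 := hcls V₁ hV₁
  obtain ⟨V₂, hV₂, hV₂n⟩ := Set.exists_mem_notMem_of_ncard_lt_ncard
    (s := cls V₁) (t := {V : Subgroup PSL2 | IsKleinFour V}) (by omega)
  have h2' := hcls V₂ hV₂
  refine ⟨V₁, V₂, hV₁, hV₂, hV₂n, ?_⟩
  have hdisj : Disjoint (cls V₁) (cls V₂) := by
    rw [Set.disjoint_left]
    intro W hW1 hW2
    exact hV₂n (cls_trans hW1 (cls_symm hW2))
  have hunion : cls V₁ ∪ cls V₂ = {V : Subgroup PSL2 | IsKleinFour V} := by
    apply Set.eq_of_subset_of_ncard_le (Set.union_subset (hsub V₁ hV₁) (hsub V₂ hV₂)) _ hfin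
    rw [Set.ncard_union_eq hdisj (Set.toFinite _) (Set.toFinite _)]
    omega
  intro W hW
  have : W ∈ cls V₁ ∪ cls V₂ := by rw [hunion]; exact hW
  exact this

end psl

end Cfsg.Agent.H9.KleinClasses
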