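import Mathlib
import Cfsg.Agent.H9.KleinNorm
import Cfsg.Agent.H9.CoxA3Perm

set_option autoImplicit false

/-! A copy of `S₄` inside `PSL₂(q)` when `2` is a square. -/

namespace Cfsg.Agent.H9.S4inPSL2

open Matrix
open Cfsg.Agent.H9.AutPSL2 (pr pr_eq_iff pr_surjective)
open Cfsg.Agent.H9.KleinPSL2 Cfsg.Agent.H9.KleinNorm
open Cfsg.Agent.S2431 (negOne_ne_one eq_of_sq_eq_one)

variable {F : Type*} [Field F]

local notation "SL2" => Matrix.SpecialLinearGroup (Fin 2) F
local notation "PSL2" => Matrix.ProjectiveSpecialLinearGroup (Fin 2) F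

/-- explicit elements of `SL₂` -/
def mk2 (a b c d : F) (h : a * d - b * c = 1) : SL2 :=
  ⟨!![a, b; c, d], by rw [Matrix.det_fin_two_of]; exact h⟩

@[simp] theorem mk2_00 (a b c d : F) (h : a * d - b * c = 1) : (mk2 a b c d h).1 0 0 = a := rfl
@[simp] theorem mk2_01 (a b c d : F) (h : a * d - b * c = 1) : (mk2 a b c d h).1 0 1 = b := rfl
@[simp] theorem mk2_10 (a b c d : F) (h : a * d - b * c = 1) : (mk2 a b c d h).1 1 0 = c := rfl
@[simp] theorem mk2_11 (a b c d : F) (h : a * d - b * c = 1) : (mk2 a b c d h).1 1 1 = d := rfl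

theorem cube_of_trace_one (g : SL2) (ht : g.1.trace = 1) : g * g * g = -1 := by
  apply Subtype.ext
  show g.1 * g.1 * g.1 = ((-1 : SL2) : Matrix (Fin 2) (Fin 2) F)
  rw [neg_one_val]
  have hch := Cfsg.Agent.H9.Q8GL2.cayley_hamilton g.1
  rw [g.2, ht] at hch
  rw [hch, Matrix.sub_mul, Matrix.smul_mul, hch]
  simp

section elems

variable (s t i : F) (hst : s ^ 2 + t ^ 2 = -1) (hi : 2 * i * i = 1)

/-- `(X₀ + Y₀)/√2` -/
def A : SL2 := mk2 (i * s) (i * (1 + t)) (i * (t - 1)) (-(i * s)) (by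
  linear_combination (-(i * i)) * hst + hi)

/-- `(Y₀ + Z₀)/√2` -/
def B : SL2 := mk2 (i * (s + t)) (i * (t - s)) (i * (t - s)) (-(i * (s + t))) (by
  linear_combination (-(2 * i * i)) * hst + hi)

/-- `(X₀ - Y₀)/√2` -/
def C : SL2 := mk2 (-(i * s)) (i * (1 - t)) (-(i * (1 + t))) (i * s) (by
  linear_combination (-(i * i)) * hst + hi)

theorem A_sq : A s t i hst hi * A s t i hst hi = -1 := sq_of_trace _ rfl
theorem B_sq : B s t i hst hi * B s t i hst hi = -1 := sq_of_trace _ rfl
theorem C_sq : C s t i hst hi * C s t i hst hi = -1 := sq_of_trace _ (by simp [C])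

open Cfsg.Agent.H9.AutPSL2 (mul_00 mul_01 mul_10 mul_11 ext4 neg_00 neg_01 neg_10 neg_11)

theorem AB_trace : (A s t i hst hi * B s t i hst hi).1.trace = -1 := by
  rw [Matrix.trace_fin_two, mul_00, mul_11]
  simp only [A, B, mk2_00, mk2_01, mk2_10, mk2_11]
  linear_combination (2 * i * i) * hst - hi

theorem BC_trace : (B s t i hst hi * C s t i hst hi).1.trace = 1 := by
  rw [Matrix.trace_fin_two, mul_00, mul_11]
  simp only [B, C, mk2_00, mk2_01, mk2_10, mk2_11]
  linear_combination (-(2 * i * i)) * hst + hi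

theorem AC_anti : A s t i hst hi * C s t i hst hi = -(C s t i hst hi * A s t i hst hi) := by
  apply ext4
  · rw [neg_00, mul_00, mul_00]
    simp only [A, C, mk2_00, mk2_01, mk2_10, mk2_11]
    linear_combination (-(2 * i * i)) * hst
  · rw [neg_01, mul_01, mul_01]
    simp only [A, C, mk2_00, mk2_01, mk2_10, mk2_11]
    ring
  · rw [neg_10, mul_10, mul_10]
    simp only [A, C, mk2_00, mk2_01, mk2_10, mk2_11]
    ring
  · rw [neg_11, mul_11, mul_11]
    simp only [A, C, mk2_00, mk2_01, mk2_10, mk2_11]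
    linear_combination (-(2 * i * i)) * hst

theorem pr_ne_one_of [Fintype F] (g : SL2) (h : g.1 0 1 ≠ g.1 1 0 ∨ g.1 0 1 ≠ 0 ∨ g.1 0 0 ≠ g.1 1 1) :
    pr g ≠ 1 := by
  intro h1
  rw [pr_eq_one_iff] at h1
  rcases h1 with rfl | rfl
  · simp at h
  · simp at h

/-- a copy of `S₄` in `PSL₂(F)` when `2` is a nonzero square and `-1` a sum of two squares -/
theorem exists_S4_aux [Fintype F] (s t i : F) (hst : s ^ 2 + t ^ 2 = -1) (hi : 2 * i * i = 1) :
    ∃ H : Subgroup PSL2, Nonempty (H ≃* Equiv.Perm (Fin 4)) := by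
  have hn1 : pr (-1 : SL2) = 1 := by rw [pr_eq_one_iff]; right; rfl
  have haa : pr (A s t i hst hi) * pr (A s t i hst hi) = 1 := by rw [← map_mul, A_sq, hn1]
  have hbb : pr (B s t i hst hi) * pr (B s t i hst hi) = 1 := by rw [← map_mul, B_sq, hn1]
  have hcc : pr (C s t i hst hi) * pr (C s t i hst hi) = 1 := by rw [← map_mul, C_sq, hn1]
  have hab : (pr (A s t i hst hi) * pr (B s t i hst hi)) ^ 3 = 1 := by
    rw [← map_mul, ← map_pow, pow_succ, pow_two, cube_of_trace _ (AB_trace s t i hst hi), map_one]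
  have hbc : (pr (B s t i hst hi) * pr (C s t i hst hi)) ^ 3 = 1 := by
    rw [← map_mul, ← map_pow, pow_succ, pow_two, cube_of_trace_one _ (BC_trace s t i hst hi), hn1]
  have hac : pr (A s t i hst hi) * pr (C s t i hst hi) =
      pr (C s t i hst hi) * pr (A s t i hst hi) := by
    rw [← map_mul, ← map_mul, AC_anti, pr_neg]
  have h1 : pr (A s t i hst hi) ≠ 1 := by
    apply pr_ne_one_of
    left
    simp only [A, mk2_01, mk2_10]
    intro h
    have : (1 : F) = 0 := by linear_combination i * h - hi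
    exact one_ne_zero this
  have h2 : pr (A s t i hst hi) * pr (C s t i hst hi) ≠ 1 := by
    rw [← map_mul]
    apply pr_ne_one_of
    right
    rw [mul_01, mul_00, mul_11]
    simp only [A, C, mk2_00, mk2_01, mk2_10, mk2_11]
    by_cases hs : s = 0
    · right
      intro h
      have ht : t * t = -1 := by
        rw [hs] at hst
        linear_combination hst
      have h' : (2 : F) * t = 0 := by
        rw [hs] at h
        linear_combination (-1 : F) * h - (2 * t) * hi
      have h2i : (2 : F) ≠ 0 := by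
        intro h0
        rw [h0, zero_mul, zero_mul] at hi
        exact zero_ne_one hi
      rcases mul_eq_zero.1 h' with h'' | h''
      · exact h2i h''
      · rw [h'', mul_zero] at ht
        have : (1 : F) = 0 := by linear_combination ht
        exact one_ne_zero this
    · left
      intro h
      apply hs
      linear_combination h - s * hi
  have h3 : pr (A s t i hst hi) * pr (B s t i hst hi) ≠ 1 := by
    rw [← map_mul]
    apply pr_ne_one_of
    left
    rw [mul_01, mul_10]
    simp only [A, B, mk2_00, mk2_01, mk2_10, mk2_11]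
    intro h
    have : (1 : F) = 0 := by linear_combination h + (2 * i * i) * hst - hi
    exact one_ne_zero this
  have h4 : pr (A s t i hst hi) * pr (B s t i hst hi) * pr (C s t i hst hi) ≠ 1 := by
    intro h
    apply h3
    have hc : pr (A s t i hst hi) * pr (B s t i hst hi) = pr (C s t i hst hi) := by
      have := eq_inv_of_mul_eq_one_left h
      rw [this]
      exact inv_eq_of_mul_eq_one_left hcc
    have h2' : (pr (A s t i hst hi) * pr (B s t i hst hi)) ^ 2 = 1 := by
      rw [hc, pow_two, hcc]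
    calc pr (A s t i hst hi) * pr (B s t i hst hi)
        = (pr (A s t i hst hi) * pr (B s t i hst hi)) ^ 3 *
          ((pr (A s t i hst hi) * pr (B s t i hst hi)) ^ 2)⁻¹ := by group
      _ = 1 := by rw [hab, h2', inv_one, mul_one]
  obtain ⟨φ, hφ, -⟩ := Cfsg.Agent.H9.CoxA3.exists_embedding haa hbb hcc hab hbc hac h1 h2 h3 h4
  exact ⟨φ.range, ⟨(MonoidHom.ofInjective hφ).symm⟩⟩

end elems

/-- `S₄ ≤ PSL₂(q)` when `2` is a square, `q` odd -/
theorem exists_S4 [Fintype F] (h2 : (2 : F) ≠ 0) (r : F) (hr : r * r = 2) :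
    ∃ H : Subgroup PSL2, Nonempty (H ≃* Equiv.Perm (Fin 4)) := by
  obtain ⟨s, t, hst⟩ := Cfsg.Agent.H9.AutPSL2.exists_sq_add_sq (-1 : F)
  have hr0 : r ≠ 0 := by
    rintro rfl
    rw [mul_zero] at hr
    exact h2 hr.symm
  refine exists_S4_aux s t r⁻¹ hst.symm ?_
  rw [← hr]
  field_simp

end Cfsg.Agent.H9.S4inPSL2
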