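import Mathlib
import Cfsg.Agent.H9.KleinClasses
import Cfsg.Agent.H9.S4inPSL2
import Cfsg.Agent.S0228

set_option autoImplicit false

/-! Copies of `A₄` inside `PSL₂(q)`. -/

namespace Cfsg.Agent.H9.A4inPSL2

open Matrix
open Cfsg.Agent.H9.AutPSL2 (pr pr_eq_iff pr_surjective)
open Cfsg.Agent.H9.KleinGeneral Cfsg.Agent.H9.KleinPSL2 Cfsg.Agent.H9.KleinNormGen
  Cfsg.Agent.H9.KleinNorm Cfsg.Agent.H9.KleinClasses
open Cfsg.Agent.S2431 (negOne_ne_one eq_of_sq_eq_one)

variable {F : Type*} [Field F] [Fintype F]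

local notation "SL2" => Matrix.SpecialLinearGroup (Fin 2) F
local notation "PSL2" => Matrix.ProjectiveSpecialLinearGroup (Fin 2) F

/-- the Hurwitz element with its action -/
theorem exists_order_three' (h2 : (2 : F) ≠ 0) (X Y : SL2) (h : X * Y = -(Y * X)) :
    ∃ g : PSL2, g ∈ Subgroup.normalizer
      ((Subgroup.closure ({pr X, pr Y} : Set PSL2) : Subgroup PSL2) : Set PSL2) ∧ orderOf g = 3 ∧
      g * pr X * g⁻¹ = pr X * pr Y ∧ g * pr Y * g⁻¹ = pr X := by
  obtain ⟨m1, m2, m3⟩ := mat_facts h2 X Y h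
  obtain ⟨hXX, hYY⟩ := anti_sq h2 X Y h
  obtain ⟨w, hw1, hw2, hwt⟩ := Cfsg.Agent.H9.Hurwitz2.exists_hurwitz_trace h2 X Y m1 m2 m3
  have e1 : pr w * pr X * (pr w)⁻¹ = pr X * pr Y := by
    rw [← map_mul, hw1, map_mul, map_mul, mul_inv_cancel_right]
  have e2 : pr w * pr Y * (pr w)⁻¹ = pr X := by
    rw [← map_mul, hw2, map_mul, mul_inv_cancel_right]
  refine ⟨pr w, ?_, ?_, e1, e2⟩
  · apply mem_normalizer_of_gens
    · rw [e1]
      exact Subgroup.mul_mem _ (Subgroup.subset_closure (by simp)) (Subgroup.subset_closure (by simp))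
    · rw [e2]
      exact Subgroup.subset_closure (by simp)
  · have h3 : (3 : ℕ).Prime := by norm_num
    haveI := Fact.mk h3
    apply orderOf_eq_prime
    · rw [← map_pow, pow_succ, pow_two, cube_of_trace w hwt, map_one]
    · intro h1
      rw [pr_eq_one_iff] at h1
      have hcomm : w * X = X * w := by
        rcases h1 with rfl | rfl
        · rw [one_mul, mul_one]
        · rw [neg_mul, mul_neg, one_mul, mul_one]
      rw [hw1, mul_assoc] at hcomm
      have hcomm' := mul_left_cancel hcomm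
      have : Y = 1 := by
        have := mul_right_cancel (b := w) (a := Y) (c := 1) (by rw [hcomm', one_mul])
        exact this
      rw [this, mul_one] at hYY
      exact negOne_ne_one h2 hYY.symm

/-- `A₄ ≤ PSL₂(q)`, `q ≡ ±3 mod 8` -/
theorem exists_A4_nonsq (hodd : Odd (Fintype.card F))
    (hmod : Fintype.card F % 8 = 3 ∨ Fintype.card F % 8 = 5) :
    ∃ H : Subgroup PSL2, Nonempty (H ≃* alternatingGroup (Fin 4)) := by
  have h2 : (2 : F) ≠ 0 := Cfsg.Agent.Lib.Helper8.SL2Odd.two_ne_zero' hodd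
  obtain ⟨s, t, hst⟩ := Cfsg.Agent.H9.AutPSL2.exists_sq_add_sq (-1 : F)
  set X : SL2 := X0 with hX
  set Y : SL2 := Y0 s t hst.symm with hY
  have h : X * Y = -(Y * X) := anti0 s t hst.symm
  obtain ⟨p1, p2, p3, p4, p5, p6⟩ := pr_props h2 X Y h
  set V : Subgroup PSL2 := Subgroup.closure ({pr X, pr Y} : Set PSL2) with hV
  haveI hVK : IsKleinFour V := isKleinFour_of_anti h2 X Y h
  obtain ⟨g, hgN, hg3, hgX, hgY⟩ := exists_order_three' h2 X Y h
  refine ⟨Subgroup.normalizer (V : Set PSL2), ?_⟩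
  have hd := card_normalizer_dvd V (centralizer_le h2 V)
  have h3 : 3 ∣ Nat.card (Subgroup.normalizer (V : Set PSL2)) := three_dvd _ g hgN hg3
  have h4 : 4 ∣ Nat.card (Subgroup.normalizer (V : Set PSL2)) := by
    rw [← hVK.card_four]
    exact Subgroup.card_dvd_of_le Subgroup.le_normalizer
  have h8 : ¬ 8 ∣ Nat.card (Subgroup.normalizer (V : Set PSL2)) := by
    intro h8
    have h8' : 2 ^ 3 ∣ Nat.card PSL2 :=
      Dvd.dvd.trans h8 (Subgroup.card_subgroup_dvd_card _)
    have := (Nat.Prime.pow_dvd_iff_le_factorization Nat.prime_two Nat.card_pos.ne').1 h8'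
    rw [factorization_PSL2 hodd hmod] at this
    omega
  have hcard : Nat.card (Subgroup.normalizer (V : Set PSL2)) = 12 := by
    have hpos : 0 < Nat.card (Subgroup.normalizer (V : Set PSL2)) := Nat.card_pos
    obtain ⟨a, ha⟩ := hd
    obtain ⟨b, hb⟩ := h3
    obtain ⟨c, hc⟩ := h4
    have ha2 : a = 2 := by
      rcases a with _ | _ | _ | a
      · omega
      · exfalso; apply h8; exact ⟨3, by omega⟩
      · rfl
      · exfalso
        have : Nat.card (Subgroup.normalizer (V : Set PSL2)) ≤ 8 := by nlinarith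
        omega
    rw [ha2] at ha
    omega
  apply Cfsg.Agent.S0228.result hcard
  intro z hz2 hzc
  have hz1 : z ≠ 1 := by
    intro h1
    rw [h1, orderOf_one] at hz2
    omega
  have hzcomm : ∀ n : PSL2, n ∈ Subgroup.normalizer (V : Set PSL2) → z.1 * n = n * z.1 := by
    intro n hn
    have := Subgroup.mem_center_iff.1 hzc ⟨n, hn⟩
    exact (congrArg Subtype.val this).symm
  have hzV : z.1 ∈ V := centralizer_le h2 V z.1 (fun v hv => hzcomm v (Subgroup.le_normalizer hv))
  have hzV' := (mem_closure_pair_iff _ _ p1 p2 p3 z.1).1 hzV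
  have hzg := hzcomm g hgN
  have hconj : g * z.1 * g⁻¹ = z.1 := by
    rw [← hzg, mul_inv_cancel_right]
  rcases hzV' with hz | hz | hz | hz
  · exact hz1 (Subtype.ext hz)
  · rw [hz, hgX] at hconj
    apply p5
    exact mul_eq_left.mp hconj
  · rw [hz, hgY] at hconj
    exact p6 hconj
  · rw [hz] at hconj
    have e : g * (pr X * pr Y) * g⁻¹ = (g * pr X * g⁻¹) * (g * pr Y * g⁻¹) := by group
    rw [e, hgX, hgY] at hconj
    apply p4
    have : pr X * pr Y * pr X = pr Y := by
      rw [p3, mul_assoc, p1, mul_one]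
    rw [this] at hconj
    exact (mul_eq_right.mp hconj.symm)

/-- `A₄` inside any group containing `S₄` -/
theorem exists_A4_of_S4 {G : Type*} [Group G] (H : Subgroup G) (e : H ≃* Equiv.Perm (Fin 4)) :
    ∃ H' : Subgroup G, Nonempty (H' ≃* alternatingGroup (Fin 4)) := by
  have hφ : Function.Injective (H.subtype.comp e.symm.toMonoidHom) := by
    intro a b hab
    have := H.subtype_injective hab
    exact e.symm.injective this
  exact ⟨(alternatingGroup (Fin 4)).map (H.subtype.comp e.symm.toMonoidHom),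
    ⟨((alternatingGroup (Fin 4)).equivMapOfInjective _ hφ).symm⟩⟩

/-- `A₄ ≤ PSL₂(q)` for all odd `q` -/
theorem exists_A4_odd (hodd : Odd (Fintype.card F)) :
    ∃ H : Subgroup PSL2, Nonempty (H ≃* alternatingGroup (Fin 4)) := by
  have h2 : (2 : F) ≠ 0 := Cfsg.Agent.Lib.Helper8.SL2Odd.two_ne_zero' hodd
  by_cases hmod : Fintype.card F % 8 = 3 ∨ Fintype.card F % 8 = 5
  · exact exists_A4_nonsq hodd hmod
  · obtain ⟨r, hr⟩ : IsSquare (2 : F) := by
      rw [FiniteField.isSquare_two_iff]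
      push Not at hmod
      exact hmod
    obtain ⟨H, ⟨e⟩⟩ := Cfsg.Agent.H9.S4inPSL2.exists_S4 h2 r hr.symm
    exact exists_A4_of_S4 H e

end Cfsg.Agent.H9.A4inPSL2
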