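import Mathlib
import Cfsg.Agent.S3377

set_option autoImplicit false
open scoped Pointwise

/-! Counting subgroups isomorphic to `A₅` through `(3,5,2)`-generating pairs. -/

namespace Cfsg.Agent.H9.A5CntA

section general

variable {G : Type*} [Group G]

/-- a nontrivial `(3,5,2)`-pair generates a copy of `A₅` -/
theorem closure_iso_A5 (a b : G) (ha : a ^ 3 = 1) (hb : b ^ 5 = 1) (hab : (a * b) ^ 2 = 1)
    (ha1 : a ≠ 1) :
    Nonempty (Subgroup.closure ({a, b} : Set G) ≃* alternatingGroup (Fin 5)) := by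
  obtain ⟨e⟩ := Cfsg.Agent.S3377.result
  have hrel : ∀ r ∈ ({FreeGroup.of (0 : Fin 2) ^ 3, FreeGroup.of (1 : Fin 2) ^ 5,
      (FreeGroup.of (0 : Fin 2) * FreeGroup.of 1) ^ 2} : Set (FreeGroup (Fin 2))),
      FreeGroup.lift ![a, b] r = 1 := by
    intro r hr
    rcases hr with rfl | rfl | rfl
    · simpa using ha
    · simpa using hb
    · simpa using hab
  let ψ := PresentedGroup.toGroup hrel
  let φ : alternatingGroup (Fin 5) →* G := ψ.comp e.symm.toMonoidHom
  have hker : φ.ker = ⊥ := by
    have : IsSimpleGroup (alternatingGroup (Fin 5)) := alternatingGroup.isSimpleGroup (by simp)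
    rcases (φ.normal_ker).eq_bot_or_eq_top with h | h
    · exact h
    · exfalso
      apply ha1
      have h1 : e (PresentedGroup.of 0) ∈ φ.ker := by rw [h]; trivial
      rw [MonoidHom.mem_ker] at h1
      have h2 : φ (e (PresentedGroup.of 0)) = a := by
        show ψ (e.symm (e (PresentedGroup.of 0))) = a
        rw [MulEquiv.symm_apply_apply]
        show PresentedGroup.toGroup hrel (PresentedGroup.of 0) = a
        rw [PresentedGroup.toGroup.of]
        rfl
      rw [← h2, h1]
  have hinj : Function.Injective φ := (MonoidHom.ker_eq_bot_iff φ).1 hker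
  have hrange : φ.range = Subgroup.closure ({a, b} : Set G) := by
    have h1 : φ.range = ψ.range := by
      apply le_antisymm
      · rintro _ ⟨x, rfl⟩
        exact ⟨e.symm x, rfl⟩
      · rintro _ ⟨x, rfl⟩
        exact ⟨e x, by show ψ (e.symm (e x)) = ψ x; rw [MulEquiv.symm_apply_apply]⟩
    have h2 : (⇑ψ ∘ (PresentedGroup.of : Fin 2 → _)) = ![a, b] := by
      funext i
      show PresentedGroup.toGroup hrel (PresentedGroup.of i) = _
      rw [PresentedGroup.toGroup.of]
    rw [h1, MonoidHom.range_eq_map, ← PresentedGroup.closure_range_of, MonoidHom.map_closure,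
      ← Set.range_comp, h2]
    congr 1
    ext x
    simp [Fin.exists_fin_two]
    tauto
  exact ⟨((MonoidHom.ofInjective hinj).trans (MulEquiv.subgroupCongr hrange)).symm⟩

end general

section count

/-- the set of nontrivial `(3,5,2)`-pairs -/
def pairs (G : Type*) [Group G] [Fintype G] [DecidableEq G] : Finset (G × G) :=
  Finset.univ.filter (fun p => p.1 ^ 3 = 1 ∧ p.2 ^ 5 = 1 ∧ (p.1 * p.2) ^ 2 = 1 ∧ p.1 ≠ 1)

set_option maxRecDepth 1000000 in
theorem pairs_A5_card : (pairs (alternatingGroup (Fin 5))).card = 120 := by decide +kernel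

theorem card_A5 : Nat.card (alternatingGroup (Fin 5)) = 60 := by
  rw [nat_card_alternatingGroup]; simp [Nat.factorial]

variable {G : Type*} [Group G] [Fintype G] [DecidableEq G]

theorem mem_pairs (p : G × G) :
    p ∈ pairs G ↔ p.1 ^ 3 = 1 ∧ p.2 ^ 5 = 1 ∧ (p.1 * p.2) ^ 2 = 1 ∧ p.1 ≠ 1 := by
  unfold pairs
  rw [Finset.mem_filter]
  simp

set_option linter.constructorNameAsVariable false in
open Classical in
theorem card_fiber (H : Subgroup G) (hH : Nonempty (H ≃* alternatingGroup (Fin 5))) :
    ((pairs G).filter (fun p => Subgroup.closure ({p.1, p.2} : Set G) = H)).card = 120 := by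
  obtain ⟨ε⟩ := hH
  let g : alternatingGroup (Fin 5) × alternatingGroup (Fin 5) → G × G :=
    fun q => ((ε.symm q.1 : G), (ε.symm q.2 : G))
  have hg : Function.Injective g := by
    intro q q' h
    have h1 : ε.symm q.1 = ε.symm q'.1 := Subtype.ext (congrArg Prod.fst h)
    have h2 : ε.symm q.2 = ε.symm q'.2 := Subtype.ext (congrArg Prod.snd h)
    exact Prod.ext (ε.symm.injective h1) (ε.symm.injective h2)
  have hcardH : Nat.card H = 60 := by rw [Nat.card_congr ε.toEquiv, card_A5]
  have himg : (pairs G).filter (fun p => Subgroup.closure ({p.1, p.2} : Set G) = H) =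
      (pairs (alternatingGroup (Fin 5))).image g := by
    ext p
    rw [Finset.mem_filter, Finset.mem_image, mem_pairs]
    constructor
    · rintro ⟨⟨h1, h2, h3, h4⟩, hcl⟩
      have m1 : p.1 ∈ H := by rw [← hcl]; exact Subgroup.subset_closure (by simp)
      have m2 : p.2 ∈ H := by rw [← hcl]; exact Subgroup.subset_closure (by simp)
      refine ⟨(ε ⟨p.1, m1⟩, ε ⟨p.2, m2⟩), ?_, ?_⟩
      · rw [mem_pairs]
        refine ⟨?_, ?_, ?_, ?_⟩
        · rw [← map_pow]
          have : (⟨p.1, m1⟩ : H) ^ 3 = 1 := Subtype.ext h1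
          rw [this, map_one]
        · rw [← map_pow]
          have : (⟨p.2, m2⟩ : H) ^ 5 = 1 := Subtype.ext h2
          rw [this, map_one]
        · rw [← map_mul, ← map_pow]
          have : ((⟨p.1, m1⟩ : H) * ⟨p.2, m2⟩) ^ 2 = 1 := Subtype.ext h3
          rw [this, map_one]
        · intro h
          apply h4
          have h' : ε ⟨p.1, m1⟩ = 1 := h
          have : (⟨p.1, m1⟩ : H) = 1 := ε.injective (by rw [h', map_one])
          exact congrArg Subtype.val this
      · show ((ε.symm (ε ⟨p.1, m1⟩) : G), (ε.symm (ε ⟨p.2, m2⟩) : G)) = p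
        rw [MulEquiv.symm_apply_apply, MulEquiv.symm_apply_apply]
    · rintro ⟨q, hq, rfl⟩
      rw [mem_pairs] at hq
      obtain ⟨h1, h2, h3, h4⟩ := hq
      have r1 : ((ε.symm q.1 : H) : G) ^ 3 = 1 := by
        rw [← Subgroup.coe_pow, ← map_pow, h1, map_one, Subgroup.coe_one]
      have r2 : ((ε.symm q.2 : H) : G) ^ 5 = 1 := by
        rw [← Subgroup.coe_pow, ← map_pow, h2, map_one, Subgroup.coe_one]
      have r3 : (((ε.symm q.1 : H) : G) * ((ε.symm q.2 : H) : G)) ^ 2 = 1 := by
        rw [← Subgroup.coe_mul, ← Subgroup.coe_pow, ← map_mul, ← map_pow, h3, map_one,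
          Subgroup.coe_one]
      have r4 : ((ε.symm q.1 : H) : G) ≠ 1 := by
        intro h
        apply h4
        have : ε.symm q.1 = 1 := Subtype.ext h
        have h5 := congrArg ε this
        rwa [MulEquiv.apply_symm_apply, map_one] at h5
      refine ⟨⟨r1, r2, r3, r4⟩, ?_⟩
      show Subgroup.closure ({((ε.symm q.1 : H) : G), ((ε.symm q.2 : H) : G)} : Set G) = H
      have hle : Subgroup.closure ({((ε.symm q.1 : H) : G), ((ε.symm q.2 : H) : G)} : Set G) ≤ H := by
        rw [Subgroup.closure_le]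
        intro x hx
        rcases hx with rfl | rfl
        · exact (ε.symm q.1).2
        · exact (ε.symm q.2).2
      obtain ⟨ε'⟩ := closure_iso_A5 _ _ r1 r2 r3 r4
      apply Subgroup.eq_of_le_of_card_ge hle
      rw [hcardH, Nat.card_congr ε'.toEquiv, card_A5]
  rw [himg, Finset.card_image_of_injective _ hg, pairs_A5_card]

open Classical in
theorem card_pairs :
    (pairs G).card =
      120 * Nat.card {H : Subgroup G // Nonempty (H ≃* alternatingGroup (Fin 5))} := by
  have : Fintype (Subgroup G) := Fintype.ofFinite _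
  have h := Finset.card_eq_sum_card_fiberwise (s := pairs G)
    (t := Finset.univ.filter (fun H : Subgroup G => Nonempty (H ≃* alternatingGroup (Fin 5))))
    (f := fun p => Subgroup.closure ({p.1, p.2} : Set G)) (by
      intro p hp
      have hp' := (mem_pairs p).1 hp
      obtain ⟨h1, h2, h3, h4⟩ := hp'
      simp only [Finset.coe_filter, Finset.mem_univ, true_and, Set.mem_ofPred_eq]
      exact closure_iso_A5 _ _ h1 h2 h3 h4)
  rw [h, Finset.sum_congr rfl (fun H hH => card_fiber H (by simpa using hH)), Finset.sum_const,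
    smul_eq_mul, mul_comm, Nat.card_eq_fintype_card, Fintype.card_subtype]

end count

section classes

variable {G : Type*} [Group G] [Finite G]

theorem normalizer_eq_self [IsSimpleGroup G] (hG : Nat.card G = 660) (H : Subgroup G)
    (hH : Nat.card H = 60) : Subgroup.normalizer (H : Set G) = H := by
  have hle : H ≤ Subgroup.normalizer (H : Set G) := Subgroup.le_normalizer
  have h1 : Nat.card H ∣ Nat.card (Subgroup.normalizer (H : Set G)) :=
    Subgroup.card_dvd_of_le hle
  have h2 : Nat.card (Subgroup.normalizer (H : Set G)) ∣ Nat.card G :=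
    Subgroup.card_subgroup_dvd_card _
  rw [hH] at h1
  rw [hG] at h2
  obtain ⟨k, hk⟩ := h1
  have hk' : k = 1 ∨ k = 11 := by
    rw [hk] at h2
    have h3 : k ∣ 11 := by
      have : 60 * k ∣ 60 * 11 := h2
      exact Nat.dvd_of_mul_dvd_mul_left (by norm_num) this
    exact (Nat.dvd_prime (by norm_num)).1 h3
  rcases hk' with rfl | rfl
  · symm
    apply Subgroup.eq_of_le_of_card_ge hle
    rw [hk, hH]
  · exfalso
    have htop : Subgroup.normalizer (H : Set G) = ⊤ := by
      apply Subgroup.eq_top_of_card_eq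
      rw [hk, hG]
    have hn : H.Normal := Subgroup.normalizer_eq_top_iff.1 htop
    rcases hn.eq_bot_or_eq_top with h | h
    · rw [h] at hH; simp at hH
    · rw [h, Subgroup.card_top, hG] at hH; omega

theorem ncard_orbit [IsSimpleGroup G] (hG : Nat.card G = 660) (H : Subgroup G)
    (hH : Nat.card H = 60) : (Set.range (fun g : G => MulAut.conj g • H)).ncard = 11 := by
  let _ : MulAction G (Subgroup G) := MulAction.compHom (Subgroup G) (MulAut.conj : G →* MulAut G)
  have h1 : Set.range (fun g : G => MulAut.conj g • H) = MulAction.orbit G H := rfl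
  rw [h1, ← MulAction.index_stabilizer]
  have h2' : MulAction.stabilizer G H = Subgroup.normalizer (H : Set G) := by
    ext g
    rw [MulAction.mem_stabilizer_iff, Subgroup.mem_normalizer_iff_map_conj_eq]
    rfl
  have h2 : MulAction.stabilizer G H = H := by
    rw [h2', normalizer_eq_self hG H hH]
  rw [h2]
  have h3 := Subgroup.card_mul_index H
  rw [hH, hG] at h3
  omega

theorem two_classes [IsSimpleGroup G] (hG : Nat.card G = 660)
    (h22 : Nat.card {H : Subgroup G // Nonempty (H ≃* alternatingGroup (Fin 5))} = 22) :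
    ∃ H K : Subgroup G, Nonempty (H ≃* alternatingGroup (Fin 5)) ∧
      Nonempty (K ≃* alternatingGroup (Fin 5)) ∧ (∀ g : G, MulAut.conj g • H ≠ K) ∧
      ∀ L : Subgroup G, Nonempty (L ≃* alternatingGroup (Fin 5)) →
        ∃ g : G, MulAut.conj g • L = H ∨ MulAut.conj g • L = K := by
  set X : Set (Subgroup G) := {H | Nonempty (H ≃* alternatingGroup (Fin 5))} with hX
  have hXc : X.ncard = 22 := by
    rw [← Nat.card_coe_set_eq]
    exact h22
  have hcard : ∀ H ∈ X, Nat.card H = 60 := by
    rintro H ⟨ε⟩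
    rw [Nat.card_congr ε.toEquiv, card_A5]
  have hsub : ∀ H ∈ X, Set.range (fun g : G => MulAut.conj g • H) ⊆ X := by
    rintro H ⟨ε⟩ _ ⟨g, rfl⟩
    exact ⟨(Subgroup.equivSMul (MulAut.conj g) H).symm.trans ε⟩
  have hne : X.Nonempty := by
    rw [← Set.ncard_pos (Set.toFinite X), hXc]
    norm_num
  obtain ⟨H, hH⟩ := hne
  have hO1 := ncard_orbit hG H (hcard H hH)
  have hK : ∃ K ∈ X, K ∉ Set.range (fun g : G => MulAut.conj g • H) := by
    by_contra hcon
    push Not at hcon
    have := Set.ncard_le_ncard hcon (Set.toFinite _)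
    rw [hXc, hO1] at this
    omega
  obtain ⟨K, hK, hKH⟩ := hK
  have hO2 := ncard_orbit hG K (hcard K hK)
  have hdisj : Disjoint (Set.range (fun g : G => MulAut.conj g • H))
      (Set.range (fun g : G => MulAut.conj g • K)) := by
    rw [Set.disjoint_left]
    rintro _ ⟨g, rfl⟩ ⟨g', hg'⟩
    apply hKH
    refine ⟨g'⁻¹ * g, ?_⟩
    show MulAut.conj (g'⁻¹ * g) • H = K
    have : MulAut.conj g'⁻¹ • (MulAut.conj g' • K) = K := by
      rw [map_inv, inv_smul_smul]
    have hg'' : MulAut.conj g' • K = MulAut.conj g • H := hg'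
    rw [map_mul, mul_smul, ← hg'', this]
  have hunion : Set.range (fun g : G => MulAut.conj g • H) ∪
      Set.range (fun g : G => MulAut.conj g • K) = X := by
    apply Set.eq_of_subset_of_ncard_le (Set.union_subset (hsub H hH) (hsub K hK)) _
      (Set.toFinite X)
    rw [Set.ncard_union_eq hdisj (Set.toFinite _) (Set.toFinite _), hO1, hO2, hXc]
  refine ⟨H, K, hH, hK, fun g hg => hKH ⟨g, hg⟩, ?_⟩
  intro L hL
  have hL' : L ∈ X := hL
  rw [← hunion] at hL'
  rcases hL' with ⟨g, hg⟩ | ⟨g, hg⟩
  · refine ⟨g⁻¹, Or.inl ?_⟩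
    rw [← hg]
    show MulAut.conj g⁻¹ • (MulAut.conj g • H) = H
    rw [map_inv, inv_smul_smul]
  · refine ⟨g⁻¹, Or.inr ?_⟩
    rw [← hg]
    show MulAut.conj g⁻¹ • (MulAut.conj g • K) = K
    rw [map_inv, inv_smul_smul]

end classes

end Cfsg.Agent.H9.A5CntA
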