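import Mathlib
import Cfsg.Agent.Lib.Helper8.PSL2Map
import Cfsg.Agent.H9.A5inPSL2
import Cfsg.Agent.H9.A5CntA

set_option autoImplicit false

/-! The number of `(3,5,2)`-pairs in `PSL₂(11)` is `2640`. -/

namespace Cfsg.Agent.H9.A5CntB

open Matrix Cfsg.Agent.Lib.Helper8.PSL2Map

section gen

variable {F : Type*} [Field F]

local notation "SL2" => Matrix.SpecialLinearGroup (Fin 2) F

theorem ch (X : SL2) : X.1 * X.1 = X.1.trace • X.1 - 1 := by
  have h := Cfsg.Agent.H9.Q8GL2.cayley_hamilton X.1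
  rw [X.2, one_smul] at h
  exact h

theorem cube_formula (X : SL2) :
    X.1 * X.1 * X.1 = (X.1.trace ^ 2 - 1) • X.1 - X.1.trace • (1 : Matrix (Fin 2) (Fin 2) F) := by
  have h2 := ch X
  rw [h2, Matrix.sub_mul, Matrix.smul_mul, h2, Matrix.one_mul]
  module

theorem pow5_formula (X : SL2) :
    X.1 * X.1 * X.1 * X.1 * X.1 = (X.1.trace ^ 4 - 3 * X.1.trace ^ 2 + 1) • X.1 -
      (X.1.trace ^ 3 - 2 * X.1.trace) • (1 : Matrix (Fin 2) (Fin 2) F) := by
  have h2 := ch X
  have h3 := cube_formula X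
  have h4 : X.1 * X.1 * X.1 * X.1 = (X.1.trace ^ 3 - 2 * X.1.trace) • X.1 -
      (X.1.trace ^ 2 - 1) • (1 : Matrix (Fin 2) (Fin 2) F) := by
    rw [h3, Matrix.sub_mul, Matrix.smul_mul, Matrix.smul_mul, h2, Matrix.one_mul]
    module
  rw [h4, Matrix.sub_mul, Matrix.smul_mul, Matrix.smul_mul, h2, Matrix.one_mul]
  module

theorem nonscalar (X : SL2) (h1 : X.1 ≠ 1) (h2 : X.1 ≠ -1) (α β : F)
    (h : α • X.1 = β • (1 : Matrix (Fin 2) (Fin 2) F)) : α = 0 := by
  by_contra hα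
  have hX : X.1 = (α⁻¹ * β) • (1 : Matrix (Fin 2) (Fin 2) F) := by
    rw [mul_smul, ← h, smul_smul, inv_mul_cancel₀ hα, one_smul]
  have hdet : (α⁻¹ * β) ^ 2 = 1 := by
    have := X.2
    rw [hX, Matrix.det_smul, Matrix.det_one, mul_one, Fintype.card_fin] at this
    exact this
  rcases sq_eq_one_iff.1 hdet with h | h
  · apply h1; rw [hX, h, one_smul]
  · apply h2; rw [hX, h, neg_smul, one_smul]

end gen

section conc

instance fact11 : Fact (Nat.Prime 11) := ⟨by norm_num⟩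

/-- the field with eleven elements -/
abbrev T := ZMod 11

/-- `SL₂(11)` -/
abbrev S := Matrix.SpecialLinearGroup (Fin 2) T

/-- matrices from entries -/
def mkS (a b c d : T) : S :=
  if h : a * d - b * c = 1 then ⟨!![a, b; c, d], by rw [Matrix.det_fin_two_of]; exact h⟩ else 1

theorem mkS_coe (a b c d : T) (h : a * d - b * c = 1) : (mkS a b c d).1 = !![a, b; c, d] := by
  have h1 : mkS a b c d = ⟨!![a, b; c, d], by rw [Matrix.det_fin_two_of]; exact h⟩ := dif_pos h
  rw [h1]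

theorem mat_inj {a b c d a' b' c' d' : T} (h : !![a, b; c, d] = !![a', b'; c', d']) :
    a = a' ∧ b = b' ∧ c = c' ∧ d = d' := by
  refine ⟨?_, ?_, ?_, ?_⟩
  · simpa using congrFun (congrFun h 0) 0
  · simpa using congrFun (congrFun h 0) 1
  · simpa using congrFun (congrFun h 1) 0
  · simpa using congrFun (congrFun h 1) 1

/-- the first tuple set: matrices of trace one -/
def Q1 : Finset (T × T × T) :=
  Finset.univ.filter (fun p => p.1 * (1 - p.1) - p.2.1 * p.2.2 = 1)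

/-- the second tuple set -/
def Q2 (p : T × T × T) : Finset ((T × T × T) × T) :=
  ((Finset.univ : Finset (T × T × T)) ×ˢ ({3, 7} : Finset T)).filter (fun q =>
    q.1.1 * (q.2 - q.1.1) - q.1.2.1 * q.1.2.2 = 1 ∧
    p.1 * q.1.1 + p.2.1 * q.1.2.2 + p.2.2 * q.1.2.1 + (1 - p.1) * (q.2 - q.1.1) = 0)

set_option maxRecDepth 1000000 in
theorem Q1_card : Q1.card = 110 := by decide +kernel

set_option maxRecDepth 1000000 in
theorem Q2_card : ∀ p ∈ Q1, (Q2 p).card = 24 := by decide +kernel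

theorem mem_Q1 (p : T × T × T) : p ∈ Q1 ↔ p.1 * (1 - p.1) - p.2.1 * p.2.2 = 1 := by
  unfold Q1
  rw [Finset.mem_filter]
  simp

theorem mem_Q2 (p : T × T × T) (q : (T × T × T) × T) : q ∈ Q2 p ↔ (q.2 = 3 ∨ q.2 = 7) ∧
    q.1.1 * (q.2 - q.1.1) - q.1.2.1 * q.1.2.2 = 1 ∧
    p.1 * q.1.1 + p.2.1 * q.1.2.2 + p.2.2 * q.1.2.1 + (1 - p.1) * (q.2 - q.1.1) = 0 := by
  unfold Q2
  rw [Finset.mem_filter, Finset.mem_product]
  simp

attribute [irreducible] Q1 Q2

/-- the matrix of a tuple in `Q1` -/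
def matA (p : T × T × T) : S := mkS p.1 p.2.1 p.2.2 (1 - p.1)

/-- the matrix of a tuple in `Q2` -/
def matB (q : (T × T × T) × T) : S := mkS q.1.1 q.1.2.1 q.1.2.2 (q.2 - q.1.1)

theorem matA_coe (p : T × T × T) (hp : p ∈ Q1) :
    (matA p).1 = !![p.1, p.2.1; p.2.2, 1 - p.1] :=
  mkS_coe _ _ _ _ ((mem_Q1 p).1 hp)

theorem matB_coe (p : T × T × T) (q : (T × T × T) × T) (hq : q ∈ Q2 p) :
    (matB q).1 = !![q.1.1, q.1.2.1; q.1.2.2, q.2 - q.1.1] :=
  mkS_coe _ _ _ _ ((mem_Q2 p q).1 hq).2.1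

theorem matA_trace (p : T × T × T) (hp : p ∈ Q1) : (matA p).1.trace = 1 := by
  rw [matA_coe p hp, Matrix.trace_fin_two_of]
  ring

theorem matB_trace (p : T × T × T) (q : (T × T × T) × T) (hq : q ∈ Q2 p) :
    (matB q).1.trace = q.2 := by
  rw [matB_coe p q hq, Matrix.trace_fin_two_of]
  ring

theorem matAB_trace (p : T × T × T) (hp : p ∈ Q1) (q : (T × T × T) × T) (hq : q ∈ Q2 p) :
    ((matA p).1 * (matB q).1).trace = 0 := by
  rw [matA_coe p hp, matB_coe p q hq, Matrix.mul_fin_two, Matrix.trace_fin_two_of]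
  linear_combination ((mem_Q2 p q).1 hq).2.2

theorem exists_tuple_A (A : S) (hA : A.1.trace = 1) : ∃ p ∈ Q1, matA p = A := by
  have h11 : A.1 1 1 = 1 - A.1 0 0 := by
    rw [Matrix.trace_fin_two] at hA
    linear_combination hA
  have hdet : A.1 0 0 * A.1 1 1 - A.1 0 1 * A.1 1 0 = 1 := by
    rw [← Matrix.det_fin_two]; exact A.2
  have hp : (A.1 0 0, A.1 0 1, A.1 1 0) ∈ Q1 := by
    rw [mem_Q1]
    show A.1 0 0 * (1 - A.1 0 0) - A.1 0 1 * A.1 1 0 = 1
    rw [← h11]; exact hdet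
  refine ⟨(A.1 0 0, A.1 0 1, A.1 1 0), hp, ?_⟩
  apply Subtype.ext
  rw [matA_coe _ hp]
  show !![A.1 0 0, A.1 0 1; A.1 1 0, 1 - A.1 0 0] = A.1
  rw [← h11]
  exact (Matrix.eta_fin_two A.1).symm

theorem exists_tuple_B (p : T × T × T) (hp : p ∈ Q1) (B : S)
    (hB : B.1.trace = 3 ∨ B.1.trace = 7) (hAB : ((matA p).1 * B.1).trace = 0) :
    ∃ q ∈ Q2 p, matB q = B := by
  have h11 : B.1 1 1 = B.1.trace - B.1 0 0 := by
    rw [Matrix.trace_fin_two]
    ring
  have hdet : B.1 0 0 * B.1 1 1 - B.1 0 1 * B.1 1 0 = 1 := by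
    rw [← Matrix.det_fin_two]; exact B.2
  have hBeta : B.1 = !![B.1 0 0, B.1 0 1; B.1 1 0, B.1.trace - B.1 0 0] := by
    rw [← h11]
    exact Matrix.eta_fin_two B.1
  have hq : ((B.1 0 0, B.1 0 1, B.1 1 0), B.1.trace) ∈ Q2 p := by
    rw [mem_Q2]
    refine ⟨hB, ?_, ?_⟩
    · show B.1 0 0 * (B.1.trace - B.1 0 0) - B.1 0 1 * B.1 1 0 = 1
      rw [← h11]; exact hdet
    · show p.1 * B.1 0 0 + p.2.1 * B.1 1 0 + p.2.2 * B.1 0 1 +
        (1 - p.1) * (B.1.trace - B.1 0 0) = 0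
      rw [matA_coe p hp] at hAB
      rw [hBeta, Matrix.mul_fin_two, Matrix.trace_fin_two_of] at hAB
      rw [← h11] at hAB ⊢
      linear_combination hAB
  refine ⟨_, hq, ?_⟩
  apply Subtype.ext
  rw [matB_coe p _ hq]
  exact hBeta.symm

/-- all the tuples -/
def Q : Finset (Σ _ : T × T × T, (T × T × T) × T) := Q1.sigma Q2

theorem mem_Q (x : Σ _ : T × T × T, (T × T × T) × T) : x ∈ Q ↔ x.1 ∈ Q1 ∧ x.2 ∈ Q2 x.1 := by
  unfold Q
  rw [Finset.mem_sigma]

theorem Q_card : Q.card = 2640 := by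
  unfold Q
  rw [Finset.card_sigma, Finset.sum_congr rfl Q2_card, Finset.sum_const, Q1_card]
  rfl

attribute [irreducible] Q

end conc

section psi

variable {F : Type*} [Field F] (e : T ≃+* F)

local notation "G" => Matrix.ProjectiveSpecialLinearGroup (Fin 2) F

theorem psi_neg (X : S) : psi e (-X) = psi e X := by
  rw [psi_eq_iff]
  right
  rw [Matrix.SpecialLinearGroup.coe_neg]

theorem psi_surj : Function.Surjective (psi e) := by
  intro g
  obtain ⟨X, rfl⟩ := QuotientGroup.mk_surjective g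
  refine ⟨Matrix.SpecialLinearGroup.map e.symm.toRingHom X, ?_⟩
  have h : Matrix.SpecialLinearGroup.map e.toRingHom
      (Matrix.SpecialLinearGroup.map e.symm.toRingHom X) = X := by
    ext i j
    rw [map_coe, map_coe]
    exact e.apply_symm_apply _
  show QuotientGroup.mk' _ (Matrix.SpecialLinearGroup.map e.toRingHom
    (Matrix.SpecialLinearGroup.map e.symm.toRingHom X)) = _
  rw [h]
  rfl

theorem ne_pm_one (A : S) (h1 : psi e A ≠ 1) : A.1 ≠ 1 ∧ A.1 ≠ -1 := by
  constructor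
  · intro h
    exact h1 ((psi_eq_one_iff e A).2 (Or.inl h))
  · intro h
    exact h1 ((psi_eq_one_iff e A).2 (Or.inr h))

theorem lift3 (g : G) (h3 : g ^ 3 = 1) (h1 : g ≠ 1) : ∃ A : S, A.1.trace = 1 ∧ psi e A = g := by
  obtain ⟨A, rfl⟩ := psi_surj e g
  obtain ⟨hA1, hA2⟩ := ne_pm_one e A h1
  rw [← map_pow, psi_eq_one_iff, Matrix.SpecialLinearGroup.coe_pow] at h3
  have hc := cube_formula A
  have h3' : A.1 * A.1 * A.1 = 1 ∨ A.1 * A.1 * A.1 = -1 := by
    simpa [pow_succ] using h3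
  have ht : A.1.trace ^ 2 - 1 = 0 := by
    rcases h3' with h | h
    · apply nonscalar A hA1 hA2 _ (1 + A.1.trace)
      rw [h] at hc
      linear_combination (norm := module) -hc
    · apply nonscalar A hA1 hA2 _ (-1 + A.1.trace)
      rw [h] at hc
      linear_combination (norm := module) -hc
  have h2 : A.1.trace = 1 ∨ A.1.trace = -1 := by
    have : (A.1.trace - 1) * (A.1.trace + 1) = 0 := by linear_combination ht
    rcases mul_eq_zero.1 this with h | h
    · left; linear_combination h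
    · right; linear_combination h
  rcases h2 with h | h
  · exact ⟨A, h, rfl⟩
  · refine ⟨-A, ?_, psi_neg e A⟩
    rw [Matrix.SpecialLinearGroup.coe_neg, Matrix.trace_neg, h, neg_neg]

theorem roots5 : ∀ t : T, t ^ 4 - 3 * t ^ 2 + 1 = 0 → t = 3 ∨ t = 7 ∨ -t = 7 ∨ -t = 3 := by
  decide

theorem lift5 (g : G) (h5 : g ^ 5 = 1) (h1 : g ≠ 1) :
    ∃ B : S, (B.1.trace = 3 ∨ B.1.trace = 7) ∧ psi e B = g := by
  obtain ⟨B, rfl⟩ := psi_surj e g
  obtain ⟨hB1, hB2⟩ := ne_pm_one e B h1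
  rw [← map_pow, psi_eq_one_iff, Matrix.SpecialLinearGroup.coe_pow] at h5
  have hc := pow5_formula B
  have h5' : B.1 * B.1 * B.1 * B.1 * B.1 = 1 ∨ B.1 * B.1 * B.1 * B.1 * B.1 = -1 := by
    simpa [pow_succ] using h5
  have ht : B.1.trace ^ 4 - 3 * B.1.trace ^ 2 + 1 = 0 := by
    rcases h5' with h | h
    · apply nonscalar B hB1 hB2 _ (1 + (B.1.trace ^ 3 - 2 * B.1.trace))
      rw [h] at hc
      linear_combination (norm := module) -hc
    · apply nonscalar B hB1 hB2 _ (-1 + (B.1.trace ^ 3 - 2 * B.1.trace))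
      rw [h] at hc
      linear_combination (norm := module) -hc
  rcases roots5 _ ht with h | h | h | h
  · exact ⟨B, Or.inl h, rfl⟩
  · exact ⟨B, Or.inr h, rfl⟩
  · refine ⟨-B, Or.inr ?_, psi_neg e B⟩
    rw [Matrix.SpecialLinearGroup.coe_neg, Matrix.trace_neg, h]
  · refine ⟨-B, Or.inl ?_, psi_neg e B⟩
    rw [Matrix.SpecialLinearGroup.coe_neg, Matrix.trace_neg, h]

theorem tr0 (X : S) (h2 : psi e X ^ 2 = 1) (h1 : psi e X ≠ 1) : X.1.trace = 0 := by
  obtain ⟨hX1, hX2⟩ := ne_pm_one e X h1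
  rw [← map_pow, psi_eq_one_iff, Matrix.SpecialLinearGroup.coe_pow] at h2
  have hc := ch X
  have h2' : X.1 * X.1 = 1 ∨ X.1 * X.1 = -1 := by
    simpa [pow_succ] using h2
  rcases h2' with h | h
  · apply nonscalar X hX1 hX2 _ 2
    rw [h] at hc
    linear_combination (norm := module) -hc
  · apply nonscalar X hX1 hX2 _ 0
    rw [h] at hc
    linear_combination (norm := module) -hc

end psi


section main

open Cfsg.Agent.H9.A5CntA

variable {F : Type*} [Field F] (e : T ≃+* F)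

local notation "G" => Matrix.ProjectiveSpecialLinearGroup (Fin 2) F

/-- tuples to pairs -/
def f (x : Σ _ : T × T × T, (T × T × T) × T) : G × G := (psi e (matA x.1), psi e (matB x.2))

theorem trace_one_T : (1 : Matrix (Fin 2) (Fin 2) T).trace = 2 := by
  rw [Matrix.trace_fin_two]
  simp
  norm_num

theorem f_mem [Fintype G] [DecidableEq G] (x : Σ _ : T × T × T, (T × T × T) × T) (hx : x ∈ Q) :
    f e x ∈ pairs G := by
  rw [mem_Q] at hx
  obtain ⟨hp, hq⟩ := hx
  rw [mem_pairs]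
  have htA := matA_trace x.1 hp
  have htB := matB_trace x.1 x.2 hq
  have htAB := matAB_trace x.1 hp x.2 hq
  refine ⟨?_, ?_, ?_, ?_⟩
  · show psi e (matA x.1) ^ 3 = 1
    rw [← map_pow, psi_eq_one_iff, Matrix.SpecialLinearGroup.coe_pow]
    right
    have hc := cube_formula (matA x.1)
    rw [htA] at hc
    have h3 : (matA x.1).1 ^ 3 = (matA x.1).1 * (matA x.1).1 * (matA x.1).1 := by
      simp [pow_succ]
    rw [h3, hc]
    simp
  · show psi e (matB x.2) ^ 5 = 1
    have hτ : x.2.2 ^ 2 + x.2.2 - 1 = 0 := by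
      rcases ((mem_Q2 x.1 x.2).1 hq).1 with h | h <;> rw [h] <;> decide
    rw [← map_pow, Cfsg.Agent.H9.A5inPSL2.pow_five_of_trace (matB x.2) x.2.2 hτ htB, map_one]
  · show (psi e (matA x.1) * psi e (matB x.2)) ^ 2 = 1
    rw [← map_mul, ← map_pow, psi_eq_one_iff, Matrix.SpecialLinearGroup.coe_pow,
      Matrix.SpecialLinearGroup.coe_mul]
    right
    have hc := ch (matA x.1 * matB x.2)
    rw [Matrix.SpecialLinearGroup.coe_mul, htAB] at hc
    rw [pow_two, hc]
    simp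
  · show psi e (matA x.1) ≠ 1
    intro h
    rw [psi_eq_one_iff] at h
    rcases h with h | h
    · rw [h, trace_one_T] at htA
      revert htA
      decide
    · rw [h, Matrix.trace_neg, trace_one_T] at htA
      revert htA
      decide

theorem f_inj : Set.InjOn (f e) (Q : Set (Σ _ : T × T × T, (T × T × T) × T)) := by
  rintro ⟨p, q⟩ hx ⟨p', q'⟩ hx' h
  rw [Finset.mem_coe, mem_Q] at hx hx'
  obtain ⟨hp, hq⟩ := hx
  obtain ⟨hp', hq'⟩ := hx'
  simp only at hp hq hp' hq'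
  have h1 : psi e (matA p) = psi e (matA p') := congrArg Prod.fst h
  have h2 : psi e (matB q) = psi e (matB q') := congrArg Prod.snd h
  rw [psi_eq_iff] at h1 h2
  have hpp : p = p' := by
    rcases h1 with h1 | h1
    · rw [matA_coe p hp, matA_coe p' hp'] at h1
      obtain ⟨a, b, c, -⟩ := mat_inj h1
      exact Prod.ext a (Prod.ext b c)
    · exfalso
      have := congrArg Matrix.trace h1
      rw [Matrix.trace_neg, matA_trace p hp, matA_trace p' hp'] at this
      revert this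
      decide
  subst hpp
  have hqq : q = q' := by
    rcases h2 with h2 | h2
    · rw [matB_coe p q hq, matB_coe p q' hq'] at h2
      obtain ⟨a, b, c, d⟩ := mat_inj h2
      refine Prod.ext (Prod.ext a (Prod.ext b c)) ?_
      linear_combination d + a
    · exfalso
      have := congrArg Matrix.trace h2
      rw [Matrix.trace_neg, matB_trace p q hq, matB_trace p q' hq'] at this
      have t1 := ((mem_Q2 p q).1 hq).1
      have t2 := ((mem_Q2 p q').1 hq').1
      rcases t1 with t1 | t1 <;> rcases t2 with t2 | t2 <;> rw [t1, t2] at this <;>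
        revert this <;> decide
  subst hqq
  rfl

theorem f_surj [Fintype G] [DecidableEq G] (y : G × G) (hy : y ∈ pairs G) :
    ∃ x ∈ Q, f e x = y := by
  rw [mem_pairs] at hy
  obtain ⟨h3, h5, h2, h1⟩ := hy
  have hb1 : y.2 ≠ 1 := by
    intro h
    rw [h, mul_one] at h2
    apply h1
    calc y.1 = y.1 ^ 3 * (y.1 ^ 2)⁻¹ := by group
      _ = 1 := by rw [h3, h2]; simp
  have hab1 : y.1 * y.2 ≠ 1 := by
    intro h
    have hb : y.2 = y.1⁻¹ := eq_inv_of_mul_eq_one_right h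
    rw [hb] at h5
    apply h1
    calc y.1 = (y.1 ^ 3) ^ 2 * (y.1⁻¹) ^ 5 := by group
      _ = 1 := by rw [h3, h5]; simp
  obtain ⟨A, hA, hAg⟩ := lift3 e y.1 h3 h1
  obtain ⟨B, hB, hBg⟩ := lift5 e y.2 h5 hb1
  have hAB : (A.1 * B.1).trace = 0 := by
    rw [← Matrix.SpecialLinearGroup.coe_mul]
    apply tr0 e
    · rw [map_mul, hAg, hBg]; exact h2
    · rw [map_mul, hAg, hBg]; exact hab1
  obtain ⟨p, hp, rfl⟩ := exists_tuple_A A hA
  obtain ⟨q, hq, rfl⟩ := exists_tuple_B p hp B hB hAB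
  exact ⟨⟨p, q⟩, (mem_Q _).2 ⟨hp, hq⟩, Prod.ext hAg hBg⟩

include e in
theorem pairs_card [Fintype G] [DecidableEq G] : (pairs G).card = 2640 := by
  have himg : pairs G = Q.image (f e) := by
    ext y
    rw [Finset.mem_image]
    constructor
    · intro hy
      exact f_surj e y hy
    · rintro ⟨x, hx, rfl⟩
      exact f_mem e x hx
  rw [himg, Finset.card_image_of_injOn (f_inj e), Q_card]

end main

end Cfsg.Agent.H9.A5CntB
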