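import Mathlib

set_option autoImplicit false

/-!
Subgroups of order `2520` of `GL₄(F)`, `F` a field with two elements, are transitive on ordered pairs of distinct
non-zero vectors.  The argument uses orders only: the stabiliser of such a pair in `GL₄(F)` has order `96`, so
in a subgroup `H` of order `2520` it has order dividing `24`, and every `H`-orbit on the `210` pairs has
`105` or `210` elements; an involution of `H` exchanges some `v ≠ w`, and then the orbit of `(v, w)` is closed under
exchanging the two components, hence of even size.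
-/

namespace Cfsg.Agent.H9.A7GL4

open Matrix

variable {F : Type*} [Field F]

theorem inv_mv (g : GL (Fin 4) F) (x : Fin 4 → F) :
    ((g⁻¹ : GL (Fin 4) F) : Matrix (Fin 4) (Fin 4) F) *ᵥ ((g : Matrix (Fin 4) (Fin 4) F) *ᵥ x) = x := by
  rw [Matrix.mulVec_mulVec, ← Units.val_mul, inv_mul_cancel, Units.val_one, Matrix.one_mulVec]

theorem mv_inj (g : GL (Fin 4) F) {x y : Fin 4 → F}
    (h : (g : Matrix (Fin 4) (Fin 4) F) *ᵥ x = (g : Matrix (Fin 4) (Fin 4) F) *ᵥ y) : x = y := by
  rw [← inv_mv g x, h, inv_mv]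

theorem mv_ne_zero (g : GL (Fin 4) F) {x : Fin 4 → F} (h : x ≠ 0) :
    (g : Matrix (Fin 4) (Fin 4) F) *ᵥ x ≠ 0 := fun h' =>
  h (mv_inj g (h'.trans (Matrix.mulVec_zero _).symm))

/-- Ordered pairs of distinct non-zero vectors. -/
def Pairs (F : Type*) [Field F] : Type _ :=
  {p : (Fin 4 → F) × (Fin 4 → F) // p.1 ≠ 0 ∧ p.2 ≠ 0 ∧ p.1 ≠ p.2}

/-- The action on pairs. -/
def actP (g : GL (Fin 4) F) (p : Pairs F) : Pairs F :=
  ⟨((g : Matrix (Fin 4) (Fin 4) F) *ᵥ p.1.1, (g : Matrix (Fin 4) (Fin 4) F) *ᵥ p.1.2),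
    mv_ne_zero g p.2.1, mv_ne_zero g p.2.2.1, fun h => p.2.2.2 (mv_inj g h)⟩

instance instActP : MulAction (GL (Fin 4) F) (Pairs F) where
  smul := actP
  one_smul p := by
    apply Subtype.ext
    show ((((1 : GL (Fin 4) F) : Matrix (Fin 4) (Fin 4) F) *ᵥ p.1.1,
      ((1 : GL (Fin 4) F) : Matrix (Fin 4) (Fin 4) F) *ᵥ p.1.2) : (Fin 4 → F) × (Fin 4 → F)) = p.1
    rw [Units.val_one, Matrix.one_mulVec, Matrix.one_mulVec]
  mul_smul g h p := by
    apply Subtype.ext
    show ((((g * h : GL (Fin 4) F) : Matrix (Fin 4) (Fin 4) F) *ᵥ p.1.1,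
      ((g * h : GL (Fin 4) F) : Matrix (Fin 4) (Fin 4) F) *ᵥ p.1.2) : (Fin 4 → F) × (Fin 4 → F)) =
      ((g : Matrix (Fin 4) (Fin 4) F) *ᵥ ((h : Matrix (Fin 4) (Fin 4) F) *ᵥ p.1.1),
        (g : Matrix (Fin 4) (Fin 4) F) *ᵥ ((h : Matrix (Fin 4) (Fin 4) F) *ᵥ p.1.2))
    rw [Units.val_mul, Matrix.mulVec_mulVec, Matrix.mulVec_mulVec]

theorem smul_fst (g : GL (Fin 4) F) (p : Pairs F) :
    (g • p).1.1 = (g : Matrix (Fin 4) (Fin 4) F) *ᵥ p.1.1 := rfl

theorem smul_snd (g : GL (Fin 4) F) (p : Pairs F) :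
    (g • p).1.2 = (g : Matrix (Fin 4) (Fin 4) F) *ᵥ p.1.2 := rfl

/-- Exchange the components. -/
def swapP (p : Pairs F) : Pairs F := ⟨(p.1.2, p.1.1), p.2.2.1, p.2.1, fun h => p.2.2.2 h.symm⟩

theorem swapP_swapP (p : Pairs F) : swapP (swapP p) = p := rfl

theorem swapP_ne (p : Pairs F) : swapP p ≠ p := fun h =>
  p.2.2.2 (congrArg (fun q : Pairs F => q.1.2) h)

theorem swapP_smul (g : GL (Fin 4) F) (p : Pairs F) : swapP (g • p) = g • swapP p := rfl

section card

variable [Fintype F]

theorem eq_zero_or_one (hF : Fintype.card F = 2) (a : F) : a = 0 ∨ a = 1 := by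
  classical
  by_contra h
  push Not at h
  have h3 : ({0, 1, a} : Finset F).card = 3 := by
    rw [Finset.card_insert_of_notMem, Finset.card_insert_of_notMem, Finset.card_singleton]
    · simpa using h.2.symm
    · simp only [Finset.mem_insert, Finset.mem_singleton, not_or]
      exact ⟨zero_ne_one, h.1.symm⟩
  have := Finset.card_le_univ ({0, 1, a} : Finset F)
  omega

theorem add_self (hF : Fintype.card F = 2) (a : F) : a + a = 0 := by
  have h2 : (1 : F) + 1 = 0 := by
    rcases eq_zero_or_one hF ((1 : F) + 1) with h | h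
    · exact h
    · exfalso
      have : (1 : F) = 0 := by linear_combination h
      exact one_ne_zero this
  linear_combination a * h2

instance : Finite (Pairs F) := by
  unfold Pairs
  infer_instance

theorem card_pairs (hF : Fintype.card F = 2) : Nat.card (Pairs F) = 210 := by
  classical
  have e : Pairs F ≃ ↥(((Finset.univ : Finset (Fin 4 → F)).erase 0).offDiag) :=
    Equiv.subtypeEquivRight (fun p => by
      rw [Finset.mem_offDiag, Finset.mem_erase, Finset.mem_erase]
      simp)
  rw [Nat.card_congr e, Nat.card_eq_fintype_card, Fintype.card_coe, Finset.offDiag_card,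
    Finset.card_erase_of_mem (Finset.mem_univ _), Finset.card_univ, Fintype.card_fun, hF]
  simp

theorem card_GL (hF : Fintype.card F = 2) : Nat.card (GL (Fin 4) F) = 20160 := by
  rw [Matrix.card_GL_field, hF]
  simp [Fin.prod_univ_succ]

theorem linearIndependent_pair (hF : Fintype.card F = 2) (p : Pairs F) :
    LinearIndependent F ![p.1.1, p.1.2] := by
  rw [LinearIndependent.pair_iff]
  intro s t h
  rcases eq_zero_or_one hF s with rfl | rfl <;> rcases eq_zero_or_one hF t with rfl | rfl
  · exact ⟨rfl, rfl⟩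
  · exfalso
    rw [zero_smul, zero_add, one_smul] at h
    exact p.2.2.1 h
  · exfalso
    rw [zero_smul, add_zero, one_smul] at h
    exact p.2.1 h
  · exfalso
    rw [one_smul, one_smul] at h
    apply p.2.2.2
    have h2 : p.1.2 + p.1.2 = 0 := by
      funext i
      exact add_self hF _
    have : p.1.1 = p.1.1 + (p.1.2 + p.1.2) := by rw [h2, add_zero]
    rw [this, ← add_assoc, h, zero_add]

theorem exists_gl (hF : Fintype.card F = 2) (p : Pairs F) :
    ∃ g : GL (Fin 4) F, (g : Matrix (Fin 4) (Fin 4) F) *ᵥ (Pi.single 2 1) = p.1.1 ∧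
      (g : Matrix (Fin 4) (Fin 4) F) *ᵥ (Pi.single 3 1) = p.1.2 := by
  have h0 := linearIndependent_pair hF p
  have hfr : Module.finrank F (Fin 4 → F) = 4 := Module.finrank_fin_fun F
  obtain ⟨x, hx⟩ := exists_linearIndependent_cons_of_lt_finrank h0 (by rw [hfr]; norm_num)
  obtain ⟨y, hy⟩ := exists_linearIndependent_cons_of_lt_finrank hx (by rw [hfr]; norm_num)
  have hy' : LinearIndependent F (![y, x, p.1.1, p.1.2] : Fin 4 → (Fin 4 → F)) := hy
  let b : Module.Basis (Fin 4) F (Fin 4 → F) :=
    basisOfLinearIndependentOfCardEqFinrank hy' (by rw [hfr]; simp)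
  have hb : ∀ i, b i = (![y, x, p.1.1, p.1.2] : Fin 4 → (Fin 4 → F)) i := by
    intro i
    simp only [b, coe_basisOfLinearIndependentOfCardEqFinrank]
  let e : (Fin 4 → F) ≃ₗ[F] (Fin 4 → F) := (Pi.basisFun F (Fin 4)).equiv b (Equiv.refl _)
  have he : ∀ i, e (Pi.single i 1) = b i := by
    intro i
    have := (Pi.basisFun F (Fin 4)).equiv_apply (b' := b) i (Equiv.refl _)
    rw [Pi.basisFun_apply] at this
    exact this
  let g : GL (Fin 4) F := Matrix.GeneralLinearGroup.mkOfDetNeZero (LinearMap.toMatrix' e.toLinearMap)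
    (by rw [LinearMap.det_toMatrix']; exact (LinearEquiv.isUnit_det' e).ne_zero)
  have hg : ∀ z, (g : Matrix (Fin 4) (Fin 4) F) *ᵥ z = e z := by
    intro z
    show (LinearMap.toMatrix' e.toLinearMap) *ᵥ z = e z
    rw [← Matrix.toLin'_apply, Matrix.toLin'_toMatrix']
    rfl
  refine ⟨g, ?_, ?_⟩
  · rw [hg, he, hb]; rfl
  · rw [hg, he, hb]; rfl

theorem isPretransitive (hF : Fintype.card F = 2) :
    MulAction.IsPretransitive (GL (Fin 4) F) (Pairs F) := by
  constructor
  intro p q
  obtain ⟨gp, hp1, hp2⟩ := exists_gl hF p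
  obtain ⟨gq, hq1, hq2⟩ := exists_gl hF q
  refine ⟨gq * gp⁻¹, ?_⟩
  apply Subtype.ext
  apply Prod.ext
  · rw [smul_fst, Units.val_mul, ← Matrix.mulVec_mulVec, ← hp1, inv_mv, hq1]
  · rw [smul_snd, Units.val_mul, ← Matrix.mulVec_mulVec, ← hp2, inv_mv, hq2]

theorem card_stabilizer (hF : Fintype.card F = 2) (p : Pairs F) :
    Nat.card (MulAction.stabilizer (GL (Fin 4) F) p) = 96 := by
  have := isPretransitive hF
  have h1 := Nat.card_congr (MulAction.orbitProdStabilizerEquivGroup (GL (Fin 4) F) p)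
  rw [Nat.card_prod, card_GL hF, MulAction.orbit_eq_univ, Nat.card_congr (Equiv.Set.univ _),
    card_pairs hF] at h1
  omega

theorem card_stabilizer_dvd (hF : Fintype.card F = 2) (H : Subgroup (GL (Fin 4) F))
    (hH : Nat.card H = 2520) (p : Pairs F) : Nat.card (MulAction.stabilizer H p) ∣ 24 := by
  have h1 : Nat.card (MulAction.stabilizer H p) ∣ 2520 := hH ▸ Subgroup.card_subgroup_dvd_card _
  have h2 : Nat.card (MulAction.stabilizer H p) ∣ 96 := by
    rw [← card_stabilizer hF p]
    let φ : MulAction.stabilizer H p →* MulAction.stabilizer (GL (Fin 4) F) p :=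
      { toFun := fun x => ⟨x.1.1, by
          have := x.2
          rw [MulAction.mem_stabilizer_iff] at this ⊢
          exact this⟩
        map_one' := rfl
        map_mul' := fun _ _ => rfl }
    apply Subgroup.card_dvd_of_injective φ
    intro x y hxy
    apply Subtype.ext
    apply Subtype.ext
    exact congrArg (fun z : MulAction.stabilizer (GL (Fin 4) F) p => (z : GL (Fin 4) F)) hxy
  have := Nat.dvd_gcd h1 h2
  norm_num at this
  exact this

theorem card_orbit (hF : Fintype.card F = 2) (H : Subgroup (GL (Fin 4) F))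
    (hH : Nat.card H = 2520) (p : Pairs F) :
    Nat.card (MulAction.orbit H p) = 105 ∨ Nat.card (MulAction.orbit H p) = 210 := by
  have h1 := Nat.card_congr (MulAction.orbitProdStabilizerEquivGroup H p)
  rw [Nat.card_prod, hH] at h1
  obtain ⟨m, hm⟩ := card_stabilizer_dvd hF H hH p
  have hle : Nat.card (MulAction.orbit H p) ≤ 210 := by
    rw [← card_pairs hF]
    exact Nat.card_le_card_of_injective Subtype.val Subtype.val_injective
  have h2 : Nat.card (MulAction.orbit H p) * 24 = 2520 * m := by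
    rw [hm, ← mul_assoc, h1]
  have hm0 : m ≠ 0 := by
    rintro rfl
    simp at hm
  have hm2 : m ≤ 2 := by omega
  interval_cases m <;> omega

omit [Fintype F] in
theorem exists_moved (g : GL (Fin 4) F) (hg : g ≠ 1) :
    ∃ v : Fin 4 → F, (g : Matrix (Fin 4) (Fin 4) F) *ᵥ v ≠ v := by
  by_contra h
  push Not at h
  apply hg
  apply Units.ext
  apply Matrix.toLin'.injective
  apply LinearMap.ext
  intro v
  rw [Matrix.toLin'_apply, h v, Units.val_one, Matrix.toLin'_one]
  rfl

theorem isPretransitive_of_card (hF : Fintype.card F = 2) (H : Subgroup (GL (Fin 4) F))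
    (hH : Nat.card H = 2520) : MulAction.IsPretransitive H (Pairs F) := by
  by_cases hex : ∃ p : Pairs F, Nat.card (MulAction.orbit H p) = 210
  · obtain ⟨p, hp⟩ := hex
    have huniv : MulAction.orbit H p = Set.univ := by
      rw [Set.eq_univ_iff_ncard, ← Nat.card_coe_set_eq, hp, card_pairs hF]
    constructor
    intro q q'
    have hq : q ∈ MulAction.orbit H p := huniv ▸ Set.mem_univ q
    have hq' : q' ∈ MulAction.orbit H p := huniv ▸ Set.mem_univ q'
    obtain ⟨a, rfl⟩ := hq
    obtain ⟨b, rfl⟩ := hq'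
    refine ⟨b * a⁻¹, ?_⟩
    rw [mul_smul, inv_smul_smul]
  · exfalso
    push Not at hex
    have h105 : ∀ p : Pairs F, Nat.card (MulAction.orbit H p) = 105 := fun p =>
      (card_orbit hF H hH p).resolve_right (hex p)
    have : Finite H := Nat.finite_of_card_ne_zero (by rw [hH]; norm_num)
    have : Fact (Nat.Prime 2) := ⟨Nat.prime_two⟩
    obtain ⟨t, ht⟩ := exists_prime_orderOf_dvd_card' (G := H) 2 (by rw [hH]; norm_num)
    have ht1 : (t : GL (Fin 4) F) ≠ 1 := by
      intro h
      have : t = 1 := Subtype.ext h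
      rw [this, orderOf_one] at ht
      norm_num at ht
    have ht2 : (t : GL (Fin 4) F) * (t : GL (Fin 4) F) = 1 := by
      have : t ^ 2 = 1 := ht ▸ pow_orderOf_eq_one t
      rw [pow_two] at this
      exact congrArg Subtype.val this
    obtain ⟨v, hv⟩ := exists_moved (t : GL (Fin 4) F) ht1
    have hv0 : v ≠ 0 := by
      rintro rfl
      exact hv (Matrix.mulVec_zero _)
    have htw : ((t : GL (Fin 4) F) : Matrix (Fin 4) (Fin 4) F) *ᵥ
        (((t : GL (Fin 4) F) : Matrix (Fin 4) (Fin 4) F) *ᵥ v) = v := by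
      rw [Matrix.mulVec_mulVec, ← Units.val_mul, ht2, Units.val_one, Matrix.one_mulVec]
    let p : Pairs F := ⟨(v, ((t : GL (Fin 4) F) : Matrix (Fin 4) (Fin 4) F) *ᵥ v), hv0,
      mv_ne_zero _ hv0, fun h => hv h.symm⟩
    have htp : t • p = swapP p := by
      apply Subtype.ext
      apply Prod.ext
      · rfl
      · exact htw
    -- the orbit of `p` is closed under `swapP`
    have hclosed : ∀ q ∈ MulAction.orbit H p, swapP q ∈ MulAction.orbit H p := by
      rintro q ⟨a, rfl⟩
      refine ⟨a * t, ?_⟩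
      show (a * t) • p = swapP (a • p)
      rw [mul_smul, htp]
      rfl
    classical
    haveI : Fintype (MulAction.orbit H p) := Fintype.ofFinite _
    let σ : Equiv.Perm (MulAction.orbit H p) :=
      Function.Involutive.toPerm (fun q => ⟨swapP q.1, hclosed q.1 q.2⟩) (fun q => Subtype.ext rfl)
    have hσ2 : σ ^ 2 = 1 := by
      ext q
      rfl
    have hsupp : σ.support = Finset.univ := by
      ext q
      simp only [Equiv.Perm.mem_support, Finset.mem_univ, iff_true]
      intro h
      exact swapP_ne q.1 (congrArg Subtype.val h)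
    have h2 := Equiv.Perm.two_dvd_card_support hσ2
    rw [hsupp, Finset.card_univ, ← Nat.card_eq_fintype_card, h105 p] at h2
    norm_num at h2

end card

end Cfsg.Agent.H9.A7GL4
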