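import Mathlib
import Cfsg.Agent.Lib.Helper7.GL42A

set_option autoImplicit false

/-!
`GL₄(F)`, `F` a field with two elements, has a subgroup isomorphic to the alternating group of degree `7`
(through `GL₄(2) ≅ A₈`).
-/

namespace Cfsg.Agent.H9.A7GL4

open Matrix

/-- `A₇ → A₈`. -/
noncomputable def altSevenHom : alternatingGroup (Fin 7) →* alternatingGroup (Fin 8) :=
  ((Equiv.Perm.viaEmbeddingHom (Fin.castSuccEmb (n := 7))).comp
    (alternatingGroup (Fin 7)).subtype).codRestrict (alternatingGroup (Fin 8)) (fun x => by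
      rw [Equiv.Perm.mem_alternatingGroup]
      show Equiv.Perm.sign (Equiv.Perm.viaEmbedding x.1 (Fin.castSuccEmb (n := 7))) = 1
      unfold Equiv.Perm.viaEmbedding
      rw [Equiv.Perm.sign_extendDomain]
      exact Equiv.Perm.mem_alternatingGroup.1 x.2)

theorem altSevenHom_injective : Function.Injective altSevenHom := by
  intro x y h
  have h' := congrArg Subtype.val h
  apply Subtype.ext
  exact Equiv.Perm.viaEmbeddingHom_injective (Fin.castSuccEmb (n := 7)) h'

theorem exists_mulEquiv_GL_A8 :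
    Nonempty (GL (Fin 4) (ZMod 2) ≃* alternatingGroup (Fin 8)) := by
  obtain ⟨f, hf⟩ := Cfsg.Agent.Lib.Helper7.GL42.exists_injective_GL_A8
  have hc1 : Nat.card (GL (Fin 4) (ZMod 2)) = 20160 := by
    rw [Matrix.card_GL_field]
    simp [Fin.prod_univ_succ]
  have hc2 : Nat.card (alternatingGroup (Fin 8)) = 20160 := by
    rw [nat_card_alternatingGroup]
    simp [Nat.factorial]
  have hbij : Function.Bijective f := by
    rw [Nat.bijective_iff_injective_and_card]
    exact ⟨hf, by rw [hc1, hc2]⟩
  exact ⟨MulEquiv.ofBijective f hbij⟩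

theorem exists_subgroup {F : Type*} [Field F] [Fintype F] (hF : Fintype.card F = 2) :
    ∃ H : Subgroup (GL (Fin 4) F), Nonempty (H ≃* alternatingGroup (Fin 7)) := by
  obtain ⟨e8⟩ := exists_mulEquiv_GL_A8
  let r : ZMod 2 ≃+* F := ZMod.ringEquivOfPrime F Nat.prime_two hF
  let eG : GL (Fin 4) (ZMod 2) ≃* GL (Fin 4) F := Units.mapEquiv (RingEquiv.mapMatrix r).toMulEquiv
  let Φ : alternatingGroup (Fin 7) →* GL (Fin 4) F :=
    (eG.toMonoidHom.comp e8.symm.toMonoidHom).comp altSevenHom
  have hΦ : Function.Injective Φ := by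
    intro x y h
    exact altSevenHom_injective (e8.symm.injective (eG.injective h))
  exact ⟨Φ.range, ⟨(MonoidHom.ofInjective hΦ).symm⟩⟩

end Cfsg.Agent.H9.A7GL4
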