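import Mathlib
import Cfsg.Prelude.Def_ClassicalGeometry

set_option autoImplicit false

namespace Cfsg.Agent.H9.Adj

open Matrix

universe u
variable {F : Type u} [Field F]

/-- the index type of the three-dimensional orthogonal space -/
abbrev I3 : Type := Unit ⊕ (Fin 1 ⊕ Fin 1)

/-- raw adjoint matrix (without the factor `1/det`): the matrix of `M ↦ A M adj(A)` on trace-zero matrices -/
def Rraw (A : Matrix (Fin 2) (Fin 2) F) : Matrix I3 I3 F := Matrix.of fun i j =>
  match i, j with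
  | .inl _, .inl _ => A 0 0 * A 1 1 + A 0 1 * A 1 0
  | .inl _, .inr (.inl _) => -(A 0 0 * A 1 0)
  | .inl _, .inr (.inr _) => A 0 1 * A 1 1
  | .inr (.inl _), .inl _ => -(2 * A 0 0 * A 0 1)
  | .inr (.inl _), .inr (.inl _) => A 0 0 ^ 2
  | .inr (.inl _), .inr (.inr _) => -(A 0 1 ^ 2)
  | .inr (.inr _), .inl _ => 2 * A 1 0 * A 1 1
  | .inr (.inr _), .inr (.inl _) => -(A 1 0 ^ 2)
  | .inr (.inr _), .inr (.inr _) => A 1 1 ^ 2

theorem Rraw_one : Rraw (1 : Matrix (Fin 2) (Fin 2) F) = 1 := by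
  ext i j
  rcases i with ⟨⟩ | i | i <;> rcases j with ⟨⟩ | j | j <;>
    simp [Rraw, Matrix.one_apply] <;> exact Subsingleton.elim _ _

theorem Rraw_mul (A B : Matrix (Fin 2) (Fin 2) F) : Rraw (A * B) = Rraw A * Rraw B := by
  ext i j
  rcases i with ⟨⟩ | i | i <;> rcases j with ⟨⟩ | j | j <;>
    simp [Rraw, Matrix.mul_apply, Fintype.sum_sum_type, Fin.sum_univ_two] <;> ring

/-- reindexing -/
def e3 : Fin 3 ≃ I3 where
  toFun i := match i with
    | 0 => .inl ()
    | 1 => .inr (.inl 0)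
    | 2 => .inr (.inr 0)
  invFun j := match j with
    | .inl _ => 0
    | .inr (.inl _) => 1
    | .inr (.inr _) => 2
  left_inv := by intro i; fin_cases i <;> rfl
  right_inv := by
    rintro (⟨⟩ | j | j)
    · rfl
    · have : j = 0 := Subsingleton.elim _ _
      subst this; rfl
    · have : j = 0 := Subsingleton.elim _ _
      subst this; rfl

theorem det_Rraw (A : Matrix (Fin 2) (Fin 2) F) : (Rraw A).det = A.det ^ 3 := by
  rw [← Matrix.det_submatrix_equiv_self e3 (Rraw A), Matrix.det_fin_three, Matrix.det_fin_two]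
  simp [Rraw, e3]
  ring

theorem card_I3 : Fintype.card I3 = 3 := by
  simp

/-- the quadratic form -/
def Q3 (v : I3 → F) : F := v (.inl ()) ^ 2 + v (.inr (.inl 0)) * v (.inr (.inr 0))

theorem Q3_Rraw (A : Matrix (Fin 2) (Fin 2) F) (v : I3 → F) :
    Q3 (Rraw A *ᵥ v) = A.det ^ 2 * Q3 v := by
  simp [Q3, Rraw, Matrix.mulVec, dotProduct, Fintype.sum_sum_type, Matrix.det_fin_two]
  ring

theorem Q3_smul (c : F) (v : I3 → F) : Q3 (c • v) = c ^ 2 * Q3 v := by
  simp [Q3]
  ring



theorem quadFormOdd_eq (v : I3 → F) : Cfsg.quadFormOdd 1 F v = Q3 v := by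
  simp [Cfsg.quadFormOdd, Q3]

/-- the adjoint representation as a monoid hom to matrices -/
noncomputable def Rmat : GL (Fin 2) F →* Matrix I3 I3 F where
  toFun g := (g.1.det)⁻¹ • Rraw g.1
  map_one' := by simp [Rraw_one]
  map_mul' g h := by
    simp only [Units.val_mul, Rraw_mul, Matrix.det_mul, mul_inv, Matrix.smul_mul, Matrix.mul_smul,
      smul_smul]
    rw [mul_comm]

theorem Rmat_apply (g : GL (Fin 2) F) : Rmat g = (g.1.det)⁻¹ • Rraw g.1 := rfl

/-- into `GL₃` -/
noncomputable def R0 : GL (Fin 2) F →* GL I3 F := Rmat.toHomUnits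

theorem R0_val (g : GL (Fin 2) F) : (R0 g).1 = (g.1.det)⁻¹ • Rraw g.1 := rfl

theorem det_ne_zero (g : GL (Fin 2) F) : g.1.det ≠ 0 := by
  have := Matrix.GeneralLinearGroup.det g
  exact (Matrix.isUnit_iff_isUnit_det g.1 |>.1 g.isUnit).ne_zero

theorem R0_mem (g : GL (Fin 2) F) : R0 g ∈ Cfsg.isometryGroup F (Cfsg.quadFormOdd 1 F) := by
  intro u _
  change Cfsg.quadFormOdd 1 F ((R0 g).1 *ᵥ u) = Cfsg.quadFormOdd 1 F u
  rw [quadFormOdd_eq, quadFormOdd_eq, R0_val, Matrix.smul_mulVec, Q3_smul, Q3_Rraw]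
  have := det_ne_zero g
  field_simp

theorem det_R0 (g : GL (Fin 2) F) : (R0 g).1.det = 1 := by
  rw [R0_val, Matrix.det_smul, det_Rraw, card_I3]
  have := det_ne_zero g
  field_simp

/-- the adjoint representation into the orthogonal group -/
noncomputable def RO : GL (Fin 2) F →* Cfsg.isometryGroup F (Cfsg.quadFormOdd 1 F) :=
  R0.codRestrict _ R0_mem

theorem RO_val (g : GL (Fin 2) F) : (RO g).1 = R0 g := rfl



theorem RO_eq_one_iff (g : GL (Fin 2) F) : RO g = 1 ↔ g ∈ Subgroup.center (GL (Fin 2) F) := by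
  rw [Matrix.GeneralLinearGroup.mem_center_iff_val_mem_range_scalar]
  have hd := det_ne_zero g
  constructor
  · intro h
    have h1 : (R0 g).1 = 1 := by
      have := congrArg (fun x : Cfsg.isometryGroup F (Cfsg.quadFormOdd 1 F) => (x.1.1 : Matrix I3 I3 F)) h
      exact this
    rw [R0_val] at h1
    have hb : g.1 0 1 = 0 := by
      have := congrFun (congrFun h1 (.inr (.inl 0))) (.inr (.inr 0))
      simp [Rraw, hd] at this
      exact this
    have hc : g.1 1 0 = 0 := by
      have := congrFun (congrFun h1 (.inr (.inr 0))) (.inr (.inl 0))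
      simp [Rraw, hd] at this
      exact this
    have ha : (g.1.det)⁻¹ * g.1 0 0 ^ 2 = 1 := by
      have := congrFun (congrFun h1 (.inr (.inl 0))) (.inr (.inl 0))
      simpa [Rraw] using this
    have hdet : g.1.det = g.1 0 0 * g.1 1 1 := by
      rw [Matrix.det_fin_two, hb, hc]; ring
    have ha0 : g.1 0 0 ≠ 0 := by
      intro h0
      rw [h0] at ha
      simp at ha
    have had : g.1 0 0 = g.1 1 1 := by
      have h2 : g.1.det = g.1 0 0 ^ 2 := (inv_mul_eq_one₀ hd).1 ha
      rw [hdet] at h2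
      have : g.1 0 0 * (g.1 0 0 - g.1 1 1) = 0 := by linear_combination -h2
      rcases mul_eq_zero.1 this with h | h
      · exact absurd h ha0
      · exact sub_eq_zero.1 h
    refine ⟨g.1 0 0, ?_⟩
    ext i j
    fin_cases i <;> fin_cases j <;> simp [hb, hc, had]
  · rintro ⟨a, ha⟩
    apply Subtype.ext
    apply Units.ext
    change (R0 g).1 = 1
    rw [R0_val, ← ha]
    have ha0 : a ≠ 0 := by
      rintro rfl
      rw [← ha] at hd
      simp at hd
    ext i j
    rcases i with ⟨⟩ | i | i <;> rcases j with ⟨⟩ | j | j <;>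
      simp [Rraw, Matrix.one_apply]
    all_goals first | (rw [if_pos (Subsingleton.elim _ _)]; field_simp) | (field_simp)

end Cfsg.Agent.H9.Adj
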