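import Mathlib
import Cfsg.Agent.H9.KleinPSL2
import Cfsg.Agent.S0265
import Cfsg.Agent.S0242

set_option autoImplicit false

/-! Subfield subgroups of `PSL₂(F)`. -/

namespace Cfsg.Agent.H9.SubfieldPSL2

open Matrix
open Cfsg.Agent.H9.AutPSL2 (pr pr_eq_iff pr_surjective mem_center_iff')
open Cfsg.Agent.H9.KleinPSL2

section embed

variable {F K : Type*} [Field F] [Fintype F] [Field K] [Fintype K]

/-- a subfield embedding -/
theorem exists_ringHom (m : ℕ) (hm : 1 ≤ m) (hK : Fintype.card K ^ m = Fintype.card F) :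
    Nonempty (K →+* F) := by
  obtain ⟨p, hpF⟩ := CharP.exists F
  obtain ⟨p', hpK⟩ := CharP.exists K
  obtain ⟨n, hp, hn⟩ := FiniteField.card F p
  obtain ⟨k, hp', hk⟩ := FiniteField.card K p'
  have hpp : p' = p := by
    have h1 : p' ∣ Fintype.card K ^ m := by
      rw [hk, ← pow_mul]
      exact dvd_pow_self p' (by positivity)
    rw [hK, hn] at h1
    exact (Nat.prime_dvd_prime_iff_eq hp' hp).1 (hp'.dvd_of_dvd_pow h1)
  subst hpp
  haveI := Fact.mk hp
  letI : Algebra (ZMod p') K := ZMod.algebra K p'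
  letI : Algebra (ZMod p') F := ZMod.algebra F p'
  have h1 := FiniteField.pow_finrank_eq_card p' K
  have h2 := FiniteField.pow_finrank_eq_card p' F
  have h3 : Module.finrank (ZMod p') K * m = Module.finrank (ZMod p') F := by
    apply Nat.pow_right_injective hp.two_le
    show p' ^ (Module.finrank (ZMod p') K * m) = p' ^ Module.finrank (ZMod p') F
    rw [pow_mul, h1, h2, hK]
  obtain ⟨f⟩ := FiniteField.nonempty_algHom_of_finrank_dvd (F := ZMod p') (K := K) (L := F)
    (Dvd.intro _ h3)
  exact ⟨f.toRingHom⟩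

end embed

section psl

variable {F K : Type*} [Field F] [Field K]

local notation "SL2" => Matrix.SpecialLinearGroup (Fin 2) F
local notation "PSL2" => Matrix.ProjectiveSpecialLinearGroup (Fin 2) F

/-- `PSL₂(K) ↪ PSL₂(F)` for a subfield -/
theorem exists_PSL2 (ι : K →+* F) :
    ∃ H : Subgroup PSL2, Nonempty (H ≃* Matrix.ProjectiveSpecialLinearGroup (Fin 2) K) := by
  let φ : Matrix.SpecialLinearGroup (Fin 2) K →* PSL2 :=
    (pr : SL2 →* PSL2).comp (Matrix.SpecialLinearGroup.map ι)
  have hinj := ι.injective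
  have hker : φ.ker = Subgroup.center (Matrix.SpecialLinearGroup (Fin 2) K) := by
    ext g
    rw [MonoidHom.mem_ker, mem_center_iff']
    show pr (Matrix.SpecialLinearGroup.map ι g) = 1 ↔ _
    rw [← map_one (pr : SL2 →* PSL2), pr_eq_iff]
    constructor
    · rintro (h | h)
      · left
        apply Subtype.ext
        have := congrArg Subtype.val h
        simp only [Matrix.SpecialLinearGroup.map_apply_coe, RingHom.mapMatrix_apply,
          Matrix.SpecialLinearGroup.coe_one] at this
        ext i j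
        have hij := congrFun (congrFun this i) j
        rw [Matrix.map_apply] at hij
        apply hinj
        rw [hij]
        by_cases hc : i = j
        · subst hc; simp
        · simp [Matrix.one_apply_ne hc]
      · right
        apply Subtype.ext
        have := congrArg Subtype.val h
        simp only [Matrix.SpecialLinearGroup.map_apply_coe, RingHom.mapMatrix_apply,
          Matrix.SpecialLinearGroup.coe_neg, Matrix.SpecialLinearGroup.coe_one] at this
        ext i j
        have hij := congrFun (congrFun this i) j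
        rw [Matrix.map_apply] at hij
        apply hinj
        rw [hij]
        by_cases hc : i = j
        · subst hc; simp
        · simp [Matrix.one_apply_ne hc]
    · rintro (h | h)
      · left; rw [h, map_one]
      · right
        rw [h]
        apply Subtype.ext
        simp only [Matrix.SpecialLinearGroup.map_apply_coe, RingHom.mapMatrix_apply,
          Matrix.SpecialLinearGroup.coe_neg, Matrix.SpecialLinearGroup.coe_one]
        ext i j
        by_cases hc : i = j
        · subst hc; simp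
        · simp [Matrix.one_apply_ne hc]
  refine ⟨φ.range, ⟨?_⟩⟩
  exact ((QuotientGroup.quotientKerEquivRange φ).symm).trans
    (QuotientGroup.quotientMulEquivOfEq hker)

end psl

section pgl

variable {F K : Type*} [Field F] [Fintype F] [Field K]

local notation "SL2" => Matrix.SpecialLinearGroup (Fin 2) F
local notation "PSL2" => Matrix.ProjectiveSpecialLinearGroup (Fin 2) F

theorem det_ne_zero' (g : GL (Fin 2) K) : (g : Matrix (Fin 2) (Fin 2) K).det ≠ 0 :=
  (Matrix.isUnits_det_units g).ne_zero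

/-- a chosen square root of the determinant -/
noncomputable def sq (ι : K →+* F) (hsq : ∀ d : K, d ≠ 0 → IsSquare (ι d)) (g : GL (Fin 2) K) : F :=
  Classical.choose (hsq _ (det_ne_zero' g))

theorem sq_spec (ι : K →+* F) (hsq : ∀ d : K, d ≠ 0 → IsSquare (ι d)) (g : GL (Fin 2) K) :
    sq ι hsq g * sq ι hsq g = ι (g : Matrix (Fin 2) (Fin 2) K).det :=
  (Classical.choose_spec (hsq _ (det_ne_zero' g))).symm

theorem sq_ne_zero (ι : K →+* F) (hsq : ∀ d : K, d ≠ 0 → IsSquare (ι d)) (g : GL (Fin 2) K) :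
    sq ι hsq g ≠ 0 := by
  intro h
  have := sq_spec ι hsq g
  rw [h, mul_zero] at this
  exact det_ne_zero' g (ι.injective (by rw [← this, map_zero]))

/-- the normalized image -/
noncomputable def nrm (ι : K →+* F) (hsq : ∀ d : K, d ≠ 0 → IsSquare (ι d)) (g : GL (Fin 2) K) :
    SL2 :=
  ⟨(sq ι hsq g)⁻¹ • ι.mapMatrix (g : Matrix (Fin 2) (Fin 2) K), by
    rw [Matrix.det_smul, Fintype.card_fin, ← RingHom.map_det, ← sq_spec ι hsq g]
    have := sq_ne_zero ι hsq g
    field_simp⟩

theorem nrm_val (ι : K →+* F) (hsq : ∀ d : K, d ≠ 0 → IsSquare (ι d)) (g : GL (Fin 2) K) :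
    (nrm ι hsq g).1 = (sq ι hsq g)⁻¹ • ι.mapMatrix (g : Matrix (Fin 2) (Fin 2) K) := rfl

theorem nrm_mul (ι : K →+* F) (hsq : ∀ d : K, d ≠ 0 → IsSquare (ι d)) (g h : GL (Fin 2) K) :
    pr (nrm ι hsq (g * h)) = pr (nrm ι hsq g) * pr (nrm ι hsq h) := by
  rw [← map_mul, pr_eq_iff]
  have h1 := sq_spec ι hsq g
  have h2 := sq_spec ι hsq h
  have h3 := sq_spec ι hsq (g * h)
  have n1 := sq_ne_zero ι hsq g
  have n2 := sq_ne_zero ι hsq h
  have n3 := sq_ne_zero ι hsq (g * h)
  rw [Units.val_mul, Matrix.det_mul, map_mul, ← h1, ← h2] at h3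
  have hfac : (sq ι hsq (g * h) - sq ι hsq g * sq ι hsq h) *
      (sq ι hsq (g * h) + sq ι hsq g * sq ι hsq h) = 0 := by
    linear_combination h3
  have hprod : (nrm ι hsq g * nrm ι hsq h).1 =
      (sq ι hsq g * sq ι hsq h)⁻¹ • ι.mapMatrix ((g * h : GL (Fin 2) K) : Matrix (Fin 2) (Fin 2) K) := by
    show (nrm ι hsq g).1 * (nrm ι hsq h).1 = _
    rw [nrm_val, nrm_val, Units.val_mul, map_mul, Matrix.smul_mul, Matrix.mul_smul, smul_smul,
      mul_inv]
  rcases mul_eq_zero.1 hfac with hc | hc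
  · left
    apply Subtype.ext
    rw [hprod, nrm_val, sub_eq_zero.1 hc]
  · right
    apply Subtype.ext
    rw [neg_val, hprod, nrm_val]
    have : sq ι hsq (g * h) = -(sq ι hsq g * sq ι hsq h) := by linear_combination hc
    rw [this, inv_neg, neg_smul]

/-- the homomorphism `GL₂(K) → PSL₂(F)` -/
noncomputable def theta (ι : K →+* F) (hsq : ∀ d : K, d ≠ 0 → IsSquare (ι d)) :
    GL (Fin 2) K →* PSL2 :=
  MonoidHom.mk' (fun g => pr (nrm ι hsq g)) (nrm_mul ι hsq)

theorem theta_ker (ι : K →+* F) (hsq : ∀ d : K, d ≠ 0 → IsSquare (ι d)) :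
    (theta ι hsq).ker = Subgroup.center (GL (Fin 2) K) := by
  ext g
  rw [MonoidHom.mem_ker, Matrix.GeneralLinearGroup.mem_center_iff_val_mem_range_scalar]
  show pr (nrm ι hsq g) = 1 ↔ _
  rw [pr_eq_one_iff]
  have n1 := sq_ne_zero ι hsq g
  have h1 := sq_spec ι hsq g
  have hinj := ι.injective
  constructor
  · intro h
    have hent : ∀ i j : Fin 2, i ≠ j → (g : Matrix (Fin 2) (Fin 2) K) i j = 0 := by
      intro i j hij
      have : (nrm ι hsq g).1 i j = 0 := by
        rcases h with h | h <;> rw [h] <;> simp [Matrix.one_apply_ne hij]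
      rw [nrm_val, Matrix.smul_apply, RingHom.mapMatrix_apply, Matrix.map_apply, smul_eq_mul] at this
      rcases mul_eq_zero.1 this with h' | h'
      · exact absurd h' (inv_ne_zero n1)
      · exact hinj (by rw [h', map_zero])
    have hdiag : (g : Matrix (Fin 2) (Fin 2) K) 0 0 = (g : Matrix (Fin 2) (Fin 2) K) 1 1 := by
      have : (nrm ι hsq g).1 0 0 = (nrm ι hsq g).1 1 1 := by
        rcases h with h | h <;> rw [h] <;> simp
      rw [nrm_val, Matrix.smul_apply, Matrix.smul_apply, RingHom.mapMatrix_apply, Matrix.map_apply,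
        Matrix.map_apply, smul_eq_mul, smul_eq_mul] at this
      exact hinj (mul_left_cancel₀ (inv_ne_zero n1) this)
    refine ⟨(g : Matrix (Fin 2) (Fin 2) K) 0 0, ?_⟩
    ext i j
    fin_cases i <;> fin_cases j
    · simp
    · simp [hent 0 1 (by decide)]
    · simp [hent 1 0 (by decide)]
    · simp [hdiag]
  · rintro ⟨c, hc⟩
    have hdet : (g : Matrix (Fin 2) (Fin 2) K).det = c * c := by
      rw [← hc]
      simp [Matrix.det_fin_two]
      try ring
    rw [hdet, map_mul] at h1
    have hfac : (sq ι hsq g - ι c) * (sq ι hsq g + ι c) = 0 := by linear_combination h1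
    have hmap : ι.mapMatrix (g : Matrix (Fin 2) (Fin 2) K) = ι c • (1 : Matrix (Fin 2) (Fin 2) F) := by
      rw [← hc]
      ext i j
      fin_cases i <;> fin_cases j <;> simp
    rcases mul_eq_zero.1 hfac with h' | h'
    · left
      apply Subtype.ext
      rw [nrm_val, hmap, smul_smul, ← sub_eq_zero.1 h', inv_mul_cancel₀ n1, one_smul]
      rfl
    · right
      apply Subtype.ext
      have e : ι c = -sq ι hsq g := by linear_combination h'
      rw [neg_val, nrm_val, hmap, smul_smul, e, mul_neg, inv_mul_cancel₀ n1, neg_smul, one_smul]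
      rfl

/-- `PGL₂(K) ↪ PSL₂(F)` when all elements of `K` become squares in `F` -/
theorem exists_PGL2 (ι : K →+* F) (hsq : ∀ d : K, d ≠ 0 → IsSquare (ι d)) :
    ∃ H : Subgroup PSL2, Nonempty (H ≃* Matrix.ProjGenLinGroup (Fin 2) K) := by
  refine ⟨(theta ι hsq).range, ⟨?_⟩⟩
  exact ((QuotientGroup.quotientKerEquivRange (theta ι hsq)).symm).trans
    (QuotientGroup.quotientMulEquivOfEq (theta_ker ι hsq))

end pgl

section arith

theorem card_SL2_all {F : Type*} [Field F] [Fintype F] :
    Nat.card (Matrix.SpecialLinearGroup (Fin 2) F) = Fintype.card F * (Fintype.card F ^ 2 - 1) := by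
  have := Cfsg.Agent.S0242.result (F := F) rfl 2 (by norm_num)
  rw [Fin.prod_univ_two] at this
  simp only [Fin.val_zero, pow_zero, Fin.val_one, pow_one] at this
  have hq : 1 < Fintype.card F := Fintype.one_lt_card
  obtain ⟨n, hn⟩ : ∃ n, Fintype.card F = n + 1 := ⟨Fintype.card F - 1, by omega⟩
  rw [hn] at this ⊢
  simp only [Nat.add_sub_cancel] at this
  have e2 : (n + 1) ^ 2 - (n + 1) = (n + 1) * n := by
    have : (n + 1) ^ 2 = (n + 1) * n + (n + 1) := by ring
    rw [this, Nat.add_sub_cancel]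
  rw [e2] at this
  have hpos : 0 < n := by omega
  apply Nat.eq_of_mul_eq_mul_left hpos
  rw [this]
  ring

/-- geometric sum parity -/
theorem geom_parity (y : ℕ) (m : ℕ) :
    ∃ G : ℕ, (2 * y + 1) ^ m = 1 + (2 * y) * G ∧ G % 2 = m % 2 := by
  induction m with
  | zero => exact ⟨0, by simp, rfl⟩
  | succ m ih =>
    obtain ⟨G, hG, hpar⟩ := ih
    refine ⟨1 + (2 * y + 1) * G, ?_, ?_⟩
    · rw [pow_succ, hG]; ring
    · have : 1 + (2 * y + 1) * G = 2 * (y * G) + (G + 1) := by ring
      rw [this]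
      omega

/-- for `m` odd and `r` odd, `2 r (r² − 1) ∤ r^m (r^{2m} − 1)` -/
theorem not_dvd_of_odd (r m : ℕ) (hr : Odd r) (hr1 : 1 < r) (hm : Odd m) :
    ¬ 2 * (r * (r ^ 2 - 1)) ∣ r ^ m * ((r ^ m) ^ 2 - 1) := by
  intro hdvd
  obtain ⟨k, hk⟩ := hr
  have hk0 : 0 < k := by omega
  -- r^2 = 2 y + 1
  obtain ⟨y, hy, hy0⟩ : ∃ y, r ^ 2 = 2 * y + 1 ∧ 0 < y := by
    refine ⟨2 * k * k + 2 * k, ?_, by positivity⟩
    rw [hk]; ring
  obtain ⟨G, hG, hpar⟩ := geom_parity y m
  have e1 : (r ^ m) ^ 2 - 1 = (2 * y) * G := by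
    rw [← pow_mul, mul_comm m 2, pow_mul, hy, hG, Nat.add_sub_cancel_left]
  have e2 : r ^ 2 - 1 = 2 * y := by rw [hy, Nat.add_sub_cancel]
  rw [e1, e2] at hdvd
  have h3 : 2 * (r * (2 * y)) ∣ (2 * y) * (r ^ m * G) := by
    have : r ^ m * (2 * y * G) = (2 * y) * (r ^ m * G) := by ring
    rwa [this] at hdvd
  have h4 : 2 * (r * (2 * y)) = (2 * y) * (2 * r) := by ring
  rw [h4] at h3
  have h5 : 2 * r ∣ r ^ m * G := (Nat.mul_dvd_mul_iff_left (by positivity)).1 h3
  have h6 : 2 ∣ r ^ m * G := (Dvd.intro _ rfl).trans h5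
  have hGodd : G % 2 = 1 := by
    rw [hpar]; exact Nat.odd_iff.1 hm
  have hrm : (r ^ m) % 2 = 1 := Nat.odd_iff.1 (Odd.pow ⟨k, hk⟩)
  have : (r ^ m * G) % 2 = 1 := by
    rw [Nat.mul_mod, hrm, hGodd]
  omega

/-- for `m` even and `r` odd, `2 (r − 1) ∣ r^m − 1` -/
theorem dvd_of_even (r m : ℕ) (hr : Odd r) (hm : Even m) :
    2 * (r - 1) ∣ r ^ m - 1 := by
  obtain ⟨j, hj⟩ := hm
  obtain ⟨k, hk⟩ := hr
  have h1 : r ^ 2 - 1 ∣ (r ^ 2) ^ j - 1 := by
    have := Nat.sub_dvd_pow_sub_pow (r ^ 2) 1 j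
    rwa [one_pow] at this
  have h2 : 2 * (r - 1) ∣ r ^ 2 - 1 := by
    have : r ^ 2 - 1 = 2 * (r - 1) * (k + 1) := by
      rw [hk, Nat.add_sub_cancel]
      have : (2 * k + 1) ^ 2 = 2 * (2 * k) * (k + 1) + 1 := by ring
      rw [this, Nat.add_sub_cancel]
    rw [this]
    exact Dvd.intro _ rfl
  have h3 : r ^ m = (r ^ 2) ^ j := by rw [hj, ← two_mul, pow_mul]
  rw [h3]
  exact h2.trans h1

end arith

section main

variable {F K : Type*} [Field F] [Fintype F] [Field K] [Fintype K]

/-- all nonzero elements of the subfield are squares when `m` is even -/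
theorem isSquare_of_even (ι : K →+* F) (m : ℕ) (hm : Even m)
    (hodd : Odd (Fintype.card F)) (hK : Fintype.card K ^ m = Fintype.card F) :
    ∀ d : K, d ≠ 0 → IsSquare (ι d) := by
  intro d hd
  have hr : Odd (Fintype.card K) := by
    rw [← hK] at hodd
    rcases Nat.even_or_odd (Fintype.card K) with h | h
    · exfalso
      have hm0 : m ≠ 0 := by
        rintro rfl
        rw [pow_zero] at hK
        have := Fintype.one_lt_card (α := F)
        omega
      exact (Nat.not_even_iff_odd.2 hodd) (Nat.even_pow.2 ⟨h, hm0⟩)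
    · exact h
  have hchar : ringChar F ≠ 2 := by
    intro h2
    have := FiniteField.even_card_of_char_two h2
    exact (Nat.not_even_iff_odd.2 hodd) (Nat.even_iff.2 this)
  have hne : ι d ≠ 0 := fun h => hd (ι.injective (by rw [h, map_zero]))
  rw [FiniteField.isSquare_iff hchar hne]
  obtain ⟨c, hc⟩ := dvd_of_even (Fintype.card K) m hr hm
  have h1 : d ^ (Fintype.card K - 1) = 1 := FiniteField.pow_card_sub_one_eq_one d hd
  have h2 : Fintype.card F / 2 = (Fintype.card K - 1) * c := by
    obtain ⟨t, ht⟩ := hodd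
    rw [hK, mul_assoc] at hc
    have h3 := hc
    omega
  rw [h2, ← map_pow, pow_mul, h1, one_pow, map_one]

/-- no `PGL₂(K)` inside `PSL₂(F)` for `m` odd -/
theorem no_PGL2_of_odd (m : ℕ) (hm : Odd m)
    (hodd : Odd (Fintype.card F)) (hK : Fintype.card K ^ m = Fintype.card F)
    (H : Subgroup (Matrix.ProjectiveSpecialLinearGroup (Fin 2) F))
    (e : H ≃* Matrix.ProjGenLinGroup (Fin 2) K) : False := by
  have hr : Odd (Fintype.card K) := by
    rw [← hK] at hodd
    rcases Nat.even_or_odd (Fintype.card K) with h | h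
    · exfalso
      have hm0 : m ≠ 0 := by
        rintro rfl
        simp at hm
      exact (Nat.not_even_iff_odd.2 hodd) (Nat.even_pow.2 ⟨h, hm0⟩)
    · exact h
  have h2F : (2 : F) ≠ 0 := by
    intro h
    have hchar : ringChar F = 2 := by
      have : (2 : ℕ) ∣ ringChar F ∨ True := Or.inr trivial
      have h2 : ((2 : ℕ) : F) = 0 := by exact_mod_cast h
      have := (ringChar.spec F 2).1 h2
      have hp := CharP.char_is_prime F (ringChar F)
      exact ((Nat.prime_dvd_prime_iff_eq hp Nat.prime_two).1 this)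
    exact (Nat.not_even_iff_odd.2 hodd) (Nat.even_iff.2 (FiniteField.even_card_of_char_two hchar))
  have hcH : Nat.card H = Fintype.card K * (Fintype.card K ^ 2 - 1) := by
    rw [Nat.card_congr e.toEquiv, Cfsg.Agent.S0265.result, card_SL2_all]
  have hdvd : Nat.card H ∣ Nat.card (Matrix.ProjectiveSpecialLinearGroup (Fin 2) F) :=
    Subgroup.card_subgroup_dvd_card H
  have hF := card_SL2_eq (F := F) h2F
  rw [card_SL2_all] at hF
  rw [hcH] at hdvd
  have h3 : 2 * (Fintype.card K * (Fintype.card K ^ 2 - 1)) ∣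
      Fintype.card F * (Fintype.card F ^ 2 - 1) := by
    rw [hF]
    exact Nat.mul_dvd_mul_left 2 hdvd
  rw [← hK] at h3
  exact not_dvd_of_odd _ m hr Fintype.one_lt_card hm h3

end main

end Cfsg.Agent.H9.SubfieldPSL2
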