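import Mathlib
import Cfsg.Agent.H9.Adj
import Cfsg.Agent.S0286
import Cfsg.Agent.S0264
import Cfsg.Agent.S0265
import Cfsg.Agent.H9.SubfieldPSL2

set_option autoImplicit false

/-! The orthogonal group `O₃(q)`, `q` odd, is `{±1} × PGL₂(q)` via the adjoint representation. -/

namespace Cfsg.Agent.H9.Adj

open Matrix

universe u
variable {F : Type u} [Field F]

local notation "OO" => Cfsg.isometryGroup F (Cfsg.quadFormOdd 1 F)

theorem RO_ker : (RO : GL (Fin 2) F →* OO).ker = Subgroup.center (GL (Fin 2) F) := by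
  ext g
  rw [MonoidHom.mem_ker, RO_eq_one_iff]

/-- `-1` as an isometry -/
def negOne : OO := ⟨-1, by
  intro u _
  change Cfsg.quadFormOdd 1 F ((-1 : GL I3 F).1 *ᵥ u) = Cfsg.quadFormOdd 1 F u
  rw [quadFormOdd_eq, quadFormOdd_eq]
  simp [Q3, Matrix.neg_mulVec]⟩

theorem negOne_val : ((negOne : OO).1 : GL I3 F).1 = -1 := rfl

theorem negOne_comm (x : OO) : negOne * x = x * negOne := by
  apply Subtype.ext
  apply Units.ext
  change (-1 : Matrix I3 I3 F) * x.1.1 = x.1.1 * (-1)
  simp

theorem negOne_sq : (negOne : OO) * negOne = 1 := by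
  apply Subtype.ext
  apply Units.ext
  change (-1 : Matrix I3 I3 F) * (-1) = 1
  simp

theorem det_negOne : ((negOne : OO).1 : GL I3 F).1.det = -1 := by
  rw [negOne_val, Matrix.det_neg, card_I3, Matrix.det_one]
  ring

theorem det_range {x : OO} (hx : x ∈ (RO : GL (Fin 2) F →* OO).range) : x.1.1.det = 1 := by
  obtain ⟨g, rfl⟩ := hx
  exact det_R0 g

theorem negOne_not_mem (h2 : (2 : F) ≠ 0) : (negOne : OO) ∉ (RO : GL (Fin 2) F →* OO).range := by
  intro h
  have := det_range h
  rw [det_negOne] at this
  apply h2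
  linear_combination -this

variable [Fintype F]

theorem card_range : Nat.card (RO : GL (Fin 2) F →* OO).range =
    Fintype.card F * (Fintype.card F ^ 2 - 1) := by
  rw [← Nat.card_congr (QuotientGroup.quotientKerEquivRange (RO : GL (Fin 2) F →* OO)).toEquiv]
  have : Nat.card (GL (Fin 2) F ⧸ (RO : GL (Fin 2) F →* OO).ker) =
      Nat.card (Matrix.ProjGenLinGroup (Fin 2) F) := by
    rw [RO_ker]
    rfl
  rw [this, Cfsg.Agent.S0265.result, Cfsg.Agent.H9.SubfieldPSL2.card_SL2_all]

theorem card_OO (hodd : Odd (Fintype.card F)) :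
    Nat.card OO = 2 * (Fintype.card F * (Fintype.card F ^ 2 - 1)) := by
  rw [Cfsg.Agent.S0286.result (F := F) rfl hodd 1]
  simp
  ring

theorem finite_OO : Finite OO := inferInstance

theorem index_range (hodd : Odd (Fintype.card F)) :
    (RO : GL (Fin 2) F →* OO).range.index = 2 := by
  have h := Subgroup.card_mul_index (RO : GL (Fin 2) F →* OO).range
  rw [card_range, card_OO hodd] at h
  have hq : 1 < Fintype.card F := Fintype.one_lt_card
  have : 1 < Fintype.card F ^ 2 := Nat.one_lt_pow (by norm_num) hq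
  have hpos : 0 < Fintype.card F * (Fintype.card F ^ 2 - 1) :=
    Nat.mul_pos (by omega) (by omega)
  have h' : Fintype.card F * (Fintype.card F ^ 2 - 1) * (RO : GL (Fin 2) F →* OO).range.index =
      Fintype.card F * (Fintype.card F ^ 2 - 1) * 2 := by rw [h]; ring
  exact Nat.eq_of_mul_eq_mul_left hpos h'

theorem two_ne_zero_of_odd (hodd : Odd (Fintype.card F)) : (2 : F) ≠ 0 := by
  intro h
  have hchar : ringChar F = 2 := by
    have : ringChar F ∣ 2 := by
      apply ringChar.dvd
      exact_mod_cast h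
    rcases (Nat.dvd_prime Nat.prime_two).1 this with h1 | h1
    · exact absurd h1 (CharP.ringChar_ne_one)
    · exact h1
  exact (Nat.not_even_iff_odd.2 hodd) (Nat.even_iff.2 (FiniteField.even_card_of_char_two hchar))

/-- every isometry is `±` an adjoint element -/
theorem mem_or_neg_mem (hodd : Odd (Fintype.card F)) (x : OO) :
    x ∈ (RO : GL (Fin 2) F →* OO).range ∨ negOne * x ∈ (RO : GL (Fin 2) F →* OO).range := by
  by_cases hx : x ∈ (RO : GL (Fin 2) F →* OO).range
  · exact Or.inl hx
  · right
    rw [Subgroup.mul_mem_iff_of_index_two (index_range hodd)]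
    exact iff_of_false (negOne_not_mem (two_ne_zero_of_odd hodd)) hx

theorem SO_eq_range (hodd : Odd (Fintype.card F)) :
    Cfsg.specialIsometryGroup F (Cfsg.quadFormOdd 1 F) = (RO : GL (Fin 2) F →* OO).range := by
  have h2 := two_ne_zero_of_odd hodd
  ext x
  have hmem : x ∈ Cfsg.specialIsometryGroup F (Cfsg.quadFormOdd 1 F) ↔ x.1.1.det = 1 := by
    unfold Cfsg.specialIsometryGroup
    rw [MonoidHom.mem_ker]
    change Matrix.GeneralLinearGroup.det x.1 = 1 ↔ _
    rw [Units.ext_iff]
    rfl
  rw [hmem]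
  constructor
  · intro hx
    rcases mem_or_neg_mem hodd x with h | h
    · exact h
    · exfalso
      have := det_range h
      change ((negOne : OO).1.1 * x.1.1).det = 1 at this
      rw [Matrix.det_mul, det_negOne, hx] at this
      apply h2
      linear_combination -this
  · exact det_range

end Cfsg.Agent.H9.Adj
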