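import Mathlib
import Cfsg.Agent.H9.Adj2

set_option autoImplicit false

namespace Cfsg.Agent.H9.Adj

open Matrix
open scoped commutatorElement

universe u
variable {F : Type u} [Field F]

/-- the centre of `PSL₂(F)` is trivial -/
theorem center_PSL2 : Subgroup.center (Matrix.ProjectiveSpecialLinearGroup (Fin 2) F) = ⊥ := by
  rw [eq_bot_iff]
  intro x hx
  rw [Subgroup.mem_bot]
  obtain ⟨A, rfl⟩ := QuotientGroup.mk_surjective x
  rw [Subgroup.mem_center_iff] at hx
  -- commutation up to a central scalar
  have key : ∀ B : Matrix.SpecialLinearGroup (Fin 2) F,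
      ∃ r : F, A.1 * B.1 = r • (B.1 * A.1) := by
    intro B
    have h := hx (QuotientGroup.mk B)
    rw [← QuotientGroup.mk_mul, ← QuotientGroup.mk_mul] at h
    have h' := QuotientGroup.eq.1 h
    rw [Matrix.SpecialLinearGroup.mem_center_iff] at h'
    obtain ⟨r, hr, hrs⟩ := h'
    refine ⟨r, ?_⟩
    set Z : Matrix.SpecialLinearGroup (Fin 2) F := (B * A)⁻¹ * (A * B) with hZ
    have h2 : A * B = B * A * Z := by rw [hZ]; group
    have h3 := congrArg (fun X : Matrix.SpecialLinearGroup (Fin 2) F => X.1) h2
    simp only [Matrix.SpecialLinearGroup.coe_mul] at h3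
    rw [h3, ← hrs, Matrix.scalar_apply, ← Matrix.smul_eq_mul_diagonal]
  have hdet : A.1 0 0 * A.1 1 1 - A.1 0 1 * A.1 1 0 = 1 := by
    have := A.2
    rw [Matrix.det_fin_two] at this
    exact this
  -- upper transvection
  obtain ⟨r, hr⟩ := key ⟨!![1, 1; 0, 1], by simp [Matrix.det_fin_two]⟩
  obtain ⟨s, hs⟩ := key ⟨!![1, 0; 1, 1], by simp [Matrix.det_fin_two]⟩
  have e00 := congrFun (congrFun hr 0) 0
  have e01 := congrFun (congrFun hr 0) 1
  have e10 := congrFun (congrFun hr 1) 0
  have e11 := congrFun (congrFun hr 1) 1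
  have f00 := congrFun (congrFun hs 0) 0
  have f01 := congrFun (congrFun hs 0) 1
  have f10 := congrFun (congrFun hs 1) 0
  have f11 := congrFun (congrFun hs 1) 1
  simp [Matrix.mul_apply, Fin.sum_univ_two, Matrix.vecMul, dotProduct] at e00 e01 e10 e11 f00 f01 f10 f11
  have hc : A.1 1 0 = 0 := by
    by_contra hc
    have hr1 : r = 1 := by
      have : A.1 1 0 * (1 - r) = 0 := by linear_combination e10
      rcases mul_eq_zero.1 this with h | h
      · exact absurd h hc
      · exact (sub_eq_zero.1 h).symm
    rw [hr1] at e00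
    apply hc
    linear_combination -e00
  have ha : A.1 0 0 ≠ 0 := by
    intro h0
    rw [h0, hc] at hdet
    simp at hdet
  have hr1 : r = 1 := by
    rw [hc] at e00
    have : A.1 0 0 * (1 - r) = 0 := by linear_combination e00
    rcases mul_eq_zero.1 this with h | h
    · exact absurd h ha
    · exact (sub_eq_zero.1 h).symm
  have had : A.1 0 0 = A.1 1 1 := by
    rw [hr1] at e01
    linear_combination e01
  have hb : A.1 0 1 = 0 := by
    by_contra hb
    have hs1 : s = 1 := by
      have : A.1 0 1 * (1 - s) = 0 := by linear_combination f01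
      rcases mul_eq_zero.1 this with h | h
      · exact absurd h hb
      · exact (sub_eq_zero.1 h).symm
    rw [hs1] at f11
    apply hb
    linear_combination -f11
  have hcen : A ∈ Subgroup.center (Matrix.SpecialLinearGroup (Fin 2) F) := by
    rw [Matrix.SpecialLinearGroup.mem_center_iff]
    refine ⟨A.1 0 0, ?_, ?_⟩
    · rw [hb, hc, ← had] at hdet
      simp only [Fintype.card_fin]
      linear_combination hdet
    · ext i j
      fin_cases i <;> fin_cases j <;> simp [hb, hc, had]
  exact (QuotientGroup.eq_one_iff A).2 hcen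


local notation "OO" => Cfsg.isometryGroup F (Cfsg.quadFormOdd 1 F)

/-- the adjoint representation restricted to `SL₂` -/
noncomputable def RS : Matrix.SpecialLinearGroup (Fin 2) F →* OO :=
  RO.comp Matrix.SpecialLinearGroup.toGL

theorem RS_ker : (RS : Matrix.SpecialLinearGroup (Fin 2) F →* OO).ker =
    Subgroup.center (Matrix.SpecialLinearGroup (Fin 2) F) := by
  ext A
  rw [MonoidHom.mem_ker]
  change RO (Matrix.SpecialLinearGroup.toGL A) = 1 ↔ _
  rw [RO_eq_one_iff, Matrix.SpecialLinearGroup.toGL_mem_center_iff]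

theorem exists_SL_of_det (g : GL (Fin 2) F) (h : Matrix.GeneralLinearGroup.det g = 1) :
    ∃ A : Matrix.SpecialLinearGroup (Fin 2) F, Matrix.SpecialLinearGroup.toGL A = g := by
  refine ⟨⟨g.1, ?_⟩, ?_⟩
  · have := congrArg Units.val h
    exact this
  · apply Units.ext
    rfl

variable [Fintype F]

theorem Omega_eq_range (hodd : Odd (Fintype.card F)) :
    Cfsg.Omega F (Cfsg.quadFormOdd 1 F) = (RS : Matrix.SpecialLinearGroup (Fin 2) F →* OO).range := by
  have h2 := two_ne_zero_of_odd hodd
  apply le_antisymm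
  · change commutator OO ≤ _
    rw [commutator_def, Subgroup.commutator_le]
    intro x _ y _
    -- reduce to the range
    have red : ∀ x y : OO, x ∈ (RO : GL (Fin 2) F →* OO).range →
        y ∈ (RO : GL (Fin 2) F →* OO).range →
        ⁅x, y⁆ ∈ (RS : Matrix.SpecialLinearGroup (Fin 2) F →* OO).range := by
      rintro _ _ ⟨g, rfl⟩ ⟨h, rfl⟩
      have hdet : Matrix.GeneralLinearGroup.det ⁅g, h⁆ = 1 := by
        have hab : ∀ a b : Fˣ, a * b * a⁻¹ * b⁻¹ = 1 := by
          intro a b
          rw [mul_comm a b, mul_inv_cancel_right, mul_inv_cancel]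
        rw [commutatorElement_def, map_mul, map_mul, map_mul, map_inv, map_inv]
        exact hab _ _
      obtain ⟨A, hA⟩ := exists_SL_of_det _ hdet
      refine ⟨A, ?_⟩
      change RO (Matrix.SpecialLinearGroup.toGL A) = _
      rw [hA, map_commutatorElement]
    have hn : ∀ x y : OO, ⁅negOne * x, y⁆ = ⁅x, y⁆ := by
      intro x y
      rw [commutatorElement_def, commutatorElement_def, _root_.mul_inv_rev]
      have h1 : negOne * x * y * (x⁻¹ * negOne⁻¹) * y⁻¹ =
          x * y * x⁻¹ * (negOne * negOne⁻¹) * y⁻¹ := by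
        have e1 : negOne * x * y * (x⁻¹ * negOne⁻¹) = x * y * x⁻¹ * (negOne * negOne⁻¹) := by
          rw [negOne_comm x, mul_assoc x negOne y, negOne_comm y]
          rw [← mul_assoc, ← mul_assoc, ← mul_assoc, mul_assoc (x * y) negOne, negOne_comm x⁻¹]
          rw [← mul_assoc, mul_assoc]
        rw [e1]
      rw [h1, mul_inv_cancel, mul_one]
    have hn' : ∀ x y : OO, ⁅x, negOne * y⁆ = ⁅x, y⁆ := by
      intro x y
      rw [← commutatorElement_inv (negOne * y) x, hn, commutatorElement_inv]
    rcases mem_or_neg_mem hodd x with hx | hx <;> rcases mem_or_neg_mem hodd y with hy | hy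
    · exact red x y hx hy
    · rw [← hn' x y]; exact red _ _ hx hy
    · rw [← hn x y]; exact red _ _ hx hy
    · rw [← hn x y, ← hn' (negOne * x) y]; exact red _ _ hx hy
  · rintro _ ⟨A, rfl⟩
    change RO (Matrix.SpecialLinearGroup.toGL A) ∈ commutator OO
    have hA : Matrix.SpecialLinearGroup.toGL A ∈ commutator (GL (Fin 2) F) := by
      rw [Cfsg.Agent.S0264.result (F := F) 2 (fun _ => ⟨-1, by simp, by
        intro h
        apply h2
        linear_combination -h⟩)]
      rw [MonoidHom.mem_ker]
      apply Units.ext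
      change (A.1).det = 1
      exact A.2
    have hle : (commutator (GL (Fin 2) F)).map (RO : GL (Fin 2) F →* OO) ≤ commutator OO := by
      rw [commutator_def, Subgroup.map_commutator, commutator_def]
      exact Subgroup.commutator_mono le_top le_top
    exact hle (Subgroup.mem_map_of_mem _ hA)

end Cfsg.Agent.H9.Adj
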