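import Mathlib
import Cfsg.Agent.H9.Adj3
import Cfsg.Agent.S1012

set_option autoImplicit false

namespace Cfsg.Agent.H9.Adj

open Matrix

universe u
variable {F : Type u} [Field F]

/-- scalar matrices -/
def IsSc (X : Matrix (Fin 2) (Fin 2) F) : Prop := ∃ s : F, X = s • (1 : Matrix (Fin 2) (Fin 2) F)

theorem CH (M : Matrix (Fin 2) (Fin 2) F) : M * M = M.trace • M + (-M.det) • 1 := by
  ext i j
  fin_cases i <;> fin_cases j <;>
    simp [Matrix.trace, Matrix.det_fin_two, Matrix.mul_apply, Fin.sum_univ_two] <;> ring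

theorem step (M X : Matrix (Fin 2) (Fin 2) F) (a b : F) (hX : X = a • M + b • 1) :
    X * M = (M.trace * a + b) • M + (-M.det * a) • 1 := by
  rw [hX, add_mul, smul_mul_assoc, smul_mul_assoc, one_mul, CH]
  module

variable [Fintype F]

theorem elems (hF : Fintype.card F = 3) (x : F) : x = 0 ∨ x = 1 ∨ x = -1 := by
  have h := FiniteField.pow_card x
  rw [hF] at h
  have : x * ((x - 1) * (x + 1)) = 0 := by linear_combination h
  rcases mul_eq_zero.1 this with h | h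
  · exact Or.inl h
  · rcases mul_eq_zero.1 h with h | h
    · exact Or.inr (Or.inl (sub_eq_zero.1 h))
    · exact Or.inr (Or.inr (eq_neg_of_add_eq_zero_left h))

theorem three_eq_zero (hF : Fintype.card F = 3) : (3 : F) = 0 := by
  have := FiniteField.cast_card_eq_zero F
  rw [hF] at this
  exact_mod_cast this

omit [Fintype F] in
theorem sc_of_smul (M : Matrix (Fin 2) (Fin 2) F) (a c : F) (ha : a ≠ 0)
    (h : a • M = c • (1 : Matrix (Fin 2) (Fin 2) F)) : IsSc M :=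
  ⟨a⁻¹ * c, by rw [mul_smul, ← h, smul_smul, inv_mul_cancel₀ ha, one_smul]⟩

omit [Fintype F] in
theorem sc_sq (M : Matrix (Fin 2) (Fin 2) F) (h : IsSc M) : IsSc (M ^ 2) := by
  obtain ⟨c, hc⟩ := h
  refine ⟨c * c, ?_⟩
  rw [pow_two, hc, smul_mul_smul_comm, mul_one]

theorem sc_of_pow_six (hF : Fintype.card F = 3) (M : Matrix (Fin 2) (Fin 2) F) (hd : M.det ≠ 0)
    (h6 : IsSc (M ^ 6)) : IsSc (M ^ 2) ∨ IsSc (M ^ 3) := by
  have h3 := three_eq_zero hF
  have h1 : (1 : F) ≠ 0 := one_ne_zero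
  have hm1 : (-1 : F) ≠ 0 := neg_ne_zero.2 one_ne_zero
  set τ := M.trace with hτ
  set Δ := M.det with hΔ
  have e1 : M ^ 1 = (1 : F) • M + (0 : F) • 1 := by simp
  have e2 : M ^ 2 = τ • M + (-Δ) • 1 := by
    rw [pow_succ, step M _ _ _ e1]; module
  have e3 : M ^ 3 = (τ ^ 2 - Δ) • M + (-(Δ * τ)) • 1 := by
    rw [pow_succ, step M _ _ _ e2]; module
  have e4 : M ^ 4 = (τ ^ 3 - 2 * Δ * τ) • M + (-(Δ * (τ ^ 2 - Δ))) • 1 := by
    rw [pow_succ, step M _ _ _ e3]; module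
  have e5 : M ^ 5 = (τ ^ 4 - 3 * Δ * τ ^ 2 + Δ ^ 2) • M + (-(Δ * (τ ^ 3 - 2 * Δ * τ))) • 1 := by
    rw [pow_succ, step M _ _ _ e4]; module
  have e6 : M ^ 6 = (τ ^ 5 - 4 * Δ * τ ^ 3 + 3 * Δ ^ 2 * τ) • M +
      (-(Δ * (τ ^ 4 - 3 * Δ * τ ^ 2 + Δ ^ 2))) • 1 := by
    rw [pow_succ, step M _ _ _ e5]; module
  obtain ⟨s, hs⟩ := h6
  have key : (τ ^ 5 - 4 * Δ * τ ^ 3 + 3 * Δ ^ 2 * τ) • M =
      (s + Δ * (τ ^ 4 - 3 * Δ * τ ^ 2 + Δ ^ 2)) • (1 : Matrix (Fin 2) (Fin 2) F) := by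
    rw [add_smul s, ← hs, e6]; module
  rcases elems hF τ with ht | ht | ht
  · left
    exact ⟨-Δ, by rw [e2, ht]; module⟩
  · rcases elems hF Δ with hD | hD | hD
    · exact absurd hD hd
    · right
      exact ⟨-1, by rw [e3, ht, hD]; module⟩
    · left
      apply sc_sq
      rw [ht, hD] at key
      refine sc_of_smul M _ _ ?_ key
      have : ((1:F) ^ 5 - 4 * -1 * 1 ^ 3 + 3 * (-1) ^ 2 * 1) = -1 := by linear_combination 3 * h3
      rw [this]
      exact hm1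
  · rcases elems hF Δ with hD | hD | hD
    · exact absurd hD hd
    · right
      exact ⟨1, by rw [e3, ht, hD]; module⟩
    · left
      apply sc_sq
      rw [ht, hD] at key
      refine sc_of_smul M _ _ ?_ key
      have : ((-1:F) ^ 5 - 4 * -1 * (-1) ^ 3 + 3 * (-1) ^ 2 * (-1)) = 1 := by linear_combination -3 * h3
      rw [this]
      exact h1

omit [Fintype F] in
theorem mem_center_iff_isSc (g : GL (Fin 2) F) :
    g ∈ Subgroup.center (GL (Fin 2) F) ↔ IsSc g.1 := by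
  rw [Matrix.GeneralLinearGroup.mem_center_iff_val_mem_range_scalar]
  constructor
  · rintro ⟨s, hs⟩
    exact ⟨s, by rw [← hs, Matrix.scalar_apply, Matrix.smul_one_eq_diagonal]⟩
  · rintro ⟨s, hs⟩
    exact ⟨s, by rw [hs, Matrix.scalar_apply, Matrix.smul_one_eq_diagonal]⟩

/-- in `PGL₂(3)` (realised as the adjoint group) there is no element of order six -/
theorem RO_pow (hF : Fintype.card F = 3) (g : GL (Fin 2) F)
    (h6 : (RO g : Cfsg.isometryGroup F (Cfsg.quadFormOdd 1 F)) ^ 6 = 1) :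
    (RO g : Cfsg.isometryGroup F (Cfsg.quadFormOdd 1 F)) ^ 2 = 1 ∨
      (RO g : Cfsg.isometryGroup F (Cfsg.quadFormOdd 1 F)) ^ 3 = 1 := by
  rw [← map_pow, RO_eq_one_iff, mem_center_iff_isSc, Units.val_pow_eq_pow_val] at h6
  rcases sc_of_pow_six hF g.1 (det_ne_zero g) h6 with h | h
  · left
    rw [← map_pow, RO_eq_one_iff, mem_center_iff_isSc, Units.val_pow_eq_pow_val]
    exact h
  · right
    rw [← map_pow, RO_eq_one_iff, mem_center_iff_isSc, Units.val_pow_eq_pow_val]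
    exact h

end Cfsg.Agent.H9.Adj
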