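import Mathlib

set_option autoImplicit false

/-! The one-dimensional affine groups `K ⋊ ⟨ζ⟩` over a finite field and their element orders. -/

namespace Cfsg.Agent.H9.AffSpec

variable {K : Type} [Field K]

/-- the action of a group of units on the additive group of the field -/
noncomputable def phi (G : Subgroup Kˣ) : G →* MulAut (Multiplicative K) :=
  (MulAutMultiplicative K).symm.toMonoidHom.comp (AddAut.mulLeft.comp G.subtype)

theorem phi_apply (G : Subgroup Kˣ) (u : G) (v : K) :
    phi G u (Multiplicative.ofAdd v) = Multiplicative.ofAdd (((u : Kˣ) : K) * v) := rfl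

/-- the affine group `K ⋊ G` -/
abbrev Aff (G : Subgroup Kˣ) := Multiplicative K ⋊[phi G] G

instance (G : Subgroup Kˣ) [Finite K] : Finite (Aff G) :=
  Finite.of_equiv (Multiplicative K × G) SemidirectProduct.equivProd.symm

theorem isSolvable (G : Subgroup Kˣ) : Group.IsSolvable (Aff G) := by
  have h1 : Group.IsSolvable (Multiplicative K) := inferInstance
  have h2 : Group.IsSolvable G := inferInstance
  exact Group.isSolvable_of_ker_le_range (SemidirectProduct.inl : Multiplicative K →* Aff G)
    (SemidirectProduct.rightHom : Aff G →* G) SemidirectProduct.range_inl_eq_ker_rightHom.ge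

theorem conj_eq (G : Subgroup Kˣ) (v : K) (u : G) (h : 1 - ((u : Kˣ) : K) ≠ 0) :
    (⟨Multiplicative.ofAdd v, u⟩ : Aff G) =
      MulAut.conj (SemidirectProduct.inl (Multiplicative.ofAdd (v / (1 - ((u : Kˣ) : K)))))
        (SemidirectProduct.inr u) := by
  rw [MulAut.conj_apply]
  ext
  · simp only [SemidirectProduct.mul_left, SemidirectProduct.left_inl,
        SemidirectProduct.right_inl, SemidirectProduct.left_inr, SemidirectProduct.right_inr,
        SemidirectProduct.inv_left, SemidirectProduct.mul_right,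
        map_one, mul_one, one_mul, inv_one, MulAut.one_apply]
    have key : v / (1 - ((u : Kˣ) : K)) + ((u : Kˣ) : K) * -(v / (1 - ((u : Kˣ) : K))) = v := by
      field_simp
      ring
    rw [← ofAdd_neg, phi_apply, ← ofAdd_add, key]
  · simp

/-- elements with nontrivial linear part are conjugate to their linear part -/
theorem orderOf_of_ne_one (G : Subgroup Kˣ) (x : Aff G) (hx : x.right ≠ 1) :
    orderOf x = orderOf x.right := by
  rcases x with ⟨n, u⟩
  have h1u : (1 - ((u : Kˣ) : K)) ≠ 0 := by
    intro h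
    apply hx
    apply Subtype.ext
    apply Units.ext
    rw [sub_eq_zero] at h
    simpa using h.symm
  have hx' := conj_eq G (Multiplicative.toAdd n) u h1u
  rw [ofAdd_toAdd] at hx'
  change orderOf (⟨n, u⟩ : Aff G) = orderOf u
  rw [hx', MulEquiv.orderOf_eq, orderOf_injective _ SemidirectProduct.inr_injective]

theorem orderOf_inl (G : Subgroup Kˣ) (v : K) :
    orderOf (SemidirectProduct.inl (Multiplicative.ofAdd v) : Aff G) = addOrderOf v := by
  rw [orderOf_injective _ SemidirectProduct.inl_injective, orderOf_ofAdd_eq_addOrderOf]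

theorem addOrderOf_eq (p : ℕ) [Fact p.Prime] [CharP K p] (v : K) (hv : v ≠ 0) :
    addOrderOf v = p := by
  apply addOrderOf_eq_prime _ hv
  rw [nsmul_eq_mul, CharP.cast_eq_zero, zero_mul]

/-- the set of element orders of `K ⋊ ⟨ζ⟩` -/
theorem range_orderOf (p : ℕ) [Fact p.Prime] [CharP K p] [Finite K] (ζ : Kˣ) :
    Set.range (orderOf : Aff (Subgroup.zpowers ζ) → ℕ) = {n | n ∣ p ∨ n ∣ orderOf ζ} := by
  ext n
  simp only [Set.mem_range, Set.mem_ofPred_eq]
  constructor
  · rintro ⟨x, rfl⟩
    by_cases hx : x.right = 1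
    · left
      have hx' : x = SemidirectProduct.inl (Multiplicative.ofAdd (Multiplicative.toAdd x.left)) := by
        ext
        · simp
        · simp [hx]
      rw [hx', orderOf_inl]
      by_cases hv : Multiplicative.toAdd x.left = 0
      · rw [hv, addOrderOf_zero]
        exact one_dvd _
      · rw [addOrderOf_eq p _ hv]
    · right
      rw [orderOf_of_ne_one _ x hx, ← Subgroup.orderOf_coe]
      exact orderOf_dvd_of_mem_zpowers x.right.2
  · rintro (h | h)
    · rcases (Nat.dvd_prime (Fact.out : p.Prime)).1 h with rfl | rfl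
      · exact ⟨1, orderOf_one⟩
      · refine ⟨SemidirectProduct.inl (Multiplicative.ofAdd 1), ?_⟩
        rw [orderOf_inl, addOrderOf_eq _ _ one_ne_zero]
    · have hm : 0 < orderOf ζ := orderOf_pos ζ
      obtain ⟨e, he⟩ := h
      have hn0 : n ≠ 0 := by
        rintro rfl
        rw [zero_mul] at he
        omega
      have he0 : e ≠ 0 := by
        rintro rfl
        rw [mul_zero] at he
        omega
      have hord : orderOf (ζ ^ e) = n := by
        rw [orderOf_pow_of_dvd he0 ⟨n, by rw [he, mul_comm]⟩, he]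
        exact Nat.mul_div_cancel _ (Nat.pos_of_ne_zero he0)
      refine ⟨SemidirectProduct.inr ⟨ζ ^ e, Subgroup.pow_mem _ (Subgroup.mem_zpowers ζ) e⟩, ?_⟩
      rw [orderOf_injective _ SemidirectProduct.inr_injective, ← Subgroup.orderOf_coe]
      exact hord

/-- element orders of a product -/
theorem range_orderOf_prod {α β : Type*} [Monoid α] [Monoid β] :
    Set.range (orderOf : α × β → ℕ) = {n | ∃ a ∈ Set.range (orderOf : α → ℕ),
      ∃ b ∈ Set.range (orderOf : β → ℕ), n = Nat.lcm a b} := by
  ext n
  simp only [Set.mem_range, Set.mem_ofPred_eq]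
  constructor
  · rintro ⟨x, rfl⟩
    exact ⟨_, ⟨x.1, rfl⟩, _, ⟨x.2, rfl⟩, Prod.orderOf x⟩
  · rintro ⟨_, ⟨a, rfl⟩, _, ⟨b, rfl⟩, rfl⟩
    exact ⟨(a, b), Prod.orderOf _⟩

end Cfsg.Agent.H9.AffSpec
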