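import Cfsg.Agent.H9.GfsSimple3

/-!
Ambient form of the certificate `Cert2`: the group is a subgroup `A` of an ambient group `X`,
and every datum is a subgroup of `X`.
-/

set_option autoImplicit false

namespace Cfsg.Agent.H9.AltF

open Cfsg Cfsg.Agent.H9.GfsSimple3

variable {X : Type*} [Group X]

/-- ambient version of `pNormGen`: generated by the `p`-elements of `A` normalizing `R` -/
def pNG (A : Subgroup X) (p : ℕ) (R : Subgroup X) : Subgroup X :=
  Subgroup.closure {g : X | g ∈ A ∧ g ∈ Subgroup.normalizer (R : Set X) ∧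
    ∃ k : ℕ, orderOf g = p ^ k}

/-- ambient version of `CentricIn` -/
def CentricA (A S0 R : Subgroup X) : Prop :=
  R ≤ S0 ∧ ∀ g ∈ A, (∀ x ∈ R, g * x * g⁻¹ ∈ S0) →
    ∀ y ∈ S0, (∀ x ∈ R, y * (g * x * g⁻¹) = g * x * g⁻¹ * y) → ∃ x ∈ R, y = g * x * g⁻¹

/-- ambient version of `genSub` -/
def genA (A : Subgroup X) (p : ℕ) (S0 : Subgroup X) : Subgroup X :=
  Subgroup.closure {g : X | g ∈ A ∧ g ∈ Subgroup.normalizer (S0 : Set X) ∧
    ∃ R : Subgroup X, CentricA A S0 R ∧ g ∈ pNG A p R}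

/-- ambient version of `Cert2` -/
structure CertA (A : Subgroup X) (p : ℕ) (S0 : Subgroup X) : Prop where
  le : S0 ≤ A
  card : Nat.card S0 = p ^ (Nat.card A).factorization p
  ne : S0 ≠ ⊥
  sc : ∀ T : Subgroup X, T ≤ S0 →
    (∀ x ∈ T, ∀ g ∈ A, g * x * g⁻¹ ∈ S0 → g * x * g⁻¹ ∈ T) → T = ⊥ ∨ T = S0
  gen : ∀ g ∈ A, g ∈ Subgroup.normalizer (S0 : Set X) → ∃ g' ∈ genA A p S0,
    ∀ x ∈ S0, g * x * g⁻¹ = g' * x * g'⁻¹

theorem pNG_le (A : Subgroup X) (p : ℕ) (R : Subgroup X) : pNG A p R ≤ A := by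
  unfold pNG
  rw [Subgroup.closure_le]
  rintro g ⟨hg, -⟩
  exact hg

theorem genA_le (A : Subgroup X) (p : ℕ) (S0 : Subgroup X) : genA A p S0 ≤ A := by
  unfold genA
  rw [Subgroup.closure_le]
  rintro g ⟨hg, -⟩
  exact hg

theorem pNG_le_map (A : Subgroup X) (p : ℕ) (R : Subgroup X) :
    pNG A p R ≤ (pNormGen p (R.subgroupOf A)).map A.subtype := by
  unfold pNG
  rw [Subgroup.closure_le]
  rintro g ⟨hgA, hgN, k, hk⟩
  refine ⟨⟨g, hgA⟩, ?_, rfl⟩
  apply Subgroup.subset_closure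
  refine ⟨?_, k, ?_⟩
  · rw [Subgroup.mem_normalizer_iff]
    intro x
    rw [Subgroup.mem_subgroupOf, Subgroup.mem_subgroupOf]
    exact Subgroup.mem_normalizer_iff.mp hgN x
  · rw [← hk]
    exact Subgroup.orderOf_mk g hgA

theorem centricIn_of_centricA (A S0 R : Subgroup X) (hS0A : S0 ≤ A) (h : CentricA A S0 R) :
    CentricIn (S0.subgroupOf A) (R.subgroupOf A) := by
  obtain ⟨hR, h⟩ := h
  refine ⟨fun x hx => ?_, ?_⟩
  · rw [Subgroup.mem_subgroupOf] at hx ⊢
    exact hR hx
  · intro g hg y hy hc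
    rw [Subgroup.mem_subgroupOf] at hy
    obtain ⟨x, hx, hxy⟩ := h g.1 g.2 (fun x hx => by
      have := hg ⟨x, hS0A (hR hx)⟩ (by rw [Subgroup.mem_subgroupOf]; exact hx)
      rw [Subgroup.mem_subgroupOf] at this
      exact this) y.1 hy (fun x hx => by
      have := hc ⟨x, hS0A (hR hx)⟩ (by rw [Subgroup.mem_subgroupOf]; exact hx)
      exact congrArg Subtype.val this)
    refine ⟨⟨x, hS0A (hR hx)⟩, by rw [Subgroup.mem_subgroupOf]; exact hx, ?_⟩
    apply Subtype.ext
    exact hxy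

theorem genA_le_map (A : Subgroup X) (p : ℕ) (S0 : Subgroup X) (hS0A : S0 ≤ A) :
    genA A p S0 ≤ (genSub p (S0.subgroupOf A)).map A.subtype := by
  unfold genA
  rw [Subgroup.closure_le]
  rintro g ⟨hgA, hgN, R, hR, hgR⟩
  obtain ⟨g', hg', hgg'⟩ := pNG_le_map A p R hgR
  have hg'' : g' = ⟨g, hgA⟩ := Subtype.ext hgg'
  refine ⟨⟨g, hgA⟩, ?_, rfl⟩
  apply Subgroup.subset_closure
  refine ⟨?_, R.subgroupOf A, centricIn_of_centricA A S0 R hS0A hR, hg'' ▸ hg'⟩
  rw [Subgroup.mem_normalizer_iff]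
  intro x
  rw [Subgroup.mem_subgroupOf, Subgroup.mem_subgroupOf]
  exact Subgroup.mem_normalizer_iff.mp hgN x

/-- the ambient certificate gives the certificate -/
theorem cert2_of_certA (A : Subgroup X) (p : ℕ) (S0 : Subgroup X) (h : CertA A p S0) :
    Cert2 p (S0.subgroupOf A) := by
  obtain ⟨hle, hcard, hne, hsc, hgen⟩ := h
  refine ⟨?_, ?_, ?_, ?_⟩
  · rw [← hcard]
    exact Nat.card_congr (Subgroup.subgroupOfEquivOfLe hle).toEquiv
  · intro hbot
    apply hne
    rw [eq_bot_iff]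
    intro x hx
    have : (⟨x, hle hx⟩ : A) ∈ S0.subgroupOf A := by rw [Subgroup.mem_subgroupOf]; exact hx
    rw [hbot, Subgroup.mem_bot] at this
    rw [Subgroup.mem_bot]
    exact congrArg Subtype.val this
  · intro T hT hcl
    have hT' : T.map A.subtype ≤ S0 := by
      rintro _ ⟨x, hx, rfl⟩
      have := hT hx
      rw [Subgroup.mem_subgroupOf] at this
      exact this
    rcases hsc (T.map A.subtype) hT' (by
      rintro _ ⟨x, hx, rfl⟩ g hgA hgS
      have := hcl x hx ⟨g, hgA⟩ (by rw [Subgroup.mem_subgroupOf]; exact hgS)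
      exact ⟨_, this, rfl⟩) with h1 | h1
    · left
      rw [eq_bot_iff]
      intro x hx
      have : A.subtype x ∈ T.map A.subtype := ⟨x, hx, rfl⟩
      rw [h1, Subgroup.mem_bot] at this
      rw [Subgroup.mem_bot]
      exact Subtype.ext this
    · right
      apply le_antisymm hT
      intro x hx
      rw [Subgroup.mem_subgroupOf, ← h1] at hx
      obtain ⟨y, hy, hyx⟩ := hx
      have : y = x := Subtype.ext hyx
      rwa [← this]
  · intro g hg
    have hgN : (g : X) ∈ Subgroup.normalizer (S0 : Set X) := by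
      rw [Subgroup.mem_normalizer_iff]
      intro x
      constructor
      · intro hx
        have := (Subgroup.mem_normalizer_iff.mp hg ⟨x, hle hx⟩).mp
          (by rw [Subgroup.mem_subgroupOf]; exact hx)
        rw [Subgroup.mem_subgroupOf] at this
        exact this
      · intro hx
        have hxA : x ∈ A := by
          have h1 : x = (g : X)⁻¹ * ((g : X) * x * (g : X)⁻¹) * (g : X) := by group
          rw [h1]
          exact A.mul_mem (A.mul_mem (A.inv_mem g.2) (hle hx)) g.2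
        have := (Subgroup.mem_normalizer_iff.mp hg ⟨x, hxA⟩).mpr
          (by rw [Subgroup.mem_subgroupOf]; exact hx)
        rw [Subgroup.mem_subgroupOf] at this
        exact this
    obtain ⟨g', hg', hgg'⟩ := hgen g.1 g.2 hgN
    obtain ⟨g'', hg'', rfl⟩ := genA_le_map A p S0 hle hg'
    refine ⟨g'', hg'', ?_⟩
    intro x hx
    rw [Subgroup.mem_subgroupOf] at hx
    apply Subtype.ext
    exact hgg' x.1 hx

/-- a subgroup containing its centralizer is centric -/
theorem centricA_of_centralizer_le (A S0 R : Subgroup X) (hR : R ≤ S0)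
    (h : ∀ z : X, (∀ x ∈ R, z * x = x * z) → z ∈ R) : CentricA A S0 R := by
  refine ⟨hR, ?_⟩
  intro g _ _ y _ hcomm
  refine ⟨g⁻¹ * y * g, ?_, by group⟩
  apply h
  intro x hx
  have h1 := hcomm x hx
  calc g⁻¹ * y * g * x = g⁻¹ * (y * (g * x * g⁻¹)) * g := by group
    _ = g⁻¹ * (g * x * g⁻¹ * y) * g := by rw [h1]
    _ = x * (g⁻¹ * y * g) := by group

/-- `pNG` is normalized by the normalizer of `R`, when `A` is normal -/
theorem conj_mem_pNG (A : Subgroup X) [A.Normal] (p : ℕ) (R : Subgroup X) (g : X)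
    (hg : g ∈ Subgroup.normalizer (R : Set X)) (h : X) (hh : h ∈ pNG A p R) :
    g * h * g⁻¹ ∈ pNG A p R := by
  unfold pNG at hh ⊢
  induction hh using Subgroup.closure_induction with
  | mem a ha =>
    obtain ⟨haA, haN, k, hk⟩ := ha
    apply Subgroup.subset_closure
    refine ⟨Subgroup.Normal.conj_mem inferInstance a haA g, ?_, k, ?_⟩
    · exact Subgroup.mul_mem _ (Subgroup.mul_mem _ hg haN) (Subgroup.inv_mem _ hg)
    · rw [← hk]
      have := (MulAut.conj g).orderOf_eq a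
      simpa using this
  | one => simp
  | mul a b _ _ iha ihb =>
    have : g * (a * b) * g⁻¹ = (g * a * g⁻¹) * (g * b * g⁻¹) := by group
    rw [this]
    exact Subgroup.mul_mem _ iha ihb
  | inv a _ iha =>
    have : g * a⁻¹ * g⁻¹ = (g * a * g⁻¹)⁻¹ := by group
    rw [this]
    exact Subgroup.inv_mem _ iha

/-- a `p`-subgroup lies in its own `genA` -/
theorem le_genA_self [Finite X] (A : Subgroup X) (p : ℕ) [hp : Fact p.Prime]
    (S0 : Subgroup X) (hS0A : S0 ≤ A) (hS0 : IsPGroup p S0) : S0 ≤ genA A p S0 := by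
  intro u hu
  apply Subgroup.subset_closure
  have huN : u ∈ Subgroup.normalizer (S0 : Set X) := Subgroup.le_normalizer hu
  refine ⟨hS0A hu, huN, S0, ?_, ?_⟩
  · refine ⟨le_rfl, ?_⟩
    intro g _ hgS y hy hc
    -- conjugation by g maps S0 into S0, hence onto
    have hinj : Function.Injective (fun x : S0 => (⟨g * x.1 * g⁻¹, hgS x.1 x.2⟩ : S0)) := by
      intro a b hab
      have := congrArg Subtype.val hab
      simp only [mul_left_inj, mul_right_inj] at this
      exact Subtype.ext this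
    have hsurj := Finite.surjective_of_injective hinj
    obtain ⟨x, hx⟩ := hsurj ⟨y, hy⟩
    exact ⟨x.1, x.2, (congrArg Subtype.val hx).symm⟩
  · apply Subgroup.subset_closure
    obtain ⟨k, hk⟩ := (IsPGroup.iff_orderOf.mp hS0) ⟨u, hu⟩
    refine ⟨hS0A hu, huN, k, ?_⟩
    rw [← hk]
    exact (Subgroup.orderOf_mk u hu).symm

end Cfsg.Agent.H9.AltF
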