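import Cfsg.Agent.H9.AltFa
import Cfsg.Agent.Lib.Helper7.SylGen

/-!
Affine permutations of `α × ZMod p`, the extension `lft` to `(α × ZMod p) ⊕ ρ`, supports.
-/

set_option autoImplicit false

namespace Cfsg.Agent.H9.AltF

open Equiv Cfsg.Agent.Lib.Helper7.SylGen

section lft

variable {U : Type*} (ρ : Type*)

/-- extension of a permutation of `U` to `U ⊕ ρ` -/
def lft : Perm U →* Perm (U ⊕ ρ) :=
  (Perm.sumCongrHom U ρ).comp (MonoidHom.inl _ _)

@[simp] theorem lft_inl (g : Perm U) (x : U) : lft ρ g (Sum.inl x) = Sum.inl (g x) := by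
  simp [lft]

@[simp] theorem lft_inr (g : Perm U) (y : ρ) : lft ρ g (Sum.inr y) = Sum.inr y := by
  simp [lft]

theorem lft_injective : Function.Injective (lft (U := U) ρ) := by
  intro g h hgh
  ext x
  have := congrArg (fun e : Perm (U ⊕ ρ) => e (Sum.inl x)) hgh
  simpa using this

theorem sign_lft [Fintype U] [DecidableEq U] [Fintype ρ] [DecidableEq ρ] (g : Perm U) :
    Perm.sign (lft ρ g) = Perm.sign g := by
  simp [lft]

theorem support_lft [Fintype U] [DecidableEq U] [Fintype ρ] [DecidableEq ρ] (g : Perm U) :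
    (lft ρ g).support = g.support.map ⟨Sum.inl, Sum.inl_injective⟩ := by
  ext x
  rcases x with x | y
  · simp [Perm.mem_support]
  · simp [Perm.mem_support]

theorem card_support_lft [Fintype U] [DecidableEq U] [Fintype ρ] [DecidableEq ρ] (g : Perm U) :
    (lft ρ g).support.card = g.support.card := by
  rw [support_lft, Finset.card_map]

/-- a permutation of `U ⊕ ρ` preserving `U` pointwise-setwise and fixing `ρ` is a lift -/
theorem eq_lft_of [Subsingleton ρ] (g : Perm (U ⊕ ρ)) (h : Perm U)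
    (hg : ∀ x : U, g (Sum.inl x) = Sum.inl (h x)) : g = lft ρ h := by
  have hr : ∀ y : ρ, g (Sum.inr y) = Sum.inr y := by
    intro y
    rcases hgy : g (Sum.inr y) with x | y'
    · exfalso
      have h1 : g (Sum.inl (h⁻¹ x)) = Sum.inl x := by rw [hg]; simp
      have := g.injective (h1.trans hgy.symm)
      exact Sum.inl_ne_inr this
    · rw [Subsingleton.elim y' y]
  ext x
  rcases x with x | y
  · rw [hg, lft_inl]
  · rw [hr, lft_inr]

end lft

section aff

variable (p : ℕ) [hp : Fact p.Prime] {α : Type*}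

/-- the affine permutation `(a, b) ↦ (σ a, l a * b + f a)` -/
def aff (l : α → (ZMod p)ˣ) (σ : Perm α) (f : α → ZMod p) : Perm (α × ZMod p) where
  toFun x := (σ x.1, (l x.1 : ZMod p) * x.2 + f x.1)
  invFun x := (σ.symm x.1, ((l (σ.symm x.1))⁻¹ : (ZMod p)ˣ) * (x.2 - f (σ.symm x.1)))
  left_inv x := by
    obtain ⟨a, b⟩ := x
    show (σ.symm (σ a), ((l (σ.symm (σ a)))⁻¹ : (ZMod p)ˣ) *
      ((l a : ZMod p) * b + f a - f (σ.symm (σ a)))) = (a, b)
    rw [Equiv.symm_apply_apply, add_sub_cancel_right, ← mul_assoc, Units.inv_mul, one_mul]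
  right_inv x := by
    obtain ⟨a, b⟩ := x
    show (σ (σ.symm a), (l (σ.symm a) : ZMod p) *
      (((l (σ.symm a))⁻¹ : (ZMod p)ˣ) * (b - f (σ.symm a))) + f (σ.symm a)) = (a, b)
    rw [Equiv.apply_symm_apply, ← mul_assoc, Units.mul_inv, one_mul, sub_add_cancel]

@[simp] theorem aff_apply (l : α → (ZMod p)ˣ) (σ : Perm α) (f : α → ZMod p) (x : α × ZMod p) :
    aff p l σ f x = (σ x.1, (l x.1 : ZMod p) * x.2 + f x.1) := rfl

theorem aff_mul (l l' : α → (ZMod p)ˣ) (σ σ' : Perm α) (f f' : α → ZMod p) :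
    aff p l σ f * aff p l' σ' f' =
      aff p (fun a => l (σ' a) * l' a) (σ * σ') (fun a => (l (σ' a) : ZMod p) * f' a + f (σ' a)) := by
  ext x
  · simp
  · simp only [Perm.coe_mul, Function.comp_apply, aff_apply, Units.val_mul]
    ring

theorem aff_one : aff p (fun _ : α => 1) 1 (fun _ => 0) = 1 := by
  ext x <;> simp

theorem mk_eq_aff (σ : Perm α) (f : α → ZMod p) : mk p σ f = aff p (fun _ => 1) σ f := by
  ext x <;> simp

theorem aff_inv (l : α → (ZMod p)ˣ) (σ : Perm α) (f : α → ZMod p) :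
    (aff p l σ f)⁻¹ = aff p (fun a => (l (σ.symm a))⁻¹) σ⁻¹
      (fun a => - (((l (σ.symm a))⁻¹ : (ZMod p)ˣ) : ZMod p) * f (σ.symm a)) := by
  symm
  apply eq_inv_of_mul_eq_one_left
  rw [aff_mul, ← aff_one p]
  congr 1
  · funext a
    show (l (σ.symm (σ a)))⁻¹ * l a = 1
    rw [Equiv.symm_apply_apply, inv_mul_cancel]
  · simp
  · funext a
    show (((l (σ.symm (σ a)))⁻¹ : (ZMod p)ˣ) : ZMod p) * f a +
      - (((l (σ.symm (σ a)))⁻¹ : (ZMod p)ˣ) : ZMod p) * f (σ.symm (σ a)) = 0
    rw [Equiv.symm_apply_apply]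
    ring

theorem aff_injective (l l' : α → (ZMod p)ˣ) (σ σ' : Perm α) (f f' : α → ZMod p)
    (h : aff p l σ f = aff p l' σ' f') : l = l' ∧ σ = σ' ∧ f = f' := by
  have h0 : ∀ a : α, aff p l σ f (a, 0) = aff p l' σ' f' (a, 0) := fun a => by rw [h]
  have h1 : ∀ a : α, aff p l σ f (a, 1) = aff p l' σ' f' (a, 1) := fun a => by rw [h]
  have hσ : σ = σ' := by
    ext a
    have := congrArg Prod.fst (h0 a)
    simpa using this
  have hf : f = f' := by
    funext a
    have := congrArg Prod.snd (h0 a)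
    simpa using this
  refine ⟨?_, hσ, hf⟩
  funext a
  have := congrArg Prod.snd (h1 a)
  simp only [aff_apply, mul_one] at this
  rw [hf] at this
  exact Units.ext (add_right_cancel this)

end aff

end Cfsg.Agent.H9.AltF
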