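import Cfsg.Agent.H9.AltFb

/-!
Supports of wreath elements; permutations conjugating the base cycles to base cycles are affine.
-/

set_option autoImplicit false

namespace Cfsg.Agent.H9.AltF

open Equiv Cfsg.Agent.Lib.Helper7.SylGen

variable (p : ℕ) [hp : Fact p.Prime] {α : Type*}

/-- the base element `c_a ^ v` -/
def cc [DecidableEq α] (a : α) (v : ZMod p) : Perm (α × ZMod p) := mk p 1 (Pi.single a v)

theorem cc_apply [DecidableEq α] (a : α) (v : ZMod p) (x : α × ZMod p) :
    cc p a v x = (x.1, x.2 + (Pi.single a v : α → ZMod p) x.1) := rfl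

theorem cc_apply_self [DecidableEq α] (a : α) (v b : ZMod p) :
    cc p a v (a, b) = (a, b + v) := by
  rw [cc_apply]; simp

theorem cc_apply_ne [DecidableEq α] (a a' : α) (v b : ZMod p) (h : a' ≠ a) :
    cc p a v (a', b) = (a', b) := by
  rw [cc_apply]; simp [Pi.single_eq_of_ne h]

theorem mk_apply_ne_iff (σ : Perm α) (f : α → ZMod p) (x : α × ZMod p) :
    mk p σ f x ≠ x ↔ σ x.1 ≠ x.1 ∨ f x.1 ≠ 0 := by
  obtain ⟨a, b⟩ := x
  simp only [mk_apply, ne_eq, Prod.mk.injEq, add_eq_left, not_and_or]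

section fin

variable [Fintype α] [DecidableEq α]

theorem support_mk (σ : Perm α) (f : α → ZMod p) :
    (mk p σ f).support = (Finset.univ.filter (fun a => σ a ≠ a ∨ f a ≠ 0)) ×ˢ Finset.univ := by
  ext x
  rw [Perm.mem_support, mk_apply_ne_iff]
  simp

theorem card_support_mk (σ : Perm α) (f : α → ZMod p) :
    (mk p σ f).support.card = (Finset.univ.filter (fun a => σ a ≠ a ∨ f a ≠ 0)).card * p := by
  rw [support_mk, Finset.card_product, Finset.card_univ, ZMod.card]

/-- a wreath element with exactly `p` moved points is a base element -/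
theorem mk_of_card_support_eq (σ : Perm α) (f : α → ZMod p)
    (h : (mk p σ f).support.card = p) : σ = 1 ∧ ∃ a v, v ≠ 0 ∧ f = Pi.single a v := by
  have hp0 : 0 < p := hp.out.pos
  rw [card_support_mk] at h
  have h1 : (Finset.univ.filter (fun a => σ a ≠ a ∨ f a ≠ 0)).card = 1 := by
    have : (Finset.univ.filter (fun a => σ a ≠ a ∨ f a ≠ 0)).card * p = 1 * p := by rw [h, one_mul]
    exact Nat.eq_of_mul_eq_mul_right hp0 this
  obtain ⟨a0, ha0⟩ := Finset.card_eq_one.mp h1
  have hmem : ∀ a, (σ a ≠ a ∨ f a ≠ 0) ↔ a = a0 := by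
    intro a
    have : a ∈ Finset.univ.filter (fun a => σ a ≠ a ∨ f a ≠ 0) ↔ a ∈ ({a0} : Finset α) := by
      rw [ha0]
    simpa using this
  have hσ : σ = 1 := by
    ext a
    by_contra hne
    have e1 : a = a0 := (hmem a).mp (Or.inl hne)
    have e2 : σ a = a0 := (hmem (σ a)).mp (Or.inl (fun h => hne (σ.injective h)))
    exact hne (by rw [Perm.one_apply, e2, e1])
  refine ⟨hσ, a0, f a0, ?_, ?_⟩
  · rcases (hmem a0).mpr rfl with h | h
    · rw [hσ] at h; exact absurd rfl h
    · exact h
  · funext a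
    by_cases ha : a = a0
    · rw [ha]; simp
    · rw [Pi.single_eq_of_ne ha]
      by_contra hne
      exact ha ((hmem a).mp (Or.inr hne))

end fin

section affine

variable [Finite α] [DecidableEq α] (ρ : Type*) [Subsingleton ρ]

/-- a permutation conjugating each base cycle to a base element is affine -/
theorem affine_of_conj (g : Perm ((α × ZMod p) ⊕ ρ))
    (h : ∀ a : α, ∃ (a' : α) (v : ZMod p), v ≠ 0 ∧
      g * lft ρ (cc p a 1) * g⁻¹ = lft ρ (cc p a' v)) :
    ∃ (l : α → (ZMod p)ˣ) (σ : Perm α) (f : α → ZMod p), g = lft ρ (aff p l σ f) ∧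
      ∀ a, g * lft ρ (cc p a 1) * g⁻¹ = lft ρ (cc p (σ a) (l a)) := by
  have hp1 : (1 : ZMod p) ≠ 0 := by
    haveI : Fact (1 < p) := ⟨hp.out.one_lt⟩
    exact one_ne_zero
  choose σ0 v hv hconj using h
  have hconj' : ∀ a x, g (lft ρ (cc p a 1) x) = lft ρ (cc p (σ0 a) (v a)) (g x) := by
    intro a x
    have := congrArg (fun e : Perm ((α × ZMod p) ⊕ ρ) => e (g x)) (hconj a)
    simpa using this
  have key1 : ∀ a b, ∃ b', g (Sum.inl (a, b)) = Sum.inl (σ0 a, b') := by
    intro a b
    have h1 := hconj' a (Sum.inl (a, b))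
    rw [lft_inl, cc_apply_self] at h1
    have hne : g (Sum.inl (a, b + 1)) ≠ g (Sum.inl (a, b)) := by
      intro h2
      have h3 := Sum.inl_injective (g.injective h2)
      have h4 : b + 1 = b := congrArg Prod.snd h3
      exact hp1 (by simpa using h4)
    rw [h1] at hne
    rcases hgx : g (Sum.inl (a, b)) with ⟨a'', b''⟩ | y
    · rw [hgx, lft_inl] at hne
      by_cases ha : a'' = σ0 a
      · exact ⟨b'', by rw [ha]⟩
      · exfalso
        apply hne
        rw [cc_apply_ne p _ _ _ _ ha]
    · rw [hgx, lft_inr] at hne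
      exact absurd rfl hne
  choose π hπ using key1
  have hrec : ∀ a b, π a (b + 1) = π a b + v a := by
    intro a b
    have h1 := hconj' a (Sum.inl (a, b))
    rw [lft_inl, cc_apply_self, hπ, hπ, lft_inl, cc_apply_self] at h1
    exact congrArg Prod.snd (Sum.inl_injective h1)
  have hnat : ∀ a (k : ℕ), π a (k : ZMod p) = π a 0 + v a * k := by
    intro a k
    induction k with
    | zero => simp
    | succ k ih =>
      rw [Nat.cast_succ, hrec, ih]
      ring
  have hlin : ∀ a b, π a b = v a * b + π a 0 := by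
    intro a b
    haveI : NeZero p := ⟨hp.out.ne_zero⟩
    have := hnat a b.val
    rw [ZMod.natCast_zmod_val] at this
    rw [this]; ring
  have hinj : Function.Injective σ0 := by
    intro a1 a2 h12
    have hb : π a2 ((π a1 0 - π a2 0) * (v a2)⁻¹) = π a1 0 := by
      rw [hlin a2]
      field_simp [hv a2]
      ring
    have h1 : g (Sum.inl (a2, (π a1 0 - π a2 0) * (v a2)⁻¹)) = g (Sum.inl (a1, 0)) := by
      rw [hπ, hπ, hb, h12]
    have h2 := Sum.inl_injective (g.injective h1)
    exact (congrArg Prod.fst h2).symm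
  have hbij : Function.Bijective σ0 := Finite.injective_iff_bijective.mp hinj
  refine ⟨fun a => Units.mk0 (v a) (hv a), Equiv.ofBijective σ0 hbij, fun a => π a 0, ?_, ?_⟩
  · apply eq_lft_of
    intro x
    obtain ⟨a, b⟩ := x
    rw [hπ, hlin]
    rfl
  · intro a
    rw [hconj a]
    rfl

end affine

end Cfsg.Agent.H9.AltF
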