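import Cfsg.Agent.H9.AltFc

/-!
The group `P0 = (wr p H).map lft` and its normalizer.
-/

set_option autoImplicit false

namespace Cfsg.Agent.H9.AltF

open Equiv Cfsg.Agent.Lib.Helper7.SylGen

variable (p : ℕ) [hp : Fact p.Prime] {α : Type*}

/-- the wreath group inside `Perm ((α × ZMod p) ⊕ ρ)` -/
def P0 (ρ : Type*) (H : Subgroup (Perm α)) : Subgroup (Perm ((α × ZMod p) ⊕ ρ)) :=
  (wr p H).map (lft ρ)

theorem mem_P0 (ρ : Type*) (H : Subgroup (Perm α)) (g : Perm ((α × ZMod p) ⊕ ρ)) :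
    g ∈ P0 p ρ H ↔ ∃ σ ∈ H, ∃ f : α → ZMod p, g = lft ρ (mk p σ f) := by
  constructor
  · rintro ⟨_, ⟨σ, hσ, f, rfl⟩, rfl⟩
    exact ⟨σ, hσ, f, rfl⟩
  · rintro ⟨σ, hσ, f, rfl⟩
    exact ⟨_, ⟨σ, hσ, f, rfl⟩, rfl⟩

theorem cc_mem_P0 [DecidableEq α] (ρ : Type*) (H : Subgroup (Perm α)) (a : α) (v : ZMod p) :
    lft ρ (cc p a v) ∈ P0 p ρ H :=
  (mem_P0 p ρ H _).mpr ⟨1, H.one_mem, _, rfl⟩

theorem card_support_cc [Fintype α] [DecidableEq α] (a : α) (v : ZMod p) (hv : v ≠ 0) :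
    (cc p a v).support.card = p := by
  unfold cc
  rw [card_support_mk]
  have : Finset.univ.filter (fun a' : α => (1 : Perm α) a' ≠ a' ∨
      (Pi.single a v : α → ZMod p) a' ≠ 0) = {a} := by
    ext a'
    simp only [Perm.one_apply, ne_eq, not_true_eq_false, false_or, Finset.mem_filter,
      Finset.mem_univ, true_and, Finset.mem_singleton]
    constructor
    · intro h
      by_contra hne
      apply h
      rw [Pi.single_eq_of_ne hne]
    · rintro rfl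
      simpa using hv
  rw [this, Finset.card_singleton, one_mul]

section nrm

variable [Fintype α] [DecidableEq α] (ρ : Type*) [Fintype ρ] [DecidableEq ρ] [Subsingleton ρ]
  (H : Subgroup (Perm α))

/-- elements normalizing `P0` are affine -/
theorem affine_of_mem_normalizer (g : Perm ((α × ZMod p) ⊕ ρ))
    (hg : g ∈ Subgroup.normalizer ((P0 p ρ H : Subgroup _) : Set (Perm ((α × ZMod p) ⊕ ρ)))) :
    ∃ (l : α → (ZMod p)ˣ) (σ : Perm α) (f : α → ZMod p), g = lft ρ (aff p l σ f) ∧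
      ∀ a, g * lft ρ (cc p a 1) * g⁻¹ = lft ρ (cc p (σ a) (l a)) := by
  have hp1 : (1 : ZMod p) ≠ 0 := by
    have : Fact (1 < p) := ⟨hp.out.one_lt⟩
    exact one_ne_zero
  apply affine_of_conj
  intro a
  have h1 := (Subgroup.mem_normalizer_iff.mp hg _).mp (cc_mem_P0 p ρ H a 1)
  obtain ⟨σ', _, f', h2⟩ := (mem_P0 p ρ H _).mp h1
  have h3 : (mk p σ' f').support.card = p := by
    rw [← card_support_lft ρ, ← h2, Perm.card_support_conj, card_support_lft,
      card_support_cc p a 1 hp1]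
  obtain ⟨rfl, a', v', hv', rfl⟩ := mk_of_card_support_eq p σ' f' h3
  exact ⟨a', v', hv', h2⟩

omit [Fintype α] [DecidableEq α] [Fintype ρ] [DecidableEq ρ] [Subsingleton ρ] in
/-- the commutation rule of an affine element with a wreath element -/
theorem aff_mul_mk (l : α → (ZMod p)ˣ) (σ : Perm α) (f : α → ZMod p) (τ : Perm α)
    (h : α → ZMod p) (hl : ∀ a, l (τ a) = l a) :
    aff p l σ f * mk p τ h =
      mk p (σ * τ * σ⁻¹) (fun a => (l (τ (σ.symm a)) : ZMod p) * h (σ.symm a) +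
        f (τ (σ.symm a)) - f (σ.symm a)) * aff p l σ f := by
  ext x
  · simp
  · obtain ⟨a, b⟩ := x
    simp only [Perm.coe_mul, Function.comp_apply, mk_apply, aff_apply, Equiv.symm_apply_apply]
    rw [hl a]
    ring

omit [Fintype α] [DecidableEq α] [Fintype ρ] [DecidableEq ρ] [Subsingleton ρ] in
theorem aff_conj_mk (l : α → (ZMod p)ˣ) (σ : Perm α) (f : α → ZMod p) (τ : Perm α)
    (h : α → ZMod p) (hl : ∀ a, l (τ a) = l a) :
    aff p l σ f * mk p τ h * (aff p l σ f)⁻¹ =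
      mk p (σ * τ * σ⁻¹) (fun a => (l (τ (σ.symm a)) : ZMod p) * h (σ.symm a) +
        f (τ (σ.symm a)) - f (σ.symm a)) := by
  rw [aff_mul_mk p l σ f τ h hl, mul_inv_cancel_right]

omit [Subsingleton ρ] in
/-- affine elements with `σ` normalizing `H` and `H`-invariant multipliers normalize `P0` -/
theorem aff_mem_normalizer (l : α → (ZMod p)ˣ) (σ : Perm α) (f : α → ZMod p)
    (hσ : ∀ τ ∈ H, σ * τ * σ⁻¹ ∈ H) (hl : ∀ τ ∈ H, ∀ a, l (τ a) = l a) :
    lft ρ (aff p l σ f) ∈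
      Subgroup.normalizer ((P0 p ρ H : Subgroup _) : Set (Perm ((α × ZMod p) ⊕ ρ))) := by
  haveI : NeZero p := ⟨hp.out.ne_zero⟩
  apply Subgroup.mem_normalizer_fintype
  intro n hn
  obtain ⟨τ, hτ, h, rfl⟩ := (mem_P0 p ρ H n).mp hn
  rw [SetLike.mem_coe, ← map_inv, ← map_mul, ← map_mul, aff_conj_mk p l σ f τ h (hl τ hτ)]
  exact (mem_P0 p ρ H _).mpr ⟨_, hσ τ hτ, _, rfl⟩

omit [Fintype α] [DecidableEq α] [Fintype ρ] [DecidableEq ρ] [Subsingleton ρ] in
/-- the top part of an affine element normalizing `P0` normalizes `H` -/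
theorem top_of_mem_normalizer (l : α → (ZMod p)ˣ) (σ : Perm α) (f : α → ZMod p)
    (hg : lft ρ (aff p l σ f) ∈
      Subgroup.normalizer ((P0 p ρ H : Subgroup _) : Set (Perm ((α × ZMod p) ⊕ ρ))))
    (τ : Perm α) (hτ : τ ∈ H) : σ * τ * σ⁻¹ ∈ H := by
  have h1 := (Subgroup.mem_normalizer_iff.mp hg _).mp
    ((mem_P0 p ρ H _).mpr ⟨τ, hτ, fun _ => 0, rfl⟩)
  obtain ⟨τ', hτ', h', h2⟩ := (mem_P0 p ρ H _).mp h1
  rw [← map_inv, ← map_mul, ← map_mul] at h2
  have h3 := lft_injective ρ h2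
  have h4 : aff p l σ f * mk p τ (fun _ => 0) = mk p τ' h' * aff p l σ f := by
    rw [← h3, inv_mul_cancel_right]
  have h5 : σ * τ = τ' * σ := by
    ext a
    have := congrArg (fun e : Perm (α × ZMod p) => (e (a, 0)).1) h4
    simpa using this
  have : σ * τ * σ⁻¹ = τ' := by rw [h5, mul_inv_cancel_right]
  rw [this]
  exact hτ'

omit [Fintype α] [DecidableEq α] [Fintype ρ] [DecidableEq ρ] [Subsingleton ρ] in
theorem aff_mem_P0 (l : α → (ZMod p)ˣ) (σ : Perm α) (f : α → ZMod p) :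
    lft ρ (aff p l σ f) ∈ P0 p ρ H ↔ (∀ a, l a = 1) ∧ σ ∈ H := by
  rw [mem_P0]
  constructor
  · rintro ⟨σ', hσ', f', h⟩
    have h2 := lft_injective ρ h
    rw [mk_eq_aff] at h2
    obtain ⟨h3, rfl, -⟩ := aff_injective p _ _ _ _ _ _ h2
    exact ⟨fun a => congrFun h3 a, hσ'⟩
  · rintro ⟨h1, h2⟩
    refine ⟨σ, h2, f, ?_⟩
    rw [mk_eq_aff]
    congr 2
    funext a
    exact h1 a

end nrm

end Cfsg.Agent.H9.AltF
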