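import Cfsg.Agent.H9.AltFd

/-!
Signs of affine permutations (odd `p`), and the multiplier product.
-/

set_option autoImplicit false

namespace Cfsg.Agent.H9.AltF

open Equiv Cfsg.Agent.Lib.Helper7.SylGen

variable (p : ℕ) [hp : Fact p.Prime] {α : Type*}

/-- the sign of multiplication by a unit on `ZMod p` -/
noncomputable def eps : (ZMod p)ˣ →* ℤˣ :=
  haveI : NeZero p := ⟨hp.out.ne_zero⟩
  Perm.sign.comp (MulAction.toPermHom (ZMod p)ˣ (ZMod p))

/-- the diagonal element -/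
def dgl (l : α → (ZMod p)ˣ) : Perm (α × ZMod p) := aff p l 1 (fun _ => 0)

theorem aff_eq_mk_mul_dgl (l : α → (ZMod p)ˣ) (σ : Perm α) (f : α → ZMod p) :
    aff p l σ f = mk p σ f * dgl p l := by
  unfold dgl
  rw [mk_eq_aff, aff_mul]
  congr 1
  · funext a; simp
  · funext a; simp

section fin

variable [Fintype α] [DecidableEq α]

theorem sign_dgl (l : α → (ZMod p)ˣ) : Perm.sign (dgl p l) = eps p (∏ a, l a) := by
  haveI : NeZero p := ⟨hp.out.ne_zero⟩
  have h : dgl p l = Equiv.prodCongrRight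
      (fun a => MulAction.toPermHom (ZMod p)ˣ (ZMod p) (l a)) := by
    ext x
    · simp [dgl]
    · simp [dgl, Units.smul_def]
  rw [h, Perm.sign_prodCongrRight, map_prod]
  rfl

theorem sign_mk_odd (hodd : p ≠ 2) (σ : Perm α) (f : α → ZMod p) :
    Perm.sign (mk p σ f) = Perm.sign σ := by
  haveI : NeZero p := ⟨hp.out.ne_zero⟩
  have hoddp : Odd p := hp.out.odd_of_ne_two hodd
  rw [mk_eq, Perm.sign_mul, sign_topHom,
    sign_eq_one_of_pow_odd p hoddp _ (baseHom_pow p _), mul_one]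
  rcases Int.units_eq_one_or (Perm.sign σ) with h | h
  · rw [h, one_pow]
  · rw [h, hoddp.neg_one_pow]

theorem sign_aff_odd (hodd : p ≠ 2) (l : α → (ZMod p)ˣ) (σ : Perm α) (f : α → ZMod p) :
    Perm.sign (aff p l σ f) = Perm.sign σ * eps p (∏ a, l a) := by
  rw [aff_eq_mk_mul_dgl, Perm.sign_mul, sign_mk_odd p hodd, sign_dgl]

end fin

end Cfsg.Agent.H9.AltF
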