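import Cfsg.Agent.H9.AltFe

/-!
Generation by `p`-elements: the even affine elements with multiplier product one lie in
`pNG A p B`, for odd `p`.
-/

set_option autoImplicit false

namespace Cfsg.Agent.H9.AltF

open Equiv Cfsg.Agent.Lib.Helper7.SylGen

variable (p : ℕ) [hp : Fact p.Prime] (α : Type*) [Fintype α] [DecidableEq α]

/-- the subgroup generated by the `p`-elements of `Perm α` -/
def pEl : Subgroup (Perm α) := Subgroup.closure {τ : Perm α | ∃ k : ℕ, orderOf τ = p ^ k}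

variable {α}

omit hp [Fintype α] [DecidableEq α] in
theorem conj_mem_pEl (g τ : Perm α) (hτ : τ ∈ pEl p α) : g * τ * g⁻¹ ∈ pEl p α := by
  unfold pEl at hτ ⊢
  induction hτ using Subgroup.closure_induction with
  | mem a ha =>
    obtain ⟨k, hk⟩ := ha
    apply Subgroup.subset_closure
    refine ⟨k, ?_⟩
    rw [← hk]
    have := (MulAut.conj g).orderOf_eq a
    simpa using this
  | one => simp
  | mul a b _ _ iha ihb =>
    have : g * (a * b) * g⁻¹ = (g * a * g⁻¹) * (g * b * g⁻¹) := by group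
    rw [this]
    exact Subgroup.mul_mem _ iha ihb
  | inv a _ iha =>
    have : g * a⁻¹ * g⁻¹ = (g * a * g⁻¹)⁻¹ := by group
    rw [this]
    exact Subgroup.inv_mem _ iha

theorem alternating_le_pEl (hodd : p ≠ 2) (τ0 : Perm α) (h1 : τ0 ^ p = 1) (h2 : τ0 ≠ 1) :
    alternatingGroup α ≤ pEl p α := by
  have hoddp : Odd p := hp.out.odd_of_ne_two hodd
  obtain ⟨x, hx⟩ : ∃ x, τ0 x ≠ x := by
    by_contra hcon
    push Not at hcon
    exact h2 (Perm.ext hcon)
  have hyz : τ0 (τ0 x) ≠ τ0 x := fun h => hx (τ0.injective h)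
  have hxz : τ0 (τ0 x) ≠ x := by
    intro h
    obtain ⟨k, hk⟩ := hoddp
    have e1 : (τ0 ^ 2) x = x := by rw [pow_two, Perm.mul_apply, h]
    have e2 : ((τ0 ^ 2) ^ (k + 1)) x = x := Perm.pow_apply_eq_self_of_apply_eq_self e1 _
    have e3 : (τ0 ^ 2) ^ (k + 1) = τ0 := by
      rw [← pow_mul]
      have : 2 * (k + 1) = p + 1 := by omega
      rw [this, pow_succ, h1, one_mul]
    rw [e3] at e2
    exact hx e2
  have hord : orderOf τ0 = p := orderOf_eq_prime h1 h2
  have hτ0 : τ0 ∈ pEl p α := Subgroup.subset_closure ⟨1, by rw [hord, pow_one]⟩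
  have ht : swap x (τ0 x) * τ0 * (swap x (τ0 x))⁻¹ * τ0⁻¹ ∈ pEl p α :=
    Subgroup.mul_mem _ (conj_mem_pEl p _ _ hτ0) (Subgroup.inv_mem _ hτ0)
  have ht2 : swap x (τ0 x) * τ0 * (swap x (τ0 x))⁻¹ * τ0⁻¹ =
      swap (τ0 x) x * swap (τ0 x) (τ0 (τ0 x)) := by
    rw [swap_inv, mul_assoc, mul_assoc, ← mul_assoc τ0, ← Equiv.swap_apply_apply, swap_comm x]
  rw [ht2] at ht
  have h3 : Perm.IsThreeCycle (swap (τ0 x) x * swap (τ0 x) (τ0 (τ0 x))) :=
    Perm.isThreeCycle_swap_mul_swap_same hx hyz.symm hxz.symm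
  rw [← Perm.closure_three_cycles_eq_alternating, Subgroup.closure_le]
  intro t' ht'
  have hconj : IsConj (swap (τ0 x) x * swap (τ0 x) (τ0 (τ0 x))) t' := by
    rw [Perm.isConj_iff_cycleType_eq, h3.cycleType, (show Perm.IsThreeCycle t' from ht').cycleType]
  obtain ⟨c, hc⟩ := isConj_iff.mp hconj
  rw [SetLike.mem_coe, ← hc]
  exact conj_mem_pEl p c _ ht

section png

variable (ρ : Type*) [Fintype ρ] [DecidableEq ρ] [Subsingleton ρ]

omit [Subsingleton ρ] in
theorem lft_aff_mem_normalizer_B (l : α → (ZMod p)ˣ) (σ : Perm α) (f : α → ZMod p) :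
    lft ρ (aff p l σ f) ∈ Subgroup.normalizer
      ((P0 p ρ (⊥ : Subgroup (Perm α)) : Subgroup _) : Set (Perm ((α × ZMod p) ⊕ ρ))) := by
  apply aff_mem_normalizer
  · intro τ hτ
    rw [Subgroup.mem_bot] at hτ
    rw [hτ]; simp
  · intro τ hτ a
    rw [Subgroup.mem_bot] at hτ
    rw [hτ]; rfl

omit [Subsingleton ρ] in
/-- affine `p`-elements are generators of `pNG` (odd `p`) -/
theorem aff_pElt_mem_pNG (hodd : p ≠ 2) (l : α → (ZMod p)ˣ) (σ : Perm α) (f : α → ZMod p)
    (k : ℕ) (h : (aff p l σ f) ^ (p ^ k) = 1) :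
    lft ρ (aff p l σ f) ∈ pNG (alternatingGroup ((α × ZMod p) ⊕ ρ)) p (P0 p ρ ⊥) := by
  have hoddp : Odd p := hp.out.odd_of_ne_two hodd
  apply Subgroup.subset_closure
  have h' : (lft ρ (aff p l σ f)) ^ (p ^ k) = 1 := by rw [← map_pow, h, map_one]
  refine ⟨?_, lft_aff_mem_normalizer_B p ρ l σ f, ?_⟩
  · rw [Perm.mem_alternatingGroup]
    exact sign_eq_one_of_pow_odd (p ^ k) hoddp.pow _ h'
  · exact (Nat.dvd_prime_pow hp.out).mp (orderOf_dvd_of_pow_eq_one h') |>.imp fun j hj => hj.2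

omit [Subsingleton ρ] in
theorem top_mem_pNG (hodd : p ≠ 2) (σ : Perm α) (hσ : σ ∈ pEl p α) :
    lft ρ (topHom p σ) ∈ pNG (alternatingGroup ((α × ZMod p) ⊕ ρ)) p (P0 p ρ ⊥) := by
  unfold pEl at hσ
  induction hσ using Subgroup.closure_induction with
  | mem τ hτ =>
    obtain ⟨k, hk⟩ := hτ
    have h1 : topHom p τ = aff p (fun _ => 1) τ (fun _ => 0) := by
      show mk p τ (fun _ => 0) = _
      exact mk_eq_aff p τ _
    rw [h1]
    apply aff_pElt_mem_pNG p ρ hodd _ _ _ k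
    rw [← h1, ← map_pow, ← hk, pow_orderOf_eq_one, map_one]
  | one => rw [map_one, map_one]; exact Subgroup.one_mem _
  | mul a b _ _ iha ihb => rw [map_mul, map_mul]; exact Subgroup.mul_mem _ iha ihb
  | inv a _ iha => rw [map_inv, map_inv]; exact Subgroup.inv_mem _ iha

omit [Subsingleton ρ] in
theorem base_mem_pNG (hodd : p ≠ 2) (f : α → ZMod p) :
    lft ρ (mk p 1 f) ∈ pNG (alternatingGroup ((α × ZMod p) ⊕ ρ)) p (P0 p ρ ⊥) := by
  haveI : NeZero p := ⟨hp.out.ne_zero⟩
  rw [mk_eq_aff]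
  apply aff_pElt_mem_pNG p ρ hodd _ _ _ 1
  rw [← mk_eq_aff, pow_one]
  exact baseHom_pow p (Multiplicative.ofAdd f)

omit [Fintype α] [DecidableEq α] in
theorem dgl_mul (l l' : α → (ZMod p)ˣ) : dgl p (l * l') = dgl p l * dgl p l' := by
  unfold dgl
  rw [aff_mul]
  congr 1
  funext a
  simp

omit [Fintype α] [DecidableEq α] in
theorem dgl_one : dgl p (1 : α → (ZMod p)ˣ) = 1 := aff_one p

omit [Fintype α] [DecidableEq α] in
theorem dgl_inv (l : α → (ZMod p)ˣ) : (dgl p l)⁻¹ = dgl p l⁻¹ := by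
  symm
  apply eq_inv_of_mul_eq_one_left
  rw [← dgl_mul, inv_mul_cancel, dgl_one]

omit [Fintype α] [DecidableEq α] in
theorem top_conj_dgl (τ : Perm α) (l : α → (ZMod p)ˣ) :
    topHom p τ * dgl p l * (topHom p τ)⁻¹ = dgl p (fun a => l (τ.symm a)) := by
  rw [mul_inv_eq_iff_eq_mul]
  have h1 : topHom p τ = aff p (fun _ => 1) τ (fun _ => 0) := by
    show mk p τ (fun _ => 0) = _
    exact mk_eq_aff p τ _
  rw [h1]
  unfold dgl
  rw [aff_mul, aff_mul]
  congr 1
  · funext a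
    simp
  · funext a
    simp

omit [Subsingleton ρ] in
/-- the basic commutator lies in `pNG` -/
theorem dgl_comm_mem_pNG (hodd : p ≠ 2) (l : α → (ZMod p)ˣ) (τ : Perm α) (hτ : τ ∈ pEl p α) :
    lft ρ (dgl p (fun a => l a * (l (τ.symm a))⁻¹)) ∈
      pNG (alternatingGroup ((α × ZMod p) ⊕ ρ)) p (P0 p ρ ⊥) := by
  have h1 : dgl p (fun a => l a * (l (τ.symm a))⁻¹) =
      dgl p l * topHom p τ * (dgl p l)⁻¹ * (topHom p τ)⁻¹ := by
    have h2 : (fun a => l a * (l (τ.symm a))⁻¹) = l * (fun a => (l⁻¹) (τ.symm a)) := by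
      funext a; simp
    rw [h2, dgl_mul, ← top_conj_dgl, ← dgl_inv]
    group
  rw [h1, map_mul, map_mul, map_mul, map_inv, map_inv]
  apply Subgroup.mul_mem
  · apply conj_mem_pNG
    · exact lft_aff_mem_normalizer_B p ρ l 1 _
    · exact top_mem_pNG p ρ hodd τ hτ
  · exact Subgroup.inv_mem _ (top_mem_pNG p ρ hodd τ hτ)

omit [Subsingleton ρ] in
theorem dgl_pair_mem_pNG (hodd : p ≠ 2) (hK : alternatingGroup α ≤ pEl p α) (a a0 x : α)
    (h : a ≠ a0) (hxa : x ≠ a) (hxa0 : x ≠ a0) (ν : (ZMod p)ˣ) :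
    lft ρ (dgl p (Pi.mulSingle a ν * Pi.mulSingle a0 ν⁻¹)) ∈
      pNG (alternatingGroup ((α × ZMod p) ⊕ ρ)) p (P0 p ρ ⊥) := by
  obtain ⟨τ, hτdef⟩ : ∃ τ : Perm α, τ = swap x a * swap a a0 := ⟨_, rfl⟩
  have hτ : τ ∈ pEl p α := by
    apply hK
    rw [hτdef, Perm.mem_alternatingGroup, Perm.sign_mul, Perm.sign_swap hxa, Perm.sign_swap h]
    rfl
  have hτa : τ a = a0 := by
    rw [hτdef, Perm.mul_apply, swap_apply_left, swap_apply_of_ne_of_ne hxa0.symm h.symm]
  have hs : τ.symm a0 = a := by rw [← hτa, Equiv.symm_apply_apply]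
  have h1 := dgl_comm_mem_pNG p ρ hodd (Pi.mulSingle a ν) τ hτ
  convert h1 using 3
  funext b
  rw [Pi.mul_apply]
  congr 1
  by_cases hb : b = a0
  · rw [hb, hs, Pi.mulSingle_eq_same, Pi.mulSingle_eq_same]
  · rw [Pi.mulSingle_eq_of_ne hb, Pi.mulSingle_eq_of_ne, inv_one]
    intro h2
    apply hb
    rw [← hτa, ← h2, Equiv.apply_symm_apply]

omit [Subsingleton ρ] in
/-- diagonal elements with multiplier product one lie in `pNG` -/
theorem dgl_mem_pNG (hodd : p ≠ 2) (hK : alternatingGroup α ≤ pEl p α)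
    (h3 : 3 ≤ Fintype.card α) :
    ∀ (s : Finset α) (l : α → (ZMod p)ˣ), (∀ a, a ∉ s → l a = 1) → ∏ a, l a = 1 →
      lft ρ (dgl p l) ∈ pNG (alternatingGroup ((α × ZMod p) ⊕ ρ)) p (P0 p ρ ⊥) := by
  intro s
  induction s using Finset.induction_on with
  | empty =>
    intro l hl _
    have : l = 1 := by
      funext a
      exact hl a (Finset.notMem_empty a)
    rw [this, dgl_one, map_one]
    exact Subgroup.one_mem _
  | insert a s ha ih =>
    intro l hl hprod
    by_cases hs : s = ∅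
    · have h1 : ∀ b, b ≠ a → l b = 1 := by
        intro b hb
        apply hl
        rw [hs]
        simpa using hb
      have h2 : ∏ b, l b = l a := Finset.prod_eq_single a (fun b _ hb => h1 b hb)
        (fun h => absurd (Finset.mem_univ a) h)
      have : l = 1 := by
        funext b
        by_cases hb : b = a
        · rw [hb, ← h2, hprod]; rfl
        · exact h1 b hb
      rw [this, dgl_one, map_one]
      exact Subgroup.one_mem _
    · obtain ⟨a0, ha0⟩ := Finset.nonempty_iff_ne_empty.mpr hs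
      have haa0 : a ≠ a0 := fun h => ha (h ▸ ha0)
      obtain ⟨x, hx⟩ : ∃ x, x ∉ ({a, a0} : Finset α) := by
        by_contra hcon
        push Not at hcon
        have h4 : ({a, a0} : Finset α) = Finset.univ := Finset.eq_univ_iff_forall.mpr hcon
        have h5 := congrArg Finset.card h4
        rw [Finset.card_univ] at h5
        have h6 : ({a, a0} : Finset α).card ≤ 2 := Finset.card_le_two
        omega
      rw [Finset.mem_insert, Finset.mem_singleton, not_or] at hx
      have hm := dgl_pair_mem_pNG p ρ hodd hK a a0 x haa0 hx.1 hx.2 (l a)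
      have hl' : lft ρ (dgl p (l * (Pi.mulSingle a (l a) * Pi.mulSingle a0 (l a)⁻¹)⁻¹)) ∈
          pNG (alternatingGroup ((α × ZMod p) ⊕ ρ)) p (P0 p ρ ⊥) := by
        apply ih
        · intro b hb
          rw [Pi.mul_apply, Pi.inv_apply, Pi.mul_apply]
          by_cases hba : b = a
          · rw [hba, Pi.mulSingle_eq_same, Pi.mulSingle_eq_of_ne haa0, mul_one, mul_inv_cancel]
          · have hba0 : b ≠ a0 := fun h => hb (h ▸ ha0)
            rw [Pi.mulSingle_eq_of_ne hba, Pi.mulSingle_eq_of_ne hba0, mul_one, inv_one, mul_one]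
            apply hl
            rw [Finset.mem_insert, not_or]
            exact ⟨hba, hb⟩
        · rw [Finset.prod_congr rfl (fun b _ => Pi.mul_apply _ _ b), Finset.prod_mul_distrib, hprod,
            one_mul, Finset.prod_congr rfl (fun b _ => Pi.inv_apply _ b), Finset.prod_inv_distrib,
            inv_eq_one, Finset.prod_congr rfl (fun b _ => Pi.mul_apply _ _ b),
            Finset.prod_mul_distrib]
          rw [Finset.prod_eq_single a (fun b _ hb => Pi.mulSingle_eq_of_ne hb _)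
              (fun h => absurd (Finset.mem_univ a) h),
            Finset.prod_eq_single a0 (fun b _ hb => Pi.mulSingle_eq_of_ne hb _)
              (fun h => absurd (Finset.mem_univ a0) h),
            Pi.mulSingle_eq_same, Pi.mulSingle_eq_same, mul_inv_cancel]
      have : l = (l * (Pi.mulSingle a (l a) * Pi.mulSingle a0 (l a)⁻¹)⁻¹) *
          (Pi.mulSingle a (l a) * Pi.mulSingle a0 (l a)⁻¹) := by
        rw [inv_mul_cancel_right]
      rw [this, dgl_mul, map_mul]
      exact Subgroup.mul_mem _ hl' hm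

omit [Subsingleton ρ] in
/-- **even affine elements with multiplier product one lie in `pNG`** -/
theorem aff_mem_pNG (hodd : p ≠ 2) (hK : alternatingGroup α ≤ pEl p α)
    (h3 : 3 ≤ Fintype.card α) (l : α → (ZMod p)ˣ) (σ : Perm α) (f : α → ZMod p)
    (hl : ∏ a, l a = 1) (hσ : Perm.sign σ = 1) :
    lft ρ (aff p l σ f) ∈ pNG (alternatingGroup ((α × ZMod p) ⊕ ρ)) p (P0 p ρ ⊥) := by
  rw [aff_eq_mk_mul_dgl, mk_eq, map_mul, map_mul]
  apply Subgroup.mul_mem
  · apply Subgroup.mul_mem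
    · exact top_mem_pNG p ρ hodd σ (hK (Perm.mem_alternatingGroup.mpr hσ))
    · exact base_mem_pNG p ρ hodd f
  · exact dgl_mem_pNG p ρ hodd hK h3 Finset.univ l (fun a ha => absurd (Finset.mem_univ a) ha) hl

end png

end Cfsg.Agent.H9.AltF
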