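import Cfsg.Agent.H9.AltFf

/-!
Level two: the block maps `blk`, the group `R` of block translations, the element `w`.
-/

set_option autoImplicit false

namespace Cfsg.Agent.H9.AltF

open Equiv Cfsg.Agent.Lib.Helper7.SylGen

variable (p : ℕ) [hp : Fact p.Prime] {γ : Type*} [DecidableEq γ] (ρ' ρ : Type*) (O : Finset γ)

/-- the level two point type -/
abbrev Pt2 (p : ℕ) (γ ρ' ρ : Type*) := (((γ × ZMod p) ⊕ ρ') × ZMod p) ⊕ ρ

/-- the underlying function of a block map -/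
def blkFun (e : Perm (ZMod p × ZMod p)) : Pt2 p γ ρ' ρ → Pt2 p γ ρ' ρ :=
  Sum.elim (fun q : ((γ × ZMod p) ⊕ ρ') × ZMod p =>
    Sum.elim (fun ci : γ × ZMod p =>
      if ci.1 ∈ O then Sum.inl (Sum.inl (ci.1, (e (ci.2, q.2)).1), (e (ci.2, q.2)).2)
      else Sum.inl q) (fun _ => Sum.inl q) q.1)
    (fun y => Sum.inr y)

theorem blkFun_in (e : Perm (ZMod p × ZMod p)) (c : γ) (i b : ZMod p) (hc : c ∈ O) :
    blkFun p ρ' ρ O e (Sum.inl (Sum.inl (c, i), b)) =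
      Sum.inl (Sum.inl (c, (e (i, b)).1), (e (i, b)).2) := by
  simp [blkFun, hc]

theorem blkFun_out (e : Perm (ZMod p × ZMod p)) (c : γ) (i b : ZMod p) (hc : c ∉ O) :
    blkFun p ρ' ρ O e (Sum.inl (Sum.inl (c, i), b)) = Sum.inl (Sum.inl (c, i), b) := by
  simp [blkFun, hc]

theorem blkFun_inr' (e : Perm (ZMod p × ZMod p)) (y : ρ') (b : ZMod p) :
    blkFun p ρ' ρ O e (Sum.inl (Sum.inr y, b)) = Sum.inl (Sum.inr y, b) := rfl

theorem blkFun_inr (e : Perm (ZMod p × ZMod p)) (y : ρ) :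
    blkFun p ρ' ρ O e (Sum.inr y) = Sum.inr y := rfl

theorem blkFun_comp (e e' : Perm (ZMod p × ZMod p)) (x : Pt2 p γ ρ' ρ) :
    blkFun p ρ' ρ O e (blkFun p ρ' ρ O e' x) = blkFun p ρ' ρ O (e * e') x := by
  rcases x with ⟨⟨c, i⟩ | y', b⟩ | y
  · by_cases hc : c ∈ O
    · rw [blkFun_in _ _ _ _ _ _ _ _ hc, blkFun_in _ _ _ _ _ _ _ _ hc, blkFun_in _ _ _ _ _ _ _ _ hc]
      rfl
    · rw [blkFun_out _ _ _ _ _ _ _ _ hc, blkFun_out _ _ _ _ _ _ _ _ hc,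
        blkFun_out _ _ _ _ _ _ _ _ hc]
  · rfl
  · rfl

theorem blkFun_one (x : Pt2 p γ ρ' ρ) : blkFun p ρ' ρ O 1 x = x := by
  rcases x with ⟨⟨c, i⟩ | y', b⟩ | y
  · by_cases hc : c ∈ O
    · rw [blkFun_in _ _ _ _ _ _ _ _ hc]; rfl
    · rw [blkFun_out _ _ _ _ _ _ _ _ hc]
  · rfl
  · rfl

/-- the block map, as a homomorphism -/
def blk : Perm (ZMod p × ZMod p) →* Perm (Pt2 p γ ρ' ρ) where
  toFun e :=
    { toFun := blkFun p ρ' ρ O e
      invFun := blkFun p ρ' ρ O e⁻¹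
      left_inv := fun x => by rw [blkFun_comp, inv_mul_cancel, blkFun_one]
      right_inv := fun x => by rw [blkFun_comp, mul_inv_cancel, blkFun_one] }
  map_one' := by
    ext x
    exact blkFun_one p ρ' ρ O x
  map_mul' e e' := by
    ext x
    exact (blkFun_comp p ρ' ρ O e e' x).symm

theorem blk_in (e : Perm (ZMod p × ZMod p)) (c : γ) (i b : ZMod p) (hc : c ∈ O) :
    blk p ρ' ρ O e (Sum.inl (Sum.inl (c, i), b)) =
      Sum.inl (Sum.inl (c, (e (i, b)).1), (e (i, b)).2) := blkFun_in p ρ' ρ O e c i b hc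

theorem blk_out (e : Perm (ZMod p × ZMod p)) (c : γ) (i b : ZMod p) (hc : c ∉ O) :
    blk p ρ' ρ O e (Sum.inl (Sum.inl (c, i), b)) = Sum.inl (Sum.inl (c, i), b) :=
  blkFun_out p ρ' ρ O e c i b hc

theorem blk_inr' (e : Perm (ZMod p × ZMod p)) (y : ρ') (b : ZMod p) :
    blk p ρ' ρ O e (Sum.inl (Sum.inr y, b)) = Sum.inl (Sum.inr y, b) := rfl

theorem blk_inr (e : Perm (ZMod p × ZMod p)) (y : ρ) :
    blk p ρ' ρ O e (Sum.inr y) = Sum.inr y := rfl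

/-- the translation-type elements -/
def TT (x : γ → ZMod p) (f : ((γ × ZMod p) ⊕ ρ') → ZMod p) : Perm (Pt2 p γ ρ' ρ) :=
  lft ρ (mk p (lft ρ' (mk p 1 x)) f)

omit [DecidableEq γ] in
theorem TT_in (x : γ → ZMod p) (f : ((γ × ZMod p) ⊕ ρ') → ZMod p) (c : γ) (i b : ZMod p) :
    TT p ρ' ρ x f (Sum.inl (Sum.inl (c, i), b)) =
      Sum.inl (Sum.inl (c, i + x c), b + f (Sum.inl (c, i))) := by
  simp [TT]

omit [DecidableEq γ] in
theorem TT_inr' (x : γ → ZMod p) (f : ((γ × ZMod p) ⊕ ρ') → ZMod p) (y : ρ') (b : ZMod p) :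
    TT p ρ' ρ x f (Sum.inl (Sum.inr y, b)) = Sum.inl (Sum.inr y, b + f (Sum.inr y)) := by
  simp [TT]

omit [DecidableEq γ] in
theorem TT_inr (x : γ → ZMod p) (f : ((γ × ZMod p) ⊕ ρ') → ZMod p) (y : ρ) :
    TT p ρ' ρ x f (Sum.inr y) = Sum.inr y := by
  simp [TT]

/-- the generating set of `R` -/
def Rset : Set (Perm (Pt2 p γ ρ' ρ)) :=
  {t | ∃ (x : γ → ZMod p) (f : ((γ × ZMod p) ⊕ ρ') → ZMod p), (∀ c, c ∉ O → x c = 0) ∧
    (∀ c ∈ O, ∀ i, f (Sum.inl (c, i)) = f (Sum.inl (c, 0))) ∧ t = TT p ρ' ρ x f}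

/-- the group of block translations -/
def RR : Subgroup (Perm (Pt2 p γ ρ' ρ)) := Subgroup.closure (Rset p ρ' ρ O)

/-- the two kinds of transvections, and the diagonal map, on `ZMod p × ZMod p` -/
def Utr (s : ZMod p) : Perm (ZMod p × ZMod p) where
  toFun x := (x.1, x.2 + s * x.1)
  invFun x := (x.1, x.2 - s * x.1)
  left_inv x := by simp
  right_inv x := by simp

def Vtr (s : ZMod p) : Perm (ZMod p × ZMod p) where
  toFun x := (x.1 + s * x.2, x.2)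
  invFun x := (x.1 - s * x.2, x.2)
  left_inv x := by simp
  right_inv x := by simp

def Dgm (u : (ZMod p)ˣ) : Perm (ZMod p × ZMod p) where
  toFun x := ((u : ZMod p) * x.1, ((u⁻¹ : (ZMod p)ˣ) : ZMod p) * x.2)
  invFun x := (((u⁻¹ : (ZMod p)ˣ) : ZMod p) * x.1, (u : ZMod p) * x.2)
  left_inv x := by
    obtain ⟨i, b⟩ := x
    show ((((u⁻¹ : (ZMod p)ˣ) : ZMod p) * ((u : ZMod p) * i)),
      (u : ZMod p) * (((u⁻¹ : (ZMod p)ˣ) : ZMod p) * b)) = (i, b)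
    rw [← mul_assoc, ← mul_assoc, Units.inv_mul, Units.mul_inv, one_mul, one_mul]
  right_inv x := by
    obtain ⟨i, b⟩ := x
    show ((u : ZMod p) * (((u⁻¹ : (ZMod p)ˣ) : ZMod p) * i),
      (((u⁻¹ : (ZMod p)ˣ) : ZMod p) * ((u : ZMod p) * b))) = (i, b)
    rw [← mul_assoc, ← mul_assoc, Units.inv_mul, Units.mul_inv, one_mul, one_mul]

theorem Utr_apply (s i b : ZMod p) : Utr p s (i, b) = (i, b + s * i) := rfl
theorem Vtr_apply (s i b : ZMod p) : Vtr p s (i, b) = (i + s * b, b) := rfl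
theorem Dgm_apply (u : (ZMod p)ˣ) (i b : ZMod p) :
    Dgm p u (i, b) = ((u : ZMod p) * i, ((u⁻¹ : (ZMod p)ˣ) : ZMod p) * b) := rfl

theorem Utr_pow (s : ZMod p) (k : ℕ) : (Utr p s) ^ k = Utr p (k * s) := by
  induction k with
  | zero =>
    ext ⟨i, b⟩ <;> simp [Utr_apply]
  | succ k ih =>
    rw [pow_succ, ih]
    ext ⟨i, b⟩
    · simp [Utr_apply]
    · simp only [Perm.coe_mul, Function.comp_apply, Utr_apply, Nat.cast_succ]
      ring

theorem Vtr_pow (s : ZMod p) (k : ℕ) : (Vtr p s) ^ k = Vtr p (k * s) := by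
  induction k with
  | zero =>
    ext ⟨i, b⟩ <;> simp [Vtr_apply]
  | succ k ih =>
    rw [pow_succ, ih]
    ext ⟨i, b⟩
    · simp only [Perm.coe_mul, Function.comp_apply, Vtr_apply, Nat.cast_succ]
      ring
    · simp [Vtr_apply]

theorem Utr_pow_p (s : ZMod p) : (Utr p s) ^ p = 1 := by
  rw [Utr_pow]
  ext ⟨i, b⟩ <;> simp [Utr_apply]

theorem Vtr_pow_p (s : ZMod p) : (Vtr p s) ^ p = 1 := by
  rw [Vtr_pow]
  ext ⟨i, b⟩ <;> simp [Vtr_apply]

/-- the diagonal map is a product of six transvections -/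
theorem Dgm_eq (u : (ZMod p)ˣ) :
    Dgm p u = Vtr p u * Utr p (-((u⁻¹ : (ZMod p)ˣ) : ZMod p)) * Vtr p u *
      (Vtr p (-1) * Utr p 1 * Vtr p (-1)) := by
  have h1 : (u : ZMod p) * ((u⁻¹ : (ZMod p)ˣ) : ZMod p) = 1 := Units.mul_inv u
  ext ⟨i, b⟩
  · simp only [Perm.coe_mul, Function.comp_apply, Vtr_apply, Utr_apply, Dgm_apply]
    linear_combination ((u : ZMod p) * i - b) * h1
  · simp only [Perm.coe_mul, Function.comp_apply, Vtr_apply, Utr_apply, Dgm_apply]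
    linear_combination i * h1

end Cfsg.Agent.H9.AltF
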