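import Cfsg.Agent.H9.AltFg

/-!
Properties of the group `RR` of block translations: contained in the wreath group, normalized by
the block transvections, self-centralizing.
-/

set_option autoImplicit false

namespace Cfsg.Agent.H9.AltF

open Equiv Cfsg.Agent.Lib.Helper7.SylGen

/-- conjugation maps a closure into itself as soon as it does so on generators -/
theorem conj_closure_mem {X : Type*} [Group X] (S : Set X) (g : X)
    (h : ∀ t ∈ S, g * t * g⁻¹ ∈ Subgroup.closure S) :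
    ∀ t ∈ Subgroup.closure S, g * t * g⁻¹ ∈ Subgroup.closure S := by
  intro t ht
  induction ht using Subgroup.closure_induction with
  | mem a ha => exact h a ha
  | one => simp
  | mul a b _ _ iha ihb =>
    have : g * (a * b) * g⁻¹ = (g * a * g⁻¹) * (g * b * g⁻¹) := by group
    rw [this]
    exact Subgroup.mul_mem _ iha ihb
  | inv a _ iha =>
    have : g * a⁻¹ * g⁻¹ = (g * a * g⁻¹)⁻¹ := by group
    rw [this]
    exact Subgroup.inv_mem _ iha

variable (p : ℕ) [hp : Fact p.Prime] {γ : Type*} [DecidableEq γ] (ρ' ρ : Type*) (O : Finset γ)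

omit [DecidableEq γ] in
theorem TT_mem_P0 (H' : Subgroup (Perm γ)) (x : γ → ZMod p)
    (f : ((γ × ZMod p) ⊕ ρ') → ZMod p) : TT p ρ' ρ x f ∈ P0 p ρ (P0 p ρ' H') := by
  unfold TT
  rw [mem_P0]
  refine ⟨_, ?_, f, rfl⟩
  rw [mem_P0]
  exact ⟨1, H'.one_mem, x, rfl⟩

theorem RR_le_P0 (H' : Subgroup (Perm γ)) : RR p ρ' ρ O ≤ P0 p ρ (P0 p ρ' H') := by
  unfold RR
  rw [Subgroup.closure_le]
  rintro t ⟨x, f, -, -, rfl⟩
  exact TT_mem_P0 p ρ' ρ H' x f

theorem Vtr_conj_TT (s : ZMod p) (x : γ → ZMod p) (f : ((γ × ZMod p) ⊕ ρ') → ZMod p)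
    (hx : ∀ c, c ∉ O → x c = 0) (hf : ∀ c ∈ O, ∀ i, f (Sum.inl (c, i)) = f (Sum.inl (c, 0))) :
    blk p ρ' ρ O (Vtr p s) * TT p ρ' ρ x f * (blk p ρ' ρ O (Vtr p s))⁻¹ =
      TT p ρ' ρ (fun c => if c ∈ O then x c + s * f (Sum.inl (c, 0)) else 0) f := by
  rw [mul_inv_eq_iff_eq_mul]
  ext pt
  rcases pt with ⟨⟨c, i⟩ | y', b⟩ | y
  · by_cases hc : c ∈ O
    · simp only [Perm.coe_mul, Function.comp_apply, TT_in, blk_in _ _ _ _ _ _ _ _ hc, Vtr_apply,
        if_pos hc, hf c hc (i + s * b), hf c hc i]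
      congr 3
      ring
    · simp only [Perm.coe_mul, Function.comp_apply, TT_in, blk_out _ _ _ _ _ _ _ _ hc, if_neg hc,
        hx c hc]
  · simp only [Perm.coe_mul, Function.comp_apply, TT_inr', blk_inr']
  · simp only [Perm.coe_mul, Function.comp_apply, TT_inr, blk_inr]

theorem Utr_conj_TT (s : ZMod p) (x : γ → ZMod p) (f : ((γ × ZMod p) ⊕ ρ') → ZMod p)
    (hx : ∀ c, c ∉ O → x c = 0) :
    blk p ρ' ρ O (Utr p s) * TT p ρ' ρ x f * (blk p ρ' ρ O (Utr p s))⁻¹ =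
      TT p ρ' ρ x (fun a => f a + s * Sum.elim (fun ci : γ × ZMod p => x ci.1) (fun _ => 0) a) := by
  rw [mul_inv_eq_iff_eq_mul]
  ext pt
  rcases pt with ⟨⟨c, i⟩ | y', b⟩ | y
  · by_cases hc : c ∈ O
    · simp only [Perm.coe_mul, Function.comp_apply, TT_in, blk_in _ _ _ _ _ _ _ _ hc, Utr_apply,
        Sum.elim_inl]
      congr 2
      ring
    · simp only [Perm.coe_mul, Function.comp_apply, TT_in, blk_out _ _ _ _ _ _ _ _ hc,
        Sum.elim_inl, hx c hc, mul_zero, add_zero]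
  · simp only [Perm.coe_mul, Function.comp_apply, TT_inr', blk_inr', Sum.elim_inr, mul_zero,
      add_zero]
  · simp only [Perm.coe_mul, Function.comp_apply, TT_inr, blk_inr]

section fin

variable [Fintype γ] [Fintype ρ'] [DecidableEq ρ'] [Fintype ρ] [DecidableEq ρ]

theorem blk_Vtr_mem_normalizer (s : ZMod p) :
    blk p ρ' ρ O (Vtr p s) ∈ Subgroup.normalizer
      ((RR p ρ' ρ O : Subgroup _) : Set (Perm (Pt2 p γ ρ' ρ))) := by
  haveI : NeZero p := ⟨hp.out.ne_zero⟩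
  apply Subgroup.mem_normalizer_fintype
  apply conj_closure_mem
  rintro t ⟨x, f, hx, hf, rfl⟩
  rw [Vtr_conj_TT p ρ' ρ O s x f hx hf]
  apply Subgroup.subset_closure
  refine ⟨_, f, ?_, hf, rfl⟩
  intro c hc
  rw [if_neg hc]

theorem blk_Utr_mem_normalizer (s : ZMod p) :
    blk p ρ' ρ O (Utr p s) ∈ Subgroup.normalizer
      ((RR p ρ' ρ O : Subgroup _) : Set (Perm (Pt2 p γ ρ' ρ))) := by
  haveI : NeZero p := ⟨hp.out.ne_zero⟩
  apply Subgroup.mem_normalizer_fintype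
  apply conj_closure_mem
  rintro t ⟨x, f, hx, hf, rfl⟩
  rw [Utr_conj_TT p ρ' ρ O s x f hx]
  apply Subgroup.subset_closure
  refine ⟨x, _, hx, ?_, rfl⟩
  intro c hc i
  simp only [Sum.elim_inl]
  rw [hf c hc i]

end fin

end Cfsg.Agent.H9.AltF
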