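import Cfsg.Agent.H9.AltFh

/-!
The group `RR` of block translations is self-centralizing.
-/

set_option autoImplicit false

namespace Cfsg.Agent.H9.AltF

open Equiv Cfsg.Agent.Lib.Helper7.SylGen

variable (p : ℕ) [hp : Fact p.Prime] {γ : Type*} [DecidableEq γ] (ρ' ρ : Type*) (O : Finset γ)

/-- the indicator of a level two block -/
def fB (c : γ) : ((γ × ZMod p) ⊕ ρ') → ZMod p :=
  Sum.elim (fun ci : γ × ZMod p => if ci.1 = c then 1 else 0) (fun _ => 0)

theorem centralizer_RR_le [DecidableEq ρ'] [Subsingleton ρ] (g : Perm (Pt2 p γ ρ' ρ))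
    (hg : ∀ t ∈ RR p ρ' ρ O, g * t = t * g) : g ∈ RR p ρ' ρ O := by
  have hp1 : (1 : ZMod p) ≠ 0 := by
    have : Fact (1 < p) := ⟨hp.out.one_lt⟩
    exact one_ne_zero
  have hcomm : ∀ (x : γ → ZMod p) (f : ((γ × ZMod p) ⊕ ρ') → ZMod p), (∀ c, c ∉ O → x c = 0) →
      (∀ c ∈ O, ∀ i, f (Sum.inl (c, i)) = f (Sum.inl (c, 0))) →
      ∀ pt, g (TT p ρ' ρ x f pt) = TT p ρ' ρ x f (g pt) := by
    intro x f hx hf pt
    have := hg (TT p ρ' ρ x f) (Subgroup.subset_closure ⟨x, f, hx, hf, rfl⟩)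
    exact congrArg (fun e : Perm (Pt2 p γ ρ' ρ) => e pt) this
  -- Step A1
  have hA1 : ∀ c ∈ O, ∀ i b, ∃ i' b', g (Sum.inl (Sum.inl (c, i), b)) =
      Sum.inl (Sum.inl (c, i'), b') := by
    intro c hc i b
    have h1 := hcomm (fun _ => 0) (fB p ρ' c) (fun _ _ => rfl) (fun c' _ i' => rfl)
      (Sum.inl (Sum.inl (c, i), b))
    rw [TT_in] at h1
    have hne : g (Sum.inl (Sum.inl (c, i + 0), b + fB p ρ' c (Sum.inl (c, i)))) ≠
        g (Sum.inl (Sum.inl (c, i), b)) := by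
      intro h2
      have h3 := Sum.inl_injective (g.injective h2)
      have h4 : b + fB p ρ' c (Sum.inl (c, i)) = b := congrArg Prod.snd h3
      simp [fB] at h4
    rw [h1] at hne
    rcases hgx : g (Sum.inl (Sum.inl (c, i), b)) with ⟨⟨c'', i''⟩ | y'', b''⟩ | y
    · by_cases hcc : c'' = c
      · exact ⟨i'', b'', by rw [hcc]⟩
      · exfalso
        apply hne
        rw [hgx, TT_in]
        simp [fB, hcc]
    · exfalso
      apply hne
      rw [hgx, TT_inr']
      simp [fB]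
    · exfalso
      apply hne
      rw [hgx, TT_inr]
  -- Step A2
  have hA2 : ∀ a : (γ × ZMod p) ⊕ ρ', (∀ c ∈ O, ∀ i, a ≠ Sum.inl (c, i)) → ∀ b,
      ∃ b', g (Sum.inl (a, b)) = Sum.inl (a, b') := by
    intro a ha b
    have hcond : ∀ c ∈ O, ∀ i, (Pi.single a 1 : ((γ × ZMod p) ⊕ ρ') → ZMod p) (Sum.inl (c, i)) =
        (Pi.single a 1 : ((γ × ZMod p) ⊕ ρ') → ZMod p) (Sum.inl (c, 0)) := by
      intro c hc i
      rw [Pi.single_eq_of_ne (ha c hc i).symm, Pi.single_eq_of_ne (ha c hc 0).symm]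
    have h1 := hcomm (fun _ => 0) (Pi.single a 1) (fun _ _ => rfl) hcond (Sum.inl (a, b))
    have hmove : ∀ (a'' : (γ × ZMod p) ⊕ ρ') (b'' : ZMod p), a'' ≠ a →
        TT p ρ' ρ (fun _ => 0) (Pi.single a 1) (Sum.inl (a'', b'')) = Sum.inl (a'', b'') := by
      intro a'' b'' hne
      rcases a'' with ⟨c'', i''⟩ | y''
      · rw [TT_in, Pi.single_eq_of_ne hne]; simp
      · rw [TT_inr', Pi.single_eq_of_ne hne]; simp
    have hself : TT p ρ' ρ (fun _ => 0) (Pi.single a 1) (Sum.inl (a, b)) = Sum.inl (a, b + 1) := by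
      rcases a with ⟨c, i⟩ | y'
      · rw [TT_in]; simp
      · rw [TT_inr']; simp
    rw [hself] at h1
    have hne : g (Sum.inl (a, b + 1)) ≠ g (Sum.inl (a, b)) := by
      intro h2
      have h3 := Sum.inl_injective (g.injective h2)
      have h4 : b + 1 = b := congrArg Prod.snd h3
      exact hp1 (by simpa using h4)
    rw [h1] at hne
    rcases hgx : g (Sum.inl (a, b)) with ⟨a'', b''⟩ | y
    · by_cases haa : a'' = a
      · exact ⟨b'', by rw [haa]⟩
      · exfalso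
        apply hne
        rw [hgx, hmove a'' b'' haa]
    · exfalso
      apply hne
      rw [hgx, TT_inr]
  -- Step B
  have hB : ∀ c, ∃ i0 b0, c ∈ O → ∀ i b, g (Sum.inl (Sum.inl (c, i), b)) =
      Sum.inl (Sum.inl (c, i + i0), b + b0) := by
    intro c
    by_cases hc : c ∈ O
    · obtain ⟨i0, b0, h0⟩ := hA1 c hc 0 0
      refine ⟨i0, b0, fun _ i b => ?_⟩
      have hx : ∀ c', c' ∉ O → (Pi.single c i : γ → ZMod p) c' = 0 := by
        intro c' hc'
        apply Pi.single_eq_of_ne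
        rintro rfl
        exact hc' hc
      have h1 := hcomm (Pi.single c i) (fun a => b * fB p ρ' c a) hx (fun c' _ i' => rfl)
        (Sum.inl (Sum.inl (c, 0), 0))
      rw [TT_in, h0, TT_in] at h1
      simp only [Pi.single_eq_same, fB, Sum.elim_inl, if_true, mul_one, zero_add] at h1
      rw [h1, add_comm i0 i, add_comm b0 b]
    · exact ⟨0, 0, fun h => absurd h hc⟩
  -- Step C
  have hC : ∀ a : (γ × ZMod p) ⊕ ρ', ∃ b0, (∀ c ∈ O, ∀ i, a ≠ Sum.inl (c, i)) → ∀ b,
      g (Sum.inl (a, b)) = Sum.inl (a, b + b0) := by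
    intro a
    by_cases ha : ∀ c ∈ O, ∀ i, a ≠ Sum.inl (c, i)
    · obtain ⟨b0, h0⟩ := hA2 a ha 0
      refine ⟨b0, fun _ b => ?_⟩
      have hcond : ∀ c ∈ O, ∀ i, (Pi.single a b : ((γ × ZMod p) ⊕ ρ') → ZMod p) (Sum.inl (c, i)) =
          (Pi.single a b : ((γ × ZMod p) ⊕ ρ') → ZMod p) (Sum.inl (c, 0)) := by
        intro c hc i
        rw [Pi.single_eq_of_ne (ha c hc i).symm, Pi.single_eq_of_ne (ha c hc 0).symm]
      have h1 := hcomm (fun _ => 0) (Pi.single a b) (fun _ _ => rfl) hcond (Sum.inl (a, 0))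
      have hself : ∀ b'', TT p ρ' ρ (fun _ => 0) (Pi.single a b) (Sum.inl (a, b'')) =
          Sum.inl (a, b'' + b) := by
        intro b''
        rcases a with ⟨c, i⟩ | y'
        · rw [TT_in]; simp
        · rw [TT_inr']; simp
      rw [hself, h0, hself, zero_add] at h1
      rw [h1, add_comm]
    · exact ⟨0, fun h => absurd h ha⟩
  choose X Y hXY using hB
  choose Z hZ using hC
  have hfin : g = TT p ρ' ρ (fun c => if c ∈ O then X c else 0)
      (Sum.elim (fun ci : γ × ZMod p => if ci.1 ∈ O then Y ci.1 else Z (Sum.inl ci))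
        (fun y' => Z (Sum.inr y'))) := by
    unfold TT
    apply eq_lft_of
    rintro ⟨a, b⟩
    rcases a with ⟨c, i⟩ | y'
    · by_cases hc : c ∈ O
      · rw [hXY c hc i b]
        simp [hc]
      · have hrest : ∀ c' ∈ O, ∀ i', (Sum.inl (c, i) : (γ × ZMod p) ⊕ ρ') ≠ Sum.inl (c', i') := by
          intro c' hc' i' h
          have := Sum.inl_injective h
          rw [Prod.mk.injEq] at this
          exact hc (this.1 ▸ hc')
        rw [hZ _ hrest b]
        simp [hc]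
    · have hrest : ∀ c' ∈ O, ∀ i', (Sum.inr y' : (γ × ZMod p) ⊕ ρ') ≠ Sum.inl (c', i') :=
        fun _ _ _ h => Sum.inr_ne_inl h
      rw [hZ _ hrest b]
      simp
  rw [hfin]
  apply Subgroup.subset_closure
  refine ⟨_, _, ?_, ?_, rfl⟩
  · intro c hc
    rw [if_neg hc]
  · intro c hc i
    simp [hc]

end Cfsg.Agent.H9.AltF
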