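import Cfsg.Agent.H9.AltFi

/-!
The element `w = blk (Dgm u)`.
-/

set_option autoImplicit false

namespace Cfsg.Agent.H9.AltF

open Equiv Cfsg.Agent.Lib.Helper7.SylGen

variable (p : ℕ) [hp : Fact p.Prime] {γ : Type*} [DecidableEq γ] (ρ' ρ : Type*) (O : Finset γ)

/-- the multipliers of `w` -/
def wl (u : (ZMod p)ˣ) : ((γ × ZMod p) ⊕ ρ') → (ZMod p)ˣ :=
  Sum.elim (fun ci : γ × ZMod p => if ci.1 ∈ O then u⁻¹ else 1) (fun _ => 1)

/-- the top part of `w` -/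
def wσ (u : (ZMod p)ˣ) : Perm ((γ × ZMod p) ⊕ ρ') :=
  lft ρ' (aff p (fun c => if c ∈ O then u else 1) 1 (fun _ => 0))

theorem blk_Dgm_eq (u : (ZMod p)ˣ) :
    blk p ρ' ρ O (Dgm p u) = lft ρ (aff p (wl p ρ' O u) (wσ p ρ' O u) (fun _ => 0)) := by
  ext pt
  rcases pt with ⟨⟨c, i⟩ | y', b⟩ | y
  · by_cases hc : c ∈ O
    · rw [blk_in _ _ _ _ _ _ _ _ hc, Dgm_apply]
      simp only [wl, wσ, lft_inl, aff_apply, Sum.elim_inl, if_pos hc, add_zero, Perm.coe_one, id_eq]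
    · rw [blk_out _ _ _ _ _ _ _ _ hc]
      simp only [wl, wσ, lft_inl, aff_apply, Sum.elim_inl, if_neg hc, add_zero, Perm.coe_one, id_eq,
        Units.val_one, one_mul]
  · rw [blk_inr']
    simp only [wl, wσ, lft_inl, lft_inr, aff_apply, Sum.elim_inr, add_zero, Units.val_one, one_mul]
  · rw [blk_inr, lft_inr]

section fin

variable [Fintype γ] [Fintype ρ'] [DecidableEq ρ'] [Fintype ρ] [DecidableEq ρ]

theorem blk_Dgm_mem_normalizer (H' : Subgroup (Perm γ)) (hO : ∀ τ ∈ H', ∀ c, τ c ∈ O ↔ c ∈ O)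
    (u : (ZMod p)ˣ) :
    blk p ρ' ρ O (Dgm p u) ∈ Subgroup.normalizer
      ((P0 p ρ (P0 p ρ' H') : Subgroup _) : Set (Perm (Pt2 p γ ρ' ρ))) := by
  rw [blk_Dgm_eq]
  apply aff_mem_normalizer
  · have h1 : wσ p ρ' O u ∈ Subgroup.normalizer
        ((P0 p ρ' H' : Subgroup _) : Set (Perm ((γ × ZMod p) ⊕ ρ'))) := by
      apply aff_mem_normalizer
      · intro τ hτ
        simpa using hτ
      · intro τ hτ c
        simp only [hO τ hτ c]
    intro τ hτ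
    exact (Subgroup.mem_normalizer_iff.mp h1 τ).mp hτ
  · intro τ hτ a
    obtain ⟨τ', hτ', h', rfl⟩ := (mem_P0 p ρ' H' τ).mp hτ
    rcases a with ⟨c, i⟩ | y'
    · simp [wl, hO τ' hτ' c]
    · simp [wl]

theorem prod_wl (u : (ZMod p)ˣ) : ∏ a, wl p ρ' O u a = (u⁻¹) ^ (O.card * p) := by
  haveI : NeZero p := ⟨hp.out.ne_zero⟩
  rw [Fintype.prod_sum_type, Fintype.prod_prod_type]
  have h1 : ∀ x : γ, ∏ y : ZMod p, wl p ρ' O u (Sum.inl (x, y)) =
      if x ∈ O then (u⁻¹) ^ p else 1 := by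
    intro x
    by_cases hx : x ∈ O
    · rw [if_pos hx]
      have : ∀ y : ZMod p, wl p ρ' O u (Sum.inl (x, y)) = u⁻¹ := by
        intro y
        simp only [wl, Sum.elim_inl, if_pos hx]
      rw [Finset.prod_congr rfl (fun y _ => this y), Finset.prod_const, Finset.card_univ, ZMod.card]
    · rw [if_neg hx]
      have : ∀ y : ZMod p, wl p ρ' O u (Sum.inl (x, y)) = 1 := by
        intro y
        simp only [wl, Sum.elim_inl, if_neg hx]
      rw [Finset.prod_congr rfl (fun y _ => this y), Finset.prod_const_one]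
  have h2 : ∀ y : ρ', wl p ρ' O u (Sum.inr y) = 1 := fun y => rfl
  rw [Finset.prod_congr rfl (fun x _ => h1 x), Finset.prod_congr rfl (fun y _ => h2 y),
    Finset.prod_const_one, mul_one, Finset.prod_ite_mem, Finset.univ_inter, Finset.prod_const,
    ← pow_mul, mul_comm]

theorem prod_wl_of_card (u : (ZMod p)ˣ) (j : ℕ) (hj : O.card = p ^ j) :
    ∏ a, wl p ρ' O u a = u⁻¹ := by
  rw [prod_wl, hj, ← pow_succ]
  apply Units.ext
  rw [Units.val_pow_eq_pow_val]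
  exact ZMod.pow_card_pow _

theorem blk_pElt_mem_pNG (hodd : p ≠ 2) (e : Perm (ZMod p × ZMod p)) (he : e ^ p = 1)
    (hN : blk p ρ' ρ O e ∈ Subgroup.normalizer
      ((RR p ρ' ρ O : Subgroup _) : Set (Perm (Pt2 p γ ρ' ρ)))) :
    blk p ρ' ρ O e ∈ pNG (alternatingGroup (Pt2 p γ ρ' ρ)) p (RR p ρ' ρ O) := by
  have hoddp : Odd p := hp.out.odd_of_ne_two hodd
  apply Subgroup.subset_closure
  have h' : (blk p ρ' ρ O e) ^ p = 1 := by rw [← map_pow, he, map_one]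
  refine ⟨?_, hN, ?_⟩
  · rw [Perm.mem_alternatingGroup]
    exact sign_eq_one_of_pow_odd p hoddp _ h'
  · have h2 : orderOf (blk p ρ' ρ O e) ∣ p ^ 1 := by
      rw [pow_one]; exact orderOf_dvd_of_pow_eq_one h'
    exact (Nat.dvd_prime_pow hp.out).mp h2 |>.imp fun j hj => hj.2

/-- `w` is a product of `p`-elements normalizing `RR` -/
theorem blk_Dgm_mem_pNG (hodd : p ≠ 2) (u : (ZMod p)ˣ) :
    blk p ρ' ρ O (Dgm p u) ∈ pNG (alternatingGroup (Pt2 p γ ρ' ρ)) p (RR p ρ' ρ O) := by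
  have hU : ∀ s, blk p ρ' ρ O (Utr p s) ∈
      pNG (alternatingGroup (Pt2 p γ ρ' ρ)) p (RR p ρ' ρ O) := fun s =>
    blk_pElt_mem_pNG p ρ' ρ O hodd _ (Utr_pow_p p s) (blk_Utr_mem_normalizer p ρ' ρ O s)
  have hV : ∀ s, blk p ρ' ρ O (Vtr p s) ∈
      pNG (alternatingGroup (Pt2 p γ ρ' ρ)) p (RR p ρ' ρ O) := fun s =>
    blk_pElt_mem_pNG p ρ' ρ O hodd _ (Vtr_pow_p p s) (blk_Vtr_mem_normalizer p ρ' ρ O s)
  rw [Dgm_eq, map_mul, map_mul, map_mul, map_mul, map_mul]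
  exact Subgroup.mul_mem _ (Subgroup.mul_mem _ (Subgroup.mul_mem _ (hV _) (hU _)) (hV _))
    (Subgroup.mul_mem _ (Subgroup.mul_mem _ (hV _) (hU _)) (hV _))

end fin

end Cfsg.Agent.H9.AltF
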