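import Cfsg.Agent.H9.AltFj

/-!
The generation condition for odd `p`.
-/

set_option autoImplicit false

namespace Cfsg.Agent.H9.AltF

open Equiv Cfsg.Agent.Lib.Helper7.SylGen

variable (p : ℕ) [hp : Fact p.Prime] {γ : Type*} [DecidableEq γ] (ρ' ρ : Type*)

theorem RR_empty : RR p ρ' ρ (∅ : Finset γ) = P0 p ρ (⊥ : Subgroup (Perm ((γ × ZMod p) ⊕ ρ'))) := by
  apply le_antisymm
  · unfold RR
    rw [Subgroup.closure_le]
    rintro t ⟨x, f, hx, -, rfl⟩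
    have hx0 : x = fun _ => 0 := by
      funext c
      exact hx c (Finset.notMem_empty c)
    rw [SetLike.mem_coe, mem_P0]
    refine ⟨1, Subgroup.one_mem _, f, ?_⟩
    unfold TT
    rw [hx0]
    have : mk p (1 : Perm γ) (fun _ => 0) = 1 := mk_one p
    rw [this, map_one]
  · intro t ht
    obtain ⟨σ, hσ, f, rfl⟩ := (mem_P0 p ρ _ t).mp ht
    rw [Subgroup.mem_bot] at hσ
    apply Subgroup.subset_closure
    refine ⟨fun _ => 0, f, fun _ _ => rfl, fun c hc => absurd hc (Finset.notMem_empty c), ?_⟩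
    unfold TT
    have : mk p (1 : Perm γ) (fun _ => 0) = 1 := mk_one p
    rw [this, map_one, hσ]

variable [Fintype γ] [Fintype ρ'] [DecidableEq ρ'] [Fintype ρ] [DecidableEq ρ] [Subsingleton ρ]

/-- the generation condition, for odd `p` -/
theorem gen_odd (hodd : p ≠ 2) (H' : Subgroup (Perm γ)) (O : Finset γ)
    (hO : ∀ τ ∈ H', ∀ c, τ c ∈ O ↔ c ∈ O) (j : ℕ) (hj : O.card = p ^ j)
    (h3 : 3 ≤ Fintype.card ((γ × ZMod p) ⊕ ρ'))
    (hK : alternatingGroup ((γ × ZMod p) ⊕ ρ') ≤ pEl p ((γ × ZMod p) ⊕ ρ'))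
    (S0 : Subgroup (Perm (Pt2 p γ ρ' ρ))) (hS0 : S0 = P0 p ρ (P0 p ρ' H'))
    (g : Perm (Pt2 p γ ρ' ρ)) (hgA : g ∈ alternatingGroup (Pt2 p γ ρ' ρ))
    (hgN : g ∈ Subgroup.normalizer ((S0 : Subgroup _) : Set (Perm (Pt2 p γ ρ' ρ)))) :
    g ∈ genA (alternatingGroup (Pt2 p γ ρ' ρ)) p S0 := by
  subst hS0
  obtain ⟨l, σ, f, rfl, -⟩ := affine_of_mem_normalizer p ρ (P0 p ρ' H') g hgN
  obtain ⟨δ, hδ⟩ : ∃ δ : (ZMod p)ˣ, δ = ∏ a, l a := ⟨_, rfl⟩
  have hwN := blk_Dgm_mem_normalizer p ρ' ρ O H' hO δ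
  have hwP := blk_Dgm_mem_pNG p ρ' ρ O hodd δ
  have hwA : blk p ρ' ρ O (Dgm p δ) ∈ alternatingGroup (Pt2 p γ ρ' ρ) := pNG_le _ _ _ hwP
  -- the two centric subgroups
  have hcB : CentricA (alternatingGroup (Pt2 p γ ρ' ρ)) (P0 p ρ (P0 p ρ' H'))
      (P0 p ρ (⊥ : Subgroup (Perm ((γ × ZMod p) ⊕ ρ')))) := by
    apply centricA_of_centralizer_le
    · rw [← RR_empty]
      exact RR_le_P0 p ρ' ρ ∅ H'
    · intro z hz
      rw [← RR_empty]
      apply centralizer_RR_le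
      intro t ht
      rw [RR_empty] at ht
      exact hz t ht
  have hcR : CentricA (alternatingGroup (Pt2 p γ ρ' ρ)) (P0 p ρ (P0 p ρ' H')) (RR p ρ' ρ O) := by
    apply centricA_of_centralizer_le
    · exact RR_le_P0 p ρ' ρ O H'
    · intro z hz
      exact centralizer_RR_le p ρ' ρ O z hz
  have hw : blk p ρ' ρ O (Dgm p δ) ∈ genA (alternatingGroup (Pt2 p γ ρ' ρ)) p
      (P0 p ρ (P0 p ρ' H')) :=
    Subgroup.subset_closure ⟨hwA, hwN, RR p ρ' ρ O, hcR, hwP⟩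
  -- the product
  have hprod : lft ρ (aff p l σ f) * blk p ρ' ρ O (Dgm p δ) ∈
      genA (alternatingGroup (Pt2 p γ ρ' ρ)) p (P0 p ρ (P0 p ρ' H')) := by
    apply Subgroup.subset_closure
    refine ⟨Subgroup.mul_mem _ hgA hwA, Subgroup.mul_mem _ hgN hwN, _, hcB, ?_⟩
    have hA2 := Subgroup.mul_mem _ hgA hwA
    rw [blk_Dgm_eq, ← map_mul, aff_mul] at hA2 ⊢
    have hl1 : ∏ a, (l (wσ p ρ' O δ a) * wl p ρ' O δ a) = 1 := by
      rw [Finset.prod_mul_distrib, prod_wl_of_card p ρ' O δ j hj,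
        Equiv.prod_comp (wσ p ρ' O δ) l, ← hδ, mul_inv_cancel]
    apply aff_mem_pNG p ρ hodd hK h3 _ _ _ hl1
    rw [Perm.mem_alternatingGroup, sign_lft, sign_aff_odd p hodd, hl1, map_one, mul_one] at hA2
    exact hA2
  have : lft ρ (aff p l σ f) = lft ρ (aff p l σ f) * blk p ρ' ρ O (Dgm p δ) *
      (blk p ρ' ρ O (Dgm p δ))⁻¹ := by rw [mul_inv_cancel_right]
  rw [this]
  exact Subgroup.mul_mem _ hprod (Subgroup.inv_mem _ hw)

end Cfsg.Agent.H9.AltF
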