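import Cfsg.Agent.H9.AltFk

/-!
Conjugacy of elements of order `p` in the alternating group; algebra of the base group.
-/

set_option autoImplicit false

namespace Cfsg.Agent.H9.AltF

open Equiv Cfsg.Agent.Lib.Helper7.SylGen

section conj

variable {β : Type*} [Fintype β] [DecidableEq β] (p : ℕ) [hp : Fact p.Prime]

/-- elements killed by `p` with supports of the same size are conjugate -/
theorem isConj_of_pow_eq_one (u y : Perm β) (hu : u ^ p = 1) (hy : y ^ p = 1)
    (h : u.support.card = y.support.card) : IsConj u y := by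
  by_cases hu1 : u = 1
  · have : y = 1 := by
      rw [hu1, Perm.support_one, Finset.card_empty] at h
      exact Perm.support_eq_empty_iff.mp (Finset.card_eq_zero.mp h.symm)
    rw [hu1, this]
  · have hy1 : y ≠ 1 := by
      intro hy1
      rw [hy1, Perm.support_one, Finset.card_empty] at h
      exact hu1 (Perm.support_eq_empty_iff.mp (Finset.card_eq_zero.mp h))
    have hou : orderOf u = p := orderOf_eq_prime hu hu1
    have hoy : orderOf y = p := orderOf_eq_prime hy hy1
    obtain ⟨n, hn⟩ := Perm.cycleType_prime_order (σ := u) (by rw [hou]; exact hp.out)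
    obtain ⟨n', hn'⟩ := Perm.cycleType_prime_order (σ := y) (by rw [hoy]; exact hp.out)
    have h1 := Perm.sum_cycleType u
    have h2 := Perm.sum_cycleType y
    rw [hn, Multiset.sum_replicate, hou, smul_eq_mul] at h1
    rw [hn', Multiset.sum_replicate, hoy, smul_eq_mul] at h2
    have h3 : (n + 1) * p = (n' + 1) * p := by rw [h1, h2, h]
    have h4 : n + 1 = n' + 1 := Nat.eq_of_mul_eq_mul_right hp.out.pos h3
    rw [Perm.isConj_iff_cycleType_eq, hn, hn', hou, hoy, h4]

/-- conjugacy inside the alternating group, given an odd element centralizing `y` -/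
theorem exists_alt_conj (u y z : Perm β) (hu : u ^ p = 1) (hy : y ^ p = 1)
    (h : u.support.card = y.support.card) (hz : z * y = y * z) (hzs : Perm.sign z = -1) :
    ∃ g ∈ alternatingGroup β, g * u * g⁻¹ = y := by
  obtain ⟨c, hc⟩ := isConj_iff.mp (isConj_of_pow_eq_one p u y hu hy h)
  rcases Int.units_eq_one_or (Perm.sign c) with hs | hs
  · exact ⟨c, Perm.mem_alternatingGroup.mpr hs, hc⟩
  · refine ⟨z * c, ?_, ?_⟩
    · rw [Perm.mem_alternatingGroup, Perm.sign_mul, hs, hzs]
      rfl
    · calc z * c * u * (z * c)⁻¹ = z * (c * u * c⁻¹) * z⁻¹ := by group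
        _ = z * y * z⁻¹ := by rw [hc]
        _ = y := by rw [hz, mul_inv_cancel_right]

end conj

section base

variable (p : ℕ) [hp : Fact p.Prime] {α : Type*} (ρ : Type*)

/-- base elements -/
def bs (f : α → ZMod p) : Perm ((α × ZMod p) ⊕ ρ) := lft ρ (mk p 1 f)

theorem bs_mul (f f' : α → ZMod p) : bs p ρ f * bs p ρ f' = bs p ρ (f + f') := by
  unfold bs
  rw [← map_mul, mk_mul, mul_one]
  congr 2
  funext a
  simp [add_comm]

theorem bs_zero : bs p ρ (0 : α → ZMod p) = 1 := by
  unfold bs
  have : mk p (1 : Perm α) (0 : α → ZMod p) = 1 := mk_one p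
  rw [this, map_one]

theorem bs_pow (f : α → ZMod p) (k : ℕ) : (bs p ρ f) ^ k = bs p ρ (k • f) := by
  induction k with
  | zero => rw [pow_zero, zero_smul, bs_zero]
  | succ k ih => rw [pow_succ, ih, bs_mul, succ_nsmul]

theorem bs_pow_p (f : α → ZMod p) : (bs p ρ f) ^ p = 1 := by
  rw [bs_pow]
  have : (p • f) = 0 := by
    funext a
    simp
  rw [this, bs_zero]

theorem bs_mem_P0 (H : Subgroup (Perm α)) (f : α → ZMod p) : bs p ρ f ∈ P0 p ρ H :=
  (mem_P0 p ρ H _).mpr ⟨1, H.one_mem, f, rfl⟩

theorem bs_comm (f f' : α → ZMod p) : bs p ρ f * bs p ρ f' = bs p ρ f' * bs p ρ f := by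
  rw [bs_mul, bs_mul, add_comm]

/-- a top element commutes with a base element it leaves invariant -/
theorem top_comm_bs (τ : Perm α) (f : α → ZMod p) (h : ∀ a, f (τ a) = f a) :
    lft ρ (topHom p τ) * bs p ρ f = bs p ρ f * lft ρ (topHom p τ) := by
  unfold bs
  rw [← map_mul, ← map_mul]
  congr 1
  show mk p τ (fun _ => 0) * mk p 1 f = mk p 1 f * mk p τ (fun _ => 0)
  rw [mk_mul, mk_mul, mul_one, one_mul]
  congr 1
  funext a
  simp [h a]

section fin

variable [Fintype α] [DecidableEq α] [Fintype ρ] [DecidableEq ρ]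

theorem card_support_bs (f : α → ZMod p) :
    (bs p ρ f).support.card = (Finset.univ.filter (fun a => f a ≠ 0)).card * p := by
  unfold bs
  rw [card_support_lft, card_support_mk]
  congr 2
  ext a
  simp

theorem sign_top_swap (hodd : p ≠ 2) (a a' : α) (h : a ≠ a') :
    Perm.sign (lft ρ (topHom p (swap a a'))) = -1 := by
  haveI : NeZero p := ⟨hp.out.ne_zero⟩
  rw [sign_lft, sign_topHom, Perm.sign_swap h]
  exact (hp.out.odd_of_ne_two hodd).neg_one_pow

/-- an odd element centralizing a base element, odd `p` -/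
theorem exists_odd_comm_bs (hodd : p ≠ 2) (h3 : 3 ≤ Fintype.card α) (f : α → ZMod p)
    (hf : ∀ a, f a = 0 ∨ f a = 1) :
    ∃ z : Perm ((α × ZMod p) ⊕ ρ), z * bs p ρ f = bs p ρ f * z ∧ Perm.sign z = -1 := by
  obtain ⟨a, a', hne, heq⟩ := Fintype.exists_ne_map_eq_of_card_lt (fun a => decide (f a = 0))
    (by rw [Fintype.card_bool]; omega)
  have heq' : f a = f a' := by
    have h1 : (f a = 0) ↔ (f a' = 0) := by
      have := heq
      simp only [decide_eq_decide] at this
      exact this
    rcases hf a with h | h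
    · rw [h, h1.mp h]
    · rcases hf a' with h' | h'
      · have := h1.mpr h'
        rw [h] at this
        exact absurd this (by
          have : Fact (1 < p) := ⟨hp.out.one_lt⟩
          exact one_ne_zero)
      · rw [h, h']
  refine ⟨lft ρ (topHom p (swap a a')), ?_, sign_top_swap p ρ hodd a a' hne⟩
  apply top_comm_bs
  intro b
  by_cases hb : b = a
  · rw [hb, swap_apply_left, heq']
  · by_cases hb' : b = a'
    · rw [hb', swap_apply_right, heq']
    · rw [swap_apply_of_ne_of_ne hb hb']

end fin

end base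

end Cfsg.Agent.H9.AltF
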