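import Cfsg.Agent.H9.AltFl

/-!
Strongly closed subgroups, odd `p`.
-/

set_option autoImplicit false

namespace Cfsg.Agent.H9.AltF

open Equiv Cfsg.Agent.Lib.Helper7.SylGen

variable (p : ℕ) [hp : Fact p.Prime] {α : Type*} (ρ : Type*)
  [Fintype α] [DecidableEq α] [Fintype ρ] [DecidableEq ρ]

/-- the indicator function of a finset -/
def ind (J : Finset α) : α → ZMod p := fun b => if b ∈ J then 1 else 0

omit [Fintype α] in
theorem ind_01 (J : Finset α) (a : α) : ind p J a = 0 ∨ ind p J a = 1 := by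
  unfold ind
  split_ifs
  · right; rfl
  · left; rfl

theorem filter_ind (J : Finset α) : Finset.univ.filter (fun a => ind p J a ≠ 0) = J := by
  have hp1 : (1 : ZMod p) ≠ 0 := by
    have : Fact (1 < p) := ⟨hp.out.one_lt⟩
    exact one_ne_zero
  ext a
  rw [Finset.mem_filter]
  by_cases h : a ∈ J
  · simp [ind, h, hp1]
  · simp [ind, h]

/-- an element of `P0` of prime order and its number of moved blocks -/
theorem exists_type (H : Subgroup (Perm α)) (u : Perm ((α × ZMod p) ⊕ ρ)) (hu : u ∈ P0 p ρ H)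
    (hu1 : u ≠ 1) :
    ∃ j : ℕ, 1 ≤ j ∧ j ≤ Fintype.card α ∧ u.support.card = j * p := by
  obtain ⟨σ, -, f, rfl⟩ := (mem_P0 p ρ H u).mp hu
  refine ⟨(Finset.univ.filter (fun a => σ a ≠ a ∨ f a ≠ 0)).card, ?_, Finset.card_le_univ _, ?_⟩
  · rw [Nat.one_le_iff_ne_zero, Ne, Finset.card_eq_zero]
    intro h
    apply hu1
    have h2 : ∀ a, σ a = a ∧ f a = 0 := by
      intro a
      have : a ∉ Finset.univ.filter (fun a => σ a ≠ a ∨ f a ≠ 0) := by
        rw [h]; exact Finset.notMem_empty a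
      simpa using this
    have h3 : σ = 1 := Perm.ext (fun a => (h2 a).1)
    have h4 : f = fun _ => 0 := funext (fun a => (h2 a).2)
    rw [h3, h4, mk_one, map_one]
  · rw [card_support_lft, card_support_mk]

theorem sc_odd (hodd : p ≠ 2) (h3 : 3 ≤ Fintype.card α) (H : Subgroup (Perm α))
    (hP : IsPGroup p (P0 p ρ H)) (hPA : P0 p ρ H ≤ alternatingGroup ((α × ZMod p) ⊕ ρ))
    (hgen : ∀ w ∈ P0 p ρ H, w ∈ Subgroup.closure {u | u ∈ P0 p ρ H ∧ u ^ p = 1})
    (T : Subgroup (Perm ((α × ZMod p) ⊕ ρ))) (hT : T ≤ P0 p ρ H)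
    (hcl : ∀ x ∈ T, ∀ g ∈ alternatingGroup ((α × ZMod p) ⊕ ρ), g * x * g⁻¹ ∈ P0 p ρ H →
      g * x * g⁻¹ ∈ T) : T = ⊥ ∨ T = P0 p ρ H := by
  haveI : NeZero p := ⟨hp.out.ne_zero⟩
  have hoddp : Odd p := hp.out.odd_of_ne_two hodd
  by_cases hbot : T = ⊥
  · exact Or.inl hbot
  right
  obtain ⟨x, hx1⟩ := (Subgroup.ne_bot_iff_exists_ne_one.mp hbot)
  have hx1' : (x : Perm ((α × ZMod p) ⊕ ρ)) ≠ 1 := fun h => hx1 (Subtype.ext h)
  -- an element of order p
  obtain ⟨x', hx'T, hx'p, hx'1⟩ : ∃ x' ∈ T, x' ^ p = 1 ∧ x' ≠ 1 := by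
    obtain ⟨k, hk⟩ := (IsPGroup.iff_orderOf.mp hP) ⟨x.1, hT x.2⟩
    rw [Subgroup.orderOf_mk] at hk
    have hk0 : k ≠ 0 := by
      rintro rfl
      rw [pow_zero, orderOf_eq_one_iff] at hk
      exact hx1' hk
    have hdvd : p ∣ orderOf (x : Perm ((α × ZMod p) ⊕ ρ)) := by
      rw [hk]; exact dvd_pow_self p hk0
    have hord := orderOf_pow_orderOf_div (x := (x : Perm ((α × ZMod p) ⊕ ρ)))
      (by rw [hk]; exact pow_ne_zero _ hp.out.ne_zero) hdvd
    refine ⟨(x : Perm ((α × ZMod p) ⊕ ρ)) ^ (orderOf (x : Perm ((α × ZMod p) ⊕ ρ)) / p),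
      T.pow_mem x.2 _, ?_, ?_⟩
    · have h5 := pow_orderOf_eq_one
        ((x : Perm ((α × ZMod p) ⊕ ρ)) ^ (orderOf (x : Perm ((α × ZMod p) ⊕ ρ)) / p))
      rwa [hord] at h5
    · intro h
      rw [h, orderOf_one] at hord
      exact hp.out.one_lt.ne hord
  obtain ⟨j, hj1, hjα, hjs⟩ := exists_type p ρ H x' (hT hx'T) hx'1
  -- key claim
  have hK : ∀ f : α → ZMod p, (∀ a, f a = 0 ∨ f a = 1) →
      (Finset.univ.filter (fun a => f a ≠ 0)).card = j → bs p ρ f ∈ T := by
    intro f hf hfj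
    obtain ⟨z, hz, hzs⟩ := exists_odd_comm_bs p ρ hodd h3 f hf
    obtain ⟨g, hgA, hg⟩ := exists_alt_conj p x' (bs p ρ f) z hx'p (bs_pow_p p ρ f)
      (by rw [hjs, card_support_bs, hfj]) hz hzs
    rw [← hg]
    apply hcl x' hx'T g hgA
    rw [hg]
    exact bs_mem_P0 p ρ H f
  -- step 2
  have h2 : ∀ a : α, bs p ρ (Pi.single a 1) ∈ T := by
    intro a
    obtain ⟨J, haJ, -, hJ⟩ := Finset.exists_subsuperset_card_eq
      (s := {a}) (t := Finset.univ) (n := j) (Finset.subset_univ _)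
      (by rw [Finset.card_singleton]; exact hj1) (by rw [Finset.card_univ]; exact hjα)
    have haJ' : a ∈ J := haJ (Finset.mem_singleton_self a)
    have hfT : bs p ρ (ind p J) ∈ T := hK _ (ind_01 p J) (by rw [filter_ind, hJ])
    obtain ⟨l, hl⟩ : ∃ l : α → (ZMod p)ˣ, l = fun b => if b ∈ J ∧ b ≠ a then -1 else 1 := ⟨_, rfl⟩
    have hconj : lft ρ (dgl p l) * bs p ρ (ind p J) * (lft ρ (dgl p l))⁻¹ =
        bs p ρ (fun b => (l b : ZMod p) * ind p J b) := by
      unfold bs dgl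
      rw [← map_inv, ← map_mul, ← map_mul, aff_conj_mk p l 1 _ 1 _ (fun _ => rfl)]
      congr 2
      funext b
      have h1s : (Equiv.symm (1 : Perm α)) b = b := rfl
      simp [h1s]
    have hy'T : bs p ρ (fun b => (l b : ZMod p) * ind p J b) ∈ T := by
      obtain ⟨z, hz, hzs⟩ := exists_odd_comm_bs p ρ hodd h3 (ind p J) (ind_01 p J)
      rcases Int.units_eq_one_or (Perm.sign (lft ρ (dgl p l))) with hs | hs
      · rw [← hconj]
        apply hcl _ hfT _ (Perm.mem_alternatingGroup.mpr hs)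
        rw [hconj]
        exact bs_mem_P0 p ρ H _
      · have hconj2 : (lft ρ (dgl p l) * z) * bs p ρ (ind p J) * (lft ρ (dgl p l) * z)⁻¹ =
            bs p ρ (fun b => (l b : ZMod p) * ind p J b) := by
          rw [← hconj]
          calc (lft ρ (dgl p l) * z) * bs p ρ (ind p J) * (lft ρ (dgl p l) * z)⁻¹
              = lft ρ (dgl p l) * (z * bs p ρ (ind p J) * z⁻¹) * (lft ρ (dgl p l))⁻¹ := by group
            _ = lft ρ (dgl p l) * bs p ρ (ind p J) * (lft ρ (dgl p l))⁻¹ := by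
              rw [hz, mul_inv_cancel_right]
        rw [← hconj2]
        apply hcl _ hfT
        · rw [Perm.mem_alternatingGroup, Perm.sign_mul, hs, hzs]
          rfl
        · rw [hconj2]
          exact bs_mem_P0 p ρ H _
    have hsum : ind p J + (fun b => (l b : ZMod p) * ind p J b) = Pi.single a 2 := by
      funext b
      rw [Pi.add_apply, hl]
      by_cases hb : b = a
      · rw [hb, Pi.single_eq_same]
        simp [ind, haJ']
        norm_num
      · rw [Pi.single_eq_of_ne hb]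
        by_cases hbJ : b ∈ J
        · simp [ind, hbJ, hb]
        · simp [ind, hbJ]
    have h2T : bs p ρ (Pi.single a 2) ∈ T := by
      rw [← hsum, ← bs_mul]
      exact T.mul_mem hfT hy'T
    obtain ⟨k, hk⟩ := hoddp
    have h3T := T.pow_mem h2T (k + 1)
    rw [bs_pow] at h3T
    convert h3T using 2
    funext b
    by_cases hb : b = a
    · rw [hb]
      simp only [Pi.single_eq_same, Pi.smul_apply, nsmul_eq_mul]
      have hnat : (k + 1) * 2 = p + 1 := by omega
      have : ((k + 1 : ℕ) : ZMod p) * 2 = ((p + 1 : ℕ) : ZMod p) := by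
        rw [← hnat]; push_cast; ring
      rw [this, Nat.cast_add, ZMod.natCast_self, zero_add, Nat.cast_one]
    · simp [Pi.single_eq_of_ne hb]
  -- step 3
  have h3' : ∀ f : α → ZMod p, bs p ρ f ∈ T := by
    intro f
    have hsingle : ∀ a (v : ZMod p), bs p ρ (Pi.single a v) ∈ T := by
      intro a v
      have := T.pow_mem (h2 a) v.val
      rw [bs_pow] at this
      convert this using 2
      funext b
      by_cases hb : b = a
      · rw [hb]; simp
      · simp [Pi.single_eq_of_ne hb]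
    rw [← Finset.univ_sum_single f]
    apply Finset.sum_induction _ (fun f => bs p ρ f ∈ T)
    · intro f g hf hg
      rw [← bs_mul]
      exact T.mul_mem hf hg
    · rw [bs_zero]; exact T.one_mem
    · intro a _
      exact hsingle a (f a)
  -- step 4
  have h4 : ∀ u ∈ P0 p ρ H, u ^ p = 1 → u ∈ T := by
    intro u hu hup
    by_cases hu1 : u = 1
    · rw [hu1]; exact T.one_mem
    obtain ⟨j', -, hj'α, hj's⟩ := exists_type p ρ H u hu hu1
    obtain ⟨J', -, hJ'⟩ := Finset.exists_subset_card_eq (s := (Finset.univ : Finset α)) (n := j')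
      (by rw [Finset.card_univ]; exact hj'α)
    obtain ⟨z, hz, hzs⟩ := exists_odd_comm_bs p ρ hodd h3 (ind p J') (ind_01 p J')
    obtain ⟨g, hgA, hg⟩ := exists_alt_conj p u (bs p ρ (ind p J')) z hup (bs_pow_p p ρ _)
      (by rw [hj's, card_support_bs, filter_ind, hJ']) hz hzs
    have hu' : u = g⁻¹ * bs p ρ (ind p J') * (g⁻¹)⁻¹ := by rw [← hg]; group
    rw [hu']
    apply hcl _ (h3' _) _ (Subgroup.inv_mem _ hgA)
    rw [← hu']
    exact hu
  apply le_antisymm hT
  intro w hw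
  have := hgen w hw
  refine (Subgroup.closure_le T).mpr ?_ this
  rintro u ⟨huP, hup⟩
  exact h4 u huP hup

end Cfsg.Agent.H9.AltF
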