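import Cfsg.Agent.H9.AltFm

/-!
The prime two: signs, base transpositions.
-/

set_option autoImplicit false

namespace Cfsg.Agent.H9.AltF

open Equiv Cfsg.Agent.Lib.Helper7.SylGen

variable {α : Type*} (ρ : Type*)

theorem zmod2_cases (b : ZMod 2) : b = 0 ∨ b = 1 := by
  fin_cases b
  · left; rfl
  · right; rfl

theorem zmod2_add_self (b : ZMod 2) : b + b = 0 := by
  rcases zmod2_cases b with rfl | rfl <;> decide

theorem zmod2_ne_zero (b : ZMod 2) (h : b ≠ 0) : b = 1 := by
  rcases zmod2_cases b with rfl | rfl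
  · exact absurd rfl h
  · rfl

theorem cc_two_eq_swap [DecidableEq α] (a : α) :
    cc 2 a 1 = swap (a, (0 : ZMod 2)) (a, 1) := by
  ext x : 1
  obtain ⟨a', b⟩ := x
  by_cases h : a' = a
  · subst h
    rw [cc_apply_self]
    rcases zmod2_cases b with rfl | rfl
    · rw [swap_apply_left, zero_add]
    · rw [swap_apply_right]
      rfl
  · rw [cc_apply_ne _ _ _ _ _ h, swap_apply_of_ne_of_ne]
    · intro h2; exact h (congrArg Prod.fst h2)
    · intro h2; exact h (congrArg Prod.fst h2)

variable [Fintype α] [DecidableEq α] [Fintype ρ] [DecidableEq ρ]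

theorem sign_bs_single (a : α) : Perm.sign (bs 2 ρ (Pi.single a 1)) = -1 := by
  unfold bs
  rw [sign_lft]
  have : mk 2 (1 : Perm α) (Pi.single a 1) = cc 2 a 1 := rfl
  rw [this, cc_two_eq_swap, Perm.sign_swap]
  intro h
  have h2 : (0 : ZMod 2) = 1 := congrArg Prod.snd h
  exact absurd h2 (by decide)

theorem sign_top_two (σ : Perm α) : Perm.sign (lft ρ (topHom 2 σ)) = 1 := by
  rw [sign_lft, sign_topHom]
  exact Int.units_sq _

theorem sign_lft_mk_two (σ : Perm α) (f : α → ZMod 2) :
    Perm.sign (lft ρ (mk 2 σ f)) = Perm.sign (bs 2 ρ f) := by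
  rw [mk_eq, map_mul, Perm.sign_mul, sign_top_two, one_mul]
  rfl

/-- the base transposition as a swap -/
theorem bs_single_eq_swap (a : α) :
    bs 2 ρ (Pi.single a 1) = swap (Sum.inl (a, (0 : ZMod 2))) (Sum.inl (a, 1)) := by
  unfold bs
  have : mk 2 (1 : Perm α) (Pi.single a 1) = cc 2 a 1 := rfl
  rw [this, cc_two_eq_swap]
  ext x : 1
  rcases x with x | y
  · rw [lft_inl]
    by_cases h0 : x = (a, 0)
    · rw [h0, swap_apply_left, swap_apply_left]
    · by_cases h1 : x = (a, 1)
      · rw [h1, swap_apply_right, swap_apply_right]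
      · rw [swap_apply_of_ne_of_ne h0 h1, swap_apply_of_ne_of_ne]
        · intro h; exact h0 (Sum.inl_injective h)
        · intro h; exact h1 (Sum.inl_injective h)
  · rw [lft_inr, swap_apply_of_ne_of_ne] <;> exact Sum.inr_ne_inl

end Cfsg.Agent.H9.AltF
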