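import Cfsg.Agent.H9.AltFn

/-!
The prime two: the normalizer of the even part of the wreath group.
-/

set_option autoImplicit false

namespace Cfsg.Agent.H9.AltF

open Equiv Cfsg.Agent.Lib.Helper7.SylGen

section general

variable (p : ℕ) [hp : Fact p.Prime] {α : Type*} (ρ : Type*) (H : Subgroup (Perm α))

theorem top_of_conj_mem (l : α → (ZMod p)ˣ) (σ : Perm α) (f : α → ZMod p) (τ : Perm α)
    (h : lft ρ (aff p l σ f) * lft ρ (mk p τ (fun _ => 0)) * (lft ρ (aff p l σ f))⁻¹ ∈ P0 p ρ H) :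
    σ * τ * σ⁻¹ ∈ H := by
  obtain ⟨τ', hτ', h', h2⟩ := (mem_P0 p ρ H _).mp h
  rw [← map_inv, ← map_mul, ← map_mul] at h2
  have h3 := lft_injective ρ h2
  have h4 : aff p l σ f * mk p τ (fun _ => 0) = mk p τ' h' * aff p l σ f := by
    rw [← h3, inv_mul_cancel_right]
  have h5 : σ * τ = τ' * σ := by
    ext a
    have := congrArg (fun e : Perm (α × ZMod p) => (e (a, 0)).1) h4
    simpa using this
  have : σ * τ * σ⁻¹ = τ' := by rw [h5, mul_inv_cancel_right]
  rw [this]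
  exact hτ'

theorem bs_apply (f : α → ZMod p) (c : α) (b : ZMod p) :
    bs p ρ f (Sum.inl (c, b)) = Sum.inl (c, b + f c) := by
  simp [bs]

end general

variable {α : Type*} (ρ : Type*) [Fintype α] [DecidableEq α] [Fintype ρ] [DecidableEq ρ]
  (H : Subgroup (Perm α))

/-- the even part of the wreath group -/
def S2 : Subgroup (Perm ((α × ZMod 2) ⊕ ρ)) :=
  P0 2 ρ H ⊓ alternatingGroup ((α × ZMod 2) ⊕ ρ)

/-- two points lying in at least two double transpositions of `S2` -/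
def Rel2 (x y : (α × ZMod 2) ⊕ ρ) : Prop :=
  x ≠ y ∧ ∃ d1 ∈ S2 ρ H, ∃ d2 ∈ S2 ρ H, d1 ≠ d2 ∧ d1.support.card = 4 ∧ d2.support.card = 4 ∧
    d1 * d1 = 1 ∧ d2 * d2 = 1 ∧ d1 x = y ∧ d2 x = y

theorem exists_two_others (h3 : 3 ≤ Fintype.card α) (a : α) :
    ∃ a' a'' : α, a' ≠ a ∧ a'' ≠ a ∧ a' ≠ a'' := by
  have h1 : 1 < (Finset.univ.erase a).card := by
    rw [Finset.card_erase_of_mem (Finset.mem_univ a), Finset.card_univ]
    omega
  obtain ⟨a', ha', a'', ha'', hne⟩ := Finset.one_lt_card.mp h1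
  exact ⟨a', a'', (Finset.mem_erase.mp ha').1, (Finset.mem_erase.mp ha'').1, hne⟩

theorem pair_mem_S2 (a a' : α) (h : a' ≠ a) :
    bs 2 ρ (Pi.single a 1 + Pi.single a' 1) ∈ S2 ρ H := by
  refine ⟨bs_mem_P0 2 ρ H _, ?_⟩
  show _ ∈ alternatingGroup ((α × ZMod 2) ⊕ ρ)
  rw [Perm.mem_alternatingGroup, ← bs_mul, Perm.sign_mul, sign_bs_single, sign_bs_single]
  rfl

theorem pair_support (a a' : α) (h : a' ≠ a) :
    (bs 2 ρ (Pi.single a 1 + Pi.single a' 1 : α → ZMod 2)).support.card = 4 := by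
  rw [card_support_bs]
  have : Finset.univ.filter (fun c => (Pi.single a 1 + Pi.single a' 1 : α → ZMod 2) c ≠ 0) =
      {a, a'} := by
    ext c
    simp only [Finset.mem_filter, Finset.mem_univ, true_and, Finset.mem_insert,
      Finset.mem_singleton, Pi.add_apply]
    by_cases hc : c = a
    · subst hc
      simp [Pi.single_eq_of_ne h.symm]
    · by_cases hc' : c = a'
      · subst hc'
        simp [Pi.single_eq_of_ne hc]
      · simp [Pi.single_eq_of_ne hc, Pi.single_eq_of_ne hc', hc, hc']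
  rw [this, Finset.card_pair h.symm]

theorem pair_sq (f : α → ZMod 2) : bs 2 ρ f * bs 2 ρ f = 1 := by
  rw [bs_mul]
  have : f + f = 0 := by
    funext c
    exact zmod2_add_self (f c)
  rw [this, bs_zero]

theorem rel2_base (h3 : 3 ≤ Fintype.card α) (a : α) (b : ZMod 2) :
    Rel2 ρ H (Sum.inl (a, b)) (Sum.inl (a, b + 1)) := by
  obtain ⟨a', a'', ha', ha'', hne⟩ := exists_two_others h3 a
  refine ⟨?_, bs 2 ρ (Pi.single a 1 + Pi.single a' 1), pair_mem_S2 ρ H a a' ha',
    bs 2 ρ (Pi.single a 1 + Pi.single a'' 1), pair_mem_S2 ρ H a a'' ha'', ?_,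
    pair_support ρ a a' ha', pair_support ρ a a'' ha'', pair_sq ρ _, pair_sq ρ _, ?_, ?_⟩
  · intro h
    have h2 : b = b + 1 := congrArg Prod.snd (Sum.inl_injective h)
    have h3 : (1 : ZMod 2) = 0 := by
      have := congrArg (fun t => t - b) h2
      simpa using this.symm
    exact absurd h3 (by decide)
  · intro h
    have h2 := congrArg (fun e : Perm ((α × ZMod 2) ⊕ ρ) => e (Sum.inl (a', 0))) h
    simp only [bs_apply, Pi.add_apply, Pi.single_eq_same, Pi.single_eq_of_ne ha',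
      Pi.single_eq_of_ne hne] at h2
    have h3 : (0 : ZMod 2) + (0 + 1) = 0 + (0 + 0) := congrArg Prod.snd (Sum.inl_injective h2)
    exact absurd h3 (by decide)
  · rw [bs_apply, Pi.add_apply, Pi.single_eq_same, Pi.single_eq_of_ne ha'.symm, add_zero]
  · rw [bs_apply, Pi.add_apply, Pi.single_eq_same, Pi.single_eq_of_ne ha''.symm, add_zero]

end Cfsg.Agent.H9.AltF
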