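import Cfsg.Agent.H9.AltFo

/-!
The prime two: related points form a base pair; the normalizer of `S2`.
-/

set_option autoImplicit false

namespace Cfsg.Agent.H9.AltF

open Equiv Cfsg.Agent.Lib.Helper7.SylGen

variable {α : Type*} (ρ : Type*) [Fintype α] [DecidableEq α] [Fintype ρ] [DecidableEq ρ]
  (H : Subgroup (Perm α))

omit [Fintype ρ] [DecidableEq ρ] in
/-- a wreath element with two moved blocks, moving the block `a` -/
theorem two_block (σ : Perm α) (f : α → ZMod 2)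
    (hM : (Finset.univ.filter (fun c => σ c ≠ c ∨ f c ≠ 0)).card = 2) (a : α) (ha : σ a ≠ a) :
    σ (σ a) = a ∧ ∀ c, c ≠ a → c ≠ σ a → σ c = c ∧ f c = 0 := by
  have ha' : σ (σ a) ≠ σ a := fun h => ha (σ.injective h)
  have hsub : ({a, σ a} : Finset α) ⊆ Finset.univ.filter (fun c => σ c ≠ c ∨ f c ≠ 0) := by
    intro c hc
    rw [Finset.mem_insert, Finset.mem_singleton] at hc
    rw [Finset.mem_filter]
    rcases hc with rfl | rfl
    · exact ⟨Finset.mem_univ _, Or.inl ha⟩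
    · exact ⟨Finset.mem_univ _, Or.inl ha'⟩
  have hcard : ({a, σ a} : Finset α).card = 2 := Finset.card_pair (Ne.symm ha)
  have heq : ({a, σ a} : Finset α) = Finset.univ.filter (fun c => σ c ≠ c ∨ f c ≠ 0) :=
    Finset.eq_of_subset_of_card_le hsub (by rw [hM, hcard])
  have hmem : ∀ c, (σ c ≠ c ∨ f c ≠ 0) → c = a ∨ c = σ a := by
    intro c hc
    have : c ∈ Finset.univ.filter (fun c => σ c ≠ c ∨ f c ≠ 0) := by
      rw [Finset.mem_filter]; exact ⟨Finset.mem_univ _, hc⟩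
    rw [← heq, Finset.mem_insert, Finset.mem_singleton] at this
    exact this
  constructor
  · have h1 : σ (σ (σ a)) ≠ σ (σ a) := fun h => ha' (σ.injective h)
    rcases hmem (σ (σ a)) (Or.inl h1) with h | h
    · exact h
    · exact absurd h ha'
  · intro c hca hcσ
    constructor
    · by_contra h
      rcases hmem c (Or.inl h) with h' | h'
      · exact hca h'
      · exact hcσ h'
    · by_contra h
      rcases hmem c (Or.inr h) with h' | h'
      · exact hca h'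
      · exact hcσ h'

theorem rel2_imp (x y : (α × ZMod 2) ⊕ ρ) (h : Rel2 ρ H x y) :
    ∃ a b, x = Sum.inl (a, b) ∧ y = Sum.inl (a, b + 1) := by
  obtain ⟨hxy, d1, hd1, d2, hd2, hne, hc1, hc2, hs1, hs2, hx1, hx2⟩ := h
  obtain ⟨σ1, -, f1, rfl⟩ := (mem_P0 2 ρ H d1).mp hd1.1
  obtain ⟨σ2, -, f2, rfl⟩ := (mem_P0 2 ρ H d2).mp hd2.1
  rcases x with ⟨a, b⟩ | y0
  swap
  · rw [lft_inr] at hx1
    exact absurd hx1 hxy
  rw [lft_inl, mk_apply] at hx1 hx2
  by_cases e1 : σ1 a = a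
  · refine ⟨a, b, rfl, ?_⟩
    rw [← hx1, e1]
    have : f1 a ≠ 0 := by
      intro h0
      apply hxy
      rw [← hx1, e1, h0, add_zero]
    rw [zmod2_ne_zero _ this]
  by_cases e2 : σ2 a = a
  · refine ⟨a, b, rfl, ?_⟩
    rw [← hx2, e2]
    have : f2 a ≠ 0 := by
      intro h0
      apply hxy
      rw [← hx2, e2, h0, add_zero]
    rw [zmod2_ne_zero _ this]
  exfalso
  apply hne
  have hM : ∀ (σ : Perm α) (f : α → ZMod 2), (lft ρ (mk 2 σ f)).support.card = 4 →
      (Finset.univ.filter (fun c => σ c ≠ c ∨ f c ≠ 0)).card = 2 := by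
    intro σ f hc
    rw [card_support_lft, card_support_mk] at hc
    omega
  obtain ⟨h1a, h1b⟩ := two_block σ1 f1 (hM σ1 f1 hc1) a e1
  obtain ⟨h2a, h2b⟩ := two_block σ2 f2 (hM σ2 f2 hc2) a e2
  have hy := hx1.trans hx2.symm
  have hσa : σ1 a = σ2 a := congrArg Prod.fst (Sum.inl_injective hy)
  have hfa : f1 a = f2 a := by
    have := congrArg Prod.snd (Sum.inl_injective hy)
    exact add_left_cancel this
  have hσ : σ1 = σ2 := by
    ext c
    by_cases hca : c = a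
    · rw [hca, hσa]
    · by_cases hcσ : c = σ1 a
      · rw [hcσ, h1a, hσa, h2a]
      · rw [(h1b c hca hcσ).1, (h2b c hca (hσa ▸ hcσ)).1]
  have hsq : ∀ (σ : Perm α) (f : α → ZMod 2), lft ρ (mk 2 σ f) * lft ρ (mk 2 σ f) = 1 →
      ∀ c, f c + f (σ c) = 0 := by
    intro σ f hs c
    rw [← map_mul, mk_mul] at hs
    have h1 := lft_injective ρ (hs.trans (map_one _).symm)
    rw [← mk_one 2] at h1
    have h2 := mk_injective 2 (α := α) (a₁ := (σ * σ, fun a => f a + f (σ a)))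
      (a₂ := (1, fun _ => 0)) h1
    simp only [Prod.mk.injEq] at h2
    exact congrFun h2.2 c
  have hf : f1 = f2 := by
    funext c
    by_cases hca : c = a
    · rw [hca, hfa]
    · by_cases hcσ : c = σ1 a
      · have e1 := hsq σ1 f1 hs1 a
        have e2 := hsq σ2 f2 hs2 a
        rw [hcσ]
        have e3 : f1 (σ1 a) = f1 a := by
          have := zmod2_add_self (f1 a)
          have h5 : f1 a + f1 (σ1 a) = f1 a + f1 a := by rw [e1, this]
          exact add_left_cancel h5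
        have e4 : f2 (σ2 a) = f2 a := by
          have := zmod2_add_self (f2 a)
          have h5 : f2 a + f2 (σ2 a) = f2 a + f2 a := by rw [e2, this]
          exact add_left_cancel h5
        rw [e3, hσa, e4, hfa]
      · rw [(h1b c hca hcσ).2, (h2b c hca (hσa ▸ hcσ)).2]
  rw [hσ, hf]

theorem rel2_conj (g : Perm ((α × ZMod 2) ⊕ ρ))
    (hg : g ∈ Subgroup.normalizer ((S2 ρ H : Subgroup _) : Set (Perm ((α × ZMod 2) ⊕ ρ))))
    (x y : (α × ZMod 2) ⊕ ρ) (h : Rel2 ρ H x y) : Rel2 ρ H (g x) (g y) := by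
  obtain ⟨hxy, d1, hd1, d2, hd2, hne, hc1, hc2, hs1, hs2, hx1, hx2⟩ := h
  refine ⟨fun h => hxy (g.injective h), g * d1 * g⁻¹,
    (Subgroup.mem_normalizer_iff.mp hg d1).mp hd1, g * d2 * g⁻¹,
    (Subgroup.mem_normalizer_iff.mp hg d2).mp hd2, ?_, ?_, ?_, ?_, ?_, ?_, ?_⟩
  · intro h
    apply hne
    have := congrArg (fun t => g⁻¹ * t * g) h
    simpa [mul_assoc] using this
  · rw [Perm.card_support_conj, hc1]
  · rw [Perm.card_support_conj, hc2]
  · calc g * d1 * g⁻¹ * (g * d1 * g⁻¹) = g * (d1 * d1) * g⁻¹ := by group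
      _ = 1 := by rw [hs1]; group
  · calc g * d2 * g⁻¹ * (g * d2 * g⁻¹) = g * (d2 * d2) * g⁻¹ := by group
      _ = 1 := by rw [hs2]; group
  · simp [hx1]
  · simp [hx2]

variable [Subsingleton ρ]

/-- **the normalizer of `S2` lies in the wreath group**, when `H` is self-normalizing -/
theorem normalizer_S2_le (h3 : 3 ≤ Fintype.card α)
    (hH : ∀ σ : Perm α, (∀ τ ∈ H, σ * τ * σ⁻¹ ∈ H) → σ ∈ H)
    (g : Perm ((α × ZMod 2) ⊕ ρ))
    (hg : g ∈ Subgroup.normalizer ((S2 ρ H : Subgroup _) : Set (Perm ((α × ZMod 2) ⊕ ρ)))) :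
    g ∈ P0 2 ρ H := by
  have h1 : ∀ a : α, ∃ (a' : α) (v : ZMod 2), v ≠ 0 ∧
      g * lft ρ (cc 2 a 1) * g⁻¹ = lft ρ (cc 2 a' v) := by
    intro a
    have hr := rel2_conj ρ H g hg _ _ (rel2_base ρ H h3 a 0)
    obtain ⟨a', b', hx, hy⟩ := rel2_imp ρ H _ _ hr
    refine ⟨a', 1, by decide, ?_⟩
    have e1 : lft ρ (cc 2 a 1) = swap (Sum.inl (a, (0 : ZMod 2))) (Sum.inl (a, 0 + 1)) := by
      rw [zero_add]
      exact bs_single_eq_swap ρ a
    have e2 : lft ρ (cc 2 a' 1) = swap (Sum.inl (a', b')) (Sum.inl (a', b' + 1)) := by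
      rcases zmod2_cases b' with rfl | rfl
      · rw [zero_add]
        exact bs_single_eq_swap ρ a'
      · have : (1 : ZMod 2) + 1 = 0 := by decide
        rw [this, swap_comm]
        exact bs_single_eq_swap ρ a'
    rw [e1, e2, ← Equiv.swap_apply_apply, hx, hy]
  obtain ⟨l, σ, f, rfl, -⟩ := affine_of_conj 2 ρ g h1
  rw [aff_mem_P0]
  refine ⟨fun a => Subsingleton.elim _ _, ?_⟩
  apply hH
  intro τ hτ
  apply top_of_conj_mem 2 ρ H l σ f τ
  have h2 : lft ρ (mk 2 τ (fun _ => 0)) ∈ S2 ρ H := by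
    refine ⟨(mem_P0 2 ρ H _).mpr ⟨τ, hτ, _, rfl⟩, ?_⟩
    show _ ∈ alternatingGroup ((α × ZMod 2) ⊕ ρ)
    rw [Perm.mem_alternatingGroup]
    exact sign_top_two ρ τ
  exact ((Subgroup.mem_normalizer_iff.mp hg _).mp h2).1

end Cfsg.Agent.H9.AltF
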