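import Cfsg.Agent.H9.AltFp

/-!
Sylow `2`-subgroups of symmetric groups are self-normalizing; cardinality of `P0`.
-/

set_option autoImplicit false

namespace Cfsg.Agent.H9.AltF

open Equiv Cfsg.Agent.Lib.Helper7.SylGen

/-- self-normalizing subgroups, elementwise -/
def SN {G : Type*} [Group G] (K : Subgroup G) : Prop :=
  ∀ σ : G, (∀ τ ∈ K, σ * τ * σ⁻¹ ∈ K) → σ ∈ K

theorem SN.map {G G' : Type*} [Group G] [Group G'] (φ : G ≃* G') (K : Subgroup G) (h : SN K) :
    SN (K.map φ.toMonoidHom) := by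
  intro σ' hσ'
  refine ⟨φ.symm σ', h _ ?_, by simp⟩
  intro τ hτ
  obtain ⟨k, hk, hkτ⟩ := hσ' (φ τ) ⟨τ, hτ, rfl⟩
  have : k = φ.symm σ' * τ * (φ.symm σ')⁻¹ := by
    apply φ.injective
    have h1 : φ k = σ' * φ τ * σ'⁻¹ := hkτ
    rw [h1]
    simp
  rw [← this]
  exact hk

theorem card_P0 (p : ℕ) [hp : Fact p.Prime] {α : Type*} [Finite α] (ρ : Type*)
    (H : Subgroup (Perm α)) : Nat.card (P0 p ρ H) = Nat.card H * p ^ Nat.card α := by
  unfold P0
  rw [Subgroup.card_map_of_injective (lft_injective ρ), card_wr]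

theorem normalizer_P0_two {α : Type*} [Fintype α] [DecidableEq α] (ρ : Type*) [Fintype ρ]
    [DecidableEq ρ] [Subsingleton ρ] (H : Subgroup (Perm α)) (hH : SN H) : SN (P0 2 ρ H) := by
  intro g hg
  have hgN : g ∈ Subgroup.normalizer ((P0 2 ρ H : Subgroup _) : Set (Perm ((α × ZMod 2) ⊕ ρ))) := by
    apply Subgroup.mem_normalizer_fintype
    exact hg
  obtain ⟨l, σ, f, rfl, -⟩ := affine_of_mem_normalizer 2 ρ H g hgN
  rw [aff_mem_P0]
  refine ⟨fun a => Subsingleton.elim _ _, hH σ ?_⟩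
  intro τ hτ
  exact top_of_mem_normalizer 2 ρ H l σ f hgN τ hτ

/-- the standard Sylow subgroup of `Perm (Fin n)`, transported from the wreath group -/
theorem card_std (p : ℕ) [hp : Fact p.Prime] (n m r : ℕ) (hn : n = p * m + r) (hr : r < p)
    (H : Sylow p (Perm (Fin m))) :
    Nat.card (P0 p (Fin r) (H : Subgroup (Perm (Fin m)))) =
      p ^ (Nat.card (Perm (Fin n))).factorization p := by
  rw [card_P0, H.card_eq_multiplicity, Nat.card_perm, Nat.card_perm, Nat.card_fin, Nat.card_fin,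
    ← pow_add, Nat.factorization_def _ hp.out, Nat.factorization_def _ hp.out, hn,
    padicValNat_factorial_mul_add m hr, padicValNat_factorial_mul]

theorem syl2_selfnorm (n : ℕ) : ∀ P : Sylow 2 (Perm (Fin n)),
    SN (P : Subgroup (Perm (Fin n))) := by
  induction n using Nat.strong_induction_on with
  | _ n ih =>
    intro P
    by_cases hn2 : n < 2
    · haveI : Subsingleton (Fin n) := Fin.subsingleton_iff_le_one.mpr (by omega)
      intro σ _
      rw [Subsingleton.elim σ 1]
      exact Subgroup.one_mem _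
    · have hm : n / 2 < n := Nat.div_lt_self (by omega) (by norm_num)
      obtain ⟨H⟩ : Nonempty (Sylow 2 (Perm (Fin (n / 2)))) := inferInstance
      have hr : n % 2 < 2 := Nat.mod_lt n (by norm_num)
      haveI : Subsingleton (Fin (n % 2)) := Fin.subsingleton_iff_le_one.mpr (by omega)
      have hn : n = 2 * (n / 2) + n % 2 := (Nat.div_add_mod n 2).symm
      have hcard := card_std 2 n (n / 2) (n % 2) hn hr H
      have e : ((Fin (n / 2) × ZMod 2) ⊕ Fin (n % 2)) ≃ Fin n := Finite.equivFinOfCardEq (by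
        rw [Nat.card_sum, Nat.card_prod, Nat.card_zmod, Nat.card_fin, Nat.card_fin, mul_comm]
        exact hn.symm)
      have h1 : SN ((P0 2 (Fin (n % 2)) (H : Subgroup (Perm (Fin (n / 2))))).map
          e.permCongrHom.toMonoidHom) :=
        SN.map _ _ (normalizer_P0_two (Fin (n % 2)) _ (ih (n / 2) hm H))
      have hcard2 : Nat.card ((P0 2 (Fin (n % 2)) (H : Subgroup (Perm (Fin (n / 2))))).map
          e.permCongrHom.toMonoidHom) = 2 ^ (Nat.card (Perm (Fin n))).factorization 2 := by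
        rw [Subgroup.card_map_of_injective e.permCongrHom.injective, hcard]
      obtain ⟨g, hg⟩ := MulAction.exists_smul_eq (Perm (Fin n)) (Sylow.ofCard _ hcard2) P
      have hP : (P : Subgroup (Perm (Fin n))) =
          ((P0 2 (Fin (n % 2)) (H : Subgroup (Perm (Fin (n / 2))))).map
            e.permCongrHom.toMonoidHom).map (MulAut.conj g).toMonoidHom := by
        rw [← hg, Sylow.coe_subgroup_smul]
        rfl
      rw [hP]
      exact SN.map _ _ h1

/-- a Sylow `2`-subgroup of `Perm (Fin m)` contains a transposition, `2 ≤ m` -/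
theorem exists_swap_mem_sylow (m : ℕ) (hm : 2 ≤ m) (H : Sylow 2 (Perm (Fin m))) :
    ∃ a1 a2 : Fin m, a1 ≠ a2 ∧ swap a1 a2 ∈ (H : Subgroup (Perm (Fin m))) := by
  obtain ⟨x, y, hxy⟩ : ∃ x y : Fin m, x ≠ y :=
    ⟨⟨0, by omega⟩, ⟨1, by omega⟩, by simp [Fin.ext_iff]⟩
  have hP : IsPGroup 2 (Subgroup.zpowers (swap x y)) := by
    apply IsPGroup.of_card (n := 1)
    rw [Nat.card_zpowers, pow_one]
    exact orderOf_eq_prime (by rw [pow_two, swap_mul_self]) (by
      intro h
      have := congrArg (fun e : Perm (Fin m) => e x) h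
      simp at this
      exact hxy this.symm)
  obtain ⟨Q, hQ⟩ := hP.exists_le_sylow
  obtain ⟨g, hg⟩ := MulAction.exists_smul_eq (Perm (Fin m)) Q H
  have h1 : swap x y ∈ (Q : Subgroup (Perm (Fin m))) := hQ (Subgroup.mem_zpowers _)
  have h2 : g * swap x y * g⁻¹ ∈ (H : Subgroup (Perm (Fin m))) := by
    rw [← hg, Sylow.coe_subgroup_smul]
    exact ⟨_, h1, rfl⟩
  rw [← Equiv.swap_apply_apply] at h2
  exact ⟨g x, g y, fun h => hxy (g.injective h), h2⟩

end Cfsg.Agent.H9.AltF
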