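import Cfsg.Agent.H9.AltFq

/-!
Strongly closed subgroups, `p = 2`.
-/

set_option autoImplicit false

namespace Cfsg.Agent.H9.AltF

open Equiv Cfsg.Agent.Lib.Helper7.SylGen

variable {α : Type*} (ρ : Type*) [Fintype α] [DecidableEq α] [Fintype ρ] [DecidableEq ρ]
  (H : Subgroup (Perm α))

omit [Fintype α] [DecidableEq α] [Fintype ρ] [DecidableEq ρ] in
theorem zmod2_eq_of_add (x y : ZMod 2) (h : x + y = 0) : x = y := by
  have := zmod2_add_self y
  have h5 : x + y = y + y := by rw [h, this]
  exact add_right_cancel h5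

theorem sc_two (h3 : 3 ≤ Fintype.card α) (hP : IsPGroup 2 (P0 2 ρ H))
    (hgenE : ∀ w ∈ P0 2 ρ H, Perm.sign w = 1 →
      w ∈ Subgroup.closure {u | u ∈ P0 2 ρ H ∧ u ^ 2 = 1 ∧ Perm.sign u = 1})
    (hswap : ∃ a1 a2 : α, a1 ≠ a2 ∧ swap a1 a2 ∈ H)
    (T : Subgroup (Perm ((α × ZMod 2) ⊕ ρ))) (hT : T ≤ S2 ρ H)
    (hcl : ∀ x ∈ T, ∀ g ∈ alternatingGroup ((α × ZMod 2) ⊕ ρ), g * x * g⁻¹ ∈ S2 ρ H →
      g * x * g⁻¹ ∈ T) : T = ⊥ ∨ T = S2 ρ H := by
  by_cases hbot : T = ⊥
  · exact Or.inl hbot
  right
  have hTA : ∀ x ∈ T, x ∈ alternatingGroup ((α × ZMod 2) ⊕ ρ) := fun x hx => (hT hx).2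
  have hTP : ∀ x ∈ T, x ∈ P0 2 ρ H := fun x hx => (hT hx).1
  obtain ⟨a0⟩ : Nonempty α := by
    rw [← Fintype.card_pos_iff]; omega
  obtain ⟨x, hx1⟩ := (Subgroup.ne_bot_iff_exists_ne_one.mp hbot)
  have hx1' : (x : Perm ((α × ZMod 2) ⊕ ρ)) ≠ 1 := fun h => hx1 (Subtype.ext h)
  -- an involution in T
  obtain ⟨x', hx'T, hx'p, hx'1⟩ : ∃ x' ∈ T, x' ^ 2 = 1 ∧ x' ≠ 1 := by
    obtain ⟨k, hk⟩ := (IsPGroup.iff_orderOf.mp hP) ⟨x.1, hTP _ x.2⟩
    rw [Subgroup.orderOf_mk] at hk
    have hk0 : k ≠ 0 := by
      rintro rfl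
      rw [pow_zero, orderOf_eq_one_iff] at hk
      exact hx1' hk
    have hdvd : 2 ∣ orderOf (x : Perm ((α × ZMod 2) ⊕ ρ)) := by
      rw [hk]; exact dvd_pow_self 2 hk0
    have hord := orderOf_pow_orderOf_div (x := (x : Perm ((α × ZMod 2) ⊕ ρ)))
      (by rw [hk]; exact pow_ne_zero _ (by norm_num)) hdvd
    refine ⟨(x : Perm ((α × ZMod 2) ⊕ ρ)) ^ (orderOf (x : Perm ((α × ZMod 2) ⊕ ρ)) / 2),
      T.pow_mem x.2 _, ?_, ?_⟩
    · have h5 := pow_orderOf_eq_one
        ((x : Perm ((α × ZMod 2) ⊕ ρ)) ^ (orderOf (x : Perm ((α × ZMod 2) ⊕ ρ)) / 2))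
      rwa [hord] at h5
    · intro h
      rw [h, orderOf_one] at hord
      exact absurd hord (by norm_num)
  -- key claim
  have hK : ∀ x' ∈ T, x' ^ 2 = 1 → ∀ j : ℕ, x'.support.card = j * 2 → ∀ f : α → ZMod 2,
      (Finset.univ.filter (fun a => f a ≠ 0)).card = j → bs 2 ρ f ∈ T := by
    intro x' hx'T hx'p j hj f hfj
    obtain ⟨g, hgA, hg⟩ := exists_alt_conj 2 x' (bs 2 ρ f) (bs 2 ρ (Pi.single a0 1)) hx'p
      (bs_pow_p 2 ρ f) (by rw [hj, card_support_bs, hfj]) (bs_comm 2 ρ _ _) (sign_bs_single ρ a0)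
    rw [← hg]
    apply hcl x' hx'T g hgA
    refine ⟨?_, Subgroup.mul_mem _ (Subgroup.mul_mem _ hgA (hTA _ hx'T)) (Subgroup.inv_mem _ hgA)⟩
    rw [hg]
    exact bs_mem_P0 2 ρ H f
  -- pairs from an involution of small type
  have hPair : ∀ x' ∈ T, x' ^ 2 = 1 → ∀ j : ℕ, x'.support.card = j * 2 → 1 ≤ j →
      j < Fintype.card α → ∀ a b : α, a ≠ b → bs 2 ρ (Pi.single a 1 + Pi.single b 1) ∈ T := by
    intro x' hx'T hx'p j hj hj1 hjm a b hab
    obtain ⟨J, haJ, hJb, hJ⟩ := Finset.exists_subsuperset_card_eq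
      (s := {a}) (t := Finset.univ.erase b) (n := j)
      (by
        intro c hc
        rw [Finset.mem_singleton] at hc
        rw [hc, Finset.mem_erase]
        exact ⟨hab, Finset.mem_univ _⟩)
      (by rw [Finset.card_singleton]; exact hj1)
      (by rw [Finset.card_erase_of_mem (Finset.mem_univ b), Finset.card_univ]; omega)
    have haJ' : a ∈ J := haJ (Finset.mem_singleton_self a)
    have hbJ : b ∉ J := fun h => (Finset.mem_erase.mp (hJb h)).1 rfl
    have h1 : bs 2 ρ (ind 2 J) ∈ T := hK x' hx'T hx'p j hj _ (by rw [filter_ind, hJ])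
    have hJ'card : (insert b (J.erase a)).card = j := by
      rw [Finset.card_insert_of_notMem (fun h => hbJ (Finset.mem_of_mem_erase h)),
        Finset.card_erase_of_mem haJ', hJ]
      omega
    have h2 : bs 2 ρ (ind 2 (insert b (J.erase a))) ∈ T :=
      hK x' hx'T hx'p j hj _ (by rw [filter_ind, hJ'card])
    have hsum : ind 2 J + ind 2 (insert b (J.erase a)) =
        (Pi.single a 1 + Pi.single b 1 : α → ZMod 2) := by
      funext c
      simp only [Pi.add_apply, ind, Finset.mem_insert, Finset.mem_erase]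
      by_cases hca : c = a
      · subst hca
        simp [haJ', hab, Pi.single_eq_of_ne hab]
      · by_cases hcb : c = b
        · subst hcb
          simp [hbJ, Pi.single_eq_of_ne hca]
        · by_cases hcJ : c ∈ J
          · simp [hca, hcb, hcJ, Pi.single_eq_of_ne hca, Pi.single_eq_of_ne hcb]
            decide
          · simp [hca, hcb, hcJ, Pi.single_eq_of_ne hca, Pi.single_eq_of_ne hcb]
    rw [← hsum, ← bs_mul]
    exact T.mul_mem h1 h2
  obtain ⟨j, hj1, hjα, hjs⟩ := exists_type 2 ρ H x' (hTP _ hx'T) hx'1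
  -- all pairs lie in T
  have hpairs : ∀ a b : α, a ≠ b → bs 2 ρ (Pi.single a 1 + Pi.single b 1) ∈ T := by
    by_cases hjm : j < Fintype.card α
    · exact hPair x' hx'T hx'p j hjs hj1 hjm
    · have hjeq : j = Fintype.card α := le_antisymm hjα (not_lt.mp hjm)
      obtain ⟨a1, a2, ha12, hsw⟩ := hswap
      have hone : bs 2 ρ (fun _ : α => (1 : ZMod 2)) ∈ T := by
        apply hK x' hx'T hx'p j hjs
        rw [hjeq, ← Finset.card_univ]
        congr 1
        ext c
        simp
      obtain ⟨f2, hf2⟩ : ∃ f2 : α → ZMod 2, f2 = fun c => if c = a1 ∨ c = a2 then 0 else 1 :=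
        ⟨_, rfl⟩
      have hsq : ∀ h : α → ZMod 2, (∀ c, h (swap a1 a2 c) = h c) →
          lft ρ (mk 2 (swap a1 a2) h) ^ 2 = 1 := by
        intro h hh
        rw [← map_pow, pow_two, mk_mul, swap_mul_self]
        have : (fun a => h a + h (swap a1 a2 a)) = fun _ => 0 := by
          funext c
          rw [hh c]
          exact zmod2_add_self _
        rw [this, mk_one, map_one]
      have hf2inv : ∀ c, f2 (swap a1 a2 c) = f2 c := by
        intro c
        rw [hf2]
        by_cases hc1 : c = a1
        · subst hc1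
          simp
        · by_cases hc2 : c = a2
          · subst hc2
            simp
          · rw [swap_apply_of_ne_of_ne hc1 hc2]
      obtain ⟨a3, ha31, ha32⟩ : ∃ a3 : α, a3 ≠ a1 ∧ a3 ≠ a2 := by
        obtain ⟨b, b', hb, hb', hbb⟩ := exists_two_others h3 a1
        by_cases hb2 : b = a2
        · exact ⟨b', hb', fun h => hbb (hb2.trans h.symm)⟩
        · exact ⟨b, hb, hb2⟩
      have hy2P : lft ρ (mk 2 (swap a1 a2) f2) ∈ P0 2 ρ H :=
        (mem_P0 2 ρ H _).mpr ⟨_, hsw, _, rfl⟩
      have hy2supp : (lft ρ (mk 2 (swap a1 a2) f2)).support.card = j * 2 := by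
        rw [card_support_lft, card_support_mk, hjeq, ← Finset.card_univ]
        congr 2
        ext c
        simp only [Finset.mem_filter, Finset.mem_univ, true_and, iff_true]
        by_cases hc1 : c = a1
        · left
          rw [hc1, swap_apply_left]
          exact ha12.symm
        · by_cases hc2 : c = a2
          · left
            rw [hc2, swap_apply_right]
            exact ha12
          · right
            rw [hf2]
            simp [hc1, hc2]
      have hzcomm : bs 2 ρ (Pi.single a3 1) * lft ρ (mk 2 (swap a1 a2) f2) =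
          lft ρ (mk 2 (swap a1 a2) f2) * bs 2 ρ (Pi.single a3 1) := by
        unfold bs
        rw [← map_mul, ← map_mul, mk_mul, mk_mul, one_mul, mul_one]
        congr 2
        funext c
        have : (Pi.single a3 1 : α → ZMod 2) (swap a1 a2 c) = (Pi.single a3 1 : α → ZMod 2) c := by
          by_cases hc : c = a3
          · rw [hc, swap_apply_of_ne_of_ne ha31 ha32]
          · rw [Pi.single_eq_of_ne hc, Pi.single_eq_of_ne]
            intro h
            apply hc
            have := congrArg (swap a1 a2) h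
            rw [swap_apply_self, swap_apply_of_ne_of_ne ha31 ha32] at this
            exact this
        rw [this]
        simp [add_comm]
      obtain ⟨g, hgA, hg⟩ := exists_alt_conj 2 x' (lft ρ (mk 2 (swap a1 a2) f2))
        (bs 2 ρ (Pi.single a3 1)) hx'p (hsq f2 hf2inv) (by rw [hjs, hy2supp]) hzcomm
        (sign_bs_single ρ a3)
      have hy2T : lft ρ (mk 2 (swap a1 a2) f2) ∈ T := by
        rw [← hg]
        apply hcl x' hx'T g hgA
        refine ⟨?_, Subgroup.mul_mem _ (Subgroup.mul_mem _ hgA (hTA _ hx'T))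
          (Subgroup.inv_mem _ hgA)⟩
        rw [hg]
        exact hy2P
      have hd : bs 2 ρ (fun _ : α => (1 : ZMod 2)) * lft ρ (mk 2 (swap a1 a2) f2) =
          lft ρ (mk 2 (swap a1 a2) (fun c => f2 c + 1)) := by
        unfold bs
        rw [← map_mul, mk_mul, one_mul]
      have hdT : lft ρ (mk 2 (swap a1 a2) (fun c => f2 c + 1)) ∈ T := by
        rw [← hd]
        exact T.mul_mem hone hy2T
      have hdsupp : (lft ρ (mk 2 (swap a1 a2) (fun c => f2 c + 1))).support.card = 2 * 2 := by
        rw [card_support_lft, card_support_mk]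
        congr 1
        have : Finset.univ.filter (fun c => swap a1 a2 c ≠ c ∨ f2 c + 1 ≠ 0) = {a1, a2} := by
          ext c
          simp only [Finset.mem_filter, Finset.mem_univ, true_and, Finset.mem_insert,
            Finset.mem_singleton]
          by_cases hc1 : c = a1
          · simp only [hc1, true_or, iff_true]
            left
            rw [swap_apply_left]
            exact ha12.symm
          · by_cases hc2 : c = a2
            · simp only [hc2, or_true, iff_true]
              left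
              rw [swap_apply_right]
              exact ha12
            · simp only [hc1, hc2, or_self, iff_false, not_or, not_not]
              refine ⟨swap_apply_of_ne_of_ne hc1 hc2, ?_⟩
              rw [hf2]
              simp only [hc1, hc2, or_self, if_false]
              decide
        rw [this, Finset.card_pair ha12]
      exact hPair _ hdT (hsq _ (fun c => by rw [hf2inv c])) 2 hdsupp (by norm_num) (by omega)
  -- step 3
  have hQ : ∀ f : α → ZMod 2, bs 2 ρ f ∈ T ∨ bs 2 ρ (f + Pi.single a0 1) ∈ T := by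
    intro f
    rw [← Finset.univ_sum_single f]
    refine Finset.sum_induction (fun i => (Pi.single i (f i) : α → ZMod 2))
      (fun f : α → ZMod 2 => bs 2 ρ f ∈ T ∨ bs 2 ρ (f + (Pi.single a0 1 : α → ZMod 2)) ∈ T)
      ?_ ?_ ?_
    · intro f g hf hg
      rcases hf with hf | hf <;> rcases hg with hg | hg
      · left
        rw [← bs_mul]
        exact T.mul_mem hf hg
      · right
        rw [add_assoc, ← bs_mul]
        exact T.mul_mem hf hg
      · right
        have : f + g + Pi.single a0 1 = (f + Pi.single a0 1) + g := by abel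
        rw [this, ← bs_mul]
        exact T.mul_mem hf hg
      · left
        have : f + g = (f + Pi.single a0 1) + (g + Pi.single a0 1) := by
          funext c
          simp only [Pi.add_apply]
          have := zmod2_add_self ((Pi.single a0 1 : α → ZMod 2) c)
          linear_combination -this
        rw [this, ← bs_mul]
        exact T.mul_mem hf hg
    · left
      rw [bs_zero]; exact T.one_mem
    · intro a _
      rcases zmod2_cases (f a) with h | h
      · left
        rw [h, Pi.single_zero, bs_zero]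
        exact T.one_mem
      · right
        rw [h]
        by_cases haa : a = a0
        · rw [haa]
          have : (Pi.single a0 1 + Pi.single a0 1 : α → ZMod 2) = 0 := by
            funext c
            exact zmod2_add_self _
          rw [this, bs_zero]
          exact T.one_mem
        · exact hpairs a a0 haa
  have hbase : ∀ f : α → ZMod 2, Perm.sign (bs 2 ρ f) = 1 → bs 2 ρ f ∈ T := by
    intro f hf
    rcases hQ f with h | h
    · exact h
    · exfalso
      have h1 := hTA _ h
      rw [Perm.mem_alternatingGroup, ← bs_mul, Perm.sign_mul, hf, sign_bs_single] at h1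
      exact absurd h1 (by decide)
  -- step 4
  have h4 : ∀ u ∈ P0 2 ρ H, u ^ 2 = 1 → Perm.sign u = 1 → u ∈ T := by
    intro u hu hup hus
    by_cases hu1 : u = 1
    · rw [hu1]; exact T.one_mem
    obtain ⟨j', -, hj'α, hj's⟩ := exists_type 2 ρ H u hu hu1
    obtain ⟨J', -, hJ'⟩ := Finset.exists_subset_card_eq (s := (Finset.univ : Finset α)) (n := j')
      (by rw [Finset.card_univ]; exact hj'α)
    obtain ⟨g, hgA, hg⟩ := exists_alt_conj 2 u (bs 2 ρ (ind 2 J')) (bs 2 ρ (Pi.single a0 1)) hup
      (bs_pow_p 2 ρ _) (by rw [hj's, card_support_bs, filter_ind, hJ']) (bs_comm 2 ρ _ _)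
      (sign_bs_single ρ a0)
    have hsign : Perm.sign (bs 2 ρ (ind 2 J')) = 1 := by
      rw [← hg, Perm.sign_mul, Perm.sign_mul, Perm.sign_inv, hus, mul_one, Int.units_mul_self]
    have hu' : u = g⁻¹ * bs 2 ρ (ind 2 J') * (g⁻¹)⁻¹ := by rw [← hg]; group
    rw [hu']
    apply hcl _ (hbase _ hsign) _ (Subgroup.inv_mem _ hgA)
    rw [← hu']
    exact ⟨hu, Perm.mem_alternatingGroup.mpr hus⟩
  apply le_antisymm hT
  intro w hw
  have := hgenE w hw.1 (Perm.mem_alternatingGroup.mp hw.2)
  refine (Subgroup.closure_le T).mpr ?_ this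
  rintro u ⟨huP, hup, hus⟩
  exact h4 u huP hup hus

end Cfsg.Agent.H9.AltF
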