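import Cfsg.Agent.H9.AltFr

/-!
The certificate for odd `p`, and the transport to `Fin n`.
-/

set_option autoImplicit false

namespace Cfsg.Agent.H9.AltF

open Equiv Cfsg Cfsg.Agent.Lib.Helper7.SylGen Cfsg.Agent.H9.GfsSimple3

/-- from an ambient certificate on `β ≃ Fin n` to the simplicity of the fusion system -/
theorem isSimple_of_certA {β : Type} [Fintype β] [DecidableEq β] (n : ℕ) (e : β ≃ Fin n)
    (p : ℕ) [Fact p.Prime] (S0 : Subgroup (Perm β)) (hc : CertA (alternatingGroup β) p S0)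
    (S : Sylow p (alternatingGroup (Fin n))) :
    (groupFusionSystem (S : Subgroup (alternatingGroup (Fin n)))).IsSimple p := by
  have c2 := cert2_of_certA _ p S0 hc
  have hker : (Equiv.altCongrHom e).toMonoidHom.ker = ⊥ := by
    rw [MonoidHom.ker_eq_bot_iff]
    exact (Equiv.altCongrHom e).injective
  have c3 := Cert2.map p (Equiv.altCongrHom e).toMonoidHom (Equiv.altCongrHom e).surjective
    (by rw [hker]; exact bot_le) (by rw [hker, Subgroup.card_bot]; exact Nat.coprime_one_left p)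
    _ c2
  exact isSimple_of_cert2 p _ c3 S

/-- the `p`-part of the order of the alternating group, odd `p` -/
theorem factorization_alt_odd {β : Type*} [Fintype β] [DecidableEq β] [Nontrivial β] (p : ℕ)
    [hp : Fact p.Prime] (hodd : p ≠ 2) :
    (Nat.card (alternatingGroup β)).factorization p = (Nat.card (Perm β)).factorization p := by
  rw [← two_mul_nat_card_alternatingGroup, Nat.factorization_mul (by norm_num)
    (Nat.card_pos.ne'), Finsupp.add_apply, Nat.Prime.factorization Nat.prime_two,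
    Finsupp.single_apply, if_neg (Ne.symm hodd), zero_add]

section odd

variable (p : ℕ) [hp : Fact p.Prime]

theorem orbit_finset (m' : ℕ) (hm' : 1 ≤ m') (H' : Sylow p (Perm (Fin m'))) :
    ∃ (O : Finset (Fin m')) (j : ℕ), (∀ τ ∈ (H' : Subgroup (Perm (Fin m'))), ∀ c, τ c ∈ O ↔ c ∈ O) ∧
      O.card = p ^ j := by
  classical
  obtain ⟨c0⟩ : Nonempty (Fin m') := ⟨⟨0, by omega⟩⟩
  obtain ⟨j, hj⟩ := IsPGroup.card_orbit H'.isPGroup' c0
  refine ⟨Finset.univ.filter (fun c => c ∈ MulAction.orbit (H' : Subgroup (Perm (Fin m'))) c0), j,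
    ?_, ?_⟩
  · intro τ hτ c
    simp only [Finset.mem_filter, Finset.mem_univ, true_and]
    constructor
    · rintro ⟨h, hh⟩
      have hh' : h • c0 = τ c := hh
      refine ⟨⟨τ, hτ⟩⁻¹ * h, ?_⟩
      show (⟨τ, hτ⟩⁻¹ * h) • c0 = c
      rw [mul_smul, hh']
      show τ⁻¹ (τ c) = c
      simp
    · rintro ⟨h, hh⟩
      have hh' : h • c0 = c := hh
      refine ⟨⟨τ, hτ⟩ * h, ?_⟩
      show (⟨τ, hτ⟩ * h) • c0 = τ c
      rw [mul_smul, hh']
      rfl
  · rw [← hj, Nat.card_eq_fintype_card, Fintype.card_subtype]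

theorem certA_odd (hodd : p ≠ 2) (m' r' r : ℕ) (hm' : 1 ≤ m') (hr' : r' < p) (hr : r ≤ 1)
    (H' : Sylow p (Perm (Fin m'))) :
    CertA (alternatingGroup (Pt2 p (Fin m') (Fin r') (Fin r))) p
      (P0 p (Fin r) (P0 p (Fin r') (H' : Subgroup (Perm (Fin m'))))) := by
  haveI : NeZero p := ⟨hp.out.ne_zero⟩
  haveI : Subsingleton (Fin r) := Fin.subsingleton_iff_le_one.mpr hr
  have hoddp : Odd p := hp.out.odd_of_ne_two hodd
  have hp3 : 3 ≤ p := by
    have := hp.out.two_le
    omega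
  obtain ⟨c0⟩ : Nonempty (Fin m') := ⟨⟨0, by omega⟩⟩
  have hcardα : Fintype.card ((Fin m' × ZMod p) ⊕ Fin r') = p * m' + r' := by
    rw [Fintype.card_sum, Fintype.card_prod, ZMod.card, Fintype.card_fin, Fintype.card_fin, mul_comm]
  have h3 : 3 ≤ Fintype.card ((Fin m' × ZMod p) ⊕ Fin r') := by
    rw [hcardα]
    nlinarith
  haveI : Nontrivial (Pt2 p (Fin m') (Fin r') (Fin r)) :=
    ⟨⟨Sum.inl (Sum.inl (c0, 0), 0), Sum.inl (Sum.inl (c0, 0), 1), by
      intro h
      have h2 : (0 : ZMod p) = 1 := congrArg Prod.snd (Sum.inl_injective h)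
      have : Fact (1 < p) := ⟨hp.out.one_lt⟩
      exact zero_ne_one h2⟩⟩
  -- cardinality
  have hcardH : Nat.card (P0 p (Fin r') (H' : Subgroup (Perm (Fin m')))) =
      p ^ (Nat.card (Perm (Fin (p * m' + r')))).factorization p :=
    card_std p (p * m' + r') m' r' rfl hr' H'
  have hcardP : Nat.card (P0 p (Fin r) (P0 p (Fin r') (H' : Subgroup (Perm (Fin m'))))) =
      p ^ (Nat.card (Perm (Pt2 p (Fin m') (Fin r') (Fin r)))).factorization p := by
    rw [card_P0, hcardH, Nat.card_perm, Nat.card_perm, Nat.card_fin, Nat.card_eq_fintype_card,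
      Nat.card_eq_fintype_card, hcardα, ← pow_add, Nat.factorization_def _ hp.out,
      Nat.factorization_def _ hp.out]
    congr 1
    have hcβ : Fintype.card (Pt2 p (Fin m') (Fin r') (Fin r)) = p * (p * m' + r') + r := by
      rw [Fintype.card_sum, Fintype.card_prod, hcardα, ZMod.card, Fintype.card_fin, mul_comm]
    rw [hcβ, padicValNat_factorial_mul_add (p * m' + r') (by omega : r < p),
      padicValNat_factorial_mul]
  have hPp : IsPGroup p (P0 p (Fin r) (P0 p (Fin r') (H' : Subgroup (Perm (Fin m'))))) :=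
    IsPGroup.of_card hcardP
  have hPA : P0 p (Fin r) (P0 p (Fin r') (H' : Subgroup (Perm (Fin m')))) ≤
      alternatingGroup (Pt2 p (Fin m') (Fin r') (Fin r)) := by
    intro w hw
    obtain ⟨k, hk⟩ := hPp ⟨w, hw⟩
    have hk' : w ^ p ^ k = 1 := congrArg Subtype.val hk
    rw [Perm.mem_alternatingGroup]
    exact sign_eq_one_of_pow_odd (p ^ k) hoddp.pow w hk'
  -- generation by elements killed by p
  have hgen : ∀ w ∈ P0 p (Fin r) (P0 p (Fin r') (H' : Subgroup (Perm (Fin m')))),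
      w ∈ Subgroup.closure {u | u ∈ P0 p (Fin r) (P0 p (Fin r') (H' : Subgroup (Perm (Fin m')))) ∧
        u ^ p = 1} :=
    gen_wr p (lft (Fin r)) _ (gen_wr p (lft (Fin r')) _ (main p m' H').1)
  -- the p-element of Perm α
  have hK : alternatingGroup ((Fin m' × ZMod p) ⊕ Fin r') ≤ pEl p ((Fin m' × ZMod p) ⊕ Fin r') := by
    apply alternating_le_pEl p hodd (bs p (Fin r') (Pi.single c0 1)) (bs_pow_p p (Fin r') _)
    intro h
    have h2 := congrArg (fun e : Perm ((Fin m' × ZMod p) ⊕ Fin r') => e (Sum.inl (c0, 0))) h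
    simp only [bs_apply, Pi.single_eq_same, Perm.one_apply] at h2
    have h3 : (0 : ZMod p) + 1 = 0 := congrArg Prod.snd (Sum.inl_injective h2)
    have : Fact (1 < p) := ⟨hp.out.one_lt⟩
    rw [zero_add] at h3
    exact one_ne_zero h3
  obtain ⟨O, j, hO, hj⟩ := orbit_finset p m' hm' H'
  refine ⟨hPA, ?_, ?_, ?_, ?_⟩
  · rw [hcardP, factorization_alt_odd p hodd]
  · intro hbot
    have h1 : bs p (Fin r) (Pi.single (Sum.inl (c0, 0)) 1) ∈
        P0 p (Fin r) (P0 p (Fin r') (H' : Subgroup (Perm (Fin m')))) := bs_mem_P0 p (Fin r) _ _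
    rw [hbot, Subgroup.mem_bot] at h1
    have h2 := congrArg (fun e : Perm (Pt2 p (Fin m') (Fin r') (Fin r)) =>
      e (Sum.inl (Sum.inl (c0, 0), 0))) h1
    simp only [bs_apply, Pi.single_eq_same, Perm.one_apply] at h2
    have h3 : (0 : ZMod p) + 1 = 0 := congrArg Prod.snd (Sum.inl_injective h2)
    have : Fact (1 < p) := ⟨hp.out.one_lt⟩
    rw [zero_add] at h3
    exact one_ne_zero h3
  · exact sc_odd p (Fin r) hodd h3 _ hPp hPA hgen
  · intro g hgA hgN
    exact ⟨g, gen_odd p (Fin r') (Fin r) hodd _ O hO j hj h3 hK _ rfl g hgA hgN, fun _ _ => rfl⟩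

end odd

end Cfsg.Agent.H9.AltF
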