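import Cfsg.Agent.H9.AltFs

/-!
The certificate for `p = 2`.
-/

set_option autoImplicit false

namespace Cfsg.Agent.H9.AltF

open Equiv Cfsg Cfsg.Agent.Lib.Helper7.SylGen Cfsg.Agent.H9.GfsSimple3

/-- the even part of a subgroup containing an odd permutation has index two -/
theorem two_mul_card_inf_alt {β : Type*} [Fintype β] [DecidableEq β] (P : Subgroup (Perm β))
    (t : Perm β) (ht : t ∈ P) (hts : Perm.sign t = -1) :
    2 * Nat.card (P ⊓ alternatingGroup β : Subgroup (Perm β)) = Nat.card P := by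
  obtain ⟨f, hf⟩ : ∃ f : P →* ℤˣ, f = Perm.sign.comp P.subtype := ⟨_, rfl⟩
  have hsurj : Function.Surjective f := by
    intro u
    rcases Int.units_eq_one_or u with rfl | rfl
    · exact ⟨1, map_one f⟩
    · exact ⟨⟨t, ht⟩, by rw [hf]; exact hts⟩
  have h1 : f.ker.index = 2 := by
    rw [Subgroup.index_ker, MonoidHom.range_eq_top.mpr hsurj, Subgroup.card_top]
    simp [Nat.card_eq_fintype_card]
  have h2 := Subgroup.card_mul_index f.ker
  rw [h1] at h2
  have h3 : Nat.card f.ker = Nat.card (P ⊓ alternatingGroup β : Subgroup (Perm β)) := by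
    have hk : f.ker = (P ⊓ alternatingGroup β).subgroupOf P := by
      ext x
      rw [MonoidHom.mem_ker, Subgroup.mem_subgroupOf, Subgroup.mem_inf, hf]
      constructor
      · intro h
        exact ⟨x.2, Perm.mem_alternatingGroup.mpr h⟩
      · intro h
        exact Perm.mem_alternatingGroup.mp h.2
    rw [hk]
    exact Nat.card_congr (Subgroup.subgroupOfEquivOfLe inf_le_left).toEquiv
  rw [← h3, ← h2, mul_comm]

theorem certA_two (m r : ℕ) (hm : 3 ≤ m) (hr : r ≤ 1) (H : Sylow 2 (Perm (Fin m))) :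
    CertA (alternatingGroup ((Fin m × ZMod 2) ⊕ Fin r)) 2
      (S2 (Fin r) (H : Subgroup (Perm (Fin m)))) := by
  haveI : Subsingleton (Fin r) := Fin.subsingleton_iff_le_one.mpr hr
  obtain ⟨c0⟩ : Nonempty (Fin m) := ⟨⟨0, by omega⟩⟩
  have h3 : 3 ≤ Fintype.card (Fin m) := by rw [Fintype.card_fin]; exact hm
  haveI : Nontrivial ((Fin m × ZMod 2) ⊕ Fin r) :=
    ⟨⟨Sum.inl (c0, 0), Sum.inl (c0, 1), by
      intro h
      have h2 : (0 : ZMod 2) = 1 := congrArg Prod.snd (Sum.inl_injective h)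
      exact absurd h2 (by decide)⟩⟩
  have hcardP : Nat.card (P0 2 (Fin r) (H : Subgroup (Perm (Fin m)))) =
      2 ^ (Nat.card (Perm (Fin (2 * m + r)))).factorization 2 :=
    card_std 2 (2 * m + r) m r rfl (by omega) H
  have hPp : IsPGroup 2 (P0 2 (Fin r) (H : Subgroup (Perm (Fin m)))) := IsPGroup.of_card hcardP
  have hgenE : ∀ w ∈ P0 2 (Fin r) (H : Subgroup (Perm (Fin m))), Perm.sign w = 1 →
      w ∈ Subgroup.closure {u | u ∈ P0 2 (Fin r) (H : Subgroup (Perm (Fin m))) ∧ u ^ 2 = 1 ∧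
        Perm.sign u = 1} :=
    genE_wr (lft (Fin r)) (sign_lft (Fin r)) _ (main 2 m H).1
  have hS2p : IsPGroup 2 (S2 (Fin r) (H : Subgroup (Perm (Fin m)))) :=
    hPp.to_le inf_le_left
  obtain ⟨a', a'', ha', ha'', hne⟩ := exists_two_others h3 c0
  refine ⟨inf_le_right, ?_, ?_, ?_, ?_⟩
  · -- cardinality
    have e1 := two_mul_card_inf_alt (P0 2 (Fin r) (H : Subgroup (Perm (Fin m))))
      (bs 2 (Fin r) (Pi.single c0 1)) (bs_mem_P0 2 (Fin r) _ _) (sign_bs_single (Fin r) c0)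
    have e2 := two_mul_nat_card_alternatingGroup (α := (Fin m × ZMod 2) ⊕ Fin r)
    have hcβ : Nat.card (Perm ((Fin m × ZMod 2) ⊕ Fin r)) = Nat.card (Perm (Fin (2 * m + r))) := by
      rw [Nat.card_perm, Nat.card_perm, Nat.card_fin, Nat.card_sum, Nat.card_prod, Nat.card_zmod,
        Nat.card_fin, Nat.card_fin, mul_comm]
    obtain ⟨k, hk⟩ : ∃ k, k = (Nat.card (Perm (Fin (2 * m + r)))).factorization 2 := ⟨_, rfl⟩
    rw [← hk] at hcardP
    have hA0 : Nat.card (alternatingGroup ((Fin m × ZMod 2) ⊕ Fin r)) ≠ 0 := Nat.card_pos.ne'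
    have e3 : k = 1 + (Nat.card (alternatingGroup ((Fin m × ZMod 2) ⊕ Fin r))).factorization 2 := by
      rw [hk, ← hcβ, ← e2, Nat.factorization_mul (by norm_num) hA0, Finsupp.add_apply,
        Nat.Prime.factorization Nat.prime_two, Finsupp.single_apply, if_pos rfl]
    have e4 : 2 * Nat.card (S2 (Fin r) (H : Subgroup (Perm (Fin m)))) = 2 ^ k := by
      rw [← hcardP]
      exact e1
    rw [e3, pow_add, pow_one] at e4
    have e5 := Nat.eq_of_mul_eq_mul_left (by norm_num : 0 < 2) e4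
    exact e5
  · intro hbot
    have h1 := pair_mem_S2 (Fin r) (H : Subgroup (Perm (Fin m))) c0 a' ha'
    rw [hbot, Subgroup.mem_bot] at h1
    have h2 := congrArg (fun e : Perm ((Fin m × ZMod 2) ⊕ Fin r) => e (Sum.inl (c0, 0))) h1
    simp only [bs_apply, Pi.add_apply, Pi.single_eq_same, Pi.single_eq_of_ne ha'.symm,
      Perm.one_apply] at h2
    have h3 : (0 : ZMod 2) + (1 + 0) = 0 := congrArg Prod.snd (Sum.inl_injective h2)
    exact absurd h3 (by decide)
  · exact sc_two (Fin r) _ h3 hPp hgenE (exists_swap_mem_sylow m (by omega) H)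
  · intro g hgA hgN
    have hgP := normalizer_S2_le (Fin r) (H : Subgroup (Perm (Fin m))) h3 (syl2_selfnorm m H) g hgN
    have hgS : g ∈ S2 (Fin r) (H : Subgroup (Perm (Fin m))) := ⟨hgP, hgA⟩
    exact ⟨g, le_genA_self _ 2 _ inf_le_right hS2p hgS, fun _ _ => rfl⟩

end Cfsg.Agent.H9.AltF
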