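import Mathlib

set_option autoImplicit false

/-!
Element orders of the alternating groups through cycle types.
-/

namespace Cfsg.Agent.H9.AltOrders

open Equiv

theorem mem_range_orderOf_alt_iff (n k : ℕ) :
    k ∈ Set.range (orderOf : alternatingGroup (Fin n) → ℕ) ↔
      ∃ m : Multiset ℕ, m.sum ≤ n ∧ (∀ a ∈ m, 2 ≤ a) ∧ m.lcm = k ∧
        Even (m.sum + Multiset.card m) := by
  constructor
  · rintro ⟨g, rfl⟩
    refine ⟨(g : Perm (Fin n)).cycleType, ?_, ?_, ?_, ?_⟩
    · have := Perm.sum_cycleType_le (g : Perm (Fin n))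
      rwa [Fintype.card_fin] at this
    · intro a ha
      exact Perm.two_le_of_mem_cycleType ha
    · rw [Perm.lcm_cycleType, Subgroup.orderOf_coe]
    · have h1 : Perm.sign (g : Perm (Fin n)) = 1 := Perm.mem_alternatingGroup.1 g.2
      rw [Perm.sign_of_cycleType] at h1
      by_contra hodd
      rw [Nat.not_even_iff_odd] at hodd
      rw [hodd.neg_one_pow] at h1
      exact absurd h1 (by decide)
  · rintro ⟨m, h1, h2, h3, h4⟩
    obtain ⟨g, hg⟩ := (Perm.exists_with_cycleType_iff (Fin n)).2 ⟨by rwa [Fintype.card_fin], h2⟩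
    have hs : Perm.sign g = 1 := by
      rw [Perm.sign_of_cycleType, hg, h4.neg_one_pow]
    refine ⟨⟨g, Perm.mem_alternatingGroup.2 hs⟩, ?_⟩
    rw [← Subgroup.orderOf_coe, ← Perm.lcm_cycleType, hg, h3]

/-- a prime dividing the lcm of a multiset divides a member. -/
theorem exists_dvd_of_prime_dvd_lcm {p : ℕ} (hp : p.Prime) (m : Multiset ℕ) (h : p ∣ m.lcm) :
    ∃ a ∈ m, p ∣ a := by
  induction m using Multiset.induction_on with
  | empty =>
    rw [Multiset.lcm_zero] at h
    exact absurd (Nat.le_of_dvd one_pos h) (not_le.2 hp.one_lt)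
  | cons a s ih =>
    rw [Multiset.lcm_cons] at h
    have h1 : p ∣ a * s.lcm := dvd_trans h (Nat.lcm_dvd_mul a s.lcm)
    rcases (Nat.Prime.dvd_mul hp).1 h1 with h2 | h2
    · exact ⟨a, Multiset.mem_cons_self a s, h2⟩
    · obtain ⟨b, hb, hpb⟩ := ih h2
      exact ⟨b, Multiset.mem_cons_of_mem hb, hpb⟩

/-- two different members of a multiset of naturals sum to at most the total. -/
theorem add_le_sum_of_ne {m : Multiset ℕ} {a b : ℕ} (ha : a ∈ m) (hb : b ∈ m) (hab : a ≠ b) :
    a + b ≤ m.sum := by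
  obtain ⟨s, rfl⟩ := Multiset.exists_cons_of_mem ha
  rw [Multiset.sum_cons]
  have hb' : b ∈ s := by
    rcases Multiset.mem_cons.1 hb with h | h
    · exact absurd h.symm hab
    · exact h
  have := Multiset.single_le_sum (fun x _ => Nat.zero_le x) b hb'
  omega

/-- three members: `a`, then `b` in the rest, then `c` in the rest. -/
theorem add_add_le_sum {s : Multiset ℕ} {a b c : ℕ} (hb : b ∈ s) (hc : c ∈ s.erase b) :
    a + b + c ≤ (a ::ₘ s).sum := by
  obtain ⟨t, rfl⟩ := Multiset.exists_cons_of_mem hb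
  rw [Multiset.erase_cons_head] at hc
  rw [Multiset.sum_cons, Multiset.sum_cons]
  have := Multiset.single_le_sum (fun x _ => Nat.zero_le x) c hc
  omega

end Cfsg.Agent.H9.AltOrders
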