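import Mathlib
import Cfsg.Agent.H9.AutPSL2Core
import Cfsg.Agent.S0243

set_option autoImplicit false

/-! Every automorphism of `PSL₂(F)` can be normalised (by an inner automorphism) so as to
stabilise the upper and lower unipotent subgroups. -/

namespace Cfsg.Agent.H9.AutPSL2

variable {F : Type*} [Field F] [Fintype F]

local notation "SL2" => Matrix.SpecialLinearGroup (Fin 2) F
local notation "PSL2" => Matrix.ProjectiveSpecialLinearGroup (Fin 2) F

/-- the hom `a ↦ pr (u a)` -/
def uHom : Multiplicative F →* PSL2 where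
  toFun a := pr (u (Multiplicative.toAdd a))
  map_one' := by
    show pr (u 0) = 1
    rw [u_zero, map_one]
  map_mul' a b := by
    show pr (u (Multiplicative.toAdd a + Multiplicative.toAdd b)) = _
    rw [u_add, map_mul]

/-- the hom `a ↦ pr (l a)` -/
def lHom : Multiplicative F →* PSL2 where
  toFun a := pr (l (Multiplicative.toAdd a))
  map_one' := by
    show pr (l 0) = 1
    rw [l_zero, map_one]
  map_mul' a b := by
    show pr (l (Multiplicative.toAdd a + Multiplicative.toAdd b)) = _
    rw [l_add, map_mul]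

theorem uHom_injective : Function.Injective (uHom : Multiplicative F →* PSL2) := by
  intro a b hab
  have := pr_u_injective (F := F) (a₁ := Multiplicative.toAdd a) (a₂ := Multiplicative.toAdd b) hab
  exact Multiplicative.toAdd.injective this

theorem lHom_injective : Function.Injective (lHom : Multiplicative F →* PSL2) := by
  intro a b hab
  have := pr_l_injective (F := F) (a₁ := Multiplicative.toAdd a) (a₂ := Multiplicative.toAdd b) hab
  exact Multiplicative.toAdd.injective this

theorem mem_uHom_range (z : PSL2) : z ∈ (uHom : Multiplicative F →* PSL2).range ↔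
    ∃ b : F, z = pr (u b) := by
  rw [MonoidHom.mem_range]
  constructor
  · rintro ⟨a, rfl⟩
    exact ⟨Multiplicative.toAdd a, rfl⟩
  · rintro ⟨b, rfl⟩
    exact ⟨Multiplicative.ofAdd b, rfl⟩

theorem card_uHom_range : Nat.card (uHom : Multiplicative F →* PSL2).range = Fintype.card F := by
  rw [← Nat.card_eq_fintype_card]
  exact (Nat.card_congr (MonoidHom.ofInjective uHom_injective).toEquiv).symm.trans
    (Nat.card_congr Multiplicative.toAdd)

theorem card_lHom_range : Nat.card (lHom : Multiplicative F →* PSL2).range = Fintype.card F := by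
  rw [← Nat.card_eq_fintype_card]
  exact (Nat.card_congr (MonoidHom.ofInjective lHom_injective).toEquiv).symm.trans
    (Nat.card_congr Multiplicative.toAdd)

theorem factorization_card (p : ℕ) [Fact p.Prime] [CharP F p] :
    Fintype.card F = p ^ (Nat.card PSL2).factorization p := by
  have hp := (Fact.out : p.Prime)
  obtain ⟨f, -, hf⟩ := FiniteField.card F p
  have hf1 : 1 ≤ (f : ℕ) := f.pos
  have h := Cfsg.Agent.S0243.result (F := F) rfl 2 (le_refl 2)
  rw [Fin.prod_univ_two] at h
  simp only [Fin.val_zero, pow_zero, Fin.val_one, pow_one] at h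
  set q := Fintype.card F with hq
  have hq2 : 2 ≤ q := by
    rw [hf]
    calc 2 ≤ p := hp.two_le
      _ = p ^ 1 := (pow_one p).symm
      _ ≤ p ^ (f : ℕ) := Nat.pow_le_pow_right hp.pos hf1
  have hpq : p ∣ q := by rw [hf]; exact dvd_pow_self p (by omega)
  have hN : Nat.card PSL2 ≠ 0 := Nat.card_pos.ne'
  have e2 : q ^ 2 - q = q * (q - 1) := by
    obtain ⟨m, hm⟩ : ∃ m, q = m + 1 := ⟨q - 1, by omega⟩
    rw [hm, Nat.add_sub_cancel, sq, ← Nat.mul_sub_one, Nat.add_sub_cancel]
  rw [e2] at h
  have n1 : ¬ p ∣ q - 1 := by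
    intro hd
    have : p ∣ q - (q - 1) := Nat.dvd_sub hpq hd
    have e : q - (q - 1) = 1 := by omega
    rw [e] at this
    exact hp.one_lt.ne' (Nat.dvd_one.mp this)
  have n2 : ¬ p ∣ q ^ 2 - 1 := by
    intro hd
    have hq2' : p ∣ q ^ 2 := dvd_pow hpq two_ne_zero
    have : p ∣ q ^ 2 - (q ^ 2 - 1) := Nat.dvd_sub hq2' hd
    have hpos : 1 ≤ q ^ 2 := Nat.one_le_pow _ _ (by omega)
    have e : q ^ 2 - (q ^ 2 - 1) = 1 := by omega
    rw [e] at this
    exact hp.one_lt.ne' (Nat.dvd_one.mp this)
  have n3 : ¬ p ∣ Nat.gcd 2 (q - 1) := fun hd => n1 (hd.trans (Nat.gcd_dvd_right _ _))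
  have hq1 : q - 1 ≠ 0 := by omega
  have hqq : q ^ 2 - 1 ≠ 0 := by
    have : 4 ≤ q ^ 2 := by nlinarith
    omega
  have hg : Nat.gcd 2 (q - 1) ≠ 0 := Nat.gcd_ne_zero_left two_ne_zero
  have hq0 : q ≠ 0 := by omega
  have key := congrArg (fun n : ℕ => n.factorization p) h
  rw [Nat.factorization_mul hg (mul_ne_zero hq1 hN), Nat.factorization_mul hq1 hN,
    Nat.factorization_mul hqq (mul_ne_zero hq0 hq1), Nat.factorization_mul hq0 hq1] at key
  simp only [Finsupp.coe_add, Pi.add_apply] at key
  rw [Nat.factorization_eq_zero_of_not_dvd n1, Nat.factorization_eq_zero_of_not_dvd n2,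
    Nat.factorization_eq_zero_of_not_dvd n3, zero_add, zero_add, zero_add, add_zero] at key
  rw [key]
  conv_lhs => rw [hf]
  rw [hf, hp.factorization_pow]
  simp

/-- Sylow conjugacy into the upper unipotent subgroup. -/
theorem exists_conj_mem_u (p : ℕ) [Fact p.Prime] [CharP F p] (P : Subgroup PSL2)
    (hP : Nat.card P = Fintype.card F) :
    ∃ g : PSL2, ∀ z ∈ P, ∃ b : F, g * z * g⁻¹ = pr (u b) := by
  have hfac := factorization_card (F := F) p
  have hP' : Nat.card P = p ^ (Nat.card PSL2).factorization p := by rw [hP, ← hfac]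
  have hU' : Nat.card (uHom : Multiplicative F →* PSL2).range
      = p ^ (Nat.card PSL2).factorization p := by rw [card_uHom_range, ← hfac]
  obtain ⟨g, hg⟩ := MulAction.exists_smul_eq PSL2 (Sylow.ofCard P hP') (Sylow.ofCard _ hU')
  have hg' := congrArg (fun S : Sylow p PSL2 => (S : Subgroup PSL2)) hg
  simp only [Sylow.coe_subgroup_smul, Sylow.coe_ofCard] at hg'
  refine ⟨g, fun z hz => ?_⟩
  have := Subgroup.smul_mem_pointwise_smul z (MulAut.conj g) P hz
  rw [hg'] at this
  rw [MulAut.smul_def, MulAut.conj_apply] at this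
  exact (mem_uHom_range _).mp this

theorem mem_lHom_range (z : PSL2) : z ∈ (lHom : Multiplicative F →* PSL2).range ↔
    ∃ b : F, z = pr (l b) := by
  rw [MonoidHom.mem_range]
  constructor
  · rintro ⟨a, rfl⟩
    exact ⟨Multiplicative.toAdd a, rfl⟩
  · rintro ⟨b, rfl⟩
    exact ⟨Multiplicative.ofAdd b, rfl⟩

/-- Normalisation of an automorphism by an inner automorphism. -/
theorem exists_normalize (p : ℕ) [Fact p.Prime] [CharP F p] (α : MulAut PSL2) :
    ∃ (x : PSL2) (σ τ : F → F), Data (MulAut.conj x * α) σ τ := by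
  -- Step A
  have cardA : Nat.card ((uHom : Multiplicative F →* PSL2).range.map α.toMonoidHom)
      = Fintype.card F := by
    rw [Subgroup.card_map_of_injective α.injective, card_uHom_range]
  obtain ⟨g1, hg1⟩ := exists_conj_mem_u p _ cardA
  set α1 : MulAut PSL2 := MulAut.conj g1 * α with hα1
  have hA : ∀ a : F, ∃ b : F, α1 (pr (u a)) = pr (u b) := by
    intro a
    have hmem : α (pr (u a)) ∈ (uHom : Multiplicative F →* PSL2).range.map α.toMonoidHom :=
      Subgroup.mem_map.mpr ⟨pr (u a), (mem_uHom_range _).mpr ⟨a, rfl⟩, rfl⟩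
    obtain ⟨b, hb⟩ := hg1 _ hmem
    exact ⟨b, by rw [hα1, MulAut.mul_apply, MulAut.conj_apply, hb]⟩
  choose σ1 hσ1 using hA
  have σ1inj : Function.Injective σ1 := by
    intro a b hab
    apply pr_u_injective
    apply α1.injective
    show α1 (pr (u a)) = α1 (pr (u b))
    rw [hσ1, hσ1, hab]
  have σ1surj : Function.Surjective σ1 := Finite.injective_iff_surjective.mp σ1inj
  -- Step B
  have cardB : Nat.card ((lHom : Multiplicative F →* PSL2).range.map α1.toMonoidHom)
      = Fintype.card F := by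
    rw [Subgroup.card_map_of_injective α1.injective, card_lHom_range]
  obtain ⟨y, hy⟩ := exists_conj_mem_u p _ cardB
  obtain ⟨yt, hyt⟩ := pr_surjective y⁻¹
  have hB : ∀ a : F, ∃ b : F, α1 (pr (l a)) = pr (yt * u b * yt⁻¹) := by
    intro a
    have hmem : α1 (pr (l a)) ∈ (lHom : Multiplicative F →* PSL2).range.map α1.toMonoidHom :=
      Subgroup.mem_map.mpr ⟨pr (l a), (mem_lHom_range _).mpr ⟨a, rfl⟩, rfl⟩
    obtain ⟨b, hb⟩ := hy _ hmem
    refine ⟨b, ?_⟩
    rw [map_mul, map_mul, map_inv, hyt, ← hb]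
    group
  choose bB hbB using hB
  by_cases hc : yt.1 1 0 = 0
  · exfalso
    have hb := hbB 1
    have e : yt * u (bB 1) * yt⁻¹ = u (yt.1 0 0 ^ 2 * bB 1) := by
      rw [conj_u_of_eq yt hc, mul_inv_cancel_right]
    rw [e] at hb
    obtain ⟨a', ha'⟩ := σ1surj (yt.1 0 0 ^ 2 * bB 1)
    rw [← ha', ← hσ1] at hb
    have h1 := α1.injective hb
    rcases (pr_eq_iff _ _).mp h1 with h | h
    · have := congrArg (fun g : SL2 => g.1 1 0) h
      simp at this
    · have := congrArg (fun g : SL2 => g.1 1 0) h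
      simp at this
  · set s := yt.1 0 0 / yt.1 1 0 with hs
    refine ⟨(pr (u s))⁻¹ * g1, σ1, fun a => -(yt.1 1 0) ^ 2 * bB a, ⟨?_, ?_⟩⟩
    · intro a
      have e : (MulAut.conj ((pr (u s))⁻¹ * g1) * α) (pr (u a))
          = (pr (u s))⁻¹ * α1 (pr (u a)) * pr (u s) := by
        rw [map_mul, mul_assoc, ← hα1, MulAut.mul_apply, MulAut.conj_apply, inv_inv]
      rw [e, hσ1, ← map_inv, ← map_mul, ← map_mul, u_inv, ← u_add, ← u_add]
      congr 2
      ring
    · intro a
      have e : (MulAut.conj ((pr (u s))⁻¹ * g1) * α) (pr (l a))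
          = (pr (u s))⁻¹ * α1 (pr (l a)) * pr (u s) := by
        rw [map_mul, mul_assoc, ← hα1, MulAut.mul_apply, MulAut.conj_apply, inv_inv]
      have e2 : yt * u (bB a) * yt⁻¹ = u s * l (-(yt.1 1 0) ^ 2 * bB a) * (u s)⁻¹ := by
        rw [conj_u_of_ne yt hc, mul_inv_cancel_right]
      rw [e, hbB, e2, ← map_inv, ← map_mul, ← map_mul]
      congr 1
      group

end Cfsg.Agent.H9.AutPSL2
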