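import Mathlib
import Cfsg.Agent.H9.AutPSL2Sylow

set_option autoImplicit false

/-! The homomorphism `Aut(PSL₂(F)) → Aut(F)` and its kernel. -/

namespace Cfsg.Agent.H9.AutPSL2

variable {F : Type*} [Field F]

local notation "SL2" => Matrix.SpecialLinearGroup (Fin 2) F
local notation "PSL2" => Matrix.ProjectiveSpecialLinearGroup (Fin 2) F

/-- `α` acts on squared traces through the field automorphism `ρ`. -/
def Rel (α : MulAut PSL2) (ρ : F ≃+* F) : Prop :=
  ∀ g h : SL2, α (pr g) = pr h → h.1.trace ^ 2 = ρ (g.1.trace ^ 2)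

theorem trace_sq_of_pr_eq {g h : SL2} (e : pr g = pr h) : g.1.trace ^ 2 = h.1.trace ^ 2 := by
  rcases (pr_eq_iff _ _).mp e with rfl | rfl
  · rfl
  · rw [Matrix.SpecialLinearGroup.coe_neg, Matrix.trace_neg, neg_sq]

theorem trace_conj (x g : SL2) : (x * g * x⁻¹).1.trace = g.1.trace := by
  rw [Matrix.SpecialLinearGroup.coe_mul, Matrix.SpecialLinearGroup.coe_mul,
    Matrix.trace_mul_cycle, ← Matrix.SpecialLinearGroup.coe_mul, inv_mul_cancel,
    Matrix.SpecialLinearGroup.coe_one, one_mul]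

theorem rel_conj (x : PSL2) : Rel (MulAut.conj x) (1 : RingAut F) := by
  intro g h e
  obtain ⟨xt, rfl⟩ := pr_surjective x
  rw [MulAut.conj_apply, ← map_inv, ← map_mul, ← map_mul] at e
  rw [RingAut.one_apply, ← trace_sq_of_pr_eq e, trace_conj]

theorem rel_delta (c : Fˣ) : Rel (lift (delta c)) (1 : RingAut F) := by
  intro g h e
  rw [lift_pr] at e
  rw [RingAut.one_apply, ← trace_sq_of_pr_eq e, delta_trace]

theorem rel_field (ρ : F ≃+* F) : Rel (lift (fieldAut ρ)) ρ := by
  intro g h e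
  rw [lift_pr] at e
  rw [← trace_sq_of_pr_eq e, fieldAut_trace, map_pow]

theorem rel_mul {α β : MulAut PSL2} {ρ ρ' : F ≃+* F} (h1 : Rel α ρ) (h2 : Rel β ρ') :
    Rel (α * β) (ρ * ρ' : RingAut F) := by
  intro g h e
  obtain ⟨k, hk⟩ := pr_surjective (β (pr g))
  rw [MulAut.mul_apply, ← hk] at e
  rw [RingAut.mul_apply, h1 k h e, h2 g k hk.symm]

theorem rel_one : Rel (1 : MulAut PSL2) (1 : RingAut F) := by
  intro g h e
  rw [MulAut.one_apply] at e
  rw [RingAut.one_apply, trace_sq_of_pr_eq e]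

/-- an element with prescribed trace -/
def tr (t : F) : SL2 := ⟨!![t, -1; 1, 0], by rw [Matrix.det_fin_two_of]; ring⟩

theorem tr_trace (t : F) : (tr t).1.trace = t := by
  simp [tr, Matrix.trace_fin_two]

theorem rel_unique [Fintype F] {α : MulAut PSL2} {ρ ρ' : F ≃+* F} (h1 : Rel α ρ) (h2 : Rel α ρ') :
    ρ = ρ' := by
  have hsq : ∀ t : F, ρ (t ^ 2) = ρ' (t ^ 2) := by
    intro t
    obtain ⟨k, hk⟩ := pr_surjective (α (pr (tr t)))
    have e1 := h1 (tr t) k hk.symm
    have e2 := h2 (tr t) k hk.symm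
    rw [tr_trace] at e1 e2
    rw [← e1, ← e2]
  ext x
  obtain ⟨a, b, rfl⟩ := exists_sq_add_sq x
  rw [map_add, map_add, hsq, hsq]

section finite

variable [Fintype F]

/-- The structure theorem for automorphisms of `PSL₂(F)`. -/
theorem exists_decomp (p : ℕ) [Fact p.Prime] [CharP F p] (α : MulAut PSL2) : ∃ (x : PSL2) (c : Fˣ) (ρ : F ≃+* F),
    α = MulAut.conj x * (lift (delta c) * lift (fieldAut ρ)) := by
  obtain ⟨x, σ, τ, D⟩ := exists_normalize p α
  obtain ⟨c, ρ, h⟩ := eq_delta_field D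
  refine ⟨x⁻¹, c, ρ, ?_⟩
  rw [← h, map_inv, inv_mul_cancel_left]

theorem exists_rel (p : ℕ) [Fact p.Prime] [CharP F p] (α : MulAut PSL2) : ∃ ρ : F ≃+* F, Rel α ρ := by
  obtain ⟨x, c, ρ, rfl⟩ := exists_decomp p α
  refine ⟨ρ, ?_⟩
  have := rel_mul (rel_conj x) (rel_mul (rel_delta c) (rel_field ρ))
  rwa [one_mul, one_mul] at this

/-- the homomorphism `Aut(PSL₂(F)) → Aut(F)` -/
noncomputable def Phi (p : ℕ) [Fact p.Prime] [CharP F p] : MulAut PSL2 →* RingAut F where
  toFun α := Classical.choose (exists_rel p α)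
  map_one' := rel_unique (Classical.choose_spec (exists_rel p 1)) rel_one
  map_mul' α β := rel_unique (Classical.choose_spec (exists_rel p (α * β)))
    (rel_mul (Classical.choose_spec (exists_rel p α)) (Classical.choose_spec (exists_rel p β)))

theorem Phi_spec (p : ℕ) [Fact p.Prime] [CharP F p] (α : MulAut PSL2) : Rel α (Phi p α) :=
  Classical.choose_spec (exists_rel p α)

theorem Phi_eq (p : ℕ) [Fact p.Prime] [CharP F p] {α : MulAut PSL2} {ρ : F ≃+* F} (h : Rel α ρ) : Phi p α = ρ :=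
  rel_unique (Phi_spec p α) h

theorem Phi_conj (p : ℕ) [Fact p.Prime] [CharP F p] (x : PSL2) : Phi p (MulAut.conj x) = 1 := Phi_eq p (rel_conj x)

theorem Phi_delta (p : ℕ) [Fact p.Prime] [CharP F p] (c : Fˣ) : Phi p (lift (delta c)) = 1 := Phi_eq p (rel_delta c)

theorem Phi_field (p : ℕ) [Fact p.Prime] [CharP F p] (ρ : F ≃+* F) : Phi p (lift (fieldAut ρ)) = ρ := Phi_eq p (rel_field ρ)

theorem Phi_surjective (p : ℕ) [Fact p.Prime] [CharP F p] : Function.Surjective (Phi (F := F) p) :=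
  fun ρ => ⟨_, Phi_field p ρ⟩

theorem lift_fieldAut_one : lift (fieldAut (1 : RingAut F)) = (1 : MulAut PSL2) := by
  ext x
  obtain ⟨g, rfl⟩ := pr_surjective x
  have : fieldAut (1 : RingAut F) g = g := by
    apply ext4 <;> rw [fieldAut_apply, RingAut.one_apply]
  rw [lift_pr, this, MulAut.one_apply]

/-- The kernel of `Phi` consists of the inner-diagonal automorphisms. -/
theorem exists_of_Phi_eq_one (p : ℕ) [Fact p.Prime] [CharP F p] {α : MulAut PSL2} (hα : Phi p α = 1) :
    ∃ (x : PSL2) (c : Fˣ), α = MulAut.conj x * lift (delta c) := by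
  obtain ⟨x, c, ρ, rfl⟩ := exists_decomp p α
  have h1 : Phi p (MulAut.conj x * (lift (delta c) * lift (fieldAut ρ))) = ρ := by
    rw [map_mul, map_mul, Phi_conj, Phi_delta, Phi_field, one_mul, one_mul]
  rw [h1] at hα
  subst hα
  exact ⟨x, c, by rw [lift_fieldAut_one, mul_one]⟩

end finite

theorem lift_delta_mul (c d : Fˣ) :
    lift (delta (c * d)) = (lift (delta c) * lift (delta d) : MulAut PSL2) := by
  ext x
  obtain ⟨g, rfl⟩ := pr_surjective x
  rw [MulAut.mul_apply, lift_pr, lift_pr, lift_pr, delta_mul]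

theorem lift_delta_sq (d : Fˣ) :
    lift (delta (d ^ 2)) = (MulAut.conj (pr (h (d : F))) : MulAut PSL2) := by
  ext x
  obtain ⟨g, rfl⟩ := pr_surjective x
  rw [lift_pr, delta_sq, MulAut.conj_apply, map_mul, map_mul, map_inv]

/-- A diagonal automorphism by a nonsquare is not inner (odd characteristic). -/
theorem lift_delta_ne_conj (h2 : (2 : F) ≠ 0) (c : Fˣ) (hc : ¬ IsSquare (c : F)) (x : PSL2) :
    lift (delta c) ≠ (MulAut.conj x : MulAut PSL2) := by
  intro heq
  obtain ⟨xt, rfl⟩ := pr_surjective x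
  have h1 := DFunLike.congr_fun heq (pr (u 1))
  rw [lift_pr, delta_u, mul_one, MulAut.conj_apply, ← map_inv, ← map_mul, ← map_mul] at h1
  have hd := det_eq xt
  rcases (pr_eq_iff _ _).mp h1 with h | h
  · have h' : u (c : F) * xt = xt * u 1 := by rw [h]; group
    have e11 := congrArg (fun g : SL2 => g.1 1 1) h'
    have e01 := congrArg (fun g : SL2 => g.1 0 1) h'
    simp only [mul_11, mul_01, u_00, u_01, u_10, u_11] at e11 e01
    have hC : xt.1 1 0 = 0 := by linear_combination -e11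
    have hA : xt.1 0 0 = c * xt.1 1 1 := by linear_combination -e01
    rw [hC, mul_zero, sub_zero, hA] at hd
    apply hc
    have hD : xt.1 1 1 ≠ 0 := by
      intro h0
      rw [h0] at hd
      simp at hd
    refine ⟨(xt.1 1 1)⁻¹, ?_⟩
    field_simp
    linear_combination hd
  · have h' : u (c : F) * xt = -(xt * u 1) := by rw [h, neg_mul, inv_mul_cancel_right]
    have e10 := congrArg (fun g : SL2 => g.1 1 0) h'
    have e11 := congrArg (fun g : SL2 => g.1 1 1) h'
    simp only [mul_10, mul_11, neg_10, neg_11, u_00, u_01, u_10, u_11] at e10 e11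
    have hC : xt.1 1 0 = 0 := by
      have : (2 : F) * xt.1 1 0 = 0 := by linear_combination e10
      rcases mul_eq_zero.mp this with h | h
      · exact absurd h h2
      · exact h
    have hD : xt.1 1 1 = 0 := by
      have : (2 : F) * xt.1 1 1 = 0 := by linear_combination e11 - hC
      rcases mul_eq_zero.mp this with h | h
      · exact absurd h h2
      · exact h
    rw [hC, hD] at hd
    simp at hd

end Cfsg.Agent.H9.AutPSL2
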