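import Mathlib

set_option autoImplicit false

namespace Cfsg.Agent.H9

open scoped Pointwise

/-- A `p`-subgroup `Q` of `H`, where `H` contains the Sylow `p`-subgroup `P` of `G`, is conjugate
under `H` into `P`. -/
theorem exists_conj_mem_sylow_of_le {G : Type*} [Group G] [Finite G] {p : ℕ} [Fact p.Prime]
    (P : Sylow p G) (H : Subgroup G) (hPH : (P : Subgroup G) ≤ H) (Q : Subgroup G)
    (hQ : IsPGroup p Q) (hQH : Q ≤ H) : ∃ h ∈ H, ∀ q ∈ Q, h * q * h⁻¹ ∈ P := by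
  have hQ' : IsPGroup p (Q.subgroupOf H) := hQ.comap_subtype
  obtain ⟨Q', hQ'le⟩ := hQ'.exists_le_sylow
  obtain ⟨h, hh⟩ := MulAction.exists_smul_eq H Q' (P.subtype hPH)
  refine ⟨h, h.2, fun q hq => ?_⟩
  have h1 : (⟨q, hQH hq⟩ : H) ∈ Q' := hQ'le (by simpa [Subgroup.mem_subgroupOf] using hq)
  have h2 : h * ⟨q, hQH hq⟩ * h⁻¹ ∈ ((h • Q' : Sylow p H) : Subgroup H) := by
    rw [Sylow.coe_subgroup_smul]
    exact ⟨_, h1, rfl⟩
  rw [hh, Sylow.coe_subtype, Subgroup.mem_subgroupOf] at h2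
  have h3 : (h : G) * q * (h : G)⁻¹ ∈ (P : Subgroup G) := by simpa using h2
  exact h3

/-- An element whose order is a power of `p` generates a `p`-group. -/
theorem isPGroup_zpowers_of_orderOf {G : Type*} [Group G] {p : ℕ} {x : G} {k : ℕ}
    (hx : orderOf x = p ^ k) : IsPGroup p (Subgroup.zpowers x) := by
  intro y
  obtain ⟨y, hy⟩ := y
  obtain ⟨n, rfl⟩ := Subgroup.mem_zpowers_iff.mp hy
  refine ⟨k, ?_⟩
  apply Subtype.ext
  simp only [Subgroup.coe_pow, Subgroup.coe_one]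
  rw [← zpow_natCast, ← zpow_mul, mul_comm, zpow_mul, zpow_natCast, ← hx, pow_orderOf_eq_one, one_zpow]

end Cfsg.Agent.H9
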