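import Mathlib
import Cfsg.Agent.Lib.helper3.BlockBasic
import Cfsg.Agent.Lib.helper3.LocalM2
import Cfsg.Agent.Lib.helper3.Lin

set_option autoImplicit false

/-!
# A criterion for two irreducible characters of `p'`-degree to lie in the same `p`-block
-/

namespace Cfsg.Agent.H9.BlockCrit

open Cfsg Cfsg.Agent.Lib.helper3.Block Cfsg.Agent.Lib.helper3.LocalM
open Cfsg.Agent.Lib.helper3.Irr Cfsg.Agent.Lib.helper3.Lin

variable {G : Type*} [Group G] [Finite G] {M : Ideal AlgInt}

/-- a quotient `w / n` with `w ∈ M` and `n` a natural number prime to `p` lies in the local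
ideal -/
theorem memLocalIdeal_div_nat {p : ℕ} (hM : IsPModular p M) {w : AlgInt} (hw : w ∈ M) {n : ℕ}
    (hpn : ¬ p ∣ n) : MemLocalIdeal M ((w : ℂ) / (n : ℂ)) := by
  refine ⟨w, (n : AlgInt), hw, ?_, ?_⟩
  · intro h
    exact hpn ((natCast_mem_iff hM n).mp h)
  · simp

/-- the central character lies in the local ideal at classes of size divisible by `p`, for
characters of degree prime to `p` -/
theorem memLocalIdeal_centralChar_of_dvd {p : ℕ} (hM : IsPModular p M) {χ : G → ℂ}
    (hχ : IsIrrCharacter G χ) {n : ℕ} (hn : χ 1 = (n : ℂ)) (hpn : ¬ p ∣ n) (g : G)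
    (hg : p ∣ (Subgroup.centralizer ({g} : Set G)).index) :
    MemLocalIdeal M (centralChar χ g) := by
  haveI := isPrime_of_isPModular hM
  have hMtop : M ≠ ⊤ := hM.2.1.ne_top
  have hint := isIntegral_centralChar hχ g
  have hχg := isIntegral_of_isCharacter (isCharacter_of_isIrrCharacter hχ) g
  set a : AlgInt := ⟨centralChar χ g, hint⟩ with ha
  set c : AlgInt := ⟨χ g, hχg⟩ with hc
  have hn0 : (n : ℂ) ≠ 0 := by
    intro h
    have : n = 0 := by exact_mod_cast h
    rw [this] at hpn
    exact hpn (dvd_zero p)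
  have h1 : (n : AlgInt) * a = ((Subgroup.centralizer ({g} : Set G)).index : AlgInt) * c := by
    apply Subtype.ext
    push_cast
    rw [ha, hc]
    simp only
    unfold centralChar
    rw [hn]
    field_simp
  have h2 : (n : AlgInt) * a ∈ M := by
    rw [h1]
    exact M.mul_mem_right _ ((natCast_mem_iff hM _).mpr hg)
  have h3 : a ∈ M := by
    rcases ‹M.IsPrime›.mem_or_mem h2 with h | h
    · exact absurd ((natCast_mem_iff hM n).mp h) hpn
    · exact h
  exact memLocalIdeal_of_mem h3 hMtop

/-- the central characters of two characters of degree prime to `p` agree modulo the local ideal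
at a product `u * z` of a `p`-element `u` and an element `z` commuting with it at which the two
characters have proportional values -/
theorem memLocalIdeal_centralChar_sub {p : ℕ} (hM : IsPModular p M) {χ ψ : G → ℂ}
    (hχ : IsIrrCharacter G χ) (hψ : IsIrrCharacter G ψ) {n m : ℕ} (hn : χ 1 = (n : ℂ))
    (hm : ψ 1 = (m : ℂ)) (hpn : ¬ p ∣ n) (hpm : ¬ p ∣ m) (u z : G) (k : ℕ)
    (hu : u ^ p ^ k = 1) (huz : u * z = z * u) (hz : χ z * ψ 1 = ψ z * χ 1) :
    MemLocalIdeal M (centralChar χ (u * z) - centralChar ψ (u * z)) := by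
  haveI := isPrime_of_isPModular hM
  obtain ⟨w₁, hw₁, e₁⟩ := exists_mem_sub_eq (isCharacter_of_isIrrCharacter hχ) hM u z k hu huz
  obtain ⟨w₂, hw₂, e₂⟩ := exists_mem_sub_eq (isCharacter_of_isIrrCharacter hψ) hM u z k hu huz
  have hn0 : (n : ℂ) ≠ 0 := by
    intro h
    have : n = 0 := by exact_mod_cast h
    rw [this] at hpn
    exact hpn (dvd_zero p)
  have hm0 : (m : ℂ) ≠ 0 := by
    intro h
    have : m = 0 := by exact_mod_cast h
    rw [this] at hpm
    exact hpm (dvd_zero p)
  have key : centralChar χ (u * z) - centralChar ψ (u * z)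
      = ((Subgroup.centralizer ({u * z} : Set G)).index : ℂ)
        * ((w₁ : ℂ) / (n : ℂ) - (w₂ : ℂ) / (m : ℂ)) := by
    unfold centralChar
    rw [e₁, e₂, hn, hm]
    rw [hn, hm] at hz
    field_simp
    linear_combination ((Subgroup.centralizer ({u * z} : Set G)).index : ℂ) * hz
  rw [key]
  apply memLocalIdeal_mul_integral
  · exact memLocalIdeal_sub (memLocalIdeal_div_nat hM hw₁ hpn) (memLocalIdeal_div_nat hM hw₂ hpm)
  · have := isIntegral_algebraMap (R := ℤ) (A := ℂ)
      (x := ((Subgroup.centralizer ({u * z} : Set G)).index : ℤ))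
    simpa using this

end Cfsg.Agent.H9.BlockCrit
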