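import Mathlib
import Cfsg.Agent.S0908
import Cfsg.Agent.Lib.helper3.BlockIdem2
import Cfsg.Agent.Lib.helper3.QuotDefect3

set_option autoImplicit false

/-!
# Blocks containing a character of degree prime to `p` have the Sylow `p`-subgroups as defect groups
-/

namespace Cfsg.Agent.H9.BlockSylow

open Cfsg Cfsg.Agent.Lib.helper3.Block Cfsg.Agent.Lib.helper3.LocalM

variable {G : Type*} [Group G] [Finite G] {M : Ideal AlgInt}

theorem sylow_isDefectGroup (p : ℕ) [Fact p.Prime] (hM : IsPModular p M)
    (B : Set (IrrCharacter G)) (hB : IsPBlock M B)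
    (hex : ∃ χ ∈ B, ¬ p ∣ charDegree ((χ : IrrCharacter G) : G → ℂ)) (P : Sylow p G) :
    IsDefectGroup p M B (P : Subgroup G) := by
  classical
  letI : Fintype G := Fintype.ofFinite G
  have hp : p.Prime := Fact.out
  obtain ⟨g, hg⟩ := exists_defectClass hM B hB
  obtain ⟨P₀⟩ : Nonempty (Sylow p (Subgroup.centralizer ({g} : Set G))) := inferInstance
  set D : Subgroup G := (P₀ : Subgroup (Subgroup.centralizer ({g} : Set G))).map
    (Subgroup.centralizer ({g} : Set G)).subtype with hD
  have hDdef : IsDefectGroup p M B D := ⟨g, hg, P₀, rfl⟩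
  have hcard := Cfsg.Agent.S0908.result p M hM B hB D hDdef
  have hdef : blockDefect p B = (Nat.card G).factorization p := by
    unfold blockDefect
    obtain ⟨χ, hχ, hdvd⟩ := hex
    have h0 : sInf ((fun χ : IrrCharacter G =>
        (charDegree (χ : G → ℂ)).factorization p) '' B) = 0 := by
      apply Nat.sInf_eq_zero.mpr
      left
      refine ⟨χ, hχ, ?_⟩
      exact Nat.factorization_eq_zero_of_not_dvd hdvd
    rw [h0, Nat.sub_zero]
  rw [hdef] at hcard
  let D' : Sylow p G := Sylow.ofCard D hcard
  obtain ⟨x, hx⟩ := MulAction.exists_smul_eq G D' P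
  have h1 := isDefectGroup_conj hDdef x
  have h2 : D.map (MulAut.conj x).toMonoidHom = (P : Subgroup G) := by
    rw [← hx]
    rfl
  rw [h2] at h1
  exact h1

end Cfsg.Agent.H9.BlockSylow
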