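import Mathlib
import Cfsg.Prelude.Def_Transfer
import Cfsg.Prelude.Def_Solvable
import Cfsg.Prelude.Def_MonsterType
import Cfsg.Agent.H2.Equivariant
import Cfsg.Agent.Lib.Helper7.Qd2
import Cfsg.Agent.Lib.Helper7.Thompson
import Cfsg.Agent.H9.Cores

/-!
# Intrinsic structure of an involution centralizer with extraspecial `O_2`

`CS C k X`: `O_2(C)` is extraspecial of order `2^(2k+1)`, contains an elementary abelian subgroup of order
`2^(k+1)`, contains its own centralizer in `C`, and has a complement isomorphic to `X`.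
The predicate is invariant under isomorphisms of `C`, and for `C = ↥S` with `S` a subgroup of `G`
it is equivalent to the same statement about `(pCore 2 ↥S).map S.subtype`.
-/

set_option autoImplicit false

namespace Cfsg.Agent.H9.CentStruct

open Cfsg

/-- intrinsic structure of an involution centralizer `C` -/
def CS (C : Type*) [Group C] (k : ℕ) (X : Type*) [Group X] : Prop :=
  IsExtraspecial 2 ↥(pCore 2 C) ∧ Nat.card ↥(pCore 2 C) = 2 ^ (2 * k + 1) ∧
  (∃ E : Subgroup C, E ≤ pCore 2 C ∧ IsElementaryAbelian 2 E ∧ Nat.card E = 2 ^ (k + 1)) ∧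
  Subgroup.centralizer (pCore 2 C : Set C) ≤ pCore 2 C ∧
  ∃ K : Subgroup C, pCore 2 C ⊓ K = ⊥ ∧ pCore 2 C ⊔ K = ⊤ ∧ Nonempty (K ≃* X)

theorem CS.of_equiv {C C' : Type*} [Group C] [Group C'] {k : ℕ} {X : Type*} [Group X] (e : C ≃* C')
    (h : CS C k X) : CS C' k X := by
  obtain ⟨h1, h2, ⟨E, hE1, hE2, hE3⟩, h4, K, hK1, hK2, ⟨f⟩⟩ := h
  have hp : (pCore 2 C).map e.toMonoidHom = pCore 2 C' := H2.pCore_map_equiv 2 e
  have eQ : ↥(pCore 2 C) ≃* ↥(pCore 2 C') :=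
    ((pCore 2 C).equivMapOfInjective e.toMonoidHom e.injective).trans (MulEquiv.subgroupCongr hp)
  refine ⟨Lib.Helper7.isExtraspecial_of_mulEquiv eQ h1, ?_, ⟨E.map e.toMonoidHom, ?_, ?_, ?_⟩, ?_,
    K.map e.toMonoidHom, ?_, ?_, ?_⟩
  · rw [← Nat.card_congr eQ.toEquiv, h2]
  · rw [← hp]; exact Subgroup.map_mono hE1
  · exact (Lib.Helper7.isElementaryAbelian_map_iff _ e.injective E).mpr hE2
  · rw [H2.card_map_equiv, hE3]
  · intro x hx
    rw [← hp]
    refine ⟨e.symm x, h4 ?_, by simp⟩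
    rw [Subgroup.mem_centralizer_iff]
    intro y hy
    apply e.injective
    rw [map_mul, map_mul, e.apply_symm_apply]
    rw [Subgroup.mem_centralizer_iff] at hx
    exact hx (e y) (by rw [← hp]; exact ⟨y, hy, rfl⟩)
  · rw [← hp, ← Subgroup.map_inf _ _ _ e.injective, hK1, Subgroup.map_bot]
  · rw [← hp, ← Subgroup.map_sup, hK2]
    exact Subgroup.map_top_of_surjective _ e.surjective
  · exact ⟨((K.equivMapOfInjective e.toMonoidHom e.injective).symm).trans f⟩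

theorem CS.of_subgroup {G : Type*} [Group G] (S : Subgroup G) {k : ℕ} {X : Type*} [Group X]
    (Q : Subgroup G) (hQ : Q = (pCore 2 ↥S).map S.subtype)
    (h1 : IsExtraspecial 2 ↥Q) (h2 : Nat.card ↥Q = 2 ^ (2 * k + 1))
    (h3 : ∃ E : Subgroup G, E ≤ Q ∧ IsElementaryAbelian 2 E ∧ Nat.card ↥E = 2 ^ (k + 1))
    (h4 : Subgroup.centralizer (Q : Set G) = (Subgroup.center ↥Q).map Q.subtype)
    (h5 : ∃ K : Subgroup G, K ≤ S ∧ Q ⊓ K = ⊥ ∧ Q ⊔ K = S ∧ Nonempty (↥K ≃* X)) : CS ↥S k X := by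
  have eQ : ↥(pCore 2 ↥S) ≃* ↥Q :=
    ((pCore 2 ↥S).equivMapOfInjective S.subtype S.subtype_injective).trans
      (MulEquiv.subgroupCongr hQ.symm)
  have hQS : Q ≤ S := by rw [hQ]; exact Subgroup.map_subtype_le _
  have hmem : ∀ x : ↥S, x ∈ pCore 2 ↥S ↔ (x : G) ∈ Q := by
    intro x
    rw [hQ]
    constructor
    · intro hx; exact ⟨x, hx, rfl⟩
    · rintro ⟨y, hy, hyx⟩
      have : y = x := Subtype.ext hyx
      rw [← this]; exact hy
  obtain ⟨E, hE1, hE2, hE3⟩ := h3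
  obtain ⟨K, hK0, hK1, hK2, ⟨f⟩⟩ := h5
  refine ⟨Lib.Helper7.isExtraspecial_of_mulEquiv eQ.symm h1, ?_, ⟨E.subgroupOf S, ?_, ?_, ?_⟩, ?_,
    K.subgroupOf S, ?_, ?_, ?_⟩
  · rw [Nat.card_congr eQ.toEquiv, h2]
  · intro x hx
    rw [hmem]
    exact hE1 (Subgroup.mem_subgroupOf.mp hx)
  · rw [← Lib.Helper7.isElementaryAbelian_map_iff S.subtype S.subtype_injective,
      Subgroup.subgroupOf_map_subtype, inf_eq_left.mpr (hE1.trans hQS)]
    exact hE2
  · rw [Nat.card_congr (Subgroup.subgroupOfEquivOfLe (hE1.trans hQS)).toEquiv, hE3]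
  · intro x hx
    rw [hmem]
    have hx' : (x : G) ∈ Subgroup.centralizer (Q : Set G) := by
      rw [Subgroup.mem_centralizer_iff]
      intro q hq
      have hqS : q ∈ S := hQS hq
      rw [Subgroup.mem_centralizer_iff] at hx
      have := hx ⟨q, hqS⟩ ((hmem ⟨q, hqS⟩).mpr hq)
      exact congrArg Subtype.val this
    rw [h4] at hx'
    exact Subgroup.map_subtype_le _ hx'
  · rw [eq_bot_iff]
    intro x hx
    rw [Subgroup.mem_inf, hmem, Subgroup.mem_subgroupOf] at hx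
    have : (x : G) ∈ Q ⊓ K := Subgroup.mem_inf.mpr hx
    rw [hK1, Subgroup.mem_bot] at this
    rw [Subgroup.mem_bot]
    exact Subtype.ext this
  · apply Subgroup.map_injective S.subtype_injective
    rw [Subgroup.map_sup, Subgroup.subgroupOf_map_subtype, inf_eq_left.mpr hK0, ← hQ, hK2,
      ← MonoidHom.range_eq_map, Subgroup.range_subtype]
  · exact ⟨(Subgroup.subgroupOfEquivOfLe hK0).trans f⟩

theorem CS.to_subgroup {G : Type*} [Group G] (S : Subgroup G) {k : ℕ} {X : Type*} [Group X]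
    (h : CS ↥S k X) (Q : Subgroup G) (hQ : Q = (pCore 2 ↥S).map S.subtype) :
    IsExtraspecial 2 ↥Q ∧ Nat.card ↥Q = 2 ^ (2 * k + 1) ∧
    (∃ E : Subgroup G, E ≤ Q ∧ IsElementaryAbelian 2 E ∧ Nat.card ↥E = 2 ^ (k + 1)) ∧
    (∀ x ∈ S, x ∈ Subgroup.centralizer (Q : Set G) → x ∈ Q) ∧
    ∃ K : Subgroup G, K ≤ S ∧ Q ⊓ K = ⊥ ∧ Q ⊔ K = S ∧ Nonempty (↥K ≃* X) := by
  obtain ⟨h1, h2, ⟨E, hE1, hE2, hE3⟩, h4, K, hK1, hK2, ⟨f⟩⟩ := h
  have eQ : ↥(pCore 2 ↥S) ≃* ↥Q :=
    ((pCore 2 ↥S).equivMapOfInjective S.subtype S.subtype_injective).trans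
      (MulEquiv.subgroupCongr hQ.symm)
  have hQS : Q ≤ S := by rw [hQ]; exact Subgroup.map_subtype_le _
  have hmem : ∀ x : ↥S, x ∈ pCore 2 ↥S ↔ (x : G) ∈ Q := by
    intro x
    rw [hQ]
    constructor
    · intro hx; exact ⟨x, hx, rfl⟩
    · rintro ⟨y, hy, hyx⟩
      have : y = x := Subtype.ext hyx
      rw [← this]; exact hy
  refine ⟨Lib.Helper7.isExtraspecial_of_mulEquiv eQ h1, ?_, ⟨E.map S.subtype, ?_, ?_, ?_⟩, ?_,
    K.map S.subtype, Subgroup.map_subtype_le _, ?_, ?_, ?_⟩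
  · rw [← Nat.card_congr eQ.toEquiv, h2]
  · rw [hQ]; exact Subgroup.map_mono hE1
  · exact (Lib.Helper7.isElementaryAbelian_map_iff _ S.subtype_injective E).mpr hE2
  · rw [Subgroup.card_map_of_injective S.subtype_injective, hE3]
  · intro x hxS hx
    rw [← hmem ⟨x, hxS⟩]
    apply h4
    rw [Subgroup.mem_centralizer_iff]
    intro y hy
    apply Subtype.ext
    rw [Subgroup.mem_centralizer_iff] at hx
    exact hx y ((hmem y).mp hy)
  · rw [hQ, ← Subgroup.map_inf _ _ _ S.subtype_injective, hK1, Subgroup.map_bot]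
  · rw [hQ, ← Subgroup.map_sup, hK2, ← MonoidHom.range_eq_map, Subgroup.range_subtype]
  · exact ⟨((K.equivMapOfInjective S.subtype S.subtype_injective).symm).trans f⟩

end Cfsg.Agent.H9.CentStruct
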