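import Mathlib
import Cfsg.Agent.H9.Mat2

set_option autoImplicit false

/-! Factorising an element of `SL₂` as a product of two elements with prescribed traces. -/

namespace Cfsg.Agent.H9.ClassSquare

open Matrix Cfsg.Agent.H9.Mat2

variable {F : Type*} [Field F]

local notation "SL2" => Matrix.SpecialLinearGroup (Fin 2) F

/-- transport a factorisation of the companion matrix to any non-scalar element of that trace -/
theorem exists_factor (G : SL2)
    (hns : ¬ ∃ a : F, (G : Matrix (Fin 2) (Fin 2) F) = a • (1 : Matrix (Fin 2) (Fin 2) F))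
    (h0 k0 : Matrix (Fin 2) (Fin 2) F) (hh : h0.det = 1) (hk : k0.det = 1)
    (hmul : h0 * k0 = comp (G : Matrix (Fin 2) (Fin 2) F).trace 1) :
    ∃ H K : SL2, H * K = G ∧ (H : Matrix (Fin 2) (Fin 2) F).trace = h0.trace ∧
      (K : Matrix (Fin 2) (Fin 2) F).trace = k0.trace := by
  obtain ⟨P, hP⟩ := exists_conj_comp (G : Matrix (Fin 2) (Fin 2) F) hns
  rw [G.2] at hP
  have hPinv : (P : Matrix (Fin 2) (Fin 2) F) * ((P⁻¹ : GL (Fin 2) F) : Matrix (Fin 2) (Fin 2) F) = 1 := by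
    rw [← Units.val_mul, mul_inv_cancel, Units.val_one]
  have hPinv' : ((P⁻¹ : GL (Fin 2) F) : Matrix (Fin 2) (Fin 2) F) * (P : Matrix (Fin 2) (Fin 2) F) = 1 := by
    rw [← Units.val_mul, inv_mul_cancel, Units.val_one]
  refine ⟨⟨(P : Matrix (Fin 2) (Fin 2) F) * h0 * ((P⁻¹ : GL (Fin 2) F) : Matrix (Fin 2) (Fin 2) F),
      by rw [Matrix.det_units_conj, hh]⟩,
    ⟨(P : Matrix (Fin 2) (Fin 2) F) * k0 * ((P⁻¹ : GL (Fin 2) F) : Matrix (Fin 2) (Fin 2) F),
      by rw [Matrix.det_units_conj, hk]⟩, ?_, ?_, ?_⟩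
  · apply Subtype.ext
    change (P : Matrix (Fin 2) (Fin 2) F) * h0 * ((P⁻¹ : GL (Fin 2) F) : Matrix (Fin 2) (Fin 2) F) *
      ((P : Matrix (Fin 2) (Fin 2) F) * k0 * ((P⁻¹ : GL (Fin 2) F) : Matrix (Fin 2) (Fin 2) F)) = _
    calc (P : Matrix (Fin 2) (Fin 2) F) * h0 * ((P⁻¹ : GL (Fin 2) F) : Matrix (Fin 2) (Fin 2) F) *
        ((P : Matrix (Fin 2) (Fin 2) F) * k0 * ((P⁻¹ : GL (Fin 2) F) : Matrix (Fin 2) (Fin 2) F))
        = (P : Matrix (Fin 2) (Fin 2) F) * h0 * (((P⁻¹ : GL (Fin 2) F) : Matrix (Fin 2) (Fin 2) F) *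
          (P : Matrix (Fin 2) (Fin 2) F)) * k0 * ((P⁻¹ : GL (Fin 2) F) : Matrix (Fin 2) (Fin 2) F) := by
          simp only [Matrix.mul_assoc]
      _ = (P : Matrix (Fin 2) (Fin 2) F) * (h0 * k0) *
          ((P⁻¹ : GL (Fin 2) F) : Matrix (Fin 2) (Fin 2) F) := by
          rw [hPinv', Matrix.mul_one]
          simp only [Matrix.mul_assoc]
      _ = (G : Matrix (Fin 2) (Fin 2) F) * ((P : Matrix (Fin 2) (Fin 2) F) *
          ((P⁻¹ : GL (Fin 2) F) : Matrix (Fin 2) (Fin 2) F)) := by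
          rw [hmul, ← hP, Matrix.mul_assoc]
      _ = (G : Matrix (Fin 2) (Fin 2) F) := by rw [hPinv, Matrix.mul_one]
  · exact Matrix.trace_units_conj P h0
  · exact Matrix.trace_units_conj P k0

/-- the split factorisation: `t = a + a⁻¹` -/
theorem split_factor {a : F} (ha : a ≠ 0) (s : F) :
    (!![0, -a; a⁻¹, a + a⁻¹] : Matrix (Fin 2) (Fin 2) F) * !![a, a * s - (a + a⁻¹); 0, a⁻¹] =
      comp s 1 := by
  unfold Mat2.comp
  ext i j
  fin_cases i <;> fin_cases j <;> simp [Matrix.mul_apply, Fin.sum_univ_two]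
  · exact mul_inv_cancel₀ ha
  · field_simp
  · field_simp
    ring

/-- the general factorisation -/
theorem gen_factor (t s α β : F)
    (hβ : β ^ 2 + (t - α * s) * β + 1 - α * (t - α) = 0) :
    (!![α, β; t - α * s + β, t - α] : Matrix (Fin 2) (Fin 2) F) *
      !![-β, -(t - α) - β * s; α, (t - α * s + β) + α * s] = comp s 1 := by
  unfold Mat2.comp
  ext i j
  fin_cases i <;> fin_cases j <;> simp [Matrix.mul_apply, Fin.sum_univ_two]
  · ring
  · linear_combination hβ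
  · linear_combination -hβ
  · linear_combination -s * hβ

end Cfsg.Agent.H9.ClassSquare
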