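import Mathlib
import Cfsg.Agent.H1.SchurCover
import Cfsg.Agent.H1.SchurProj

set_option autoImplicit false
set_option linter.style.haveILetI false

namespace Cfsg.Agent.H9.CoverUniq

open Cfsg Cfsg.Agent.H1

universe u v w

/-- extension of a homomorphism from a central subgroup avoiding the commutator subgroup, when the
quotient modulo `S P'` has exponent prime to the order of the target -/
theorem exists_extension {P : Type u} [Group P] (S : Subgroup P)
    (hSP : S ⊓ commutator P = ⊥) (k : ℕ)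
    (hk : ∀ x : P, ∃ s ∈ S, ∃ w ∈ commutator P, x ^ k = s * w)
    {K : Type v} [CommGroup K] [Finite K] (hcop : Nat.Coprime k (Nat.card K)) (f : S →* K) :
    ∃ c : P →* K, ∀ s : S, c (s : P) = f s := by
  classical
  let ab : P →* Abelianization P := Abelianization.of
  let j : S →* Abelianization P := ab.comp S.subtype
  have hj : Function.Injective j := by
    rw [injective_iff_map_eq_one]
    intro s hs
    have h1 : (s : P) ∈ commutator P := (QuotientGroup.eq_one_iff _).1 hs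
    have h2 : (s : P) ∈ S ⊓ commutator P := Subgroup.mem_inf.2 ⟨s.2, h1⟩
    rw [hSP, Subgroup.mem_bot] at h2
    exact Subtype.ext h2
  let e : S ≃* j.range := MonoidHom.ofInjective hj
  have hpow : ∀ y : Abelianization P, (powMonoidHom k : Abelianization P →* Abelianization P) y
      ∈ j.range := by
    intro y
    obtain ⟨x, rfl⟩ := QuotientGroup.mk_surjective y
    obtain ⟨s, hs, w, hw, hx⟩ := hk x
    refine ⟨⟨s, hs⟩, ?_⟩
    show ab s = (ab x) ^ k
    rw [← map_pow, hx, map_mul]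
    have : ab w = 1 := (QuotientGroup.eq_one_iff _).2 hw
    rw [this, mul_one]
  let pk : Abelianization P →* j.range := (powMonoidHom k).codRestrict j.range hpow
  let g : P →* K := f.comp (e.symm.toMonoidHom.comp (pk.comp ab))
  have hg : ∀ s : S, g (s : P) = (f s) ^ k := by
    intro s
    have h1 : pk (ab (s : P)) = e (s ^ k) := by
      apply Subtype.ext
      show (ab (s : P)) ^ k = ab ((s ^ k : S) : P)
      rw [Subgroup.coe_pow, map_pow]
    show f (e.symm (pk (ab (s : P)))) = (f s) ^ k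
    rw [h1, e.symm_apply_apply, map_pow]
  have hbij : Function.Bijective (powMonoidHom k : K →* K) :=
    (powCoprime hcop.symm).bijective
  let r : K ≃* K := MulEquiv.ofBijective (powMonoidHom k : K →* K) hbij
  refine ⟨r.symm.toMonoidHom.comp g, fun s => ?_⟩
  show r.symm (g (s : P)) = f s
  rw [hg, MulEquiv.symm_apply_eq]
  rfl

/-- a surjective homomorphism maps the commutator subgroup onto the commutator subgroup -/
lemma commutator_eq_map_fcProj (Q : Type u) [Group Q] :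
    commutator Q = (commutator (FC Q)).map (fcProj Q) := by
  rw [commutator_def, commutator_def, Subgroup.map_commutator, ← MonoidHom.range_eq_map,
    MonoidHom.range_eq_top.2 (fcProj_surjective Q)]

lemma pow_card_abelianization_mem {Q : Type u} [Group Q] [Finite Q] (q : Q) :
    q ^ Nat.card (Abelianization Q) ∈ commutator Q := by
  apply (QuotientGroup.eq_one_iff _).1
  have : (Abelianization.of q) ^ Nat.card (Abelianization Q) = 1 := pow_card_eq_one'
  rw [← map_pow] at this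
  exact this

lemma card_eq_of_stem {Q : Type u} [Group Q] [Finite Q] {Γ : Type w} [Group Γ] (σ : Γ →* Q)
    (hσ : Function.Surjective σ) : Nat.card Γ = Nat.card σ.ker * Nat.card Q := by
  rw [← Subgroup.card_mul_index σ.ker, Subgroup.index_ker, MonoidHom.range_eq_top.2 hσ,
    Nat.card_congr (Subgroup.topEquiv (G := Q)).toEquiv]

theorem unique_of_coprime {Q : Type u} [Group Q] [Finite Q] {A : Type v} [CommGroup A]
    (hAM : Nonempty (A ≃* fcMult Q))
    (hcop : Nat.Coprime (Nat.card (Abelianization Q)) (Nat.card A))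
    (Γ₁ Γ₂ : Type w) [Group Γ₁] [Finite Γ₁] [Group Γ₂] [Finite Γ₂] (σ₁ : Γ₁ →* Q) (σ₂ : Γ₂ →* Q)
    (h₁ : IsStemExtension σ₁) (h₂ : IsStemExtension σ₂) (e₁ : σ₁.ker ≃* A) (e₂ : σ₂.ker ≃* A) :
    ∃ e : Γ₁ ≃* Γ₂, σ₂.comp e.toMonoidHom = σ₁ := by
  classical
  obtain ⟨eA⟩ := hAM
  haveI : Finite A := Finite.of_equiv _ eA.symm.toEquiv
  obtain ⟨θ₁, hθ₁⟩ := fc_lift Q σ₁ h₁.1 h₁.2.1
  obtain ⟨θ₂, hθ₂⟩ := fc_lift Q σ₂ h₂.1 h₂.2.1
  obtain ⟨hs₁, hk₁⟩ := stem_lift_surjective σ₁ h₁ θ₁ hθ₁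
  obtain ⟨hs₂, hk₂⟩ := stem_lift_surjective σ₂ h₂ θ₂ hθ₂
  have hθ₁' : ∀ p, σ₁ (θ₁ p) = fcProj Q p := fun p => DFunLike.congr_fun hθ₁ p
  have hθ₂' : ∀ p, σ₂ (θ₂ p) = fcProj Q p := fun p => DFunLike.congr_fun hθ₂ p
  have hcard₁ : Nat.card (fcMult Q) ≤ Nat.card σ₁.ker :=
    (Nat.card_congr (eA.symm.trans e₁.symm).toEquiv).le
  have hinj₁ := mult_injOn_of_card σ₁ h₁ θ₁ hθ₁ hcard₁
  have hS₁Z : θ₁.ker ≤ (fcProj Q).ker := by
    intro x hx
    rw [MonoidHom.mem_ker] at hx ⊢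
    rw [← hθ₁', hx, map_one]
  have hS₁P : θ₁.ker ⊓ commutator (FC Q) = ⊥ := by
    rw [eq_bot_iff]
    intro x hx
    rw [Subgroup.mem_inf] at hx
    rw [Subgroup.mem_bot]
    apply hinj₁ x _ hx.1
    exact Subgroup.mem_inf.2 ⟨hS₁Z hx.1, hx.2⟩
  have hk : ∀ x : FC Q, ∃ s ∈ θ₁.ker, ∃ w ∈ commutator (FC Q),
      x ^ Nat.card (Abelianization Q) = s * w := by
    intro x
    have h1 : (fcProj Q x) ^ Nat.card (Abelianization Q) ∈ commutator Q :=
      pow_card_abelianization_mem _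
    rw [commutator_eq_map_fcProj] at h1
    obtain ⟨w, hw, hwx⟩ := h1
    have hz : x ^ Nat.card (Abelianization Q) * w⁻¹ ∈ (fcProj Q).ker := by
      rw [MonoidHom.mem_ker, map_mul, map_inv, hwx, map_pow, mul_inv_cancel]
    have hz2 : θ₁ (x ^ Nat.card (Abelianization Q) * w⁻¹) ∈ σ₁.ker := by
      rw [MonoidHom.mem_ker, hθ₁']; exact hz
    rw [hk₁] at hz2
    obtain ⟨m, hm, hmz⟩ := hz2
    refine ⟨x ^ Nat.card (Abelianization Q) * w⁻¹ * m⁻¹, ?_, m * w,
      mul_mem (fcMult_le_comm Q hm) hw, by group⟩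
    rw [MonoidHom.mem_ker, map_mul, map_inv, hmz, mul_inv_cancel]
  -- the homomorphism to extend
  have hmem : ∀ s : θ₁.ker, (θ₂.comp θ₁.ker.subtype) s ∈ σ₂.ker := by
    intro s
    show θ₂ (s : FC Q) ∈ σ₂.ker
    rw [MonoidHom.mem_ker, hθ₂']
    exact hS₁Z s.2
  let f : θ₁.ker →* A := e₂.toMonoidHom.comp ((θ₂.comp θ₁.ker.subtype).codRestrict σ₂.ker hmem)
  obtain ⟨c, hc⟩ := exists_extension θ₁.ker hS₁P _ hk hcop f
  let zc : FC Q → Γ₂ := fun x => (((e₂.symm (c x) : σ₂.ker) : Γ₂))⁻¹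
  have hzc_ker : ∀ x, zc x ∈ σ₂.ker := fun x => inv_mem (e₂.symm (c x)).2
  have hzc_comm : ∀ x (y : Γ₂), zc x * y = y * zc x := by
    intro x y
    exact (Subgroup.mem_center_iff.1 (h₂.2.1 (hzc_ker x)) y).symm
  have hzc_mul : ∀ x y, zc (x * y) = zc x * zc y := by
    intro x y
    show (((e₂.symm (c (x * y)) : σ₂.ker) : Γ₂))⁻¹ = _
    rw [map_mul, map_mul, Subgroup.coe_mul, mul_inv_rev]
    exact hzc_comm y _
  have hzc_one : zc 1 = 1 := by
    show (((e₂.symm (c 1) : σ₂.ker) : Γ₂))⁻¹ = 1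
    rw [map_one, map_one, Subgroup.coe_one, inv_one]
  let θ₂' : FC Q →* Γ₂ :=
    { toFun := fun x => θ₂ x * zc x
      map_one' := by rw [map_one, hzc_one, mul_one]
      map_mul' := fun x y => by
        rw [map_mul, hzc_mul, mul_assoc (θ₂ x) (zc x), hzc_comm x (θ₂ y * zc y)]
        simp only [mul_assoc]
        rw [hzc_comm x (zc y)] }
  have hθ₂'_def : ∀ x, θ₂' x = θ₂ x * zc x := fun x => rfl
  have hσθ₂' : ∀ x, σ₂ (θ₂' x) = fcProj Q x := by
    intro x
    rw [hθ₂'_def, map_mul, hθ₂', MonoidHom.mem_ker.1 (hzc_ker x), mul_one]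
  have hker : θ₁.ker ≤ θ₂'.ker := by
    intro s hs
    rw [MonoidHom.mem_ker, hθ₂'_def]
    have h1 : c s = f ⟨s, hs⟩ := hc ⟨s, hs⟩
    have h2 : e₂.symm (c s) = ⟨θ₂ s, hmem ⟨s, hs⟩⟩ := by
      rw [h1]
      show e₂.symm (e₂ _) = _
      rw [e₂.symm_apply_apply]
      rfl
    show θ₂ s * (((e₂.symm (c s) : σ₂.ker) : Γ₂))⁻¹ = 1
    rw [h2, mul_inv_cancel]
  have hcM : ∀ m ∈ commutator (FC Q), zc m = 1 := by
    intro m hm
    have : c m = 1 := Abelianization.commutator_subset_ker c hm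
    show (((e₂.symm (c m) : σ₂.ker) : Γ₂))⁻¹ = 1
    rw [this, map_one, Subgroup.coe_one, inv_one]
  let ebar : Γ₁ →* Γ₂ := MonoidHom.liftOfRightInverse θ₁ (Function.surjInv hs₁)
    (Function.rightInverse_surjInv hs₁) ⟨θ₂', hker⟩
  have hebar : ∀ x, ebar (θ₁ x) = θ₂' x := fun x =>
    MonoidHom.liftOfRightInverse_comp_apply θ₁ (Function.surjInv hs₁)
      (Function.rightInverse_surjInv hs₁) ⟨θ₂', hker⟩ x
  have hsurj : Function.Surjective ebar := by
    intro y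
    obtain ⟨x, rfl⟩ := hs₂ y
    have hz : (zc x)⁻¹ ∈ σ₂.ker := inv_mem (hzc_ker x)
    rw [hk₂] at hz
    obtain ⟨m, hm, hmz⟩ := hz
    refine ⟨θ₁ (x * m), ?_⟩
    rw [hebar, map_mul, hθ₂'_def x, hθ₂'_def m, hcM m (fcMult_le_comm Q hm), mul_one, hmz]
    group
  have hcardΓ : Nat.card Γ₁ ≤ Nat.card Γ₂ := by
    rw [card_eq_of_stem σ₁ h₁.1, card_eq_of_stem σ₂ h₂.1, Nat.card_congr e₁.toEquiv,
      Nat.card_congr e₂.toEquiv]
  have hbij : Function.Bijective ebar := hsurj.bijective_of_nat_card_le hcardΓ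
  refine ⟨MulEquiv.ofBijective ebar hbij, ?_⟩
  apply MonoidHom.ext
  intro y
  obtain ⟨x, rfl⟩ := hs₁ y
  show σ₂ (ebar (θ₁ x)) = σ₁ (θ₁ x)
  rw [hebar, hσθ₂', hθ₁']

end Cfsg.Agent.H9.CoverUniq
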