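import Mathlib
import Cfsg.Agent.H9.CoverUniqA

set_option autoImplicit false
set_option linter.style.haveILetI false

namespace Cfsg.Agent.H9.CoverUniq

open Cfsg Cfsg.Agent.H1

universe u v w

/-- a homomorphism `Ψ` of the free central extension to `ℂˣ` whose `p`-th power is a given character of the
commutator quotient of `Q` -/
lemma exists_root_character {Q : Type u} [Group Q] (p : ℕ) (hp : p ≠ 0)
    (χ : Abelianization Q →* ℂˣ) :
    ∃ Ψ : FC Q →* ℂˣ, ∀ x, Ψ x ^ p = χ (Abelianization.of (fcProj Q x)) := by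
  classical
  have hroot : ∀ q : Q, ∃ w : ℂˣ, w ^ p = χ (Abelianization.of q) := by
    intro q
    obtain ⟨w, hw⟩ := complexUnits_root (χ (Abelianization.of q)) (p : ℤ) (by exact_mod_cast hp)
    exact ⟨w, by rwa [zpow_natCast] at hw⟩
  choose r hr using hroot
  let Ψ₀ : FreeGroup Q →* ℂˣ := FreeGroup.lift r
  have hle : fcKer Q ≤ Ψ₀.ker := by
    have h2 : fcKer Q ≤ commutator (FreeGroup Q) := by
      unfold fcKer; rw [commutator_def]; exact Subgroup.commutator_mono le_top le_rfl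
    exact le_trans h2 (Abelianization.commutator_subset_ker Ψ₀)
  refine ⟨QuotientGroup.lift (fcKer Q) Ψ₀ hle, ?_⟩
  intro x
  obtain ⟨f, rfl⟩ := QuotientGroup.mk_surjective x
  show Ψ₀ f ^ p = χ (Abelianization.of (FreeGroup.lift (id : Q → Q) f))
  have h : (powMonoidHom p : ℂˣ →* ℂˣ).comp Ψ₀ =
      χ.comp (Abelianization.of.comp (FreeGroup.lift (id : Q → Q))) := by
    apply FreeGroup.ext_hom
    intro q
    show (FreeGroup.lift r (FreeGroup.of q)) ^ p =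
      χ (Abelianization.of (FreeGroup.lift (id : Q → Q) (FreeGroup.of q)))
    rw [FreeGroup.lift_apply_of, FreeGroup.lift_apply_of, hr]
    rfl
  exact DFunLike.congr_fun h f

/-- a character of order `p` of a finite abelian group of order divisible by `p`, onto the `p`-th roots of unity -/
lemma exists_character_of_order {M : Type u} [CommGroup M] [Finite M] (p : ℕ) [hp : Fact p.Prime]
    (hpM : p ∣ Nat.card M) :
    ∃ π₀ : M →* ℂˣ, (∀ m, π₀ m ^ p = 1) ∧ ∀ u : ℂˣ, u ^ p = 1 → ∃ m, π₀ m = u := by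
  classical
  haveI : NeZero (Monoid.exponent M) := ⟨Monoid.exponent_ne_zero_of_finite⟩
  obtain ⟨E⟩ := CommGroup.monoidHom_mulEquiv_of_hasEnoughRootsOfUnity M ℂ
  haveI : Finite (M →* ℂˣ) := Finite.of_equiv _ E.symm.toEquiv
  have hcard : p ∣ Nat.card (M →* ℂˣ) := by
    rw [Nat.card_congr E.toEquiv]; exact hpM
  obtain ⟨π₀, hπ₀⟩ := exists_prime_orderOf_dvd_card' p hcard
  have hpow : ∀ m, π₀ m ^ p = 1 := by
    intro m
    have h1 : π₀ ^ p = 1 := by rw [← hπ₀]; exact pow_orderOf_eq_one π₀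
    have h2 := DFunLike.congr_fun h1 m
    rwa [MonoidHom.pow_apply, MonoidHom.one_apply] at h2
  have hne : π₀ ≠ 1 := by
    intro h
    rw [h, orderOf_one] at hπ₀
    exact hp.out.one_lt.ne hπ₀
  obtain ⟨m₀, hm₀⟩ : ∃ m₀, π₀ m₀ ≠ 1 := by
    by_contra hcon
    exact hne (MonoidHom.ext fun m => by
      by_contra h
      exact hcon ⟨m, h⟩)
  have hord : orderOf (π₀ m₀) = p := orderOf_eq_prime (hpow m₀) hm₀
  have hprim : IsPrimitiveRoot (π₀ m₀) p := by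
    rw [← hord]; exact IsPrimitiveRoot.orderOf _
  haveI : NeZero p := ⟨hp.out.ne_zero⟩
  refine ⟨π₀, hpow, fun u hu => ?_⟩
  have hmem : u ∈ rootsOfUnity p ℂ := (mem_rootsOfUnity p u).2 hu
  rw [← hprim.zpowers_eq, Subgroup.mem_zpowers_iff] at hmem
  obtain ⟨i, hi⟩ := hmem
  exact ⟨m₀ ^ i, by rw [map_zpow, hi]⟩

/-- normality of central subgroups -/
lemma normal_of_le_ker {Q : Type u} [Group Q] (S : Subgroup (FC Q)) (hS : S ≤ (fcProj Q).ker) :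
    S.Normal := by
  constructor
  intro n hn g
  have := Subgroup.mem_center_iff.1 (fcProj_ker_le_center Q (hS hn)) g
  rw [this, mul_inv_cancel_right]; exact hn

/-- **two non-isomorphic covers**: if a prime divides both `|Q / Q'|` and the order of the multiplier, there are
two complements to the multiplier in `Z` whose quotients are not isomorphic over `Q` -/
theorem exists_two_covers {Q : Type u} [Group Q] [Finite Q] (p : ℕ) [hp : Fact p.Prime]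
    (hpk : p ∣ Nat.card (Abelianization Q)) (hpM : p ∣ Nat.card (fcMult Q)) :
    ∃ (S₁ S₂ : Subgroup (FC Q)) (hS₁ : S₁ ≤ (fcProj Q).ker) (hS₂ : S₂ ≤ (fcProj Q).ker)
      (_ : S₁.Normal) (_ : S₂.Normal),
      S₁ ⊓ fcMult Q = ⊥ ∧ S₂ ⊓ fcMult Q = ⊥ ∧
      (∀ z ∈ (fcProj Q).ker, ∃ s ∈ S₁, ∃ m ∈ fcMult Q, z = s * m) ∧
      (∀ z ∈ (fcProj Q).ker, ∃ s ∈ S₂, ∃ m ∈ fcMult Q, z = s * m) ∧
      ¬ ∃ e : (FC Q ⧸ S₁) ≃* (FC Q ⧸ S₂),
        (QuotientGroup.lift S₂ (fcProj Q) hS₂).comp e.toMonoidHom =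
          QuotientGroup.lift S₁ (fcProj Q) hS₁ := by
  classical
  -- the first complement
  obtain ⟨S₁, hS₁Z, hS₁M, hS₁dec⟩ := exists_complement (Q := Q) (fcProj Q).ker le_rfl
    (fun z hz => ⟨z, hz, 1, one_mem _, (mul_one z).symm⟩)
  -- an element of order p in the commutator quotient
  obtain ⟨ybar, hybar⟩ := exists_prime_orderOf_dvd_card' p hpk
  obtain ⟨q₀, rfl⟩ := QuotientGroup.mk_surjective ybar
  obtain ⟨x₀, rfl⟩ := fcProj_surjective Q q₀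
  have hyne : (Abelianization.of (fcProj Q x₀)) ≠ 1 := by
    intro h
    have h1 : orderOf (Abelianization.of (fcProj Q x₀)) = p := hybar
    rw [h, orderOf_one] at h1
    exact hp.out.one_lt.ne h1
  haveI : NeZero (Monoid.exponent (Abelianization Q)) := ⟨Monoid.exponent_ne_zero_of_finite⟩
  obtain ⟨χ, hχ⟩ := CommGroup.exists_apply_ne_one_of_hasEnoughRootsOfUnity (Abelianization Q) ℂ hyne
  obtain ⟨Ψ, hΨ⟩ := exists_root_character p hp.out.ne_zero χ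
  have hΨcomm : ∀ w ∈ commutator (FC Q), Ψ w = 1 := fun w hw =>
    Abelianization.commutator_subset_ker Ψ hw
  have hΨZ : ∀ z ∈ (fcProj Q).ker, Ψ z ^ p = 1 := by
    intro z hz
    rw [hΨ, MonoidHom.mem_ker.1 hz, map_one, map_one]
  -- x₀^p = s₀ w₁
  obtain ⟨s₀, hs₀, w₁, hw₁, hx₀⟩ : ∃ s₀ ∈ S₁, ∃ w₁ ∈ commutator (FC Q), x₀ ^ p = s₀ * w₁ := by
    have h1 : (fcProj Q x₀) ^ p ∈ commutator Q := by
      apply (QuotientGroup.eq_one_iff _).1
      have h2 : (Abelianization.of (fcProj Q x₀)) ^ p = 1 := by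
        have h3 : orderOf (Abelianization.of (fcProj Q x₀)) = p := hybar
        rw [← h3]; exact pow_orderOf_eq_one _
      rw [← map_pow] at h2
      exact h2
    rw [commutator_eq_map_fcProj] at h1
    obtain ⟨w₀, hw₀, hwx⟩ := h1
    have hz : x₀ ^ p * w₀⁻¹ ∈ (fcProj Q).ker := by
      rw [MonoidHom.mem_ker, map_mul, map_inv, hwx, map_pow, mul_inv_cancel]
    obtain ⟨s, hs, m, hm, hzsm⟩ := hS₁dec _ hz
    refine ⟨s, hs, m * w₀, mul_mem (fcMult_le_comm Q hm) hw₀, ?_⟩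
    rw [← mul_assoc, ← hzsm]; group
  have hΨs₀ : Ψ s₀ ≠ 1 := by
    have h1 : Ψ (x₀ ^ p) = Ψ s₀ := by rw [hx₀, map_mul, hΨcomm w₁ hw₁, mul_one]
    rw [← h1, map_pow, hΨ]
    exact hχ
  -- the character π₀ of the multiplier
  letI : CommGroup (fcMult Q) := { (inferInstance : Group (fcMult Q)) with
    mul_comm := fun a b => Subtype.ext (Subgroup.mem_center_iff.1 (fcMult_le_center Q b.2) a.1) }
  obtain ⟨π₀, hπ₀pow, hπ₀surj⟩ := exists_character_of_order (M := fcMult Q) p hpM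
  -- the subgroup K₂
  have hMc : ∀ m : fcMult Q, ∀ y : FC Q, y * (m : FC Q) = (m : FC Q) * y := fun m y =>
    Subgroup.mem_center_iff.1 (fcMult_le_center Q m.2) y
  let K₂ : Subgroup (FC Q) :=
    { carrier := {z | ∃ s ∈ S₁, ∃ m : fcMult Q, z = s * (m : FC Q) ∧ π₀ m = Ψ s}
      one_mem' := ⟨1, one_mem _, 1, by rw [Subgroup.coe_one, mul_one], by rw [map_one, map_one]⟩
      mul_mem' := by
        rintro _ _ ⟨s, hs, m, rfl, hm⟩ ⟨s', hs', m', rfl, hm'⟩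
        refine ⟨s * s', mul_mem hs hs', m * m', ?_, by rw [map_mul, map_mul, hm, hm']⟩
        rw [Subgroup.coe_mul, mul_assoc, ← mul_assoc (m : FC Q), ← hMc m s']
        simp only [mul_assoc]
      inv_mem' := by
        rintro _ ⟨s, hs, m, rfl, hm⟩
        refine ⟨s⁻¹, inv_mem hs, m⁻¹, ?_, by rw [map_inv, map_inv, hm]⟩
        rw [mul_inv_rev, Subgroup.coe_inv]
        exact (hMc m⁻¹ s⁻¹).symm }
  have hK₂mem : ∀ z, z ∈ K₂ ↔ ∃ s ∈ S₁, ∃ m : fcMult Q, z = s * (m : FC Q) ∧ π₀ m = Ψ s :=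
    fun z => Iff.rfl
  have hK₂Z : K₂ ≤ (fcProj Q).ker := by
    intro z hz
    obtain ⟨s, hs, m, rfl, _⟩ := (hK₂mem z).1 hz
    exact mul_mem (hS₁Z hs) (fcMult_le_ker Q m.2)
  have hK₂M : ∀ z ∈ (fcProj Q).ker, ∃ k ∈ K₂, ∃ m ∈ fcMult Q, z = k * m := by
    intro z hz
    obtain ⟨s, hs, m, hm, rfl⟩ := hS₁dec z hz
    obtain ⟨m', hm'⟩ := hπ₀surj (Ψ s) (hΨZ s (hS₁Z hs))
    refine ⟨s * (m' : FC Q), (hK₂mem _).2 ⟨s, hs, m', rfl, hm'⟩, (m' : FC Q)⁻¹ * m,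
      mul_mem (inv_mem m'.2) hm, by group⟩
  obtain ⟨S₂, hS₂K, hS₂M, hS₂dec⟩ := exists_complement K₂ hK₂Z hK₂M
  have hS₂Z : S₂ ≤ (fcProj Q).ker := le_trans hS₂K hK₂Z
  -- the key element of S₂
  obtain ⟨m', hm'S₂, hm'π⟩ : ∃ m' : fcMult Q, s₀ * (m' : FC Q) ∈ S₂ ∧ π₀ m' = Ψ s₀ := by
    obtain ⟨s₂, hs₂, m₂, hm₂, hs₀eq⟩ := hS₂dec s₀ (hS₁Z hs₀)
    obtain ⟨s', hs', m', hs₂eq, hm'⟩ := (hK₂mem s₂).1 (hS₂K hs₂)
    have h1 : s'⁻¹ * s₀ = (m' : FC Q) * m₂ := by rw [hs₀eq, hs₂eq]; group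
    have h2 : s'⁻¹ * s₀ ∈ S₁ ⊓ fcMult Q :=
      Subgroup.mem_inf.2 ⟨mul_mem (inv_mem hs') hs₀, by rw [h1]; exact mul_mem m'.2 hm₂⟩
    rw [hS₁M, Subgroup.mem_bot] at h2
    have h3 : s' = s₀ := (inv_mul_eq_one.1 h2)
    refine ⟨m', ?_, by rw [hm', h3]⟩
    rw [← h3, ← hs₂eq]; exact hs₂
  haveI hS₁n : S₁.Normal := normal_of_le_ker S₁ hS₁Z
  haveI hS₂n : S₂.Normal := normal_of_le_ker S₂ hS₂Z
  refine ⟨S₁, S₂, hS₁Z, hS₂Z, hS₁n, hS₂n, hS₁M, hS₂M, hS₁dec, hS₂dec, ?_⟩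
  rintro ⟨e, he⟩
  have he' : ∀ y : FC Q ⧸ S₁, QuotientGroup.lift S₂ (fcProj Q) hS₂Z (e y) =
      QuotientGroup.lift S₁ (fcProj Q) hS₁Z y := fun y => DFunLike.congr_fun he y
  let mk₁ : FC Q →* FC Q ⧸ S₁ := QuotientGroup.mk' S₁
  let mk₂ : FC Q →* FC Q ⧸ S₂ := QuotientGroup.mk' S₂
  have hσ₂mk : ∀ x : FC Q, QuotientGroup.lift S₂ (fcProj Q) hS₂Z (mk₂ x) = fcProj Q x := fun x => rfl
  have hσ₁mk : ∀ x : FC Q, QuotientGroup.lift S₁ (fcProj Q) hS₁Z (mk₁ x) = fcProj Q x := fun x => rfl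
  -- elements of the kernel of σ₂ come from the multiplier
  have hker₂ : ∀ y : FC Q ⧸ S₂, QuotientGroup.lift S₂ (fcProj Q) hS₂Z y = 1 →
      ∃ m : fcMult Q, y = mk₂ (m : FC Q) := by
    intro y hy
    obtain ⟨z, rfl⟩ := QuotientGroup.mk_surjective y
    have hz : z ∈ (fcProj Q).ker := hy
    obtain ⟨s, hs, m, hm, rfl⟩ := hS₂dec z hz
    refine ⟨⟨m, hm⟩, ?_⟩
    show mk₂ (s * m) = mk₂ m
    rw [map_mul]
    have : mk₂ s = 1 := (QuotientGroup.eq_one_iff s).2 hs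
    rw [this, one_mul]
  have hdiff : ∀ x : FC Q, ∃ m : fcMult Q, e (mk₁ x) = mk₂ x * mk₂ (m : FC Q) := by
    intro x
    have h1 : QuotientGroup.lift S₂ (fcProj Q) hS₂Z ((mk₂ x)⁻¹ * e (mk₁ x)) = 1 := by
      rw [map_mul, map_inv, he', hσ₁mk, hσ₂mk, inv_mul_cancel]
    obtain ⟨m, hm⟩ := hker₂ _ h1
    exact ⟨m, by rw [← hm]; group⟩
  have hmk₂c : ∀ m : fcMult Q, mk₂ (m : FC Q) ∈ Subgroup.center (FC Q ⧸ S₂) := by
    intro m
    rw [Subgroup.mem_center_iff]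
    intro y
    obtain ⟨z, rfl⟩ := QuotientGroup.mk_surjective y
    show mk₂ z * mk₂ m = mk₂ m * mk₂ z
    rw [← map_mul, ← map_mul, hMc m z]
  -- agreement on the commutator subgroup
  have hagree : ∀ w ∈ commutator (FC Q), e (mk₁ w) = mk₂ w := by
    intro w hw
    have h := commutator_le_eqLocus_of_central (e.toMonoidHom.comp mk₁) mk₂ (fun g => by
      obtain ⟨m, hm⟩ := hdiff g
      show (mk₂ g)⁻¹ * e (mk₁ g) ∈ _
      rw [hm, inv_mul_cancel_left]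
      exact hmk₂c m) hw
    exact h
  obtain ⟨ma, hma⟩ := hdiff x₀
  have hmk₁s₀ : mk₁ s₀ = 1 := (QuotientGroup.eq_one_iff s₀).2 hs₀
  have h1 : e (mk₁ (x₀ ^ p)) = mk₂ w₁ := by
    rw [hx₀, map_mul, hmk₁s₀, one_mul, hagree w₁ hw₁]
  have h2 : e (mk₁ (x₀ ^ p)) = mk₂ (x₀ ^ p * (ma : FC Q) ^ p) := by
    rw [map_pow, map_pow, hma, map_mul, map_pow, map_pow]
    have hc : Commute (mk₂ x₀) (mk₂ (ma : FC Q)) :=
      (Subgroup.mem_center_iff.1 (hmk₂c ma) (mk₂ x₀))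
    exact hc.mul_pow p
  have h3 : mk₂ (s₀ * (ma : FC Q) ^ p) = 1 := by
    have h4 : mk₂ (x₀ ^ p * (ma : FC Q) ^ p) = mk₂ w₁ := by rw [← h2, h1]
    rw [hx₀] at h4
    have h5 : s₀ * w₁ * (ma : FC Q) ^ p = s₀ * (ma : FC Q) ^ p * w₁ := by
      have : w₁ * ((ma ^ p : fcMult Q) : FC Q) = ((ma ^ p : fcMult Q) : FC Q) * w₁ := hMc (ma ^ p) w₁
      rw [Subgroup.coe_pow] at this
      rw [mul_assoc, this, ← mul_assoc]
    rw [h5, map_mul] at h4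
    exact mul_eq_right.1 h4
  have h6 : s₀ * (ma : FC Q) ^ p ∈ S₂ := (QuotientGroup.eq_one_iff _).1 h3
  have h7 : (m' : FC Q)⁻¹ * (ma : FC Q) ^ p ∈ S₂ ⊓ fcMult Q := by
    refine Subgroup.mem_inf.2 ⟨?_, mul_mem (inv_mem m'.2) (pow_mem ma.2 p)⟩
    have : (m' : FC Q)⁻¹ * (ma : FC Q) ^ p = (s₀ * (m' : FC Q))⁻¹ * (s₀ * (ma : FC Q) ^ p) := by group
    rw [this]
    exact mul_mem (inv_mem hm'S₂) h6
  rw [hS₂M, Subgroup.mem_bot] at h7
  have h8 : m' = ma ^ p := by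
    apply Subtype.ext
    rw [Subgroup.coe_pow]
    exact inv_mul_eq_one.1 h7
  apply hΨs₀
  rw [← hm'π, h8, map_pow, hπ₀pow]

end Cfsg.Agent.H9.CoverUniq
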