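import Mathlib
import Cfsg.Agent.H9.CoxA3Perm

/-!
# Coxeter relations of type `A₄`

Four involutions `a b c d` with `(ab)³ = (bc)³ = (cd)³ = 1`, the other pairs commuting, and `ab ≠ ba`
generate a group isomorphic to the symmetric group of degree five.
-/

set_option autoImplicit false

namespace Cfsg.Agent.H9.CoxA4

open Equiv Cfsg.Agent.H9.CoxA3

section general

variable {G : Type*} [Group G] {a b c d : G}

/-- the coset representatives of `⟨a, b, c⟩` -/
def R5 (a b c d : G) : Set G := {1, d, d * c, d * c * b, d * c * b * a}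

/-- the generators of the subgroup, with the identity -/
def K4 (a b c : G) : Set G := {1, a, b, c}

theorem R5_mul (haa : a * a = 1) (hbb : b * b = 1) (hcc : c * c = 1) (hdd : d * d = 1)
    (hab : (a * b) ^ 3 = 1) (hbc : (b * c) ^ 3 = 1) (hcd : (c * d) ^ 3 = 1)
    (hac : a * c = c * a) (had : a * d = d * a) (hbd : b * d = d * b) :
    ∀ r ∈ R5 a b c d, ∀ x ∈ ({a, b, c, d} : Set G), ∃ k ∈ K4 a b c, ∃ r' ∈ R5 a b c d,
      r * x = k * r' := by
  have hbab := bab haa hbb hab
  have hcbc := bab hbb hcc hbc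
  have hdcd := bab hcc hdd hcd
  intro r hr x hx
  simp only [R5, K4, Set.mem_insert_iff, Set.mem_singleton_iff] at hr hx ⊢
  rcases hx with hx | hx | hx | hx <;> rcases hr with hr | hr | hr | hr | hr <;> rw [hx, hr]
  -- x = a
  · exact ⟨a, Or.inr (Or.inl rfl), 1, Or.inl rfl, by rw [one_mul, mul_one]⟩
  · exact ⟨a, Or.inr (Or.inl rfl), d, Or.inr (Or.inl rfl), had.symm⟩
  · refine ⟨a, Or.inr (Or.inl rfl), d * c, Or.inr (Or.inr (Or.inl rfl)), ?_⟩
    calc d * c * a = d * (c * a) := by group
      _ = d * (a * c) := by rw [hac]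
      _ = (d * a) * c := by group
      _ = (a * d) * c := by rw [had]
      _ = a * (d * c) := by group
  · exact ⟨1, Or.inl rfl, d * c * b * a, Or.inr (Or.inr (Or.inr (Or.inr rfl))), by rw [one_mul]⟩
  · exact ⟨1, Or.inl rfl, d * c * b, Or.inr (Or.inr (Or.inr (Or.inl rfl))),
      by rw [one_mul, mul_assoc, haa, mul_one]⟩
  -- x = b
  · exact ⟨b, Or.inr (Or.inr (Or.inl rfl)), 1, Or.inl rfl, by rw [one_mul, mul_one]⟩
  · exact ⟨b, Or.inr (Or.inr (Or.inl rfl)), d, Or.inr (Or.inl rfl), hbd.symm⟩
  · exact ⟨1, Or.inl rfl, d * c * b, Or.inr (Or.inr (Or.inr (Or.inl rfl))), by rw [one_mul]⟩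
  · exact ⟨1, Or.inl rfl, d * c, Or.inr (Or.inr (Or.inl rfl)),
      by rw [one_mul, mul_assoc, hbb, mul_one]⟩
  · refine ⟨a, Or.inr (Or.inl rfl), d * c * b * a, Or.inr (Or.inr (Or.inr (Or.inr rfl))), ?_⟩
    calc d * c * b * a * b = d * c * (b * a * b) := by group
      _ = d * c * (a * b * a) := by rw [hbab]
      _ = d * (c * a) * b * a := by group
      _ = d * (a * c) * b * a := by rw [hac]
      _ = (d * a) * c * b * a := by group
      _ = (a * d) * c * b * a := by rw [had]
      _ = a * (d * c * b * a) := by group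
  -- x = c
  · exact ⟨c, Or.inr (Or.inr (Or.inr rfl)), 1, Or.inl rfl, by rw [one_mul, mul_one]⟩
  · exact ⟨1, Or.inl rfl, d * c, Or.inr (Or.inr (Or.inl rfl)), by rw [one_mul]⟩
  · exact ⟨1, Or.inl rfl, d, Or.inr (Or.inl rfl), by rw [one_mul, mul_assoc, hcc, mul_one]⟩
  · refine ⟨b, Or.inr (Or.inr (Or.inl rfl)), d * c * b, Or.inr (Or.inr (Or.inr (Or.inl rfl))), ?_⟩
    calc d * c * b * c = d * (c * b * c) := by group
      _ = d * (b * c * b) := by rw [hcbc]
      _ = (d * b) * c * b := by group
      _ = (b * d) * c * b := by rw [hbd]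
      _ = b * (d * c * b) := by group
  · refine ⟨b, Or.inr (Or.inr (Or.inl rfl)), d * c * b * a, Or.inr (Or.inr (Or.inr (Or.inr rfl))), ?_⟩
    calc d * c * b * a * c = d * c * b * (a * c) := by group
      _ = d * c * b * (c * a) := by rw [hac]
      _ = d * (c * b * c) * a := by group
      _ = d * (b * c * b) * a := by rw [hcbc]
      _ = (d * b) * c * b * a := by group
      _ = (b * d) * c * b * a := by rw [hbd]
      _ = b * (d * c * b * a) := by group
  -- x = d
  · exact ⟨1, Or.inl rfl, d, Or.inr (Or.inl rfl), by rw [one_mul]⟩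
  · exact ⟨1, Or.inl rfl, 1, Or.inl rfl, by rw [hdd, one_mul]⟩
  · refine ⟨c, Or.inr (Or.inr (Or.inr rfl)), d * c, Or.inr (Or.inr (Or.inl rfl)), ?_⟩
    rw [hdcd]; group
  · refine ⟨c, Or.inr (Or.inr (Or.inr rfl)), d * c * b, Or.inr (Or.inr (Or.inr (Or.inl rfl))), ?_⟩
    calc d * c * b * d = d * c * (b * d) := by group
      _ = d * c * (d * b) := by rw [hbd]
      _ = (d * c * d) * b := by group
      _ = (c * d * c) * b := by rw [hdcd]
      _ = c * (d * c * b) := by group
  · refine ⟨c, Or.inr (Or.inr (Or.inr rfl)), d * c * b * a, Or.inr (Or.inr (Or.inr (Or.inr rfl))), ?_⟩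
    calc d * c * b * a * d = d * c * b * (a * d) := by group
      _ = d * c * b * (d * a) := by rw [had]
      _ = d * c * (b * d) * a := by group
      _ = d * c * (d * b) * a := by rw [hbd]
      _ = (d * c * d) * b * a := by group
      _ = (c * d * c) * b * a := by rw [hdcd]
      _ = c * (d * c * b * a) := by group

/-- The 120-element set `S24 * R5`. -/
def S120 (a b c d : G) : Set G := Set.image2 (· * ·) (S24 a b c) (R5 a b c d)

theorem S120_mul (haa : a * a = 1) (hbb : b * b = 1) (hcc : c * c = 1) (hdd : d * d = 1)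
    (hab : (a * b) ^ 3 = 1) (hbc : (b * c) ^ 3 = 1) (hcd : (c * d) ^ 3 = 1)
    (hac : a * c = c * a) (had : a * d = d * a) (hbd : b * d = d * b) :
    ∀ s ∈ S120 a b c d, ∀ x ∈ ({a, b, c, d} : Set G), s * x ∈ S120 a b c d := by
  rintro _ ⟨k, hk, r, hr, rfl⟩ x hx
  obtain ⟨k', hk', r', hr', h⟩ := R5_mul haa hbb hcc hdd hab hbc hcd hac had hbd r hr x hx
  have hkk' : k * k' ∈ S24 a b c := by
    simp only [K4, Set.mem_insert_iff, Set.mem_singleton_iff] at hk'
    rcases hk' with rfl | rfl | rfl | rfl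
    · rw [mul_one]; exact hk
    · exact S24_mul haa hbb hcc hab hbc hac k hk _ (by simp)
    · exact S24_mul haa hbb hcc hab hbc hac k hk _ (by simp)
    · exact S24_mul haa hbb hcc hab hbc hac k hk _ (by simp)
  refine ⟨k * k', hkk', r', hr', ?_⟩
  show k * k' * r' = k * r * x
  rw [mul_assoc, ← h, mul_assoc]

theorem R5_finite (a b c d : G) : (R5 a b c d).Finite := by
  simp only [R5]; exact Set.toFinite _

theorem S120_finite (a b c d : G) : (S120 a b c d).Finite :=
  Set.Finite.image2 _ (S24_finite a b c) (R5_finite a b c d)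

theorem S120_ncard (a b c d : G) : (S120 a b c d).ncard ≤ 120 := by
  have h1 : (S24 a b c).ncard ≤ 24 := S24_ncard a b c
  have h2 : (R5 a b c d).ncard ≤ 5 := by
    unfold R5
    refine (Set.ncard_insert_le _ _).trans ?_
    refine Nat.succ_le_succ ((Set.ncard_insert_le _ _).trans ?_)
    refine Nat.succ_le_succ ((Set.ncard_insert_le _ _).trans ?_)
    refine Nat.succ_le_succ ((Set.ncard_insert_le _ _).trans ?_)
    rw [Set.ncard_singleton]
  have himg : S120 a b c d = (fun x : G × G => x.1 * x.2) '' (S24 a b c ×ˢ R5 a b c d) := by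
    unfold S120; rw [Set.image_prod]
  calc (S120 a b c d).ncard ≤ (S24 a b c ×ˢ R5 a b c d).ncard := by
        rw [himg]; exact Set.ncard_image_le ((S24_finite a b c).prod (R5_finite a b c d))
    _ = (S24 a b c).ncard * (R5 a b c d).ncard := Set.ncard_prod
    _ ≤ 24 * 5 := Nat.mul_le_mul h1 h2

/-- A group generated by `a b c d` satisfying the Coxeter relations of type A₄ has at most 120 elements. -/
theorem card_le (haa : a * a = 1) (hbb : b * b = 1) (hcc : c * c = 1) (hdd : d * d = 1)
    (hab : (a * b) ^ 3 = 1) (hbc : (b * c) ^ 3 = 1) (hcd : (c * d) ^ 3 = 1)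
    (hac : a * c = c * a) (had : a * d = d * a) (hbd : b * d = d * b)
    (hgen : Subgroup.closure ({a, b, c, d} : Set G) = ⊤) :
    Finite G ∧ Nat.card G ≤ 120 := by
  have hmul := S120_mul haa hbb hcc hdd hab hbc hcd hac had hbd
  have hall : ∀ w : G, (∀ s ∈ S120 a b c d, s * w ∈ S120 a b c d) ∧
      (∀ s ∈ S120 a b c d, s * w⁻¹ ∈ S120 a b c d) := by
    intro w
    have hw : w ∈ Subgroup.closure ({a, b, c, d} : Set G) := hgen ▸ Subgroup.mem_top w
    induction hw using Subgroup.closure_induction with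
    | mem x hx =>
      refine ⟨fun s hs => hmul s hs x hx, fun s hs => ?_⟩
      have : x⁻¹ = x := by
        simp only [Set.mem_insert_iff, Set.mem_singleton_iff] at hx
        rcases hx with rfl | rfl | rfl | rfl
        · exact inv_eq_of_mul_eq_one_right haa
        · exact inv_eq_of_mul_eq_one_right hbb
        · exact inv_eq_of_mul_eq_one_right hcc
        · exact inv_eq_of_mul_eq_one_right hdd
      rw [this]; exact hmul s hs x hx
    | one => simp
    | mul x y _ _ ihx ihy =>
      refine ⟨fun s hs => ?_, fun s hs => ?_⟩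
      · rw [← mul_assoc]; exact ihy.1 _ (ihx.1 s hs)
      · rw [mul_inv_rev, ← mul_assoc]; exact ihx.2 _ (ihy.2 s hs)
    | inv x _ ih =>
      refine ⟨ih.2, ?_⟩
      rw [inv_inv]; exact ih.1
  have h1 : (1 : G) ∈ S120 a b c d :=
    ⟨1, ⟨1, by simp [K6], 1, by simp [R4], by simp⟩, 1, by simp [R5], by simp⟩
  have huniv : S120 a b c d = Set.univ := by
    ext w
    simp only [Set.mem_univ, iff_true]
    have := (hall w).1 1 h1
    rwa [one_mul] at this
  have hfin : Finite G := by
    rw [← Set.finite_univ_iff, ← huniv]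
    exact S120_finite a b c d
  refine ⟨hfin, ?_⟩
  rw [← Set.ncard_univ, ← huniv]
  exact S120_ncard a b c d

end general

/-- The Coxeter relations of type A₄ on four generators. -/
def rels : Set (FreeGroup (Fin 4)) :=
  {FreeGroup.of 0 * FreeGroup.of 0, FreeGroup.of 1 * FreeGroup.of 1, FreeGroup.of 2 * FreeGroup.of 2,
   FreeGroup.of 3 * FreeGroup.of 3,
   (FreeGroup.of 0 * FreeGroup.of 1) ^ 3, (FreeGroup.of 1 * FreeGroup.of 2) ^ 3,
   (FreeGroup.of 2 * FreeGroup.of 3) ^ 3,
   FreeGroup.of 0 * FreeGroup.of 2 * (FreeGroup.of 0)⁻¹ * (FreeGroup.of 2)⁻¹,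
   FreeGroup.of 0 * FreeGroup.of 3 * (FreeGroup.of 0)⁻¹ * (FreeGroup.of 3)⁻¹,
   FreeGroup.of 1 * FreeGroup.of 3 * (FreeGroup.of 1)⁻¹ * (FreeGroup.of 3)⁻¹}

/-- The Coxeter group of type A₄ as a presented group. -/
abbrev W : Type := PresentedGroup rels

/-- generators -/
def x (i : Fin 4) : W := PresentedGroup.of i

section lift

variable {G : Type*} [Group G] {a b c d : G}

theorem lift_rels (haa : a * a = 1) (hbb : b * b = 1) (hcc : c * c = 1) (hdd : d * d = 1)
    (hab : (a * b) ^ 3 = 1) (hbc : (b * c) ^ 3 = 1) (hcd : (c * d) ^ 3 = 1)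
    (hac : a * c = c * a) (had : a * d = d * a) (hbd : b * d = d * b) :
    ∀ r ∈ rels, FreeGroup.lift ![a, b, c, d] r = 1 := by
  intro r hr
  simp only [rels, Set.mem_insert_iff, Set.mem_singleton_iff] at hr
  rcases hr with rfl | rfl | rfl | rfl | rfl | rfl | rfl | rfl | rfl | rfl
  · simpa using haa
  · simpa using hbb
  · simpa using hcc
  · simpa using hdd
  · simpa using hab
  · simpa using hbc
  · simpa using hcd
  · simp only [map_mul, map_inv, FreeGroup.lift_apply_of]
    show a * c * a⁻¹ * c⁻¹ = 1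
    rw [hac]; group
  · simp only [map_mul, map_inv, FreeGroup.lift_apply_of]
    show a * d * a⁻¹ * d⁻¹ = 1
    rw [had]; group
  · simp only [map_mul, map_inv, FreeGroup.lift_apply_of]
    show b * d * b⁻¹ * d⁻¹ = 1
    rw [hbd]; group

/-- The hom from `W` to any group with elements satisfying the relations. -/
noncomputable def toGrp (haa : a * a = 1) (hbb : b * b = 1) (hcc : c * c = 1) (hdd : d * d = 1)
    (hab : (a * b) ^ 3 = 1) (hbc : (b * c) ^ 3 = 1) (hcd : (c * d) ^ 3 = 1)
    (hac : a * c = c * a) (had : a * d = d * a) (hbd : b * d = d * b) : W →* G :=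
  PresentedGroup.toGroup (lift_rels haa hbb hcc hdd hab hbc hcd hac had hbd)

theorem toGrp_x (haa : a * a = 1) (hbb : b * b = 1) (hcc : c * c = 1) (hdd : d * d = 1)
    (hab : (a * b) ^ 3 = 1) (hbc : (b * c) ^ 3 = 1) (hcd : (c * d) ^ 3 = 1)
    (hac : a * c = c * a) (had : a * d = d * a) (hbd : b * d = d * b) (i : Fin 4) :
    toGrp haa hbb hcc hdd hab hbc hcd hac had hbd (x i) = ![a, b, c, d] i :=
  PresentedGroup.toGroup.of _

end lift

-- relations in W
theorem x_rel (r : FreeGroup (Fin 4)) (hr : r ∈ rels) : PresentedGroup.mk rels r = 1 :=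
  PresentedGroup.one_of_mem hr

theorem x00 : x 0 * x 0 = 1 := by
  have := x_rel (FreeGroup.of 0 * FreeGroup.of 0) (by simp [rels])
  simpa [x, PresentedGroup.of] using this

theorem x11 : x 1 * x 1 = 1 := by
  have := x_rel (FreeGroup.of 1 * FreeGroup.of 1) (by simp [rels])
  simpa [x, PresentedGroup.of] using this

theorem x22 : x 2 * x 2 = 1 := by
  have := x_rel (FreeGroup.of 2 * FreeGroup.of 2) (by simp [rels])
  simpa [x, PresentedGroup.of] using this

theorem x33 : x 3 * x 3 = 1 := by
  have := x_rel (FreeGroup.of 3 * FreeGroup.of 3) (by simp [rels])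
  simpa [x, PresentedGroup.of] using this

theorem x01 : (x 0 * x 1) ^ 3 = 1 := by
  have := x_rel ((FreeGroup.of 0 * FreeGroup.of 1) ^ 3) (by simp [rels])
  simpa [x, PresentedGroup.of] using this

theorem x12 : (x 1 * x 2) ^ 3 = 1 := by
  have := x_rel ((FreeGroup.of 1 * FreeGroup.of 2) ^ 3) (by simp [rels])
  simpa [x, PresentedGroup.of] using this

theorem x23 : (x 2 * x 3) ^ 3 = 1 := by
  have := x_rel ((FreeGroup.of 2 * FreeGroup.of 3) ^ 3) (by simp [rels])
  simpa [x, PresentedGroup.of] using this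

theorem comm_of_rel {i j : Fin 4}
    (h : FreeGroup.of i * FreeGroup.of j * (FreeGroup.of i)⁻¹ * (FreeGroup.of j)⁻¹ ∈ rels) :
    x i * x j = x j * x i := by
  have := x_rel _ h
  have h2 : x i * x j * (x i)⁻¹ * (x j)⁻¹ = 1 := by simpa [x, PresentedGroup.of] using this
  calc x i * x j = (x i * x j * (x i)⁻¹ * (x j)⁻¹) * (x j * x i) := by group
    _ = x j * x i := by rw [h2, one_mul]

theorem x02 : x 0 * x 2 = x 2 * x 0 := comm_of_rel (by simp [rels])

theorem x03 : x 0 * x 3 = x 3 * x 0 := comm_of_rel (by simp [rels])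

theorem x13 : x 1 * x 3 = x 3 * x 1 := comm_of_rel (by simp [rels])

theorem closure_x : Subgroup.closure ({x 0, x 1, x 2, x 3} : Set W) = ⊤ := by
  have h := PresentedGroup.closure_range_of rels
  have : (Set.range (PresentedGroup.of : Fin 4 → PresentedGroup rels)) = {x 0, x 1, x 2, x 3} := by
    ext w
    constructor
    · rintro ⟨i, rfl⟩
      fin_cases i
      · left; rfl
      · right; left; rfl
      · right; right; left; rfl
      · right; right; right; rfl
    · rintro (rfl | rfl | rfl | rfl)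
      · exact ⟨0, rfl⟩
      · exact ⟨1, rfl⟩
      · exact ⟨2, rfl⟩
      · exact ⟨3, rfl⟩
  rw [← this]; exact h

theorem W_finite : Finite W := (card_le x00 x11 x22 x33 x01 x12 x23 x02 x03 x13 closure_x).1

theorem W_card : Nat.card W ≤ 120 := (card_le x00 x11 x22 x33 x01 x12 x23 x02 x03 x13 closure_x).2

/-- The hom to `S₅`. -/
noncomputable def toS5 : W →* Perm (Fin 5) :=
  toGrp (a := swap 0 1) (b := swap 1 2) (c := swap 2 3) (d := swap 3 4) (by decide) (by decide) (by decide)
    (by decide) (by decide) (by decide) (by decide) (by decide) (by decide) (by decide)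

theorem toS5_x (i : Fin 4) : toS5 (x i) = swap i.castSucc i.succ := by
  rw [toS5, toGrp_x]
  fin_cases i <;> rfl

theorem toS5_surjective : Function.Surjective toS5 := by
  rw [← MonoidHom.mrange_eq_top, eq_top_iff, ← Equiv.Perm.mclosure_swap_castSucc_succ 4, Submonoid.closure_le]
  rintro _ ⟨i, rfl⟩
  exact ⟨x i, toS5_x i⟩

theorem toS5_bijective : Function.Bijective toS5 := by
  have := W_finite
  apply toS5_surjective.bijective_of_nat_card_le
  have h120 : Nat.card (Perm (Fin 5)) = 120 := by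
    rw [Nat.card_eq_fintype_card, Fintype.card_perm, Fintype.card_fin]; rfl
  rw [h120]
  exact W_card

/-- `W ≃* S₅`. -/
noncomputable def equivS5 : W ≃* Perm (Fin 5) := MulEquiv.ofBijective toS5 toS5_bijective

theorem equivS5_symm_swap (i : Fin 4) : equivS5.symm (swap i.castSucc i.succ) = x i := by
  rw [MulEquiv.symm_apply_eq]
  exact (toS5_x i).symm

/-- a central permutation of five points is trivial -/
theorem central_eq_one (k : Perm (Fin 5)) (h : ∀ g : Perm (Fin 5), g * k = k * g) : k = 1 := by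
  apply Equiv.ext
  intro i
  by_contra hki
  have hki' : k i ≠ i := hki
  obtain ⟨l, hli, hlj⟩ : ∃ l : Fin 5, l ≠ i ∧ l ≠ k i := by
    have : ∀ i j : Fin 5, ∃ l : Fin 5, l ≠ i ∧ l ≠ j := by decide
    exact this i (k i)
  have h1 := congrArg (fun f : Perm (Fin 5) => f i) (h (swap (k i) l))
  simp only [Perm.mul_apply] at h1
  rw [swap_apply_left, swap_apply_of_ne_of_ne hki'.symm hli.symm] at h1
  exact hlj h1

/-- **Main theorem**: four involutions satisfying the Coxeter relations of type A₄, the first two not commuting,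
generate a group isomorphic to the symmetric group of degree five. -/
theorem exists_equiv {G : Type*} [Group G] {a b c d : G} (haa : a * a = 1) (hbb : b * b = 1)
    (hcc : c * c = 1) (hdd : d * d = 1) (hab : (a * b) ^ 3 = 1) (hbc : (b * c) ^ 3 = 1)
    (hcd : (c * d) ^ 3 = 1) (hac : a * c = c * a) (had : a * d = d * a) (hbd : b * d = d * b)
    (hne : a * b ≠ b * a) :
    Nonempty (Subgroup.closure ({a, b, c, d} : Set G) ≃* Equiv.Perm (Fin 5)) := by
  let φ : Perm (Fin 5) →* G :=
    (toGrp haa hbb hcc hdd hab hbc hcd hac had hbd).comp equivS5.symm.toMonoidHom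
  have hφ : ∀ i : Fin 4, φ (swap i.castSucc i.succ) = ![a, b, c, d] i := by
    intro i
    show toGrp haa hbb hcc hdd hab hbc hcd hac had hbd (equivS5.symm (swap i.castSucc i.succ)) = _
    rw [equivS5_symm_swap, toGrp_x]
  have hφ0 : φ (swap 0 1) = a := hφ 0
  have hφ1 : φ (swap 1 2) = b := hφ 1
  have hφ2 : φ (swap 2 3) = c := hφ 2
  have hφ3 : φ (swap 3 4) = d := hφ 3
  -- the range
  have hrange : φ.range = Subgroup.closure ({a, b, c, d} : Set G) := by
    have htop : Subgroup.closure (Set.range fun i : Fin 4 => swap i.castSucc i.succ) =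
        (⊤ : Subgroup (Perm (Fin 5))) :=
      Subgroup.closure_eq_top_of_mclosure_eq_top (Equiv.Perm.mclosure_swap_castSucc_succ 4)
    rw [MonoidHom.range_eq_map, ← htop, MonoidHom.map_closure]
    congr 1
    ext g
    constructor
    · rintro ⟨_, ⟨i, rfl⟩, rfl⟩
      rw [hφ i]
      fin_cases i <;> simp
    · rintro (rfl | rfl | rfl | rfl)
      · exact ⟨_, ⟨0, rfl⟩, hφ0⟩
      · exact ⟨_, ⟨1, rfl⟩, hφ1⟩
      · exact ⟨_, ⟨2, rfl⟩, hφ2⟩
      · exact ⟨_, ⟨3, rfl⟩, hφ3⟩
  -- injectivity
  have hinj : Function.Injective φ := by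
    rw [← MonoidHom.ker_eq_bot_iff]
    have hA : IsSimpleGroup (alternatingGroup (Fin 5)) := alternatingGroup.isSimpleGroup (by simp)
    have hN : (φ.ker.subgroupOf (alternatingGroup (Fin 5))).Normal := inferInstance
    rcases hN.eq_bot_or_eq_top with h | h
    · -- the kernel meets the alternating group trivially
      have hmeet : ∀ k ∈ φ.ker, Perm.sign k = 1 → k = 1 := by
        intro k hk hs
        have hkA : k ∈ alternatingGroup (Fin 5) := Perm.mem_alternatingGroup.mpr hs
        have : (⟨k, hkA⟩ : alternatingGroup (Fin 5)) ∈ φ.ker.subgroupOf (alternatingGroup (Fin 5)) :=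
          Subgroup.mem_subgroupOf.mpr hk
        rw [h, Subgroup.mem_bot] at this
        exact congrArg Subtype.val this
      rw [eq_bot_iff]
      intro k hk
      rw [Subgroup.mem_bot]
      apply central_eq_one
      intro g
      have hker : g * k * g⁻¹ * k⁻¹ ∈ φ.ker :=
        φ.ker.mul_mem ((MonoidHom.normal_ker φ).conj_mem k hk g) (φ.ker.inv_mem hk)
      have hsign : Perm.sign (g * k * g⁻¹ * k⁻¹) = 1 := by
        simp only [map_mul, map_inv]
        rw [mul_comm (Perm.sign g), mul_assoc, mul_assoc, mul_inv_cancel_left, mul_inv_cancel]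
      have h1 := hmeet _ hker hsign
      calc g * k = (g * k * g⁻¹ * k⁻¹) * (k * g) := by group
        _ = k * g := by rw [h1, one_mul]
    · -- the kernel contains the alternating group
      exfalso
      have hmem : swap (0 : Fin 5) 1 * swap 1 2 ∈ alternatingGroup (Fin 5) := by
        rw [Perm.mem_alternatingGroup]; decide
      have : (⟨_, hmem⟩ : alternatingGroup (Fin 5)) ∈ φ.ker.subgroupOf (alternatingGroup (Fin 5)) := by
        rw [h]; exact Subgroup.mem_top _
      have h1 : φ (swap (0 : Fin 5) 1 * swap 1 2) = 1 := Subgroup.mem_subgroupOf.mp this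
      rw [map_mul, hφ0, hφ1] at h1
      apply hne
      have hab' : a = b⁻¹ := eq_inv_of_mul_eq_one_left h1
      have hbinv : b⁻¹ = b := inv_eq_of_mul_eq_one_right hbb
      rw [hab', hbinv]
  exact ⟨((MonoidHom.ofInjective hinj).trans (MulEquiv.subgroupCongr hrange)).symm⟩

end Cfsg.Agent.H9.CoxA4
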