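import Mathlib

set_option autoImplicit false
set_option linter.unusedVariables false
set_option linter.unusedSectionVars false
set_option linter.style.haveILetI false

namespace Cfsg.Agent.H9.DCover

open Finset

abbrev K3 := ZMod 3

variable {ι : Type} [LinearOrder ι] [Fintype ι]

/-- toggle membership of `i` -/
def tog (i : ι) (S : Finset ι) : Finset ι := symmDiff S {i}

theorem tog_tog (i : ι) (S : Finset ι) : tog i (tog i S) = S :=
  symmDiff_symmDiff_cancel_right _ _

theorem tog_comm (i j : ι) (S : Finset ι) : tog i (tog j S) = tog j (tog i S) :=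
  symmDiff_right_comm _ _ _

theorem tog_of_mem {i : ι} {S : Finset ι} (h : i ∈ S) : tog i S = S.erase i := by
  ext x
  simp only [tog, Finset.mem_symmDiff, Finset.mem_singleton, Finset.mem_erase]
  constructor
  · rintro (⟨h1, h2⟩ | ⟨h1, h2⟩)
    · exact ⟨h2, h1⟩
    · exact absurd (h1 ▸ h) h2
  · rintro ⟨h1, h2⟩
    exact Or.inl ⟨h2, h1⟩

theorem tog_of_not_mem {i : ι} {S : Finset ι} (h : i ∉ S) : tog i S = insert i S := by
  ext x
  simp only [tog, Finset.mem_symmDiff, Finset.mem_singleton, Finset.mem_insert]
  constructor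
  · rintro (⟨h1, h2⟩ | ⟨h1, h2⟩)
    · exact Or.inr h1
    · exact Or.inl h1
  · rintro (h1 | h1)
    · exact Or.inr ⟨h1, h1 ▸ h⟩
    · refine Or.inl ⟨h1, fun hx => h (hx ▸ h1)⟩

theorem mem_tog_self_iff {i : ι} {S : Finset ι} : i ∈ tog i S ↔ i ∉ S := by
  by_cases h : i ∈ S
  · simp [tog_of_mem h, h]
  · simp [tog_of_not_mem h, h]

theorem tog_eq_iff {i : ι} {S T : Finset ι} : tog i T = S ↔ T = tog i S := by
  constructor
  · rintro rfl; exact (tog_tog _ _).symm
  · rintro rfl; exact tog_tog _ _

/-- the sign attached to a predicate -/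
def sg (p : ι → Prop) [DecidablePred p] (S : Finset ι) : K3 :=
  ∏ x ∈ S, if p x then (-1 : K3) else 1

theorem sg_empty (p : ι → Prop) [DecidablePred p] : sg p (∅ : Finset ι) = 1 := by
  simp [sg]

theorem sg_mul_self (p : ι → Prop) [DecidablePred p] (S : Finset ι) : sg p S * sg p S = 1 := by
  unfold sg
  rw [← Finset.prod_mul_distrib]
  apply Finset.prod_eq_one
  intro x _
  split_ifs <;> simp

theorem sg_tog (p : ι → Prop) [DecidablePred p] (j : ι) (S : Finset ι) :
    sg p (tog j S) = (if p j then (-1 : K3) else 1) * sg p S := by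
  have hc : (if p j then (-1 : K3) else 1) * (if p j then (-1 : K3) else 1) = 1 := by
    split_ifs <;> simp
  by_cases hj : j ∈ S
  · rw [tog_of_mem hj]
    have := Finset.mul_prod_erase S (fun x => if p x then (-1 : K3) else 1) hj
    unfold sg
    rw [← this, ← mul_assoc, hc, one_mul]
  · rw [tog_of_not_mem hj]
    unfold sg
    rw [Finset.prod_insert hj]

/-- the product of the three signs `<i`, `>i`, `all` -/
theorem sg_triple (i : ι) (S : Finset ι) :
    sg (fun x => x < i) S * sg (fun x => i < x) S * sg (fun _ => True) S =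
      if i ∈ S then (-1 : K3) else 1 := by
  unfold sg
  rw [← Finset.prod_mul_distrib, ← Finset.prod_mul_distrib, ← Finset.prod_ite_eq' S i (fun _ => (-1 : K3))]
  apply Finset.prod_congr rfl
  intro x _
  rcases lt_trichotomy x i with h | h | h
  · simp [h, h.ne, not_lt_of_gt h]
  · subst h; simp
  · simp [h, h.ne', not_lt_of_gt h]

/-- the vector space -/
abbrev VS (ι : Type) := Finset ι → K3

/-- monomial operator: toggle `i` with sign `sg p` -/
def mon (p : ι → Prop) [DecidablePred p] (i : ι) : Module.End K3 (VS ι) where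
  toFun f := fun S => sg p S * f (tog i S)
  map_add' f g := by ext S; simp [mul_add]
  map_smul' c f := by ext S; simp [mul_left_comm]

@[simp] theorem mon_apply (p : ι → Prop) [DecidablePred p] (i : ι) (f : VS ι) (S : Finset ι) :
    mon p i f S = sg p S * f (tog i S) := rfl

/-- left generators -/
def gam (i : ι) : Module.End K3 (VS ι) := mon (fun x => x < i) i
/-- right generators -/
def rho (i : ι) : Module.End K3 (VS ι) := mon (fun x => i < x) i
/-- grading -/
def eps : Module.End K3 (VS ι) where
  toFun f := fun S => sg (fun _ => True) S * f S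
  map_add' f g := by ext S; simp [mul_add]
  map_smul' c f := by ext S; simp [mul_left_comm]

@[simp] theorem eps_apply (f : VS ι) (S : Finset ι) :
    eps f S = sg (fun _ => True) S * f S := rfl

theorem gam_sq (i : ι) : gam i * gam i = 1 := by
  apply LinearMap.ext; intro f; ext S
  simp only [gam, Module.End.mul_apply, mon_apply, sg_tog, lt_irrefl, if_false, one_mul, tog_tog,
    Module.End.one_apply]
  rw [← mul_assoc, sg_mul_self, one_mul]

theorem gam_anti {i j : ι} (h : i ≠ j) : gam i * gam j = - (gam j * gam i) := by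
  apply LinearMap.ext; intro f; ext S
  simp only [gam, Module.End.mul_apply, mon_apply, sg_tog, LinearMap.neg_apply, Pi.neg_apply]
  rw [tog_comm j i S]
  rcases lt_or_gt_of_ne h with h1 | h1
  · simp only [h1, not_lt_of_gt h1, if_true, if_false]; ring
  · simp only [h1, not_lt_of_gt h1, if_true, if_false]; ring

theorem gam_rho (i j : ι) : gam i * rho j = rho j * gam i := by
  apply LinearMap.ext; intro f; ext S
  simp only [gam, rho, Module.End.mul_apply, mon_apply, sg_tog]
  rw [tog_comm j i S]
  ring

theorem eps_gam (i : ι) : eps * gam i = - (gam i * eps) := by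
  apply LinearMap.ext; intro f; ext S
  simp only [gam, Module.End.mul_apply, mon_apply, eps_apply, sg_tog, LinearMap.neg_apply,
    Pi.neg_apply, if_true]
  ring

/-- basis vectors -/
def dl (S : Finset ι) : VS ι := Pi.single S 1

theorem mon_dl (p : ι → Prop) [DecidablePred p] (i : ι) (S : Finset ι) :
    mon p i (dl S) = sg p (tog i S) • dl (tog i S) := by
  ext T
  simp only [mon_apply, dl, Pi.smul_apply, smul_eq_mul, Pi.single_apply]
  by_cases h : T = tog i S
  · subst h; simp [tog_tog]
  · have : ¬ tog i T = S := fun h' => h (tog_eq_iff.mp h')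
    simp [h, this]

theorem gam_dl_empty (i : ι) : gam i (dl (∅ : Finset ι)) = rho i (dl ∅) := by
  simp only [gam, rho, mon_dl, sg_tog, sg_empty, lt_irrefl, if_false]

theorem eps_dl_empty : eps (dl (∅ : Finset ι)) = dl ∅ := by
  ext T
  simp only [eps_apply, dl, Pi.single_apply]
  by_cases h : T = ∅
  · subst h; simp [sg_empty]
  · simp [h]

end Cfsg.Agent.H9.DCover
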