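import Mathlib
import Cfsg.Agent.H9.DCoverA

set_option autoImplicit false
set_option linter.unusedVariables false
set_option linter.unusedSectionVars false
set_option linter.style.haveILetI false

namespace Cfsg.Agent.H9.DCover

open Finset

variable {ι : Type} [LinearOrder ι] [Fintype ι]

theorem two_smul_eq_zero_K3 {a : K3} (h : -a = a) : a = 0 := by
  have h3 : (3 : K3) = 0 := by decide
  have : (2 : K3) * a = 0 := by linear_combination -h
  have h2 : (2 : K3) * 2 = 1 := by decide
  calc a = (2 * 2) * a := by rw [h2, one_mul]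
    _ = 2 * (2 * a) := by ring
    _ = 0 := by rw [this, mul_zero]

/-- an operator commuting with all `gam`, `rho` and `eps` is a scalar -/
theorem scalar_of_commute (g : Module.End K3 (VS ι))
    (hγ : ∀ m, g * gam m = gam m * g) (hρ : ∀ m, g * rho m = rho m * g)
    (hε : g * eps = eps * g) : ∃ c : K3, g = c • (1 : Module.End K3 (VS ι)) := by
  set w : VS ι := g (dl ∅) with hw
  have h1 : ∀ i, gam i w = rho i w := by
    intro i
    calc gam i w = (gam i * g) (dl ∅) := rfl
      _ = (g * gam i) (dl ∅) := by rw [hγ]
      _ = g (gam i (dl ∅)) := rfl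
      _ = g (rho i (dl ∅)) := by rw [gam_dl_empty]
      _ = (g * rho i) (dl ∅) := rfl
      _ = (rho i * g) (dl ∅) := by rw [hρ]
      _ = rho i w := rfl
  have h2 : eps w = w := by
    calc eps w = ((eps : Module.End K3 (VS ι)) * g) (dl ∅) := rfl
      _ = (g * (eps : Module.End K3 (VS ι))) (dl ∅) := by rw [hε]
      _ = g (eps (dl ∅)) := rfl
      _ = w := by rw [eps_dl_empty]
  have h3 : ∀ T : Finset ι, T ≠ ∅ → w T = 0 := by
    intro T hT
    obtain ⟨i, hi⟩ := Finset.nonempty_iff_ne_empty.mpr hT
    have e1 := congrFun (h1 i) (tog i T)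
    simp only [gam, rho, mon_apply, sg_tog, lt_irrefl, if_false, one_mul, tog_tog] at e1
    have e2 := congrFun h2 T
    simp only [eps_apply] at e2
    have e3 := sg_triple i T
    rw [if_pos hi] at e3
    set s := sg (fun x => x < i) T
    set t := sg (fun x => i < x) T
    set e := sg (fun _ : ι => True) T
    have hss : s * s = 1 := sg_mul_self _ _
    apply two_smul_eq_zero_K3
    calc - w T = (s * t * e) * w T := by rw [e3]; ring
      _ = s * t * (e * w T) := by ring
      _ = s * (t * w T) := by rw [e2]; ring
      _ = s * (s * w T) := by rw [e1]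
      _ = (s * s) * w T := by ring
      _ = w T := by rw [hss, one_mul]
  refine ⟨w ∅, ?_⟩
  have h4 : w = w ∅ • dl ∅ := by
    ext T
    by_cases hT : T = ∅
    · subst hT; simp [dl]
    · rw [h3 T hT]; simp [dl, hT]
  have h5 : ∀ S : Finset ι, g (dl S) = w ∅ • dl S := by
    intro S
    induction S using Finset.induction_on with
    | empty => exact h4
    | insert a S ha ih =>
      rw [← tog_of_not_mem ha]
      have hr : rho a (dl S) = sg (fun x => a < x) (tog a S) • dl (tog a S) := mon_dl _ _ _
      set t := sg (fun x => a < x) (tog a S)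
      have htt : t * t = 1 := sg_mul_self _ _
      have hd : dl (tog a S) = t • rho a (dl S) := by
        rw [hr, smul_smul, htt, one_smul]
      calc g (dl (tog a S)) = t • g (rho a (dl S)) := by rw [hd, map_smul]
        _ = t • (g * rho a) (dl S) := rfl
        _ = t • (rho a * g) (dl S) := by rw [hρ]
        _ = t • rho a (g (dl S)) := rfl
        _ = t • rho a (w ∅ • dl S) := by rw [ih]
        _ = w ∅ • (t • rho a (dl S)) := by rw [map_smul, smul_comm]
        _ = w ∅ • dl (tog a S) := by rw [← hd]
  apply LinearMap.pi_ext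
  intro S x
  have : (Pi.single S x : VS ι) = x • dl S := by
    ext T
    simp only [dl, Pi.smul_apply, smul_eq_mul, Pi.single_apply]
    split_ifs <;> simp
  rw [this, map_smul, h5, map_smul]
  simp

theorem dl_ne_zero (S : Finset ι) : dl S ≠ (0 : VS ι) := by
  intro h
  have := congrFun h S
  simp [dl] at this

/-- a unit commuting with everything is `±1` -/
theorem unit_eq_one_or_neg_one (g : (Module.End K3 (VS ι))ˣ)
    (hγ : ∀ m, (g : Module.End K3 (VS ι)) * gam m = gam m * (g : Module.End K3 (VS ι)))
    (hρ : ∀ m, (g : Module.End K3 (VS ι)) * rho m = rho m * (g : Module.End K3 (VS ι)))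
    (hε : (g : Module.End K3 (VS ι)) * eps = eps * (g : Module.End K3 (VS ι))) : g = 1 ∨ g = -1 := by
  obtain ⟨c, hc⟩ := scalar_of_commute (g : Module.End K3 (VS ι)) hγ hρ hε
  have hc0 : c ≠ 0 := by
    rintro rfl
    rw [zero_smul] at hc
    have h1 : ((g⁻¹ : (Module.End K3 (VS ι))ˣ) : Module.End K3 (VS ι)) * g = 1 := by simp
    rw [hc, mul_zero] at h1
    have := congrArg (fun f : Module.End K3 (VS ι) => f (dl ∅)) h1
    simp only [LinearMap.zero_apply, Module.End.one_apply] at this
    exact dl_ne_zero _ this.symm
  have hcc : c = 1 ∨ c = -1 := by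
    have : ∀ c : K3, c ≠ 0 → c = 1 ∨ c = -1 := by decide
    exact this c hc0
  rcases hcc with rfl | rfl
  · left; apply Units.ext; rw [hc]; simp
  · right; apply Units.ext; rw [hc, Units.val_neg, Units.val_one]
    apply LinearMap.ext; intro f; ext S
    simp

end Cfsg.Agent.H9.DCover
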