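import Mathlib
import Cfsg.Agent.H9.DCoverB

set_option autoImplicit false
set_option linter.unusedVariables false
set_option linter.unusedSectionVars false
set_option linter.style.haveILetI false

namespace Cfsg.Agent.H9.DCover

open Finset Equiv

variable {ι : Type} [LinearOrder ι] [Fintype ι]

theorem ring_aux1 {R : Type*} [Ring R] (a b : R) (ha : a*a = 1) (hb : b*b = 1) (hab : a*b = -(b*a)) :
    (a-b)*(b-a) = -1 - 1 := by
  have : (a-b)*(b-a) = a*b - a*a - b*b + b*a := by noncomm_ring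
  rw [this, ha, hb, hab]; abel

theorem ring_aux2 {R : Type*} [Ring R] (a b : R) (ha : a*a = 1) (hb : b*b = 1) (hab : a*b = -(b*a)) :
    (a-b)*(a-b) = 1 + 1 := by
  have : (a-b)*(a-b) = a*a - a*b - b*a + b*b := by noncomm_ring
  rw [this, ha, hb, hab]; abel

-- (gi - gj) gi = -(gj (gi - gj))
theorem ring_aux3 {R : Type*} [Ring R] (a b : R) (ha : a*a = 1) (hb : b*b = 1) :
    (a-b)*a = -(b*(a-b)) := by
  have e1 : (a-b)*a = a*a - b*a := by noncomm_ring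
  have e2 : -(b*(a-b)) = b*b - b*a := by noncomm_ring
  rw [e1, e2, ha, hb]

theorem ring_aux4 {R : Type*} [Ring R] (a b : R) (ha : a*a = 1) (hb : b*b = 1) :
    (a-b)*b = -(a*(a-b)) := by
  have e1 : (a-b)*b = a*b - b*b := by noncomm_ring
  have e2 : -(a*(a-b)) = a*b - a*a := by noncomm_ring
  rw [e1, e2, ha, hb]

theorem ring_aux5 {R : Type*} [Ring R] (a b c : R) (hac : c*a = -(a*c)) (hbc : c*b = -(b*c)) :
    (a-b)*c = -(c*(a-b)) := by
  have e1 : (a-b)*c = a*c - b*c := by noncomm_ring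
  have e2 : -(c*(a-b)) = -(c*a) - -(c*b) := by noncomm_ring
  rw [e1, e2, hac, hbc]; abel

theorem ring_aux6 {R : Type*} [Ring R] (a b e : R) (ha : e*a = -(a*e)) (hb : e*b = -(b*e)) :
    (a-b)*e = -(e*(a-b)) := by
  have e2 : -(e*(a-b)) = -(e*a) - -(e*b) := by noncomm_ring
  rw [e2, ha, hb]; noncomm_ring

-- (c - d)(a - b) = -(a-b)(c-d)
theorem ring_aux7 {R : Type*} [Ring R] (a b c d : R) (hac : c*a = -(a*c)) (hbc : c*b = -(b*c))
    (had : d*a = -(a*d)) (hbd : d*b = -(b*d)) :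
    (c-d)*(a-b) = -((a-b)*(c-d)) := by
  have e1 : (c-d)*(a-b) = c*a - c*b - d*a + d*b := by noncomm_ring
  rw [e1, hac, hbc, had, hbd]; noncomm_ring

abbrev EE (ι : Type) := Module.End K3 (VS ι)

theorem neg_one_smul_EE (x : EE ι) : (-1 : K3) • x = -x := by
  apply LinearMap.ext; intro f; ext S
  simp

theorem three_EE : (1 : EE ι) + 1 + 1 = 0 := by
  have := ZModModule.char_nsmul_eq_zero 3 (1 : EE ι)
  rw [succ_nsmul, succ_nsmul, one_nsmul] at this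
  exact this

theorem neg_one_sub_one_EE : (-1 : EE ι) - 1 = 1 := by
  calc (-1 : EE ι) - 1 = 1 - (1 + 1 + 1) := by abel
    _ = 1 := by rw [three_EE, sub_zero]

theorem one_add_one_EE : (1 : EE ι) + 1 = -1 := by
  calc (1 : EE ι) + 1 = (1 + 1 + 1) - 1 := by abel
    _ = -1 := by rw [three_EE, zero_sub]

theorem uu_aux {i j : ι} (h : i ≠ j) : (gam i - gam j) * (gam j - gam i) = (1 : EE ι) := by
  rw [ring_aux1 _ _ (gam_sq i) (gam_sq j) (gam_anti h)]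
  exact neg_one_sub_one_EE

/-- the unit `gam i - gam j` -/
def uu (i j : ι) (h : i ≠ j) : (EE ι)ˣ where
  val := gam i - gam j
  inv := gam j - gam i
  val_inv := uu_aux h
  inv_val := uu_aux h.symm

@[simp] theorem uu_val (i j : ι) (h : i ≠ j) : ((uu i j h : (EE ι)ˣ) : EE ι) = gam i - gam j := rfl

theorem uu_sq (i j : ι) (h : i ≠ j) : uu i j h * uu i j h = -1 := by
  apply Units.ext
  rw [Units.val_mul, uu_val, Units.val_neg, Units.val_one,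
    ring_aux2 _ _ (gam_sq i) (gam_sq j) (gam_anti h)]
  exact one_add_one_EE

/-- sign as an element of `K3` -/
def sgnK (σ : Perm ι) : K3 := ((Perm.sign σ : ℤˣ) : ℤ)

theorem sgnK_one : sgnK (1 : Perm ι) = 1 := by simp [sgnK]
theorem sgnK_mul (σ τ : Perm ι) : sgnK (σ * τ) = sgnK σ * sgnK τ := by simp [sgnK]
theorem sgnK_inv (σ : Perm ι) : sgnK σ⁻¹ = sgnK σ := by simp [sgnK]
theorem sgnK_swap {i j : ι} (h : i ≠ j) : sgnK (swap i j) = -1 := by
  simp [sgnK, Perm.sign_swap h]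
theorem sgnK_mul_self (σ : Perm ι) : sgnK σ * sgnK σ = 1 := by
  unfold sgnK
  rcases Int.units_eq_one_or (Perm.sign σ) with h | h <;> simp [h]

/-- the invariant -/
def Inv (p : (EE ι)ˣ × Perm ι) : Prop :=
  (∀ m, (p.1 : EE ι) * gam m = sgnK p.2 • (gam (p.2 m) * (p.1 : EE ι))) ∧
  (∀ m, (p.1 : EE ι) * rho m = rho m * (p.1 : EE ι)) ∧
  ((p.1 : EE ι) * eps = sgnK p.2 • (eps * (p.1 : EE ι)))

theorem inv_one : Inv (1 : (EE ι)ˣ × Perm ι) := by
  refine ⟨fun m => ?_, fun m => ?_, ?_⟩ <;> simp [sgnK_one]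

theorem inv_mul {p q : (EE ι)ˣ × Perm ι} (hp : Inv p) (hq : Inv q) : Inv (p * q) := by
  obtain ⟨p1, p2, p3⟩ := hp
  obtain ⟨q1, q2, q3⟩ := hq
  refine ⟨fun m => ?_, fun m => ?_, ?_⟩
  · simp only [Prod.fst_mul, Prod.snd_mul, Units.val_mul, Perm.mul_apply, sgnK_mul]
    rw [mul_assoc, q1 m, mul_smul_comm, ← mul_assoc, p1 (q.2 m), smul_mul_assoc, smul_smul,
      mul_assoc, mul_comm]
  · simp only [Prod.fst_mul, Units.val_mul]
    rw [mul_assoc, q2 m, ← mul_assoc, p2 m, mul_assoc]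
  · simp only [Prod.fst_mul, Prod.snd_mul, Units.val_mul, sgnK_mul]
    rw [mul_assoc, q3, mul_smul_comm, ← mul_assoc, p3, smul_mul_assoc, smul_smul, mul_assoc, mul_comm]

theorem inv_inv {p : (EE ι)ˣ × Perm ι} (hp : Inv p) : Inv p⁻¹ := by
  obtain ⟨p1, p2, p3⟩ := hp
  have hs := sgnK_mul_self p.2
  have hu1 : ((p.1⁻¹ : (EE ι)ˣ) : EE ι) * (p.1 : EE ι) = 1 := by simp
  have hu2 : (p.1 : EE ι) * ((p.1⁻¹ : (EE ι)ˣ) : EE ι) = 1 := by simp
  refine ⟨fun m => ?_, fun m => ?_, ?_⟩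
  · simp only [Prod.fst_inv, Prod.snd_inv, sgnK_inv]
    have h := p1 (p.2⁻¹ m)
    rw [show p.2 (p.2⁻¹ m) = m from by simp] at h
    -- h : p * gam (σ⁻¹ m) = s • (gam m * p)
    have h' : gam (p.2⁻¹ m) * ((p.1⁻¹ : (EE ι)ˣ) : EE ι)
        = sgnK p.2 • (((p.1⁻¹ : (EE ι)ˣ) : EE ι) * gam m) := by
      calc gam (p.2⁻¹ m) * ((p.1⁻¹ : (EE ι)ˣ) : EE ι)
          = (((p.1⁻¹ : (EE ι)ˣ) : EE ι) * (p.1 : EE ι)) * gam (p.2⁻¹ m)
              * ((p.1⁻¹ : (EE ι)ˣ) : EE ι) := by rw [hu1, one_mul]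
        _ = ((p.1⁻¹ : (EE ι)ˣ) : EE ι) * ((p.1 : EE ι) * gam (p.2⁻¹ m))
              * ((p.1⁻¹ : (EE ι)ˣ) : EE ι) := by noncomm_ring
        _ = sgnK p.2 • (((p.1⁻¹ : (EE ι)ˣ) : EE ι) * gam m
              * ((p.1 : EE ι) * ((p.1⁻¹ : (EE ι)ˣ) : EE ι))) := by
            rw [h]; simp only [mul_smul_comm, smul_mul_assoc, mul_assoc]
        _ = _ := by rw [hu2, mul_one]
    rw [h', smul_smul, hs, one_smul]
  · simp only [Prod.fst_inv]
    calc ((p.1⁻¹ : (EE ι)ˣ) : EE ι) * rho m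
        = ((p.1⁻¹ : (EE ι)ˣ) : EE ι) * rho m * ((p.1 : EE ι) * ((p.1⁻¹ : (EE ι)ˣ) : EE ι)) := by
          rw [hu2, mul_one]
      _ = ((p.1⁻¹ : (EE ι)ˣ) : EE ι) * (rho m * (p.1 : EE ι)) * ((p.1⁻¹ : (EE ι)ˣ) : EE ι) := by
          noncomm_ring
      _ = (((p.1⁻¹ : (EE ι)ˣ) : EE ι) * (p.1 : EE ι)) * rho m * ((p.1⁻¹ : (EE ι)ˣ) : EE ι) := by
          rw [← p2 m]; noncomm_ring
      _ = _ := by rw [hu1, one_mul]
  · simp only [Prod.fst_inv, Prod.snd_inv, sgnK_inv]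
    have h' : eps * ((p.1⁻¹ : (EE ι)ˣ) : EE ι)
        = sgnK p.2 • (((p.1⁻¹ : (EE ι)ˣ) : EE ι) * eps) := by
      calc eps * ((p.1⁻¹ : (EE ι)ˣ) : EE ι)
          = (((p.1⁻¹ : (EE ι)ˣ) : EE ι) * (p.1 : EE ι)) * eps
              * ((p.1⁻¹ : (EE ι)ˣ) : EE ι) := by rw [hu1, one_mul]
        _ = ((p.1⁻¹ : (EE ι)ˣ) : EE ι) * ((p.1 : EE ι) * eps)
              * ((p.1⁻¹ : (EE ι)ˣ) : EE ι) := by noncomm_ring
        _ = sgnK p.2 • (((p.1⁻¹ : (EE ι)ˣ) : EE ι) * eps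
              * ((p.1 : EE ι) * ((p.1⁻¹ : (EE ι)ˣ) : EE ι))) := by
            rw [p3]; simp only [mul_smul_comm, smul_mul_assoc, mul_assoc]
        _ = _ := by rw [hu2, mul_one]
    rw [h', smul_smul, hs, one_smul]

theorem inv_gen {i j : ι} (h : i ≠ j) : Inv (uu i j h, swap i j) := by
  refine ⟨fun m => ?_, fun m => ?_, ?_⟩
  · simp only [uu_val, sgnK_swap h, neg_one_smul_EE]
    by_cases hmi : m = i
    · subst hmi
      rw [swap_apply_left]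
      exact ring_aux3 _ _ (gam_sq m) (gam_sq j)
    · by_cases hmj : m = j
      · subst hmj
        rw [swap_apply_right]
        exact ring_aux4 _ _ (gam_sq i) (gam_sq m)
      · rw [swap_apply_of_ne_of_ne hmi hmj]
        exact ring_aux5 _ _ _ (gam_anti hmi) (gam_anti hmj)
  · simp only [uu_val]
    rw [sub_mul, mul_sub, gam_rho, gam_rho]
  · simp only [uu_val, sgnK_swap h, neg_one_smul_EE]
    exact ring_aux6 _ _ _ (eps_gam i) (eps_gam j)

/-- the generating set -/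
def gens (ι : Type) [LinearOrder ι] [Fintype ι] : Set ((EE ι)ˣ × Perm ι) :=
  {p | ∃ i j, ∃ h : i ≠ j, p = (uu i j h, swap i j)}

/-- the Pin-like group -/
def G0 (ι : Type) [LinearOrder ι] [Fintype ι] : Subgroup ((EE ι)ˣ × Perm ι) :=
  Subgroup.closure (gens ι)

theorem inv_of_mem {p : (EE ι)ˣ × Perm ι} (hp : p ∈ G0 ι) : Inv p := by
  induction hp using Subgroup.closure_induction with
  | mem x hx =>
    obtain ⟨i, j, h, rfl⟩ := hx
    exact inv_gen h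
  | one => exact inv_one
  | mul x y _ _ hx hy => exact inv_mul hx hy
  | inv x _ hx => exact inv_inv hx

theorem gen_mem {i j : ι} (h : i ≠ j) : (uu i j h, swap i j) ∈ G0 ι :=
  Subgroup.subset_closure ⟨i, j, h, rfl⟩

theorem ker_G0 {g : (EE ι)ˣ} (hg : (g, (1 : Perm ι)) ∈ G0 ι) : g = 1 ∨ g = -1 := by
  obtain ⟨h1, h2, h3⟩ := inv_of_mem hg
  simp only [sgnK_one, one_smul, Perm.coe_one, id_eq] at h1 h3
  exact unit_eq_one_or_neg_one g h1 h2 h3

theorem surj_G0 (σ : Perm ι) : ∃ g : (EE ι)ˣ, (g, σ) ∈ G0 ι := by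
  have h1 : Subgroup.map (MonoidHom.snd (EE ι)ˣ (Perm ι)) (G0 ι) = ⊤ := by
    rw [G0, MonoidHom.map_closure]
    rw [← Perm.closure_isSwap]
    congr 1
    ext σ
    constructor
    · rintro ⟨p, ⟨i, j, h, rfl⟩, rfl⟩
      exact ⟨i, j, h, rfl⟩
    · rintro ⟨i, j, h, rfl⟩
      exact ⟨(uu i j h, swap i j), ⟨i, j, h, rfl⟩, rfl⟩
  have : σ ∈ Subgroup.map (MonoidHom.snd (EE ι)ˣ (Perm ι)) (G0 ι) := by rw [h1]; trivial
  obtain ⟨p, hp, rfl⟩ := this
  exact ⟨p.1, hp⟩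

end Cfsg.Agent.H9.DCover
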