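import Mathlib
import Cfsg.Agent.H9.DCoverC

set_option autoImplicit false
set_option linter.unusedVariables false
set_option linter.unusedSectionVars false
set_option linter.style.haveILetI false

namespace Cfsg.Agent.H9.DCover

open Finset Equiv
open scoped commutatorElement

theorem ring_aux8 {R : Type*} [Ring R] (Y A B : R) (k1 : Y * A = B * Y) (k2 : Y * B = A * Y)
    (k3 : B * A = -(A * B)) : Y * (A * B) = -1 * ((A * B) * Y) := by
  calc Y * (A*B) = (Y*A)*B := by rw [mul_assoc]
    _ = B * (Y * B) := by rw [k1, mul_assoc]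
    _ = (B * A) * Y := by rw [k2, mul_assoc]
    _ = -1 * ((A*B)*Y) := by rw [k3]; noncomm_ring

theorem units_neg_one_comm {R : Type*} [Ring R] (u : Rˣ) : u * -1 = -1 * u := by
  rw [mul_neg, neg_mul, mul_one, one_mul]

theorem units_neg_one_sq {R : Type*} [Ring R] : (-1 : Rˣ) ^ 2 = 1 := by
  rw [pow_two, neg_mul_neg, one_mul]

variable {ι : Type} [LinearOrder ι] [Fintype ι]

instance finite_EE : Finite (EE ι) :=
  Finite.of_injective (fun f : EE ι => (f : VS ι → VS ι)) DFunLike.coe_injective

instance finite_EEu : Finite (EE ι)ˣ :=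
  Finite.of_injective (fun u : (EE ι)ˣ => (u : EE ι)) Units.val_injective

/-- the double cover of the alternating group -/
def Gs (ι : Type) [LinearOrder ι] [Fintype ι] : Subgroup ((EE ι)ˣ × Perm ι) :=
  G0 ι ⊓ (alternatingGroup ι).comap (MonoidHom.snd (EE ι)ˣ (Perm ι))

/-- projection to the alternating group -/
def psi (ι : Type) [LinearOrder ι] [Fintype ι] : ↥(Gs ι) →* ↥(alternatingGroup ι) :=
  ((MonoidHom.snd (EE ι)ˣ (Perm ι)).comp (Gs ι).subtype).codRestrict _ (fun x => x.2.2)

theorem psi_apply (x : ↥(Gs ι)) : ((psi ι x : alternatingGroup ι) : Perm ι) = x.1.2 := rfl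

theorem psi_surj : Function.Surjective (psi ι) := by
  rintro ⟨σ, hσ⟩
  obtain ⟨g, hg⟩ := surj_G0 σ
  exact ⟨⟨(g, σ), ⟨hg, hσ⟩⟩, Subtype.ext rfl⟩

theorem neg_one_ne_one_EEu : (-1 : (EE ι)ˣ) ≠ 1 := by
  intro h
  have h1 := congrArg (fun u : (EE ι)ˣ => (u : EE ι) (dl ∅) ∅) h
  simp [dl] at h1
  have h2 : ¬ ((-1 : K3) = 1) := by decide
  exact h2 h1

theorem neg_one_mem_G0 {a b : ι} (h : a ≠ b) : ((-1 : (EE ι)ˣ), (1 : Perm ι)) ∈ G0 ι := by
  have := (G0 ι).mul_mem (gen_mem h) (gen_mem h)
  rwa [Prod.mk_mul_mk, uu_sq, swap_mul_self] at this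

theorem swap_pair_apply {a b c d : ι} (hab : a ≠ b) (hac : a ≠ c) (had : a ≠ d) (hbc : b ≠ c)
    (hbd : b ≠ d) (hcd : c ≠ d) :
    (swap a c * swap b d) a = c ∧ (swap a c * swap b d) b = d ∧ (swap a c * swap b d) c = a ∧
      (swap a c * swap b d) d = b := by
  refine ⟨?_, ?_, ?_, ?_⟩
  · rw [Perm.mul_apply, swap_apply_of_ne_of_ne hab had, swap_apply_left]
  · rw [Perm.mul_apply, swap_apply_left, swap_apply_of_ne_of_ne had.symm hcd.symm]
  · rw [Perm.mul_apply, swap_apply_of_ne_of_ne hbc.symm hcd, swap_apply_right]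
  · rw [Perm.mul_apply, swap_apply_right, swap_apply_of_ne_of_ne hab.symm hbc]

theorem swap_pair_comm {a b c d : ι} (hab : a ≠ b) (hac : a ≠ c) (had : a ≠ d) (hbc : b ≠ c)
    (hbd : b ≠ d) (hcd : c ≠ d) :
    (swap a c * swap b d) * (swap a b * swap c d) = (swap a b * swap c d) * (swap a c * swap b d) := by
  obtain ⟨h1, h2, h3, h4⟩ := swap_pair_apply hab hac had hbc hbd hcd
  set τ := swap a c * swap b d
  have e1 : τ * swap a b * τ⁻¹ = swap c d := by rw [← swap_apply_apply, h1, h2]
  have e2 : τ * swap c d * τ⁻¹ = swap a b := by rw [← swap_apply_apply, h3, h4]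
  have e3 : swap c d * swap a b = swap a b * swap c d := by
    ext x
    simp only [Perm.mul_apply]
    by_cases hxa : x = a
    · subst hxa
      rw [swap_apply_left, swap_apply_of_ne_of_ne hac had, swap_apply_of_ne_of_ne hbc hbd,
        swap_apply_left]
    · by_cases hxb : x = b
      · subst hxb
        rw [swap_apply_right, swap_apply_of_ne_of_ne hbc hbd, swap_apply_of_ne_of_ne hac had,
          swap_apply_right]
      · rw [swap_apply_of_ne_of_ne hxa hxb]
        by_cases hxc : x = c
        · subst hxc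
          rw [swap_apply_left, swap_apply_of_ne_of_ne had.symm hbd.symm]
        · by_cases hxd : x = d
          · subst hxd
            rw [swap_apply_right, swap_apply_of_ne_of_ne hac.symm hbc.symm]
          · rw [swap_apply_of_ne_of_ne hxc hxd, swap_apply_of_ne_of_ne hxa hxb]
  calc τ * (swap a b * swap c d) = (τ * swap a b * τ⁻¹) * (τ * swap c d * τ⁻¹) * τ := by group
    _ = swap c d * swap a b * τ := by rw [e1, e2]
    _ = swap a b * swap c d * τ := by rw [e3]

theorem main (a b c d : ι) (hab : a ≠ b) (hac : a ≠ c) (had : a ≠ d) (hbc : b ≠ c)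
    (hbd : b ≠ d) (hcd : c ≠ d) :
    ∃ (z : ↥(Gs ι)) (hz : z ∈ Subgroup.center ↥(Gs ι)), orderOf z = 2 ∧ z ∈ commutator ↥(Gs ι) ∧
      ∃ _ : (Subgroup.zpowers z).Normal,
        Nonempty (↥(Gs ι) ⧸ Subgroup.zpowers z ≃* alternatingGroup ι) := by
  have hzmem : ((-1 : (EE ι)ˣ), (1 : Perm ι)) ∈ Gs ι :=
    Subgroup.mem_inf.mpr ⟨neg_one_mem_G0 hab, Subgroup.mem_comap.mpr (alternatingGroup ι).one_mem⟩
  set z : ↥(Gs ι) := ⟨((-1 : (EE ι)ˣ), (1 : Perm ι)), hzmem⟩ with hzdef
  have hzc : z ∈ Subgroup.center ↥(Gs ι) := by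
    rw [Subgroup.mem_center_iff]
    intro g
    apply Subtype.ext
    apply Prod.ext
    · exact units_neg_one_comm _
    · simp [hzdef]
  have hz2 : z ^ 2 = 1 := by
    apply Subtype.ext
    apply Prod.ext
    · exact units_neg_one_sq
    · simp [hzdef]
  have hz1 : z ≠ 1 := by
    intro h
    have := congrArg (fun x : ↥(Gs ι) => x.1.1) h
    exact neg_one_ne_one_EEu this
  have hord : orderOf z = 2 := by
    haveI : Fact (Nat.Prime 2) := ⟨Nat.prime_two⟩
    exact orderOf_eq_prime hz2 hz1
  -- kernel of psi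
  have hker : (psi ι).ker = Subgroup.zpowers z := by
    apply le_antisymm
    · intro x hx
      rw [MonoidHom.mem_ker] at hx
      have hx2 : x.1.2 = 1 := by
        have := congrArg (fun y : alternatingGroup ι => (y : Perm ι)) hx
        simpa [psi_apply] using this
      have hxG : (x.1.1, (1 : Perm ι)) ∈ G0 ι := by
        have := x.2.1
        rw [← hx2]; exact this
      rcases ker_G0 hxG with h | h
      · have : x = 1 := by
          apply Subtype.ext; apply Prod.ext
          · exact h
          · exact hx2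
        rw [this]; exact Subgroup.one_mem _
      · have : x = z := by
          apply Subtype.ext; apply Prod.ext
          · exact h
          · exact hx2
        rw [this]; exact Subgroup.mem_zpowers z
    · rw [Subgroup.zpowers_le, MonoidHom.mem_ker]
      apply Subtype.ext
      rfl
  -- commutator
  have hxm : (uu a b hab * uu c d hcd, swap a b * swap c d) ∈ Gs ι := by
    refine Subgroup.mem_inf.mpr ⟨?_, Subgroup.mem_comap.mpr ?_⟩
    · have := (G0 ι).mul_mem (gen_mem hab) (gen_mem hcd)
      rwa [Prod.mk_mul_mk] at this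
    · show swap a b * swap c d ∈ alternatingGroup ι
      rw [Perm.mem_alternatingGroup, Perm.sign_mul, Perm.sign_swap hab, Perm.sign_swap hcd]
      rfl
  have hym : (uu a c hac * uu b d hbd, swap a c * swap b d) ∈ Gs ι := by
    refine Subgroup.mem_inf.mpr ⟨?_, Subgroup.mem_comap.mpr ?_⟩
    · have := (G0 ι).mul_mem (gen_mem hac) (gen_mem hbd)
      rwa [Prod.mk_mul_mk] at this
    · show swap a c * swap b d ∈ alternatingGroup ι
      rw [Perm.mem_alternatingGroup, Perm.sign_mul, Perm.sign_swap hac, Perm.sign_swap hbd]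
      rfl
  set x : ↥(Gs ι) := ⟨_, hxm⟩ with hxdef
  set y : ↥(Gs ι) := ⟨_, hym⟩ with hydef
  have hyx : y * x = z * (x * y) := by
    apply Subtype.ext
    apply Prod.ext
    · -- units
      show (uu a c hac * uu b d hbd) * (uu a b hab * uu c d hcd)
        = -1 * ((uu a b hab * uu c d hcd) * (uu a c hac * uu b d hbd))
      apply Units.ext
      obtain ⟨i1, _, _⟩ := inv_of_mem hym.1
      obtain ⟨h1, h2, h3, h4⟩ := swap_pair_apply hab hac had hbc hbd hcd
      have hs : sgnK (swap a c * swap b d) = 1 := by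
        rw [sgnK_mul, sgnK_swap hac, sgnK_swap hbd]; decide
      simp only [hs, one_smul] at i1
      set Y : EE ι := ((uu a c hac * uu b d hbd : (EE ι)ˣ) : EE ι) with hY
      have ia := i1 a; have ib := i1 b; have ic := i1 c; have id' := i1 d
      rw [h1] at ia; rw [h2] at ib; rw [h3] at ic; rw [h4] at id'
      have k1 : Y * (gam a - gam b) = (gam c - gam d) * Y := by
        rw [mul_sub, sub_mul, ia, ib]
      have k2 : Y * (gam c - gam d) = (gam a - gam b) * Y := by
        rw [mul_sub, sub_mul, ic, id']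
      have k3 : (gam c - gam d) * (gam a - gam b) = -((gam a - gam b) * (gam c - gam d)) :=
        ring_aux7 _ _ _ _ (gam_anti hac.symm) (gam_anti hbc.symm) (gam_anti had.symm)
          (gam_anti hbd.symm)
      exact ring_aux8 Y (gam a - gam b) (gam c - gam d) k1 k2 k3
    · show (swap a c * swap b d) * (swap a b * swap c d)
        = 1 * ((swap a b * swap c d) * (swap a c * swap b d))
      rw [one_mul]
      exact swap_pair_comm hab hac had hbc hbd hcd
  have hcomm : ⁅y, x⁆ = z := by
    rw [commutatorElement_def, hyx]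
    group
  have hzcomm : z ∈ commutator ↥(Gs ι) := by
    rw [commutator_def, ← hcomm]
    exact Subgroup.commutator_mem_commutator (Subgroup.mem_top _) (Subgroup.mem_top _)
  have hnorm : (Subgroup.zpowers z).Normal := by
    rw [← hker]; infer_instance
  refine ⟨z, hzc, hord, hzcomm, hnorm, ⟨?_⟩⟩
  exact (QuotientGroup.quotientMulEquivOfEq hker.symm).trans
    (QuotientGroup.quotientKerEquivOfSurjective (psi ι) psi_surj)

end Cfsg.Agent.H9.DCover
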