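import Mathlib
import Cfsg.Agent.H2.Gaschutz

set_option autoImplicit false
set_option linter.unusedVariables false
set_option linter.unusedSectionVars false
set_option linter.style.haveILetI false

namespace Cfsg.Agent.H9.DCover

/-- a group generated by two involutions whose product has order dividing `m` has at most
`2m` elements -/
theorem dihedral_card_le {G : Type*} [Group G] (a b : G) (ha : a ^ 2 = 1) (hb : b ^ 2 = 1)
    (m : ℕ) (hm : 0 < m) (hr : (a * b) ^ m = 1) :
    Nat.card (Subgroup.closure ({a, b} : Set G)) ≤ 2 * m := by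
  have hainv : a⁻¹ = a := by
    rw [inv_eq_iff_mul_eq_one, ← pow_two]; exact ha
  have hbinv : b⁻¹ = b := by
    rw [inv_eq_iff_mul_eq_one, ← pow_two]; exact hb
  set r := a * b with hrdef
  have hconj : a * r * a⁻¹ = r⁻¹ := by
    rw [hrdef, mul_inv_rev, hainv, hbinv]
    calc a * (a * b) * a = (a * a) * b * a := by group
      _ = b * a := by rw [← pow_two, ha, one_mul]
  have hbr : b = a * r := by
    rw [hrdef, ← mul_assoc, ← pow_two, ha, one_mul]
  -- every element of the closure is r^i a^j
  have key : ∀ g ∈ Subgroup.closure ({a, b} : Set G), ∃ (i : ℤ) (j : ℕ), g = r ^ i * a ^ j := by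
    intro g hg
    induction hg using Subgroup.closure_induction_left with
    | one => exact ⟨0, 0, by simp⟩
    | mul_left x hx y _ ih =>
      obtain ⟨i, j, rfl⟩ := ih
      have hax : ∀ i : ℤ, a * r ^ i = r ^ (-i) * a := by
        intro i
        have := @conj_zpow G _ i a r
        rw [hconj, inv_zpow, ← zpow_neg] at this
        rw [this]; group
      rcases hx with rfl | rfl
      · refine ⟨-i, j + 1, ?_⟩
        rw [← mul_assoc, hax, mul_assoc, pow_succ']
      · refine ⟨-(i + 1), j + 1, ?_⟩
        rw [hbr, mul_assoc a r, ← mul_assoc r, ← zpow_one_add, ← mul_assoc a, hax, mul_assoc,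
          pow_succ', add_comm]
    | inv_mul_cancel x hx y _ ih =>
      obtain ⟨i, j, rfl⟩ := ih
      have hax : ∀ i : ℤ, a * r ^ i = r ^ (-i) * a := by
        intro i
        have := @conj_zpow G _ i a r
        rw [hconj, inv_zpow, ← zpow_neg] at this
        rw [this]; group
      rcases hx with rfl | rfl
      · refine ⟨-i, j + 1, ?_⟩
        rw [hainv, ← mul_assoc, hax, mul_assoc, pow_succ']
      · refine ⟨-(i + 1), j + 1, ?_⟩
        rw [hbinv]
        rw [hbr, mul_assoc a r, ← mul_assoc r, ← zpow_one_add, ← mul_assoc a, hax, mul_assoc,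
          pow_succ', add_comm]
  -- so closure ⊆ range of a map from Fin m × Fin 2
  let f : Fin m × Fin 2 → G := fun p => r ^ (p.1 : ℕ) * a ^ (p.2 : ℕ)
  have hsub : ((Subgroup.closure ({a, b} : Set G) : Subgroup G) : Set G) ⊆ Set.range f := by
    intro g hg
    obtain ⟨i, j, rfl⟩ := key g hg
    have hmz : r ^ (m : ℤ) = 1 := by rw [zpow_natCast]; exact hr
    have hmpos : (0 : ℤ) < m := by exact_mod_cast hm
    have h1 : r ^ i = r ^ ((i % (m : ℤ)).toNat) := by
      rw [zpow_eq_zpow_emod i hmz]
      have : 0 ≤ i % (m : ℤ) := Int.emod_nonneg _ hmpos.ne'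
      conv_lhs => rw [← Int.toNat_of_nonneg this]
      rw [zpow_natCast]
    have h2 : a ^ j = a ^ (j % 2) := pow_eq_pow_mod j ha
    have hlt : (i % (m : ℤ)).toNat < m := by
      have := Int.emod_lt_of_pos i hmpos
      omega
    refine ⟨(⟨(i % (m : ℤ)).toNat, hlt⟩, ⟨j % 2, Nat.mod_lt _ (by norm_num)⟩), ?_⟩
    simp only [f]
    rw [h1, h2]
  calc Nat.card (Subgroup.closure ({a, b} : Set G))
      ≤ Nat.card (Set.range f) := Nat.card_mono (Set.finite_range f) hsub
    _ ≤ Nat.card (Fin m × Fin 2) := Finite.card_range_le f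
    _ = 2 * m := by simp [Nat.card_prod, mul_comm]


/-- abstract splitting criterion via Gaschütz -/
theorem split_of_dihedral {H K : Type*} [Group H] [Finite H] [Group K] [Finite K]
    (π : H →* K) (hπ : Function.Surjective π) (hker : π.ker = Subgroup.center H)
    (hZ : Nat.card (Subgroup.center H) = 2)
    (hstar : ∀ y : H, π y ≠ 1 → (π y) ^ 2 = 1 → y ^ 2 = 1)
    (a' b' : K) (ha1 : a' ≠ 1) (ha2 : a' ^ 2 = 1) (hb1 : b' ≠ 1) (hb2 : b' ^ 2 = 1)
    (k : ℕ) (hk : 0 < k) (hrk : (a' * b') ^ k ≠ 1) (hr2k : (a' * b') ^ (2 * k) = 1)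
    (hinj : Function.Injective
      (fun p : Fin (2 * k) × Fin 2 => (a' * b') ^ (p.1 : ℕ) * a' ^ (p.2 : ℕ)))
    (q : ℕ) (hq : Odd q) (hcard : Nat.card K = 4 * k * q) :
    ∃ L : Subgroup H, Subgroup.IsComplement' (Subgroup.center H) L := by
  obtain ⟨a, rfl⟩ := hπ a'
  obtain ⟨b, rfl⟩ := hπ b'
  have ha : a ^ 2 = 1 := hstar a ha1 ha2
  have hb : b ^ 2 = 1 := hstar b hb1 hb2
  have hc : ((a * b) ^ k) ^ 2 = 1 := by
    apply hstar
    · rw [map_pow, map_mul]; exact hrk
    · rw [map_pow, map_mul, ← pow_mul, mul_comm]; exact hr2k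
  have hr : (a * b) ^ (2 * k) = 1 := by rw [mul_comm, pow_mul]; exact hc
  set D := Subgroup.closure ({a, b} : Set H) with hD
  have hDle : Nat.card D ≤ 4 * k := by
    have := dihedral_card_le a b ha hb (2 * k) (by omega) hr
    rw [← hD] at this
    omega
  -- image
  have hmap : Subgroup.map π D = Subgroup.closure ({π a, π b} : Set K) := by
    rw [hD, MonoidHom.map_closure]
    congr 1
    ext x; simp [Set.image_insert_eq, Set.image_singleton]
  have hge : 4 * k ≤ Nat.card (Subgroup.map π D) := by
    let f : Fin (2 * k) × Fin 2 → Subgroup.map π D := fun p =>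
      ⟨(π a * π b) ^ (p.1 : ℕ) * π a ^ (p.2 : ℕ), by
        rw [hmap]
        have h1 : π a ∈ Subgroup.closure ({π a, π b} : Set K) :=
          Subgroup.subset_closure (by simp)
        have h2 : π b ∈ Subgroup.closure ({π a, π b} : Set K) :=
          Subgroup.subset_closure (by simp)
        exact Subgroup.mul_mem _ (Subgroup.pow_mem _ (Subgroup.mul_mem _ h1 h2) _)
          (Subgroup.pow_mem _ h1 _)⟩
    have hf : Function.Injective f := by
      intro p p' h
      apply hinj
      exact congrArg Subtype.val h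
    have := Nat.card_le_card_of_injective f hf
    simpa [Nat.card_prod, mul_comm, mul_assoc, mul_left_comm] using this
  have hsurj : Function.Surjective (π.subgroupMap D) := π.subgroupMap_surjective D
  have hbij : Function.Bijective (π.subgroupMap D) :=
    hsurj.bijective_of_nat_card_le (by omega)
  have hdisj : Subgroup.center H ⊓ D = ⊥ := by
    rw [eq_bot_iff]
    intro w hw
    rw [Subgroup.mem_inf] at hw
    have hw1 : π w = 1 := by rw [← MonoidHom.mem_ker, hker]; exact hw.1
    have : (⟨w, hw.2⟩ : D) = 1 := by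
      apply hbij.1
      apply Subtype.ext
      simp only [MonoidHom.subgroupMap_apply_coe, Subgroup.coe_mk, map_one, Subgroup.coe_one]
      exact hw1
    rw [Subgroup.mem_bot]
    exact congrArg Subtype.val this
  have hcardmap : Nat.card (Subgroup.map π D) = 4 * k := by
    have := Nat.card_le_card_of_surjective _ hsurj
    omega
  have hU : Subgroup.center H ⊔ D = Subgroup.comap π (Subgroup.map π D) := by
    rw [Subgroup.comap_map_eq, hker, sup_comm]
  have hindex : (Subgroup.center H ⊔ D).index = q := by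
    rw [hU, Subgroup.index_comap_of_surjective _ hπ]
    have h1 := (Subgroup.map π D).card_mul_index
    rw [hcardmap, hcard] at h1
    have : 0 < 4 * k := by omega
    exact Nat.eq_of_mul_eq_mul_left this h1
  refine Cfsg.Agent.H2.Gasch.exists_complement (Subgroup.center H) (Subgroup.center H ⊔ D) ?_ D
    hdisj rfl
  rw [hZ, hindex]
  exact Nat.coprime_two_left.mpr hq

end Cfsg.Agent.H9.DCover
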