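import Mathlib

set_option autoImplicit false
set_option linter.unusedVariables false
set_option linter.unusedSectionVars false
set_option linter.style.haveILetI false

namespace Cfsg.Agent.H9.DCover

open Equiv

/-- cycle type of an even involution on at most 7 points -/
theorem cycleType_even_invol {α : Type*} [Fintype α] [DecidableEq α] (hα : Fintype.card α ≤ 7)
    (s : Perm α) (hs : s ≠ 1) (hs2 : s ^ 2 = 1) (hse : Perm.sign s = 1) :
    s.cycleType = Multiset.replicate 2 2 := by
  haveI : Fact (Nat.Prime 2) := ⟨Nat.prime_two⟩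
  have ho : orderOf s = 2 := orderOf_eq_prime hs2 hs
  obtain ⟨k, hk⟩ := Perm.cycleType_prime_order (σ := s) (by rw [ho]; exact Nat.prime_two)
  rw [ho] at hk
  have hsum : s.cycleType.sum = 2 * (k + 1) := by
    rw [hk, Multiset.sum_replicate, smul_eq_mul, mul_comm]
  have hcard : Multiset.card s.cycleType = k + 1 := by
    rw [hk, Multiset.card_replicate]
  have hle := Perm.sum_cycleType_le s
  rw [hsum] at hle
  have hsg := Perm.sign_of_cycleType s
  rw [hse, hsum, hcard] at hsg
  have hev : Even (2 * (k + 1) + (k + 1)) := by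
    by_contra hodd
    rw [Nat.not_even_iff_odd] at hodd
    rw [hodd.neg_one_pow] at hsg
    exact absurd hsg (by decide)
  have hk1 : k + 1 = 2 := by
    rcases hev with ⟨r, hr⟩
    omega
  rw [hk, hk1]

theorem four_le_card_of_even_invol {α : Type*} [Fintype α] [DecidableEq α]
    (hα : Fintype.card α ≤ 7)
    (s : Perm α) (hs : s ≠ 1) (hs2 : s ^ 2 = 1) (hse : Perm.sign s = 1) :
    4 ≤ Fintype.card α := by
  have h := cycleType_even_invol hα s hs hs2 hse
  have hle := Perm.sum_cycleType_le s
  rw [h] at hle
  simpa using hle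

/-- even involutions on at most 7 points are conjugate under an even permutation -/
theorem even_invol_conj {α : Type*} [Fintype α] [DecidableEq α] (hα : Fintype.card α ≤ 7)
    (s t : Perm α) (hs : s ≠ 1) (hs2 : s ^ 2 = 1) (hse : Perm.sign s = 1)
    (ht : t ≠ 1) (ht2 : t ^ 2 = 1) (hte : Perm.sign t = 1) :
    ∃ g : Perm α, Perm.sign g = 1 ∧ g * s * g⁻¹ = t := by
  have h1 := cycleType_even_invol hα s hs hs2 hse
  have h2 := cycleType_even_invol hα t ht ht2 hte
  have hconj : IsConj s t := by
    rw [Perm.isConj_iff_cycleType_eq, h1, h2]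
  obtain ⟨g, hg⟩ := isConj_iff.mp hconj
  rcases Int.units_eq_one_or (Perm.sign g) with hsg | hsg
  · exact ⟨g, hsg, hg⟩
  · obtain ⟨a, ha⟩ : ∃ a, s a ≠ a := by
      by_contra hcon
      push Not at hcon
      exact hs (Perm.ext hcon)
    have hssa : s (s a) = a := by
      have := congrArg (fun f : Perm α => f a) hs2
      simpa [pow_two] using this
    set w := swap a (s a) with hw
    have hconjw : s * w * s⁻¹ = w := by
      rw [hw, ← swap_apply_apply, hssa, swap_comm]
    have hcomm : w * s * w⁻¹ = s := by
      have h3 : s * w = w * s := by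
        calc s * w = (s * w * s⁻¹) * s := by group
          _ = w * s := by rw [hconjw]
      calc w * s * w⁻¹ = (w * s) * w⁻¹ := rfl
        _ = (s * w) * w⁻¹ := by rw [h3]
        _ = s := by group
    refine ⟨g * w, ?_, ?_⟩
    · rw [Perm.sign_mul, hsg, hw, Perm.sign_swap (Ne.symm ha)]; rfl
    · calc g * w * s * (g * w)⁻¹ = g * (w * s * w⁻¹) * g⁻¹ := by group
        _ = t := by rw [hcomm, hg]

end Cfsg.Agent.H9.DCover
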