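import Mathlib
import Cfsg.Prelude.Def_SporadicB
import Cfsg.Agent.H9.DCoverE1
import Cfsg.Agent.H9.DCoverE2

set_option autoImplicit false
set_option linter.unusedVariables false
set_option linter.unusedSectionVars false
set_option linter.style.haveILetI false

namespace Cfsg.Agent.H9.DCover

open Equiv

/-- permutation-level data giving a splitting -/
theorem split_of_perm_data {n : ℕ} {H : Type} [Group H] [Finite H]
    (π : H →* alternatingGroup (Fin n)) (hπ : Function.Surjective π)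
    (hker : π.ker = Subgroup.center H)
    (hZ : Nat.card (Subgroup.center H) = 2)
    (hstar : ∀ y : H, π y ≠ 1 → (π y) ^ 2 = 1 → y ^ 2 = 1)
    (a b : Perm (Fin n)) (k q : ℕ)
    (hdata : Perm.sign a = 1 ∧ Perm.sign b = 1 ∧ a ≠ 1 ∧ a ^ 2 = 1 ∧ b ≠ 1 ∧ b ^ 2 = 1 ∧
      (a * b) ^ k ≠ 1 ∧ (a * b) ^ (2 * k) = 1 ∧
      Function.Injective (fun p : Fin (2 * k) × Fin 2 => (a * b) ^ (p.1 : ℕ) * a ^ (p.2 : ℕ)))
    (hk : 0 < k) (hq : Odd q) (hcard : Nat.card (alternatingGroup (Fin n)) = 4 * k * q) :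
    ∃ L : Subgroup H, Subgroup.IsComplement' (Subgroup.center H) L := by
  obtain ⟨ha, hb, ha1, ha2, hb1, hb2, hrk, hr2k, hinj⟩ := hdata
  set a' : alternatingGroup (Fin n) := ⟨a, Perm.mem_alternatingGroup.mpr ha⟩ with ha'
  set b' : alternatingGroup (Fin n) := ⟨b, Perm.mem_alternatingGroup.mpr hb⟩ with hb'
  refine split_of_dihedral π hπ hker hZ hstar a' b' ?_ ?_ ?_ ?_ k hk ?_ ?_ ?_ q hq hcard
  · intro h; exact ha1 (congrArg Subtype.val h)
  · apply Subtype.ext; simpa using ha2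
  · intro h; exact hb1 (congrArg Subtype.val h)
  · apply Subtype.ext; simpa using hb2
  · intro h; apply hrk
    have := congrArg Subtype.val h
    simpa using this
  · apply Subtype.ext; simpa using hr2k
  · intro p p' h
    apply hinj
    have := congrArg Subtype.val h
    simpa using this


set_option maxRecDepth 100000 in
theorem data4 : let a : Perm (Fin 4) := swap 0 1 * swap 2 3
    let b : Perm (Fin 4) := swap 0 2 * swap 1 3
    Perm.sign a = 1 ∧ Perm.sign b = 1 ∧ a ≠ 1 ∧ a ^ 2 = 1 ∧ b ≠ 1 ∧ b ^ 2 = 1 ∧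
      (a * b) ^ 1 ≠ 1 ∧ (a * b) ^ (2 * 1) = 1 ∧
      Function.Injective (fun p : Fin (2 * 1) × Fin 2 => (a * b) ^ (p.1 : ℕ) * a ^ (p.2 : ℕ)) := by
  decide

set_option maxRecDepth 100000 in
theorem data5 : let a : Perm (Fin 5) := swap 0 1 * swap 2 3
    let b : Perm (Fin 5) := swap 0 2 * swap 1 3
    Perm.sign a = 1 ∧ Perm.sign b = 1 ∧ a ≠ 1 ∧ a ^ 2 = 1 ∧ b ≠ 1 ∧ b ^ 2 = 1 ∧
      (a * b) ^ 1 ≠ 1 ∧ (a * b) ^ (2 * 1) = 1 ∧
      Function.Injective (fun p : Fin (2 * 1) × Fin 2 => (a * b) ^ (p.1 : ℕ) * a ^ (p.2 : ℕ)) := by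
  decide

set_option maxRecDepth 100000 in
theorem data6 : let a : Perm (Fin 6) := swap 0 2 * swap 1 3
    let b : Perm (Fin 6) := swap 0 1 * swap 4 5
    Perm.sign a = 1 ∧ Perm.sign b = 1 ∧ a ≠ 1 ∧ a ^ 2 = 1 ∧ b ≠ 1 ∧ b ^ 2 = 1 ∧
      (a * b) ^ 2 ≠ 1 ∧ (a * b) ^ (2 * 2) = 1 ∧
      Function.Injective (fun p : Fin (2 * 2) × Fin 2 => (a * b) ^ (p.1 : ℕ) * a ^ (p.2 : ℕ)) := by
  decide

set_option maxRecDepth 100000 in
theorem data7 : let a : Perm (Fin 7) := swap 0 2 * swap 1 3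
    let b : Perm (Fin 7) := swap 0 1 * swap 4 5
    Perm.sign a = 1 ∧ Perm.sign b = 1 ∧ a ≠ 1 ∧ a ^ 2 = 1 ∧ b ≠ 1 ∧ b ^ 2 = 1 ∧
      (a * b) ^ 2 ≠ 1 ∧ (a * b) ^ (2 * 2) = 1 ∧
      Function.Injective (fun p : Fin (2 * 2) × Fin 2 => (a * b) ^ (p.1 : ℕ) * a ^ (p.2 : ℕ)) := by
  decide

theorem card_alt (n : ℕ) (hn : 2 ≤ n) : Nat.card (alternatingGroup (Fin n)) = n.factorial / 2 := by
  haveI : Nontrivial (Fin n) := Fin.nontrivial_iff_two_le.mpr hn
  rw [nat_card_alternatingGroup]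
  simp

/-- Part 1: in a non-split double cover of `A_n`, `n ≤ 7`, every element of order 2 is central -/
theorem central_of_order_two (n : ℕ) (H : Type) [Group H] [Finite H] (hn : n ≤ 7)
    (hH : Cfsg.IsNonsplitDoubleCover H (alternatingGroup (Fin n))) (x : H) (hx : orderOf x = 2) :
    x ∈ Subgroup.center H := by
  obtain ⟨hZ, ⟨e⟩, hns⟩ := hH
  set π : H →* alternatingGroup (Fin n) :=
    e.toMonoidHom.comp (QuotientGroup.mk' (Subgroup.center H)) with hπdef
  have hπ : Function.Surjective π := by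
    rw [hπdef]
    exact e.surjective.comp (QuotientGroup.mk'_surjective _)
  have hker : π.ker = Subgroup.center H := by
    ext w
    rw [MonoidHom.mem_ker, hπdef]
    simp only [MonoidHom.coe_comp, Function.comp_apply, MulEquiv.toMonoidHom_eq_coe,
      MonoidHom.coe_coe, QuotientGroup.mk'_apply]
    rw [MulEquiv.map_eq_one_iff, QuotientGroup.eq_one_iff]
  by_contra hxZ
  have hx2 : x ^ 2 = 1 := by rw [← hx]; exact pow_orderOf_eq_one x
  have hs1 : π x ≠ 1 := by
    intro h; apply hxZ; rw [← hker, MonoidHom.mem_ker]; exact h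
  have hs2 : (π x) ^ 2 = 1 := by rw [← map_pow, hx2, map_one]
  have hcardF : Fintype.card (Fin n) ≤ 7 := by simpa using hn
  have hsP1 : ((π x : alternatingGroup (Fin n)) : Perm (Fin n)) ≠ 1 := by
    intro h; apply hs1; exact Subtype.ext h
  have hsP2 : ((π x : alternatingGroup (Fin n)) : Perm (Fin n)) ^ 2 = 1 := by
    have := congrArg Subtype.val hs2
    simpa using this
  have hsPe : Perm.sign ((π x : alternatingGroup (Fin n)) : Perm (Fin n)) = 1 :=
    Perm.mem_alternatingGroup.mp (π x).2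
  have hstar : ∀ y : H, π y ≠ 1 → (π y) ^ 2 = 1 → y ^ 2 = 1 := by
    intro y hy1 hy2
    have hyP1 : ((π y : alternatingGroup (Fin n)) : Perm (Fin n)) ≠ 1 := by
      intro h; apply hy1; exact Subtype.ext h
    have hyP2 : ((π y : alternatingGroup (Fin n)) : Perm (Fin n)) ^ 2 = 1 := by
      have := congrArg Subtype.val hy2
      simpa using this
    have hyPe : Perm.sign ((π y : alternatingGroup (Fin n)) : Perm (Fin n)) = 1 :=
      Perm.mem_alternatingGroup.mp (π y).2
    obtain ⟨g, hg1, hg2⟩ := even_invol_conj hcardF _ _ hsP1 hsP2 hsPe hyP1 hyP2 hyPe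
    obtain ⟨g', hg'⟩ := hπ ⟨g, Perm.mem_alternatingGroup.mpr hg1⟩
    have hpi : π (g' * x * g'⁻¹) = π y := by
      rw [map_mul, map_mul, map_inv, hg']
      apply Subtype.ext
      simpa using hg2
    set c := (g' * x * g'⁻¹)⁻¹ * y with hc
    have hcZ : c ∈ Subgroup.center H := by
      rw [← hker, MonoidHom.mem_ker, hc, map_mul, map_inv, hpi, inv_mul_cancel]
    have hc2 : c ^ 2 = 1 := by
      have h := pow_card_eq_one' (G := Subgroup.center H) (x := ⟨c, hcZ⟩)
      rw [hZ] at h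
      exact congrArg Subtype.val h
    have hyc : y = (g' * x * g'⁻¹) * c := by rw [hc]; group
    have hcomm : c * (g' * x * g'⁻¹) = (g' * x * g'⁻¹) * c :=
      (Subgroup.mem_center_iff.mp hcZ (g' * x * g'⁻¹)).symm
    have hconj2 : (g' * x * g'⁻¹) ^ 2 = 1 := by
      rw [pow_two]
      calc g' * x * g'⁻¹ * (g' * x * g'⁻¹) = g' * (x * x) * g'⁻¹ := by group
        _ = 1 := by rw [← pow_two, hx2]; group
    rw [hyc, pow_two]
    calc g' * x * g'⁻¹ * c * (g' * x * g'⁻¹ * c)
        = g' * x * g'⁻¹ * (c * (g' * x * g'⁻¹)) * c := by group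
      _ = g' * x * g'⁻¹ * ((g' * x * g'⁻¹) * c) * c := by rw [hcomm]
      _ = ((g' * x * g'⁻¹) * (g' * x * g'⁻¹)) * (c * c) := by group
      _ = 1 := by rw [← pow_two, ← pow_two, hconj2, hc2, one_mul]
  have h4 : 4 ≤ n := by
    have := four_le_card_of_even_invol hcardF _ hsP1 hsP2 hsPe
    simpa using this
  have hsplit : ∃ L : Subgroup H, Subgroup.IsComplement' (Subgroup.center H) L := by
    interval_cases n
    · exact split_of_perm_data π hπ hker hZ hstar _ _ 1 3 data4 (by norm_num) (by decide)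
        (by rw [card_alt 4 (by norm_num)]; decide)
    · exact split_of_perm_data π hπ hker hZ hstar _ _ 1 15 data5 (by norm_num) (by decide)
        (by rw [card_alt 5 (by norm_num)]; decide)
    · exact split_of_perm_data π hπ hker hZ hstar _ _ 2 45 data6 (by norm_num) (by decide)
        (by rw [card_alt 6 (by norm_num)]; decide)
    · exact split_of_perm_data π hπ hker hZ hstar _ _ 2 315 data7 (by norm_num) (by decide)
        (by rw [card_alt 7 (by norm_num)]; decide)
  obtain ⟨L, hL⟩ := hsplit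
  exact hns L hL

theorem part1 (n : ℕ) (H : Type) [Group H] [Finite H] (hn : n ≤ 7)
    (hH : Cfsg.IsNonsplitDoubleCover H (alternatingGroup (Fin n))) (x y : H)
    (hx : orderOf x = 2) (hy : orderOf y = 2) : x = y := by
  have hxZ := central_of_order_two n H hn hH x hx
  have hyZ := central_of_order_two n H hn hH y hy
  obtain ⟨hZ, -, -⟩ := hH
  obtain ⟨w, hw1, hw2⟩ := (Nat.card_eq_two_iff' (1 : Subgroup.center H)).mp hZ
  have hx1 : (⟨x, hxZ⟩ : Subgroup.center H) ≠ 1 := by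
    intro h
    have : x = 1 := congrArg Subtype.val h
    rw [this, orderOf_one] at hx
    exact absurd hx (by norm_num)
  have hy1 : (⟨y, hyZ⟩ : Subgroup.center H) ≠ 1 := by
    intro h
    have : y = 1 := congrArg Subtype.val h
    rw [this, orderOf_one] at hy
    exact absurd hy (by norm_num)
  have := (hw2 _ hx1).trans (hw2 _ hy1).symm
  exact congrArg Subtype.val this

end Cfsg.Agent.H9.DCover
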