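import Mathlib
import Cfsg.Prelude.Def_SporadicB
import Cfsg.Agent.H9.DCoverD

set_option autoImplicit false
set_option linter.unusedVariables false
set_option linter.unusedSectionVars false
set_option linter.style.haveILetI false

namespace Cfsg.Agent.H9.DCover

open Finset Equiv
open scoped commutatorElement

theorem ring_rA {R : Type*} [Ring R] (A B : R) (hA : A * A = -1) (hB : B * B = -1)
    (hBA : B * A = -(A * B)) : (A * B) * (A * B) = -1 := by
  calc (A * B) * (A * B) = A * (B * A) * B := by noncomm_ring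
    _ = -((A * A) * (B * B)) := by rw [hBA]; noncomm_ring
    _ = -1 := by rw [hA, hB]; noncomm_ring

theorem ring_rB {R : Type*} [Ring R] (A B C D : R) (hCA : C * A = -(A * C))
    (hDA : D * A = -(A * D)) (hCB : C * B = -(B * C)) (hDB : D * B = -(B * D)) :
    (C * D) * (A * B) = (A * B) * (C * D) := by
  calc (C * D) * (A * B) = C * (D * A) * B := by noncomm_ring
    _ = -((C * A) * (D * B)) := by rw [hDA]; noncomm_ring
    _ = -((A * C) * (B * D)) := by rw [hCA, hDB]; noncomm_ring
    _ = -(A * (C * B) * D) := by noncomm_ring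
    _ = (A * B) * (C * D) := by rw [hCB]; noncomm_ring

theorem ring_rC {R : Type*} [Ring R] (X Y : R) (hX : X * X = -1) (hY : Y * Y = -1)
    (hYX : Y * X = X * Y) : (X * Y) * (X * Y) = 1 := by
  calc (X * Y) * (X * Y) = X * (Y * X) * Y := by noncomm_ring
    _ = (X * X) * (Y * Y) := by rw [hYX]; noncomm_ring
    _ = 1 := by rw [hX, hY]; noncomm_ring

variable {ι : Type} [LinearOrder ι] [Fintype ι]

theorem uu_val_sq (i j : ι) (h : i ≠ j) :
    (gam i - gam j) * (gam i - gam j) = (-1 : EE ι) := by
  have := congrArg (fun u : (EE ι)ˣ => (u : EE ι)) (uu_sq i j h)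
  simpa using this

theorem uu_anti {a b c d : ι} (hac : a ≠ c) (had : a ≠ d) (hbc : b ≠ c) (hbd : b ≠ d) :
    (gam c - gam d) * (gam a - gam b) = -((gam a - gam b) * (gam c - gam d) : EE ι) :=
  ring_aux7 _ _ _ _ (gam_anti hac.symm) (gam_anti hbc.symm) (gam_anti had.symm) (gam_anti hbd.symm)

/-- refined version of `main` exposing the central element -/
theorem main2 (a b c d : ι) (hab : a ≠ b) (hac : a ≠ c) (had : a ≠ d) (hbc : b ≠ c)
    (hbd : b ≠ d) (hcd : c ≠ d) :
    ∃ z : ↥(Gs ι), z.1 = ((-1 : (EE ι)ˣ), (1 : Perm ι)) ∧ z ∈ Subgroup.center ↥(Gs ι) ∧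
      orderOf z = 2 ∧ z ∈ commutator ↥(Gs ι) ∧ (psi ι).ker = Subgroup.zpowers z := by
  have hzmem : ((-1 : (EE ι)ˣ), (1 : Perm ι)) ∈ Gs ι :=
    Subgroup.mem_inf.mpr ⟨neg_one_mem_G0 hab, Subgroup.mem_comap.mpr (alternatingGroup ι).one_mem⟩
  set z : ↥(Gs ι) := ⟨((-1 : (EE ι)ˣ), (1 : Perm ι)), hzmem⟩ with hzdef
  have hzc : z ∈ Subgroup.center ↥(Gs ι) := by
    rw [Subgroup.mem_center_iff]
    intro g
    apply Subtype.ext
    apply Prod.ext
    · exact units_neg_one_comm _
    · simp [hzdef]
  have hz2 : z ^ 2 = 1 := by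
    apply Subtype.ext
    apply Prod.ext
    · exact units_neg_one_sq
    · simp [hzdef]
  have hz1 : z ≠ 1 := by
    intro h
    have := congrArg (fun x : ↥(Gs ι) => x.1.1) h
    exact neg_one_ne_one_EEu this
  have hord : orderOf z = 2 := by
    haveI : Fact (Nat.Prime 2) := ⟨Nat.prime_two⟩
    exact orderOf_eq_prime hz2 hz1
  have hker : (psi ι).ker = Subgroup.zpowers z := by
    apply le_antisymm
    · intro x hx
      rw [MonoidHom.mem_ker] at hx
      have hx2 : x.1.2 = 1 := by
        have := congrArg (fun y : alternatingGroup ι => (y : Perm ι)) hx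
        simpa [psi_apply] using this
      have hxG : (x.1.1, (1 : Perm ι)) ∈ G0 ι := by
        have := x.2.1
        rw [← hx2]; exact this
      rcases ker_G0 hxG with h | h
      · have : x = 1 := by
          apply Subtype.ext; apply Prod.ext
          · exact h
          · exact hx2
        rw [this]; exact Subgroup.one_mem _
      · have : x = z := by
          apply Subtype.ext; apply Prod.ext
          · exact h
          · exact hx2
        rw [this]; exact Subgroup.mem_zpowers z
    · rw [Subgroup.zpowers_le, MonoidHom.mem_ker]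
      apply Subtype.ext
      rfl
  have hxm : (uu a b hab * uu c d hcd, swap a b * swap c d) ∈ Gs ι := by
    refine Subgroup.mem_inf.mpr ⟨?_, Subgroup.mem_comap.mpr ?_⟩
    · have := (G0 ι).mul_mem (gen_mem hab) (gen_mem hcd)
      rwa [Prod.mk_mul_mk] at this
    · show swap a b * swap c d ∈ alternatingGroup ι
      rw [Perm.mem_alternatingGroup, Perm.sign_mul, Perm.sign_swap hab, Perm.sign_swap hcd]
      rfl
  have hym : (uu a c hac * uu b d hbd, swap a c * swap b d) ∈ Gs ι := by
    refine Subgroup.mem_inf.mpr ⟨?_, Subgroup.mem_comap.mpr ?_⟩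
    · have := (G0 ι).mul_mem (gen_mem hac) (gen_mem hbd)
      rwa [Prod.mk_mul_mk] at this
    · show swap a c * swap b d ∈ alternatingGroup ι
      rw [Perm.mem_alternatingGroup, Perm.sign_mul, Perm.sign_swap hac, Perm.sign_swap hbd]
      rfl
  set x : ↥(Gs ι) := ⟨_, hxm⟩ with hxdef
  set y : ↥(Gs ι) := ⟨_, hym⟩ with hydef
  have hyx : y * x = z * (x * y) := by
    apply Subtype.ext
    apply Prod.ext
    · show (uu a c hac * uu b d hbd) * (uu a b hab * uu c d hcd)
        = -1 * ((uu a b hab * uu c d hcd) * (uu a c hac * uu b d hbd))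
      apply Units.ext
      obtain ⟨i1, _, _⟩ := inv_of_mem hym.1
      obtain ⟨h1, h2, h3, h4⟩ := swap_pair_apply hab hac had hbc hbd hcd
      have hs : sgnK (swap a c * swap b d) = 1 := by
        rw [sgnK_mul, sgnK_swap hac, sgnK_swap hbd]; decide
      simp only [hs, one_smul] at i1
      set Y : EE ι := ((uu a c hac * uu b d hbd : (EE ι)ˣ) : EE ι) with hY
      have ia := i1 a; have ib := i1 b; have ic := i1 c; have id' := i1 d
      rw [h1] at ia; rw [h2] at ib; rw [h3] at ic; rw [h4] at id'
      have k1 : Y * (gam a - gam b) = (gam c - gam d) * Y := by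
        rw [mul_sub, sub_mul, ia, ib]
      have k2 : Y * (gam c - gam d) = (gam a - gam b) * Y := by
        rw [mul_sub, sub_mul, ic, id']
      have k3 : (gam c - gam d) * (gam a - gam b) = -((gam a - gam b) * (gam c - gam d)) :=
        uu_anti hac had hbc hbd
      exact ring_aux8 Y (gam a - gam b) (gam c - gam d) k1 k2 k3
    · show (swap a c * swap b d) * (swap a b * swap c d)
        = 1 * ((swap a b * swap c d) * (swap a c * swap b d))
      rw [one_mul]
      exact swap_pair_comm hab hac had hbc hbd hcd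
  have hcomm : ⁅y, x⁆ = z := by
    rw [commutatorElement_def, hyx]
    group
  have hzcomm : z ∈ commutator ↥(Gs ι) := by
    rw [commutator_def, ← hcomm]
    exact Subgroup.commutator_mem_commutator (Subgroup.mem_top _) (Subgroup.mem_top _)
  exact ⟨z, rfl, hzc, hord, hzcomm, hker⟩

/-- the cover `Gs ι` is a non-split double cover -/
theorem nonsplit (a b c d : ι) (hab : a ≠ b) (hac : a ≠ c) (had : a ≠ d) (hbc : b ≠ c)
    (hbd : b ≠ d) (hcd : c ≠ d) (h4 : 4 ≤ Nat.card ι) :
    Cfsg.IsNonsplitDoubleCover ↥(Gs ι) (alternatingGroup ι) := by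
  obtain ⟨z, hz, hzc, hord, hzcomm, hker⟩ := main2 a b c d hab hac had hbc hbd hcd
  have hcenter : Subgroup.center ↥(Gs ι) = Subgroup.zpowers z := by
    apply le_antisymm
    · intro g hg
      rw [← hker, MonoidHom.mem_ker]
      have : psi ι g ∈ Subgroup.center (alternatingGroup ι) := by
        rw [Subgroup.mem_center_iff]
        intro k
        obtain ⟨h, rfl⟩ := psi_surj k
        rw [← map_mul, ← map_mul, Subgroup.mem_center_iff.mp hg h]
      rw [alternatingGroup.center_eq_bot h4, Subgroup.mem_bot] at this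
      exact this
    · rw [Subgroup.zpowers_le]; exact hzc
  refine ⟨?_, ?_, ?_⟩
  · rw [hcenter, Nat.card_zpowers, hord]
  · exact ⟨(QuotientGroup.quotientMulEquivOfEq (hcenter.trans hker.symm)).trans
      (QuotientGroup.quotientKerEquivOfSurjective (psi ι) psi_surj)⟩
  · intro L hL
    have hidx : L.index = 2 := by
      rw [hL.index_eq_card, hcenter, Nat.card_zpowers, hord]
    haveI : L.Normal := Subgroup.normal_of_index_eq_two hidx
    have hcard : Nat.card (↥(Gs ι) ⧸ L) = 2 := by rw [← Subgroup.index_eq_card]; exact hidx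
    haveI : Fact (Nat.Prime 2) := ⟨Nat.prime_two⟩
    haveI hcyc : IsCyclic (↥(Gs ι) ⧸ L) := isCyclic_of_prime_card hcard
    letI : CommGroup (↥(Gs ι) ⧸ L) := IsCyclic.commGroup
    have h1 := Abelianization.commutator_subset_ker (QuotientGroup.mk' L)
    have h2 : z ∈ (QuotientGroup.mk' L).ker := h1 hzcomm
    rw [QuotientGroup.ker_mk'] at h2
    have h3 : z ∈ Subgroup.center ↥(Gs ι) ⊓ L := Subgroup.mem_inf.mpr ⟨hzc, h2⟩
    rw [hL.disjoint.eq_bot, Subgroup.mem_bot] at h3
    rw [h3, orderOf_one] at hord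
    exact absurd hord (by norm_num)

end Cfsg.Agent.H9.DCover
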