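import Mathlib
import Cfsg.Prelude.Def_SporadicB
import Cfsg.Agent.H9.DCoverE4

set_option autoImplicit false
set_option linter.unusedVariables false
set_option linter.unusedSectionVars false
set_option linter.style.haveILetI false

namespace Cfsg.Agent.H9.DCover

open Finset Equiv

theorem ne01 : (0 : Fin 8) ≠ 1 := by decide
theorem ne23 : (2 : Fin 8) ≠ 3 := by decide
theorem ne45 : (4 : Fin 8) ≠ 5 := by decide
theorem ne67 : (6 : Fin 8) ≠ 7 := by decide

/-- the second involution in `2.A_8` -/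
theorem exists_second_invol :
    ∃ w : ↥(Gs (Fin 8)), w.1.2 ≠ 1 ∧ w ^ 2 = 1 := by
  have hmem : ((uu (0 : Fin 8) 1 ne01 * uu 2 3 ne23) * (uu 4 5 ne45 * uu 6 7 ne67),
      (swap (0 : Fin 8) 1 * swap 2 3) * (swap 4 5 * swap 6 7)) ∈ Gs (Fin 8) := by
    refine Subgroup.mem_inf.mpr ⟨?_, Subgroup.mem_comap.mpr ?_⟩
    · have h1 := (G0 (Fin 8)).mul_mem (gen_mem ne01) (gen_mem ne23)
      have h2 := (G0 (Fin 8)).mul_mem (gen_mem ne45) (gen_mem ne67)
      have := (G0 (Fin 8)).mul_mem h1 h2
      simpa only [Prod.mk_mul_mk] using this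
    · show (swap (0 : Fin 8) 1 * swap 2 3) * (swap 4 5 * swap 6 7) ∈ alternatingGroup (Fin 8)
      rw [Perm.mem_alternatingGroup]
      simp only [Perm.sign_mul, Perm.sign_swap ne01, Perm.sign_swap ne23, Perm.sign_swap ne45,
        Perm.sign_swap ne67]
      rfl
  refine ⟨⟨_, hmem⟩, ?_, ?_⟩
  · show (swap (0 : Fin 8) 1 * swap 2 3) * (swap 4 5 * swap 6 7) ≠ 1
    decide
  · apply Subtype.ext
    apply Prod.ext
    · show ((uu (0 : Fin 8) 1 ne01 * uu 2 3 ne23) * (uu 4 5 ne45 * uu 6 7 ne67)) ^ 2 = 1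
      rw [pow_two]
      apply Units.ext
      simp only [Units.val_mul, uu_val, Units.val_one]
      have hX : ((gam (0 : Fin 8) - gam 1) * (gam 2 - gam 3))
          * ((gam (0 : Fin 8) - gam 1) * (gam 2 - gam 3)) = (-1 : EE (Fin 8)) :=
        ring_rA _ _ (uu_val_sq 0 1 ne01) (uu_val_sq 2 3 ne23)
          (uu_anti (by decide) (by decide) (by decide) (by decide))
      have hY : ((gam (4 : Fin 8) - gam 5) * (gam 6 - gam 7))
          * ((gam (4 : Fin 8) - gam 5) * (gam 6 - gam 7)) = (-1 : EE (Fin 8)) :=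
        ring_rA _ _ (uu_val_sq 4 5 ne45) (uu_val_sq 6 7 ne67)
          (uu_anti (by decide) (by decide) (by decide) (by decide))
      have hYX := ring_rB (gam (0 : Fin 8) - gam 1) (gam 2 - gam 3) (gam 4 - gam 5) (gam 6 - gam 7)
        (uu_anti (by decide) (by decide) (by decide) (by decide))
        (uu_anti (by decide) (by decide) (by decide) (by decide))
        (uu_anti (by decide) (by decide) (by decide) (by decide))
        (uu_anti (by decide) (by decide) (by decide) (by decide))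
      exact ring_rC _ _ hX hY hYX
    · show ((swap (0 : Fin 8) 1 * swap 2 3) * (swap 4 5 * swap 6 7)) ^ 2 = 1
      decide

theorem part2 : ∃ (H : Type) (_ : Group H) (_ : Finite H),
    Cfsg.IsNonsplitDoubleCover H (alternatingGroup (Fin 8)) ∧
      ∃ x y : H, x ≠ y ∧ orderOf x = 2 ∧ orderOf y = 2 := by
  have hns := nonsplit (ι := Fin 8) 0 1 2 3 (by decide) (by decide) (by decide) (by decide)
    (by decide) (by decide) (by simp)
  obtain ⟨z, hz, hzc, hord, hzcomm, hker⟩ := main2 (ι := Fin 8) 0 1 2 3 (by decide) (by decide)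
    (by decide) (by decide) (by decide) (by decide)
  obtain ⟨w, hw1, hw2⟩ := exists_second_invol
  refine ⟨↥(Gs (Fin 8)), inferInstance, inferInstance, hns, z, w, ?_, hord, ?_⟩
  · intro h
    apply hw1
    rw [← h, hz]
  · haveI : Fact (Nat.Prime 2) := ⟨Nat.prime_two⟩
    apply orderOf_eq_prime hw2
    intro h
    apply hw1
    rw [h]; rfl

end Cfsg.Agent.H9.DCover
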