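import Mathlib
import Cfsg.Prelude.Def_GeometricClasses

set_option autoImplicit false

/-!
Direct-sum decompositions `D : Fin t → Submodule F (ι → F)`: adapted bases, the complementary sums `HH D i`,
the weight `wt D x` (the number of members of `D` in which `x` has a non-zero component), its invariance under the
decomposition stabiliser, and the subgroup of `GL` preserving the weight modulo the characteristic.
Also: elements of `GL ι F` from linear maps of determinant one.
-/

namespace Cfsg.Agent.H9.Decomp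

open scoped MatrixGroups Matrix

variable {ι : Type} [Fintype ι] [DecidableEq ι] {F : Type*} [Field F]

/-- The element of `GL ι F` of a linear map of determinant one. -/
noncomputable def glOfLin (ℓ : (ι → F) →ₗ[F] (ι → F)) (h : LinearMap.det ℓ = 1) : GL ι F :=
  Matrix.GeneralLinearGroup.mkOfDetNeZero (LinearMap.toMatrix' ℓ)
    (by rw [LinearMap.det_toMatrix', h]; exact one_ne_zero)

theorem glOfLin_val (ℓ : (ι → F) →ₗ[F] (ι → F)) (h : LinearMap.det ℓ = 1) :
    ((glOfLin ℓ h : GL ι F) : Matrix ι ι F) = LinearMap.toMatrix' ℓ := rfl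

theorem glOfLin_mulVec (ℓ : (ι → F) →ₗ[F] (ι → F)) (h : LinearMap.det ℓ = 1) (x : ι → F) :
    ((glOfLin ℓ h : GL ι F) : Matrix ι ι F) *ᵥ x = ℓ x := by
  rw [glOfLin_val, ← Matrix.toLin'_apply, Matrix.toLin'_toMatrix']

theorem glOfLin_mem_specialLinear (ℓ : (ι → F) →ₗ[F] (ι → F)) (h : LinearMap.det ℓ = 1) :
    glOfLin ℓ h ∈ Cfsg.Geo.specialLinear ι F := by
  unfold Cfsg.Geo.specialLinear
  rw [MonoidHom.mem_ker]
  apply Units.ext
  show (LinearMap.toMatrix' ℓ).det = 1
  rw [LinearMap.det_toMatrix', h]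

theorem mulVec_inv_cancel (g : GL ι F) (x : ι → F) :
    (g : Matrix ι ι F) *ᵥ (((g⁻¹ : GL ι F) : Matrix ι ι F) *ᵥ x) = x := by
  rw [Matrix.mulVec_mulVec, ← Units.val_mul, mul_inv_cancel, Units.val_one, Matrix.one_mulVec]

theorem inv_mulVec_cancel (g : GL ι F) (x : ι → F) :
    ((g⁻¹ : GL ι F) : Matrix ι ι F) *ᵥ ((g : Matrix ι ι F) *ᵥ x) = x := by
  rw [Matrix.mulVec_mulVec, ← Units.val_mul, inv_mul_cancel, Units.val_one, Matrix.one_mulVec]

variable {t : ℕ} (D : Fin t → Submodule F (ι → F))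

/-- The sum of the members of `D` other than the `i`-th. -/
def HH (i : Fin t) : Submodule F (ι → F) := ⨆ j, ⨆ (_ : j ≠ i), D j

open Classical in
/-- The number of members of `D` in which `x` has a non-zero component. -/
noncomputable def wt (x : ι → F) : ℕ := (Finset.univ.filter fun i => x ∉ HH D i).card

theorem le_HH {i j : Fin t} (h : j ≠ i) : D j ≤ HH D i := le_iSup₂_of_le j h le_rfl

theorem map_HH (g : GL ι F) (σ : Equiv.Perm (Fin t))
    (hσ : ∀ i, (D i).map (Matrix.toLin' (g : Matrix ι ι F)) = D (σ i)) (i : Fin t) :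
    (HH D i).map (Matrix.toLin' (g : Matrix ι ι F)) = HH D (σ i) := by
  unfold HH
  simp only [Submodule.map_iSup, hσ]
  apply le_antisymm
  · apply iSup₂_le
    intro j hj
    exact le_iSup₂_of_le (σ j) (fun h => hj (σ.injective h)) le_rfl
  · apply iSup₂_le
    intro k hk
    refine le_iSup₂_of_le (σ.symm k) (fun h => hk ?_) ?_
    · rw [← h, Equiv.apply_symm_apply]
    · rw [Equiv.apply_symm_apply]

theorem wt_stab (g : GL ι F) (hg : g ∈ Cfsg.Geo.decompositionStabilizer D) (x : ι → F) :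
    wt D ((g : Matrix ι ι F) *ᵥ x) = wt D x := by
  classical
  obtain ⟨σ, hσ⟩ := hg
  unfold wt
  symm
  apply Finset.card_equiv σ
  intro i
  simp only [Finset.mem_filter, Finset.mem_univ, true_and]
  rw [not_iff_not, ← map_HH D g σ hσ i]
  constructor
  · intro hx
    exact ⟨x, hx, Matrix.toLin'_apply _ _⟩
  · rintro ⟨y, hy, hyx⟩
    rw [Matrix.toLin'_apply] at hyx
    have : y = x := by
      have := congrArg (fun z => ((g⁻¹ : GL ι F) : Matrix ι ι F) *ᵥ z) hyx
      simpa only [inv_mulVec_cancel] using this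
    rw [← this]; exact hy

/-- The subgroup of `R` preserving the weight modulo the characteristic. -/
noncomputable def wtPreserving (R : Subgroup (GL ι F)) : Subgroup (GL ι F) where
  carrier := {g | g ∈ R ∧ ∀ x : ι → F, ((wt D ((g : Matrix ι ι F) *ᵥ x) : ℕ) : F) = wt D x}
  mul_mem' := by
    rintro a b ⟨ha, ha'⟩ ⟨hb, hb'⟩
    refine ⟨mul_mem ha hb, fun x => ?_⟩
    rw [Units.val_mul, ← Matrix.mulVec_mulVec, ha', hb']
  one_mem' := ⟨one_mem _, fun x => by rw [Units.val_one, Matrix.one_mulVec]⟩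
  inv_mem' := by
    rintro a ⟨ha, ha'⟩
    refine ⟨inv_mem ha, fun x => ?_⟩
    have := ha' (((a⁻¹ : GL ι F) : Matrix ι ι F) *ᵥ x)
    rw [mulVec_inv_cancel] at this
    exact this.symm

theorem stab_le_wtPreserving (R : Subgroup (GL ι F)) :
    Cfsg.Geo.decompositionStabilizer D ⊓ R ≤ wtPreserving D R := by
  rintro g ⟨hg1, hg2⟩
  exact ⟨hg2, fun x => by rw [wt_stab D g hg1 x]⟩

theorem wtPreserving_le (R : Subgroup (GL ι F)) : wtPreserving D R ≤ R := fun _ hg => hg.1

/-- An adapted basis of an `m`-decomposition. -/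
theorem exists_adapted_basis {m : ℕ} (hD : Cfsg.Geo.IsMDecomposition m D) :
    ∃ b : Module.Basis (Fin t × Fin m) F (ι → F), (∀ i j, b (i, j) ∈ D i) ∧
      (∀ k i j y, y ∈ D k → k ≠ i → b.repr y (i, j) = 0) := by
  classical
  have hint := DirectSum.isInternal_submodule_of_iSupIndep_of_iSup_eq_top hD.indep hD.iSup_eq_top
  let v : ∀ i, Module.Basis (Fin m) F (D i) := fun i => Module.finBasisOfFinrankEq F (D i) (hD.finrank_eq i)
  refine ⟨(hint.collectedBasis v).reindex (Equiv.sigmaEquivProd (Fin t) (Fin m)), ?_, ?_⟩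
  · intro i j
    rw [Module.Basis.reindex_apply]
    exact hint.collectedBasis_mem v ⟨i, j⟩
  · intro k i j y hy hki
    rw [Module.Basis.repr_reindex_apply]
    exact hint.collectedBasis_repr_of_mem_ne v hki hy

/-- Membership in the complementary sum, in adapted coordinates. -/
theorem mem_HH_iff {m : ℕ} (b : Module.Basis (Fin t × Fin m) F (ι → F)) (hb1 : ∀ i j, b (i, j) ∈ D i)
    (hb2 : ∀ k i j y, y ∈ D k → k ≠ i → b.repr y (i, j) = 0) (i : Fin t) (x : ι → F) :
    x ∈ HH D i ↔ ∀ j, b.repr x (i, j) = 0 := by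
  constructor
  · intro hx j
    have hle : HH D i ≤ LinearMap.ker (b.coord (i, j)) := by
      apply iSup₂_le
      intro k hk y hy
      rw [LinearMap.mem_ker, Module.Basis.coord_apply]
      exact hb2 k i j y hy hk
    have := hle hx
    rwa [LinearMap.mem_ker, Module.Basis.coord_apply] at this
  · intro h
    rw [← b.sum_repr x]
    apply Submodule.sum_mem
    rintro ⟨k, j⟩ _
    by_cases hk : k = i
    · subst hk
      rw [h j, zero_smul]; exact Submodule.zero_mem _
    · exact Submodule.smul_mem _ _ (le_HH D hk (hb1 k j))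

open Classical in
theorem wt_eq {m : ℕ} (b : Module.Basis (Fin t × Fin m) F (ι → F)) (hb1 : ∀ i j, b (i, j) ∈ D i)
    (hb2 : ∀ k i j y, y ∈ D k → k ≠ i → b.repr y (i, j) = 0) (x : ι → F) :
    wt D x = (Finset.univ.filter fun i => ∃ j, b.repr x (i, j) ≠ 0).card := by
  unfold wt
  congr 1
  apply Finset.filter_congr
  intro i _
  rw [mem_HH_iff D b hb1 hb2 i x]
  push Not
  rfl

end Cfsg.Agent.H9.Decomp
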