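import Mathlib
import Cfsg.Prelude.Def_DegreeGraph
import Cfsg.Agent.H9.PSL2Degrees

set_option autoImplicit false

/-!
# The character degree graph of a group whose degrees are those of SL₂(q) or PSL₂(q)
-/

namespace Cfsg.Agent.H9.DegreeGraphSL2

open Cfsg Cfsg.Agent.Lib.helper3.Irr Cfsg.Agent.H9.PSL2Degrees

/-- the degree set is invariant under isomorphism -/
theorem charDegrees_mulEquiv {S : Type*} {G : Type*} [Group S] [Group G] [Finite G]
    (e : S ≃* G) : charDegrees S = charDegrees G := by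
  haveI : Finite S := Finite.of_equiv G e.symm.toEquiv
  ext d
  constructor
  · rintro ⟨χ, rfl⟩
    refine ⟨⟨fun g => (χ : S → ℂ) (e.symm g), isIrrCharacter_comp_mulEquiv e.symm χ.2⟩, ?_⟩
    unfold charDegree
    simp only [map_one]
  · rintro ⟨χ, rfl⟩
    refine ⟨⟨fun g => (χ : G → ℂ) (e g), isIrrCharacter_comp_mulEquiv e χ.2⟩, ?_⟩
    unfold charDegree
    simp only [map_one]

theorem sq_sub_one (q : ℕ) (hq : 1 ≤ q) : q ^ 2 - 1 = (q + 1) * (q - 1) := by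
  obtain ⟨k, rfl⟩ : ∃ k, q = k + 1 := ⟨q - 1, by omega⟩
  apply Nat.sub_eq_of_eq_add
  simp only [Nat.add_sub_cancel]
  ring

/-- the degree graph of a group whose character degrees are those of SL₂(q) or PSL₂(q) -/
theorem degree_graph_of_degrees {S : Type*} [Group S] (q : ℕ) (hq : 4 ≤ q) (hpp : IsPrimePow q)
    (hsub : ∀ d ∈ charDegrees S, d = 1 ∨ d = q ∨ d = q + 1 ∨ d = q - 1 ∨
      (Odd q ∧ (d = (q + 1) / 2 ∨ d = (q - 1) / 2)))
    (h1 : q ∈ charDegrees S) (h2 : q + 1 ∈ charDegrees S) (h3 : q - 1 ∈ charDegrees S) :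
    degreePrimes S = {r : ℕ | r.Prime ∧ r ∣ q * (q ^ 2 - 1)} ∧
    ∀ r s : ℕ, (degreeGraph S).Adj r s ↔ (r ≠ s ∧ r.Prime ∧ s.Prime ∧
      ((r ∣ q + 1 ∧ s ∣ q + 1) ∨ (r ∣ q - 1 ∧ s ∣ q - 1))) := by
  have hsq := sq_sub_one q (by omega)
  have hhalf1 : Odd q → 2 * ((q + 1) / 2) = q + 1 := by
    rintro ⟨k, hk⟩; omega
  have hhalf2 : Odd q → 2 * ((q - 1) / 2) = q - 1 := by
    rintro ⟨k, hk⟩; omega
  constructor
  · ext r
    constructor
    · rintro ⟨hr, d, hd, hrd⟩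
      refine ⟨hr, ?_⟩
      rw [hsq]
      rcases hsub d hd with h | h | h | h | ⟨hodd, h | h⟩
      · rw [h] at hrd
        exact absurd (Nat.dvd_one.mp hrd) hr.one_lt.ne'
      · rw [h] at hrd
        exact Dvd.dvd.mul_right hrd _
      · rw [h] at hrd
        exact Dvd.dvd.mul_left (Dvd.dvd.mul_right hrd _) _
      · rw [h] at hrd
        exact Dvd.dvd.mul_left (Dvd.dvd.mul_left hrd _) _
      · rw [h] at hrd
        have : r ∣ q + 1 := by rw [← hhalf1 hodd]; exact Dvd.dvd.mul_left hrd 2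
        exact Dvd.dvd.mul_left (Dvd.dvd.mul_right this _) _
      · rw [h] at hrd
        have : r ∣ q - 1 := by rw [← hhalf2 hodd]; exact Dvd.dvd.mul_left hrd 2
        exact Dvd.dvd.mul_left (Dvd.dvd.mul_left this _) _
    · rintro ⟨hr, hrd⟩
      refine ⟨hr, ?_⟩
      rw [hsq] at hrd
      rcases (Nat.Prime.dvd_mul hr).mp hrd with h | h
      · exact ⟨q, h1, h⟩
      · rcases (Nat.Prime.dvd_mul hr).mp h with h | h
        · exact ⟨q + 1, h2, h⟩
        · exact ⟨q - 1, h3, h⟩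
  · intro r s
    constructor
    · rintro ⟨hne, hr, hs, d, hd, hrs⟩
      refine ⟨hne, hr, hs, ?_⟩
      have hrd : r ∣ d := (Dvd.intro _ rfl).trans hrs
      have hsd : s ∣ d := (Dvd.intro_left _ rfl).trans hrs
      rcases hsub d hd with h | h | h | h | ⟨hodd, h | h⟩
      · rw [h] at hrd
        exact absurd (Nat.dvd_one.mp hrd) hr.one_lt.ne'
      · exfalso
        rw [h] at hrd hsd
        obtain ⟨t, k, ht, hk, hq'⟩ := hpp
        have ht' : t.Prime := Nat.prime_iff.mpr ht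
        rw [← hq'] at hrd hsd
        have e1 := (Nat.prime_dvd_prime_iff_eq hr ht').mp (hr.dvd_of_dvd_pow hrd)
        have e2 := (Nat.prime_dvd_prime_iff_eq hs ht').mp (hs.dvd_of_dvd_pow hsd)
        exact hne (e1.trans e2.symm)
      · rw [h] at hrd hsd
        exact Or.inl ⟨hrd, hsd⟩
      · rw [h] at hrd hsd
        exact Or.inr ⟨hrd, hsd⟩
      · rw [h] at hrd hsd
        left
        rw [← hhalf1 hodd]
        exact ⟨Dvd.dvd.mul_left hrd 2, Dvd.dvd.mul_left hsd 2⟩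
      · rw [h] at hrd hsd
        right
        rw [← hhalf2 hodd]
        exact ⟨Dvd.dvd.mul_left hrd 2, Dvd.dvd.mul_left hsd 2⟩
    · rintro ⟨hne, hr, hs, h⟩
      refine ⟨hne, hr, hs, ?_⟩
      have hcop : Nat.Coprime r s := (Nat.coprime_primes hr hs).mpr hne
      rcases h with ⟨a, b⟩ | ⟨a, b⟩
      · exact ⟨q + 1, h2, hcop.mul_dvd_of_dvd_of_dvd a b⟩
      · exact ⟨q - 1, h3, hcop.mul_dvd_of_dvd_of_dvd a b⟩

section SLtwo

variable {F : Type*} [Field F] [Fintype F]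

local notation "SL2" => Matrix.SpecialLinearGroup (Fin 2) F
local notation "PSL2" => Matrix.ProjectiveSpecialLinearGroup (Fin 2) F
local notation "negOne" => (Cfsg.Agent.S2325.negOne : Matrix.SpecialLinearGroup (Fin 2) F)

theorem charDegrees_sl2_cases (d : ℕ) (hd : d ∈ charDegrees SL2) :
    d = 1 ∨ d = Fintype.card F ∨ d = Fintype.card F + 1 ∨ d = Fintype.card F - 1 ∨
      (Odd (Fintype.card F) ∧ (d = (Fintype.card F + 1) / 2 ∨ d = (Fintype.card F - 1) / 2)) := by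
  obtain ⟨χ, rfl⟩ := hd
  obtain ⟨n, hn, hcases⟩ := degree_cases χ.2
  rw [charDegree_eq' hn]
  exact hcases

theorem charDegrees_psl2_subset : charDegrees PSL2 ⊆ charDegrees SL2 := by
  rintro d ⟨χ, rfl⟩
  obtain ⟨hirr, h1⟩ := psl_inflate χ.2
  refine ⟨⟨_, hirr⟩, ?_⟩
  unfold charDegree
  exact congrArg (fun z : ℂ => ⌊z.re⌋₊) h1

theorem mem_charDegrees_sl2 {χ : SL2 → ℂ} (hχ : IsIrrCharacter SL2 χ) {n : ℕ}
    (hn : χ 1 = (n : ℂ)) : n ∈ charDegrees SL2 :=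
  ⟨⟨χ, hχ⟩, charDegree_eq' hn⟩

theorem mem_charDegrees_psl2 {χ : SL2 → ℂ} (hχ : IsIrrCharacter SL2 χ)
    (hconst : ∀ g n : SL2, n ∈ Subgroup.center SL2 → χ (g * n) = χ g) {n : ℕ}
    (hn : χ 1 = (n : ℂ)) : n ∈ charDegrees PSL2 := by
  obtain ⟨ψ, hψ, hψ1⟩ := psl_exists hχ hconst
  exact ⟨⟨ψ, hψ⟩, charDegree_eq' (hψ1.trans hn)⟩

/-- the degrees `q`, `q + 1`, `q - 1` occur for SL₂(q), `q ≥ 4` -/
theorem exists_degrees_sl2 (hq : 4 ≤ Fintype.card F) :
    (∃ χ : IrrCharacter SL2, (χ : SL2 → ℂ) 1 = (Fintype.card F : ℂ)) ∧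
    (∃ χ : IrrCharacter SL2, (χ : SL2 → ℂ) 1 = (Fintype.card F : ℂ) + 1) ∧
    (∃ χ : IrrCharacter SL2, (χ : SL2 → ℂ) 1 = (Fintype.card F : ℂ) - 1) := by
  have key : ∀ (P : IrrCharacter SL2 → Prop), 0 < Nat.card {χ : IrrCharacter SL2 // P χ} →
      ∃ χ : IrrCharacter SL2, P χ := by
    intro P h
    obtain ⟨⟨χ, hχ⟩⟩ := (Nat.card_pos_iff.mp h).1
    exact ⟨χ, hχ⟩
  rcases Nat.even_or_odd (Fintype.card F) with hev | hodd
  · have hc2 : ringChar F = 2 := (FiniteField.even_card_iff_char_two).mpr (Nat.even_iff.mp hev)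
    haveI : CharP F 2 := ringChar.of_eq hc2
    obtain ⟨-, c2, c3, c4⟩ := (Cfsg.Agent.S2300.result (F := F)).2 hq
    refine ⟨key _ (by rw [c2]; norm_num), key _ (by rw [c3]; omega), key _ (by rw [c4]; omega)⟩
  · have hq5 : 5 ≤ Fintype.card F := by
      obtain ⟨k, hk⟩ := hodd
      omega
    obtain ⟨-, c2, c3, c4, -⟩ := (Cfsg.Agent.S2299.result (F := F) hodd).2 hq5
    refine ⟨key _ (by rw [c2]; norm_num), key _ (by rw [c3]; omega), key _ (by rw [c4]; omega)⟩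

theorem card_mem_charDegrees_sl2 (hq : 4 ≤ Fintype.card F) :
    Fintype.card F ∈ charDegrees SL2 ∧ Fintype.card F + 1 ∈ charDegrees SL2 ∧
      Fintype.card F - 1 ∈ charDegrees SL2 := by
  have hq1 : 1 ≤ Fintype.card F := Fintype.card_pos
  obtain ⟨⟨χ₁, h1⟩, ⟨χ₂, h2⟩, ⟨χ₃, h3⟩⟩ := exists_degrees_sl2 (F := F) hq
  refine ⟨mem_charDegrees_sl2 χ₁.2 h1, mem_charDegrees_sl2 χ₂.2 ?_, mem_charDegrees_sl2 χ₃.2 ?_⟩
  · rw [h2]; push_cast; ring
  · rw [h3]; push_cast [Nat.cast_sub hq1]; ring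

/-- in characteristic two the centre is trivial -/
theorem center_trivial_of_even (hev : Even (Fintype.card F)) (n : SL2)
    (hn : n ∈ Subgroup.center SL2) : n = 1 := by
  have hc2 : ringChar F = 2 := (FiniteField.even_card_iff_char_two).mpr (Nat.even_iff.mp hev)
  haveI : CharP F 2 := ringChar.of_eq hc2
  rcases (Cfsg.Agent.S2508.mem_center_iff' n).mp hn with rfl | rfl
  · rfl
  · apply Subtype.ext
    rw [Cfsg.Agent.S2508.coe_negOne, Matrix.SpecialLinearGroup.coe_one]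
    exact CharTwo.neg_eq _

theorem charDegrees_psl2_even (hev : Even (Fintype.card F)) :
    charDegrees PSL2 = charDegrees SL2 := by
  apply Set.Subset.antisymm charDegrees_psl2_subset
  rintro d ⟨χ, rfl⟩
  obtain ⟨n, hn, -⟩ := degree_cases χ.2
  rw [charDegree_eq' hn]
  apply mem_charDegrees_psl2 χ.2 _ hn
  intro g n hn
  rw [center_trivial_of_even hev n hn, mul_one]

end SLtwo

end Cfsg.Agent.H9.DegreeGraphSL2
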