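import Mathlib

set_option autoImplicit false

/-! Arithmetic of the class equation for subgroups of `PSL₂(q)`. -/

namespace Cfsg.Agent.H9.DicksonArith

/-- numerical data of a class: `a = |C|/|Z|`, `ε = |N|/|C|`, `m = |G|/|N|` -/
structure Cls (g a ε m : ℕ) : Prop where
  ha : 2 ≤ a
  hε : ε = 1 ∨ ε = 2
  hg : g = a * ε * m

theorem Cls.m_pos {g a ε m : ℕ} (h : Cls g a ε m) (hg : 1 ≤ g) : 1 ≤ m := by
  rcases Nat.eq_zero_or_pos m with h0 | h0
  · have := h.hg
    rw [h0, mul_zero] at this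
    omega
  · exact h0

theorem Cls.two_m_le {g a ε m : ℕ} (h : Cls g a ε m) : 2 * m ≤ a * m :=
  Nat.mul_le_mul_right m h.ha

theorem Cls.g_eq {g a ε m : ℕ} (h : Cls g a ε m) : g = ε * (a * m) := by
  rw [h.hg]; ring

theorem Cls.term {g a ε m : ℕ} (_h : Cls g a ε m) : (a - 1) * m = a * m - m := by
  rw [Nat.sub_mul, one_mul]

/-- every class contributes at least a quarter -/
theorem Cls.quarter {g a ε m : ℕ} (h : Cls g a ε m) : g ≤ 4 * ((a - 1) * m) := by
  have h1 := h.two_m_le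
  have h2 := h.g_eq
  rw [h.term]
  rcases h.hε with h3 | h3 <;> rw [h3] at h2 <;> omega

theorem case1 {g a ε m : ℕ} (h : Cls g a ε m) (heq : (a - 1) * m + 1 = g) : ε = 1 ∧ a = g := by
  have hg1 : 1 ≤ g := by omega
  have hm := h.m_pos hg1
  have h1 := h.two_m_le
  have h2 := h.g_eq
  rw [h.term] at heq
  rcases h.hε with h3 | h3
  · refine ⟨h3, ?_⟩
    rw [h3] at h2
    have : m = 1 := by omega
    rw [this] at h2
    omega
  · rw [h3] at h2
    omega

theorem case2_aux {g a1 m1 a2 m2 : ℕ} (h1 : Cls g a1 1 m1) (h2 : Cls g a2 2 m2)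
    (heq : (a1 - 1) * m1 + (a2 - 1) * m2 + 1 = g) :
    2 * a2 = g ∨ (g = 12 ∧ a1 = 3 ∧ a2 = 2) := by
  have hg1 : 1 ≤ g := by omega
  have hm1 := h1.m_pos hg1
  have hm2 := h2.m_pos hg1
  have t1 := h1.two_m_le
  have t2 := h2.two_m_le
  have g1 := h1.g_eq
  have g2 := h2.g_eq
  rw [h1.term, h2.term] at heq
  have ha1 : a1 < 4 := by
    by_contra hcon
    have : 4 * m1 ≤ a1 * m1 := Nat.mul_le_mul_right m1 (by omega)
    omega
  have ha1' := h1.ha
  interval_cases a1
  · left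
    have : m2 = 1 := by omega
    have e := h2.hg
    rw [this] at e
    omega
  · right
    have ha2 : a2 < 3 := by
      by_contra hcon
      have : 3 * m2 ≤ a2 * m2 := Nat.mul_le_mul_right m2 (by omega)
      omega
    have ha2' := h2.ha
    interval_cases a2
    omega

theorem case2 {g a1 ε1 m1 a2 ε2 m2 : ℕ} (h1 : Cls g a1 ε1 m1) (h2 : Cls g a2 ε2 m2)
    (heq : (a1 - 1) * m1 + (a2 - 1) * m2 + 1 = g) :
    (ε1 = 2 ∧ 2 * a1 = g) ∨ (ε2 = 2 ∧ 2 * a2 = g) ∨
      (g = 12 ∧ a1 * ε1 ≠ 12 ∧ a2 * ε2 ≠ 12) := by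
  have hg1 : 1 ≤ g := by omega
  have hm1 := h1.m_pos hg1
  have hm2 := h2.m_pos hg1
  have t1 := h1.two_m_le
  have t2 := h2.two_m_le
  have g1 := h1.g_eq
  have g2 := h2.g_eq
  rcases h1.hε with e1 | e1 <;> rcases h2.hε with e2 | e2
  · exfalso
    rw [h1.term, h2.term] at heq
    rw [e1] at g1; rw [e2] at g2
    omega
  · subst e1; subst e2
    rcases case2_aux h1 h2 heq with h | ⟨h, ha, hb⟩
    · right; left; exact ⟨rfl, h⟩
    · right; right
      subst ha; subst hb
      exact ⟨h, by norm_num, by norm_num⟩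
  · subst e1; subst e2
    rcases case2_aux h2 h1 (by omega) with h | ⟨h, ha, hb⟩
    · left; exact ⟨rfl, h⟩
    · right; right
      subst ha; subst hb
      exact ⟨h, by norm_num, by norm_num⟩
  · exfalso
    rw [h1.term, h2.term] at heq
    rw [e1] at g1; rw [e2] at g2
    omega

theorem case3_aux2 {g m1 m2 a3 m3 : ℕ} (h1 : Cls g 2 2 m1) (h2 : Cls g 3 2 m2)
    (h3 : Cls g a3 2 m3) (ha3 : 3 ≤ a3)
    (heq : (2 - 1) * m1 + (3 - 1) * m2 + (a3 - 1) * m3 + 1 = g) :
    (g = 12 ∧ a3 = 3) ∨ (g = 24 ∧ a3 = 4) ∨ (g = 60 ∧ a3 = 5) := by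
  have hg1 : 1 ≤ g := by omega
  have g1 := h1.g_eq
  have g2 := h2.g_eq
  have g3 := h3.g_eq
  rw [h3.term] at heq
  have ha : a3 < 6 := by
    by_contra hcon
    have : 6 * m3 ≤ a3 * m3 := Nat.mul_le_mul_right m3 (by omega)
    omega
  interval_cases a3
  · left; omega
  · right; left; omega
  · right; right; omega

theorem case3_aux {g m1 a2 m2 a3 m3 : ℕ} (h1 : Cls g 2 2 m1) (h2 : Cls g a2 2 m2)
    (h3 : Cls g a3 2 m3)
    (heq : (2 - 1) * m1 + (a2 - 1) * m2 + (a3 - 1) * m3 + 1 = g) :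
    2 * a2 = g ∨ 2 * a3 = g ∨ (g = 12 ∧ a2 = 3 ∧ a3 = 3) ∨
      (g = 24 ∧ ((a2 = 3 ∧ a3 = 4) ∨ (a2 = 4 ∧ a3 = 3))) ∨
      (g = 60 ∧ ((a2 = 3 ∧ a3 = 5) ∨ (a2 = 5 ∧ a3 = 3))) := by
  have hg1 : 1 ≤ g := by omega
  have hm1 := h1.m_pos hg1
  have hm2 := h2.m_pos hg1
  have hm3 := h3.m_pos hg1
  have g1 := h1.g_eq
  have g2 := h2.g_eq
  have g3 := h3.g_eq
  have t2 := h2.two_m_le
  have t3 := h3.two_m_le
  have e2 := h2.term
  have e3 := h3.term
  by_cases ha2 : a2 = 2
  · right; left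
    subst ha2
    have : m3 = 1 := by omega
    have e := h3.hg
    rw [this] at e
    omega
  by_cases ha3 : a3 = 2
  · left
    subst ha3
    have : m2 = 1 := by omega
    have e := h2.hg
    rw [this] at e
    omega
  have ha2' : 3 ≤ a2 := by have := h2.ha; omega
  have ha3' : 3 ≤ a3 := by have := h3.ha; omega
  have hor : a2 = 3 ∨ a3 = 3 := by
    by_contra hcon
    push Not at hcon
    have k2 : 4 * m2 ≤ a2 * m2 := Nat.mul_le_mul_right m2 (by omega)
    have k3 : 4 * m3 ≤ a3 * m3 := Nat.mul_le_mul_right m3 (by omega)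
    omega
  rcases hor with h | h
  · subst h
    rcases case3_aux2 h1 h2 h3 ha3' heq with ⟨h, h'⟩ | ⟨h, h'⟩ | ⟨h, h'⟩
    · right; right; left; exact ⟨h, rfl, h'⟩
    · right; right; right; left; exact ⟨h, Or.inl ⟨rfl, h'⟩⟩
    · right; right; right; right; exact ⟨h, Or.inl ⟨rfl, h'⟩⟩
  · subst h
    rcases case3_aux2 h1 h3 h2 ha2' (by omega) with ⟨h, h'⟩ | ⟨h, h'⟩ | ⟨h, h'⟩
    · right; right; left; exact ⟨h, h', rfl⟩
    · right; right; right; left; exact ⟨h, Or.inr ⟨h', rfl⟩⟩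
    · right; right; right; right; exact ⟨h, Or.inr ⟨h', rfl⟩⟩

/-- the conclusion for three classes, given that the first has `a = 2` -/
theorem case3_first {g m1 a2 m2 a3 m3 : ℕ} (h1 : Cls g 2 2 m1) (h2 : Cls g a2 2 m2)
    (h3 : Cls g a3 2 m3)
    (heq : (2 - 1) * m1 + (a2 - 1) * m2 + (a3 - 1) * m3 + 1 = g) :
    2 * a2 = g ∨ 2 * a3 = g ∨ (g = 12 ∧ a2 * 2 ≠ 12 ∧ a3 * 2 ≠ 12) ∨
      (g = 24 ∧ a2 ≤ 4 ∧ a3 ≤ 4) ∨ (g = 60 ∧ a2 * 2 ≠ 60 ∧ a3 * 2 ≠ 60) := by
  rcases case3_aux h1 h2 h3 heq with h | h | ⟨h, ha, hb⟩ | ⟨h, ⟨ha, hb⟩ | ⟨ha, hb⟩⟩ |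
    ⟨h, ⟨ha, hb⟩ | ⟨ha, hb⟩⟩
  · left; exact h
  · right; left; exact h
  · right; right; left; subst ha; subst hb; exact ⟨h, by norm_num, by norm_num⟩
  · right; right; right; left; subst ha; subst hb; exact ⟨h, by norm_num, by norm_num⟩
  · right; right; right; left; subst ha; subst hb; exact ⟨h, by norm_num, by norm_num⟩
  · right; right; right; right; subst ha; subst hb; exact ⟨h, by norm_num, by norm_num⟩
  · right; right; right; right; subst ha; subst hb; exact ⟨h, by norm_num, by norm_num⟩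

theorem case3 {g a1 ε1 m1 a2 ε2 m2 a3 ε3 m3 : ℕ} (h1 : Cls g a1 ε1 m1) (h2 : Cls g a2 ε2 m2)
    (h3 : Cls g a3 ε3 m3)
    (heq : (a1 - 1) * m1 + (a2 - 1) * m2 + (a3 - 1) * m3 + 1 = g) :
    (ε1 = 2 ∧ 2 * a1 = g) ∨ (ε2 = 2 ∧ 2 * a2 = g) ∨ (ε3 = 2 ∧ 2 * a3 = g) ∨
      (g = 12 ∧ a1 * ε1 ≠ 12 ∧ a2 * ε2 ≠ 12 ∧ a3 * ε3 ≠ 12) ∨
      (g = 24 ∧ a1 ≤ 4 ∧ a2 ≤ 4 ∧ a3 ≤ 4) ∨
      (g = 60 ∧ a1 * ε1 ≠ 60 ∧ a2 * ε2 ≠ 60 ∧ a3 * ε3 ≠ 60) := by
  have hg1 : 1 ≤ g := by omega
  have hm1 := h1.m_pos hg1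
  have hm2 := h2.m_pos hg1
  have hm3 := h3.m_pos hg1
  have t1 := h1.two_m_le
  have t2 := h2.two_m_le
  have t3 := h3.two_m_le
  have g1 := h1.g_eq
  have g2 := h2.g_eq
  have g3 := h3.g_eq
  have e1 := h1.term
  have e2 := h2.term
  have e3 := h3.term
  -- all `ε` are two
  have hε1 : ε1 = 2 := by
    rcases h1.hε with h | h
    · exfalso
      rcases h2.hε with h' | h' <;> rcases h3.hε with h'' | h'' <;>
        rw [h] at g1 <;> rw [h'] at g2 <;> rw [h''] at g3 <;> omega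
    · exact h
  have hε2 : ε2 = 2 := by
    rcases h2.hε with h | h
    · exfalso
      rcases h1.hε with h' | h' <;> rcases h3.hε with h'' | h'' <;>
        rw [h] at g2 <;> rw [h'] at g1 <;> rw [h''] at g3 <;> omega
    · exact h
  have hε3 : ε3 = 2 := by
    rcases h3.hε with h | h
    · exfalso
      rcases h1.hε with h' | h' <;> rcases h2.hε with h'' | h'' <;>
        rw [h] at g3 <;> rw [h'] at g1 <;> rw [h''] at g2 <;> omega
    · exact h
  subst hε1; subst hε2; subst hε3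
  -- some `a` is two
  have hor : a1 = 2 ∨ a2 = 2 ∨ a3 = 2 := by
    by_contra hcon
    push Not at hcon
    have k1 : 3 * m1 ≤ a1 * m1 := Nat.mul_le_mul_right m1 (by have := h1.ha; omega)
    have k2 : 3 * m2 ≤ a2 * m2 := Nat.mul_le_mul_right m2 (by have := h2.ha; omega)
    have k3 : 3 * m3 ≤ a3 * m3 := Nat.mul_le_mul_right m3 (by have := h3.ha; omega)
    omega
  rcases hor with h | h | h
  · subst h
    rcases case3_first h1 h2 h3 heq with h | h | ⟨h, ha, hb⟩ | ⟨h, ha, hb⟩ | ⟨h, ha, hb⟩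
    · right; left; exact ⟨rfl, h⟩
    · right; right; left; exact ⟨rfl, h⟩
    · right; right; right; left; exact ⟨h, by norm_num, ha, hb⟩
    · right; right; right; right; left; exact ⟨h, by norm_num, ha, hb⟩
    · right; right; right; right; right; exact ⟨h, by norm_num, ha, hb⟩
  · subst h
    rcases case3_first h2 h1 h3 (by omega) with h | h | ⟨h, ha, hb⟩ | ⟨h, ha, hb⟩ | ⟨h, ha, hb⟩
    · left; exact ⟨rfl, h⟩
    · right; right; left; exact ⟨rfl, h⟩
    · right; right; right; left; exact ⟨h, ha, by norm_num, hb⟩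
    · right; right; right; right; left; exact ⟨h, ha, by norm_num, hb⟩
    · right; right; right; right; right; exact ⟨h, ha, by norm_num, hb⟩
  · subst h
    rcases case3_first h3 h1 h2 (by omega) with h | h | ⟨h, ha, hb⟩ | ⟨h, ha, hb⟩ | ⟨h, ha, hb⟩
    · left; exact ⟨rfl, h⟩
    · right; left; exact ⟨rfl, h⟩
    · right; right; right; left; exact ⟨h, ha, hb, by norm_num⟩
    · right; right; right; right; left; exact ⟨h, ha, hb, by norm_num⟩
    · right; right; right; right; right; exact ⟨h, ha, hb, by norm_num⟩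

section finset

variable {ι : Type*} [DecidableEq ι]

omit [DecidableEq ι] in
theorem card_le_three (s : Finset ι) (a ε m : ι → ℕ) (g : ℕ)
    (hc : ∀ x ∈ s, Cls g (a x) (ε x) (m x))
    (heq : ∑ x ∈ s, (a x - 1) * m x + 1 = g) : s.card ≤ 3 := by
  have h1 : s.card • g ≤ ∑ x ∈ s, 4 * ((a x - 1) * m x) :=
    Finset.card_nsmul_le_sum _ _ _ (fun x hx => (hc x hx).quarter)
  rw [← Finset.mul_sum, smul_eq_mul] at h1
  by_contra hcon
  push Not at hcon
  have : 4 * g ≤ s.card * g := Nat.mul_le_mul_right g hcon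
  omega

/-- the arithmetic of the class equation when all classes have `ε ≤ 2` -/
theorem arith_I (s : Finset ι) (a ε m : ι → ℕ) (g : ℕ)
    (hc : ∀ x ∈ s, Cls g (a x) (ε x) (m x))
    (heq : ∑ x ∈ s, (a x - 1) * m x + 1 = g) :
    g = 1 ∨ (∃ x ∈ s, ε x = 1 ∧ a x = g) ∨ (∃ x ∈ s, ε x = 2 ∧ 2 * a x = g) ∨
      (g = 12 ∧ ∀ x ∈ s, a x * ε x ≠ 12) ∨ (g = 24 ∧ ∀ x ∈ s, a x ≤ 4) ∨
      (g = 60 ∧ ∀ x ∈ s, a x * ε x ≠ 60) := by
  have h3 := card_le_three s a ε m g hc heq
  obtain h | h | h | h : s.card = 0 ∨ s.card = 1 ∨ s.card = 2 ∨ s.card = 3 := by omega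
  · left
    rw [Finset.card_eq_zero] at h
    rw [h, Finset.sum_empty] at heq
    omega
  · right; left
    obtain ⟨x, rfl⟩ := Finset.card_eq_one.1 h
    rw [Finset.sum_singleton] at heq
    have := case1 (hc x (Finset.mem_singleton_self x)) heq
    exact ⟨x, Finset.mem_singleton_self x, this⟩
  · right; right
    obtain ⟨x, y, hxy, rfl⟩ := Finset.card_eq_two.1 h
    rw [Finset.sum_pair hxy] at heq
    have hx : x ∈ ({x, y} : Finset ι) := by simp
    have hy : y ∈ ({x, y} : Finset ι) := by simp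
    rcases case2 (hc x hx) (hc y hy) heq with h | h | ⟨h, ha, hb⟩
    · left; exact ⟨x, hx, h⟩
    · left; exact ⟨y, hy, h⟩
    · right; left
      refine ⟨h, ?_⟩
      intro w hw
      rw [Finset.mem_insert, Finset.mem_singleton] at hw
      rcases hw with rfl | rfl
      · exact ha
      · exact hb
  · right; right
    obtain ⟨x, y, z, hxy, hxz, hyz, rfl⟩ := Finset.card_eq_three.1 h
    have hx : x ∈ ({x, y, z} : Finset ι) := by simp
    have hy : y ∈ ({x, y, z} : Finset ι) := by simp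
    have hz : z ∈ ({x, y, z} : Finset ι) := by simp
    rw [Finset.sum_insert (by simp [hxy, hxz]), Finset.sum_pair hyz, ← add_assoc] at heq
    have hall : ∀ (P : ι → Prop), P x → P y → P z → ∀ w ∈ ({x, y, z} : Finset ι), P w := by
      intro P px py pz w hw
      rw [Finset.mem_insert, Finset.mem_insert, Finset.mem_singleton] at hw
      rcases hw with rfl | rfl | rfl
      · exact px
      · exact py
      · exact pz
    rcases case3 (hc x hx) (hc y hy) (hc z hz) heq with h | h | h | ⟨h, ha, hb, hc'⟩ |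
      ⟨h, ha, hb, hc'⟩ | ⟨h, ha, hb, hc'⟩
    · left; exact ⟨x, hx, h⟩
    · left; exact ⟨y, hy, h⟩
    · left; exact ⟨z, hz, h⟩
    · right; left; exact ⟨h, hall _ ha hb hc'⟩
    · right; right; left; exact ⟨h, hall _ ha hb hc'⟩
    · right; right; right; exact ⟨h, hall _ ha hb hc'⟩

/-- number theory of the generic case -/
theorem generic_nt {S' T k a2 : ℕ} (hT : T ∣ S' + 1) (hS' : 2 ≤ S') (hk : 1 ≤ k)
    (h : a2 * (1 + k * S') = T * (1 + k * (S' + 2))) :
    k = 1 ∧ (T = S' + 1 ∨ 2 * T = S' + 1) := by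
  set D := 1 + k * S' with hD
  have hn : 1 + k * (S' + 2) = D + 2 * k := by rw [hD]; ring
  rw [hn] at h
  have hTle : T ≤ S' + 1 := Nat.le_of_dvd (by omega) hT
  have hTpos : 0 < T := Nat.pos_of_dvd_of_pos hT (by omega)
  have hdvd : D ∣ 2 * T * k := by
    have h1 : D ∣ T * D + 2 * T * k := by
      have : T * D + 2 * T * k = a2 * D := by rw [h]; ring
      rw [this]; exact dvd_mul_left D a2
    exact (Nat.dvd_add_right (dvd_mul_left D T)).1 h1
  have hcop : Nat.Coprime D k := by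
    rw [hD]
    simp
  have hdvd2 : D ∣ 2 * T := hcop.dvd_of_dvd_mul_right hdvd
  have hle : D ≤ 2 * T := Nat.le_of_dvd (by omega) hdvd2
  have hk2 : k ≤ 2 := by
    by_contra hcon
    have : 3 * S' ≤ k * S' := Nat.mul_le_mul_right S' (by omega)
    omega
  have hk1 : k = 1 := by
    by_contra hcon
    have hk2' : k = 2 := by omega
    subst hk2'
    have hcop2 : Nat.Coprime D 2 := by
      rw [hD]
      simp
    have hdvd3 : D ∣ T := hcop2.dvd_of_dvd_mul_left hdvd2
    have := Nat.le_of_dvd hTpos hdvd3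
    omega
  refine ⟨hk1, ?_⟩
  subst hk1
  have hD' : D = S' + 1 := by rw [hD]; ring
  rw [hD'] at hdvd2
  obtain ⟨j, hj⟩ := hT
  rw [hj] at hdvd2
  have hj2 : j ∣ 2 := by
    have : T * j ∣ T * 2 := by rw [mul_comm T 2]; exact hdvd2
    exact Nat.dvd_of_mul_dvd_mul_left hTpos this
  have hj' : j = 1 ∨ j = 2 := by
    have := Nat.le_of_dvd (by norm_num) hj2
    interval_cases j
    · simp at hj2
    · left; rfl
    · right; rfl
  rcases hj' with rfl | rfl
  · left; omega
  · right; omega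

/-- the arithmetic of the class equation in the presence of unipotent elements, `t ≥ 3` -/
theorem arith_II (s : Finset ι) (a ε m : ι → ℕ) (g S T n k : ℕ) (x0 x1 : ι)
    (hx0 : x0 ∈ s) (hx1 : x1 ∈ s) (h01 : x0 ≠ x1)
    (ha0 : a x0 = S) (hm0 : m x0 = n) (hg0 : g = S * T * n) (hn : n = 1 + k * S)
    (hT : T ∣ S - 1) (hT3 : 3 ≤ T) (hS : 2 ≤ S)
    (ha1 : a x1 = T) (hk : ε x1 = 2 → 1 ≤ k)
    (hc : ∀ x ∈ s, x ≠ x0 → Cls g (a x) (ε x) (m x))
    (heq : ∑ x ∈ s, (a x - 1) * m x + 1 = g) :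
    k = 0 ∨ (k = 1 ∧ ε x1 = 2 ∧ (T = S - 1 ∨ 2 * T = S - 1)) := by
  have hTle : T ≤ S - 1 := Nat.le_of_dvd (by omega) hT
  have hS4 : 4 ≤ S := by omega
  have hg1 : 1 ≤ g := by omega
  have hnpos : 1 ≤ n := by omega
  set f : ι → ℕ := fun x => (a x - 1) * m x with hf
  set s' := (s.erase x0).erase x1 with hs'
  have hx1' : x1 ∈ s.erase x0 := Finset.mem_erase.2 ⟨Ne.symm h01, hx1⟩
  have hsum : f x0 + (f x1 + ∑ x ∈ s', f x) = ∑ x ∈ s, f x := by
    rw [Finset.add_sum_erase _ f hx1', Finset.add_sum_erase _ f hx0]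
  set rest := ∑ x ∈ s', f x with hrest
  have hmem : ∀ x ∈ s', x ∈ s ∧ x ≠ x0 ∧ x ≠ x1 := by
    intro x hx
    rw [hs', Finset.mem_erase, Finset.mem_erase] at hx
    exact ⟨hx.2.2, hx.2.1, hx.1⟩
  have hcls : ∀ x ∈ s', Cls g (a x) (ε x) (m x) := fun x hx =>
    hc x (hmem x hx).1 (hmem x hx).2.1
  have hle : ∀ x ∈ s', f x ≤ rest := fun x hx =>
    Finset.single_le_sum (f := f) (fun _ _ => Nat.zero_le _) hx
  have c1 := hc x1 hx1 (Ne.symm h01)
  rw [ha1] at c1
  have hf0 : f x0 = S * n - n := by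
    rw [hf]; simp only; rw [ha0, hm0, Nat.sub_mul, one_mul]
  have hf1 : f x1 = T * m x1 - m x1 := by
    rw [hf]; simp only; rw [ha1, Nat.sub_mul, one_mul]
  have hU : 2 * n ≤ S * n := Nat.mul_le_mul_right n hS
  have hgU : g = T * (S * n) := by rw [hg0]; ring
  have hg3U : 3 * (S * n) ≤ g := by rw [hgU]; exact Nat.mul_le_mul_right _ hT3
  have hTpos : 0 < T := by omega
  rw [← hsum, hf0, hf1] at heq
  rcases c1.hε with he | he
  · -- `ε = 1`
    left
    have hm1 : m x1 = S * n := by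
      have := c1.hg
      rw [he, mul_one, hgU] at this
      exact (Nat.eq_of_mul_eq_mul_left hTpos this).symm
    have hV : g = T * m x1 := by rw [hm1]; exact hgU
    have hrest1 : rest + 1 = n := by omega
    have hempty : s' = ∅ := by
      by_contra hne
      obtain ⟨x, hx⟩ := Finset.nonempty_iff_ne_empty.2 hne
      have h1 := (hcls x hx).quarter
      have h2 := hle x hx
      have h3 : 12 * n ≤ g := by
        have : 4 * n ≤ S * n := Nat.mul_le_mul_right n hS4
        omega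
      have h4 : g ≤ 4 * f x := h1
      omega
    have : rest = 0 := by rw [hrest, hempty, Finset.sum_empty]
    have hn1 : n = 1 := by omega
    rw [hn1] at hn
    have : k * S = 0 := by omega
    rcases Nat.mul_eq_zero.1 this with h | h
    · exact h
    · omega
  · -- `ε = 2`
    right
    have hk1 := hk he
    have hm1 : 2 * m x1 = S * n := by
      have := c1.hg
      rw [he, hgU, mul_assoc] at this
      exact (Nat.eq_of_mul_eq_mul_left hTpos this).symm
    have hV : g = 2 * (T * m x1) := by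
      have := c1.hg
      rw [he] at this
      rw [this]; ring
    have hrest2 : 2 * rest + (S * n) + 2 = g + 2 * n := by omega
    -- all other classes have `ε = 2`
    have hε2 : ∀ x ∈ s', ε x = 2 := by
      intro x hx
      have cx := hcls x hx
      rcases cx.hε with h | h
      · exfalso
        have h1 := cx.g_eq
        rw [h, one_mul] at h1
        have h2 := cx.two_m_le
        have h3 := hle x hx
        have h4 : f x = a x * m x - m x := by rw [hf]; exact cx.term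
        omega
      · exact h
    have hcard : s'.card ≤ 1 := by
      by_contra hcon
      push Not at hcon
      obtain ⟨x, hx, y, hy, hxy⟩ := Finset.one_lt_card.1 hcon
      have h1 := (hcls x hx).quarter
      have h2 := (hcls y hy).quarter
      have hsub : ({x, y} : Finset ι) ⊆ s' := by
        intro w hw
        rw [Finset.mem_insert, Finset.mem_singleton] at hw
        rcases hw with rfl | rfl
        · exact hx
        · exact hy
      have h3 : ∑ w ∈ ({x, y} : Finset ι), f w ≤ rest :=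
        Finset.sum_le_sum_of_subset hsub
      rw [Finset.sum_pair hxy] at h3
      have h4 : g ≤ 4 * f x := h1
      have h5 : g ≤ 4 * f y := h2
      omega
    have hne : s' ≠ ∅ := by
      intro hempty
      have : rest = 0 := by rw [hrest, hempty, Finset.sum_empty]
      omega
    have hcard1 : s'.card = 1 := by
      have : s'.card ≠ 0 := fun h => hne (Finset.card_eq_zero.1 h)
      omega
    obtain ⟨x2, hx2⟩ := Finset.card_eq_one.1 hcard1
    have hx2m : x2 ∈ s' := by rw [hx2]; exact Finset.mem_singleton_self x2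
    have c2 := hcls x2 hx2m
    have he2 := hε2 x2 hx2m
    rw [he2] at c2
    have hrest3 : rest = a x2 * m x2 - m x2 := by
      rw [hrest, hx2, Finset.sum_singleton, hf]; exact c2.term
    have hg2 := c2.g_eq
    have ht2 := c2.two_m_le
    have h2m2 : 2 * m x2 + 2 * n = S * n + 2 := by omega
    -- substitute `S = S' + 2`
    obtain ⟨S', rfl⟩ : ∃ S', S = S' + 2 := ⟨S - 2, by omega⟩
    have e1 : 2 * m x2 = (S' + 2) * (1 + k * S') := by
      have h1 : (S' + 2) * n = S' * n + 2 * n := by ring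
      have h2 : 2 * m x2 = S' * n + 2 := by omega
      rw [h2, hn]; ring
    have e2 : a x2 * (1 + k * S') = T * (1 + k * (S' + 2)) := by
      have hpos : 0 < S' + 2 := by omega
      apply Nat.eq_of_mul_eq_mul_left hpos
      calc (S' + 2) * (a x2 * (1 + k * S')) = a x2 * ((S' + 2) * (1 + k * S')) := by ring
        _ = a x2 * (2 * m x2) := by rw [e1]
        _ = 2 * (a x2 * m x2) := by ring
        _ = g := hg2.symm
        _ = (S' + 2) * T * n := hg0
        _ = (S' + 2) * (T * (1 + k * (S' + 2))) := by rw [hn]; ring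
    have hT' : T ∣ S' + 1 := by
      have : S' + 2 - 1 = S' + 1 := by omega
      rw [this] at hT; exact hT
    obtain ⟨hk1', hor⟩ := generic_nt hT' (by omega) hk1 e2
    refine ⟨hk1', he, ?_⟩
    have : S' + 2 - 1 = S' + 1 := by omega
    rw [this]; exact hor

end finset

end Cfsg.Agent.H9.DicksonArith
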