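import Mathlib
import Cfsg.Agent.H9.AutPSL2Sylow

set_option autoImplicit false

/-! The conclusion of Dickson's theorem, its invariance, and the Borel case. -/

namespace Cfsg.Agent.H9.DicksonConcl

open Matrix
open Cfsg.Agent.H9.AutPSL2

universe u v w

section defs

variable (F : Type u) [Field F] [Fintype F]

local notation "SL2" => Matrix.SpecialLinearGroup (Fin 2) F
local notation "PSL2" => Matrix.ProjectiveSpecialLinearGroup (Fin 2) F

/-- the conclusion of Dickson's theorem for a group `X` -/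
def Concl (q p : ℕ) [Fact p.Prime] (X : Type v) [Group X] : Prop :=
  (∃ k : ℕ, (k ∣ (q + 1) / Nat.gcd 2 (q - 1) ∨ k ∣ (q - 1) / Nat.gcd 2 (q - 1)) ∧
    ((IsCyclic X ∧ Nat.card X = k) ∨ Nonempty (X ≃* DihedralGroup k))) ∨
  (∃ (P : Sylow p PSL2) (K : Subgroup PSL2),
    K ≤ Subgroup.normalizer ((P : Subgroup PSL2) : Set PSL2) ∧ Nonempty (X ≃* K)) ∨
  Nonempty (X ≃* alternatingGroup (Fin 4)) ∨ Nonempty (X ≃* Equiv.Perm (Fin 4)) ∨
  Nonempty (X ≃* alternatingGroup (Fin 5)) ∨
  (∃ (K : Type) (_ : Field K) (_ : Fintype K) (m : ℕ), Fintype.card K ^ m = q ∧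
    (Nonempty (X ≃* Matrix.ProjectiveSpecialLinearGroup (Fin 2) K) ∨
      Nonempty (X ≃* Matrix.ProjGenLinGroup (Fin 2) K)))

variable {F}

theorem Concl.congr {q p : ℕ} [Fact p.Prime] {X : Type v} [Group X] {Y : Type w} [Group Y]
    (e : X ≃* Y) (h : Concl F q p X) : Concl F q p Y := by
  rcases h with ⟨k, hk, h | ⟨⟨f⟩⟩⟩ | ⟨P, K, hK, ⟨f⟩⟩ | ⟨⟨f⟩⟩ | ⟨⟨f⟩⟩ | ⟨⟨f⟩⟩ | ⟨K, i1, i2, m, hm, ⟨⟨f⟩⟩ | ⟨⟨f⟩⟩⟩
  · left
    refine ⟨k, hk, Or.inl ⟨?_, ?_⟩⟩
    · have := h.1
      exact isCyclic_of_surjective e.toMonoidHom e.surjective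
    · rw [← h.2]; exact (Nat.card_congr e.toEquiv).symm
  · left
    exact ⟨k, hk, Or.inr ⟨e.symm.trans f⟩⟩
  · right; left
    exact ⟨P, K, hK, ⟨e.symm.trans f⟩⟩
  · right; right; left
    exact ⟨e.symm.trans f⟩
  · right; right; right; left
    exact ⟨e.symm.trans f⟩
  · right; right; right; right; left
    exact ⟨e.symm.trans f⟩
  · right; right; right; right; right
    exact ⟨K, i1, i2, m, hm, Or.inl ⟨e.symm.trans f⟩⟩
  · right; right; right; right; right
    exact ⟨K, i1, i2, m, hm, Or.inr ⟨e.symm.trans f⟩⟩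

/-- the image in `PSL₂` of the image of `G` under an automorphism of `SL₂` -/
noncomputable def mapEquiv (e : SL2 ≃* SL2) (G : Subgroup SL2) :
    ↥(G.map (pr : SL2 →* PSL2)) ≃* ↥((G.map e.toMonoidHom).map (pr : SL2 →* PSL2)) := by
  have h : (G.map e.toMonoidHom).map (pr : SL2 →* PSL2) =
      (G.map (pr : SL2 →* PSL2)).map (lift e).toMonoidHom := by
    ext z
    constructor
    · rintro ⟨_, ⟨g, hg, rfl⟩, rfl⟩
      exact ⟨pr g, ⟨g, hg, rfl⟩, lift_pr e g⟩
    · rintro ⟨_, ⟨g, hg, rfl⟩, rfl⟩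
      exact ⟨e g, ⟨g, hg, rfl⟩, (lift_pr e g).symm⟩
  exact ((G.map (pr : SL2 →* PSL2)).equivMapOfInjective (lift e).toMonoidHom
    (lift e).injective).trans (MulEquiv.subgroupCongr h.symm)

theorem Concl.transport {q p : ℕ} [Fact p.Prime] (e : SL2 ≃* SL2) (G : Subgroup SL2)
    (h : Concl F q p ↥((G.map e.toMonoidHom).map (pr : SL2 →* PSL2))) :
    Concl F q p ↥(G.map (pr : SL2 →* PSL2)) :=
  h.congr (mapEquiv e G).symm

/-- the order of the centre of `SL₂(F)` -/
theorem card_center : Nat.card (Subgroup.center SL2) = Nat.gcd 2 (Fintype.card F - 1) := by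
  by_cases h2 : (2 : F) = 0
  · -- characteristic two
    have h1 : (-1 : SL2) = 1 := by
      have hm : (-1 : F) = 1 := by linear_combination -h2
      apply ext4 <;> simp [hm]
    have hbot : Subgroup.center SL2 = ⊥ := by
      rw [Subgroup.eq_bot_iff_forall]
      intro z hz
      rcases (mem_center_iff' z).1 hz with h | h
      · exact h
      · rw [h, h1]
    rw [hbot, Subgroup.card_bot]
    have : CharP F 2 := by
      apply CharTwo.of_one_ne_zero_of_two_eq_zero one_ne_zero h2
    have heven : Even (Fintype.card F) := by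
      obtain ⟨n, -, hn⟩ := FiniteField.card F 2
      rw [hn]
      exact (Nat.even_pow.2 ⟨even_two, n.ne_zero⟩)
    have hpos : 0 < Fintype.card F := Fintype.card_pos
    obtain ⟨r, hr⟩ := heven
    have e : Fintype.card F - 1 = 2 * (r - 1) + 1 := by omega
    rw [e]
    simp
  · have hne : (-1 : SL2) ≠ 1 := by
      intro h
      have := congrArg (fun g : SL2 => g.1 0 0) h
      simp only [neg_00] at this
      apply h2
      have h' : (-1 : F) = 1 := by simpa using this
      linear_combination -h'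
    have hcard : Nat.card (Subgroup.center SL2) = 2 := by
      rw [Nat.card_eq_two_iff]
      refine ⟨⟨1, (mem_center_iff' 1).2 (Or.inl rfl)⟩, ⟨-1, (mem_center_iff' (-1)).2 (Or.inr rfl)⟩,
        ?_, ?_⟩
      · intro h
        exact hne (congrArg Subtype.val h).symm
      · ext z
        simp only [Set.mem_insert_iff, Set.mem_singleton_iff, Set.mem_univ, iff_true]
        rcases (mem_center_iff' z.1).1 z.2 with h | h
        · left; exact Subtype.ext h
        · right; exact Subtype.ext h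
    rw [hcard]
    have hodd : Odd (Fintype.card F) := by
      rw [Nat.odd_iff]
      apply FiniteField.odd_card_of_char_ne_two
      intro hch
      apply h2
      have : CharP F 2 := ringChar.of_eq hch
      exact CharTwo.two_eq_zero
    obtain ⟨r, hr⟩ := hodd
    have : Fintype.card F - 1 = 2 * r := by omega
    rw [this]
    simp

end defs

section borel

variable {F : Type u} [Field F] [Fintype F]

local notation "SL2" => Matrix.SpecialLinearGroup (Fin 2) F
local notation "PSL2" => Matrix.ProjectiveSpecialLinearGroup (Fin 2) F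

/-- a group of upper triangular matrices normalizes a Sylow `p`-subgroup -/
theorem borel_of (q p : ℕ) [Fact p.Prime] [CharP F p] (G : Subgroup SL2)
    (hB : ∀ g ∈ G, g.1 1 0 = 0) : Concl F q p ↥(G.map (pr : SL2 →* PSL2)) := by
  right; left
  have hfac := factorization_card (F := F) p
  have hU' : Nat.card (uHom : Multiplicative F →* PSL2).range
      = p ^ (Nat.card PSL2).factorization p := by rw [card_uHom_range, ← hfac]
  refine ⟨Sylow.ofCard _ hU', G.map (pr : SL2 →* PSL2), ?_, ⟨MulEquiv.refl _⟩⟩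
  have key : ∀ g ∈ G, ∀ z ∈ (uHom : Multiplicative F →* PSL2).range,
      pr g * z * (pr g)⁻¹ ∈ (uHom : Multiplicative F →* PSL2).range := by
    intro g hg z hz
    obtain ⟨b, rfl⟩ := (mem_uHom_range z).1 hz
    rw [mem_uHom_range]
    refine ⟨(g.1 0 0) ^ 2 * b, ?_⟩
    rw [← map_inv, ← map_mul, ← map_mul, conj_u_of_eq g (hB g hg) b]
    congr 1
    group
  rintro _ ⟨g, hg, rfl⟩
  rw [Subgroup.mem_normalizer_iff]
  intro z
  show z ∈ (uHom : Multiplicative F →* PSL2).range ↔
    pr g * z * (pr g)⁻¹ ∈ (uHom : Multiplicative F →* PSL2).range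
  constructor
  · exact key g hg z
  · intro hz
    have := key g⁻¹ (G.inv_mem hg) _ hz
    rw [map_inv] at this
    convert this using 1
    group

end borel

end Cfsg.Agent.H9.DicksonConcl
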