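import Mathlib

set_option autoImplicit false

/-! Abstract class equation for groups whose centralizers of non-central elements are
commutative (`CA` modulo a central subgroup). -/

namespace Cfsg.Agent.H9.DicksonCE

variable {G : Type*} [Group G]

/-- `Z` is central and centralizers of elements outside `Z` are commutative -/
structure CA (Z : Subgroup G) : Prop where
  central : ∀ z ∈ Z, ∀ g : G, g * z = z * g
  comm : ∀ x : G, x ∉ Z → ∀ a b : G, a * x = x * a → b * x = x * b → a * b = b * a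

/-- the centralizer of an element -/
def Cent (x : G) : Subgroup G := Subgroup.centralizer {x}

theorem mem_Cent {x y : G} : y ∈ Cent x ↔ y * x = x * y := by
  unfold Cent
  rw [Subgroup.mem_centralizer_iff]
  constructor
  · intro h; exact (h x rfl).symm
  · intro h z hz
    rw [Set.mem_singleton_iff] at hz
    rw [hz]; exact h.symm

/-- the normalizer of the centralizer -/
def Nor (x : G) : Subgroup G := Subgroup.normalizer (Cent x : Set G)

/-- `y` commutes with a conjugate of `x` -/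
def R (x y : G) : Prop := ∃ g : G, y * (g * x * g⁻¹) = (g * x * g⁻¹) * y

variable {Z : Subgroup G}

theorem conj_not_mem (h : CA Z) {x : G} (hx : x ∉ Z) (g : G) : g * x * g⁻¹ ∉ Z := by
  intro hm
  apply hx
  have h1 := h.central _ hm g⁻¹
  have : x = g * x * g⁻¹ := by
    calc x = g⁻¹ * (g * x * g⁻¹) * g := by group
      _ = (g * x * g⁻¹) * g⁻¹ * g := by rw [h1]
      _ = g * x * g⁻¹ := by group
  rw [this]; exact hm

theorem Z_le_Cent (h : CA Z) (x : G) : Z ≤ Cent x := by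
  intro z hz
  rw [mem_Cent]
  exact (h.central z hz x).symm

theorem Cent_eq (h : CA Z) {x y : G} (hx : x ∉ Z) (hy : y ∉ Z) (hxy : y * x = x * y) :
    Cent y = Cent x := by
  ext a
  rw [mem_Cent, mem_Cent]
  constructor
  · intro ha
    exact h.comm y hy a x ha hxy.symm
  · intro ha
    exact h.comm x hx a y ha hxy

theorem mem_Cent_conj {x y g : G} : y ∈ Cent (g * x * g⁻¹) ↔ g⁻¹ * y * g ∈ Cent x := by
  rw [mem_Cent, mem_Cent]
  constructor
  · intro h1
    calc g⁻¹ * y * g * x = g⁻¹ * (y * (g * x * g⁻¹)) * g := by group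
      _ = g⁻¹ * ((g * x * g⁻¹) * y) * g := by rw [h1]
      _ = x * (g⁻¹ * y * g) := by group
  · intro h1
    calc y * (g * x * g⁻¹) = g * (g⁻¹ * y * g * x) * g⁻¹ := by group
      _ = g * (x * (g⁻¹ * y * g)) * g⁻¹ := by rw [h1]
      _ = g * x * g⁻¹ * y := by group

theorem R_refl (x : G) : R x x := ⟨1, by simp⟩

theorem R_symm {x y : G} (hxy : R x y) : R y x := by
  obtain ⟨g, hg⟩ := hxy
  refine ⟨g⁻¹, ?_⟩
  have h1 : g⁻¹ * y * g ∈ Cent x := mem_Cent_conj.1 (mem_Cent.2 hg)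
  rw [mem_Cent] at h1
  rw [inv_inv]
  exact h1.symm

theorem R_trans (h : CA Z) {x y z : G} (hx : x ∉ Z) (hy : y ∉ Z)
    (hxy : R x y) (hyz : R y z) : R x z := by
  obtain ⟨g, hg⟩ := hxy
  obtain ⟨k, hk⟩ := hyz
  refine ⟨k * g, ?_⟩
  have e : k * g * x * (k * g)⁻¹ = k * (g * x * g⁻¹) * k⁻¹ := by group
  rw [e]
  -- `k y k⁻¹` commutes with `k (g x g⁻¹) k⁻¹`
  have h1 : (k * y * k⁻¹) * (k * (g * x * g⁻¹) * k⁻¹) = (k * (g * x * g⁻¹) * k⁻¹) * (k * y * k⁻¹) := by
    calc (k * y * k⁻¹) * (k * (g * x * g⁻¹) * k⁻¹) = k * (y * (g * x * g⁻¹)) * k⁻¹ := by group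
      _ = k * ((g * x * g⁻¹) * y) * k⁻¹ := by rw [hg]
      _ = _ := by group
  have n1 : k * y * k⁻¹ ∉ Z := conj_not_mem h hy k
  have n2 : k * (g * x * g⁻¹) * k⁻¹ ∉ Z := conj_not_mem h (conj_not_mem h hx g) k
  have h2 := Cent_eq h n2 n1 h1
  have : z ∈ Cent (k * y * k⁻¹) := mem_Cent.2 hk
  rw [h2] at this
  exact mem_Cent.1 this

theorem mem_Nor_iff (h : CA Z) {x : G} (hx : x ∉ Z) (g : G) :
    g ∈ Nor x ↔ (g * x * g⁻¹) * x = x * (g * x * g⁻¹) := by
  unfold Nor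
  rw [Subgroup.mem_normalizer_iff]
  constructor
  · intro hg
    have : x ∈ Cent x := mem_Cent.2 rfl
    exact mem_Cent.1 ((hg x).1 this)
  · intro hg a
    have n1 : g * x * g⁻¹ ∉ Z := conj_not_mem h hx g
    have h2 : Cent (g * x * g⁻¹) = Cent x := Cent_eq h hx n1 hg
    constructor
    · intro ha
      rw [← h2, mem_Cent_conj]
      have : g⁻¹ * (g * a * g⁻¹) * g = a := by group
      rw [this]; exact ha
    · intro ha
      rw [← h2, mem_Cent_conj] at ha
      have : g⁻¹ * (g * a * g⁻¹) * g = a := by group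
      rw [this] at ha; exact ha

/-- the class of `x` -/
def T (Z : Subgroup G) (x : G) : Set G := {y | y ∉ Z ∧ R x y}

theorem T_disjoint (h : CA Z) {x y : G} (hx : x ∉ Z) (hy : y ∉ Z) (hxy : ¬ R x y) :
    Disjoint (T Z x) (T Z y) := by
  rw [Set.disjoint_left]
  rintro z ⟨hz, h1⟩ ⟨_, h2⟩
  exact hxy (R_trans h hx hz h1 (R_symm h2))

section count

variable [Finite G]

/-- the elements of the centralizer outside `Z` -/
def D (Z : Subgroup G) (x : G) : Set G := {c | c ∈ Cent x ∧ c ∉ Z}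

theorem card_D (h : CA Z) (x : G) : Nat.card (D Z x) = Nat.card (Cent x) - Nat.card Z := by
  have e : D Z x = (Cent x : Set G) \ (Z : Set G) := by
    ext c; simp [D]
  rw [e, Nat.card_coe_set_eq, Set.ncard_diff (Z_le_Cent h x) (Set.toFinite _),
    ← Nat.card_coe_set_eq, ← Nat.card_coe_set_eq]
  rfl

/-- the incidence set -/
def W (Z : Subgroup G) (x : G) : Set (G × G) :=
  {p | p.2 ∉ Z ∧ p.2 ∈ Cent (p.1 * x * p.1⁻¹)}

theorem card_W1 (h : CA Z) (x : G) : Nat.card (W Z x) = Nat.card G * Nat.card (D Z x) := by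
  rw [← Nat.card_prod]
  apply Nat.card_congr
  refine ⟨fun p => (p.1.1, ⟨p.1.1⁻¹ * p.1.2 * p.1.1, ?_⟩), fun q => ⟨(q.1, q.1 * q.2.1 * q.1⁻¹), ?_⟩,
    ?_, ?_⟩
  · obtain ⟨⟨g, y⟩, hy1, hy2⟩ := p
    refine ⟨mem_Cent_conj.1 hy2, ?_⟩
    intro hm
    apply hy1
    have := conj_not_mem h (x := y) (Z := Z)
    by_contra hy
    have h2 := conj_not_mem h hy g⁻¹
    rw [inv_inv] at h2
    exact h2 hm
  · obtain ⟨g, ⟨c, hc1, hc2⟩⟩ := q
    refine ⟨conj_not_mem h hc2 g, ?_⟩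
    show g * c * g⁻¹ ∈ Cent (g * x * g⁻¹)
    rw [mem_Cent_conj]
    have : g⁻¹ * (g * c * g⁻¹) * g = c := by group
    rw [this]; exact hc1
  · rintro ⟨⟨g, y⟩, hy⟩
    apply Subtype.ext
    show (g, g * (g⁻¹ * y * g) * g⁻¹) = (g, y)
    congr 1; group
  · rintro ⟨g, ⟨c, hc⟩⟩
    show (g, (⟨g⁻¹ * (g * c * g⁻¹) * g, _⟩ : D Z x)) = (g, ⟨c, hc⟩)
    congr 1
    apply Subtype.ext
    show g⁻¹ * (g * c * g⁻¹) * g = c
    group

/-- a chosen conjugating element -/
noncomputable def g0 (x : G) (y : T Z x) : G := Classical.choose y.2.2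

theorem g0_spec (x : G) (y : T Z x) : (y : G) ∈ Cent (g0 x y * x * (g0 x y)⁻¹) :=
  mem_Cent.2 (Classical.choose_spec y.2.2)

theorem Cent_conj_eq (h : CA Z) {x : G} (hx : x ∉ Z) {g k y : G} (hy : y ∉ Z)
    (h1 : y ∈ Cent (g * x * g⁻¹)) (h2 : y ∈ Cent (k * x * k⁻¹)) :
    Cent (g * x * g⁻¹) = Cent (k * x * k⁻¹) := by
  rw [← Cent_eq h (conj_not_mem h hx g) hy (mem_Cent.1 h1),
    ← Cent_eq h (conj_not_mem h hx k) hy (mem_Cent.1 h2)]

theorem card_W2 (h : CA Z) {x : G} (hx : x ∉ Z) :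
    Nat.card (W Z x) = Nat.card (T Z x) * Nat.card (Nor x) := by
  rw [← Nat.card_prod]
  apply Nat.card_congr
  refine ⟨fun p => (⟨p.1.2, p.2.1, ⟨p.1.1, mem_Cent.1 p.2.2⟩⟩, ⟨?_, ?_⟩),
    fun q => ⟨(g0 x q.1 * q.2.1, q.1.1), q.1.2.1, ?_⟩, ?_, ?_⟩
  · exact (g0 x ⟨p.1.2, p.2.1, ⟨p.1.1, mem_Cent.1 p.2.2⟩⟩)⁻¹ * p.1.1
  · obtain ⟨⟨g, y⟩, hy1, hy2⟩ := p
    set k := g0 x ⟨y, hy1, ⟨g, mem_Cent.1 hy2⟩⟩ with hk
    have hk2 : y ∈ Cent (k * x * k⁻¹) := g0_spec x ⟨y, hy1, ⟨g, mem_Cent.1 hy2⟩⟩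
    have e := Cent_conj_eq h hx hy1 hy2 hk2
    show k⁻¹ * g ∈ Nor x
    rw [mem_Nor_iff h hx]
    have m1 : g * x * g⁻¹ ∈ Cent (k * x * k⁻¹) := by
      rw [← e]; exact mem_Cent.2 rfl
    have m2 := mem_Cent_conj.1 m1
    rw [mem_Cent] at m2
    have e2 : k⁻¹ * g * x * (k⁻¹ * g)⁻¹ = k⁻¹ * (g * x * g⁻¹) * k := by group
    rw [e2]; exact m2
  · obtain ⟨y, ⟨m, hm⟩⟩ := q
    show (y : G) ∈ Cent (g0 x y * m * x * (g0 x y * m)⁻¹)
    have hk2 := g0_spec x y
    rw [mem_Nor_iff h hx] at hm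
    have n1 : m * x * m⁻¹ ∉ Z := conj_not_mem h hx m
    have e1 : Cent (m * x * m⁻¹) = Cent x := Cent_eq h hx n1 hm
    have e2 : g0 x y * m * x * (g0 x y * m)⁻¹ = g0 x y * (m * x * m⁻¹) * (g0 x y)⁻¹ := by group
    rw [e2, mem_Cent_conj, e1, ← mem_Cent_conj]
    exact hk2
  · rintro ⟨⟨g, y⟩, hy1, hy2⟩
    apply Subtype.ext
    show (g0 x ⟨y, hy1, ⟨g, mem_Cent.1 hy2⟩⟩ * ((g0 x ⟨y, hy1, ⟨g, mem_Cent.1 hy2⟩⟩)⁻¹ * g), y) = (g, y)
    congr 1; group
  · rintro ⟨⟨y, hy⟩, ⟨m, hm⟩⟩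
    apply Prod.ext
    · rfl
    · apply Subtype.ext
      show (g0 x ⟨y, _⟩)⁻¹ * (g0 x ⟨y, hy⟩ * m) = m
      group

/-- the size of a class -/
theorem card_T (h : CA Z) {x : G} (hx : x ∉ Z) :
    Nat.card (T Z x) * Nat.card (Nor x) = Nat.card G * (Nat.card (Cent x) - Nat.card Z) := by
  rw [← card_W2 h hx, card_W1 h x, card_D h x]

end count

section reps

variable [Finite G]

/-- a set of pairwise unrelated elements outside `Z` -/
def IsReps (Z : Subgroup G) (s : Finset G) : Prop :=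
  (∀ x ∈ s, x ∉ Z) ∧ ∀ x ∈ s, ∀ y ∈ s, x ≠ y → ¬ R x y

/-- a complete set of representatives -/
def IsComplete (Z : Subgroup G) (s : Finset G) : Prop :=
  ∀ y, y ∉ Z → ∃ x ∈ s, R x y

theorem exists_reps (h : CA Z) (s0 : Finset G) (h0 : IsReps Z s0) :
    ∃ s : Finset G, s0 ⊆ s ∧ IsReps Z s ∧ IsComplete Z s := by
  classical
  haveI : Fintype G := Fintype.ofFinite G
  obtain ⟨s, hle, hmax⟩ := (Set.toFinite {s : Finset G | IsReps Z s}).exists_le_maximal
    (a := s0) h0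
  refine ⟨s, hle, hmax.1, ?_⟩
  intro y hy
  by_contra hcon
  push Not at hcon
  have hys : y ∉ s := by
    intro hm
    exact hcon y hm (R_refl y)
  have hins : IsReps Z (insert y s) := by
    refine ⟨?_, ?_⟩
    · intro x hx
      rcases Finset.mem_insert.1 hx with rfl | hx
      · exact hy
      · exact hmax.1.1 x hx
    · intro a ha b hb hab
      rcases Finset.mem_insert.1 ha with ha' | ha' <;> rcases Finset.mem_insert.1 hb with hb' | hb'
      · exact absurd (ha'.trans hb'.symm) hab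
      · rw [ha']; intro hr; exact hcon b hb' (R_symm hr)
      · rw [hb']; exact hcon a ha'
      · exact hmax.1.2 a ha' b hb' hab
  have := hmax.2 hins (Finset.subset_insert y s)
  exact hys (this (Finset.mem_insert_self y s))

theorem sum_card_T (h : CA Z) (s : Finset G) (hs : IsReps Z s) (hc : IsComplete Z s) :
    ∑ x ∈ s, Nat.card (T Z x) = Nat.card G - Nat.card Z := by
  classical
  haveI : Fintype G := Fintype.ofFinite G
  have h1 : ∀ x ∈ s, Nat.card (T Z x) = (T Z x).toFinset.card := by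
    intro x _
    rw [Nat.card_eq_fintype_card, Set.toFinset_card]
  rw [Finset.sum_congr rfl h1, ← Finset.card_biUnion]
  · have e : s.biUnion (fun x => (T Z x).toFinset) = ((Z : Set G)ᶜ).toFinset := by
      ext y
      simp only [Finset.mem_biUnion, Set.mem_toFinset, Set.mem_compl_iff, SetLike.mem_coe]
      constructor
      · rintro ⟨x, _, hy, _⟩; exact hy
      · intro hy
        obtain ⟨x, hx, hr⟩ := hc y hy
        exact ⟨x, hx, hy, hr⟩
    rw [e, Set.toFinset_card, ← Nat.card_eq_fintype_card, Nat.card_coe_set_eq,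
      Set.ncard_compl (Z : Set G) (Set.toFinite _) (Set.toFinite _), ← Nat.card_coe_set_eq]
    rfl
  · intro x hx y hy hxy
    have := T_disjoint h (hs.1 x hx) (hs.1 y hy) (hs.2 x hx y hy hxy)
    rw [Function.onFun, Finset.disjoint_left]
    intro z hz1 hz2
    rw [Set.mem_toFinset] at hz1 hz2
    exact Set.disjoint_left.1 this hz1 hz2

/-- the weight of a class -/
noncomputable def wt (Z : Subgroup G) (x : G) : ℚ :=
  ((Nat.card (Cent x) : ℚ) - Nat.card Z) / Nat.card (Nor x)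

/-- the class equation -/
theorem class_equation (h : CA Z) (s : Finset G) (hs : IsReps Z s) (hc : IsComplete Z s) :
    ∑ x ∈ s, wt Z x = 1 - (Nat.card Z : ℚ) / Nat.card G := by
  have hG : (0 : ℚ) < Nat.card G := by exact_mod_cast Nat.card_pos
  have hZG : Nat.card Z ≤ Nat.card G := Subgroup.card_le_card_group Z
  have h1 := sum_card_T h s hs hc
  have h2 : (∑ x ∈ s, (Nat.card (T Z x) : ℚ)) = (Nat.card G : ℚ) - Nat.card Z := by
    rw [← Nat.cast_sum, h1, Nat.cast_sub hZG]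
  have h3 : ∀ x ∈ s, (Nat.card (T Z x) : ℚ) = Nat.card G * wt Z x := by
    intro x hx
    have hN : (0 : ℚ) < Nat.card (Nor x) := by exact_mod_cast Nat.card_pos
    have hle : Nat.card Z ≤ Nat.card (Cent x) :=
      Subgroup.card_le_of_le (Z_le_Cent h x)
    have := card_T h (hs.1 x hx)
    have h4 : (Nat.card (T Z x) : ℚ) * Nat.card (Nor x) =
        Nat.card G * ((Nat.card (Cent x) : ℚ) - Nat.card Z) := by
      rw [← Nat.cast_sub hle]
      exact_mod_cast this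
    unfold wt
    field_simp
    linarith
  rw [Finset.sum_congr rfl h3, ← Finset.mul_sum] at h2
  field_simp
  linarith

end reps

end Cfsg.Agent.H9.DicksonCE
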