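import Mathlib
import Cfsg.Agent.H9.AutPSL2Maps

set_option autoImplicit false

/-! Centralizers of semisimple elements of `SL₂(F)`. -/

namespace Cfsg.Agent.H9.DicksonSS

open Matrix
open Cfsg.Agent.H9.AutPSL2 (mem_center_iff')

variable {F : Type*} [Field F]

local notation "SL2" => Matrix.SpecialLinearGroup (Fin 2) F
local notation "M2" => Matrix (Fin 2) (Fin 2) F

/-- Cayley–Hamilton in `SL₂` -/
theorem cayley (x : SL2) : x.1 * x.1 = x.1.trace • x.1 - 1 := by
  have hdet := x.2
  rw [Matrix.det_fin_two] at hdet
  ext i j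
  fin_cases i <;> fin_cases j <;>
    simp [Matrix.mul_apply, Fin.sum_univ_two, Matrix.trace_fin_two] <;>
    first | ring1 | linear_combination (-1 : F) * hdet

/-- the inverse in `SL₂` -/
theorem inv_val (x : SL2) : (x⁻¹).1 = x.1.trace • (1 : M2) - x.1 := by
  have hdet := x.2
  rw [Matrix.det_fin_two] at hdet
  rw [Matrix.SpecialLinearGroup.coe_inv, Matrix.adjugate_fin_two]
  ext i j
  fin_cases i <;> fin_cases j <;> simp [Matrix.trace_fin_two]

/-- polarized Cayley–Hamilton -/
theorem polar (A B : M2) :
    A * B + B * A = A.trace • B + B.trace • A + ((A * B).trace - A.trace * B.trace) • (1 : M2) := by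
  ext i j
  fin_cases i <;> fin_cases j <;>
    simp [Matrix.mul_apply, Fin.sum_univ_two, Matrix.trace_fin_two] <;> ring

/-- non-scalar -/
def NonScalar (x : SL2) : Prop := ¬ ∃ a : F, x.1 = a • (1 : M2)

theorem nonScalar_of_not_mem_center {x : SL2} (hx : x ∉ Subgroup.center SL2) : NonScalar x := by
  rintro ⟨a, ha⟩
  apply hx
  rw [mem_center_iff']
  have hdet := x.2
  rw [ha, Matrix.det_smul, Matrix.det_one, Fintype.card_fin, mul_one] at hdet
  have ha2 : (a - 1) * (a + 1) = 0 := by linear_combination hdet
  rcases mul_eq_zero.1 ha2 with h1 | h1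
  · left
    apply Subtype.ext
    rw [ha, sub_eq_zero.1 h1, one_smul]; rfl
  · right
    apply Subtype.ext
    have : a = -1 := by linear_combination h1
    rw [ha, this]
    simp

theorem not_mem_center_of_nonScalar {x : SL2} (hx : NonScalar x) : x ∉ Subgroup.center SL2 := by
  intro hm
  rw [mem_center_iff'] at hm
  apply hx
  rcases hm with rfl | rfl
  · exact ⟨1, by simp⟩
  · exact ⟨-1, by simp⟩

/-- the commutant of a non-scalar element -/
theorem exists_lin {x : SL2} (hx : NonScalar x) (y : M2) (hy : y * x.1 = x.1 * y) :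
    ∃ α β : F, y = α • (1 : M2) + β • x.1 := by
  have g00 := congrFun (congrFun hy 0) 0
  have g01 := congrFun (congrFun hy 0) 1
  have g10 := congrFun (congrFun hy 1) 0
  have g11 := congrFun (congrFun hy 1) 1
  simp only [Matrix.mul_apply, Fin.sum_univ_two] at g00 g01 g10 g11
  by_cases h01 : x.1 0 1 = 0
  · by_cases h10 : x.1 1 0 = 0
    · -- diagonal, distinct entries
      have hd : x.1 0 0 ≠ x.1 1 1 := by
        intro hd
        apply hx
        refine ⟨x.1 0 0, ?_⟩
        ext i j
        fin_cases i <;> fin_cases j <;> simp [h01, h10, hd]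
      have hd' : x.1 0 0 - x.1 1 1 ≠ 0 := sub_ne_zero.2 hd
      have y01 : y 0 1 = 0 := by
        have : y 0 1 * (x.1 0 0 - x.1 1 1) = 0 := by
          rw [h01] at g01; linear_combination -g01
        rcases mul_eq_zero.1 this with h | h
        · exact h
        · exact absurd h hd'
      have y10 : y 1 0 = 0 := by
        have : y 1 0 * (x.1 0 0 - x.1 1 1) = 0 := by
          rw [h10] at g10; linear_combination g10
        rcases mul_eq_zero.1 this with h | h
        · exact h
        · exact absurd h hd'
      refine ⟨y 0 0 - (y 0 0 - y 1 1) / (x.1 0 0 - x.1 1 1) * x.1 0 0,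
        (y 0 0 - y 1 1) / (x.1 0 0 - x.1 1 1), ?_⟩
      ext i j
      fin_cases i <;> fin_cases j
      · simp
      · simp [y01, h01]
      · simp [y10, h10]
      · simp
        field_simp
        ring
    · refine ⟨y 0 0 - y 1 0 / x.1 1 0 * x.1 0 0, y 1 0 / x.1 1 0, ?_⟩
      ext i j
      fin_cases i <;> fin_cases j
      · simp
      · simp [h01]
        rw [h01] at g00
        have : y 0 1 * x.1 1 0 = 0 := by linear_combination g00
        rcases mul_eq_zero.1 this with h | h
        · exact h
        · exact absurd h h10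
      · simp
        field_simp
      · simp
        field_simp
        rw [h01] at g00
        linear_combination g10
  · refine ⟨y 0 0 - y 0 1 / x.1 0 1 * x.1 0 0, y 0 1 / x.1 0 1, ?_⟩
    ext i j
    fin_cases i <;> fin_cases j
    · simp
    · simp
      field_simp
    · simp
      field_simp
      linear_combination -g00
    · simp
      field_simp
      linear_combination -g01

theorem lin_unique {x : SL2} (hx : NonScalar x) {α β α' β' : F}
    (h : α • (1 : M2) + β • x.1 = α' • (1 : M2) + β' • x.1) : α = α' ∧ β = β' := by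
  have hb : β = β' := by
    by_contra hb
    apply hx
    refine ⟨(α' - α) / (β - β'), ?_⟩
    have hb' : β - β' ≠ 0 := sub_ne_zero.2 hb
    have h1 : (β - β') • x.1 = (α' - α) • (1 : M2) := by
      rw [sub_smul, sub_smul]
      have := h
      calc β • x.1 - β' • x.1 = (α • (1 : M2) + β • x.1) - α • (1 : M2) - β' • x.1 := by abel
        _ = (α' • (1 : M2) + β' • x.1) - α • (1 : M2) - β' • x.1 := by rw [h]
        _ = α' • (1 : M2) - α • (1 : M2) := by abel
    calc x.1 = (β - β')⁻¹ • ((β - β') • x.1) := by rw [smul_smul, inv_mul_cancel₀ hb', one_smul]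
      _ = (β - β')⁻¹ • ((α' - α) • (1 : M2)) := by rw [h1]
      _ = ((α' - α) / (β - β')) • (1 : M2) := by rw [smul_smul]; congr 1; field_simp
  refine ⟨?_, hb⟩
  rw [hb] at h
  have h2 : α • (1 : M2) = α' • (1 : M2) := add_right_cancel h
  have := congrFun (congrFun h2 0) 0
  simpa using this

section psi

open Classical in
/-- coefficients of an element of the commutant -/
noncomputable def coef (x : SL2) (y : M2) : F × F :=
  if h : ∃ p : F × F, y = p.1 • (1 : M2) + p.2 • x.1 then Classical.choose h else (0, 0)

variable {E : Type*} [Field E] [Algebra F E]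

theorem coef_eq {x : SL2} (hx : NonScalar x) (α β : F) :
    coef x (α • (1 : M2) + β • x.1) = (α, β) := by
  have h : ∃ p : F × F, α • (1 : M2) + β • x.1 = p.1 • (1 : M2) + p.2 • x.1 := ⟨(α, β), rfl⟩
  unfold coef
  rw [dif_pos h]
  have := lin_unique hx (Classical.choose_spec h)
  exact Prod.ext this.1.symm this.2.symm

theorem coef_spec {x : SL2} (hx : NonScalar x) (y : M2) (hy : y * x.1 = x.1 * y) :
    y = (coef x y).1 • (1 : M2) + (coef x y).2 • x.1 := by
  obtain ⟨α, β, h⟩ := exists_lin hx y hy
  rw [h, coef_eq hx]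

/-- the eigenvalue map -/
noncomputable def psi (x : SL2) (lam : E) (y : M2) : E :=
  algebraMap F E (coef x y).1 + algebraMap F E (coef x y).2 * lam

theorem psi_lin {x : SL2} (hx : NonScalar x) (lam : E) (α β : F) :
    psi x lam (α • (1 : M2) + β • x.1) = algebraMap F E α + algebraMap F E β * lam := by
  unfold psi
  rw [coef_eq hx]

theorem psi_one {x : SL2} (hx : NonScalar x) (lam : E) : psi x lam (1 : M2) = 1 := by
  have : (1 : M2) = (1 : F) • (1 : M2) + (0 : F) • x.1 := by simp
  rw [this, psi_lin hx]
  simp

theorem psi_neg_one {x : SL2} (hx : NonScalar x) (lam : E) : psi x lam (-1 : M2) = -1 := by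
  have : (-1 : M2) = (-1 : F) • (1 : M2) + (0 : F) • x.1 := by simp
  rw [this, psi_lin hx]
  simp

theorem psi_self {x : SL2} (hx : NonScalar x) (lam : E) : psi x lam x.1 = lam := by
  have : x.1 = (0 : F) • (1 : M2) + (1 : F) • x.1 := by simp
  rw [this, psi_lin hx]
  simp

theorem psi_mul {x : SL2} (hx : NonScalar x) (lam : E)
    (hlam : lam * lam = algebraMap F E x.1.trace * lam - 1) (y y' : M2)
    (hy : y * x.1 = x.1 * y) (hy' : y' * x.1 = x.1 * y') :
    psi x lam (y * y') = psi x lam y * psi x lam y' := by
  obtain ⟨α, β, h⟩ := exists_lin hx y hy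
  obtain ⟨α', β', h'⟩ := exists_lin hx y' hy'
  have hc := cayley x
  have e : y * y' = (α * α' - β * β') • (1 : M2) +
      (α * β' + α' * β + x.1.trace * β * β') • x.1 := by
    rw [h, h']
    simp only [add_mul, mul_add, Matrix.smul_mul, Matrix.mul_smul, Matrix.one_mul, Matrix.mul_one,
      smul_smul, hc, smul_sub]
    module
  rw [e, psi_lin hx, h, h', psi_lin hx, psi_lin hx]
  simp only [map_sub, map_mul, map_add]
  linear_combination (-(algebraMap F E β) * (algebraMap F E β')) * hlam

/-- the determinant of an element of the commutant -/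
theorem det_lin (x : SL2) (α β : F) :
    (α • (1 : M2) + β • x.1).det = α ^ 2 + α * β * x.1.trace + β ^ 2 := by
  have hdet := x.2
  rw [Matrix.det_fin_two] at hdet
  rw [Matrix.det_fin_two]
  simp [Matrix.trace_fin_two]
  linear_combination β ^ 2 * hdet

theorem trace_lin (x : SL2) (α β : F) :
    (α • (1 : M2) + β • x.1).trace = 2 * α + β * x.1.trace := by
  simp [Matrix.trace_fin_two]
  ring

end psi

section main

variable {E : Type*} [Field E] [Algebra F E]

theorem psi_injective {x : SL2} (hx : NonScalar x) (hss : x.1.trace ^ 2 ≠ 4) (lam : E)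
    (hlam : lam * lam = algebraMap F E x.1.trace * lam - 1) (y : SL2)
    (hy : y * x = x * y) (h1 : psi x lam y.1 = 1) : y = 1 := by
  have hy' : y.1 * x.1 = x.1 * y.1 := congrArg Subtype.val hy
  obtain ⟨α, β, h⟩ := exists_lin hx y.1 hy'
  rw [h, psi_lin hx] at h1
  have hdet := y.2
  rw [h, det_lin] at hdet
  set a := algebraMap F E α with ha
  set b := algebraMap F E β with hb
  set t := algebraMap F E x.1.trace with ht
  have hdet' : a ^ 2 + a * b * t + b ^ 2 = 1 := by
    have := congrArg (algebraMap F E) hdet
    simpa only [map_add, map_mul, map_pow, map_one] using this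
  have h2 : (a + b * lam) * (a + b * (t - lam)) = 1 := by
    linear_combination hdet' - b ^ 2 * hlam
  rw [h1, one_mul] at h2
  have h3 : b * (2 * lam - t) = 0 := by linear_combination h1 - h2
  have h4 : (2 * lam - t) ^ 2 = t ^ 2 - 4 := by linear_combination 4 * hlam
  have h5 : 2 * lam - t ≠ 0 := by
    intro h0
    rw [h0] at h4
    apply hss
    have : (algebraMap F E) (x.1.trace ^ 2) = algebraMap F E 4 := by
      rw [map_pow, map_ofNat]
      linear_combination -h4
    exact (algebraMap F E).injective this
  have hb0 : b = 0 := by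
    rcases mul_eq_zero.1 h3 with h | h
    · exact h
    · exact absurd h h5
  have hβ : β = 0 := (algebraMap F E).injective (by rw [← hb, hb0, map_zero])
  have hα : α = 1 := by
    apply (algebraMap F E).injective
    rw [← ha, map_one]
    rw [hb0] at h1
    linear_combination h1
  apply Subtype.ext
  rw [h, hα, hβ]
  simp

theorem exists_lam (t : F) : ∃ lam : AlgebraicClosure F,
    lam * lam = algebraMap F (AlgebraicClosure F) t * lam - 1 := by
  have := IsAlgClosed.exists_root
    (Polynomial.X ^ 2 - Polynomial.C (algebraMap F (AlgebraicClosure F) t) * Polynomial.X + 1 :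
      Polynomial (AlgebraicClosure F)) (by
        have : (Polynomial.X ^ 2 - Polynomial.C (algebraMap F (AlgebraicClosure F) t) * Polynomial.X + 1 :
          Polynomial (AlgebraicClosure F)) = Polynomial.C 1 * Polynomial.X ^ 2 +
            Polynomial.C (-(algebraMap F (AlgebraicClosure F) t)) * Polynomial.X + Polynomial.C 1 := by
          simp; ring
        rw [this, Polynomial.degree_quadratic one_ne_zero]
        norm_num)
  obtain ⟨lam, hl⟩ := this
  refine ⟨lam, ?_⟩
  simp only [Polynomial.IsRoot, Polynomial.eval_add, Polynomial.eval_sub, Polynomial.eval_pow,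
    Polynomial.eval_X, Polynomial.eval_mul, Polynomial.eval_C, Polynomial.eval_one] at hl
  linear_combination hl

/-- the centralizer of a semisimple non-central element is cyclic -/
theorem isCyclic_centralizer [Finite F] {x : SL2} (hx : NonScalar x) (hss : x.1.trace ^ 2 ≠ 4) :
    IsCyclic (Subgroup.centralizer ({x} : Set SL2)) := by
  obtain ⟨lam, hlam⟩ := exists_lam x.1.trace
  have hcomm : ∀ y : Subgroup.centralizer ({x} : Set SL2), y.1 * x = x * y.1 := by
    intro y
    have := y.2
    rw [Subgroup.mem_centralizer_iff] at this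
    exact (this x rfl).symm
  let f : Subgroup.centralizer ({x} : Set SL2) →* AlgebraicClosure F :=
    { toFun := fun y => psi x lam y.1.1
      map_one' := psi_one hx lam
      map_mul' := fun y y' => by
        show psi x lam (y.1 * y'.1).1 = _
        rw [Matrix.SpecialLinearGroup.coe_mul]
        exact psi_mul hx lam hlam _ _ (congrArg Subtype.val (hcomm y))
          (congrArg Subtype.val (hcomm y')) }
  have hf : Function.Injective f := by
    rw [injective_iff_map_eq_one]
    intro y hy
    apply Subtype.ext
    exact psi_injective hx hss lam hlam y.1 (hcomm y) hy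
  exact isCyclic_of_injective_ringHom f hf

/-- elements of the centralizer with the same trace -/
theorem eq_or_eq_inv_of_trace {x : SL2} (hx : NonScalar x) (hss : x.1.trace ^ 2 ≠ 4)
    (y y' : SL2) (hy : y * x = x * y) (hy' : y' * x = x * y') (htr : y.1.trace = y'.1.trace) :
    y' = y ∨ y' = y⁻¹ := by
  obtain ⟨lam, hlam⟩ := exists_lam x.1.trace
  have c1 : y.1 * x.1 = x.1 * y.1 := congrArg Subtype.val hy
  have c2 : y'.1 * x.1 = x.1 * y'.1 := congrArg Subtype.val hy'
  have hyi : y⁻¹ * x = x * y⁻¹ := by
    calc y⁻¹ * x = y⁻¹ * (x * y) * y⁻¹ := by group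
      _ = y⁻¹ * (y * x) * y⁻¹ := by rw [hy]
      _ = x * y⁻¹ := by group
  have hyi' : y'⁻¹ * x = x * y'⁻¹ := by
    calc y'⁻¹ * x = y'⁻¹ * (x * y') * y'⁻¹ := by group
      _ = y'⁻¹ * (y' * x) * y'⁻¹ := by rw [hy']
      _ = x * y'⁻¹ := by group
  have c3 : (y⁻¹).1 * x.1 = x.1 * (y⁻¹).1 := congrArg Subtype.val hyi
  have c4 : (y'⁻¹).1 * x.1 = x.1 * (y'⁻¹).1 := congrArg Subtype.val hyi'
  -- `psi y * psi y⁻¹ = 1`, `psi y + psi y⁻¹ = trace`
  have key : ∀ z : SL2, z.1 * x.1 = x.1 * z.1 → (z⁻¹).1 * x.1 = x.1 * (z⁻¹).1 →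
      psi x lam z.1 * psi x lam (z⁻¹).1 = 1 ∧
      psi x lam z.1 + psi x lam (z⁻¹).1 = algebraMap F _ z.1.trace := by
    intro z hz hzi
    constructor
    · rw [← psi_mul hx lam hlam _ _ hz hzi, ← Matrix.SpecialLinearGroup.coe_mul, mul_inv_cancel]
      exact psi_one hx lam
    · obtain ⟨α, β, h⟩ := exists_lin hx z.1 hz
      have htz : z.1.trace = 2 * α + β * x.1.trace := by
        conv_lhs => rw [h]
        exact trace_lin x α β
      have e : (z⁻¹).1 = (z.1.trace - α) • (1 : M2) + (-β) • x.1 := by
        rw [inv_val]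
        have e1 : z.1.trace • (1 : M2) - z.1 = z.1.trace • (1 : M2) - (α • (1 : M2) + β • x.1) := by
          rw [← h]
        rw [e1]
        simp only [sub_smul, neg_smul]
        abel
      have pz : psi x lam z.1 = algebraMap F _ α + algebraMap F _ β * lam := by
        rw [h, psi_lin hx]
      rw [e, psi_lin hx, pz]
      simp only [map_sub, map_neg]
      ring
  obtain ⟨k1, k2⟩ := key y c1 c3
  obtain ⟨k3, k4⟩ := key y' c2 c4
  rw [← htr] at k4
  set p := psi x lam y.1
  set pi := psi x lam (y⁻¹).1
  set p' := psi x lam y'.1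
  set pi' := psi x lam (y'⁻¹).1
  have hfac : (p' - p) * (p' - pi) = 0 := by
    have : p' * (p + pi - p') = 1 := by
      rw [k2, ← k4]; linear_combination k3
    linear_combination -this + k1
  rcases mul_eq_zero.1 hfac with h | h
  · left
    -- psi (y' * y⁻¹) = 1
    have hc : (y' * y⁻¹) * x = x * (y' * y⁻¹) := by
      rw [mul_assoc, hyi, ← mul_assoc, hy', mul_assoc]
    have h1 : psi x lam (y' * y⁻¹).1 = 1 := by
      rw [Matrix.SpecialLinearGroup.coe_mul, psi_mul hx lam hlam _ _ c2 c3]
      have : p' = p := by linear_combination h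
      show p' * pi = 1
      rw [this]; exact k1
    have := psi_injective hx hss lam hlam _ hc h1
    exact mul_inv_eq_one.1 this
  · right
    have hc : (y' * y) * x = x * (y' * y) := by
      rw [mul_assoc, hy, ← mul_assoc, hy', mul_assoc]
    have h1 : psi x lam (y' * y).1 = 1 := by
      rw [Matrix.SpecialLinearGroup.coe_mul, psi_mul hx lam hlam _ _ c2 c1]
      have : p' = pi := by linear_combination h
      show p' * p = 1
      rw [this, mul_comm]; exact k1
    have := psi_injective hx hss lam hlam _ hc h1
    exact eq_inv_of_mul_eq_one_left this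

/-- an element of the centralizer with trace `±2` is central -/
theorem central_of_trace {x : SL2} (hx : NonScalar x) (hss : x.1.trace ^ 2 ≠ 4)
    (y : SL2) (hy : y * x = x * y) (htr : y.1.trace ^ 2 = 4) : y = 1 ∨ y = -1 := by
  have h2 : (y.1.trace - 2) * (y.1.trace + 2) = 0 := by linear_combination htr
  rcases mul_eq_zero.1 h2 with h | h
  · left
    have h1 : (1 : SL2) * x = x * 1 := by simp
    have ht : (1 : SL2).1.trace = y.1.trace := by
      rw [Matrix.trace_fin_two] at h
      simp [Matrix.trace_fin_two]
      linear_combination -h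
    rcases eq_or_eq_inv_of_trace hx hss 1 y h1 hy ht with h' | h'
    · exact h'
    · rw [h', inv_one]
  · right
    have h1 : (-1 : SL2) * x = x * (-1) := by simp
    have ht : (-1 : SL2).1.trace = y.1.trace := by
      rw [Matrix.trace_fin_two] at h
      simp [Matrix.trace_fin_two]
      linear_combination -h
    rcases eq_or_eq_inv_of_trace hx hss (-1) y h1 hy ht with h' | h'
    · exact h'
    · rw [h']; simp

/-- an element inverting a non-scalar element has square `-1` -/
theorem sq_of_inverts {x : SL2} (hx : NonScalar x) (g : SL2) (h : g * x * g⁻¹ = x⁻¹) :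
    g * g = -1 := by
  have h1 : g * x = x⁻¹ * g := by
    calc g * x = (g * x * g⁻¹) * g := by group
      _ = x⁻¹ * g := by rw [h]
  have h2 : g.1 * x.1 = (x⁻¹).1 * g.1 := by
    rw [← Matrix.SpecialLinearGroup.coe_mul, ← Matrix.SpecialLinearGroup.coe_mul, h1]
  rw [Matrix.SpecialLinearGroup.coe_inv, Matrix.adjugate_fin_two] at h2
  have e00 := congrFun (congrFun h2 0) 0
  have e01 := congrFun (congrFun h2 0) 1
  have e10 := congrFun (congrFun h2 1) 0
  have e11 := congrFun (congrFun h2 1) 1
  simp only [Matrix.mul_apply, Fin.sum_univ_two, Matrix.of_apply, Matrix.cons_val_zero,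
    Matrix.cons_val_one, Matrix.cons_val', Matrix.empty_val', Matrix.cons_val_fin_one] at e00 e01 e10 e11
  have f1 : (g.1 0 0 + g.1 1 1) * x.1 0 1 = 0 := by linear_combination e01
  have f2 : (g.1 0 0 + g.1 1 1) * x.1 1 0 = 0 := by linear_combination e10
  have f3 : (g.1 0 0 + g.1 1 1) * (x.1 0 0 - x.1 1 1) = 0 := by linear_combination e00 - e11
  have htr : g.1.trace = 0 := by
    rw [Matrix.trace_fin_two]
    by_contra hne
    apply hx
    refine ⟨x.1 0 0, ?_⟩
    have b0 : x.1 0 1 = 0 := by
      rcases mul_eq_zero.1 f1 with h' | h'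
      · exact absurd h' hne
      · exact h'
    have c0 : x.1 1 0 = 0 := by
      rcases mul_eq_zero.1 f2 with h' | h'
      · exact absurd h' hne
      · exact h'
    have d0 : x.1 0 0 - x.1 1 1 = 0 := by
      rcases mul_eq_zero.1 f3 with h' | h'
      · exact absurd h' hne
      · exact h'
    ext i j
    fin_cases i <;> fin_cases j
    · simp
    · simp [b0]
    · simp [c0]
    · simp
      linear_combination -d0
  apply Subtype.ext
  rw [Matrix.SpecialLinearGroup.coe_mul, cayley, htr, zero_smul, zero_sub]
  simp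

end main

end Cfsg.Agent.H9.DicksonSS
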