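import Mathlib
import Cfsg.Agent.H9.DicksonSS
import Cfsg.Agent.H9.DicksonCE

set_option autoImplicit false

/-! Unipotent elements of `SL₂(F)`. -/

namespace Cfsg.Agent.H9.DicksonUN

open Matrix
open Cfsg.Agent.H9.AutPSL2
open Cfsg.Agent.H9.DicksonSS
open Cfsg.Agent.H9.DicksonCE

variable {F : Type*} [Field F]

local notation "SL2" => Matrix.SpecialLinearGroup (Fin 2) F
local notation "M2" => Matrix (Fin 2) (Fin 2) F

/-- a `p`-element has trace `2` -/
theorem trace_of_pow_p (p : ℕ) [Fact p.Prime] [CharP F p] (g : SL2) (k : ℕ)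
    (h : g ^ (p ^ k) = 1) : g.1.trace = 2 := by
  have h1 : (g.1 - 1) ^ (p ^ k) = 0 := by
    rw [sub_pow_char_pow_of_commute p k (Commute.one_right _), one_pow,
      ← Matrix.SpecialLinearGroup.coe_pow, h]
    simp
  have h2 : IsNilpotent (g.1 - 1) := ⟨p ^ k, h1⟩
  have h3 := (Matrix.isNilpotent_trace_of_isNilpotent h2).eq_zero
  rw [Matrix.trace_sub, Matrix.trace_one, Fintype.card_fin] at h3
  push_cast at h3
  linear_combination h3

/-- an element of trace `2` is conjugate to an upper unitriangular matrix -/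
theorem exists_conj_u (x : SL2) (htr : x.1.trace = 2) :
    ∃ (m : SL2) (c : F), m * x * m⁻¹ = u c := by
  have hd := det_eq x
  rw [Matrix.trace_fin_two] at htr
  by_cases hc : x.1 1 0 = 0
  · -- already upper triangular
    have h00 : x.1 0 0 = 1 := by
      rw [hc, mul_zero, sub_zero] at hd
      have : (x.1 0 0 - 1) ^ 2 = 0 := by linear_combination -hd + x.1 0 0 * htr
      have := pow_eq_zero_iff (two_ne_zero) |>.1 this
      linear_combination this
    have h11 : x.1 1 1 = 1 := by linear_combination htr - h00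
    refine ⟨1, x.1 0 1, ?_⟩
    rw [one_mul, inv_one, mul_one]
    apply ext4 <;> simp [hc, h00, h11]
  · have hdm : (!![0, (x.1 1 0)⁻¹; -(x.1 1 0), x.1 0 0 - 1] : M2).det = 1 := by
      rw [Matrix.det_fin_two_of]
      field_simp
      ring
    set m : SL2 := ⟨!![0, (x.1 1 0)⁻¹; -(x.1 1 0), x.1 0 0 - 1], hdm⟩ with hm
    have m00 : m.1 0 0 = 0 := rfl
    have m01 : m.1 0 1 = (x.1 1 0)⁻¹ := rfl
    have m10 : m.1 1 0 = -(x.1 1 0) := rfl
    have m11 : m.1 1 1 = x.1 0 0 - 1 := rfl
    refine ⟨m, (m * x * m⁻¹).1 0 1, ?_⟩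
    apply ext4
    · simp only [mul_00, mul_01, mul_10, mul_11, inv_00, inv_01, inv_10, inv_11, u_00, m00, m01,
        m10, m11]
      field_simp
      linear_combination htr
    · simp only [u_01]
    · simp only [mul_00, mul_01, mul_10, mul_11, inv_00, inv_01, inv_10, inv_11, u_10, m00, m01,
        m10, m11]
      linear_combination (x.1 1 0) * hd - (x.1 1 0) * htr
    · simp only [mul_00, mul_01, mul_10, mul_11, inv_00, inv_01, inv_10, inv_11, u_11, m00, m01,
        m10, m11]
      field_simp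
      ring

/-- commuting with a non-trivial upper unitriangular matrix -/
theorem commute_u_iff {c : F} (hc : c ≠ 0) (g : SL2) :
    g * u c = u c * g ↔ g.1 1 0 = 0 ∧ g.1 0 0 = g.1 1 1 := by
  constructor
  · intro h
    have e00 := congrArg (fun z : SL2 => z.1 0 0) h
    have e01 := congrArg (fun z : SL2 => z.1 0 1) h
    simp only [mul_00, mul_01, u_00, u_01, u_10, u_11] at e00 e01
    have h10 : g.1 1 0 = 0 := by
      have : c * g.1 1 0 = 0 := by linear_combination -e00
      rcases mul_eq_zero.1 this with h' | h'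
      · exact absurd h' hc
      · exact h'
    refine ⟨h10, ?_⟩
    have : c * (g.1 0 0 - g.1 1 1) = 0 := by linear_combination e01
    rcases mul_eq_zero.1 this with h' | h'
    · exact absurd h' hc
    · linear_combination h'
  · rintro ⟨h10, hd⟩
    apply ext4 <;> simp only [mul_00, mul_01, mul_10, mul_11, u_00, u_01, u_10, u_11, h10, hd] <;>
      ring

/-- the lower-left entry of a conjugate of `u c` -/
theorem conj_u_10 (g : SL2) (c : F) : (g * u c * g⁻¹).1 1 0 = -(g.1 1 0) ^ 2 * c := by
  simp only [mul_00, mul_01, mul_10, mul_11, inv_00, inv_01, inv_10, inv_11, u_00, u_01, u_10,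
    u_11]
  ring

/-- conjugates of `u c` commuting with `u c` -/
theorem conj_u_commute_iff {c : F} (hc : c ≠ 0) (g : SL2) :
    (g * u c * g⁻¹) * u c = u c * (g * u c * g⁻¹) ↔ g.1 1 0 = 0 := by
  constructor
  · intro h
    have := ((commute_u_iff hc _).1 h).1
    rw [conj_u_10] at this
    have h2 : (g.1 1 0) ^ 2 * c = 0 := by linear_combination -this
    rcases mul_eq_zero.1 h2 with h' | h'
    · exact pow_eq_zero_iff (two_ne_zero) |>.1 h'
    · exact absurd h' hc
  · intro h10
    have e : g * u c * g⁻¹ = u ((g.1 0 0) ^ 2 * c) := by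
      rw [conj_u_of_eq g h10 c]; group
    rw [e, ← u_add, ← u_add, add_comm]

section subgroup

/-- the parameters of the upper unitriangular elements of `G` -/
def A (G : Subgroup SL2) : AddSubgroup F where
  carrier := {a : F | u a ∈ G}
  zero_mem' := by
    show u (0 : F) ∈ G
    rw [u_zero]; exact one_mem G
  add_mem' := by
    intro a b ha hb
    show u (a + b) ∈ G
    rw [u_add]; exact mul_mem ha hb
  neg_mem' := by
    intro a ha
    show u (-a) ∈ G
    rw [← u_inv]; exact inv_mem ha

theorem mem_A (G : Subgroup SL2) {a : F} : a ∈ A G ↔ u a ∈ G := Iff.rfl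

/-- the upper triangular elements of `G` -/
def Bor (G : Subgroup SL2) : Subgroup G where
  carrier := {g | g.1.1 1 0 = 0}
  one_mem' := by simp
  mul_mem' := by
    intro a b ha hb
    simp only [Set.mem_setOf_eq] at ha hb ⊢
    show (a.1 * b.1).1 1 0 = 0
    rw [mul_10, ha, hb]; ring
  inv_mem' := by
    intro a ha
    simp only [Set.mem_setOf_eq] at ha ⊢
    show (a.1⁻¹).1 1 0 = 0
    rw [inv_10, ha, neg_zero]

theorem mem_Bor (G : Subgroup SL2) {g : G} : g ∈ Bor G ↔ g.1.1 1 0 = 0 := Iff.rfl

end subgroup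

section ca

/-- commuting with a non-scalar element is transitive -/
theorem commute_of_nonScalar {x : SL2} (hx : NonScalar x) (a b : SL2) (ha : a * x = x * a)
    (hb : b * x = x * b) : a * b = b * a := by
  obtain ⟨α, β, h1⟩ := exists_lin hx a.1 (congrArg Subtype.val ha)
  obtain ⟨α', β', h2⟩ := exists_lin hx b.1 (congrArg Subtype.val hb)
  apply Subtype.ext
  rw [Matrix.SpecialLinearGroup.coe_mul, Matrix.SpecialLinearGroup.coe_mul, h1, h2]
  have c : Commute x.1 (α' • (1 : M2) + β' • x.1) :=
    ((Commute.one_right x.1).smul_right α').add_right ((Commute.refl x.1).smul_right β')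
  have c' : Commute (1 : M2) (α' • (1 : M2) + β' • x.1) := Commute.one_left _
  exact ((c'.smul_left α).add_left (c.smul_left β)).eq

/-- the centre of `SL₂`, inside `G` -/
def ZG (G : Subgroup SL2) : Subgroup G := (Subgroup.center SL2).subgroupOf G

theorem mem_ZG (G : Subgroup SL2) {g : G} : g ∈ ZG G ↔ g.1 ∈ Subgroup.center SL2 :=
  Subgroup.mem_subgroupOf

theorem caG (G : Subgroup SL2) : CA (ZG G) where
  central := by
    intro z hz g
    rw [mem_ZG, Subgroup.mem_center_iff] at hz
    apply Subtype.ext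
    exact hz g.1
  comm := by
    intro x hx a b ha hb
    rw [mem_ZG] at hx
    apply Subtype.ext
    exact commute_of_nonScalar (nonScalar_of_not_mem_center hx) a.1 b.1
      (congrArg Subtype.val ha) (congrArg Subtype.val hb)

theorem card_ZG (G : Subgroup SL2) (hZ : Subgroup.center SL2 ≤ G) :
    Nat.card (ZG G) = Nat.card (Subgroup.center SL2) := by
  unfold ZG
  exact Nat.card_congr (Subgroup.subgroupOfEquivOfLe hZ).toEquiv

end ca

section unip

variable [Finite F]

/-- the centralizer of `u c` in `G` -/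
theorem card_Cent_u (G : Subgroup SL2) (hZ : Subgroup.center SL2 ≤ G) {c : F} (hc : c ≠ 0)
    (hu : u c ∈ G) :
    Nat.card (Cent (⟨u c, hu⟩ : G)) = Nat.card (Subgroup.center SL2) * Nat.card (A G) := by
  rw [← Nat.card_prod]
  symm
  have hcomm : ∀ z : Subgroup.center SL2, ∀ g : SL2, g * z.1 = z.1 * g := by
    intro z g
    exact (Subgroup.mem_center_iff.1 z.2) g
  have hzs : ∀ z : Subgroup.center SL2, z.1.1 1 0 = 0 ∧ z.1.1 0 1 = 0 ∧ z.1.1 0 0 = z.1.1 1 1 := by
    intro z
    rcases (mem_center_iff' z.1).1 z.2 with h | h <;> rw [h] <;> simp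
  refine Nat.card_congr (Equiv.ofBijective
    (fun p => ⟨⟨p.1.1 * u p.2.1, mul_mem (hZ p.1.2) p.2.2⟩, ?_⟩) ⟨?_, ?_⟩)
  · rw [mem_Cent]
    apply Subtype.ext
    show p.1.1 * u p.2.1 * u c = u c * (p.1.1 * u p.2.1)
    rw [← mul_assoc, hcomm p.1 (u c), mul_assoc, mul_assoc, ← u_add, ← u_add, add_comm]
  · rintro ⟨z, a⟩ ⟨z', a'⟩ h
    have h1 : z.1 * u a.1 = z'.1 * u a'.1 := congrArg (fun w => w.1.1) h
    obtain ⟨z10, z01, zd⟩ := hzs z
    obtain ⟨z10', z01', zd'⟩ := hzs z'
    have e00 := congrArg (fun w : SL2 => w.1 0 0) h1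
    have e01 := congrArg (fun w : SL2 => w.1 0 1) h1
    simp only [mul_00, mul_01, u_00, u_01, u_10, u_11, z01, z01'] at e00 e01
    have hz : z = z' := by
      apply Subtype.ext
      apply ext4
      · linear_combination e00
      · rw [z01, z01']
      · rw [z10, z10']
      · rw [← zd, ← zd']; linear_combination e00
    subst hz
    have hu' : u a.1 = u a'.1 := mul_left_cancel h1
    have := u_injective hu'
    exact Prod.ext rfl (Subtype.ext this)
  · rintro ⟨g, hg⟩
    rw [mem_Cent] at hg
    have hg' : g.1 * u c = u c * g.1 := congrArg Subtype.val hg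
    obtain ⟨g10, gd⟩ := (commute_u_iff hc g.1).1 hg'
    have hd := det_eq g.1
    rw [g10, mul_zero, sub_zero, ← gd] at hd
    -- the scalar part
    have hz : (⟨!![g.1.1 0 0, 0; 0, g.1.1 0 0], by rw [Matrix.det_fin_two_of]; linear_combination hd⟩ : SL2)
        ∈ Subgroup.center SL2 := by
      refine (mem_center_iff' _).2 ?_
      have : (g.1.1 0 0 - 1) * (g.1.1 0 0 + 1) = 0 := by linear_combination hd
      rcases mul_eq_zero.1 this with h | h
      · left
        apply ext4 <;> simp
        · linear_combination h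
        · linear_combination h
      · right
        apply ext4 <;> simp
        · linear_combination h
        · linear_combination h
    set z : SL2 := ⟨!![g.1.1 0 0, 0; 0, g.1.1 0 0], by rw [Matrix.det_fin_two_of]; linear_combination hd⟩
      with hzdef
    have z00 : z.1 0 0 = g.1.1 0 0 := rfl
    have z01 : z.1 0 1 = 0 := rfl
    have z10 : z.1 1 0 = 0 := rfl
    have z11 : z.1 1 1 = g.1.1 0 0 := rfl
    have hprod : z * u (g.1.1 0 0 * g.1.1 0 1) = g.1 := by
      apply ext4 <;> simp only [mul_00, mul_01, mul_10, mul_11, u_00, u_01, u_10, u_11, z00, z01,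
        z10, z11]
      · ring
      · linear_combination (g.1.1 0 1) * hd
      · rw [g10]; ring
      · rw [← gd]; ring
    have hmem : g.1.1 0 0 * g.1.1 0 1 ∈ A G := by
      rw [mem_A]
      have : u (g.1.1 0 0 * g.1.1 0 1) = z⁻¹ * g.1 := eq_inv_mul_of_mul_eq hprod
      rw [this]
      exact mul_mem (inv_mem (hZ hz)) g.2
    refine ⟨(⟨z, hz⟩, ⟨_, hmem⟩), ?_⟩
    apply Subtype.ext
    apply Subtype.ext
    exact hprod

/-- the normalizer of the centralizer of `u c` -/
theorem Nor_u (G : Subgroup SL2) {c : F} (hc : c ≠ 0) (hu : u c ∈ G) :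
    Nor (⟨u c, hu⟩ : G) = Bor G := by
  have hx : (⟨u c, hu⟩ : G) ∉ ZG G := by
    rw [mem_ZG, mem_center_iff']
    rintro (h | h)
    · have := congrArg (fun w : SL2 => w.1 0 1) h
      simp at this
      exact hc this
    · have := congrArg (fun w : SL2 => w.1 0 1) h
      simp at this
      exact hc this
  ext g
  rw [mem_Nor_iff (caG G) hx, mem_Bor]
  constructor
  · intro h
    have h' : (g.1 * u c * g.1⁻¹) * u c = u c * (g.1 * u c * g.1⁻¹) := congrArg Subtype.val h
    exact (conj_u_commute_iff hc g.1).1 h'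
  · intro h
    apply Subtype.ext
    exact (conj_u_commute_iff hc g.1).2 h

end unip

section del

theorem Bor_00_ne (G : Subgroup SL2) (g : Bor G) : g.1.1.1 0 0 ≠ 0 := by
  intro h
  have hd := det_eq g.1.1
  rw [h, (mem_Bor G).1 g.2] at hd
  simp at hd

/-- the diagonal entry map -/
def del (G : Subgroup SL2) : Bor G →* Fˣ where
  toFun g := Units.mk0 (g.1.1.1 0 0) (Bor_00_ne G g)
  map_one' := by
    apply Units.ext
    simp
  map_mul' := by
    intro g h
    apply Units.ext
    show (g.1.1 * h.1.1).1 0 0 = g.1.1.1 0 0 * h.1.1.1 0 0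
    rw [mul_00, (mem_Bor G).1 h.2]
    ring

theorem del_apply (G : Subgroup SL2) (g : Bor G) : ((del G g : Fˣ) : F) = g.1.1.1 0 0 := rfl

theorem mem_ker_del (G : Subgroup SL2) (g : Bor G) : g ∈ (del G).ker ↔ g.1.1.1 0 0 = 1 := by
  rw [MonoidHom.mem_ker]
  constructor
  · intro h
    have := congrArg (fun e : Fˣ => (e : F)) h
    simpa [del_apply] using this
  · intro h
    apply Units.ext
    rw [del_apply, h]; rfl

variable [Finite F]

theorem card_ker_del (G : Subgroup SL2) : Nat.card (del G).ker = Nat.card (A G) := by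
  symm
  refine Nat.card_congr (Equiv.ofBijective
    (fun a => ⟨⟨⟨u a.1, a.2⟩, by rw [mem_Bor]; simp⟩, by rw [mem_ker_del]; simp⟩) ⟨?_, ?_⟩)
  · intro a b h
    have h1 : u a.1 = u b.1 := congrArg (fun w => w.1.1.1) h
    exact Subtype.ext (u_injective h1)
  · rintro ⟨g, hg⟩
    rw [mem_ker_del] at hg
    have g10 := (mem_Bor G).1 g.2
    have hd := det_eq g.1.1
    rw [hg, g10, mul_zero, sub_zero, one_mul] at hd
    have e : u (g.1.1.1 0 1) = g.1.1 := by
      apply ext4 <;> simp [hg, g10, hd]
    have hm : g.1.1.1 0 1 ∈ A G := by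
      rw [mem_A, e]; exact g.1.2
    refine ⟨⟨_, hm⟩, ?_⟩
    apply Subtype.ext
    apply Subtype.ext
    apply Subtype.ext
    exact e

theorem card_Bor (G : Subgroup SL2) :
    Nat.card (Bor G) = Nat.card (A G) * Nat.card (del G).range := by
  rw [Subgroup.card_eq_card_quotient_mul_card_subgroup (del G).ker, card_ker_del,
    Nat.card_congr (QuotientGroup.quotientKerEquivRange (del G)).toEquiv, mul_comm]

/-- squares of diagonal entries stabilise `A` -/
theorem sq_mul_mem (G : Subgroup SL2) (g : Bor G) {a : F} (ha : a ∈ A G) :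
    (g.1.1.1 0 0) ^ 2 * a ∈ A G := by
  rw [mem_A] at ha ⊢
  have h := conj_u_of_eq g.1.1 ((mem_Bor G).1 g.2) a
  have : u ((g.1.1.1 0 0) ^ 2 * a) = g.1.1 * u a * g.1.1⁻¹ := by
    rw [h]; group
  rw [this]
  exact mul_mem (mul_mem g.1.2 ha) (inv_mem g.1.2)

end del

end Cfsg.Agent.H9.DicksonUN
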