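import Mathlib
import Cfsg.Agent.H9.DicksonUN

set_option autoImplicit false

/-! The multiplier field of the unipotent parameters and the torus part of the Borel subgroup. -/

namespace Cfsg.Agent.H9.DicksonUN

open Matrix
open Cfsg.Agent.H9.AutPSL2
open Cfsg.Agent.H9.DicksonSS
open Cfsg.Agent.H9.DicksonCE

variable {F : Type*} [Field F]

local notation "SL2" => Matrix.SpecialLinearGroup (Fin 2) F
local notation "M2" => Matrix (Fin 2) (Fin 2) F

section mult

variable [Finite F]

/-- the multiplier field of an additive subgroup -/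
def Mul (A : AddSubgroup F) : Subfield F where
  carrier := {μ : F | ∀ a ∈ A, μ * a ∈ A}
  mul_mem' := fun {x y} hx hy a ha => by rw [mul_assoc]; exact hx _ (hy a ha)
  one_mem' := fun a ha => by rwa [one_mul]
  add_mem' := fun {x y} hx hy a ha => by rw [add_mul]; exact A.add_mem (hx a ha) (hy a ha)
  zero_mem' := fun a _ => by rw [zero_mul]; exact A.zero_mem
  neg_mem' := fun {x} hx a ha => by rw [neg_mul]; exact A.neg_mem (hx a ha)
  inv_mem' := by
    intro x hx a ha
    by_cases h0 : x = 0
    · rw [h0, _root_.inv_zero, zero_mul]; exact A.zero_mem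
    · let f : A → A := fun b => ⟨x * b.1, hx b.1 b.2⟩
      have hinj : Function.Injective f := by
        intro b b' h
        have : x * b.1 = x * b'.1 := congrArg Subtype.val h
        exact Subtype.ext (mul_left_cancel₀ h0 this)
      obtain ⟨b, hb⟩ := (Finite.injective_iff_surjective.1 hinj) ⟨a, ha⟩
      have : x * b.1 = a := congrArg Subtype.val hb
      rw [← this, ← mul_assoc, inv_mul_cancel₀ h0, one_mul]
      exact b.2

theorem mem_Mul {A : AddSubgroup F} {μ : F} : μ ∈ Mul A ↔ ∀ a ∈ A, μ * a ∈ A := Iff.rfl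

/-- `A` as a subspace over its multiplier field -/
def Asub (A : AddSubgroup F) : Submodule (Mul A) F where
  carrier := A
  add_mem' := A.add_mem
  zero_mem' := A.zero_mem
  smul_mem' := by
    intro c x hx
    rw [Subfield.smul_def]
    exact c.2 x hx

theorem card_A_pow (A : AddSubgroup F) :
    ∃ r : ℕ, Nat.card A = Nat.card (Mul A) ^ r ∧ (A ≠ ⊥ → 1 ≤ r) := by
  haveI : Module.Finite (Mul A) (Asub A) := Module.Finite.of_finite
  refine ⟨Module.finrank (Mul A) (Asub A), ?_, ?_⟩
  · rw [← Module.natCard_eq_pow_finrank]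
    rfl
  · intro hne
    by_contra hr
    have hr0 : Module.finrank (Mul A) (Asub A) = 0 := by omega
    have h1 := Module.natCard_eq_pow_finrank (K := Mul A) (V := Asub A)
    rw [hr0, pow_zero] at h1
    apply hne
    rw [eq_bot_iff]
    intro a ha
    have hsub : Subsingleton (Asub A) := (Nat.card_eq_one_iff_unique.1 h1).1
    have : (⟨a, ha⟩ : Asub A) = 0 := Subsingleton.elim _ _
    have := congrArg Subtype.val this
    simpa using this

end mult

section theta

/-- the squared diagonal entry -/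
def theta (G : Subgroup SL2) : Bor G →* Fˣ := (powMonoidHom 2).comp (del G)

theorem theta_apply (G : Subgroup SL2) (g : Bor G) :
    ((theta G g : Fˣ) : F) = (g.1.1.1 0 0) ^ 2 := by
  show (((del G g) ^ 2 : Fˣ) : F) = _
  rw [Units.val_pow_eq_pow_val, del_apply]

theorem mem_ker_theta (G : Subgroup SL2) (g : Bor G) :
    g ∈ (theta G).ker ↔ (g.1.1.1 0 0) ^ 2 = 1 := by
  rw [MonoidHom.mem_ker]
  constructor
  · intro h
    rw [← theta_apply, h]; rfl
  · intro h
    apply Units.ext
    rw [theta_apply, h]; rfl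

variable [Finite F]

theorem card_ker_theta (G : Subgroup SL2) {c : F} (hc : c ≠ 0) (hu : u c ∈ G) :
    Nat.card (theta G).ker = Nat.card (Cent (⟨u c, hu⟩ : G)) := by
  refine Nat.card_congr (Equiv.ofBijective (fun g => ⟨g.1.1, ?_⟩) ⟨?_, ?_⟩)
  · rw [mem_Cent]
    apply Subtype.ext
    show g.1.1.1 * u c = u c * g.1.1.1
    rw [commute_u_iff hc]
    have h10 := (mem_Bor G).1 g.1.2
    refine ⟨h10, ?_⟩
    have h2 := (mem_ker_theta G g.1).1 g.2
    have hd := det_eq g.1.1.1
    rw [h10, mul_zero, sub_zero] at hd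
    have hne := Bor_00_ne G g.1
    apply mul_left_cancel₀ hne
    rw [hd, ← pow_two, h2]
  · intro g g' h
    have : g.1.1 = g'.1.1 := by
      have := congrArg Subtype.val h
      exact this
    exact Subtype.ext (Subtype.ext this)
  · rintro ⟨g, hg⟩
    rw [mem_Cent] at hg
    have hg' : g.1 * u c = u c * g.1 := congrArg Subtype.val hg
    obtain ⟨g10, gd⟩ := (commute_u_iff hc g.1).1 hg'
    have hB : g ∈ Bor G := (mem_Bor G).2 g10
    have hk : (⟨g, hB⟩ : Bor G) ∈ (theta G).ker := by
      rw [mem_ker_theta]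
      have hd := det_eq g.1
      rw [g10, mul_zero, sub_zero, ← gd] at hd
      show (g.1.1 0 0) ^ 2 = 1
      rw [pow_two, hd]
    exact ⟨⟨⟨g, hB⟩, hk⟩, rfl⟩

/-- `|N| = |C| t` -/
theorem card_Nor_u (G : Subgroup SL2) {c : F} (hc : c ≠ 0) (hu : u c ∈ G) :
    Nat.card (Nor (⟨u c, hu⟩ : G)) =
      Nat.card (Cent (⟨u c, hu⟩ : G)) * Nat.card (theta G).range := by
  rw [Nor_u G hc hu, Subgroup.card_eq_card_quotient_mul_card_subgroup (theta G).ker,
    card_ker_theta G hc hu,
    Nat.card_congr (QuotientGroup.quotientKerEquivRange (theta G)).toEquiv, mul_comm]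

/-- `t` divides `|M| - 1` -/
theorem card_range_theta_dvd (G : Subgroup SL2) :
    Nat.card (theta G).range ∣ Nat.card (Mul (A G)) - 1 := by
  have hle : (theta G).range ≤ (Units.map (Mul (A G)).subtype.toMonoidHom).range := by
    rintro e ⟨g, rfl⟩
    have hm : (g.1.1.1 0 0) ^ 2 ∈ Mul (A G) := by
      rw [mem_Mul]
      intro a ha
      exact sq_mul_mem G g ha
    have hne : (g.1.1.1 0 0) ^ 2 ≠ 0 := pow_ne_zero 2 (Bor_00_ne G g)
    refine ⟨Units.mk0 ⟨_, hm⟩ (fun h => hne (congrArg Subtype.val h)), ?_⟩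
    apply Units.ext
    rw [theta_apply]
    rfl
  have h1 := Subgroup.card_dvd_of_le hle
  have hinj : Function.Injective (Units.map (Mul (A G)).subtype.toMonoidHom) :=
    Units.map_injective (Subtype.val_injective)
  have h2 : Nat.card (Units.map (Mul (A G)).subtype.toMonoidHom).range = Nat.card (Mul (A G)) - 1 := by
    rw [← Nat.card_units]
    exact Nat.card_range_of_injective hinj
  rwa [h2] at h1

/-- `t` divides `s - 1` -/
theorem card_range_theta_dvd' (G : Subgroup SL2) :
    Nat.card (theta G).range ∣ Nat.card (A G) - 1 := by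
  obtain ⟨r, hr, _⟩ := card_A_pow (A G)
  rw [hr]
  refine (card_range_theta_dvd G).trans ?_
  have := Nat.sub_dvd_pow_sub_pow (Nat.card (Mul (A G))) 1 r
  rwa [one_pow] at this

end theta

end Cfsg.Agent.H9.DicksonUN
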