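import Mathlib
import Cfsg.Agent.H9.DicksonUN2

set_option autoImplicit false

/-! The orbit of the point at infinity under a subgroup of `SL₂(F)`. -/

namespace Cfsg.Agent.H9.DicksonUN

open Matrix
open Cfsg.Agent.H9.AutPSL2
open Cfsg.Agent.H9.DicksonSS
open Cfsg.Agent.H9.DicksonCE

variable {F : Type*} [Field F]

local notation "SL2" => Matrix.SpecialLinearGroup (Fin 2) F
local notation "M2" => Matrix (Fin 2) (Fin 2) F

/-- a set stable under translation by a finite additive subgroup has cardinality divisible by
the order of the subgroup -/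
theorem card_dvd_of_translate [Finite F] (A : AddSubgroup F) :
    ∀ (n : ℕ) (Ω : Set F), Ω.ncard = n → (∀ ω ∈ Ω, ∀ a ∈ A, ω + a ∈ Ω) → Nat.card A ∣ n := by
  intro n
  induction n using Nat.strong_induction_on with
  | _ n ih =>
    intro Ω hn hst
    rcases Set.eq_empty_or_nonempty Ω with h0 | ⟨ω, hω⟩
    · rw [h0, Set.ncard_empty] at hn
      rw [← hn]; exact dvd_zero _
    · set C : Set F := (fun a : F => ω + a) '' (A : Set F) with hC
      have hCsub : C ⊆ Ω := by
        rintro _ ⟨a, ha, rfl⟩
        exact hst ω hω a ha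
      have hCcard : C.ncard = Nat.card A := by
        rw [hC, Set.ncard_image_of_injective _ (add_right_injective ω), ← Nat.card_coe_set_eq]
        rfl
      have hsplit : (Ω \ C).ncard + C.ncard = Ω.ncard :=
        Set.ncard_diff_add_ncard_of_subset hCsub (Set.toFinite _)
      have hApos : 0 < Nat.card A := Nat.card_pos
      have hlt : (Ω \ C).ncard < n := by omega
      have hst' : ∀ ω' ∈ Ω \ C, ∀ a ∈ A, ω' + a ∈ Ω \ C := by
        rintro ω' ⟨h1, h2⟩ a ha
        refine ⟨hst ω' h1 a ha, ?_⟩
        rintro ⟨b, hb, hb'⟩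
        apply h2
        refine ⟨b - a, A.sub_mem hb ha, ?_⟩
        show ω + (b - a) = ω'
        have : ω + b = ω' + a := hb'
        linear_combination this
      have := ih _ hlt (Ω \ C) rfl hst'
      rw [← hn, ← hsplit, hCcard]
      exact Dvd.dvd.add this (dvd_refl _)

/-- the finite points of the orbit of `∞` -/
def Om (G : Subgroup SL2) : Set F := {ω : F | ∃ g ∈ G, g.1 1 0 ≠ 0 ∧ ω = g.1 0 0 / g.1 1 0}

theorem Om_translate (G : Subgroup SL2) : ∀ ω ∈ Om G, ∀ a ∈ A G, ω + a ∈ Om G := by
  rintro ω ⟨g, hg, h10, rfl⟩ a ha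
  refine ⟨u a * g, mul_mem ha hg, ?_, ?_⟩
  · rw [mul_10]; simpa using h10
  · rw [mul_10, mul_00]
    simp only [u_00, u_01, u_10, u_11]
    rw [zero_mul, zero_add, one_mul, one_mul, add_div, mul_div_assoc, div_self h10, mul_one]

theorem card_A_dvd_Om [Finite F] (G : Subgroup SL2) : Nat.card (A G) ∣ (Om G).ncard :=
  card_dvd_of_translate (A G) _ (Om G) rfl (Om_translate G)

/-- the orbit map -/
noncomputable def orb (G : Subgroup SL2) (g : G) : Option F :=
  open Classical in if g.1.1 1 0 = 0 then none else some (g.1.1 0 0 / g.1.1 1 0)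

theorem orb_eq_iff (G : Subgroup SL2) (g h : G) : orb G g = orb G h ↔ g⁻¹ * h ∈ Bor G := by
  classical
  rw [mem_Bor]
  show _ ↔ (g.1⁻¹ * h.1).1 1 0 = 0
  rw [mul_10, inv_10, inv_11]
  unfold orb
  have hdg := det_eq g.1
  have hdh := det_eq h.1
  by_cases hg : g.1.1 1 0 = 0
  · rw [if_pos hg]
    have g00 : g.1.1 0 0 ≠ 0 := by
      intro h0; rw [h0, hg] at hdg; simp at hdg
    by_cases hh : h.1.1 1 0 = 0
    · rw [if_pos hh, hg, hh]; simp
    · rw [if_neg hh, hg]
      simp only [neg_zero, zero_mul, zero_add]
      constructor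
      · intro h'; exact absurd h' (by simp)
      · intro h'
        rcases mul_eq_zero.1 h' with h'' | h''
        · exact absurd h'' g00
        · exact absurd h'' hh
  · rw [if_neg hg]
    by_cases hh : h.1.1 1 0 = 0
    · rw [if_pos hh, hh]
      have h00 : h.1.1 0 0 ≠ 0 := by
        intro h0; rw [h0, hh] at hdh; simp at hdh
      constructor
      · intro h'; exact absurd h' (by simp)
      · intro h'
        simp only [mul_zero, add_zero] at h'
        rcases mul_eq_zero.1 h' with h'' | h''
        · exact absurd (neg_eq_zero.1 h'') hg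
        · exact absurd h'' h00
    · rw [if_neg hh, Option.some_inj, div_eq_div_iff hg hh]
      constructor
      · intro h'; linear_combination h'
      · intro h'; linear_combination h'

theorem range_orb (G : Subgroup SL2) :
    Set.range (orb G) = insert none (some '' (Om G)) := by
  classical
  ext o
  constructor
  · rintro ⟨g, rfl⟩
    unfold orb
    by_cases hg : g.1.1 1 0 = 0
    · rw [if_pos hg]; exact Set.mem_insert _ _
    · rw [if_neg hg]
      right
      exact ⟨_, ⟨g.1, g.2, hg, rfl⟩, rfl⟩
  · rintro (rfl | ⟨ω, ⟨g, hg, h10, rfl⟩, rfl⟩)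
    · refine ⟨1, ?_⟩
      unfold orb
      rw [if_pos]; simp
    · refine ⟨⟨g, hg⟩, ?_⟩
      unfold orb
      rw [if_neg h10]

/-- `|G| = |B| (1 + |Ω|)` -/
theorem card_eq_Bor_mul [Finite F] (G : Subgroup SL2) :
    Nat.card G = Nat.card (Bor G) * (1 + (Om G).ncard) := by
  classical
  rw [Subgroup.card_eq_card_quotient_mul_card_subgroup (Bor G), mul_comm]
  congr 1
  -- the quotient is in bijection with the range of `orb`
  let f : G ⧸ Bor G → Option F := Quotient.lift (orb G) (by
    intro a b hab
    rw [orb_eq_iff]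
    exact QuotientGroup.leftRel_apply.1 hab)
  have hf : Function.Injective f := by
    intro x y
    induction x using Quotient.inductionOn with | _ a => ?_
    induction y using Quotient.inductionOn with | _ b => ?_
    intro h
    have h' : orb G a = orb G b := h
    rw [orb_eq_iff] at h'
    exact Quotient.sound (QuotientGroup.leftRel_apply.2 h')
  have hr : Set.range f = Set.range (orb G) := by
    ext o
    constructor
    · rintro ⟨x, rfl⟩
      induction x using Quotient.inductionOn with | _ a => ?_
      exact ⟨a, rfl⟩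
    · rintro ⟨a, rfl⟩
      exact ⟨Quotient.mk _ a, rfl⟩
  rw [← Nat.card_range_of_injective hf, hr, range_orb, Nat.card_coe_set_eq,
    Set.ncard_insert_of_notMem (by simp) (Set.toFinite _),
    Set.ncard_image_of_injective _ (Option.some_injective F), add_comm]

end Cfsg.Agent.H9.DicksonUN
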