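import Mathlib
import Cfsg.Agent.H9.DicksonUN
import Cfsg.Agent.H9.AutPSL2Hom
import Cfsg.Agent.S0800

set_option autoImplicit false

/-! Class data of semisimple elements of a subgroup of `SL₂(F)`. -/

namespace Cfsg.Agent.H9.DicksonUN

open Matrix
open Cfsg.Agent.H9.AutPSL2
open Cfsg.Agent.H9.DicksonSS
open Cfsg.Agent.H9.DicksonCE

variable {F : Type*} [Field F]

local notation "SL2" => Matrix.SpecialLinearGroup (Fin 2) F
local notation "M2" => Matrix (Fin 2) (Fin 2) F

/-- the centralizer of a semisimple element of `G` is cyclic -/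
theorem isCyclic_Cent [Finite F] (G : Subgroup SL2) (x : G) (hx : x.1 ∉ Subgroup.center SL2)
    (hss : x.1.1.trace ^ 2 ≠ 4) : IsCyclic (Cent x) := by
  have := isCyclic_centralizer (nonScalar_of_not_mem_center hx) hss
  let f : Cent x →* Subgroup.centralizer ({x.1} : Set SL2) :=
    { toFun := fun y => ⟨y.1.1, by
        rw [Subgroup.mem_centralizer_iff]
        intro z hz
        rw [Set.mem_singleton_iff] at hz
        rw [hz]
        have := mem_Cent.1 y.2
        exact (congrArg Subtype.val this).symm⟩
      map_one' := rfl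
      map_mul' := fun _ _ => rfl }
  apply isCyclic_of_injective f
  intro a b hab
  apply Subtype.ext
  apply Subtype.ext
  exact congrArg (fun z : Subgroup.centralizer ({x.1} : Set SL2) => z.1) hab

/-- an element normalizing but not centralizing inverts -/
theorem conj_eq_inv_of_mem_Nor (G : Subgroup SL2) (x : G) (hx : x.1 ∉ Subgroup.center SL2)
    (hss : x.1.1.trace ^ 2 ≠ 4) (g : G) (hg : g ∈ Nor x) (hgc : g ∉ Cent x) :
    g * x * g⁻¹ = x⁻¹ := by
  have hxZ : x ∉ ZG G := fun h => hx ((mem_ZG G).1 h)
  have h1 := (mem_Nor_iff (caG G) hxZ g).1 hg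
  have h2 : (g * x * g⁻¹).1 * x.1 = x.1 * (g * x * g⁻¹).1 := congrArg Subtype.val h1
  have h3 : x.1.1.trace = (g * x * g⁻¹).1.1.trace := by
    show _ = (g.1 * x.1 * g.1⁻¹).1.trace
    rw [Cfsg.Agent.H9.AutPSL2.trace_conj]
  rcases eq_or_eq_inv_of_trace (nonScalar_of_not_mem_center hx) hss x.1 (g * x * g⁻¹).1 rfl h2 h3
    with h | h
  · exfalso
    apply hgc
    rw [mem_Cent]
    have h' : g * x * g⁻¹ = x := Subtype.ext h
    calc g * x = (g * x * g⁻¹) * g := by group
      _ = x * g := by rw [h']
  · exact Subtype.ext h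

theorem sq_mem_ZG (G : Subgroup SL2) (x : G) (hx : x.1 ∉ Subgroup.center SL2)
    (hss : x.1.1.trace ^ 2 ≠ 4) (g : G) (hg : g ∈ Nor x) (hgc : g ∉ Cent x) :
    g * g ∈ ZG G := by
  have h := conj_eq_inv_of_mem_Nor G x hx hss g hg hgc
  have h' : g.1 * x.1 * g.1⁻¹ = x.1⁻¹ := congrArg Subtype.val h
  have := sq_of_inverts (nonScalar_of_not_mem_center hx) g.1 h'
  rw [mem_ZG, mem_center_iff']
  right
  exact this

/-- the normalizer of the centralizer of a semisimple element has index at most two -/
theorem card_Nor_ss [Finite F] (G : Subgroup SL2) (x : G) (hx : x.1 ∉ Subgroup.center SL2)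
    (hss : x.1.1.trace ^ 2 ≠ 4) :
    Nat.card (Nor x) = Nat.card (Cent x) ∨ Nat.card (Nor x) = 2 * Nat.card (Cent x) := by
  have hle : Cent x ≤ Nor x := Subgroup.le_normalizer
  by_cases hex : ∃ w ∈ Nor x, w ∉ Cent x
  · right
    obtain ⟨w, hw, hwc⟩ := hex
    have hrel : (Cent x).relIndex (Nor x) = 2 := by
      rw [Subgroup.relIndex_eq_two_iff_exists_notMem_and]
      refine ⟨w, hw, hwc, ?_⟩
      intro b hb
      by_cases hbc : b ∈ Cent x
      · right; exact hbc
      · left
        have h1 := conj_eq_inv_of_mem_Nor G x hx hss w hw hwc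
        have h2 := conj_eq_inv_of_mem_Nor G x hx hss b hb hbc
        rw [mem_Cent]
        have h3 : w * x = x⁻¹ * w := by
          calc w * x = (w * x * w⁻¹) * w := by group
            _ = x⁻¹ * w := by rw [h1]
        have h4 : b * x⁻¹ = x * b := by
          have : b * x = x⁻¹ * b := by
            calc b * x = (b * x * b⁻¹) * b := by group
              _ = x⁻¹ * b := by rw [h2]
          calc b * x⁻¹ = x * (x⁻¹ * b) * x⁻¹ := by group
            _ = x * (b * x) * x⁻¹ := by rw [this]
            _ = x * b := by group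
        calc b * w * x = b * (w * x) := by group
          _ = b * (x⁻¹ * w) := by rw [h3]
          _ = (b * x⁻¹) * w := by group
          _ = x * b * w := by rw [h4]
          _ = x * (b * w) := by group
    have h1 := Subgroup.relIndex_mul_relIndex (⊥ : Subgroup G) (Cent x) (Nor x) bot_le hle
    rw [Subgroup.relIndex_bot_left, Subgroup.relIndex_bot_left, hrel] at h1
    omega
  · left
    push Not at hex
    have : Nor x = Cent x := le_antisymm (fun g hg => hex g hg) hle
    rw [this]

/-- the centralizer strictly contains the centre -/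
theorem card_Cent_gt [Finite F] (G : Subgroup SL2) (x : G) (hx : x.1 ∉ Subgroup.center SL2) :
    ∃ a : ℕ, 2 ≤ a ∧ Nat.card (Cent x) = Nat.card (ZG G) * a := by
  have hle : ZG G ≤ Cent x := Z_le_Cent (caG G) x
  obtain ⟨a, ha⟩ := Subgroup.card_dvd_of_le hle
  refine ⟨a, ?_, ha⟩
  by_contra hcon
  have hpos : 0 < Nat.card (Cent x) := Nat.card_pos
  have ha1 : a = 1 := by
    rcases Nat.eq_zero_or_pos a with h0 | h0
    · rw [h0, mul_zero] at ha; omega
    · omega
  rw [ha1, mul_one] at ha
  have := Subgroup.eq_of_le_of_card_ge hle (le_of_eq ha)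
  apply hx
  rw [← mem_ZG, this, mem_Cent]

/-- the order of the centralizer of a semisimple element divides `q ± 1` -/
theorem card_Cent_dvd [Fintype F] (p : ℕ) [Fact p.Prime] [CharP F p] (G : Subgroup SL2) (x : G)
    (hx : x.1 ∉ Subgroup.center SL2) (hss : x.1.1.trace ^ 2 ≠ 4) :
    Nat.card (Cent x) ∣ Fintype.card F - 1 ∨ Nat.card (Cent x) ∣ Fintype.card F + 1 := by
  have := isCyclic_Cent G x hx hss
  obtain ⟨c, hc⟩ := IsCyclic.exists_generator (α := Cent x)
  have hord : orderOf c = Nat.card (Cent x) := orderOf_eq_card_of_forall_mem_zpowers hc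
  have hinj : Function.Injective (fun y : Cent x => y.1.1) := by
    intro a b hab
    exact Subtype.ext (Subtype.ext hab)
  have hord' : orderOf c.1.1 = Nat.card (Cent x) := by
    rw [← hord]
    exact orderOf_injective ((G.subtype).comp (Cent x).subtype) hinj c
  rw [← hord']
  apply Cfsg.Agent.S0800.result rfl p
  rw [hord']
  rw [Nat.coprime_comm, Nat.Prime.coprime_iff_not_dvd (Fact.out)]
  intro hdvd
  obtain ⟨y, hy⟩ := exists_prime_orderOf_dvd_card' p hdvd
  have hyp : y.1.1 ^ p = 1 := by
    have : y ^ p = 1 := by rw [← hy]; exact pow_orderOf_eq_one y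
    have := congrArg (fun z : Cent x => z.1.1) this
    simpa using this
  have htr := trace_of_pow_p p y.1.1 1 (by rw [pow_one]; exact hyp)
  have hcomm : y.1.1 * x.1 = x.1 * y.1.1 := congrArg Subtype.val (mem_Cent.1 y.2)
  have hy1 : y.1.1 = 1 := by
    rcases central_of_trace (nonScalar_of_not_mem_center hx) hss y.1.1 hcomm
      (by rw [htr]; norm_num) with h | h
    · exact h
    · rw [h] at hyp
      rcases Nat.Prime.eq_two_or_odd' (Fact.out : p.Prime) with h2 | hodd
      · rw [h]
        have h2F : (2 : F) = 0 := by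
          have := CharP.cast_eq_zero F p
          rw [h2] at this
          exact_mod_cast this
        have hm : (-1 : F) = 1 := by linear_combination -h2F
        apply ext4 <;> simp [hm]
      · rw [hodd.neg_one_pow] at hyp
        rw [h, hyp]
  have : y = 1 := Subtype.ext (Subtype.ext hy1)
  rw [this, orderOf_one] at hy
  exact (Fact.out : p.Prime).one_lt.ne hy

end Cfsg.Agent.H9.DicksonUN
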