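import Mathlib
import Cfsg.Agent.H9.DicksonOrb
import Cfsg.Agent.H9.DicksonSSG

set_option autoImplicit false

/-! All unipotent elements of `G` lie in one class. -/

namespace Cfsg.Agent.H9.DicksonUN

open Matrix
open Cfsg.Agent.H9.AutPSL2
open Cfsg.Agent.H9.DicksonSS
open Cfsg.Agent.H9.DicksonCE

variable {F : Type*} [Field F]

local notation "SL2" => Matrix.SpecialLinearGroup (Fin 2) F
local notation "M2" => Matrix (Fin 2) (Fin 2) F

theorem u_pow (a : F) (k : ℕ) : (u a) ^ k = u (k * a) := by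
  induction k with
  | zero => simp [u_zero]
  | succ k ih =>
    rw [pow_succ, ih, ← u_add]
    congr 1
    push_cast
    ring

theorem pow_p_of_trace (p : ℕ) [Fact p.Prime] [CharP F p] (x : SL2) (htr : x.1.trace = 2) :
    x ^ p = 1 := by
  obtain ⟨m, c, h⟩ := exists_conj_u x htr
  have e : x = m⁻¹ * u c * m⁻¹⁻¹ := by rw [← h]; group
  rw [e, conj_pow, u_pow, CharP.cast_eq_zero F p, zero_mul, u_zero]
  group

/-- `p` divides the order of a nontrivial additive subgroup -/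
theorem p_dvd_card_A [Finite F] (p : ℕ) [Fact p.Prime] [CharP F p] (A : AddSubgroup F) {c : F}
    (hc : c ≠ 0) (hcA : c ∈ A) : p ∣ Nat.card A := by
  have h1 : addOrderOf c = p := by
    apply addOrderOf_eq_prime
    · rw [nsmul_eq_mul, CharP.cast_eq_zero F p, zero_mul]
    · exact hc
  rw [← h1]
  exact AddSubgroup.addOrderOf_dvd_natCard A hcA

/-- the index of the Borel subgroup is `≡ 1 mod p` -/
theorem not_dvd_index_Bor [Finite F] (p : ℕ) [Fact p.Prime] [CharP F p] (G : Subgroup SL2) {c : F}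
    (hc : c ≠ 0) (hu : u c ∈ G) : ¬ p ∣ Nat.card (G ⧸ Bor G) := by
  have h1 := card_eq_Bor_mul G
  have h2 := Subgroup.card_mul_index (Bor G)
  have hpos : 0 < Nat.card (Bor G) := Nat.card_pos
  have hidx : (Bor G).index = 1 + (Om G).ncard := by
    rw [h1] at h2
    exact Nat.eq_of_mul_eq_mul_left hpos h2
  rw [← Subgroup.index_eq_card, hidx]
  have h3 : p ∣ (Om G).ncard := (p_dvd_card_A p (A G) hc hu).trans (card_A_dvd_Om G)
  intro h4
  have : p ∣ 1 := (Nat.dvd_add_left h3).1 h4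
  exact (Fact.out : p.Prime).one_lt.ne' (Nat.dvd_one.1 this)

theorem R_of_unip_aux [Finite F] (p : ℕ) [Fact p.Prime] [CharP F p] (G : Subgroup SL2) {c : F}
    (hc : c ≠ 0) (hu : u c ∈ G) (y : G) (htr : y.1.1.trace = 2) : R (⟨u c, hu⟩ : G) y := by
  have hyp : y ^ p = 1 := Subtype.ext (pow_p_of_trace p y.1 htr)
  have hP : IsPGroup p (Subgroup.zpowers y) := by
    rintro ⟨z, hz⟩
    obtain ⟨k, rfl⟩ := Subgroup.mem_zpowers_iff.1 hz
    refine ⟨1, Subtype.ext ?_⟩
    show (y ^ k) ^ p ^ 1 = 1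
    rw [pow_one, ← zpow_natCast, ← _root_.zpow_mul, mul_comm, _root_.zpow_mul, zpow_natCast, hyp, _root_.one_zpow]
  obtain ⟨qq, hq⟩ := hP.nonempty_fixed_point_of_prime_not_dvd_card (G ⧸ Bor G)
    (not_dvd_index_Bor p G hc hu)
  obtain ⟨g, rfl⟩ := QuotientGroup.mk_surjective qq
  have h1 := hq ⟨y, Subgroup.mem_zpowers y⟩
  have h2 : ((y * g : G) : G ⧸ Bor G) = (g : G ⧸ Bor G) := h1
  rw [QuotientGroup.eq] at h2
  have h3 : g⁻¹ * y * g ∈ Bor G := by
    have := (Bor G).inv_mem h2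
    convert this using 1
    group
  set w : G := g⁻¹ * y * g with hw
  have hw10 : w.1.1 1 0 = 0 := (mem_Bor G).1 h3
  have hwtr : w.1.1.trace = 2 := by
    have : w.1 = g.1⁻¹ * y.1 * g.1⁻¹⁻¹ := by rw [hw]; simp
    rw [this, Cfsg.Agent.H9.AutPSL2.trace_conj]; exact htr
  have hdet := det_eq w.1
  rw [hw10, mul_zero, sub_zero] at hdet
  rw [Matrix.trace_fin_two] at hwtr
  have h00 : w.1.1 0 0 = 1 := by
    have : (w.1.1 0 0 - 1) ^ 2 = 0 := by linear_combination (-1 : F) * hdet + w.1.1 0 0 * hwtr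
    have := pow_eq_zero_iff (two_ne_zero) |>.1 this
    linear_combination this
  have h11 : w.1.1 1 1 = 1 := by linear_combination hwtr - h00
  have hcomm : w * ⟨u c, hu⟩ = ⟨u c, hu⟩ * w := by
    apply Subtype.ext
    show w.1 * u c = u c * w.1
    rw [commute_u_iff hc]
    exact ⟨hw10, by rw [h00, h11]⟩
  refine ⟨g, ?_⟩
  have hy : y = g * w * g⁻¹ := by rw [hw]; group
  calc y * (g * ⟨u c, hu⟩ * g⁻¹) = g * (w * ⟨u c, hu⟩) * g⁻¹ := by rw [hy]; group
    _ = g * (⟨u c, hu⟩ * w) * g⁻¹ := by rw [hcomm]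
    _ = g * ⟨u c, hu⟩ * g⁻¹ * y := by rw [hy]; group

/-- every non-central element of trace `±2` is related to `u c` -/
theorem R_of_unip [Finite F] (p : ℕ) [Fact p.Prime] [CharP F p] (G : Subgroup SL2)
    (hZ : Subgroup.center SL2 ≤ G) {c : F} (hc : c ≠ 0) (hu : u c ∈ G) (x : G)
    (htr : x.1.1.trace ^ 2 = 4) : R (⟨u c, hu⟩ : G) x := by
  have h2 : (x.1.1.trace - 2) * (x.1.1.trace + 2) = 0 := by linear_combination htr
  rcases mul_eq_zero.1 h2 with h | h
  · exact R_of_unip_aux p G hc hu x (by linear_combination h)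
  · have hneg : (-1 : SL2) ∈ G := hZ ((mem_center_iff' _).2 (Or.inr rfl))
    have hm : -x.1 ∈ G := by
      have := G.mul_mem hneg x.2
      simpa using this
    have htr' : (⟨-x.1, hm⟩ : G).1.1.trace = 2 := by
      show (-x.1).1.trace = 2
      rw [Matrix.SpecialLinearGroup.coe_neg, Matrix.trace_neg]
      linear_combination -h
    obtain ⟨g, hg⟩ := R_of_unip_aux p G hc hu ⟨-x.1, hm⟩ htr'
    refine ⟨g, ?_⟩
    have hg' := congrArg Subtype.val hg
    apply Subtype.ext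
    have e1 : (⟨-x.1, hm⟩ * (g * ⟨u c, hu⟩ * g⁻¹) : G).1 = -(x.1 * (g * ⟨u c, hu⟩ * g⁻¹ : G).1) := by
      show -x.1 * _ = _
      rw [neg_mul]
    have e2 : ((g * ⟨u c, hu⟩ * g⁻¹) * ⟨-x.1, hm⟩ : G).1 = -((g * ⟨u c, hu⟩ * g⁻¹ : G).1 * x.1) := by
      show _ * -x.1 = _
      rw [mul_neg]
    rw [e1, e2] at hg'
    exact neg_injective hg'

end Cfsg.Agent.H9.DicksonUN
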