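import Mathlib
import Cfsg.Agent.H9.DicksonUN3

set_option autoImplicit false

/-! The class of a diagonal element. -/

namespace Cfsg.Agent.H9.DicksonUN

open Matrix
open Cfsg.Agent.H9.AutPSL2
open Cfsg.Agent.H9.DicksonSS
open Cfsg.Agent.H9.DicksonCE

variable {F : Type*} [Field F]

local notation "SL2" => Matrix.SpecialLinearGroup (Fin 2) F
local notation "M2" => Matrix (Fin 2) (Fin 2) F

/-- diagonal matrices -/
def dg (e : Fˣ) : SL2 := ⟨!![(e : F), 0; 0, ((e⁻¹ : Fˣ) : F)], by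
  rw [Matrix.det_fin_two_of]; simp⟩

@[simp] theorem dg_00 (e : Fˣ) : (dg e).1 0 0 = (e : F) := rfl
@[simp] theorem dg_01 (e : Fˣ) : (dg e).1 0 1 = 0 := rfl
@[simp] theorem dg_10 (e : Fˣ) : (dg e).1 1 0 = 0 := rfl
@[simp] theorem dg_11 (e : Fˣ) : (dg e).1 1 1 = ((e⁻¹ : Fˣ) : F) := rfl

/-- `dg` as a homomorphism -/
def dgHom : Fˣ →* SL2 where
  toFun := dg
  map_one' := by apply ext4 <;> simp
  map_mul' a b := by
    apply ext4 <;> simp [mul_00, mul_01, mul_10, mul_11, mul_comm]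

theorem dgHom_apply (e : Fˣ) : dgHom e = dg e := rfl

theorem dg_injective : Function.Injective (dgHom : Fˣ →* SL2) := by
  intro a b h
  apply Units.ext
  have := congrArg (fun g : SL2 => g.1 0 0) h
  simpa [dgHom_apply] using this

theorem dg_zpow (e : Fˣ) (k : ℤ) : dg (e ^ k) = (dg e) ^ k := by
  rw [← dgHom_apply, map_zpow, dgHom_apply]

theorem sq_ne_one_iff (e : Fˣ) : ((e : F)) ^ 2 ≠ 1 ↔ ((e : F) - ((e⁻¹ : Fˣ) : F)) ≠ 0 := by
  have h1 : (e : F) * ((e⁻¹ : Fˣ) : F) = 1 := by simp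
  have he : (e : F) ≠ 0 := e.ne_zero
  constructor
  · intro h h'
    apply h
    have : (e : F) = ((e⁻¹ : Fˣ) : F) := by linear_combination h'
    calc (e : F) ^ 2 = (e : F) * (e : F) := by ring
      _ = (e : F) * ((e⁻¹ : Fˣ) : F) := by rw [← this]
      _ = 1 := h1
  · intro h h'
    apply h
    have : (e : F) * ((e : F) - ((e⁻¹ : Fˣ) : F)) = 0 := by linear_combination h' - h1
    rcases mul_eq_zero.1 this with h0 | h0
    · exact absurd h0 he
    · exact h0

theorem trace_dg_ne (e : Fˣ) (he : ((e : F)) ^ 2 ≠ 1) : (dg e).1.trace ^ 2 ≠ 4 := by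
  rw [Matrix.trace_fin_two, dg_00, dg_11]
  have h1 : (e : F) * ((e⁻¹ : Fˣ) : F) = 1 := by simp
  intro h
  have h2 : ((e : F) - ((e⁻¹ : Fˣ) : F)) ^ 2 = 0 := by linear_combination h - 4 * h1
  exact (sq_ne_one_iff e).1 he (pow_eq_zero_iff two_ne_zero |>.1 h2)

theorem dg_not_mem_center (e : Fˣ) (he : ((e : F)) ^ 2 ≠ 1) : dg e ∉ Subgroup.center SL2 := by
  intro h
  apply he
  rcases (mem_center_iff' _).1 h with h' | h'
  · have := congrArg (fun g : SL2 => g.1 0 0) h'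
    simp only [dg_00] at this
    rw [this]; simp
  · have := congrArg (fun g : SL2 => g.1 0 0) h'
    simp only [dg_00, neg_00] at this
    rw [this]; simp

theorem commute_dg_iff (e : Fˣ) (he : ((e : F)) ^ 2 ≠ 1) (y : SL2) :
    y * dg e = dg e * y ↔ y.1 0 1 = 0 ∧ y.1 1 0 = 0 := by
  have hne := (sq_ne_one_iff e).1 he
  constructor
  · intro h
    have e01 := congrArg (fun g : SL2 => g.1 0 1) h
    have e10 := congrArg (fun g : SL2 => g.1 1 0) h
    simp only [mul_01, mul_10, dg_00, dg_01, dg_10, dg_11] at e01 e10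
    constructor
    · have : y.1 0 1 * ((e : F) - ((e⁻¹ : Fˣ) : F)) = 0 := by linear_combination -e01
      rcases mul_eq_zero.1 this with h0 | h0
      · exact h0
      · exact absurd h0 hne
    · have : y.1 1 0 * ((e : F) - ((e⁻¹ : Fˣ) : F)) = 0 := by linear_combination e10
      rcases mul_eq_zero.1 this with h0 | h0
      · exact h0
      · exact absurd h0 hne
  · rintro ⟨h01, h10⟩
    apply ext4 <;> simp [mul_00, mul_01, mul_10, mul_11, h01, h10, mul_comm]

/-- a diagonal element of `SL₂` -/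
theorem eq_dg (y : SL2) (h01 : y.1 0 1 = 0) (h10 : y.1 1 0 = 0) (e : Fˣ) (h00 : y.1 0 0 = e) :
    y = dg e := by
  have hd := det_eq y
  rw [h01, zero_mul, sub_zero, h00] at hd
  have h11 : y.1 1 1 = ((e⁻¹ : Fˣ) : F) := by
    have h1 : ((e⁻¹ : Fˣ) : F) * (e : F) = 1 := by simp
    calc y.1 1 1 = ((e⁻¹ : Fˣ) : F) * ((e : F) * y.1 1 1) := by rw [← mul_assoc, h1, one_mul]
      _ = _ := by rw [hd, mul_one]
  apply ext4 <;> simp [h00, h01, h10, h11]

theorem mem_range_del (G : Subgroup SL2) (e : Fˣ) :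
    e ∈ (del G).range ↔ ∃ g ∈ G, g.1 1 0 = 0 ∧ g.1 0 0 = e := by
  constructor
  · rintro ⟨g, rfl⟩
    exact ⟨g.1.1, g.1.2, (mem_Bor G).1 g.2, rfl⟩
  · rintro ⟨g, hg, h10, h00⟩
    refine ⟨⟨⟨g, hg⟩, (mem_Bor G).2 h10⟩, ?_⟩
    apply Units.ext
    rw [del_apply]; exact h00

/-- conjugating an upper triangular element to a diagonal one -/
theorem exists_conj_dg (y : SL2) (h10 : y.1 1 0 = 0) (e : Fˣ) (h00 : y.1 0 0 = e)
    (he : ((e : F)) ^ 2 ≠ 1) : ∃ r : F, u r * y * (u r)⁻¹ = dg e := by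
  have hne := (sq_ne_one_iff e).1 he
  have hd := det_eq y
  rw [h10, mul_zero, sub_zero, h00] at hd
  have h11 : y.1 1 1 = ((e⁻¹ : Fˣ) : F) := by
    have h1 : ((e⁻¹ : Fˣ) : F) * (e : F) = 1 := by simp
    calc y.1 1 1 = ((e⁻¹ : Fˣ) : F) * ((e : F) * y.1 1 1) := by rw [← mul_assoc, h1, one_mul]
      _ = _ := by rw [hd, mul_one]
  refine ⟨y.1 0 1 / ((e : F) - ((e⁻¹ : Fˣ) : F)), ?_⟩
  rw [u_inv]
  apply ext4 <;> simp only [mul_00, mul_01, mul_10, mul_11, u_00, u_01, u_10, u_11, dg_00, dg_01,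
    dg_10, dg_11, h00, h10, h11]
  · ring
  · field_simp
    ring
  · ring
  · ring

/-- the conjugate of `G` by `u r` -/
def cj (r : F) (G : Subgroup SL2) : Subgroup SL2 := G.map (MulAut.conj (u r)).toMonoidHom

theorem mem_cj (r : F) (G : Subgroup SL2) (g : SL2) :
    g ∈ cj r G ↔ (u r)⁻¹ * g * u r ∈ G := by
  unfold cj
  constructor
  · rintro ⟨k, hk, rfl⟩
    have : (u r)⁻¹ * ((MulAut.conj (u r)).toMonoidHom k) * u r = k := by
      show (u r)⁻¹ * (u r * k * (u r)⁻¹) * u r = k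
      group
    rw [this]; exact hk
  · intro h
    refine ⟨_, h, ?_⟩
    show u r * ((u r)⁻¹ * g * u r) * (u r)⁻¹ = g
    group

theorem center_le_cj (r : F) (G : Subgroup SL2) (hZ : Subgroup.center SL2 ≤ G) :
    Subgroup.center SL2 ≤ cj r G := by
  intro z hz
  rw [mem_cj]
  have : (u r)⁻¹ * z * u r = z := by
    rw [Subgroup.mem_center_iff] at hz
    rw [mul_assoc, ← hz (u r)]
    group
  rw [this]; exact hZ hz

theorem u_mem_cj (r : F) (G : Subgroup SL2) {c : F} (hu : u c ∈ G) : u c ∈ cj r G := by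
  rw [mem_cj]
  have : (u r)⁻¹ * u c * u r = u c := by
    rw [u_inv, ← u_add, ← u_add]
    congr 1; ring
  rw [this]; exact hu

theorem range_del_cj (r : F) (G : Subgroup SL2) : (del (cj r G)).range = (del G).range := by
  ext e
  rw [mem_range_del, mem_range_del]
  constructor
  · rintro ⟨g, hg, h10, h00⟩
    rw [mem_cj] at hg
    refine ⟨_, hg, ?_, ?_⟩
    · rw [u_inv]
      simp only [mul_10, u_00, u_01, u_10, u_11, h10]
      ring
    · rw [u_inv]
      simp only [mul_00, mul_10, u_00, u_01, u_10, u_11, h10, h00]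
      ring
  · rintro ⟨g, hg, h10, h00⟩
    refine ⟨u r * g * (u r)⁻¹, ?_, ?_, ?_⟩
    · rw [mem_cj]
      have : (u r)⁻¹ * (u r * g * (u r)⁻¹) * u r = g := by group
      rw [this]; exact hg
    · rw [u_inv]
      simp only [mul_10, u_00, u_01, u_10, u_11, h10]
      ring
    · rw [u_inv]
      simp only [mul_00, mul_10, u_00, u_01, u_10, u_11, h10, h00]
      ring

section cls

variable [Finite F]

/-- `|range del| = |Z| · |range theta|` -/
theorem card_range_del (G : Subgroup SL2) (hZ : Subgroup.center SL2 ≤ G) {c : F} (hc : c ≠ 0)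
    (hu : u c ∈ G) :
    Nat.card (del G).range = Nat.card (Subgroup.center SL2) * Nat.card (theta G).range := by
  have h1 := card_Bor G
  have h2 := card_Nor_u G hc hu
  rw [Nor_u G hc hu, card_Cent_u G hZ hc hu, h1] at h2
  have hpos : 0 < Nat.card (A G) := Nat.card_pos
  apply Nat.eq_of_mul_eq_mul_left hpos
  rw [h2]; ring

/-- the centralizer of a generating diagonal element -/
theorem Cent_dg (G : Subgroup SL2) (e0 : Fˣ) (he0 : ((e0 : F)) ^ 2 ≠ 1) (hd : dg e0 ∈ G)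
    (hgen : ∀ e ∈ (del G).range, e ∈ Subgroup.zpowers e0) :
    Cent (⟨dg e0, hd⟩ : G) = Subgroup.zpowers (⟨dg e0, hd⟩ : G) := by
  apply le_antisymm
  · intro y hy
    have h1 : y.1 * dg e0 = dg e0 * y.1 := congrArg Subtype.val (mem_Cent.1 hy)
    obtain ⟨h01, h10⟩ := (commute_dg_iff e0 he0 y.1).1 h1
    have h00 : y.1.1 0 0 ≠ 0 := by
      intro h0
      have := det_eq y.1
      rw [h0, h01] at this
      simp at this
    have hm : Units.mk0 _ h00 ∈ (del G).range :=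
      (mem_range_del G _).2 ⟨y.1, y.2, h10, rfl⟩
    obtain ⟨k, hk⟩ := Subgroup.mem_zpowers_iff.1 (hgen _ hm)
    rw [Subgroup.mem_zpowers_iff]
    refine ⟨k, Subtype.ext ?_⟩
    have e1 := eq_dg y.1 h01 h10 (Units.mk0 _ h00) rfl
    rw [e1, ← hk, dg_zpow]
    simp
  · rw [Subgroup.zpowers_le]
    exact mem_Cent.2 rfl

theorem card_Cent_dg (G : Subgroup SL2) (e0 : Fˣ) (he0 : ((e0 : F)) ^ 2 ≠ 1) (hd : dg e0 ∈ G)
    (hgen : ∀ e ∈ (del G).range, e ∈ Subgroup.zpowers e0) (hmem : e0 ∈ (del G).range) :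
    Nat.card (Cent (⟨dg e0, hd⟩ : G)) = Nat.card (del G).range := by
  rw [Cent_dg G e0 he0 hd hgen, Nat.card_zpowers]
  have h1 : orderOf (⟨dg e0, hd⟩ : G) = orderOf (dg e0) :=
    (orderOf_injective G.subtype Subtype.val_injective (⟨dg e0, hd⟩ : G)).symm
  have h2 : orderOf (dg e0) = orderOf e0 := orderOf_injective dgHom dg_injective e0
  rw [h1, h2, ← Nat.card_zpowers]
  have : (del G).range = Subgroup.zpowers e0 :=
    le_antisymm hgen ((Subgroup.zpowers_le).2 hmem)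
  rw [this]

/-- an inverting element is antidiagonal -/
theorem antidiag_of_inverts (e0 : Fˣ) (he0 : ((e0 : F)) ^ 2 ≠ 1) (w : SL2)
    (h : w * dg e0 * w⁻¹ = (dg e0)⁻¹) : w.1 0 0 = 0 ∧ w.1 1 1 = 0 := by
  have hne := (sq_ne_one_iff e0).1 he0
  have h1 : w * dg e0 = (dg e0)⁻¹ * w := by
    calc w * dg e0 = (w * dg e0 * w⁻¹) * w := by group
      _ = _ := by rw [h]
  have e00 := congrArg (fun g : SL2 => g.1 0 0) h1
  have e11 := congrArg (fun g : SL2 => g.1 1 1) h1
  simp only [mul_00, mul_11, inv_00, inv_01, inv_10, inv_11, dg_00, dg_01, dg_10, dg_11] at e00 e11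
  constructor
  · have : w.1 0 0 * ((e0 : F) - ((e0⁻¹ : Fˣ) : F)) = 0 := by linear_combination e00
    rcases mul_eq_zero.1 this with h0 | h0
    · exact h0
    · exact absurd h0 hne
  · have : w.1 1 1 * ((e0 : F) - ((e0⁻¹ : Fˣ) : F)) = 0 := by linear_combination -e11
    rcases mul_eq_zero.1 this with h0 | h0
    · exact h0
    · exact absurd h0 hne

/-- if the normalizer is bigger than the centralizer, `0` lies in the orbit -/
theorem zero_mem_Om (G : Subgroup SL2) (e0 : Fˣ) (he0 : ((e0 : F)) ^ 2 ≠ 1) (hd : dg e0 ∈ G)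
    (hne : Nat.card (Nor (⟨dg e0, hd⟩ : G)) ≠ Nat.card (Cent (⟨dg e0, hd⟩ : G))) :
    (0 : F) ∈ Om G := by
  have hle : Cent (⟨dg e0, hd⟩ : G) ≤ Nor (⟨dg e0, hd⟩ : G) := Subgroup.le_normalizer
  obtain ⟨w, hw, hwc⟩ : ∃ w ∈ Nor (⟨dg e0, hd⟩ : G), w ∉ Cent (⟨dg e0, hd⟩ : G) := by
    by_contra hcon
    push Not at hcon
    apply hne
    have : Nor (⟨dg e0, hd⟩ : G) = Cent (⟨dg e0, hd⟩ : G) := le_antisymm (fun g hg => hcon g hg) hle
    rw [this]
  have h1 := conj_eq_inv_of_mem_Nor G ⟨dg e0, hd⟩ (dg_not_mem_center e0 he0)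
    (trace_dg_ne e0 he0) w hw hwc
  have h2 : w.1 * dg e0 * w.1⁻¹ = (dg e0)⁻¹ := congrArg Subtype.val h1
  obtain ⟨h00, h11⟩ := antidiag_of_inverts e0 he0 w.1 h2
  have h10 : w.1.1 1 0 ≠ 0 := by
    intro h0
    have := det_eq w.1
    rw [h00, h0] at this
    simp at this
  exact ⟨w.1, w.2, h10, by rw [h00, zero_div]⟩

/-- a diagonal element is not related to a unipotent one -/
theorem not_R_u_dg (G : Subgroup SL2) (e0 : Fˣ) (he0 : ((e0 : F)) ^ 2 ≠ 1) (hd : dg e0 ∈ G)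
    {c : F} (hc : c ≠ 0) (hu : u c ∈ G) : ¬ R (⟨u c, hu⟩ : G) (⟨dg e0, hd⟩ : G) := by
  rintro ⟨g, hg⟩
  have h1 : dg e0 * (g.1 * u c * g.1⁻¹) = (g.1 * u c * g.1⁻¹) * dg e0 := congrArg Subtype.val hg
  have htr : (g.1 * u c * g.1⁻¹).1.trace ^ 2 = 4 := by
    rw [Cfsg.Agent.H9.AutPSL2.trace_conj, Matrix.trace_fin_two, u_00, u_11]; norm_num
  have hns := nonScalar_of_not_mem_center (dg_not_mem_center e0 he0)
  have hcen : g.1 * u c * g.1⁻¹ ∈ Subgroup.center SL2 := by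
    rw [mem_center_iff']
    exact central_of_trace hns (trace_dg_ne e0 he0) _ h1.symm htr
  have hu' : u c ∈ Subgroup.center SL2 := by
    have := (Subgroup.center SL2).normal_of_characteristic.conj_mem _ hcen g.1⁻¹
    convert this using 1
    group
  rcases (mem_center_iff' _).1 hu' with h | h
  · have := congrArg (fun g : SL2 => g.1 0 1) h
    simp only [u_01] at this
    exact hc (by simpa using this)
  · have := congrArg (fun g : SL2 => g.1 0 1) h
    simp only [u_01, neg_01] at this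
    exact hc (by simpa using this)

end cls

end Cfsg.Agent.H9.DicksonUN
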