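import Mathlib
import Cfsg.Agent.H9.DicksonCE
import Cfsg.Agent.S0228
import Cfsg.Agent.S1012
import Cfsg.Agent.S3669
import Cfsg.Agent.S0494
import Cfsg.Agent.Lib.Helper5.DihedralRecog

set_option autoImplicit false

/-! Identification lemmas for central quotients of groups with commutative centralizers. -/

namespace Cfsg.Agent.H9.DicksonQ

open Cfsg.Agent.H9.DicksonCE

universe u v

variable {Γ : Type u} [Group Γ] {Z : Subgroup Γ}

theorem card_Cent_conj (x g : Γ) : Nat.card (Cent (g * x * g⁻¹)) = Nat.card (Cent x) := by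
  apply Nat.card_congr
  refine ⟨fun y => ⟨g⁻¹ * y.1 * g, mem_Cent_conj.1 y.2⟩,
    fun y => ⟨g * y.1 * g⁻¹, mem_Cent_conj.2 (by convert y.2 using 1; group)⟩, ?_, ?_⟩
  · intro y; apply Subtype.ext; show g * (g⁻¹ * y.1 * g) * g⁻¹ = y.1; group
  · intro y; apply Subtype.ext; show g⁻¹ * (g * y.1 * g⁻¹) * g = y.1; group

theorem mem_Nor_conj (h : CA Z) {x : Γ} (hx : x ∉ Z) (g y : Γ) :
    y ∈ Nor (g * x * g⁻¹) ↔ g⁻¹ * y * g ∈ Nor x := by
  rw [mem_Nor_iff h (conj_not_mem h hx g), mem_Nor_iff h hx]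
  constructor
  · intro h1
    have e : g⁻¹ * y * g * x * (g⁻¹ * y * g)⁻¹ * x =
        g⁻¹ * ((y * (g * x * g⁻¹) * y⁻¹) * (g * x * g⁻¹)) * g := by group
    rw [e, h1]; group
  · intro h1
    have e : y * (g * x * g⁻¹) * y⁻¹ * (g * x * g⁻¹) =
        g * ((g⁻¹ * y * g * x * (g⁻¹ * y * g)⁻¹) * x) * g⁻¹ := by group
    rw [e, h1]; group

theorem card_Nor_conj (h : CA Z) {x : Γ} (hx : x ∉ Z) (g : Γ) :
    Nat.card (Nor (g * x * g⁻¹)) = Nat.card (Nor x) := by
  apply Nat.card_congr
  refine ⟨fun y => ⟨g⁻¹ * y.1 * g, (mem_Nor_conj h hx g y.1).1 y.2⟩,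
    fun y => ⟨g * y.1 * g⁻¹, (mem_Nor_conj h hx g _).2 (by convert y.2 using 1; group)⟩, ?_, ?_⟩
  · intro y; apply Subtype.ext; show g * (g⁻¹ * y.1 * g) * g⁻¹ = y.1; group
  · intro y; apply Subtype.ext; show g⁻¹ * (g * y.1 * g⁻¹) * g = y.1; group

/-- every non-central element has the class data of one of the representatives -/
theorem rep_data [Finite Γ] (h : CA Z) {s : Finset Γ} (hs : IsReps Z s) (hc : IsComplete Z s)
    {y : Γ} (hy : y ∉ Z) :
    ∃ x ∈ s, Nat.card (Cent y) = Nat.card (Cent x) ∧ Nat.card (Nor y) = Nat.card (Nor x) := by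
  obtain ⟨x, hx, g, hg⟩ := hc y hy
  have hxZ := hs.1 x hx
  have e : Cent y = Cent (g * x * g⁻¹) := Cent_eq h (conj_not_mem h hxZ g) hy hg
  refine ⟨x, hx, ?_, ?_⟩
  · rw [e, card_Cent_conj]
  · have : Nor y = Nor (g * x * g⁻¹) := by unfold Nor; rw [e]
    rw [this, card_Nor_conj h hxZ]

section quot

variable {H : Type v} [Group H] (π : Γ →* H) (hπ : Function.Surjective π) (hker : π.ker = Z)

include hπ hker in
theorem card_eq [Finite Γ] : Nat.card Γ = Nat.card Z * Nat.card H := by
  rw [← hker, Subgroup.card_eq_card_quotient_mul_card_subgroup π.ker, mul_comm,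
    Nat.card_congr (QuotientGroup.quotientKerEquivOfSurjective π hπ).toEquiv]

include hπ hker in
theorem card_map [Finite Γ] (C : Subgroup Γ) (hZC : Z ≤ C) :
    Nat.card C = Nat.card Z * Nat.card (C.map π) := by
  have : Finite H := Finite.of_surjective _ hπ
  have e : (C.map π).comap π = C := Subgroup.comap_map_eq_self (by rw [hker]; exact hZC)
  have hidx : ((C.map π).comap π).index = (C.map π).index :=
    Subgroup.index_comap_of_surjective _ hπ
  rw [e] at hidx
  have h1 := Subgroup.card_mul_index C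
  have h2 := Subgroup.card_mul_index (C.map π)
  have h3 := card_eq π hπ hker
  have hpos : 0 < C.index := Nat.pos_of_ne_zero Subgroup.index_ne_zero_of_finite
  have : Nat.card C * C.index = Nat.card Z * Nat.card (C.map π) * C.index := by
    rw [h1, h3, mul_assoc, hidx, h2]
  exact Nat.eq_of_mul_eq_mul_right hpos this

include hker in
theorem Nor_eq_top (h : CA Z) {x : Γ} (hx : x ∉ Z) (hn : (Subgroup.zpowers (π x)).Normal) :
    Nor x = ⊤ := by
  rw [eq_top_iff]
  intro g _
  rw [mem_Nor_iff h hx]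
  have h1 : π (g * x * g⁻¹) ∈ Subgroup.zpowers (π x) := by
    rw [map_mul, map_mul, map_inv]
    exact hn.conj_mem _ (Subgroup.mem_zpowers _) _
  obtain ⟨k, hk⟩ := Subgroup.mem_zpowers_iff.1 h1
  have h2 : (x ^ k)⁻¹ * (g * x * g⁻¹) ∈ Z := by
    rw [← hker, MonoidHom.mem_ker, map_mul, map_inv, map_zpow, hk, inv_mul_cancel]
  obtain ⟨z, hz, hz'⟩ : ∃ z ∈ Z, g * x * g⁻¹ = x ^ k * z :=
    ⟨_, h2, by group⟩
  rw [hz']
  have hzc := h.central z hz x
  calc x ^ k * z * x = x ^ k * (z * x) := by group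
    _ = x ^ k * (x * z) := by rw [hzc]
    _ = x * (x ^ k * z) := by group

include hπ in
theorem cyclic_of_Cent [Finite Γ] (x : Γ) (hc : IsCyclic (Cent x))
    (hcard : Nat.card (Cent x) = Nat.card Γ) : IsCyclic H := by
  have htop : Cent x = ⊤ := Subgroup.eq_top_of_card_eq _ hcard
  have h1 : IsCyclic (⊤ : Subgroup Γ) := htop ▸ hc
  have : IsCyclic Γ := isCyclic_of_surjective (Subgroup.topEquiv (G := Γ)).toMonoidHom
    (Subgroup.topEquiv (G := Γ)).surjective
  exact isCyclic_of_surjective π hπ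

include hπ hker in
theorem dihedral_of [Finite Γ] (h : CA Z) {x : Γ} (hc : IsCyclic (Cent x)) (a : ℕ)
    (ha : 2 ≤ a) (hC : Nat.card (Cent x) = Nat.card Z * a)
    (hΓ : Nat.card Γ = 2 * Nat.card (Cent x))
    (hsq : ∀ g : Γ, g ∉ Cent x → g * g ∈ Z) : Nonempty (H ≃* DihedralGroup a) := by
  have : Finite H := Finite.of_surjective _ hπ
  have hZpos : 0 < Nat.card Z := Nat.card_pos
  have hH : Nat.card H = 2 * a := by
    have := card_eq π hπ hker
    rw [hΓ, hC] at this
    have h2 : Nat.card Z * (2 * a) = Nat.card Z * Nat.card H := by rw [← this]; ring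
    exact (Nat.eq_of_mul_eq_mul_left hZpos h2).symm
  have hZC : Z ≤ Cent x := Z_le_Cent h x
  have hCm : Nat.card ((Cent x).map π) = a := by
    have := card_map π hπ hker (Cent x) hZC
    rw [hC] at this
    exact (Nat.eq_of_mul_eq_mul_left hZpos this).symm
  obtain ⟨⟨c0, hc0C⟩, hc0⟩ := hc.exists_generator
  -- `π c0` generates the image
  have hgen : (Cent x).map π = Subgroup.zpowers (π c0) := by
    apply le_antisymm
    · rintro _ ⟨y, hy, rfl⟩
      have := hc0 ⟨y, hy⟩
      obtain ⟨k, hk⟩ := Subgroup.mem_zpowers_iff.1 this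
      rw [Subgroup.mem_zpowers_iff]
      refine ⟨k, ?_⟩
      have : c0 ^ k = y := by
        have := congrArg Subtype.val hk
        simpa using this
      rw [← this, map_zpow]
    · rw [Subgroup.zpowers_le]
      exact ⟨c0, hc0C, rfl⟩
  have hord : orderOf (π c0) = a := by
    rw [← Nat.card_zpowers, ← hgen, hCm]
  -- an element outside the centralizer
  have hlt : Cent x ≠ ⊤ := by
    intro ht
    have : Nat.card (Cent x) = Nat.card Γ := by rw [ht, Subgroup.card_top]
    have hp : 0 < Nat.card (Cent x) := Nat.card_pos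
    omega
  obtain ⟨w, hw⟩ : ∃ w : Γ, w ∉ Cent x := by
    by_contra hcon
    push Not at hcon
    exact hlt (eq_top_iff.2 fun g _ => hcon g)
  have hw' : w * c0 ∉ Cent x := by
    intro hm
    apply hw
    have := (Cent x).mul_mem hm ((Cent x).inv_mem hc0C)
    simpa using this
  have hone : ∀ g : Γ, g ∉ Cent x → orderOf (π g) = 2 := by
    intro g hg
    apply orderOf_eq_prime
    · rw [pow_two, ← map_mul, ← MonoidHom.mem_ker, hker]
      exact hsq g hg
    · intro h1
      apply hg
      apply hZC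
      rw [← hker, MonoidHom.mem_ker]; exact h1
  have hprod : π w * π (w * c0) = π (w * w) * π c0 := by
    rw [← map_mul, ← map_mul]; congr 1; group
  have hww : π (w * w) = 1 := by
    rw [← MonoidHom.mem_ker, hker]; exact hsq w hw
  apply Cfsg.Agent.Lib.Helper5.DihedralRecog.dihedral_of_involutions a hH (π w) (π (w * c0))
    (hone w hw) (hone _ hw')
  · intro he
    rw [map_mul] at he
    have : π c0 = 1 := by
      have := mul_left_cancel (a := π w) (b := 1) (c := π c0) (by rw [mul_one]; exact he)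
      exact this.symm
    rw [this, orderOf_one] at hord
    omega
  · rw [hprod, hww, one_mul, hord]

include hπ hker in
theorem A4_of (h : CA Z) (h12 : Nat.card H = 12) (hN : ∀ y : Γ, y ∉ Z → Nor y ≠ ⊤) :
    Nonempty (H ≃* alternatingGroup (Fin 4)) := by
  have : Finite H := Nat.finite_of_card_ne_zero (by rw [h12]; norm_num)
  apply Cfsg.Agent.S0228.result h12
  intro z hz hzc
  obtain ⟨y, rfl⟩ := hπ z
  have hy : y ∉ Z := by
    rw [← hker, MonoidHom.mem_ker]
    intro h1
    rw [h1, orderOf_one] at hz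
    omega
  apply hN y hy
  apply Nor_eq_top π hker h hy
  refine ⟨fun n hn g => ?_⟩
  have : g * n * g⁻¹ = n := by
    obtain ⟨k, rfl⟩ := Subgroup.mem_zpowers_iff.1 hn
    have hc := Subgroup.mem_center_iff.1 hzc
    have : g * π y ^ k = π y ^ k * g := by
      have := (Commute.zpow_right (show Commute g (π y) from hc g) k)
      exact this
    rw [this]; group
  rw [this]; exact hn

include hπ hker in
theorem S4_of [Finite Γ] (h : CA Z) (h24 : Nat.card H = 24)
    (h6 : ∀ y : Γ, y ∉ Z → ¬ 6 * Nat.card Z ∣ Nat.card (Cent y)) :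
    Nonempty (H ≃* Equiv.Perm (Fin 4)) := by
  have : Finite H := Finite.of_surjective _ hπ
  apply Cfsg.Agent.S1012.result h24
  intro g hg
  obtain ⟨y, rfl⟩ := hπ g
  have hy : y ∉ Z := by
    rw [← hker, MonoidHom.mem_ker]
    intro h1
    rw [h1, orderOf_one] at hg
    omega
  apply h6 y hy
  have h1 := card_map π hπ hker (Cent y) (Z_le_Cent h y)
  rw [h1, mul_comm]
  apply Nat.mul_dvd_mul_left
  rw [← hg]
  have hm : π y ∈ (Cent y).map π := ⟨y, mem_Cent.2 rfl, rfl⟩
  exact Subgroup.orderOf_dvd_natCard _ hm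

include hπ hker in
theorem A5_of (h : CA Z) (h60 : Nat.card H = 60) (hN : ∀ y : Γ, y ∉ Z → Nor y ≠ ⊤) :
    Nonempty (H ≃* alternatingGroup (Fin 5)) := by
  have : Finite H := Nat.finite_of_card_ne_zero (by rw [h60]; norm_num)
  have hns : ¬ Group.IsSolvable H := by
    intro hsol
    have := hsol
    have h1 := Cfsg.Agent.S3669.card_sylow_five_of_solvable h60
    have : Fact (Nat.Prime 5) := ⟨by norm_num⟩
    have : Subsingleton (Sylow 5 H) := by
      rw [← Finite.card_le_one_iff_subsingleton, h1]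
    obtain ⟨P⟩ : Nonempty (Sylow 5 H) := inferInstance
    have hPn : (P : Subgroup H).Normal := Sylow.normal_of_subsingleton P
    have hPc : Nat.card P = 5 := by
      rw [Sylow.card_eq_multiplicity, h60]
      have : (60 : ℕ).factorization 5 = 1 := by
        have e : (60 : ℕ) = 5 ^ 1 * 12 := by norm_num
        rw [e, Nat.factorization_mul (by norm_num) (by norm_num), Nat.Prime.factorization_pow
          (by norm_num)]
        simp
        exact Nat.factorization_eq_zero_of_not_dvd (by norm_num)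
      rw [this]; norm_num
    -- a nontrivial element
    obtain ⟨z, hzP, hz1⟩ : ∃ z ∈ (P : Subgroup H), z ≠ 1 := by
      by_contra hcon
      push Not at hcon
      have : (P : Subgroup H) = ⊥ := (Subgroup.eq_bot_iff_forall _).2 hcon
      rw [this, Subgroup.card_bot] at hPc
      omega
    have hzp : Subgroup.zpowers z = (P : Subgroup H) := by
      have hle : Subgroup.zpowers z ≤ (P : Subgroup H) := (Subgroup.zpowers_le).2 hzP
      apply Subgroup.eq_of_le_of_card_ge hle
      rw [hPc, Nat.card_zpowers]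
      have hd : orderOf z ∣ 5 := by
        rw [← hPc]; exact Subgroup.orderOf_dvd_natCard _ hzP
      rcases (Nat.dvd_prime (by norm_num)).1 hd with h1 | h5
      · exact absurd (orderOf_eq_one_iff.1 h1) hz1
      · rw [h5]
    obtain ⟨y, rfl⟩ := hπ z
    have hy : y ∉ Z := by
      rw [← hker, MonoidHom.mem_ker]; exact hz1
    apply hN y hy
    apply Nor_eq_top π hker h hy
    rw [hzp]; exact hPn
  have := Cfsg.Agent.S3669.simple_of_not_solvable h60 hns
  exact Cfsg.Agent.S0494.result h60

end quot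

end Cfsg.Agent.H9.DicksonQ
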