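import Mathlib
import Cfsg.Agent.H9.DicksonDiag
import Cfsg.Agent.H9.DicksonQ
import Cfsg.Agent.H9.DicksonArith
import Cfsg.Agent.H9.DicksonConcl

set_option autoImplicit false

/-! Assembly: the class equation in natural numbers and the small cases. -/

namespace Cfsg.Agent.H9.DicksonCE

variable {Γ : Type*} [Group Γ] [Finite Γ] {Z : Subgroup Γ}

/-- the class equation in natural numbers -/
theorem class_eq_nat (h : CA Z) (s : Finset Γ) (hs : IsReps Z s) (hc : IsComplete Z s)
    (g : ℕ) (hG : Nat.card Γ = Nat.card Z * g) (a ε m : Γ → ℕ)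
    (h1 : ∀ x ∈ s, Nat.card (Cent x) = Nat.card Z * a x)
    (_h2 : ∀ x ∈ s, Nat.card (Nor x) = Nat.card (Cent x) * ε x)
    (h3 : ∀ x ∈ s, Nat.card Γ = Nat.card (Nor x) * m x) :
    ∑ x ∈ s, (a x - 1) * m x + 1 = g := by
  have hz : 0 < Nat.card Z := Nat.card_pos
  have hΓ : 0 < Nat.card Γ := Nat.card_pos
  have hg : 1 ≤ g := by
    rcases Nat.eq_zero_or_pos g with h0 | h0
    · rw [h0, mul_zero] at hG; omega
    · exact h0
  have hT : ∀ x ∈ s, Nat.card (T Z x) = Nat.card Z * ((a x - 1) * m x) := by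
    intro x hx
    have hN : 0 < Nat.card (Nor x) := Nat.card_pos
    have e := card_T h (hs.1 x hx)
    have e2 : Nat.card (Cent x) - Nat.card Z = Nat.card Z * (a x - 1) := by
      rw [h1 x hx, Nat.mul_sub_one]
    rw [e2] at e
    apply Nat.eq_of_mul_eq_mul_right hN
    rw [e]
    conv_lhs => rw [h3 x hx]
    ring
  have hsum := sum_card_T h s hs hc
  rw [Finset.sum_congr rfl hT, ← Finset.mul_sum, hG] at hsum
  have e3 : Nat.card Z * g - Nat.card Z = Nat.card Z * (g - 1) := by rw [Nat.mul_sub_one]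
  rw [e3] at hsum
  have := Nat.eq_of_mul_eq_mul_left hz hsum
  omega

end Cfsg.Agent.H9.DicksonCE

namespace Cfsg.Agent.H9.DicksonUN

open Matrix
open Cfsg.Agent.H9.AutPSL2
open Cfsg.Agent.H9.DicksonSS
open Cfsg.Agent.H9.DicksonCE
open Cfsg.Agent.H9.DicksonQ
open Cfsg.Agent.H9.DicksonArith
open Cfsg.Agent.H9.DicksonConcl

universe u

variable {F : Type u} [Field F]

local notation "SL2" => Matrix.SpecialLinearGroup (Fin 2) F
local notation "PSL2" => Matrix.ProjectiveSpecialLinearGroup (Fin 2) F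

/-- the projection restricted to `G` -/
def prG (G : Subgroup SL2) : ↥G →* ↥(G.map (pr : SL2 →* PSL2)) := (pr : SL2 →* PSL2).subgroupMap G

theorem prG_surjective (G : Subgroup SL2) : Function.Surjective (prG G) :=
  MonoidHom.subgroupMap_surjective _ G

theorem prG_ker (G : Subgroup SL2) : (prG G).ker = ZG G := by
  ext x
  rw [MonoidHom.mem_ker, mem_ZG]
  constructor
  · intro h
    have h1 : (pr : SL2 →* PSL2) x.1 = 1 := congrArg Subtype.val h
    unfold pr at h1
    rwa [QuotientGroup.mk'_apply, QuotientGroup.eq_one_iff] at h1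
  · intro h
    apply Subtype.ext
    show (pr : SL2 →* PSL2) x.1 = 1
    unfold pr
    rwa [QuotientGroup.mk'_apply, QuotientGroup.eq_one_iff]

section data

variable [Finite F]

/-- numerical data of a class -/
theorem cls_data (G : Subgroup SL2) (g : ℕ) (hG : Nat.card G = Nat.card (ZG G) * g) (x : G)
    (hx : x.1 ∉ Subgroup.center SL2)
    (hN : Nat.card (Nor x) = Nat.card (Cent x) ∨ Nat.card (Nor x) = 2 * Nat.card (Cent x)) :
    Cls g (Nat.card (Cent x) / Nat.card (ZG G)) (Nat.card (Nor x) / Nat.card (Cent x))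
        (Nat.card G / Nat.card (Nor x)) ∧
      Nat.card (Cent x) = Nat.card (ZG G) * (Nat.card (Cent x) / Nat.card (ZG G)) ∧
      Nat.card (Nor x) = Nat.card (Cent x) * (Nat.card (Nor x) / Nat.card (Cent x)) ∧
      Nat.card G = Nat.card (Nor x) * (Nat.card G / Nat.card (Nor x)) := by
  have hz : 0 < Nat.card (ZG G) := Nat.card_pos
  have hC : 0 < Nat.card (Cent x) := Nat.card_pos
  have hNp : 0 < Nat.card (Nor x) := Nat.card_pos
  have d1 : Nat.card (ZG G) ∣ Nat.card (Cent x) := Subgroup.card_dvd_of_le (Z_le_Cent (caG G) x)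
  have d2 : Nat.card (Cent x) ∣ Nat.card (Nor x) :=
    Subgroup.card_dvd_of_le (Subgroup.le_normalizer)
  have d3 : Nat.card (Nor x) ∣ Nat.card G := Subgroup.card_subgroup_dvd_card _
  have e1 := (Nat.mul_div_cancel' d1).symm
  have e2 := (Nat.mul_div_cancel' d2).symm
  have e3 := (Nat.mul_div_cancel' d3).symm
  refine ⟨⟨?_, ?_, ?_⟩, e1, e2, e3⟩
  · obtain ⟨a, ha, hca⟩ := card_Cent_gt G x hx
    rw [hca, Nat.mul_div_cancel_left _ hz]; exact ha
  · rcases hN with h | h
    · left; rw [h, Nat.div_self hC]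
    · right; rw [h, Nat.mul_div_cancel _ hC]
  · apply Nat.eq_of_mul_eq_mul_left hz
    generalize Nat.card (Cent x) / Nat.card (ZG G) = A at *
    generalize Nat.card (Nor x) / Nat.card (Cent x) = E at *
    generalize Nat.card G / Nat.card (Nor x) = M at *
    rw [← hG, e3, e2, e1]
    ring

end data

section small

variable [Fintype F]

theorem dvd_of_ss (p : ℕ) [Fact p.Prime] [CharP F p] (G : Subgroup SL2)
    (hZ : Subgroup.center SL2 ≤ G) (x : G) (hx : x.1 ∉ Subgroup.center SL2)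
    (hss : x.1.1.trace ^ 2 ≠ 4) (a : ℕ) (ha : Nat.card (Cent x) = Nat.card (ZG G) * a) :
    a ∣ (Fintype.card F + 1) / Nat.gcd 2 (Fintype.card F - 1) ∨
      a ∣ (Fintype.card F - 1) / Nat.gcd 2 (Fintype.card F - 1) := by
  rw [← card_center (F := F), ← card_ZG G hZ]
  rcases card_Cent_dvd p G x hx hss with h | h
  · right; rw [ha] at h; exact Nat.dvd_div_of_mul_dvd h
  · left; rw [ha] at h; exact Nat.dvd_div_of_mul_dvd h

theorem borel_of_Nor (q p : ℕ) [Fact p.Prime] [CharP F p] (G : Subgroup SL2) (x : G)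
    (hN : Nor x = Bor G) (hcard : Nat.card (Nor x) = Nat.card G) :
    Concl F q p ↥(G.map (pr : SL2 →* PSL2)) := by
  apply borel_of q p G
  intro g hg
  have htop : Nor x = ⊤ := Subgroup.eq_top_of_card_eq _ hcard
  have : (⟨g, hg⟩ : G) ∈ Bor G := by rw [← hN, htop]; trivial
  exact (mem_Bor G).1 this

/-- the conclusion when every class has `ε ≤ 2` -/
theorem small_case (q p : ℕ) [Fact p.Prime] [CharP F p] (hq : Fintype.card F = q)
    (G : Subgroup SL2) (hZ : Subgroup.center SL2 ≤ G)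
    (s : Finset G) (hs : IsReps (ZG G) s) (hc : IsComplete (ZG G) s)
    (hgood : ∀ x ∈ s, (x.1.1.trace ^ 2 ≠ 4) ∨ (Nor x = Bor G ∧
      (Nat.card (Nor x) = Nat.card (Cent x) ∨ Nat.card (Nor x) = 2 * Nat.card (Cent x)))) :
    Concl F q p ↥(G.map (pr : SL2 →* PSL2)) := by
  classical
  subst hq
  have hz : 0 < Nat.card (ZG G) := Nat.card_pos
  have hzd : Nat.card (ZG G) ∣ Nat.card G := Subgroup.card_subgroup_dvd_card _
  set g := Nat.card G / Nat.card (ZG G) with hg
  have hG : Nat.card G = Nat.card (ZG G) * g := (Nat.mul_div_cancel' hzd).symm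
  have hxc : ∀ x ∈ s, x.1 ∉ Subgroup.center SL2 := fun x hx h => hs.1 x hx ((mem_ZG G).2 h)
  have hNN : ∀ x ∈ s, Nat.card (Nor x) = Nat.card (Cent x) ∨
      Nat.card (Nor x) = 2 * Nat.card (Cent x) := by
    intro x hx
    rcases hgood x hx with h | h
    · exact card_Nor_ss G x (hxc x hx) h
    · exact h.2
  set a : G → ℕ := fun x => Nat.card (Cent x) / Nat.card (ZG G) with ha
  set ε : G → ℕ := fun x => Nat.card (Nor x) / Nat.card (Cent x) with hε
  set m : G → ℕ := fun x => Nat.card G / Nat.card (Nor x) with hm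
  have hdata : ∀ x ∈ s, Cls g (a x) (ε x) (m x) ∧ Nat.card (Cent x) = Nat.card (ZG G) * a x ∧
      Nat.card (Nor x) = Nat.card (Cent x) * ε x ∧ Nat.card G = Nat.card (Nor x) * m x :=
    fun x hx => cls_data G g hG x (hxc x hx) (hNN x hx)
  have heq := class_eq_nat (caG G) s hs hc g hG a ε m (fun x hx => (hdata x hx).2.1)
    (fun x hx => (hdata x hx).2.2.1) (fun x hx => (hdata x hx).2.2.2)
  have harith := arith_I s a ε m g (fun x hx => (hdata x hx).1) heq
  have hcardeq := card_eq (prG G) (prG_surjective G) (prG_ker G)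
  have hH : Nat.card ↥(G.map (pr : SL2 →* PSL2)) = g := by
    rw [hG] at hcardeq
    exact (Nat.eq_of_mul_eq_mul_left hz hcardeq).symm
  have hrep : ∀ y : G, y ∉ ZG G → ∃ x ∈ s, Nat.card (Cent y) = Nat.card (ZG G) * a x ∧
      Nat.card (Nor y) = Nat.card (ZG G) * (a x * ε x) := by
    intro y hy
    obtain ⟨x, hx, h1, h2⟩ := rep_data (caG G) hs hc hy
    refine ⟨x, hx, ?_, ?_⟩
    · rw [h1]; exact (hdata x hx).2.1
    · rw [h2, (hdata x hx).2.2.1, (hdata x hx).2.1]; ring
  rcases harith with h1 | ⟨x, hx, he, hag⟩ | ⟨x, hx, he, hag⟩ | ⟨h12, hall⟩ | ⟨h24, hall⟩ |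
    ⟨h60, hall⟩
  · -- trivial group
    left
    refine ⟨1, Or.inl (one_dvd _), Or.inl ⟨?_, by rw [hH, h1]⟩⟩
    have : Subsingleton ↥(G.map (pr : SL2 →* PSL2)) := by
      have hfin : Finite ↥(G.map (pr : SL2 →* PSL2)) :=
        Nat.finite_of_card_ne_zero (by rw [hH, h1]; norm_num)
      rw [← Finite.card_le_one_iff_subsingleton, hH, h1]
    exact isCyclic_of_subsingleton
  · -- cyclic
    obtain ⟨-, hC, hN, -⟩ := hdata x hx
    have hCG : Nat.card (Cent x) = Nat.card G := by rw [hC, hag, hG]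
    rcases hgood x hx with hss | ⟨hB, -⟩
    · left
      refine ⟨a x, dvd_of_ss p G hZ x (hxc x hx) hss (a x) hC, Or.inl ⟨?_, by rw [hH, hag]⟩⟩
      exact cyclic_of_Cent (prG G) (prG_surjective G) x (isCyclic_Cent G x (hxc x hx) hss) hCG
    · apply borel_of_Nor _ p G x hB
      rw [hN, he, mul_one, hCG]
  · -- dihedral
    obtain ⟨hcls, hC, hN, -⟩ := hdata x hx
    have hNG : Nat.card (Nor x) = Nat.card G := by rw [hN, hC, he, hG, ← hag]; ring
    rcases hgood x hx with hss | ⟨hB, -⟩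
    · left
      refine ⟨a x, dvd_of_ss p G hZ x (hxc x hx) hss (a x) hC, Or.inr ?_⟩
      have htop : Nor x = ⊤ := Subgroup.eq_top_of_card_eq _ hNG
      apply dihedral_of (prG G) (prG_surjective G) (prG_ker G) (caG G)
        (isCyclic_Cent G x (hxc x hx) hss) (a x) hcls.ha hC
      · rw [← hNG, hN, he]; ring
      · intro w hw
        exact sq_mem_ZG G x (hxc x hx) hss w (by rw [htop]; trivial) hw
    · exact borel_of_Nor _ p G x hB hNG
  · -- `A₄`
    right; right; left
    apply A4_of (prG G) (prG_surjective G) (prG_ker G) (caG G) (by rw [hH, h12])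
    intro y hy htop
    obtain ⟨x, hx, -, h2⟩ := hrep y hy
    have : Nat.card (Nor y) = Nat.card G := by rw [htop, Subgroup.card_top]
    rw [h2, hG, h12] at this
    exact hall x hx (Nat.eq_of_mul_eq_mul_left hz this)
  · -- `S₄`
    right; right; right; left
    apply S4_of (prG G) (prG_surjective G) (prG_ker G) (caG G) (by rw [hH, h24])
    intro y hy hdvd
    obtain ⟨x, hx, h1, -⟩ := hrep y hy
    rw [h1, mul_comm 6] at hdvd
    have h6 : 6 ∣ a x := Nat.dvd_of_mul_dvd_mul_left hz hdvd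
    have h4 := hall x hx
    have h2 := (hdata x hx).1.ha
    have := Nat.le_of_dvd (by omega) h6
    omega
  · -- `A₅`
    right; right; right; right; left
    apply A5_of (prG G) (prG_surjective G) (prG_ker G) (caG G) (by rw [hH, h60])
    intro y hy htop
    obtain ⟨x, hx, -, h2⟩ := hrep y hy
    have : Nat.card (Nor y) = Nat.card G := by rw [htop, Subgroup.card_top]
    rw [h2, hG, h60] at this
    exact hall x hx (Nat.eq_of_mul_eq_mul_left hz this)

end small

end Cfsg.Agent.H9.DicksonUN
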