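import Mathlib
import Cfsg.Agent.H9.DicksonAsm

set_option autoImplicit false

/-! The case without unipotent elements and the case `t ≤ 2`. -/

namespace Cfsg.Agent.H9.DicksonUN

open Matrix
open Cfsg.Agent.H9.AutPSL2
open Cfsg.Agent.H9.DicksonSS
open Cfsg.Agent.H9.DicksonCE
open Cfsg.Agent.H9.DicksonQ
open Cfsg.Agent.H9.DicksonArith
open Cfsg.Agent.H9.DicksonConcl

universe u

variable {F : Type u} [Field F] [Fintype F]

local notation "SL2" => Matrix.SpecialLinearGroup (Fin 2) F
local notation "PSL2" => Matrix.ProjectiveSpecialLinearGroup (Fin 2) F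

theorem isReps_empty (G : Subgroup SL2) : IsReps (ZG G) (∅ : Finset G) :=
  ⟨fun x hx => absurd hx (Finset.notMem_empty x), fun x hx => absurd hx (Finset.notMem_empty x)⟩

/-- no unipotent elements -/
theorem caseI (q p : ℕ) [Fact p.Prime] [CharP F p] (hq : Fintype.card F = q)
    (G : Subgroup SL2) (hZ : Subgroup.center SL2 ≤ G)
    (hss : ∀ x ∈ G, x ∉ Subgroup.center SL2 → x.1.trace ^ 2 ≠ 4) :
    Concl F q p ↥(G.map (pr : SL2 →* PSL2)) := by
  classical
  obtain ⟨s, -, hs, hc⟩ := exists_reps (caG G) ∅ (isReps_empty G)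
  apply small_case q p hq G hZ s hs hc
  intro x hx
  left
  exact hss x.1 x.2 (fun h => hs.1 x hx ((mem_ZG G).2 h))

theorem u_not_mem_center {c : F} (hc : c ≠ 0) : u c ∉ Subgroup.center SL2 := by
  intro h
  rcases (mem_center_iff' _).1 h with h | h
  · have := congrArg (fun g : SL2 => g.1 0 1) h
    simp only [u_01] at this
    exact hc (by simpa using this)
  · have := congrArg (fun g : SL2 => g.1 0 1) h
    simp only [u_01, neg_01] at this
    exact hc (by simpa using this)

/-- unipotent elements with `t ≤ 2` -/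
theorem caseII_small (q p : ℕ) [Fact p.Prime] [CharP F p] (hq : Fintype.card F = q)
    (G : Subgroup SL2) (hZ : Subgroup.center SL2 ≤ G) {c : F} (hc : c ≠ 0) (hu : u c ∈ G)
    (ht : Nat.card (theta G).range ≤ 2) :
    Concl F q p ↥(G.map (pr : SL2 →* PSL2)) := by
  classical
  have hx0 : (⟨u c, hu⟩ : G) ∉ ZG G := fun h => u_not_mem_center hc ((mem_ZG G).1 h)
  have h0 : IsReps (ZG G) ({⟨u c, hu⟩} : Finset G) := by
    refine ⟨?_, ?_⟩
    · intro x hx
      rw [Finset.mem_singleton] at hx
      rw [hx]; exact hx0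
    · intro x hx y hy hxy
      rw [Finset.mem_singleton] at hx hy
      exact absurd (hx.trans hy.symm) hxy
  obtain ⟨s, hsub, hs, hcomp⟩ := exists_reps (caG G) _ h0
  have hmem : (⟨u c, hu⟩ : G) ∈ s := hsub (Finset.mem_singleton_self _)
  apply small_case q p hq G hZ s hs hcomp
  intro x hx
  by_cases hxe : x = ⟨u c, hu⟩
  · right
    rw [hxe]
    refine ⟨Nor_u G hc hu, ?_⟩
    have h1 := card_Nor_u G hc hu
    have hpos : 0 < Nat.card (theta G).range := Nat.card_pos
    have : Nat.card (theta G).range = 1 ∨ Nat.card (theta G).range = 2 := by omega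
    rcases this with h | h
    · left; rw [h1, h, mul_one]
    · right; rw [h1, h, mul_comm]
  · left
    intro htr
    have := R_of_unip p G hZ hc hu x htr
    exact hs.2 _ hmem x hx (fun h => hxe h.symm) this

end Cfsg.Agent.H9.DicksonUN
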