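import Mathlib
import Cfsg.Agent.H9.DicksonCases

set_option autoImplicit false

/-! The case `t ≥ 3`: reduction to the Borel case or the generic case. -/

namespace Cfsg.Agent.H9.DicksonUN

open Matrix
open Cfsg.Agent.H9.AutPSL2
open Cfsg.Agent.H9.DicksonSS
open Cfsg.Agent.H9.DicksonCE
open Cfsg.Agent.H9.DicksonQ
open Cfsg.Agent.H9.DicksonArith
open Cfsg.Agent.H9.DicksonConcl

universe u

variable {F : Type u} [Field F] [Fintype F]

local notation "SL2" => Matrix.SpecialLinearGroup (Fin 2) F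
local notation "PSL2" => Matrix.ProjectiveSpecialLinearGroup (Fin 2) F

/-- divisibility data of an arbitrary class -/
theorem div_data (G : Subgroup SL2) (x : G) :
    Nat.card (Cent x) = Nat.card (ZG G) * (Nat.card (Cent x) / Nat.card (ZG G)) ∧
      Nat.card (Nor x) = Nat.card (Cent x) * (Nat.card (Nor x) / Nat.card (Cent x)) ∧
      Nat.card G = Nat.card (Nor x) * (Nat.card G / Nat.card (Nor x)) := by
  have d1 : Nat.card (ZG G) ∣ Nat.card (Cent x) := Subgroup.card_dvd_of_le (Z_le_Cent (caG G) x)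
  have d2 : Nat.card (Cent x) ∣ Nat.card (Nor x) :=
    Subgroup.card_dvd_of_le (Subgroup.le_normalizer)
  have d3 : Nat.card (Nor x) ∣ Nat.card G := Subgroup.card_subgroup_dvd_card _
  exact ⟨(Nat.mul_div_cancel' d1).symm, (Nat.mul_div_cancel' d2).symm,
    (Nat.mul_div_cancel' d3).symm⟩

/-- the order of `G` in the presence of unipotent elements -/
theorem card_G_eq (G : Subgroup SL2) (hZ : Subgroup.center SL2 ≤ G) {c : F} (hc : c ≠ 0)
    (hu : u c ∈ G) :
    Nat.card G = Nat.card (ZG G) *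
      (Nat.card (A G) * Nat.card (theta G).range * (1 + (Om G).ncard)) := by
  rw [card_eq_Bor_mul G, card_Bor G, card_range_del G hZ hc hu, card_ZG G hZ]
  ring

/-- reduction of the case `t ≥ 3` -/
theorem caseII_big (p : ℕ) [Fact p.Prime] [CharP F p]
    (G : Subgroup SL2) (hZ : Subgroup.center SL2 ≤ G) {c : F} (hc : c ≠ 0) (hu : u c ∈ G)
    (e0 : Fˣ) (he0 : ((e0 : F)) ^ 2 ≠ 1) (hd : dg e0 ∈ G)
    (hgen : ∀ e ∈ (del G).range, e ∈ Subgroup.zpowers e0) (hmem : e0 ∈ (del G).range)
    (ht : 3 ≤ Nat.card (theta G).range) :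
    (∀ g ∈ G, g.1 1 0 = 0) ∨ ((Om G).ncard = Nat.card (A G) ∧ (0 : F) ∈ Om G ∧
      (Nat.card (theta G).range = Nat.card (A G) - 1 ∨
        2 * Nat.card (theta G).range = Nat.card (A G) - 1)) := by
  classical
  set x0 : G := ⟨u c, hu⟩ with hx0
  set x1 : G := ⟨dg e0, hd⟩ with hx1
  set S := Nat.card (A G) with hS
  set T := Nat.card (theta G).range with hT
  have hz : 0 < Nat.card (ZG G) := Nat.card_pos
  have hx0Z : x0 ∉ ZG G := fun h => u_not_mem_center hc ((mem_ZG G).1 h)
  have hx1Z : x1 ∉ ZG G := fun h => dg_not_mem_center e0 he0 ((mem_ZG G).1 h)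
  have h01 : x0 ≠ x1 := by
    intro h
    have := congrArg (fun g : G => g.1.1 0 1) h
    simp only [hx0, hx1, u_01, dg_01] at this
    exact hc this
  have hnR : ¬ R x0 x1 := not_R_u_dg G e0 he0 hd hc hu
  have h0 : IsReps (ZG G) ({x0, x1} : Finset G) := by
    refine ⟨?_, ?_⟩
    · intro x hx
      rw [Finset.mem_insert, Finset.mem_singleton] at hx
      rcases hx with rfl | rfl
      · exact hx0Z
      · exact hx1Z
    · intro x hx y hy hxy
      rw [Finset.mem_insert, Finset.mem_singleton] at hx hy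
      rcases hx with rfl | rfl <;> rcases hy with rfl | rfl
      · exact absurd rfl hxy
      · exact hnR
      · exact fun h => hnR (R_symm h)
      · exact absurd rfl hxy
  obtain ⟨s, hsub, hs, hcomp⟩ := exists_reps (caG G) _ h0
  have hm0 : x0 ∈ s := hsub (by simp)
  have hm1 : x1 ∈ s := hsub (by simp)
  -- the data
  have hk : S ∣ (Om G).ncard := card_A_dvd_Om G
  set k := (Om G).ncard / S with hk'
  have hOm : (Om G).ncard = k * S := (Nat.div_mul_cancel hk).symm
  set n := 1 + (Om G).ncard with hn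
  set g := S * T * n with hg
  have hG : Nat.card G = Nat.card (ZG G) * g := card_G_eq G hZ hc hu
  set a : G → ℕ := fun x => Nat.card (Cent x) / Nat.card (ZG G) with ha
  set ε : G → ℕ := fun x => Nat.card (Nor x) / Nat.card (Cent x) with hε
  set m : G → ℕ := fun x => Nat.card G / Nat.card (Nor x) with hm
  have hSpos : 0 < S := Nat.card_pos
  have hS2 : 2 ≤ S := by
    have h1 := p_dvd_card_A p (A G) hc hu
    have := Nat.le_of_dvd hSpos h1
    have := (Fact.out : p.Prime).two_le
    omega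
  have hxc : ∀ x ∈ s, x.1 ∉ Subgroup.center SL2 := fun x hx h => hs.1 x hx ((mem_ZG G).2 h)
  have hss : ∀ x ∈ s, x ≠ x0 → x.1.1.trace ^ 2 ≠ 4 := by
    intro x hx hxe htr
    have := R_of_unip p G hZ hc hu x htr
    exact hs.2 _ hm0 x hx (fun h => hxe h.symm) this
  have hcls : ∀ x ∈ s, x ≠ x0 → Cls g (a x) (ε x) (m x) := fun x hx hxe =>
    (cls_data G g hG x (hxc x hx) (card_Nor_ss G x (hxc x hx) (hss x hx hxe))).1
  have heq := class_eq_nat (caG G) s hs hcomp g hG a ε m (fun x _ => (div_data G x).1)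
    (fun x _ => (div_data G x).2.1) (fun x _ => (div_data G x).2.2)
  have ha0 : a x0 = S := by
    show Nat.card (Cent x0) / Nat.card (ZG G) = S
    rw [card_Cent_u G hZ hc hu, ← card_ZG G hZ, Nat.mul_div_cancel_left _ hz]
  have hm0' : m x0 = n := by
    show Nat.card G / Nat.card (Nor x0) = n
    rw [Nor_u G hc hu, card_eq_Bor_mul G, Nat.mul_div_cancel_left _ Nat.card_pos]
  have ha1 : a x1 = T := by
    show Nat.card (Cent x1) / Nat.card (ZG G) = T
    rw [card_Cent_dg G e0 he0 hd hgen hmem, card_range_del G hZ hc hu, ← card_ZG G hZ,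
      Nat.mul_div_cancel_left _ hz]
  have hk1 : ε x1 = 2 → 1 ≤ k := by
    intro he
    have hne : Nat.card (Nor x1) ≠ Nat.card (Cent x1) := by
      intro h
      have : ε x1 = 1 := by
        show Nat.card (Nor x1) / Nat.card (Cent x1) = 1
        rw [h, Nat.div_self Nat.card_pos]
      omega
    have h0m := zero_mem_Om G e0 he0 hd hne
    have hpos : 0 < (Om G).ncard := by
      rw [Set.ncard_pos (Set.toFinite _)]
      exact ⟨0, h0m⟩
    rcases Nat.eq_zero_or_pos k with hk0 | hk0
    · rw [hOm, hk0, zero_mul] at hpos; omega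
    · exact hk0
  have harith := arith_II s a ε m g S T n k x0 x1 hm0 hm1 h01 ha0 hm0' rfl
    (by rw [hn, hOm]) (card_range_theta_dvd' G) ht hS2 ha1 hk1 hcls heq
  rcases harith with hk0 | ⟨hk1', he, hor⟩
  · left
    intro y hy
    by_contra h10
    have : y.1 0 0 / y.1 1 0 ∈ Om G := ⟨y, hy, h10, rfl⟩
    have hpos : 0 < (Om G).ncard := by
      rw [Set.ncard_pos (Set.toFinite _)]
      exact ⟨_, this⟩
    rw [hOm, hk0, zero_mul] at hpos
    omega
  · right
    refine ⟨by rw [hOm, hk1', one_mul], ?_, hor⟩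
    apply zero_mem_Om G e0 he0 hd
    intro h
    have : ε x1 = 1 := by
      show Nat.card (Nor x1) / Nat.card (Cent x1) = 1
      rw [h, Nat.div_self Nat.card_pos]
    omega

end Cfsg.Agent.H9.DicksonUN
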