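import Mathlib
import Cfsg.Agent.H9.DicksonBig

set_option autoImplicit false

/-! The generic case: structure of `G`. -/

namespace Cfsg.Agent.H9.DicksonUN

open Matrix
open Cfsg.Agent.H9.AutPSL2
open Cfsg.Agent.H9.DicksonSS
open Cfsg.Agent.H9.DicksonCE

universe u

variable {F : Type u} [Field F] [Fintype F]

local notation "SL2" => Matrix.SpecialLinearGroup (Fin 2) F
local notation "PSL2" => Matrix.ProjectiveSpecialLinearGroup (Fin 2) F

/-- the multiplier field has the order of `A` -/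
theorem card_Mul_eq (G : Subgroup SL2) {c : F} (hc : c ≠ 0) (hu : u c ∈ G)
    (ht : 3 ≤ Nat.card (theta G).range)
    (hor : Nat.card (theta G).range = Nat.card (A G) - 1 ∨
      2 * Nat.card (theta G).range = Nat.card (A G) - 1) :
    Nat.card (Mul (A G)) = Nat.card (A G) := by
  obtain ⟨r, hr, hr1⟩ := card_A_pow (A G)
  have hne : A G ≠ ⊥ := by
    intro h
    have : c ∈ A G := hu
    rw [h, AddSubgroup.mem_bot] at this
    exact hc this
  have hr1' := hr1 hne
  have hdvd := card_range_theta_dvd G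
  set μ := Nat.card (Mul (A G)) with hμ
  have hμ2 : 2 ≤ μ := by
    have : 1 < Nat.card (Mul (A G)) := Finite.one_lt_card
    omega
  have hT : Nat.card (theta G).range ≤ μ - 1 := Nat.le_of_dvd (by omega) hdvd
  by_cases hr2 : 2 ≤ r
  · exfalso
    have h1 : μ ^ 2 ≤ μ ^ r := Nat.pow_le_pow_right (by omega) hr2
    have h2 : 2 * μ ≤ μ ^ 2 := by
      rw [pow_two]; exact Nat.mul_le_mul_right μ hμ2
    rw [hr] at hor
    omega
  · have : r = 1 := by omega
    rw [hr, this, pow_one]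

/-- in the generic case the orbit is `A`, `A = c M`, and `G` contains the lower unipotent
elements `l (μ / c)` -/
theorem generic_core (G : Subgroup SL2) {c : F} (hc : c ≠ 0) (hu : u c ∈ G)
    (hOm : (Om G).ncard = Nat.card (A G)) (h0 : (0 : F) ∈ Om G)
    (hM : Nat.card (Mul (A G)) = Nat.card (A G)) :
    (∀ a, a ∈ A G ↔ ∃ μ ∈ Mul (A G), a = c * μ) ∧ (∀ μ ∈ Mul (A G), l (c⁻¹ * μ) ∈ G) := by
  -- the orbit is `A`
  have hsub : ((A G : AddSubgroup F) : Set F) ⊆ Om G := by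
    intro a ha
    have := Om_translate G 0 h0 a ha
    rwa [zero_add] at this
  have hOmA : ((A G : AddSubgroup F) : Set F) = Om G := by
    apply Set.eq_of_subset_of_ncard_le hsub _ (Set.toFinite _)
    rw [hOm, ← Nat.card_coe_set_eq]
    rfl
  have hOm' : ∀ ω ∈ Om G, ω ∈ A G := by
    intro ω hω
    rw [← hOmA] at hω
    exact hω
  have hcA : c ∈ A G := hu
  -- `A = c M`
  have hA : ∀ a, a ∈ A G ↔ ∃ μ ∈ Mul (A G), a = c * μ := by
    intro a
    constructor
    · intro ha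
      let f : Mul (A G) → A G := fun μ => ⟨c * μ.1, by rw [mul_comm]; exact μ.2 c hcA⟩
      have hinj : Function.Injective f := by
        intro μ ν h
        have : c * μ.1 = c * ν.1 := congrArg Subtype.val h
        exact Subtype.ext (mul_left_cancel₀ hc this)
      have hbij : Function.Bijective f :=
        (Nat.bijective_iff_injective_and_card f).2 ⟨hinj, hM⟩
      obtain ⟨μ, hμ⟩ := hbij.2 ⟨a, ha⟩
      exact ⟨μ.1, μ.2, (congrArg Subtype.val hμ).symm⟩
    · rintro ⟨μ, hμ, rfl⟩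
      rw [mul_comm]; exact hμ c hcA
  refine ⟨hA, ?_⟩
  -- an element with `w00 = 0`
  obtain ⟨w, hw, hw10, hw0⟩ := h0
  have hw00 : w.1 0 0 = 0 := by
    rcases div_eq_zero_iff.1 hw0.symm with h | h
    · exact h
    · exact absurd h hw10
  have hl : ∀ a ∈ A G, l (-(w.1 1 0) ^ 2 * a) ∈ G := by
    intro a ha
    have h1 := conj_u_of_ne w hw10 a
    rw [hw00, zero_div, u_zero, one_mul, inv_one, mul_one] at h1
    have : l (-(w.1 1 0) ^ 2 * a) = w * u a * w⁻¹ := by rw [h1]; group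
    rw [this]
    exact G.mul_mem (G.mul_mem hw ha) (G.inv_mem hw)
  -- `b² c² ∈ M`
  have hbc : -(w.1 1 0) ^ 2 * c ≠ 0 := mul_ne_zero (neg_ne_zero.2 (pow_ne_zero 2 hw10)) hc
  have h1 : (-(w.1 1 0) ^ 2 * c)⁻¹ ∈ A G := by
    apply hOm'
    refine ⟨l (-(w.1 1 0) ^ 2 * c), hl c hcA, by simpa using hbc, ?_⟩
    simp
  obtain ⟨μ1, hμ1, e1⟩ := (hA _).1 h1
  have hμ1ne : μ1 ≠ 0 := by
    rintro rfl
    rw [mul_zero] at e1
    exact inv_ne_zero hbc e1
  have hν : (w.1 1 0) ^ 2 * c ^ 2 ∈ Mul (A G) := by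
    have e2 : (w.1 1 0) ^ 2 * c ^ 2 = -μ1⁻¹ := by
      have e3 : (-(w.1 1 0) ^ 2 * c) * (c * μ1) = 1 := by rw [← e1, mul_inv_cancel₀ hbc]
      field_simp
      linear_combination -e3
    rw [e2]
    exact (Mul (A G)).neg_mem ((Mul (A G)).inv_mem hμ1)
  have hνne : (w.1 1 0) ^ 2 * c ^ 2 ≠ 0 := mul_ne_zero (pow_ne_zero 2 hw10) (pow_ne_zero 2 hc)
  intro μ hμ
  have hm : -(μ * ((w.1 1 0) ^ 2 * c ^ 2)⁻¹) ∈ Mul (A G) :=
    (Mul (A G)).neg_mem ((Mul (A G)).mul_mem hμ ((Mul (A G)).inv_mem hν))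
  have ha : c * -(μ * ((w.1 1 0) ^ 2 * c ^ 2)⁻¹) ∈ A G := (hA _).2 ⟨_, hm, rfl⟩
  have := hl _ ha
  have e : -(w.1 1 0) ^ 2 * (c * -(μ * ((w.1 1 0) ^ 2 * c ^ 2)⁻¹)) = c⁻¹ * μ := by
    field_simp
  rwa [e] at this

/-- in the case `t = s - 1` every nonzero element of `M` is a square of a diagonal entry -/
theorem exists_sqrt (G : Subgroup SL2)
    (hT : Nat.card (theta G).range = Nat.card (Mul (A G)) - 1) (μ : F) (hμ : μ ∈ Mul (A G))
    (hμ0 : μ ≠ 0) : ∃ g ∈ G, g.1 1 0 = 0 ∧ (g.1 0 0) ^ 2 = μ := by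
  have hle : (theta G).range ≤ (Units.map (Mul (A G)).subtype.toMonoidHom).range := by
    rintro e ⟨g, rfl⟩
    have hm : (g.1.1.1 0 0) ^ 2 ∈ Mul (A G) := by
      rw [mem_Mul]
      intro a ha
      exact sq_mul_mem G g ha
    have hne : (g.1.1.1 0 0) ^ 2 ≠ 0 := pow_ne_zero 2 (Bor_00_ne G g)
    refine ⟨Units.mk0 ⟨_, hm⟩ (fun h => hne (congrArg Subtype.val h)), ?_⟩
    apply Units.ext
    rw [theta_apply]
    rfl
  have hinj : Function.Injective (Units.map (Mul (A G)).subtype.toMonoidHom) :=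
    Units.map_injective (Subtype.val_injective)
  have h2 : Nat.card (Units.map (Mul (A G)).subtype.toMonoidHom).range =
      Nat.card (Mul (A G)) - 1 := by
    rw [← Nat.card_units]
    exact Nat.card_range_of_injective hinj
  have heq : (theta G).range = (Units.map (Mul (A G)).subtype.toMonoidHom).range :=
    Subgroup.eq_of_le_of_card_ge hle (by rw [h2, hT])
  have hmem : Units.mk0 μ hμ0 ∈ (theta G).range := by
    rw [heq]
    refine ⟨Units.mk0 ⟨μ, hμ⟩ (fun h => hμ0 (congrArg Subtype.val h)), ?_⟩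
    apply Units.ext
    rfl
  obtain ⟨g, hg⟩ := hmem
  refine ⟨g.1.1, g.1.2, (mem_Bor G).1 g.2, ?_⟩
  have := congrArg (fun e : Fˣ => (e : F)) hg
  simp only [theta_apply, Units.val_mk0] at this
  exact this

/-- the diagonal parts of elements of the Borel subgroup lie in `G` -/
theorem dg_mem_of_range (G : Subgroup SL2) (e0 : Fˣ) (hd : dg e0 ∈ G)
    (hgen : ∀ e ∈ (del G).range, e ∈ Subgroup.zpowers e0) (e : Fˣ) (he : e ∈ (del G).range) :
    dg e ∈ G := by
  obtain ⟨k, rfl⟩ := Subgroup.mem_zpowers_iff.1 (hgen e he)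
  rw [dg_zpow]
  exact G.zpow_mem hd k

end Cfsg.Agent.H9.DicksonUN
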