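import Mathlib
import Cfsg.Agent.H9.DicksonGen
import Cfsg.Agent.H9.SubfieldPSL2
import Cfsg.Agent.S0265

set_option autoImplicit false

/-! The generic case: isomorphisms with `PSL₂(K)` and `PGL₂(K)`. -/

namespace Cfsg.Agent.H9.DicksonIso

open Matrix
open Cfsg.Agent.H9.AutPSL2
open Cfsg.Agent.H9.DicksonUN (dg dg_00 dg_01 dg_10 dg_11)

universe u v

variable {F : Type u} [Field F] {K : Type v} [Field K]

local notation "SL2" => Matrix.SpecialLinearGroup (Fin 2) F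
local notation "PSL2" => Matrix.ProjectiveSpecialLinearGroup (Fin 2) F
local notation "SL2K" => Matrix.SpecialLinearGroup (Fin 2) K

/-- the twisted embedding -/
def psi (ι : K →+* F) (c : Fˣ) : SL2K →* SL2 :=
  (delta c).toMonoidHom.comp (Matrix.SpecialLinearGroup.map ι)

theorem map_ij (ι : K →+* F) (m : SL2K) (i j : Fin 2) :
    (Matrix.SpecialLinearGroup.map ι m).1 i j = ι (m.1 i j) := by
  simp

@[simp] theorem psi_00 (ι : K →+* F) (c : Fˣ) (m : SL2K) : (psi ι c m).1 0 0 = ι (m.1 0 0) := by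
  show (delta c (Matrix.SpecialLinearGroup.map ι m)).1 0 0 = _
  rw [delta_00, map_ij]

@[simp] theorem psi_01 (ι : K →+* F) (c : Fˣ) (m : SL2K) :
    (psi ι c m).1 0 1 = c * ι (m.1 0 1) := by
  show (delta c (Matrix.SpecialLinearGroup.map ι m)).1 0 1 = _
  rw [delta_01, map_ij]

@[simp] theorem psi_10 (ι : K →+* F) (c : Fˣ) (m : SL2K) :
    (psi ι c m).1 1 0 = (c⁻¹ : Fˣ) * ι (m.1 1 0) := by
  show (delta c (Matrix.SpecialLinearGroup.map ι m)).1 1 0 = _
  rw [delta_10, map_ij]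

@[simp] theorem psi_11 (ι : K →+* F) (c : Fˣ) (m : SL2K) : (psi ι c m).1 1 1 = ι (m.1 1 1) := by
  show (delta c (Matrix.SpecialLinearGroup.map ι m)).1 1 1 = _
  rw [delta_11, map_ij]

theorem psi_u (ι : K →+* F) (c : Fˣ) (k : K) : psi ι c (u k) = u (c * ι k) := by
  apply ext4 <;> simp

theorem psi_l (ι : K →+* F) (c : Fˣ) (k : K) : psi ι c (l k) = l ((c⁻¹ : Fˣ) * ι k) := by
  apply ext4 <;> simp

theorem psi_injective (ι : K →+* F) (c : Fˣ) : Function.Injective (psi ι c) := by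
  intro m m' h
  have hc : (c : F) ≠ 0 := c.ne_zero
  have hci : ((c⁻¹ : Fˣ) : F) ≠ 0 := (c⁻¹).ne_zero
  have e00 := congrArg (fun g : SL2 => g.1 0 0) h
  have e01 := congrArg (fun g : SL2 => g.1 0 1) h
  have e10 := congrArg (fun g : SL2 => g.1 1 0) h
  have e11 := congrArg (fun g : SL2 => g.1 1 1) h
  simp only [psi_00, psi_01, psi_10, psi_11] at e00 e01 e10 e11
  apply ext4
  · exact ι.injective e00
  · exact ι.injective (mul_left_cancel₀ hc e01)
  · exact ι.injective (mul_left_cancel₀ hci e10)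
  · exact ι.injective e11

theorem psi_neg_one (ι : K →+* F) (c : Fˣ) : psi ι c (-1) = -1 := by
  apply ext4 <;> simp

theorem ker_pr_psi (ι : K →+* F) (c : Fˣ) :
    ((pr : SL2 →* PSL2).comp (psi ι c)).ker = Subgroup.center SL2K := by
  ext m
  rw [MonoidHom.mem_ker, mem_center_iff']
  show pr (psi ι c m) = 1 ↔ _
  rw [← map_one (pr : SL2 →* PSL2), pr_eq_iff]
  constructor
  · rintro (h | h)
    · left
      apply psi_injective ι c
      rw [h, map_one]
    · right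
      apply psi_injective ι c
      rw [h, psi_neg_one]
  · rintro (rfl | rfl)
    · left; rw [map_one]
    · right; rw [psi_neg_one]

theorem psi_mem (ι : K →+* F) (c : Fˣ) (G : Subgroup SL2) (hu : ∀ k : K, u ((c : F) * ι k) ∈ G)
    (hl : ∀ k : K, l (((c⁻¹ : Fˣ) : F) * ι k) ∈ G) (m : SL2K) : psi ι c m ∈ G := by
  have h : Subgroup.closure (Set.range (u : K → SL2K) ∪ Set.range (l : K → SL2K)) ≤
      G.comap (psi ι c) := by
    rw [Subgroup.closure_le]
    rintro _ (⟨k, rfl⟩ | ⟨k, rfl⟩)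
    · show psi ι c (u k) ∈ G
      rw [psi_u]; exact hu k
    · show psi ι c (l k) ∈ G
      rw [psi_l]; exact hl k
  exact h (mem_closure m)

/-- the generic case, `PSL₂` -/
theorem iso_PSL2 [Finite F] [Finite K] (ι : K →+* F) (c : Fˣ) (G : Subgroup SL2)
    (hmem : ∀ m : SL2K, psi ι c m ∈ G)
    (hcard : Nat.card SL2K =
      Nat.card (Subgroup.center SL2K) * Nat.card ↥(G.map (pr : SL2 →* PSL2))) :
    Nonempty (↥(G.map (pr : SL2 →* PSL2)) ≃* Matrix.ProjectiveSpecialLinearGroup (Fin 2) K) := by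
  set φ : SL2K →* PSL2 := (pr : SL2 →* PSL2).comp (psi ι c) with hφ
  have hker : φ.ker = Subgroup.center SL2K := ker_pr_psi ι c
  have hle : φ.range ≤ G.map (pr : SL2 →* PSL2) := by
    rintro _ ⟨m, rfl⟩
    exact ⟨psi ι c m, hmem m, rfl⟩
  have hc1 : Nat.card SL2K = Nat.card φ.ker * Nat.card φ.range :=
    Cfsg.Agent.H9.DicksonQ.card_eq φ.rangeRestrict φ.rangeRestrict_surjective
      (MonoidHom.ker_rangeRestrict φ)
  rw [hker, hcard] at hc1
  have hpos : 0 < Nat.card (Subgroup.center SL2K) := Nat.card_pos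
  have hc2 := Nat.eq_of_mul_eq_mul_left hpos hc1
  have heq : φ.range = G.map (pr : SL2 →* PSL2) :=
    Subgroup.eq_of_le_of_card_ge hle (le_of_eq hc2)
  exact ⟨(MulEquiv.subgroupCongr heq.symm).trans
    (((QuotientGroup.quotientKerEquivRange φ).symm).trans
      (QuotientGroup.quotientMulEquivOfEq hker))⟩

section pgl

open Cfsg.Agent.H9.SubfieldPSL2 (sq sq_spec sq_ne_zero nrm nrm_val det_ne_zero')

variable [Fintype F]

theorem delta_dg (c τ : Fˣ) : delta c (dg τ) = dg τ := by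
  apply ext4 <;> simp

theorem neg_one_mul_dg (σ τ : Fˣ) (h : (τ : F) = -(σ : F)) : dg τ = -1 * dg σ := by
  apply ext4
  · simp [h]
  · simp
  · simp
  · simp only [mul_11, dg_11, neg_10, neg_11]
    rw [Units.val_inv_eq_inv_val, Units.val_inv_eq_inv_val, h, inv_neg]
    simp

/-- decomposition of the normalized image -/
theorem nrm_decomp (ι : K →+* F) (hsq : ∀ d : K, d ≠ 0 → IsSquare (ι d)) (g : GL (Fin 2) K) :
    ∃ (m : SL2K) (τ : Fˣ), (τ : F) * τ = ι (g : Matrix (Fin 2) (Fin 2) K).det ∧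
      nrm ι hsq g = Matrix.SpecialLinearGroup.map ι m * dg τ := by
  set δ := (g : Matrix (Fin 2) (Fin 2) K).det with hδ
  have hδ0 : δ ≠ 0 := det_ne_zero' g
  have hτ0 := sq_ne_zero ι hsq g
  have hτ := sq_spec ι hsq g
  have hdet : (g : Matrix (Fin 2) (Fin 2) K) 0 0 * (g : Matrix (Fin 2) (Fin 2) K) 1 1 -
      (g : Matrix (Fin 2) (Fin 2) K) 0 1 * (g : Matrix (Fin 2) (Fin 2) K) 1 0 = δ := by
    rw [hδ, Matrix.det_fin_two]
  obtain ⟨m, hm00, hm01, hm10, hm11⟩ : ∃ m : SL2K,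
      m.1 0 0 = (g : Matrix (Fin 2) (Fin 2) K) 0 0 / δ ∧
      m.1 0 1 = (g : Matrix (Fin 2) (Fin 2) K) 0 1 ∧
      m.1 1 0 = (g : Matrix (Fin 2) (Fin 2) K) 1 0 / δ ∧
      m.1 1 1 = (g : Matrix (Fin 2) (Fin 2) K) 1 1 := by
    refine ⟨⟨!![(g : Matrix (Fin 2) (Fin 2) K) 0 0 / δ, (g : Matrix (Fin 2) (Fin 2) K) 0 1;
      (g : Matrix (Fin 2) (Fin 2) K) 1 0 / δ, (g : Matrix (Fin 2) (Fin 2) K) 1 1], ?_⟩,
      rfl, rfl, rfl, rfl⟩
    rw [Matrix.det_fin_two_of]
    field_simp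
    linear_combination hdet
  refine ⟨m, Units.mk0 _ hτ0, hτ, ?_⟩
  have hιδ : ι δ ≠ 0 := fun h => hδ0 (ι.injective (by rw [h, map_zero]))
  have hnrm : ∀ i j : Fin 2, (nrm ι hsq g).1 i j =
      (sq ι hsq g)⁻¹ * ι ((g : Matrix (Fin 2) (Fin 2) K) i j) := by
    intro i j
    rw [nrm_val]
    simp
  apply ext4
  · rw [mul_00, map_ij, map_ij, dg_00, dg_10, mul_zero, add_zero, hnrm, hm00, map_div₀,
      Units.val_mk0, ← hτ]
    field_simp
  · rw [mul_01, map_ij, map_ij, dg_01, dg_11, mul_zero, zero_add, hnrm, hm01,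
      Units.val_inv_eq_inv_val, Units.val_mk0]
    ring
  · rw [mul_10, map_ij, map_ij, dg_00, dg_10, mul_zero, add_zero, hnrm, hm10, map_div₀,
      Units.val_mk0, ← hτ]
    field_simp
  · rw [mul_11, map_ij, map_ij, dg_01, dg_11, mul_zero, zero_add, hnrm, hm11,
      Units.val_inv_eq_inv_val, Units.val_mk0]
    ring

/-- the generic case, `PGL₂` -/
theorem iso_PGL2 [Fintype K] (ι : K →+* F) (c : Fˣ) (G : Subgroup SL2)
    (hZ : Subgroup.center SL2 ≤ G)
    (hmem : ∀ m : SL2K, psi ι c m ∈ G)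
    (hsqG : ∀ k : K, k ≠ 0 → ∃ σ : Fˣ, (σ : F) ^ 2 = ι k ∧ dg σ ∈ G)
    (hcard : Nat.card ↥(G.map (pr : SL2 →* PSL2)) = Nat.card SL2K) :
    Nonempty (↥(G.map (pr : SL2 →* PSL2)) ≃* Matrix.ProjGenLinGroup (Fin 2) K) := by
  have hsq : ∀ d : K, d ≠ 0 → IsSquare (ι d) := by
    intro d hd
    obtain ⟨σ, h, -⟩ := hsqG d hd
    exact ⟨σ, by rw [← h]; ring⟩
  set Θ : GL (Fin 2) K →* PSL2 :=
    (lift (delta c)).toMonoidHom.comp (Cfsg.Agent.H9.SubfieldPSL2.theta ι hsq) with hΘ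
  have hker : Θ.ker = Subgroup.center (GL (Fin 2) K) := by
    rw [← Cfsg.Agent.H9.SubfieldPSL2.theta_ker ι hsq]
    ext g
    rw [MonoidHom.mem_ker, MonoidHom.mem_ker]
    show lift (delta c) (Cfsg.Agent.H9.SubfieldPSL2.theta ι hsq g) = 1 ↔ _
    exact (lift (delta c)).map_eq_one_iff
  have hneg : (-1 : SL2) ∈ G := hZ ((mem_center_iff' _).2 (Or.inr rfl))
  have hle : Θ.range ≤ G.map (pr : SL2 →* PSL2) := by
    rintro _ ⟨g, rfl⟩
    show lift (delta c) (pr (nrm ι hsq g)) ∈ _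
    rw [lift_pr]
    refine ⟨delta c (nrm ι hsq g), ?_, rfl⟩
    obtain ⟨m, τ, hτ, hdec⟩ := nrm_decomp ι hsq g
    rw [hdec, map_mul, delta_dg]
    apply G.mul_mem (hmem m)
    obtain ⟨σ, hσ, hσG⟩ := hsqG _ (det_ne_zero' g)
    have hfac : ((τ : F) - σ) * ((τ : F) + σ) = 0 := by linear_combination hτ - hσ
    rcases mul_eq_zero.1 hfac with h | h
    · have : τ = σ := Units.ext (by linear_combination h)
      rw [this]; exact hσG
    · rw [neg_one_mul_dg σ τ (by linear_combination h)]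
      exact G.mul_mem hneg hσG
  have hcardΘ : Nat.card Θ.range = Nat.card SL2K := by
    rw [← Cfsg.Agent.S0265.result (F := K) 2]
    exact Nat.card_congr (((QuotientGroup.quotientKerEquivRange Θ).symm).trans
      (QuotientGroup.quotientMulEquivOfEq hker)).toEquiv
  have heq : Θ.range = G.map (pr : SL2 →* PSL2) :=
    Subgroup.eq_of_le_of_card_ge hle (by rw [hcard, hcardΘ])
  exact ⟨(MulEquiv.subgroupCongr heq.symm).trans
    (((QuotientGroup.quotientKerEquivRange Θ).symm).trans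
      (QuotientGroup.quotientMulEquivOfEq hker))⟩

end pgl

end Cfsg.Agent.H9.DicksonIso
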