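import Mathlib
import Cfsg.Agent.H9.DicksonIso

set_option autoImplicit false

/-! Dickson's theorem: the generic case and the assembly. -/

namespace Cfsg.Agent.H9.DicksonUN

open Matrix
open Cfsg.Agent.H9.AutPSL2
open Cfsg.Agent.H9.DicksonSS
open Cfsg.Agent.H9.DicksonCE
open Cfsg.Agent.H9.DicksonQ
open Cfsg.Agent.H9.DicksonConcl
open Cfsg.Agent.H9.DicksonIso

universe u

variable {F : Type u} [Field F] [Fintype F]

local notation "SL2" => Matrix.SpecialLinearGroup (Fin 2) F
local notation "PSL2" => Matrix.ProjectiveSpecialLinearGroup (Fin 2) F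

omit [Fintype F] [Field F] in
theorem gcd_two_pred_pow (S m : ℕ) (hS : 1 ≤ S) (hm : m ≠ 0) :
    Nat.gcd 2 (S ^ m - 1) = Nat.gcd 2 (S - 1) := by
  rcases Nat.even_or_odd S with h | h
  · have h2 : Even (S ^ m) := Nat.even_pow.2 ⟨h, hm⟩
    obtain ⟨r, hr⟩ := h
    obtain ⟨r', hr'⟩ := h2
    have hpos : 0 < S ^ m := Nat.pos_of_ne_zero (pow_ne_zero m (by omega))
    have e1 : S - 1 = 2 * (r - 1) + 1 := by omega
    have e2 : S ^ m - 1 = 2 * (r' - 1) + 1 := by omega
    rw [e1, e2]
    simp
  · have h2 : Odd (S ^ m) := h.pow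
    obtain ⟨r, hr⟩ := h
    obtain ⟨r', hr'⟩ := h2
    have e1 : S - 1 = 2 * r := by omega
    have e2 : S ^ m - 1 = 2 * r' := by omega
    rw [e1, e2]
    simp

/-- the generic case -/
theorem generic_concl (q p : ℕ) [Fact p.Prime] [CharP F p] (hq : Fintype.card F = q)
    (G : Subgroup SL2) (hZ : Subgroup.center SL2 ≤ G) {c : F} (hc : c ≠ 0) (hu : u c ∈ G)
    (e0 : Fˣ) (hd : dg e0 ∈ G)
    (hgen : ∀ e ∈ (del G).range, e ∈ Subgroup.zpowers e0)
    (ht : 3 ≤ Nat.card (theta G).range)
    (hOm : (Om G).ncard = Nat.card (A G)) (h0 : (0 : F) ∈ Om G)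
    (hor : Nat.card (theta G).range = Nat.card (A G) - 1 ∨
      2 * Nat.card (theta G).range = Nat.card (A G) - 1) :
    Concl F q p ↥(G.map (pr : SL2 →* PSL2)) := by
  classical
  subst hq
  have hM := card_Mul_eq G hc hu ht hor
  obtain ⟨hA, hl⟩ := generic_core G hc hu hOm h0 hM
  set M := Mul (A G) with hMdef
  set S := Nat.card (A G) with hS
  set T := Nat.card (theta G).range with hT
  -- the abstract field
  have : CharP M p := RingHom.charP M.subtype Subtype.val_injective p
  let _ : Fintype M := Fintype.ofFinite M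
  obtain ⟨n, -, hn⟩ := FiniteField.card M p
  let _ : Fintype (GaloisField p n) := Fintype.ofFinite _
  have hcK : Fintype.card (GaloisField p n) = S := by
    rw [← Nat.card_eq_fintype_card, GaloisField.card p n n.ne_zero, ← hn,
      ← Nat.card_eq_fintype_card]
    exact hM
  have hcK' : Fintype.card (GaloisField p n) = Fintype.card M := by
    rw [hcK, ← Nat.card_eq_fintype_card]; exact hM.symm
  let e : GaloisField p n ≃+* M := FiniteField.ringEquivOfCardEq hcK'
  set ι : GaloisField p n →+* F := M.subtype.comp e.toRingHom with hι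
  have hιM : ∀ k, ι k ∈ M := fun k => (e k).2
  have hιsurj : ∀ μ ∈ M, ∃ k, ι k = μ := by
    intro μ hμ
    refine ⟨e.symm ⟨μ, hμ⟩, ?_⟩
    show ((e (e.symm ⟨μ, hμ⟩) : M) : F) = μ
    rw [RingEquiv.apply_symm_apply]
  -- `q = S ^ m`
  have : Module.Finite M F := Module.Finite.of_finite
  have hqS : Fintype.card F = S ^ Module.finrank M F := by
    rw [← Nat.card_eq_fintype_card, Module.natCard_eq_pow_finrank (K := M) (V := F)]
    rw [← hM]
  have hm0 : Module.finrank M F ≠ 0 := by
    intro h
    rw [h, pow_zero] at hqS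
    have : 1 < Fintype.card F := Fintype.one_lt_card
    omega
  -- membership of the image of `SL₂(K)`
  set c' : Fˣ := Units.mk0 c hc with hc'
  have hmemG : ∀ m : Matrix.SpecialLinearGroup (Fin 2) (GaloisField p n), psi ι c' m ∈ G := by
    apply psi_mem ι c' G
    · intro k
      exact (hA _).2 ⟨ι k, hιM k, rfl⟩
    · intro k
      have : ((c'⁻¹ : Fˣ) : F) = c⁻¹ := by rw [Units.val_inv_eq_inv_val]; rfl
      rw [this]
      exact hl _ (hιM k)
  -- cardinalities
  have hSpos : 0 < S := Nat.card_pos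
  have hz : 0 < Nat.card (ZG G) := Nat.card_pos
  have hG : Nat.card G = Nat.card (ZG G) * (S * T * (1 + S)) := by
    have := card_G_eq G hZ hc hu
    rw [hOm] at this
    exact this
  have hcardeq := card_eq (prG G) (prG_surjective G) (prG_ker G)
  have hH : Nat.card ↥(G.map (pr : SL2 →* PSL2)) = S * T * (1 + S) := by
    rw [hG] at hcardeq
    exact (Nat.eq_of_mul_eq_mul_left hz hcardeq).symm
  have hSLK : Nat.card (Matrix.SpecialLinearGroup (Fin 2) (GaloisField p n)) =
      S * (S ^ 2 - 1) := by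
    rw [Cfsg.Agent.H9.SubfieldPSL2.card_SL2_all, hcK]
  have hS2 : S ^ 2 - 1 = (S - 1) * (S + 1) := by
    obtain ⟨r, hr⟩ : ∃ r, S = r + 1 := ⟨S - 1, by omega⟩
    rw [hr, Nat.add_sub_cancel]
    have : (r + 1) ^ 2 = r * (r + 1 + 1) + 1 := by ring
    rw [this, Nat.add_sub_cancel]
  have hzK : Nat.card (Subgroup.center (Matrix.SpecialLinearGroup (Fin 2) (GaloisField p n))) =
      Nat.gcd 2 (S - 1) := by
    rw [card_center, hcK]
  have hzF : Nat.card (ZG G) = Nat.gcd 2 (S - 1) := by
    rw [card_ZG G hZ, card_center, hqS, gcd_two_pred_pow S _ hSpos hm0]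
  right; right; right; right; right
  refine ⟨GaloisField p n, inferInstance, inferInstance, Module.finrank M F, ?_, ?_⟩
  · rw [hcK, hqS]
  rcases hor with hor | hor
  · -- `t = s - 1`
    have hgcd : Nat.gcd 2 (S - 1) = 1 ∨ Nat.gcd 2 (S - 1) = 2 := by
      have := Nat.gcd_dvd_left 2 (S - 1)
      have h2 := Nat.le_of_dvd (by norm_num) this
      have h3 : 0 < Nat.gcd 2 (S - 1) := Nat.gcd_pos_of_pos_left _ (by norm_num)
      omega
    rcases hgcd with h1 | h2
    · left
      apply iso_PSL2 ι c' G hmemG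
      rw [hzK, h1, one_mul, hSLK, hH, hS2, hor]
      ring
    · right
      apply iso_PGL2 ι c' G hZ hmemG
      · intro k hk
        have hk' : ι k ≠ 0 := fun h => hk (ι.injective (by rw [h, map_zero]))
        obtain ⟨g, hg, h10, hsq⟩ := exists_sqrt G (by rw [hM]; exact hor) (ι k) (hιM k) hk'
        have h00 : g.1 0 0 ≠ 0 := by
          intro h
          rw [h] at hsq
          exact hk' (by rw [← hsq]; ring)
        refine ⟨Units.mk0 _ h00, hsq, ?_⟩
        apply dg_mem_of_range G e0 hd hgen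
        exact (mem_range_del G _).2 ⟨g, hg, h10, rfl⟩
      · rw [hSLK, hH, hS2, hor]
        ring
  · -- `2 t = s - 1`
    left
    apply iso_PSL2 ι c' G hmemG
    have h2 : Nat.gcd 2 (S - 1) = 2 := by
      rw [← hor]; simp
    rw [hzK, h2, hSLK, hH, hS2, ← hor]
    ring

/-- unipotent elements present -/
theorem caseII (q p : ℕ) [Fact p.Prime] [CharP F p] (hq : Fintype.card F = q)
    (G : Subgroup SL2) (hZ : Subgroup.center SL2 ≤ G) {c : F} (hc : c ≠ 0) (hu : u c ∈ G) :
    Concl F q p ↥(G.map (pr : SL2 →* PSL2)) := by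
  classical
  have hcyc : IsCyclic (del G).range := inferInstance
  obtain ⟨⟨e0, he0m⟩, hgen0⟩ := IsCyclic.exists_generator (α := (del G).range)
  have hgen : ∀ e ∈ (del G).range, e ∈ Subgroup.zpowers e0 := by
    intro e he
    obtain ⟨k, hk⟩ := Subgroup.mem_zpowers_iff.1 (hgen0 ⟨e, he⟩)
    rw [Subgroup.mem_zpowers_iff]
    refine ⟨k, ?_⟩
    have := congrArg Subtype.val hk
    simpa using this
  by_cases ht : Nat.card (theta G).range ≤ 2
  · exact caseII_small q p hq G hZ hc hu ht
  · push Not at ht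
    have he0 : ((e0 : F)) ^ 2 ≠ 1 := by
      intro h
      have h' : e0 ^ 2 = 1 := Units.ext (by push_cast; exact h)
      have hbot : (theta G).range = ⊥ := by
        rw [eq_bot_iff]
        rintro _ ⟨g, rfl⟩
        rw [Subgroup.mem_bot]
        show (del G g) ^ 2 = 1
        obtain ⟨k, hk⟩ := Subgroup.mem_zpowers_iff.1 (hgen _ ⟨g, rfl⟩)
        rw [← hk, ← zpow_natCast, ← _root_.zpow_mul, mul_comm, _root_.zpow_mul, zpow_natCast, h',
          _root_.one_zpow]
      rw [hbot, Subgroup.card_bot] at ht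
      omega
    obtain ⟨y, hy, h10, h00⟩ := (mem_range_del G e0).1 he0m
    obtain ⟨r, hr⟩ := exists_conj_dg y h10 e0 h00 he0
    have hZ' := center_le_cj r G hZ
    have hu' := u_mem_cj r G hu
    have hd' : dg e0 ∈ cj r G := by
      rw [← hr]
      exact ⟨y, hy, rfl⟩
    have hrange := range_del_cj r G
    have hgen' : ∀ e ∈ (del (cj r G)).range, e ∈ Subgroup.zpowers e0 := by
      rw [hrange]; exact hgen
    have hmem' : e0 ∈ (del (cj r G)).range := by rw [hrange]; exact he0m
    have ht' : 3 ≤ Nat.card (theta (cj r G)).range := by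
      have h1 := card_range_del G hZ hc hu
      have h2 := card_range_del (cj r G) hZ' hc hu'
      rw [hrange, h1] at h2
      have hz : 0 < Nat.card (Subgroup.center SL2) := Nat.card_pos
      have := Nat.eq_of_mul_eq_mul_left hz h2
      omega
    apply Concl.transport (MulAut.conj (u r)) G
    show Concl F q p ↥((cj r G).map (pr : SL2 →* PSL2))
    rcases caseII_big p (cj r G) hZ' hc hu' e0 he0 hd' hgen' hmem' ht' with hB | ⟨hOm, h0, hor⟩
    · exact borel_of q p _ hB
    · exact generic_concl q p hq (cj r G) hZ' hc hu' e0 hd' hgen' ht' hOm h0 hor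

/-- Dickson's theorem for subgroups of `SL₂(F)` containing the centre -/
theorem dickson_SL2 (q p : ℕ) [Fact p.Prime] [CharP F p] (hq : Fintype.card F = q)
    (G : Subgroup SL2) (hZ : Subgroup.center SL2 ≤ G) :
    Concl F q p ↥(G.map (pr : SL2 →* PSL2)) := by
  by_cases hUN : ∃ x ∈ G, x ∉ Subgroup.center SL2 ∧ x.1.trace ^ 2 = 4
  · obtain ⟨x, hx, hxc, htr⟩ := hUN
    have hneg : (-1 : SL2) ∈ G := hZ ((mem_center_iff' _).2 (Or.inr rfl))
    obtain ⟨x', hx', hxc', htr'⟩ : ∃ x' ∈ G, x' ∉ Subgroup.center SL2 ∧ x'.1.trace = 2 := by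
      have h2 : (x.1.trace - 2) * (x.1.trace + 2) = 0 := by linear_combination htr
      rcases mul_eq_zero.1 h2 with h | h
      · exact ⟨x, hx, hxc, by linear_combination h⟩
      · refine ⟨-x, ?_, ?_, ?_⟩
        · have := G.mul_mem hneg hx
          simpa using this
        · intro hcen
          apply hxc
          have hn : (-1 : SL2) ∈ Subgroup.center SL2 := (mem_center_iff' _).2 (Or.inr rfl)
          have := (Subgroup.center SL2).mul_mem hn hcen
          simpa using this
        · rw [Matrix.SpecialLinearGroup.coe_neg, Matrix.trace_neg]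
          linear_combination -h
    obtain ⟨m, c, hm⟩ := exists_conj_u x' htr'
    have hc : c ≠ 0 := by
      rintro rfl
      rw [u_zero] at hm
      apply hxc'
      have : x' = 1 := by
        calc x' = m⁻¹ * (m * x' * m⁻¹) * m := by group
          _ = 1 := by rw [hm]; group
      rw [this]; exact (Subgroup.center SL2).one_mem
    apply Concl.transport (MulAut.conj m) G
    have hZ' : Subgroup.center SL2 ≤ G.map (MulAut.conj m).toMonoidHom := by
      intro z hz
      refine ⟨z, hZ hz, ?_⟩
      show m * z * m⁻¹ = z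
      rw [Subgroup.mem_center_iff] at hz
      rw [hz m]; group
    have hu' : u c ∈ G.map (MulAut.conj m).toMonoidHom := ⟨x', hx', hm⟩
    exact caseII q p hq _ hZ' hc hu'
  · push Not at hUN
    exact caseI q p hq G hZ (fun x hx hxc => hUN x hx hxc)

/-- Dickson's theorem -/
theorem dickson (q p : ℕ) [Fact p.Prime] [CharP F p] (hq : Fintype.card F = q)
    (H : Subgroup PSL2) : Concl F q p ↥H := by
  have hZ : Subgroup.center SL2 ≤ H.comap (pr : SL2 →* PSL2) := by
    intro z hz
    rw [Subgroup.mem_comap]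
    have : (pr : SL2 →* PSL2) z = 1 := by
      unfold pr
      rw [QuotientGroup.mk'_apply, QuotientGroup.eq_one_iff]
      exact hz
    rw [this]; exact H.one_mem
  have h := dickson_SL2 q p hq (H.comap (pr : SL2 →* PSL2)) hZ
  have e : (H.comap (pr : SL2 →* PSL2)).map (pr : SL2 →* PSL2) = H :=
    Subgroup.map_comap_eq_self_of_surjective pr_surjective H
  exact h.congr (MulEquiv.subgroupCongr e)

end Cfsg.Agent.H9.DicksonUN
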