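import Mathlib
import Cfsg.Agent.H9.DicksonMain

set_option autoImplicit false

/-! A concrete form of the generic case of Dickson's theorem. -/

namespace Cfsg.Agent.H9.DicksonUN

open Matrix
open Cfsg.Agent.H9.AutPSL2
open Cfsg.Agent.H9.DicksonSS
open Cfsg.Agent.H9.DicksonCE
open Cfsg.Agent.H9.DicksonQ
open Cfsg.Agent.H9.DicksonConcl
open Cfsg.Agent.H9.DicksonIso

universe u

variable {F : Type u} [Field F] [Fintype F]

local notation "SL2" => Matrix.SpecialLinearGroup (Fin 2) F
local notation "PSL2" => Matrix.ProjectiveSpecialLinearGroup (Fin 2) F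

/-- the generic case, concretely -/
theorem generic_concrete (p : ℕ) [Fact p.Prime] [CharP F p]
    (G : Subgroup SL2) (hZ : Subgroup.center SL2 ≤ G) {c : F} (hc : c ≠ 0) (hu : u c ∈ G)
    (ht : 3 ≤ Nat.card (theta G).range)
    (hOm : (Om G).ncard = Nat.card (A G)) (h0 : (0 : F) ∈ Om G)
    (hor : Nat.card (theta G).range = Nat.card (A G) - 1 ∨
      2 * Nat.card (theta G).range = Nat.card (A G) - 1) :
    ∃ (n : ℕ) (ι : GaloisField p n →+* F), n ≠ 0 ∧
      (∀ m : Matrix.SpecialLinearGroup (Fin 2) (GaloisField p n), psi ι (Units.mk0 c hc) m ∈ G) ∧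
      Nat.card (GaloisField p n) = Nat.card (A G) ∧
      Nat.card ↥(G.map (pr : SL2 →* PSL2)) =
        Nat.card (A G) * Nat.card (theta G).range * (1 + Nat.card (A G)) := by
  classical
  have hM := card_Mul_eq G hc hu ht hor
  obtain ⟨hA, hl⟩ := generic_core G hc hu hOm h0 hM
  set M := Mul (A G) with hMdef
  set S := Nat.card (A G) with hS
  set T := Nat.card (theta G).range with hT
  have : CharP M p := RingHom.charP M.subtype Subtype.val_injective p
  let _ : Fintype M := Fintype.ofFinite M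
  obtain ⟨n, -, hn⟩ := FiniteField.card M p
  let _ : Fintype (GaloisField p n) := Fintype.ofFinite _
  have hcK : Fintype.card (GaloisField p n) = S := by
    rw [← Nat.card_eq_fintype_card, GaloisField.card p n n.ne_zero, ← hn,
      ← Nat.card_eq_fintype_card]
    exact hM
  have hcK' : Fintype.card (GaloisField p n) = Fintype.card M := by
    rw [hcK, ← Nat.card_eq_fintype_card]; exact hM.symm
  let e : GaloisField p n ≃+* M := FiniteField.ringEquivOfCardEq hcK'
  set ι : GaloisField p n →+* F := M.subtype.comp e.toRingHom with hι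
  have hιM : ∀ k, ι k ∈ M := fun k => (e k).2
  set c' : Fˣ := Units.mk0 c hc with hc'
  have hmemG : ∀ m : Matrix.SpecialLinearGroup (Fin 2) (GaloisField p n), psi ι c' m ∈ G := by
    apply psi_mem ι c' G
    · intro k
      exact (hA _).2 ⟨ι k, hιM k, rfl⟩
    · intro k
      have : ((c'⁻¹ : Fˣ) : F) = c⁻¹ := by rw [Units.val_inv_eq_inv_val]; rfl
      rw [this]
      exact hl _ (hιM k)
  have hz : 0 < Nat.card (ZG G) := Nat.card_pos
  have hG : Nat.card G = Nat.card (ZG G) * (S * T * (1 + S)) := by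
    have := card_G_eq G hZ hc hu
    rw [hOm] at this
    exact this
  have hcardeq := card_eq (prG G) (prG_surjective G) (prG_ker G)
  have hH : Nat.card ↥(G.map (pr : SL2 →* PSL2)) = S * T * (1 + S) := by
    rw [hG] at hcardeq
    exact (Nat.eq_of_mul_eq_mul_left hz hcardeq).symm
  refine ⟨n, ι, n.ne_zero, hmemG, ?_, hH⟩
  rw [Nat.card_eq_fintype_card, hcK]

/-- unipotent elements present, `t ≥ 3`: Borel or a concrete subfield subgroup -/
theorem caseII_concrete (p : ℕ) [Fact p.Prime] [CharP F p]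
    (G : Subgroup SL2) (hZ : Subgroup.center SL2 ≤ G) {c : F} (hc : c ≠ 0) (hu : u c ∈ G)
    (ht : 3 ≤ Nat.card (theta G).range) :
    ∃ r : F, (∀ g ∈ cj r G, g.1 1 0 = 0) ∨
      ∃ (n : ℕ) (ι : GaloisField p n →+* F), n ≠ 0 ∧ 4 ≤ Nat.card (GaloisField p n) ∧
        (∀ m : Matrix.SpecialLinearGroup (Fin 2) (GaloisField p n),
          psi ι (Units.mk0 c hc) m ∈ cj r G) ∧
        (Nat.card ↥((cj r G).map (pr : SL2 →* PSL2)) =
            Nat.card (GaloisField p n) * (Nat.card (GaloisField p n) ^ 2 - 1) ∨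
          2 * Nat.card ↥((cj r G).map (pr : SL2 →* PSL2)) =
            Nat.card (GaloisField p n) * (Nat.card (GaloisField p n) ^ 2 - 1)) := by
  classical
  have hcyc : IsCyclic (del G).range := inferInstance
  obtain ⟨⟨e0, he0m⟩, hgen0⟩ := IsCyclic.exists_generator (α := (del G).range)
  have hgen : ∀ e ∈ (del G).range, e ∈ Subgroup.zpowers e0 := by
    intro e he
    obtain ⟨k, hk⟩ := Subgroup.mem_zpowers_iff.1 (hgen0 ⟨e, he⟩)
    rw [Subgroup.mem_zpowers_iff]
    refine ⟨k, ?_⟩
    have := congrArg Subtype.val hk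
    simpa using this
  have he0 : ((e0 : F)) ^ 2 ≠ 1 := by
    intro h
    have h' : e0 ^ 2 = 1 := Units.ext (by push_cast; exact h)
    have hbot : (theta G).range = ⊥ := by
      rw [eq_bot_iff]
      rintro _ ⟨g, rfl⟩
      rw [Subgroup.mem_bot]
      show (del G g) ^ 2 = 1
      obtain ⟨k, hk⟩ := Subgroup.mem_zpowers_iff.1 (hgen _ ⟨g, rfl⟩)
      rw [← hk, ← zpow_natCast, ← _root_.zpow_mul, mul_comm, _root_.zpow_mul, zpow_natCast, h',
        _root_.one_zpow]
    rw [hbot, Subgroup.card_bot] at ht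
    omega
  obtain ⟨y, hy, h10, h00⟩ := (mem_range_del G e0).1 he0m
  obtain ⟨r, hr⟩ := exists_conj_dg y h10 e0 h00 he0
  have hZ' := center_le_cj r G hZ
  have hu' := u_mem_cj r G hu
  have hd' : dg e0 ∈ cj r G := by
    rw [← hr]
    exact ⟨y, hy, rfl⟩
  have hrange := range_del_cj r G
  have hgen' : ∀ e ∈ (del (cj r G)).range, e ∈ Subgroup.zpowers e0 := by
    rw [hrange]; exact hgen
  have hmem' : e0 ∈ (del (cj r G)).range := by rw [hrange]; exact he0m
  have ht' : 3 ≤ Nat.card (theta (cj r G)).range := by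
    have h1 := card_range_del G hZ hc hu
    have h2 := card_range_del (cj r G) hZ' hc hu'
    rw [hrange, h1] at h2
    have hz : 0 < Nat.card (Subgroup.center SL2) := Nat.card_pos
    have := Nat.eq_of_mul_eq_mul_left hz h2
    omega
  refine ⟨r, ?_⟩
  rcases caseII_big p (cj r G) hZ' hc hu' e0 he0 hd' hgen' hmem' ht' with hB | ⟨hOm, h0, hor⟩
  · exact Or.inl hB
  · right
    obtain ⟨n, ι, hn, hmem, hcK, hcard⟩ :=
      generic_concrete p (cj r G) hZ' hc hu' ht' hOm h0 hor
    have h4 : 4 ≤ Nat.card (A (cj r G)) := by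
      have h1 := card_range_theta_dvd' (cj r G)
      have h2 : 2 ≤ Nat.card (A (cj r G)) := by
        have h3 := p_dvd_card_A p (A (cj r G)) hc hu'
        have := Nat.le_of_dvd Nat.card_pos h3
        have := (Fact.out : p.Prime).two_le
        omega
      have := Nat.le_of_dvd (by omega) h1
      omega
    refine ⟨n, ι, hn, by rw [hcK]; exact h4, hmem, ?_⟩
    rw [hcK, hcard]
    set S := Nat.card (A (cj r G)) with hS
    set T := Nat.card (theta (cj r G)).range with hT
    have hSpos : 0 < S := Nat.card_pos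
    have hS2 : S ^ 2 - 1 = (S - 1) * (S + 1) := by
      obtain ⟨r', hr'⟩ : ∃ r', S = r' + 1 := ⟨S - 1, by omega⟩
      rw [hr', Nat.add_sub_cancel]
      have : (r' + 1) ^ 2 = r' * (r' + 1 + 1) + 1 := by ring
      rw [this, Nat.add_sub_cancel]
    rcases hor with hor | hor
    · left
      rw [hS2, hor]; ring
    · right
      rw [hS2, ← hor]; ring

end Cfsg.Agent.H9.DicksonUN
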