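import Mathlib
import Cfsg.Agent.H9.DicksonMain

set_option autoImplicit false

/-! Tools for maximality proofs in `PSL₂(q)` via Dickson's theorem. -/

namespace Cfsg.Agent.H9.DicksonMax

open Matrix
open Cfsg.Agent.H9.AutPSL2
open Cfsg.Agent.H9.DicksonUN (conj_u_10 pow_p_of_trace)

universe u

section general

variable {X : Type*} [Group X]

/-- a subgroup all of whose proper overgroups have the same order is maximal -/
theorem isCoatom_of [Finite X] (H0 : Subgroup X) (hne : H0 ≠ ⊤)
    (h : ∀ L : Subgroup X, H0 ≤ L → L ≠ ⊤ → Nat.card L = Nat.card H0) : IsCoatom H0 := by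
  refine ⟨hne, ?_⟩
  intro b hb
  by_contra hbt
  have hc := h b hb.le hbt
  have := Subgroup.eq_of_le_of_card_ge hb.le (le_of_eq hc)
  exact hb.ne this

/-- a group with two non-commuting elements does not embed in a cyclic group -/
theorem no_cyclic {Y : Type*} [Group Y] [IsCyclic Y] (x y : X) (hxy : x * y ≠ y * x)
    (f : X →* Y) (hf : Function.Injective f) : False := by
  apply hxy
  apply hf
  rw [map_mul, map_mul]
  obtain ⟨g, hg⟩ := IsCyclic.exists_generator (α := Y)
  obtain ⟨a, ha⟩ := Subgroup.mem_zpowers_iff.1 (hg (f x))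
  obtain ⟨b, hb⟩ := Subgroup.mem_zpowers_iff.1 (hg (f y))
  rw [← ha, ← hb, ← _root_.zpow_add, ← _root_.zpow_add, add_comm]

/-- a group with two non-commuting elements of order more than two does not embed in a dihedral
group -/
theorem no_dihedral (x y : X) (hx : 2 < orderOf x) (hy : 2 < orderOf y) (hxy : x * y ≠ y * x)
    {k : ℕ} (f : X →* DihedralGroup k) (hf : Function.Injective f) : False := by
  have ox : orderOf (f x) = orderOf x := orderOf_injective f hf x
  have oy : orderOf (f y) = orderOf y := orderOf_injective f hf y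
  apply hxy
  apply hf
  rw [map_mul, map_mul]
  rcases hfx : f x with i | i
  · rcases hfy : f y with j | j
    · show DihedralGroup.r i * DihedralGroup.r j = DihedralGroup.r j * DihedralGroup.r i
      rw [DihedralGroup.r_mul_r, DihedralGroup.r_mul_r, add_comm]
    · rw [hfy, DihedralGroup.orderOf_sr] at oy
      omega
  · rw [hfx, DihedralGroup.orderOf_sr] at ox
    omega

end general

section borel

variable {F : Type u} [Field F] [Fintype F]

local notation "SL2" => Matrix.SpecialLinearGroup (Fin 2) F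
local notation "PSL2" => Matrix.ProjectiveSpecialLinearGroup (Fin 2) F

/-- images of upper triangular matrices -/
def UT (z : PSL2) : Prop := ∃ m : SL2, m.1 1 0 = 0 ∧ pr m = z

theorem UT_of_normalizes (w : PSL2)
    (h : ∀ a ∈ (uHom : Multiplicative F →* PSL2).range,
      w * a * w⁻¹ ∈ (uHom : Multiplicative F →* PSL2).range) : UT w := by
  obtain ⟨m, rfl⟩ := pr_surjective w
  refine ⟨m, ?_, rfl⟩
  have h1 := h (pr (u 1)) ((mem_uHom_range _).2 ⟨1, rfl⟩)
  obtain ⟨b, hb⟩ := (mem_uHom_range _).1 h1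
  rw [← map_inv, ← map_mul, ← map_mul, pr_eq_iff] at hb
  have h10 : (m * u 1 * m⁻¹).1 1 0 = 0 := by
    rcases hb with hb | hb
    · rw [hb]; simp
    · rw [hb]; simp
  rw [conj_u_10] at h10
  have : (m.1 1 0) ^ 2 = 0 := by linear_combination -h10
  exact pow_eq_zero_iff (two_ne_zero) |>.1 this

omit [Fintype F] in
/-- commutators of upper triangular elements are unipotent -/
theorem comm_UT (w w' : PSL2) (hw : UT w) (hw' : UT w') :
    ∃ β : F, w * w' * w⁻¹ * w'⁻¹ = pr (u β) := by
  obtain ⟨m, hm, rfl⟩ := hw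
  obtain ⟨m', hm', rfl⟩ := hw'
  refine ⟨(m * m' * m⁻¹ * m'⁻¹).1 0 1, ?_⟩
  rw [← map_inv, ← map_inv, ← map_mul, ← map_mul, ← map_mul]
  congr 1
  have d := det_eq m
  have d' := det_eq m'
  rw [hm, mul_zero, sub_zero] at d
  rw [hm', mul_zero, sub_zero] at d'
  apply ext4
  · simp only [mul_00, mul_10, inv_00, inv_10, inv_01, inv_11, hm, hm', u_00]
    linear_combination (m.1 0 0 * m.1 1 1) * d' + d
  · simp
  · simp only [mul_10, mul_11, mul_00, inv_00, inv_10, inv_01, inv_11, hm, hm', u_10]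
    ring
  · simp only [mul_11, mul_10, mul_01, inv_00, inv_10, inv_01, inv_11, hm, hm', u_11]
    linear_combination (m.1 0 0 * m.1 1 1) * d' + d

omit [Fintype F] in
/-- upper triangular `p`-elements are unipotent -/
theorem unip_of_UT (p : ℕ) [Fact p.Prime] [CharP F p] (w : PSL2) (hw : UT w) (k : ℕ)
    (hk : w ^ (p ^ k) = 1) : ∃ β : F, w = pr (u β) := by
  obtain ⟨m, hm, rfl⟩ := hw
  rw [← map_pow, ← map_one (pr : SL2 →* PSL2), pr_eq_iff] at hk
  -- the diagonal entry of a power
  have hpow : ∀ j : ℕ, (m ^ j).1 1 0 = 0 ∧ (m ^ j).1 0 0 = (m.1 0 0) ^ j := by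
    intro j
    induction j with
    | zero => simp
    | succ j ih =>
      rw [pow_succ, mul_10, mul_00, ih.1, ih.2, hm]
      constructor
      · ring
      · ring
  have h00 : (m.1 0 0) ^ (p ^ k) = 1 ∨ (m.1 0 0) ^ (p ^ k) = -1 := by
    rcases hk with h | h
    · left; rw [← (hpow _).2, h]; simp
    · right; rw [← (hpow _).2, h]; simp
  have d := det_eq m
  rw [hm, mul_zero, sub_zero] at d
  have hm00 : m.1 0 0 = 1 ∨ m.1 0 0 = -1 := by
    rcases h00 with h | h
    · left
      have : (m.1 0 0 - 1) ^ (p ^ k) = 0 := by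
        rw [sub_pow_char_pow, h, one_pow, sub_self]
      have := pow_eq_zero_iff (pow_ne_zero k (Fact.out : p.Prime).ne_zero) |>.1 this
      linear_combination this
    · right
      have : (m.1 0 0 + 1) ^ (p ^ k) = 0 := by
        rw [add_pow_char_pow, h, one_pow]; ring
      have := pow_eq_zero_iff (pow_ne_zero k (Fact.out : p.Prime).ne_zero) |>.1 this
      linear_combination this
  rcases hm00 with h | h
  · refine ⟨m.1 0 1, ?_⟩
    congr 1
    have h11 : m.1 1 1 = 1 := by rw [h, one_mul] at d; exact d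
    apply ext4 <;> simp [h, hm, h11]
  · refine ⟨-m.1 0 1, ?_⟩
    rw [pr_eq_iff]
    right
    have h11 : m.1 1 1 = -1 := by rw [h] at d; linear_combination -d
    apply ext4 <;> simp [h, hm, h11]

omit [Fintype F] in
theorem pr_u_comm (β β' : F) : pr (u β) * pr (u β') = (pr (u β') * pr (u β) : PSL2) := by
  rw [← map_mul, ← map_mul, ← u_add, ← u_add, add_comm]

omit [Fintype F] in
theorem pr_u_pow (p : ℕ) [Fact p.Prime] [CharP F p] (β : F) : (pr (u β) : PSL2) ^ p = 1 := by
  rw [← map_pow, pow_p_of_trace p (u β) (by rw [Matrix.trace_fin_two, u_00, u_11]; norm_num),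
    map_one]

/-- conjugating the normalizer of a Sylow `p`-subgroup into the upper triangular group -/
theorem exists_conj_UT (p : ℕ) [Fact p.Prime] [CharP F p] (P : Sylow p PSL2) :
    ∃ g : PSL2, ∀ z ∈ Subgroup.normalizer ((P : Subgroup PSL2) : Set PSL2), UT (g⁻¹ * z * g) := by
  have hfac := factorization_card (F := F) p
  have hU' : Nat.card (uHom : Multiplicative F →* PSL2).range
      = p ^ (Nat.card PSL2).factorization p := by rw [card_uHom_range, ← hfac]
  obtain ⟨g, hg⟩ := MulAction.exists_smul_eq PSL2 (Sylow.ofCard _ hU') P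
  have hg' := congrArg (fun S : Sylow p PSL2 => (S : Subgroup PSL2)) hg
  simp only [Sylow.coe_subgroup_smul, Sylow.coe_ofCard] at hg'
  -- `P = g P₀ g⁻¹`
  have hP : ∀ a : PSL2, a ∈ (P : Subgroup PSL2) ↔
      g⁻¹ * a * g ∈ (uHom : Multiplicative F →* PSL2).range := by
    intro a
    rw [← hg', Subgroup.mem_pointwise_smul_iff_inv_smul_mem, MulAut.smul_def, ← map_inv,
      MulAut.conj_apply, inv_inv]
  refine ⟨g, fun z hz => ?_⟩
  apply UT_of_normalizes
  intro a ha
  have h1 : g * a * g⁻¹ ∈ (P : Subgroup PSL2) := by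
    rw [hP]
    convert ha using 1
    group
  have h2 := (Subgroup.mem_normalizer_iff.1 hz _).1 h1
  rw [hP] at h2
  convert h2 using 1
  group

/-- `p`-elements of the normalizer of a Sylow `p`-subgroup commute -/
theorem p_elements_commute (p : ℕ) [Fact p.Prime] [CharP F p] (P : Sylow p PSL2) (z z' : PSL2)
    (hz : z ∈ Subgroup.normalizer ((P : Subgroup PSL2) : Set PSL2))
    (hz' : z' ∈ Subgroup.normalizer ((P : Subgroup PSL2) : Set PSL2))
    (k k' : ℕ) (hk : z ^ (p ^ k) = 1) (hk' : z' ^ (p ^ k') = 1) : z * z' = z' * z := by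
  obtain ⟨g, hg⟩ := exists_conj_UT p P
  have e1 : (g⁻¹ * z * g) ^ (p ^ k) = 1 := by
    have : g⁻¹ * z * g = g⁻¹ * z * g⁻¹⁻¹ := by rw [inv_inv]
    rw [this, conj_pow, hk]; group
  have e2 : (g⁻¹ * z' * g) ^ (p ^ k') = 1 := by
    have : g⁻¹ * z' * g = g⁻¹ * z' * g⁻¹⁻¹ := by rw [inv_inv]
    rw [this, conj_pow, hk']; group
  obtain ⟨β, hβ⟩ := unip_of_UT p _ (hg z hz) k e1
  obtain ⟨β', hβ'⟩ := unip_of_UT p _ (hg z' hz') k' e2
  have := pr_u_comm β β'
  rw [← hβ, ← hβ'] at this
  calc z * z' = g * ((g⁻¹ * z * g) * (g⁻¹ * z' * g)) * g⁻¹ := by group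
    _ = g * ((g⁻¹ * z' * g) * (g⁻¹ * z * g)) * g⁻¹ := by rw [this]
    _ = z' * z := by group

/-- commutators in the normalizer of a Sylow `p`-subgroup are `p`-elements -/
theorem comm_pow_p (p : ℕ) [Fact p.Prime] [CharP F p] (P : Sylow p PSL2) (z z' : PSL2)
    (hz : z ∈ Subgroup.normalizer ((P : Subgroup PSL2) : Set PSL2))
    (hz' : z' ∈ Subgroup.normalizer ((P : Subgroup PSL2) : Set PSL2)) :
    (z * z' * z⁻¹ * z'⁻¹) ^ p = 1 := by
  obtain ⟨g, hg⟩ := exists_conj_UT p P
  obtain ⟨β, hβ⟩ := comm_UT _ _ (hg z hz) (hg z' hz')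
  have e : z * z' * z⁻¹ * z'⁻¹ =
      g * ((g⁻¹ * z * g) * (g⁻¹ * z' * g) * (g⁻¹ * z * g)⁻¹ * (g⁻¹ * z' * g)⁻¹) * g⁻¹ := by group
  rw [e, hβ, conj_pow, pr_u_pow]
  group

end borel

end Cfsg.Agent.H9.DicksonMax
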