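import Mathlib
import Cfsg.Agent.H9.DicksonMax

set_option autoImplicit false

/-! More tools for maximality proofs: orders, witnesses and the Borel case. -/

namespace Cfsg.Agent.H9.DicksonMax

open Matrix Equiv
open Cfsg.Agent.H9.AutPSL2
open Cfsg.Agent.H9.DicksonConcl

universe u v

/-- the order of `PSL₂(K)` -/
theorem card_PSL2_mul (K : Type v) [Field K] [Fintype K] :
    Nat.card (Matrix.ProjectiveSpecialLinearGroup (Fin 2) K) * Nat.gcd 2 (Fintype.card K - 1) =
      Fintype.card K * (Fintype.card K ^ 2 - 1) := by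
  have h := Subgroup.card_eq_card_quotient_mul_card_subgroup
    (Subgroup.center (Matrix.SpecialLinearGroup (Fin 2) K))
  rw [Cfsg.Agent.H9.SubfieldPSL2.card_SL2_all, card_center] at h
  exact h.symm

/-- three-cycles in `S₄` -/
def s4a : Perm (Fin 4) := c[0, 1, 2]
def s4b : Perm (Fin 4) := c[0, 1, 3]

theorem s4_ne : s4a * s4b ≠ s4b * s4a := by decide
theorem s4a_order : orderOf s4a = 3 := orderOf_eq_prime (by decide) (by decide)
theorem s4b_order : orderOf s4b = 3 := orderOf_eq_prime (by decide) (by decide)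

/-- three-cycles in `A₄` -/
def a4a : alternatingGroup (Fin 4) := ⟨c[0, 1, 2], Equiv.Perm.mem_alternatingGroup.2 (by decide)⟩
def a4b : alternatingGroup (Fin 4) := ⟨c[0, 1, 3], Equiv.Perm.mem_alternatingGroup.2 (by decide)⟩

theorem a4_ne : a4a * a4b ≠ a4b * a4a := by
  intro h
  have := congrArg Subtype.val h
  revert this
  decide

theorem a4a_pow : a4a ^ 3 = 1 := by
  apply Subtype.ext
  show (c[0, 1, 2] : Perm (Fin 4)) ^ 3 = 1
  decide

theorem a4b_pow : a4b ^ 3 = 1 := by
  apply Subtype.ext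
  show (c[0, 1, 3] : Perm (Fin 4)) ^ 3 = 1
  decide

theorem a4a_ne : a4a ≠ 1 := by
  intro h
  have := congrArg Subtype.val h
  revert this
  decide

theorem a4b_ne : a4b ≠ 1 := by
  intro h
  have := congrArg Subtype.val h
  revert this
  decide

theorem a4a_order : orderOf a4a = 3 := orderOf_eq_prime a4a_pow a4a_ne
theorem a4b_order : orderOf a4b = 3 := orderOf_eq_prime a4b_pow a4b_ne

/-- three-cycles in `A₅` -/
def a5a : alternatingGroup (Fin 5) := ⟨c[0, 1, 2], Equiv.Perm.mem_alternatingGroup.2 (by decide)⟩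
def a5b : alternatingGroup (Fin 5) := ⟨c[0, 1, 3], Equiv.Perm.mem_alternatingGroup.2 (by decide)⟩

theorem a5_ne : a5a * a5b ≠ a5b * a5a := by
  intro h
  have := congrArg Subtype.val h
  revert this
  decide

theorem a5a_pow : a5a ^ 3 = 1 := by
  apply Subtype.ext
  show (c[0, 1, 2] : Perm (Fin 5)) ^ 3 = 1
  decide

theorem a5b_pow : a5b ^ 3 = 1 := by
  apply Subtype.ext
  show (c[0, 1, 3] : Perm (Fin 5)) ^ 3 = 1
  decide

theorem a5a_ne : a5a ≠ 1 := by
  intro h
  have := congrArg Subtype.val h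
  revert this
  decide

theorem a5b_ne : a5b ≠ 1 := by
  intro h
  have := congrArg Subtype.val h
  revert this
  decide

theorem a5a_order : orderOf a5a = 3 := orderOf_eq_prime a5a_pow a5a_ne
theorem a5b_order : orderOf a5b = 3 := orderOf_eq_prime a5b_pow a5b_ne

section borel

variable {F : Type u} [Field F] [Fintype F]

local notation "SL2" => Matrix.SpecialLinearGroup (Fin 2) F
local notation "PSL2" => Matrix.ProjectiveSpecialLinearGroup (Fin 2) F

/-- a group of order prime to `p` with two non-commuting elements does not embed in the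
normalizer of a Sylow `p`-subgroup -/
theorem no_borel (p : ℕ) [Fact p.Prime] [CharP F p] {X : Type*} [Group X] [Finite X]
    (hp : ¬ p ∣ Nat.card X) (a b : X) (hab : a * b ≠ b * a) (φ : X →* PSL2)
    (hφ : Function.Injective φ) (P : Sylow p PSL2)
    (hN : ∀ x, φ x ∈ Subgroup.normalizer ((P : Subgroup PSL2) : Set PSL2)) : False := by
  have h1 := comm_pow_p p P (φ a) (φ b) (hN a) (hN b)
  have h2 : (a * b * a⁻¹ * b⁻¹) ^ p = 1 := by
    apply hφ
    rw [map_pow, map_mul, map_mul, map_mul, map_inv, map_inv, h1, map_one]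
  have h3 : orderOf (a * b * a⁻¹ * b⁻¹) ∣ p := orderOf_dvd_of_pow_eq_one h2
  have h4 : orderOf (a * b * a⁻¹ * b⁻¹) ∣ Nat.card X := orderOf_dvd_natCard _
  rcases (Nat.dvd_prime (Fact.out : p.Prime)).1 h3 with h | h
  · apply hab
    have := orderOf_eq_one_iff.1 h
    calc a * b = (a * b * a⁻¹ * b⁻¹) * (b * a) := by group
      _ = b * a := by rw [this, one_mul]
  · rw [h] at h4
    exact hp h4

/-- a group with two non-commuting `p`-elements does not embed in the normalizer of a Sylow
`p`-subgroup -/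
theorem no_borel' (p : ℕ) [Fact p.Prime] [CharP F p] {X : Type*} [Group X]
    (a b : X) (k k' : ℕ) (ha : a ^ (p ^ k) = 1) (hb : b ^ (p ^ k') = 1)
    (hab : a * b ≠ b * a) (φ : X →* PSL2)
    (hφ : Function.Injective φ) (P : Sylow p PSL2)
    (hN : ∀ x, φ x ∈ Subgroup.normalizer ((P : Subgroup PSL2) : Set PSL2)) : False := by
  apply hab
  apply hφ
  rw [map_mul, map_mul]
  apply p_elements_commute p P _ _ (hN a) (hN b) k k'
  · rw [← map_pow, ha, map_one]
  · rw [← map_pow, hb, map_one]

end borel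

end Cfsg.Agent.H9.DicksonMax
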