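import Mathlib
import Cfsg.Agent.H9.DicksonMax2

set_option autoImplicit false

/-! Tools for the maximality of subfield subgroups of `PSL₂(q)`. -/

namespace Cfsg.Agent.H9.DicksonMax

open Matrix
open Cfsg.Agent.H9.AutPSL2
open Cfsg.Agent.H9.DicksonConcl
open Cfsg.Agent.H9.DicksonIso
open Cfsg.Agent.H9.DicksonUN (pow_p_of_trace)

universe u v

section nt

/-- the exponent of a subfield-type overgroup -/
theorem sub_exponent (p k j : ℕ) (hp : p.Prime) (hk : 1 ≤ k) (hj : 1 ≤ j)
    (h : p ^ k * ((p ^ k) ^ 2 - 1) ∣ 2 * (p ^ j * ((p ^ j) ^ 2 - 1))) : k ∣ j := by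
  have hp2 := hp.two_le
  have e1 : (p ^ k) ^ 2 = p ^ (2 * k) := by rw [← pow_mul, mul_comm]
  have e2 : (p ^ j) ^ 2 = p ^ (2 * j) := by rw [← pow_mul, mul_comm]
  rw [e1, e2] at h
  set D := p ^ (2 * k) - 1 with hD
  set N := p ^ (2 * j) - 1 with hN
  have hDpos : 0 < D := by
    have : 2 ^ (2 * k) ≤ p ^ (2 * k) := Nat.pow_le_pow_left hp2 _
    have h4 : 2 ^ 1 ≤ 2 ^ (2 * k) := Nat.pow_le_pow_right (by norm_num) (by omega)
    omega
  -- `D` is coprime to `p ^ j`
  have hcop : Nat.Coprime D (p ^ j) := by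
    apply Nat.Coprime.pow_right
    rw [Nat.coprime_comm, Nat.Prime.coprime_iff_not_dvd hp]
    intro hd
    have h1 : p ∣ p ^ (2 * k) := dvd_pow_self p (by omega)
    have h2 : 1 ≤ p ^ (2 * k) := Nat.one_le_pow _ _ (by omega)
    have : p ∣ 1 := by
      have := (Nat.dvd_sub h1 hd)
      rwa [hD, Nat.sub_sub_self h2] at this
    exact hp.one_lt.ne' (Nat.dvd_one.1 this)
  have h1 : D ∣ 2 * (p ^ j * N) := (dvd_mul_left D (p ^ k)).trans h
  have h2 : D ∣ 2 * N := by
    have : 2 * (p ^ j * N) = (2 * N) * p ^ j := by ring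
    rw [this] at h1
    exact hcop.dvd_of_dvd_mul_right h1
  -- the gcd
  have h3 : D ∣ 2 * Nat.gcd D N := by
    rw [← Nat.gcd_mul_left]
    exact Nat.dvd_gcd (dvd_mul_left D 2) h2
  rw [hD, hN, Nat.pow_sub_one_gcd_pow_sub_one] at h3
  set g := Nat.gcd (2 * k) (2 * j) with hg
  have hg2 : g = 2 * Nat.gcd k j := Nat.gcd_mul_left 2 k j
  have hgk : g ∣ 2 * k := Nat.gcd_dvd_left _ _
  by_cases hgeq : g = 2 * k
  · have : 2 * k ∣ 2 * j := by rw [← hgeq]; exact Nat.gcd_dvd_right _ _
    exact Nat.dvd_of_mul_dvd_mul_left (by norm_num) this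
  · exfalso
    -- `g ≤ k`
    have hgle : g ≤ k := by
      obtain ⟨c, hc⟩ := hgk
      have hgpos : 0 < g := by
        rw [hg2]
        have := Nat.gcd_pos_of_pos_left j hk
        omega
      have hc2 : 2 ≤ c := by
        rcases Nat.lt_or_ge c 2 with h | h
        · interval_cases c
          · omega
          · exfalso; apply hgeq; omega
        · exact h
      have : g * 2 ≤ g * c := Nat.mul_le_mul_left g hc2
      omega
    have hgpos : 1 ≤ g := by
      rw [hg2]
      have := Nat.gcd_pos_of_pos_left j hk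
      omega
    have h5 : p ^ g ≤ p ^ k := Nat.pow_le_pow_right (by omega) hgle
    have h6 : p ^ 1 ≤ p ^ g := Nat.pow_le_pow_right (by omega) hgpos
    have h7 : p ^ (2 * k) = p ^ k * p ^ k := by rw [two_mul, pow_add]
    have hpos : 0 < 2 * (p ^ g - 1) := by
      rw [pow_one] at h6
      omega
    have hle := Nat.le_of_dvd hpos h3
    have h8 : 2 * p ^ k ≤ p ^ k * p ^ k := by
      have : 2 ≤ p ^ k := by
        have : p ^ 1 ≤ p ^ k := Nat.pow_le_pow_right (by omega) hk
        rw [pow_one] at this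
        omega
      exact Nat.mul_le_mul_right _ this
    omega

/-- the size of the field of a subfield-type overgroup -/
theorem sub_size (p k j m r : ℕ) (hp : p.Prime) (hk : 1 ≤ k) (hr : r.Prime) (hkj : k ∣ j)
    (h : (p ^ j) ^ m = (p ^ k) ^ r) : (p ^ j = p ^ k ∧ m = r) ∨ (p ^ j = (p ^ k) ^ r ∧ m = 1) := by
  rw [← pow_mul, ← pow_mul] at h
  have h1 : j * m = k * r := Nat.pow_right_injective hp.two_le h
  obtain ⟨i, rfl⟩ := hkj
  have h2 : i * m = r := by
    have : k * (i * m) = k * r := by rw [← h1]; ring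
    exact Nat.eq_of_mul_eq_mul_left (by omega) this
  have hi : i ∣ r := ⟨m, h2.symm⟩
  rcases (Nat.dvd_prime hr).1 hi with hi1 | hir
  · left
    rw [hi1, mul_one]
    refine ⟨rfl, ?_⟩
    rw [hi1, one_mul] at h2
    exact h2
  · right
    rw [hir, pow_mul]
    refine ⟨rfl, ?_⟩
    rw [hir] at h2
    have hrpos : 0 < r := hr.pos
    have : r * m = r * 1 := by rw [h2, mul_one]
    exact Nat.eq_of_mul_eq_mul_left hrpos this

/-- the field of a subfield-type overgroup -/
theorem sub_case_d (p k r a m : ℕ) (hp : p.Prime) (hk : 1 ≤ k) (hr : r.Prime) (ha : 1 < a)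
    (ham : a ^ m = (p ^ k) ^ r)
    (hdiv : p ^ k * ((p ^ k) ^ 2 - 1) ∣ 2 * (a * (a ^ 2 - 1))) :
    (a = p ^ k ∧ m = r) ∨ (a = (p ^ k) ^ r ∧ m = 1) := by
  have hm0 : m ≠ 0 := by
    rintro rfl
    rw [pow_zero] at ham
    have : 1 < (p ^ k) ^ r := by
      apply Nat.one_lt_pow hr.pos.ne'
      exact Nat.one_lt_pow (by omega) hp.one_lt
    omega
  have had : a ∣ p ^ (k * r) := by
    rw [pow_mul, ← ham]
    exact dvd_pow_self a hm0
  obtain ⟨j, -, rfl⟩ := (Nat.dvd_prime_pow hp).1 had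
  have hj : 1 ≤ j := by
    rcases Nat.eq_zero_or_pos j with h | h
    · rw [h, pow_zero] at ha; omega
    · exact h
  have hkj := sub_exponent p k j hp hk hj hdiv
  exact sub_size p k j m r hp hk hr hkj ham

end nt

section witnesses

variable {F : Type u} [Field F]

local notation "SL2" => Matrix.SpecialLinearGroup (Fin 2) F
local notation "PSL2" => Matrix.ProjectiveSpecialLinearGroup (Fin 2) F

theorem pr_u_l_ne : (pr (u 1) * pr (l 1) : PSL2) ≠ pr (l 1) * pr (u 1) := by
  intro h
  rw [← map_mul, ← map_mul, pr_eq_iff] at h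
  rcases h with h | h
  · have := congrArg (fun g : SL2 => g.1 0 0) h
    simp [mul_00] at this
  · have e01 : (u 1 * l 1 : SL2).1 0 1 = (-(l 1 * u 1) : SL2).1 0 1 := by rw [h]
    have e00 : (u 1 * l 1 : SL2).1 0 0 = (-(l 1 * u 1) : SL2).1 0 0 := by rw [h]
    rw [neg_01, mul_01, mul_01] at e01
    rw [neg_00, mul_00, mul_00] at e00
    simp only [u_00, u_01, u_10, u_11, l_00, l_01, l_10, l_11] at e01 e00
    have h2 : (2 : F) = 0 := by linear_combination e01
    have : (1 : F) = 0 := by linear_combination e00 - h2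
    exact one_ne_zero this

theorem pr_u_ne_one : (pr (u 1) : PSL2) ≠ 1 := by
  intro h
  rw [← map_one (pr : SL2 →* PSL2), pr_eq_iff] at h
  rcases h with h | h
  · have := congrArg (fun g : SL2 => g.1 0 1) h
    simp at this
  · have := congrArg (fun g : SL2 => g.1 0 1) h
    simp at this

theorem pr_l_ne_one : (pr (l 1) : PSL2) ≠ 1 := by
  intro h
  rw [← map_one (pr : SL2 →* PSL2), pr_eq_iff] at h
  rcases h with h | h
  · have := congrArg (fun g : SL2 => g.1 1 0) h
    simp at this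
  · have := congrArg (fun g : SL2 => g.1 1 0) h
    simp at this

theorem pr_l_pow (p : ℕ) [Fact p.Prime] [CharP F p] : (pr (l 1) : PSL2) ^ p = 1 := by
  rw [← map_pow, pow_p_of_trace p (l 1) (by rw [Matrix.trace_fin_two, l_00, l_11]; norm_num),
    map_one]

theorem orderOf_pr_u (p : ℕ) [Fact p.Prime] [CharP F p] : orderOf (pr (u 1) : PSL2) = p :=
  orderOf_eq_prime (pr_u_pow p 1) pr_u_ne_one

theorem orderOf_pr_l (p : ℕ) [Fact p.Prime] [CharP F p] : orderOf (pr (l 1) : PSL2) = p :=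
  orderOf_eq_prime (pr_l_pow p) pr_l_ne_one

end witnesses

section standard

variable {F : Type u} [Field F] {K : Type v} [Field K]

local notation "SL2" => Matrix.SpecialLinearGroup (Fin 2) F
local notation "PSL2" => Matrix.ProjectiveSpecialLinearGroup (Fin 2) F

/-- the standard copy of `PSL₂(K)` -/
def stdPSL (ι : K →+* F) : Subgroup PSL2 := ((pr : SL2 →* PSL2).comp (psi ι 1)).range

/-- the standard copy is `PSL₂(K)` -/
noncomputable def stdPSL_equiv (ι : K →+* F) :
    stdPSL ι ≃* Matrix.ProjectiveSpecialLinearGroup (Fin 2) K :=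
  ((QuotientGroup.quotientKerEquivRange ((pr : SL2 →* PSL2).comp (psi ι 1))).symm).trans
    (QuotientGroup.quotientMulEquivOfEq (ker_pr_psi ι 1))

theorem u_mem_stdPSL (ι : K →+* F) : (pr (u 1) : PSL2) ∈ stdPSL ι := by
  refine ⟨u 1, ?_⟩
  show pr (psi ι 1 (u 1)) = _
  rw [psi_u]
  simp

theorem l_mem_stdPSL (ι : K →+* F) : (pr (l 1) : PSL2) ∈ stdPSL ι := by
  refine ⟨l 1, ?_⟩
  show pr (psi ι 1 (l 1)) = _
  rw [psi_l]
  simp

end standard

section overgroup

variable {F : Type u} [Field F] [Fintype F]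

local notation "SL2" => Matrix.SpecialLinearGroup (Fin 2) F
local notation "PSL2" => Matrix.ProjectiveSpecialLinearGroup (Fin 2) F

/-- a subgroup containing the standard unipotent elements is not cyclic -/
theorem not_cyclic_of_mem (L : Subgroup PSL2) (hu : pr (u 1) ∈ L) (hl : pr (l 1) ∈ L)
    (hc : IsCyclic L) : False := by
  have := hc
  apply no_cyclic (X := L) ⟨_, hu⟩ ⟨_, hl⟩ _ (MonoidHom.id L) Function.injective_id
  intro h
  exact pr_u_l_ne (congrArg Subtype.val h)

/-- a subgroup containing the standard unipotent elements is not dihedral, odd characteristic -/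
theorem not_dihedral_of_mem (p : ℕ) [Fact p.Prime] [CharP F p] (hp : p ≠ 2) (L : Subgroup PSL2)
    (hu : pr (u 1) ∈ L) (hl : pr (l 1) ∈ L) {k : ℕ} (f : L ≃* DihedralGroup k) : False := by
  have hp3 : 2 < p := by
    have := (Fact.out : p.Prime).two_le
    omega
  apply no_dihedral (X := L) ⟨_, hu⟩ ⟨_, hl⟩ _ _ _ f.toMonoidHom f.injective
  · rw [← orderOf_pr_u (F := F) p] at hp3
    rwa [Subgroup.orderOf_mk]
  · rw [← orderOf_pr_l (F := F) p] at hp3
    rwa [Subgroup.orderOf_mk]
  · intro h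
    exact pr_u_l_ne (congrArg Subtype.val h)

/-- a subgroup containing the standard unipotent elements is not of Borel type -/
theorem not_borel_of_mem (p : ℕ) [Fact p.Prime] [CharP F p] (L : Subgroup PSL2)
    (hu : pr (u 1) ∈ L) (hl : pr (l 1) ∈ L) (P : Sylow p PSL2) (K' : Subgroup PSL2)
    (hK' : K' ≤ Subgroup.normalizer ((P : Subgroup PSL2) : Set PSL2)) (f : L ≃* K') : False := by
  apply no_borel' p (X := L) ⟨_, hu⟩ ⟨_, hl⟩ 1 1 _ _ _ (K'.subtype.comp f.toMonoidHom)
    (K'.subtype_injective.comp f.injective) P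
  · intro x
    exact hK' (f x).2
  · apply Subtype.ext
    rw [pow_one]
    exact pr_u_pow p 1
  · apply Subtype.ext
    rw [pow_one]
    exact pr_l_pow p
  · intro h
    exact pr_u_l_ne (congrArg Subtype.val h)

end overgroup

end Cfsg.Agent.H9.DicksonMax
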