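import Mathlib
import Cfsg.Prelude.Def_GeometricClasses
import Cfsg.Agent.S0242

set_option autoImplicit false
set_option linter.style.haveILetI false

/-! Generic tools for the normalizer of an extraspecial group of order `27` in `GL₃`. -/

namespace Cfsg.Agent.H9.Ex27

section action

variable {G : Type*} [Group G]

/-- an element of prime order `r ≥ 5` normalizing a subgroup of order `27` and centralizing a
non-identity element of it centralizes the subgroup -/
theorem centralizes27 (R : Subgroup G) [Finite R] (hR : Nat.card R = 27) (Y : G)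
    (hY : Y ∈ Subgroup.normalizer (R : Set G)) (r : ℕ) [hr : Fact r.Prime] (hr5 : 5 ≤ r)
    (hord : orderOf Y = r) (Z : G) (hZR : Z ∈ R) (hZ1 : Z ≠ 1) (hZY : Y * Z * Y⁻¹ = Z) :
    ∀ g ∈ R, Y * g * Y⁻¹ = g := by
  have hle : Subgroup.zpowers Y ≤ Subgroup.normalizer (R : Set G) := by
    rw [Subgroup.zpowers_le]
    exact hY
  letI : MulAction ↥(Subgroup.zpowers Y) ↥R :=
    { smul := fun y g => ⟨(y : G) * g * (y : G)⁻¹,
        (Subgroup.mem_set_normalizer_iff.1 (hle y.2) g).1 g.2⟩
      one_smul := by
        intro g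
        apply Subtype.ext
        show ((1 : ↥(Subgroup.zpowers Y)) : G) * g * ((1 : ↥(Subgroup.zpowers Y)) : G)⁻¹ = g
        simp
      mul_smul := by
        intro a b g
        apply Subtype.ext
        show ((a * b : ↥(Subgroup.zpowers Y)) : G) * g * ((a * b : ↥(Subgroup.zpowers Y)) : G)⁻¹
          = (a : G) * ((b : G) * g * (b : G)⁻¹) * (a : G)⁻¹
        rw [Subgroup.coe_mul]
        group }
  have hsmul : ∀ (y : ↥(Subgroup.zpowers Y)) (g : ↥R), ((y • g : ↥R) : G) = (y : G) * g * (y : G)⁻¹ :=
    fun _ _ => rfl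
  have hp : IsPGroup r ↥(Subgroup.zpowers Y) := by
    apply IsPGroup.of_card (n := 1)
    rw [Nat.card_zpowers, hord, pow_one]
  have hmod := hp.card_modEq_card_fixedPoints ↥R
  let C : Subgroup ↥R :=
    { carrier := MulAction.fixedPoints ↥(Subgroup.zpowers Y) ↥R
      one_mem' := by
        intro y
        apply Subtype.ext
        rw [hsmul]
        simp
      mul_mem' := by
        intro a b ha hb y
        have ha' := congrArg Subtype.val (ha y)
        have hb' := congrArg Subtype.val (hb y)
        rw [hsmul] at ha' hb'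
        apply Subtype.ext
        rw [hsmul, Subgroup.coe_mul]
        calc (y : G) * ((a : G) * b) * (y : G)⁻¹
            = ((y : G) * a * (y : G)⁻¹) * ((y : G) * b * (y : G)⁻¹) := by group
          _ = (a : G) * b := by rw [ha', hb']
      inv_mem' := by
        intro a ha y
        have ha' := congrArg Subtype.val (ha y)
        rw [hsmul] at ha'
        apply Subtype.ext
        rw [hsmul, Subgroup.coe_inv]
        calc (y : G) * (a : G)⁻¹ * (y : G)⁻¹ = ((y : G) * a * (y : G)⁻¹)⁻¹ := by group
          _ = (a : G)⁻¹ := by rw [ha'] }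
  have hCcard : Nat.card C = Nat.card (MulAction.fixedPoints ↥(Subgroup.zpowers Y) ↥R) := rfl
  rw [← hCcard, hR] at hmod
  have hdvd : Nat.card C ∣ 27 := by
    rw [← hR]
    exact Subgroup.card_subgroup_dvd_card C
  have hZfix : (⟨Z, hZR⟩ : ↥R) ∈ C := by
    intro y
    apply Subtype.ext
    rw [hsmul]
    obtain ⟨k, hk⟩ := y.2
    show (y : G) * Z * (y : G)⁻¹ = Z
    rw [← hk]
    have hcomm : Commute Y Z := by
      show Y * Z = Z * Y
      calc Y * Z = (Y * Z * Y⁻¹) * Y := by group
        _ = Z * Y := by rw [hZY]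
    have := (hcomm.zpow_left k)
    calc Y ^ k * Z * (Y ^ k)⁻¹ = Z * Y ^ k * (Y ^ k)⁻¹ := by rw [this.eq]
      _ = Z := by group
  have hge : 2 ≤ Nat.card C := by
    have : Nontrivial C := by
      refine ⟨⟨⟨⟨Z, hZR⟩, hZfix⟩, 1, ?_⟩⟩
      intro h
      apply hZ1
      have := congrArg (fun c : C => ((c : ↥R) : G)) h
      simpa using this
    exact Finite.one_lt_card
  have h27 : Nat.card C = 27 := by
    have hle27 : Nat.card C ≤ 27 := Nat.le_of_dvd (by norm_num) hdvd
    have hd := (Nat.modEq_iff_dvd' hle27).1 hmod.symm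
    have hprime := hr.out
    by_contra hne
    have hdvd' : Nat.card C ∣ 3 ^ 3 := by norm_num; exact hdvd
    obtain ⟨k, hk3, hk⟩ := (Nat.dvd_prime_pow Nat.prime_three).1 hdvd'
    have hcases : Nat.card C = 3 ∨ Nat.card C = 9 := by
      interval_cases k
      · omega
      · left; rw [hk]; norm_num
      · right; rw [hk]; norm_num
      · rw [hk] at hne; norm_num at hne
    rcases hcases with h | h
    · rw [h] at hd
      have hd24 : r ∣ 24 := hd
      have h24 : (24 : ℕ) = 2 ^ 3 * 3 := by norm_num
      rw [h24] at hd24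
      rcases (Nat.Prime.dvd_mul hprime).1 hd24 with h' | h'
      · have := (Nat.prime_dvd_prime_iff_eq hprime Nat.prime_two).1 (hprime.dvd_of_dvd_pow h')
        omega
      · have := (Nat.prime_dvd_prime_iff_eq hprime Nat.prime_three).1 h'
        omega
    · rw [h] at hd
      have hd18 : r ∣ 18 := hd
      have h18 : (18 : ℕ) = 2 * 3 ^ 2 := by norm_num
      rw [h18] at hd18
      rcases (Nat.Prime.dvd_mul hprime).1 hd18 with h' | h'
      · have := (Nat.prime_dvd_prime_iff_eq hprime Nat.prime_two).1 h'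
        omega
      · have := (Nat.prime_dvd_prime_iff_eq hprime Nat.prime_three).1 (hprime.dvd_of_dvd_pow h')
        omega
  have htop : C = ⊤ := by
    apply Subgroup.eq_top_of_card_eq
    rw [h27, hR]
  intro g hg
  have hgC : (⟨g, hg⟩ : ↥R) ∈ C := by rw [htop]; exact Subgroup.mem_top _
  have := congrArg Subtype.val (hgC ⟨Y, Subgroup.mem_zpowers Y⟩)
  rw [hsmul] at this
  exact this

/-- in a group of order `p³`, commutators are central -/
theorem comm_mem_center_of_card_cube {H : Type*} [Group H] (p : ℕ) [hp : Fact p.Prime]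
    (hH : Nat.card H = p ^ 3) (a b : H) : a * b * a⁻¹ * b⁻¹ ∈ Subgroup.center H := by
  classical
  haveI : Finite H := Nat.finite_of_card_ne_zero (by rw [hH]; exact pow_ne_zero _ hp.out.ne_zero)
  by_cases hcomm : ∀ x y : H, x * y = y * x
  · have : a * b * a⁻¹ * b⁻¹ = 1 := by rw [hcomm a b]; group
    rw [this]; exact one_mem _
  have hpG : IsPGroup p H := IsPGroup.of_card hH
  haveI : Nontrivial H := by
    rw [← Finite.one_lt_card_iff_nontrivial, hH]
    exact Nat.one_lt_pow (by norm_num) hp.out.one_lt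
  haveI := hpG.center_nontrivial
  have hZdvd : Nat.card (Subgroup.center H) ∣ p ^ 3 := by
    rw [← hH]; exact Subgroup.card_subgroup_dvd_card _
  obtain ⟨k, hk3, hk⟩ := (Nat.dvd_prime_pow hp.out).1 hZdvd
  have hidx : Nat.card (H ⧸ Subgroup.center H) * p ^ k = p ^ 3 := by
    rw [← hk, ← hH]
    exact (Subgroup.card_eq_card_quotient_mul_card_subgroup (Subgroup.center H)).symm
  have hZ1 : 1 < Nat.card (Subgroup.center H) := Finite.one_lt_card
  have hkpos : k ≠ 0 := by
    rintro rfl
    rw [hk, pow_zero] at hZ1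
    exact lt_irrefl _ hZ1
  have hquot : ∀ x y : H ⧸ Subgroup.center H, x * y = y * x := by
    have hk' : k = 1 ∨ k = 2 ∨ k = 3 := by omega
    rcases hk' with rfl | rfl | rfl
    · have hq : Nat.card (H ⧸ Subgroup.center H) = p ^ 2 := by
        have : Nat.card (H ⧸ Subgroup.center H) * p ^ 1 = p ^ 2 * p ^ 1 := by
          rw [hidx]; ring
        exact Nat.eq_of_mul_eq_mul_right (pow_pos hp.out.pos 1) this
      exact isMulCommutative_iff.1 (IsPGroup.isMulCommutative_of_card_eq_prime_sq hq)
    · exfalso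
      have hq : Nat.card (H ⧸ Subgroup.center H) = p := by
        have : Nat.card (H ⧸ Subgroup.center H) * p ^ 2 = p * p ^ 2 := by
          rw [hidx]; ring
        exact Nat.eq_of_mul_eq_mul_right (pow_pos hp.out.pos 2) this
      haveI : IsCyclic (H ⧸ Subgroup.center H) := isCyclic_of_prime_card hq
      apply hcomm
      exact isMulCommutative_iff.1 (MonoidHom.isMulCommutative_of_isCyclic_of_ker_le_center
        (QuotientGroup.mk' (Subgroup.center H)) (by rw [QuotientGroup.ker_mk']))
    · exfalso
      apply hcomm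
      have htop : Subgroup.center H = ⊤ := by
        apply Subgroup.eq_top_of_card_eq
        rw [hk, hH]
      intro x y
      have : y ∈ Subgroup.center H := by rw [htop]; exact Subgroup.mem_top _
      exact Subgroup.mem_center_iff.1 this x
  apply (QuotientGroup.eq_one_iff _).1
  rw [QuotientGroup.mk_mul, QuotientGroup.mk_mul, QuotientGroup.mk_mul, QuotientGroup.mk_inv,
    QuotientGroup.mk_inv, hquot (a : H ⧸ Subgroup.center H) b]
  group

end action

section card

open Matrix

variable {ι : Type} [Fintype ι] [DecidableEq ι] {F : Type*} [Field F]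

theorem mem_specialLinear (X : GL ι F) :
    X ∈ Cfsg.Geo.specialLinear ι F ↔ (X : Matrix ι ι F).det = 1 := by
  unfold Cfsg.Geo.specialLinear
  rw [MonoidHom.mem_ker]
  constructor
  · intro h
    have := congrArg Units.val h
    rwa [Matrix.GeneralLinearGroup.val_det_apply] at this
  · intro h
    apply Units.ext
    rw [Matrix.GeneralLinearGroup.val_det_apply]
    exact h

theorem card_specialLinear :
    Nat.card (Cfsg.Geo.specialLinear ι F) = Nat.card (Matrix.SpecialLinearGroup ι F) := by
  have hrange : (Matrix.SpecialLinearGroup.toGL : Matrix.SpecialLinearGroup ι F →* GL ι F).range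
      = Cfsg.Geo.specialLinear ι F := by
    ext X
    rw [mem_specialLinear, MonoidHom.mem_range]
    constructor
    · rintro ⟨x, rfl⟩
      exact x.2
    · intro h
      refine ⟨⟨(X : Matrix ι ι F), h⟩, ?_⟩
      apply Units.ext
      rfl
  have hinj : Function.Injective
      (Matrix.SpecialLinearGroup.toGL : Matrix.SpecialLinearGroup ι F →* GL ι F) := by
    intro x y h
    apply Subtype.ext
    have := congrArg (fun u : GL ι F => (u : Matrix ι ι F)) h
    simpa using this
  rw [← hrange]
  exact (Nat.card_congr (MonoidHom.ofInjective hinj).toEquiv).symm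

end card

section arith

variable {F : Type*} [Field F] [Fintype F]

set_option maxRecDepth 100000 in
theorem not_81_dvd_card_sl3 {q : ℕ} (hq : Fintype.card F = q) (hcase : q % 9 = 4 ∨ q % 9 = 7) :
    ¬ 81 ∣ Nat.card (Cfsg.Geo.specialLinear (Fin 3) F) := by
  intro h81
  rw [card_specialLinear] at h81
  have hq2 : 2 ≤ q := by rw [← hq]; exact Fintype.one_lt_card
  have h1 := Cfsg.Agent.S0242.result hq 3 (by norm_num)
  have h3q : 3 ∣ q - 1 := by omega
  have h2 : 243 ∣ ∏ i : Fin 3, (q ^ 3 - q ^ (i : ℕ)) := by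
    rw [← h1]
    have : (243 : ℕ) = 3 * 81 := by norm_num
    rw [this]
    exact Nat.mul_dvd_mul h3q h81
  rw [Fin.prod_univ_three] at h2
  simp only [Fin.val_zero, Fin.val_one, Fin.val_two, pow_zero, pow_one] at h2
  have hle1 : 1 ≤ q ^ 3 := Nat.one_le_pow _ _ (by omega)
  have hle2 : q ≤ q ^ 3 := by
    calc q = q ^ 1 := (pow_one q).symm
      _ ≤ q ^ 3 := Nat.pow_le_pow_right (by omega) (by norm_num)
  have hle3 : q ^ 2 ≤ q ^ 3 := Nat.pow_le_pow_right (by omega) (by norm_num)
  have h3 := (ZMod.natCast_eq_zero_iff _ 243).2 h2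
  rw [Nat.cast_mul, Nat.cast_mul, Nat.cast_sub hle1, Nat.cast_sub hle2, Nat.cast_sub hle3,
    Nat.cast_pow, Nat.cast_pow, Nat.cast_one] at h3
  have hval : ((q : ZMod 243)).val % 9 = 4 ∨ ((q : ZMod 243)).val % 9 = 7 := by
    rw [ZMod.val_natCast]
    have : q % 243 % 9 = q % 9 := Nat.mod_mod_of_dvd q (by norm_num)
    rw [this]
    exact hcase
  have key : ∀ x : ZMod 243, (x.val % 9 = 4 ∨ x.val % 9 = 7) →
      (x ^ 3 - 1) * (x ^ 3 - x) * (x ^ 3 - x ^ 2) ≠ 0 := by decide
  exact key _ hval h3

end arith

end Cfsg.Agent.H9.Ex27
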