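import Mathlib
import Cfsg.Agent.H9.Ex27A

set_option autoImplicit false
set_option linter.style.haveILetI false
set_option linter.unusedSectionVars false

/-! Linear algebra for the normalizer of `3^{1+2}` in `GL₃`: eigenbases, the standard clock and
shift matrices, and elements of the normalizer. -/

namespace Cfsg.Agent.H9.Ex27

open Matrix Module

section eigen

variable {K : Type*} [Field K] {V : Type*} [AddCommGroup V] [Module K V] [FiniteDimensional K V]

/-- an endomorphism whose eigenspaces span has an eigenbasis -/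
theorem exists_eigenbasis_of_iSup (f : End K V) (h : ⨆ μ, f.eigenspace μ = ⊤) :
    ∃ (b : Basis (Fin (finrank K V)) K V) (χ : Fin (finrank K V) → K),
      ∀ k, f (b k) = χ k • b k := by
  classical
  have hind := f.eigenspaces_iSupIndep
  have hint := DirectSum.isInternal_submodule_of_iSupIndep_of_iSup_eq_top hind h
  let bb : ∀ μ : K, Basis (Fin (finrank K (f.eigenspace μ))) K (f.eigenspace μ) :=
    fun μ => Module.finBasis K _
  let b := hint.collectedBasis bb
  let _inst : Fintype (Σ μ : K, Fin (finrank K (f.eigenspace μ))) :=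
    FiniteDimensional.fintypeBasisIndex b
  have hcard : Fintype.card (Σ μ : K, Fin (finrank K (f.eigenspace μ))) = finrank K V :=
    (Module.finrank_eq_card_basis b).symm
  let e := Fintype.equivFinOfCardEq hcard
  refine ⟨b.reindex e, fun k => (e.symm k).1, ?_⟩
  intro k'
  rw [Basis.reindex_apply]
  set k := e.symm k' with hk
  have hmem : b k ∈ f.eigenspace k.1 := hint.collectedBasis_mem bb k
  exact Module.End.mem_eigenspace_iff.1 hmem

end eigen

section diag

variable {F : Type*} [Field F]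

/-- a `3 × 3` matrix whose eigenspaces span is diagonalizable -/
theorem exists_diag_of_iSup (M : Matrix (Fin 3) (Fin 3) F)
    (h : ⨆ μ, Module.End.eigenspace (Matrix.toLin' M) μ = ⊤) :
    ∃ (k : GL (Fin 3) F) (d : Fin 3 → F),
      M * (k : Matrix (Fin 3) (Fin 3) F) = (k : Matrix (Fin 3) (Fin 3) F) * Matrix.diagonal d ∧
      ∀ i, ∃ v : Fin 3 → F, v ≠ 0 ∧ M *ᵥ v = d i • v := by
  classical
  obtain ⟨b₀, χ₀, hb₀⟩ := exists_eigenbasis_of_iSup (Matrix.toLin' M) h
  have hfr : finrank F (Fin 3 → F) = 3 := Module.finrank_fin_fun F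
  let b : Basis (Fin 3) F (Fin 3 → F) := b₀.reindex (finCongr hfr)
  let d : Fin 3 → F := fun i => χ₀ ((finCongr hfr).symm i)
  have hb : ∀ i, M *ᵥ (b i) = d i • b i := by
    intro i
    have := hb₀ ((finCongr hfr).symm i)
    rw [Matrix.toLin'_apply] at this
    show M *ᵥ (b₀.reindex (finCongr hfr) i) = _
    rw [Basis.reindex_apply]
    exact this
  let kM : Matrix (Fin 3) (Fin 3) F := (Pi.basisFun F (Fin 3)).toMatrix b
  have hkM : ∀ i j, kM i j = b j i := by
    intro i j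
    show (Pi.basisFun F (Fin 3)).repr (b j) i = b j i
    rw [Pi.basisFun_repr]
  haveI : Invertible kM := (Pi.basisFun F (Fin 3)).invertibleToMatrix b
  refine ⟨unitOfInvertible kM, d, ?_, ?_⟩
  · show M * kM = kM * Matrix.diagonal d
    ext i j
    rw [Matrix.mul_diagonal, Matrix.mul_apply]
    have h1 := congrFun (hb j) i
    rw [Matrix.mulVec, dotProduct] at h1
    simp only [hkM]
    rw [h1, Pi.smul_apply, smul_eq_mul, mul_comm]
  · intro i
    exact ⟨b i, b.ne_zero i, hb i⟩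

/-- a matrix with cube one is diagonalizable when the cube roots of unity are in the field -/
theorem iSup_eigenspace_of_cube (h3 : (3 : F) ≠ 0) (ω : F) (hω : ω ^ 2 + ω + 1 = 0)
    (M : Matrix (Fin 3) (Fin 3) F) (hM : M * M * M = 1) :
    ⨆ μ, Module.End.eigenspace (Matrix.toLin' M) μ = ⊤ := by
  rw [eq_top_iff]
  intro v _
  have hω3 : ω ^ 3 = 1 := by linear_combination (ω - 1) * hω
  have hMv : ∀ w : Fin 3 → F, M *ᵥ (M *ᵥ (M *ᵥ w)) = w := by
    intro w
    rw [Matrix.mulVec_mulVec, Matrix.mulVec_mulVec, hM, Matrix.one_mulVec]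
  have key : ∀ l : F, l ^ 3 = 1 →
      (3 : F)⁻¹ • (v + (l ^ 2) • (M *ᵥ v) + l • (M *ᵥ (M *ᵥ v))) ∈
        Module.End.eigenspace (Matrix.toLin' M) l := by
    intro l hl
    rw [Module.End.mem_eigenspace_iff, Matrix.toLin'_apply, Matrix.mulVec_smul, Matrix.mulVec_add,
      Matrix.mulVec_add, Matrix.mulVec_smul, Matrix.mulVec_smul, hMv, smul_comm l (3 : F)⁻¹]
    congr 1
    rw [smul_add, smul_add, smul_smul, smul_smul]
    have e1 : l * l ^ 2 = 1 := by rw [← pow_succ']; exact hl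
    have e2 : l * l = l ^ 2 := (pow_two l).symm
    rw [e1, one_smul, e2]
    abel
  have hsum : v = (3 : F)⁻¹ • (v + ((1 : F) ^ 2) • (M *ᵥ v) + (1 : F) • (M *ᵥ (M *ᵥ v)))
      + (3 : F)⁻¹ • (v + (ω ^ 2) • (M *ᵥ v) + ω • (M *ᵥ (M *ᵥ v)))
      + (3 : F)⁻¹ • (v + ((ω ^ 2) ^ 2) • (M *ᵥ v) + (ω ^ 2) • (M *ᵥ (M *ᵥ v))) := by
    rw [← smul_add, ← smul_add]
    have h4 : (ω ^ 2) ^ 2 = ω := by linear_combination ω * hω3
    rw [h4, one_pow, one_smul, one_smul]
    have : v + M *ᵥ v + M *ᵥ (M *ᵥ v) + (v + (ω ^ 2) • (M *ᵥ v) + ω • (M *ᵥ (M *ᵥ v)))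
        + (v + ω • (M *ᵥ v) + (ω ^ 2) • (M *ᵥ (M *ᵥ v)))
        = (3 : F) • v + (ω ^ 2 + ω + 1) • (M *ᵥ v) + (ω ^ 2 + ω + 1) • (M *ᵥ (M *ᵥ v)) := by
      simp only [add_smul, one_smul]
      have : (3 : F) • v = v + v + v := by
        have : (3 : F) = 1 + 1 + 1 := by norm_num
        rw [this, add_smul, add_smul, one_smul]
      rw [this]
      abel
    rw [this, hω, zero_smul, zero_smul, add_zero, add_zero, smul_smul, inv_mul_cancel₀ h3, one_smul]
  rw [hsum]
  refine Submodule.add_mem _ (Submodule.add_mem _ ?_ ?_) ?_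
  · exact Submodule.mem_iSup_of_mem 1 (key 1 (one_pow 3))
  · exact Submodule.mem_iSup_of_mem ω (key ω hω3)
  · refine Submodule.mem_iSup_of_mem (ω ^ 2) (key (ω ^ 2) ?_)
    rw [← pow_mul, mul_comm, pow_mul, hω3, one_pow]

/-- a matrix with square one is diagonalizable in characteristic not two -/
theorem iSup_eigenspace_of_sq (h2 : (2 : F) ≠ 0)
    (M : Matrix (Fin 3) (Fin 3) F) (hM : M * M = 1) :
    ⨆ μ, Module.End.eigenspace (Matrix.toLin' M) μ = ⊤ := by
  rw [eq_top_iff]
  intro v _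
  have hMv : ∀ w : Fin 3 → F, M *ᵥ (M *ᵥ w) = w := by
    intro w
    rw [Matrix.mulVec_mulVec, hM, Matrix.one_mulVec]
  have h1 : (2 : F)⁻¹ • (v + M *ᵥ v) ∈ Module.End.eigenspace (Matrix.toLin' M) 1 := by
    rw [Module.End.mem_eigenspace_iff, Matrix.toLin'_apply, Matrix.mulVec_smul, Matrix.mulVec_add,
      hMv, one_smul, add_comm]
  have h3 : (2 : F)⁻¹ • (v - M *ᵥ v) ∈ Module.End.eigenspace (Matrix.toLin' M) (-1) := by
    rw [Module.End.mem_eigenspace_iff, Matrix.toLin'_apply, Matrix.mulVec_smul, Matrix.mulVec_sub,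
      hMv, neg_smul, one_smul, ← smul_neg, neg_sub]
  have e : v = (2 : F)⁻¹ • (v + M *ᵥ v) + (2 : F)⁻¹ • (v - M *ᵥ v) := by
    rw [← smul_add]
    have : v + M *ᵥ v + (v - M *ᵥ v) = (2 : F) • v := by rw [two_smul]; abel
    rw [this, smul_smul, inv_mul_cancel₀ h2, one_smul]
  rw [e]
  exact Submodule.add_mem _ (Submodule.mem_iSup_of_mem 1 h1) (Submodule.mem_iSup_of_mem (-1) h3)

end diag

end Cfsg.Agent.H9.Ex27
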