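import Mathlib
import Cfsg.Agent.H9.Ex27B

set_option autoImplicit false
set_option linter.style.haveILetI false
set_option linter.unusedSectionVars false

/-! The standard clock and shift matrices and elements of the normalizer of the group they
generate. -/

namespace Cfsg.Agent.H9.Ex27

open Matrix

section std

variable {F : Type*} [Field F]

/-- the shift matrix -/
def Xm : Matrix (Fin 3) (Fin 3) F := !![0, 0, 1; 1, 0, 0; 0, 1, 0]

/-- the negated transposition -/
def Pm : Matrix (Fin 3) (Fin 3) F := !![-1, 0, 0; 0, 0, -1; 0, -1, 0]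

theorem Xm_cube : (Xm : Matrix (Fin 3) (Fin 3) F) * (Xm * Xm) = 1 := by
  ext i j
  fin_cases i <;> fin_cases j <;> simp [Xm, Matrix.mul_apply, Fin.sum_univ_three]

theorem Xm_cube' : ((Xm : Matrix (Fin 3) (Fin 3) F) * Xm) * Xm = 1 := by
  rw [Matrix.mul_assoc]; exact Xm_cube

theorem Pm_sq : (Pm : Matrix (Fin 3) (Fin 3) F) * Pm = 1 := by
  ext i j
  fin_cases i <;> fin_cases j <;> simp [Pm, Matrix.mul_apply, Fin.sum_univ_three]

/-- the shift, as an element of `GL₃` -/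
def Xg : GL (Fin 3) F := ⟨Xm, Xm * Xm, Xm_cube, Xm_cube'⟩

/-- the negated transposition, as an element of `GL₃` -/
def Pg : GL (Fin 3) F := ⟨Pm, Pm, Pm_sq, Pm_sq⟩

/-- invertible diagonal matrices -/
def diagG (d : Fin 3 → F) (hd : ∀ i, d i ≠ 0) : GL (Fin 3) F :=
  ⟨Matrix.diagonal d, Matrix.diagonal (fun i => (d i)⁻¹),
    by rw [Matrix.diagonal_mul_diagonal, ← Matrix.diagonal_one]; congr 1; funext i; exact mul_inv_cancel₀ (hd i),
    by rw [Matrix.diagonal_mul_diagonal, ← Matrix.diagonal_one]; congr 1; funext i; exact inv_mul_cancel₀ (hd i)⟩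

@[simp] theorem diagG_val (d : Fin 3 → F) (hd : ∀ i, d i ≠ 0) :
    ((diagG d hd : GL (Fin 3) F) : Matrix (Fin 3) (Fin 3) F) = Matrix.diagonal d := rfl

@[simp] theorem Xg_val : ((Xg : GL (Fin 3) F) : Matrix (Fin 3) (Fin 3) F) = Xm := rfl

@[simp] theorem Pg_val : ((Pg : GL (Fin 3) F) : Matrix (Fin 3) (Fin 3) F) = Pm := rfl

theorem diagG_mul (d e : Fin 3 → F) (hd : ∀ i, d i ≠ 0) (he : ∀ i, e i ≠ 0) :
    diagG d hd * diagG e he = diagG (fun i => d i * e i) (fun i => mul_ne_zero (hd i) (he i)) := by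
  apply Units.ext
  rw [Units.val_mul, diagG_val, diagG_val, diagG_val, Matrix.diagonal_mul_diagonal]

theorem diagG_congr (d e : Fin 3 → F) (hd : ∀ i, d i ≠ 0) (h : d = e) :
    diagG d hd = diagG e (by rw [← h]; exact hd) := by
  subst h; rfl

theorem diagG_inv (d : Fin 3 → F) (hd : ∀ i, d i ≠ 0) :
    (diagG d hd)⁻¹ = diagG (fun i => (d i)⁻¹) (fun i => inv_ne_zero (hd i)) := by
  apply Units.ext
  rfl

/-- the clock entries -/
def Yd (ω : F) : Fin 3 → F := ![1, ω, ω ^ 2]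

theorem Yd_ne_zero (ω : F) (hω0 : ω ≠ 0) : ∀ i, Yd ω i ≠ 0 := by
  intro i
  fin_cases i
  · exact one_ne_zero
  · exact hω0
  · exact pow_ne_zero 2 hω0

/-- the clock matrix, as an element of `GL₃` -/
def Yg (ω : F) (hω0 : ω ≠ 0) : GL (Fin 3) F := diagG (Yd ω) (Yd_ne_zero ω hω0)

/-- conjugating the shift by a diagonal matrix -/
theorem diag_mul_Xm' (d : Fin 3 → F) :
    Matrix.diagonal d * (Xm : Matrix (Fin 3) (Fin 3) F)
      = Xm * Matrix.diagonal ![d 1, d 2, d 0] := by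
  ext i j
  rw [Matrix.diagonal_mul, Matrix.mul_diagonal]
  fin_cases i <;> fin_cases j <;> simp [Xm]

theorem diag_mul_Xm (d : Fin 3 → F) (hd : ∀ i, d i ≠ 0) :
    Matrix.diagonal d * (Xm : Matrix (Fin 3) (Fin 3) F)
      = Xm * Matrix.diagonal ![d 1 / d 0, d 2 / d 1, d 0 / d 2] * Matrix.diagonal d := by
  have h0 := hd 0
  have h1 := hd 1
  have h2 := hd 2
  rw [Matrix.mul_assoc, Matrix.diagonal_mul_diagonal, diag_mul_Xm']
  congr 2
  funext i
  fin_cases i
  · show d 1 = d 1 / d 0 * d 0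
    field_simp
  · show d 2 = d 2 / d 1 * d 1
    field_simp
  · show d 0 = d 0 / d 2 * d 2
    field_simp

theorem diagG_conj_Xg (d : Fin 3 → F) (hd : ∀ i, d i ≠ 0) :
    diagG d hd * Xg * (diagG d hd)⁻¹ = Xg * diagG ![d 1 / d 0, d 2 / d 1, d 0 / d 2] (by
      intro i
      fin_cases i
      · exact div_ne_zero (hd 1) (hd 0)
      · exact div_ne_zero (hd 2) (hd 1)
      · exact div_ne_zero (hd 0) (hd 2)) := by
  rw [mul_inv_eq_iff_eq_mul]
  apply Units.ext
  simp only [Units.val_mul, diagG_val, Xg_val]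
  exact diag_mul_Xm d hd

theorem diagG_comm (d e : Fin 3 → F) (hd : ∀ i, d i ≠ 0) (he : ∀ i, e i ≠ 0) :
    diagG d hd * diagG e he * (diagG d hd)⁻¹ = diagG e he := by
  rw [mul_inv_eq_iff_eq_mul, diagG_mul, diagG_mul]
  apply diagG_congr
  funext i
  exact mul_comm _ _

/-- the cube roots of unity -/
theorem cube_root_cases (ω : F) (hω : ω ^ 2 + ω + 1 = 0) (c : F) (hc : c ^ 3 = 1) :
    c = 1 ∨ c = ω ∨ c = ω ^ 2 := by
  have : (c - 1) * ((c - ω) * (c - ω ^ 2)) = 0 := by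
    linear_combination hc + (c - 1) * (ω - 1 - c) * hω
  rcases mul_eq_zero.1 this with h | h
  · left; exact sub_eq_zero.1 h
  · rcases mul_eq_zero.1 h with h | h
    · right; left; exact sub_eq_zero.1 h
    · right; right; exact sub_eq_zero.1 h

/-- the standard extraspecial group -/
def Rstd (ω : F) (hω0 : ω ≠ 0) : Subgroup (GL (Fin 3) F) :=
  Subgroup.closure {Xg, Yg ω hω0}

theorem Xg_mem (ω : F) (hω0 : ω ≠ 0) : (Xg : GL (Fin 3) F) ∈ Rstd ω hω0 :=
  Subgroup.subset_closure (Set.mem_insert _ _)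

theorem Yg_mem (ω : F) (hω0 : ω ≠ 0) : Yg ω hω0 ∈ Rstd ω hω0 :=
  Subgroup.subset_closure (Set.mem_insert_of_mem _ rfl)

/-- the commutator of the clock and the shift is the scalar `ω` -/
theorem Yg_Xg (ω : F) (hω0 : ω ≠ 0) (hω3 : ω ^ 3 = 1) :
    Yg ω hω0 * Xg = diagG (fun _ => ω) (fun _ => hω0) * Xg * Yg ω hω0 := by
  apply Units.ext
  show Matrix.diagonal (Yd ω) * Xm = Matrix.diagonal (fun _ => ω) * Xm * Matrix.diagonal (Yd ω)
  rw [diag_mul_Xm', diag_mul_Xm', Matrix.mul_assoc, Matrix.diagonal_mul_diagonal]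
  congr 2
  funext i
  fin_cases i
  · show ω = ω * 1
    rw [mul_one]
  · show ω ^ 2 = ω * ω
    rw [pow_two]
  · show (1 : F) = ω * ω ^ 2
    rw [← pow_succ', hω3]

theorem scalar_omega_mem (ω : F) (hω0 : ω ≠ 0) (hω3 : ω ^ 3 = 1) :
    diagG (fun _ => ω) (fun _ => hω0) ∈ Rstd ω hω0 := by
  have h : diagG (fun _ => ω) (fun _ => hω0) = Yg ω hω0 * Xg * (Yg ω hω0)⁻¹ * Xg⁻¹ := by
    rw [Yg_Xg ω hω0 hω3]
    group
  rw [h]
  exact Subgroup.mul_mem _ (Subgroup.mul_mem _ (Subgroup.mul_mem _ (Yg_mem ω hω0) (Xg_mem ω hω0))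
    (Subgroup.inv_mem _ (Yg_mem ω hω0))) (Subgroup.inv_mem _ (Xg_mem ω hω0))

theorem scalar_mem (ω : F) (hω0 : ω ≠ 0) (hω : ω ^ 2 + ω + 1 = 0) (c : F) (hc0 : c ≠ 0)
    (hc : c ^ 3 = 1) : diagG (fun _ => c) (fun _ => hc0) ∈ Rstd ω hω0 := by
  have hω3 : ω ^ 3 = 1 := by linear_combination (ω - 1) * hω
  rcases cube_root_cases ω hω c hc with h | h | h
  · have : diagG (fun _ => c) (fun _ => hc0) = 1 := by
      apply Units.ext
      rw [diagG_val, Units.val_one, ← Matrix.diagonal_one, h]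
    rw [this]
    exact Subgroup.one_mem _
  · rw [diagG_congr (fun _ => c) (fun _ => ω) _ (by funext i; exact h)]
    exact scalar_omega_mem ω hω0 hω3
  · have : diagG (fun _ => c) (fun _ => hc0)
        = diagG (fun _ => ω) (fun _ => hω0) * diagG (fun _ => ω) (fun _ => hω0) := by
      rw [diagG_mul]
      apply diagG_congr
      funext i
      rw [h]
      exact pow_two ω
    rw [this]
    exact Subgroup.mul_mem _ (scalar_omega_mem ω hω0 hω3) (scalar_omega_mem ω hω0 hω3)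

theorem clock_mem (ω : F) (hω0 : ω ≠ 0) (hω : ω ^ 2 + ω + 1 = 0) (ρ : F) (hρ0 : ρ ≠ 0)
    (hρ : ρ ^ 3 = 1) : diagG (Yd ρ) (Yd_ne_zero ρ hρ0) ∈ Rstd ω hω0 := by
  have hω3 : ω ^ 3 = 1 := by linear_combination (ω - 1) * hω
  rcases cube_root_cases ω hω ρ hρ with h | h | h
  · have : diagG (Yd ρ) (Yd_ne_zero ρ hρ0) = 1 := by
      apply Units.ext
      rw [diagG_val, Units.val_one, ← Matrix.diagonal_one, h]
      congr 1
      funext i
      fin_cases i <;> simp [Yd]
    rw [this]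
    exact Subgroup.one_mem _
  · have : diagG (Yd ρ) (Yd_ne_zero ρ hρ0) = Yg ω hω0 := by
      unfold Yg
      apply diagG_congr
      rw [h]
    rw [this]
    exact Yg_mem ω hω0
  · have : diagG (Yd ρ) (Yd_ne_zero ρ hρ0) = Yg ω hω0 * Yg ω hω0 := by
      unfold Yg
      rw [diagG_mul]
      apply diagG_congr
      rw [h]
      funext i
      fin_cases i
      · show (1 : F) = 1 * 1
        rw [mul_one]
      · show ω ^ 2 = ω * ω
        rw [pow_two]
      · show (ω ^ 2) ^ 2 = ω ^ 2 * ω ^ 2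
        rw [pow_two]
    rw [this]
    exact Subgroup.mul_mem _ (Yg_mem ω hω0) (Yg_mem ω hω0)

/-- diagonal matrices of determinant one with cube roots of unity as entries lie in the standard group -/
theorem diag_mem (ω : F) (hω0 : ω ≠ 0) (hω : ω ^ 2 + ω + 1 = 0) (e : Fin 3 → F) (he : ∀ i, e i ≠ 0)
    (h0 : e 0 ^ 3 = 1) (h1 : e 1 ^ 3 = 1) (hprod : e 0 * e 1 * e 2 = 1) :
    diagG e he ∈ Rstd ω hω0 := by
  have hρ0 : e 1 / e 0 ≠ 0 := div_ne_zero (he 1) (he 0)
  have hρ : (e 1 / e 0) ^ 3 = 1 := by rw [div_pow, h0, h1, div_one]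
  have : diagG e he = diagG (fun _ => e 0) (fun _ => he 0)
      * diagG (Yd (e 1 / e 0)) (Yd_ne_zero _ hρ0) := by
    rw [diagG_mul]
    apply diagG_congr
    have h00 := he 0
    have h11 := he 1
    funext i
    fin_cases i
    · show e 0 = e 0 * 1
      rw [mul_one]
    · show e 1 = e 0 * (e 1 / e 0)
      field_simp
    · show e 2 = e 0 * (e 1 / e 0) ^ 2
      have h2 : e 2 = (e 0 * e 1)⁻¹ := eq_inv_of_mul_eq_one_right hprod
      rw [h2]
      field_simp
      linear_combination -h1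
  rw [this]
  exact Subgroup.mul_mem _ (scalar_mem ω hω0 hω (e 0) (he 0) h0) (clock_mem ω hω0 hω _ hρ0 hρ)

variable [Fintype F] [DecidableEq F]

/-- membership in the normalizer of the standard group, through the generators -/
theorem mem_normalizer_Rstd (ω : F) (hω0 : ω ≠ 0) (n : GL (Fin 3) F)
    (hX : n * Xg * n⁻¹ ∈ Rstd ω hω0) (hY : n * Yg ω hω0 * n⁻¹ ∈ Rstd ω hω0) :
    n ∈ Subgroup.normalizer (Rstd ω hω0 : Set (GL (Fin 3) F)) := by
  apply Subgroup.mem_normalizer_fintype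
  intro s hs
  rw [SetLike.mem_coe] at hs ⊢
  unfold Rstd at hs
  induction hs using Subgroup.closure_induction with
  | mem y hy =>
    rcases hy with rfl | rfl
    · exact hX
    · exact hY
  | one => simp
  | mul a b _ _ ha hb =>
    have : n * (a * b) * n⁻¹ = (n * a * n⁻¹) * (n * b * n⁻¹) := by group
    rw [this]
    exact Subgroup.mul_mem _ ha hb
  | inv a _ ha =>
    have : n * a⁻¹ * n⁻¹ = (n * a * n⁻¹)⁻¹ := by group
    rw [this]
    exact Subgroup.inv_mem _ ha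

/-- diagonal matrices with ratios of entries cube roots of unity normalize the standard group -/
theorem diagG_mem_normalizer (ω : F) (hω0 : ω ≠ 0) (hω : ω ^ 2 + ω + 1 = 0) (d : Fin 3 → F)
    (hd : ∀ i, d i ≠ 0) (h1 : (d 1 / d 0) ^ 3 = 1) (h2 : (d 2 / d 1) ^ 3 = 1) :
    diagG d hd ∈ Subgroup.normalizer (Rstd ω hω0 : Set (GL (Fin 3) F)) := by
  apply mem_normalizer_Rstd
  · rw [diagG_conj_Xg]
    refine Subgroup.mul_mem _ (Xg_mem ω hω0) (diag_mem ω hω0 hω _ _ h1 h2 ?_)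
    show d 1 / d 0 * (d 2 / d 1) * (d 0 / d 2) = 1
    have h00 := hd 0
    have h11 := hd 1
    have h22 := hd 2
    field_simp
  · unfold Yg
    rw [diagG_comm]
    exact Yg_mem ω hω0

theorem Pm_mul_Xm : (Pm : Matrix (Fin 3) (Fin 3) F) * Xm = Xm * Xm * Pm := by
  ext i j
  fin_cases i <;> fin_cases j <;> simp [Pm, Xm, Matrix.mul_apply, Fin.sum_univ_three]

theorem Pm_mul_diag (d : Fin 3 → F) :
    (Pm : Matrix (Fin 3) (Fin 3) F) * Matrix.diagonal d = Matrix.diagonal ![d 0, d 2, d 1] * Pm := by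
  ext i j
  rw [Matrix.diagonal_mul, Matrix.mul_diagonal]
  fin_cases i <;> fin_cases j <;> simp [Pm]

/-- scalar multiples of the negated transposition normalize the standard group -/
theorem scalar_Pg_mem_normalizer (ω : F) (hω0 : ω ≠ 0) (hω : ω ^ 2 + ω + 1 = 0) (c : F)
    (hc0 : c ≠ 0) :
    diagG (fun _ => c) (fun _ => hc0) * Pg ∈ Subgroup.normalizer (Rstd ω hω0 : Set (GL (Fin 3) F)) := by
  have hω3 : ω ^ 3 = 1 := by linear_combination (ω - 1) * hω
  refine Subgroup.mul_mem _ ?_ ?_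
  · apply diagG_mem_normalizer ω hω0 hω
    · show (c / c) ^ 3 = 1
      rw [div_self hc0, one_pow]
    · show (c / c) ^ 3 = 1
      rw [div_self hc0, one_pow]
  · apply mem_normalizer_Rstd
    · have : Pg * Xg * Pg⁻¹ = (Xg * Xg : GL (Fin 3) F) := by
        rw [mul_inv_eq_iff_eq_mul]
        apply Units.ext
        simp only [Units.val_mul, Pg_val, Xg_val]
        exact Pm_mul_Xm
      rw [this]
      exact Subgroup.mul_mem _ (Xg_mem ω hω0) (Xg_mem ω hω0)
    · have : Pg * Yg ω hω0 * Pg⁻¹ = Yg ω hω0 * Yg ω hω0 := by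
        rw [mul_inv_eq_iff_eq_mul]
        apply Units.ext
        unfold Yg
        simp only [Units.val_mul, Pg_val, diagG_val]
        rw [Pm_mul_diag, Matrix.diagonal_mul_diagonal]
        congr 2
        funext i
        fin_cases i
        · show (1 : F) = 1 * 1
          rw [mul_one]
        · show ω ^ 2 = ω * ω
          rw [pow_two]
        · show ω = ω ^ 2 * ω ^ 2
          linear_combination (-ω) * hω3
      rw [this]
      exact Subgroup.mul_mem _ (Yg_mem ω hω0) (Yg_mem ω hω0)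

end std

end Cfsg.Agent.H9.Ex27
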