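import Mathlib
import Cfsg.Agent.H9.Ex27C
import Cfsg.Agent.Lib.Helper8.Singer3D

set_option autoImplicit false
set_option linter.style.haveILetI false
set_option linter.unusedSectionVars false

/-! Centralizer of the standard group, and conjugating elements with scalar square or cube into its
normalizer. -/

namespace Cfsg.Agent.H9.Ex27

open Matrix Cfsg.Agent.Lib.Helper8.Singer3

section cent

variable {F : Type*} [Field F]

/-- a matrix commuting with the shift and the clock is scalar -/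
theorem scalar_of_commute_std (h3 : (3 : F) ≠ 0) (ω : F) (hω : ω ^ 2 + ω + 1 = 0)
    (M : Matrix (Fin 3) (Fin 3) F) (hX : M * Xm = Xm * M)
    (hY : M * Matrix.diagonal (Yd ω) = Matrix.diagonal (Yd ω) * M) :
    ∃ c : F, M = c • (1 : Matrix (Fin 3) (Fin 3) F) := by
  have hω1 := omega_ne_one h3 ω hω
  have hω2 := omega_sq_ne_one h3 ω hω
  have hω21 := omega_sq_ne h3 ω hω
  have hYe : ∀ i j, M i j * Yd ω j = Yd ω i * M i j := by
    intro i j
    have := congrFun (congrFun hY i) j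
    rwa [Matrix.mul_diagonal, Matrix.diagonal_mul] at this
  have hoff : ∀ i j, Yd ω i ≠ Yd ω j → M i j = 0 := by
    intro i j hij
    have h := hYe i j
    have : (Yd ω j - Yd ω i) * M i j = 0 := by linear_combination h
    rcases mul_eq_zero.1 this with h' | h'
    · exact absurd (sub_eq_zero.1 h').symm hij
    · exact h'
  have h01 : M 0 1 = 0 := hoff 0 1 (by show (1 : F) ≠ ω; exact Ne.symm hω1)
  have h02 : M 0 2 = 0 := hoff 0 2 (by show (1 : F) ≠ ω ^ 2; exact Ne.symm hω2)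
  have h10 : M 1 0 = 0 := hoff 1 0 (by show ω ≠ (1 : F); exact hω1)
  have h12 : M 1 2 = 0 := hoff 1 2 (by show ω ≠ ω ^ 2; exact Ne.symm hω21)
  have h20 : M 2 0 = 0 := hoff 2 0 (by show ω ^ 2 ≠ (1 : F); exact hω2)
  have h21 : M 2 1 = 0 := hoff 2 1 (by show ω ^ 2 ≠ ω; exact hω21)
  have e1 := congrFun (congrFun hX 1) 0
  have e2 := congrFun (congrFun hX 2) 1
  simp [Xm, Matrix.mul_apply, Fin.sum_univ_three] at e1 e2
  refine ⟨M 0 0, ?_⟩
  ext i j
  fin_cases i <;> fin_cases j <;> simp [h01, h02, h10, h12, h20, h21, e1, e2]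

end cent

section conj

variable {F : Type*} [Field F] [Fintype F] [DecidableEq F]

theorem det_diagG (d : Fin 3 → F) (hd : ∀ i, d i ≠ 0) :
    ((Matrix.GeneralLinearGroup.det (diagG d hd) : Fˣ) : F) = d 0 * d 1 * d 2 := by
  rw [Matrix.GeneralLinearGroup.val_det_apply, diagG_val, Matrix.det_diagonal, Fin.prod_univ_three]

/-- adjusting the determinant of a conjugating matrix by a matrix `diag(t, 1, 1)` -/
theorem exists_adjust (x n : GL (Fin 3) F) (k₀ : GL (Fin 3) F) (hk : k₀⁻¹ * x * k₀ = n)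
    (hcomm : ∀ (t : F) (ht : t ≠ 0), diagG ![t, 1, 1] (by
      intro i; fin_cases i
      · exact ht
      · exact one_ne_zero
      · exact one_ne_zero) * n = n * diagG ![t, 1, 1] (by
      intro i; fin_cases i
      · exact ht
      · exact one_ne_zero
      · exact one_ne_zero)) (δ : Fˣ) :
    ∃ k : GL (Fin 3) F, Matrix.GeneralLinearGroup.det k = δ ∧ k⁻¹ * x * k = n := by
  set t : Fˣ := δ * (Matrix.GeneralLinearGroup.det k₀)⁻¹ with ht
  have ht0 : (t : F) ≠ 0 := t.ne_zero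
  obtain ⟨T, hT⟩ : ∃ T, T = diagG ![(t : F), 1, 1] (by
      intro i; fin_cases i
      · exact ht0
      · exact one_ne_zero
      · exact one_ne_zero) := ⟨_, rfl⟩
  refine ⟨k₀ * T, ?_, ?_⟩
  · rw [map_mul]
    apply Units.ext
    rw [Units.val_mul, hT, det_diagG]
    show ((Matrix.GeneralLinearGroup.det k₀ : Fˣ) : F) * ((t : F) * 1 * 1) = δ
    rw [mul_one, mul_one, ht, Units.val_mul, mul_comm (δ : F), ← mul_assoc, ← Units.val_mul,
      mul_inv_cancel, Units.val_one, one_mul]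
  · have h1 := hcomm (t : F) ht0
    rw [← hT] at h1
    calc (k₀ * T)⁻¹ * x * (k₀ * T) = T⁻¹ * (k₀⁻¹ * x * k₀) * T := by group
      _ = T⁻¹ * n * T := by rw [hk]
      _ = T⁻¹ * (T * n) := by rw [h1]; group
      _ = n := by group

/-- elements with scalar cube, the scalar being a cube, are conjugate into the normalizer -/
theorem conj_cube (h3 : (3 : F) ≠ 0) (ω : F) (hω0 : ω ≠ 0) (hω : ω ^ 2 + ω + 1 = 0)
    (x : GL (Fin 3) F) (c : F) (hc0 : c ≠ 0)
    (hx : (x : Matrix (Fin 3) (Fin 3) F) * x * x = (c ^ 3) • (1 : Matrix (Fin 3) (Fin 3) F))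
    (δ : Fˣ) :
    ∃ k : GL (Fin 3) F, Matrix.GeneralLinearGroup.det k = δ ∧
      k⁻¹ * x * k ∈ Subgroup.normalizer (Rstd ω hω0 : Set (GL (Fin 3) F)) := by
  set y : Matrix (Fin 3) (Fin 3) F := c⁻¹ • (x : Matrix (Fin 3) (Fin 3) F) with hy
  have hy3 : y * y * y = 1 := by
    rw [hy]
    simp only [Matrix.smul_mul, Matrix.mul_smul, smul_smul]
    rw [hx, smul_smul]
    have : c⁻¹ * (c⁻¹ * c⁻¹) * c ^ 3 = 1 := by field_simp
    rw [this, one_smul]
  obtain ⟨k₀, d, hkd, hev⟩ := exists_diag_of_iSup y (iSup_eigenspace_of_cube h3 ω hω y hy3)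
  have hd3 : ∀ i, d i ^ 3 = 1 := by
    intro i
    obtain ⟨v, hv0, hv⟩ := hev i
    have h1 : y *ᵥ (y *ᵥ (y *ᵥ v)) = v := by
      rw [Matrix.mulVec_mulVec, Matrix.mulVec_mulVec, hy3, Matrix.one_mulVec]
    rw [hv, Matrix.mulVec_smul, hv, Matrix.mulVec_smul, Matrix.mulVec_smul, hv, smul_smul,
      smul_smul] at h1
    have h2 : (d i * d i * d i - 1) • v = 0 := by rw [sub_smul, h1, one_smul, sub_self]
    rcases smul_eq_zero.1 h2 with h | h
    · linear_combination h
    · exact absurd h hv0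
  have hd0 : ∀ i, d i ≠ 0 := by
    intro i h
    have := hd3 i
    rw [h] at this
    simp at this
  have hcd0 : ∀ i, c * d i ≠ 0 := fun i => mul_ne_zero hc0 (hd0 i)
  have hxk : k₀⁻¹ * x * k₀ = diagG (fun i => c * d i) hcd0 := by
    rw [mul_assoc, inv_mul_eq_iff_eq_mul]
    apply Units.ext
    rw [Units.val_mul, Units.val_mul, diagG_val]
    have hxy : (x : Matrix (Fin 3) (Fin 3) F) = c • y := by
      rw [hy, smul_smul, mul_inv_cancel₀ hc0, one_smul]
    rw [hxy, Matrix.smul_mul, hkd]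
    have : Matrix.diagonal (fun i => c * d i) = c • Matrix.diagonal d := by
      ext i j
      by_cases hij : i = j
      · subst hij; simp
      · simp [hij]
    rw [this, Matrix.mul_smul]
  obtain ⟨k, hkdet, hkx⟩ := exists_adjust x _ k₀ hxk (by
    intro t ht
    rw [diagG_mul, diagG_mul]
    apply diagG_congr
    funext i
    exact mul_comm _ _) δ
  refine ⟨k, hkdet, ?_⟩
  rw [hkx]
  apply diagG_mem_normalizer ω hω0 hω
  · show (c * d 1 / (c * d 0)) ^ 3 = 1
    rw [mul_div_mul_left _ _ hc0, div_pow, hd3, hd3, div_one]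
  · show (c * d 2 / (c * d 1)) ^ 3 = 1
    rw [mul_div_mul_left _ _ hc0, div_pow, hd3, hd3, div_one]

/-- scalar matrices are central -/
theorem scalarG_comm (c : F) (hc0 : c ≠ 0) (m : GL (Fin 3) F) :
    diagG (fun _ => c) (fun _ => hc0) * m = m * diagG (fun _ => c) (fun _ => hc0) := by
  apply Units.ext
  rw [Units.val_mul, Units.val_mul, diagG_val]
  ext i j
  rw [Matrix.diagonal_mul, Matrix.mul_diagonal, mul_comm]

theorem det_m1 : (!![0, 1, 0; 1, 0, 1; -1, 0, 1] : Matrix (Fin 3) (Fin 3) F).det = -2 := by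
  rw [Matrix.det_fin_three]
  simp
  ring

theorem det_m2 : (!![1, 0, 0; 0, 1, 1; 0, -1, 1] : Matrix (Fin 3) (Fin 3) F).det = 2 := by
  rw [Matrix.det_fin_three]
  simp
  ring

theorem det_m3 : (!![1, 0, 0; 0, 1, 1; 0, 1, -1] : Matrix (Fin 3) (Fin 3) F).det = -2 := by
  rw [Matrix.det_fin_three]
  simp
  ring

/-- the negated transposition is conjugate to each diagonal involution of determinant one -/
theorem exists_Pm_conj (h2 : (2 : F) ≠ 0) (ε : Fin 3 → F) (hε : ∀ i, ε i = 1 ∨ ε i = -1)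
    (hprod : ε 0 * ε 1 * ε 2 = 1) (hne : ¬ (ε 0 = ε 1 ∧ ε 1 = ε 2)) :
    ∃ m : GL (Fin 3) F, (Pm : Matrix (Fin 3) (Fin 3) F) * (m : Matrix (Fin 3) (Fin 3) F)
      = (m : Matrix (Fin 3) (Fin 3) F) * Matrix.diagonal ε := by
  have hneg : (-1 : F) ≠ 1 := by
    intro h
    apply h2
    linear_combination -h
  have hm2 : (-2 : F) ≠ 0 := by
    intro h
    apply h2
    linear_combination -h
  rcases hε 0 with h0 | h0 <;> rcases hε 1 with h1 | h1 <;> rcases hε 2 with h2' | h2'
  · exact absurd ⟨h0.trans h1.symm, h1.trans h2'.symm⟩ hne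
  · rw [h0, h1, h2'] at hprod
    exact absurd (by linear_combination hprod) hneg
  · rw [h0, h1, h2'] at hprod
    exact absurd (by linear_combination hprod) hneg
  · refine ⟨Matrix.GeneralLinearGroup.mkOfDetNeZero !![0, 1, 0; 1, 0, 1; -1, 0, 1]
      (by rw [det_m1]; exact hm2), ?_⟩
    have hεe : ε = ![1, -1, -1] := by
      funext i; fin_cases i
      · exact h0
      · exact h1
      · exact h2'
    rw [hεe]
    show Pm * !![0, 1, 0; 1, 0, 1; -1, 0, 1] = !![0, 1, 0; 1, 0, 1; -1, 0, 1] * _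
    ext i j
    rw [Matrix.mul_diagonal]
    fin_cases i <;> fin_cases j <;> simp [Pm, Matrix.mul_apply, Fin.sum_univ_three]
  · rw [h0, h1, h2'] at hprod
    exact absurd (by linear_combination hprod) hneg
  · refine ⟨Matrix.GeneralLinearGroup.mkOfDetNeZero !![1, 0, 0; 0, 1, 1; 0, -1, 1]
      (by rw [det_m2]; exact h2), ?_⟩
    have hεe : ε = ![-1, 1, -1] := by
      funext i; fin_cases i
      · exact h0
      · exact h1
      · exact h2'
    rw [hεe]
    show Pm * !![1, 0, 0; 0, 1, 1; 0, -1, 1] = !![1, 0, 0; 0, 1, 1; 0, -1, 1] * _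
    ext i j
    rw [Matrix.mul_diagonal]
    fin_cases i <;> fin_cases j <;> simp [Pm, Matrix.mul_apply, Fin.sum_univ_three]
  · refine ⟨Matrix.GeneralLinearGroup.mkOfDetNeZero !![1, 0, 0; 0, 1, 1; 0, 1, -1]
      (by rw [det_m3]; exact hm2), ?_⟩
    have hεe : ε = ![-1, -1, 1] := by
      funext i; fin_cases i
      · exact h0
      · exact h1
      · exact h2'
    rw [hεe]
    show Pm * !![1, 0, 0; 0, 1, 1; 0, 1, -1] = !![1, 0, 0; 0, 1, 1; 0, 1, -1] * _
    ext i j
    rw [Matrix.mul_diagonal]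
    fin_cases i <;> fin_cases j <;> simp [Pm, Matrix.mul_apply, Fin.sum_univ_three]
  · rw [h0, h1, h2'] at hprod
    exact absurd (by linear_combination hprod) hneg

/-- non-scalar elements with scalar square are conjugate into the normalizer -/
theorem conj_sq (h2 : (2 : F) ≠ 0) (ω : F) (hω0 : ω ≠ 0) (hω : ω ^ 2 + ω + 1 = 0)
    (x : GL (Fin 3) F) (c : F) (hc0 : c ≠ 0)
    (hx : (x : Matrix (Fin 3) (Fin 3) F) * x = (c ^ 2) • (1 : Matrix (Fin 3) (Fin 3) F))
    (hdet : (x : Matrix (Fin 3) (Fin 3) F).det = c ^ 3)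
    (hns : ∀ z : F, (x : Matrix (Fin 3) (Fin 3) F) ≠ z • (1 : Matrix (Fin 3) (Fin 3) F))
    (δ : Fˣ) :
    ∃ k : GL (Fin 3) F, Matrix.GeneralLinearGroup.det k = δ ∧
      k⁻¹ * x * k ∈ Subgroup.normalizer (Rstd ω hω0 : Set (GL (Fin 3) F)) := by
  set y : Matrix (Fin 3) (Fin 3) F := c⁻¹ • (x : Matrix (Fin 3) (Fin 3) F) with hy
  have hxy : (x : Matrix (Fin 3) (Fin 3) F) = c • y := by
    rw [hy, smul_smul, mul_inv_cancel₀ hc0, one_smul]
  have hy2 : y * y = 1 := by
    rw [hy]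
    simp only [Matrix.smul_mul, Matrix.mul_smul, smul_smul]
    rw [hx, smul_smul]
    have : c⁻¹ * c⁻¹ * c ^ 2 = 1 := by field_simp
    rw [this, one_smul]
  have hydet : y.det = 1 := by
    rw [hy, Matrix.det_smul, hdet, Fintype.card_fin]
    field_simp
  obtain ⟨k₀, ε, hkd, hev⟩ := exists_diag_of_iSup y (iSup_eigenspace_of_sq h2 y hy2)
  have hε : ∀ i, ε i = 1 ∨ ε i = -1 := by
    intro i
    obtain ⟨v, hv0, hv⟩ := hev i
    have h1 : y *ᵥ (y *ᵥ v) = v := by
      rw [Matrix.mulVec_mulVec, hy2, Matrix.one_mulVec]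
    rw [hv, Matrix.mulVec_smul, hv, smul_smul] at h1
    have h2' : (ε i * ε i - 1) • v = 0 := by rw [sub_smul, h1, one_smul, sub_self]
    rcases smul_eq_zero.1 h2' with h | h
    · have : (ε i - 1) * (ε i + 1) = 0 := by linear_combination h
      rcases mul_eq_zero.1 this with h' | h'
      · left; linear_combination h'
      · right; linear_combination h'
    · exact absurd h hv0
  have hε0 : ∀ i, ε i ≠ 0 := by
    intro i
    rcases hε i with h | h <;> rw [h]
    · exact one_ne_zero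
    · exact neg_ne_zero.2 one_ne_zero
  have hk₀det : (k₀ : Matrix (Fin 3) (Fin 3) F).det ≠ 0 := by
    have := (Matrix.GeneralLinearGroup.det k₀).ne_zero
    rwa [Matrix.GeneralLinearGroup.val_det_apply] at this
  have hprod : ε 0 * ε 1 * ε 2 = 1 := by
    have h1 := congrArg Matrix.det hkd
    rw [Matrix.det_mul, Matrix.det_mul, Matrix.det_diagonal, Fin.prod_univ_three, hydet, one_mul] at h1
    have : (k₀ : Matrix (Fin 3) (Fin 3) F).det * (ε 0 * ε 1 * ε 2 - 1) = 0 := by
      linear_combination -h1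
    rcases mul_eq_zero.1 this with h | h
    · exact absurd h hk₀det
    · linear_combination h
  have hne : ¬ (ε 0 = ε 1 ∧ ε 1 = ε 2) := by
    rintro ⟨h01, h12⟩
    apply hns (c * ε 0)
    have hdiag : Matrix.diagonal ε = ε 0 • (1 : Matrix (Fin 3) (Fin 3) F) := by
      ext i j
      fin_cases i <;> fin_cases j <;> simp [← h12, ← h01]
    have h1 : y * (k₀ : Matrix (Fin 3) (Fin 3) F)
        = (ε 0 • (1 : Matrix (Fin 3) (Fin 3) F)) * (k₀ : Matrix (Fin 3) (Fin 3) F) := by
      rw [hkd, hdiag, Matrix.mul_smul, Matrix.mul_one, Matrix.smul_mul, Matrix.one_mul]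
    have hunit : IsUnit (k₀ : Matrix (Fin 3) (Fin 3) F) := ⟨k₀, rfl⟩
    have h3 : y = ε 0 • (1 : Matrix (Fin 3) (Fin 3) F) := hunit.mul_left_inj.1 h1
    rw [hxy, h3, smul_smul]
  obtain ⟨m, hm⟩ := exists_Pm_conj h2 ε hε hprod hne
  -- the diagonal form
  have hE : x * k₀ = k₀ * (diagG (fun _ => c) (fun _ => hc0) * diagG ε hε0) := by
    apply Units.ext
    rw [Units.val_mul, Units.val_mul, Units.val_mul, diagG_val, diagG_val, hxy, Matrix.smul_mul, hkd]
    have : Matrix.diagonal (fun _ : Fin 3 => c) = c • (1 : Matrix (Fin 3) (Fin 3) F) := by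
      ext i j
      by_cases hij : i = j
      · subst hij; simp
      · simp [hij]
    rw [this, Matrix.smul_mul, Matrix.one_mul, Matrix.mul_smul]
  have hPm : Pg * m = m * diagG ε hε0 := by
    apply Units.ext
    rw [Units.val_mul, Units.val_mul, Pg_val, diagG_val]
    exact hm
  have hconj : (k₀ * m⁻¹)⁻¹ * x * (k₀ * m⁻¹) = diagG (fun _ => c) (fun _ => hc0) * Pg := by
    have h1 : (k₀ * m⁻¹)⁻¹ * x * (k₀ * m⁻¹) = m * (k₀⁻¹ * (x * k₀)) * m⁻¹ := by group
    rw [h1, hE, inv_mul_cancel_left, ← mul_assoc, ← scalarG_comm, mul_assoc, mul_assoc,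
      ← mul_assoc m, ← hPm]
    group
  obtain ⟨k, hkdet, hkx⟩ := exists_adjust x _ (k₀ * m⁻¹) hconj (by
    intro t ht
    have hP : Pg * diagG ![t, 1, 1] (by
        intro i; fin_cases i
        · exact ht
        · exact one_ne_zero
        · exact one_ne_zero) = diagG ![t, 1, 1] (by
        intro i; fin_cases i
        · exact ht
        · exact one_ne_zero
        · exact one_ne_zero) * Pg := by
      apply Units.ext
      rw [Units.val_mul, Units.val_mul, Pg_val, diagG_val, Pm_mul_diag]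
      rfl
    rw [mul_assoc, hP, ← mul_assoc, ← mul_assoc, scalarG_comm]) δ
  refine ⟨k, hkdet, ?_⟩
  rw [hkx]
  exact scalar_Pg_mem_normalizer ω hω0 hω c hc0

end conj

end Cfsg.Agent.H9.Ex27
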