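import Mathlib
import Cfsg.Agent.H9.Ex27D

set_option autoImplicit false
set_option linter.style.haveILetI false
set_option linter.unusedSectionVars false

/-! A non-abelian subgroup of order `27` and exponent `3` of `GL₃(F)` is conjugate to the standard
group generated by the clock and shift matrices. -/

namespace Cfsg.Agent.H9.Ex27

open Matrix Module Cfsg.Agent.Lib.Helper8.Singer3

section proj

variable {F : Type*} [Field F]

/-- the projection of `v` to the `l`-eigenspace of a matrix of cube one -/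
def projv (M : Matrix (Fin 3) (Fin 3) F) (l : F) (v : Fin 3 → F) : Fin 3 → F :=
  (3 : F)⁻¹ • (v + (l ^ 2) • (M *ᵥ v) + l • (M *ᵥ (M *ᵥ v)))

theorem mulVec_projv (M : Matrix (Fin 3) (Fin 3) F) (hM : M * M * M = 1) (l : F) (hl : l ^ 3 = 1)
    (v : Fin 3 → F) : M *ᵥ projv M l v = l • projv M l v := by
  have hMv : ∀ w : Fin 3 → F, M *ᵥ (M *ᵥ (M *ᵥ w)) = w := by
    intro w
    rw [Matrix.mulVec_mulVec, Matrix.mulVec_mulVec, hM, Matrix.one_mulVec]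
  unfold projv
  rw [Matrix.mulVec_smul, Matrix.mulVec_add, Matrix.mulVec_add, Matrix.mulVec_smul,
    Matrix.mulVec_smul, hMv, smul_comm l (3 : F)⁻¹]
  congr 1
  rw [smul_add, smul_add, smul_smul, smul_smul]
  have e1 : l * l ^ 2 = 1 := by rw [← pow_succ']; exact hl
  have e2 : l * l = l ^ 2 := (pow_two l).symm
  rw [e1, one_smul, e2]
  abel

theorem projv_sum (h3 : (3 : F) ≠ 0) (ω : F) (hω : ω ^ 2 + ω + 1 = 0)
    (M : Matrix (Fin 3) (Fin 3) F) (v : Fin 3 → F) :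
    v = projv M 1 v + projv M ω v + projv M (ω ^ 2) v := by
  have hω3 : ω ^ 3 = 1 := by linear_combination (ω - 1) * hω
  unfold projv
  rw [← smul_add, ← smul_add]
  have h4 : (ω ^ 2) ^ 2 = ω := by linear_combination ω * hω3
  rw [h4, one_pow, one_smul, one_smul]
  have : v + M *ᵥ v + M *ᵥ (M *ᵥ v) + (v + (ω ^ 2) • (M *ᵥ v) + ω • (M *ᵥ (M *ᵥ v)))
      + (v + ω • (M *ᵥ v) + (ω ^ 2) • (M *ᵥ (M *ᵥ v)))
      = (3 : F) • v + (ω ^ 2 + ω + 1) • (M *ᵥ v) + (ω ^ 2 + ω + 1) • (M *ᵥ (M *ᵥ v)) := by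
    simp only [add_smul, one_smul]
    have : (3 : F) • v = v + v + v := by
      have : (3 : F) = 1 + 1 + 1 := by norm_num
      rw [this, add_smul, add_smul, one_smul]
    rw [this]
    abel
  rw [this, hω, zero_smul, zero_smul, add_zero, add_zero, smul_smul, inv_mul_cancel₀ h3, one_smul]

/-- a matrix commuting with `M` commutes with the projections -/
theorem mulVec_projv_comm (M N : Matrix (Fin 3) (Fin 3) F) (hNM : N * M = M * N) (l : F)
    (v : Fin 3 → F) : N *ᵥ projv M l v = projv M l (N *ᵥ v) := by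
  have h1 : ∀ w : Fin 3 → F, N *ᵥ (M *ᵥ w) = M *ᵥ (N *ᵥ w) := by
    intro w
    rw [Matrix.mulVec_mulVec, Matrix.mulVec_mulVec, hNM]
  unfold projv
  rw [Matrix.mulVec_smul, Matrix.mulVec_add, Matrix.mulVec_add, Matrix.mulVec_smul,
    Matrix.mulVec_smul, h1, h1, h1]

/-- common eigenvectors for commuting matrices of cube one, with a non-trivial eigenvalue for the first -/
theorem exists_common_eigen (h3 : (3 : F) ≠ 0) (ω : F) (hω : ω ^ 2 + ω + 1 = 0)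
    (B C : Matrix (Fin 3) (Fin 3) F) (hB : B * B * B = 1) (hC : C * C * C = 1)
    (hCB : C * B = B * C) (hC1 : C ≠ 1) :
    ∃ (γ β : F) (v : Fin 3 → F), γ ^ 2 + γ + 1 = 0 ∧ β ^ 3 = 1 ∧ v ≠ 0 ∧ C *ᵥ v = γ • v ∧
      B *ᵥ v = β • v := by
  have hω3 : ω ^ 3 = 1 := by linear_combination (ω - 1) * hω
  have hω23 : (ω ^ 2) ^ 3 = 1 := by rw [← pow_mul, mul_comm, pow_mul, hω3, one_pow]
  have hω2 : (ω ^ 2) ^ 2 + ω ^ 2 + 1 = 0 := by linear_combination (ω ^ 2 - ω + 1) * hω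
  -- a non-trivial eigenvector of `C`
  obtain ⟨γ, hγ, u, hu0, hCu⟩ : ∃ γ : F, γ ^ 2 + γ + 1 = 0 ∧ ∃ u : Fin 3 → F, u ≠ 0 ∧
      C *ᵥ u = γ • u := by
    by_contra hcon
    push Not at hcon
    apply hC1
    have hz1 : ∀ w, projv C ω w = 0 := by
      intro w
      by_contra hne
      exact hcon ω hω _ hne (mulVec_projv C hC ω hω3 w)
    have hz2 : ∀ w, projv C (ω ^ 2) w = 0 := by
      intro w
      by_contra hne
      exact hcon (ω ^ 2) hω2 _ hne (mulVec_projv C hC (ω ^ 2) hω23 w)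
    apply Matrix.toLin'.injective
    apply LinearMap.ext
    intro w
    rw [Matrix.toLin'_apply, Matrix.toLin'_one, LinearMap.id_apply]
    have hw := projv_sum h3 ω hω C w
    rw [hz1, hz2, add_zero, add_zero] at hw
    have := mulVec_projv C hC 1 (one_pow 3) w
    rw [← hw, one_smul] at this
    exact this
  -- decompose under `B`
  have hu := projv_sum h3 ω hω B u
  have hγ3 : γ ^ 3 = 1 := by linear_combination (γ - 1) * hγ
  have hCproj : ∀ l, C *ᵥ projv B l u = γ • projv B l u := by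
    intro l
    rw [mulVec_projv_comm B C hCB, hCu]
    unfold projv
    rw [Matrix.mulVec_smul, Matrix.mulVec_smul, smul_comm γ (3 : F)⁻¹]
    congr 1
    rw [smul_add, smul_add, smul_comm γ (l ^ 2), smul_comm γ l]
  by_cases h1 : projv B 1 u = 0
  · by_cases h2 : projv B ω u = 0
    · have h3' : projv B (ω ^ 2) u ≠ 0 := by
        intro h
        rw [h1, h2, h, add_zero, add_zero] at hu
        exact hu0 hu
      exact ⟨γ, ω ^ 2, _, hγ, hω23, h3', hCproj _, mulVec_projv B hB _ hω23 u⟩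
    · exact ⟨γ, ω, _, hγ, hω3, h2, hCproj _, mulVec_projv B hB _ hω3 u⟩
  · exact ⟨γ, 1, _, hγ, one_pow 3, h1, hCproj _, mulVec_projv B hB _ (one_pow 3) u⟩

/-- the standard form of a pair of matrices of cube one with central non-trivial commutator -/
theorem exists_std_matrix (h3 : (3 : F) ≠ 0) (ω₀ : F) (hω₀ : ω₀ ^ 2 + ω₀ + 1 = 0)
    (A B C : Matrix (Fin 3) (Fin 3) F) (hA : A * A * A = 1) (hB : B * B * B = 1)
    (hC : C * C * C = 1) (hCA : C * A = A * C) (hCB : C * B = B * C) (hABC : A * B = C * B * A)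
    (hC1 : C ≠ 1) :
    ∃ (γ β ζ : F) (G : GL (Fin 3) F), γ ^ 2 + γ + 1 = 0 ∧ ζ ^ 2 + ζ + 1 = 0 ∧ β ^ 3 = 1 ∧
      C = γ • (1 : Matrix (Fin 3) (Fin 3) F) ∧
      A * (G : Matrix (Fin 3) (Fin 3) F) = (G : Matrix (Fin 3) (Fin 3) F) * Xm ∧
      B * (G : Matrix (Fin 3) (Fin 3) F)
        = (G : Matrix (Fin 3) (Fin 3) F) * (β • Matrix.diagonal (Yd ζ)) := by
  classical
  obtain ⟨γ, β, v, hγ, hβ, hv0, hCv, hBv⟩ := exists_common_eigen h3 ω₀ hω₀ B C hB hC hCB hC1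
  have hγ3 : γ ^ 3 = 1 := by linear_combination (γ - 1) * hγ
  obtain ⟨ζ, hζdef⟩ : ∃ ζ : F, ζ = γ ^ 2 := ⟨_, rfl⟩
  have hζ : ζ ^ 2 + ζ + 1 = 0 := by rw [hζdef]; linear_combination (γ ^ 2 - γ + 1) * hγ
  have hC3v : ∀ w : Fin 3 → F, C *ᵥ (C *ᵥ (C *ᵥ w)) = w := by
    intro w
    rw [Matrix.mulVec_mulVec, Matrix.mulVec_mulVec, hC, Matrix.one_mulVec]
  have hA3v : ∀ w : Fin 3 → F, A *ᵥ (A *ᵥ (A *ᵥ w)) = w := by
    intro w
    rw [Matrix.mulVec_mulVec, Matrix.mulVec_mulVec, hA, Matrix.one_mulVec]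
  have step : ∀ (w : Fin 3 → F) (μ : F), C *ᵥ w = γ • w → B *ᵥ w = μ • w →
      C *ᵥ (A *ᵥ w) = γ • (A *ᵥ w) ∧ B *ᵥ (A *ᵥ w) = (μ * ζ) • (A *ᵥ w) := by
    intro w μ hCw hBw
    have h1 : C *ᵥ (A *ᵥ w) = γ • (A *ᵥ w) := by
      rw [Matrix.mulVec_mulVec, hCA, ← Matrix.mulVec_mulVec, hCw, Matrix.mulVec_smul]
    refine ⟨h1, ?_⟩
    have h2 : C *ᵥ (B *ᵥ (A *ᵥ w)) = μ • (A *ᵥ w) := by
      rw [Matrix.mulVec_mulVec, Matrix.mulVec_mulVec, ← hABC,
        ← Matrix.mulVec_mulVec, hBw, Matrix.mulVec_smul]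
    have h3' := hC3v (B *ᵥ (A *ᵥ w))
    rw [h2, Matrix.mulVec_smul, Matrix.mulVec_smul, h1, Matrix.mulVec_smul, h1, smul_smul,
      smul_smul] at h3'
    rw [← h3', hζdef, pow_two]
    congr 1
    ring
  obtain ⟨hC1', hB1⟩ := step v β hCv hBv
  obtain ⟨hC2, hB2⟩ := step (A *ᵥ v) (β * ζ) hC1' hB1
  have hAinj : ∀ w : Fin 3 → F, w ≠ 0 → A *ᵥ w ≠ 0 := by
    intro w hw h
    apply hw
    rw [← hA3v w, h, Matrix.mulVec_zero, Matrix.mulVec_zero]
  have hv1 : A *ᵥ v ≠ 0 := hAinj v hv0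
  have hv2 : A *ᵥ (A *ᵥ v) ≠ 0 := hAinj _ hv1
  set M : Matrix (Fin 3) (Fin 3) F := (β ^ 2) • B with hM
  have hM0 : M *ᵥ v = v := by
    rw [hM, Matrix.smul_mulVec, hBv, smul_smul]
    have : β ^ 2 * β = 1 := by rw [← pow_succ]; exact hβ
    rw [this, one_smul]
  have hM1 : M *ᵥ (A *ᵥ v) = ζ • (A *ᵥ v) := by
    rw [hM, Matrix.smul_mulVec, hB1, smul_smul]
    congr 1
    linear_combination ζ * hβ
  have hM2 : M *ᵥ (A *ᵥ (A *ᵥ v)) = (ζ ^ 2) • (A *ᵥ (A *ᵥ v)) := by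
    rw [hM, Matrix.smul_mulVec, hB2, smul_smul]
    congr 1
    linear_combination ζ ^ 2 * hβ
  obtain ⟨bs, hbs0, hbs1, hbs2⟩ := exists_basis_of_hasEig3 h3 ζ hζ M v (A *ᵥ v) (A *ᵥ (A *ᵥ v))
    hv0 hv1 hv2 hM0 hM1 hM2
  let GM : Matrix (Fin 3) (Fin 3) F := (Pi.basisFun F (Fin 3)).toMatrix bs
  have hGM : ∀ i j, GM i j = bs j i := by
    intro i j
    show (Pi.basisFun F (Fin 3)).repr (bs j) i = bs j i
    rw [Pi.basisFun_repr]
  haveI : Invertible GM := (Pi.basisFun F (Fin 3)).invertibleToMatrix bs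
  have hcol : ∀ (N : Matrix (Fin 3) (Fin 3) F) (i j : Fin 3), (N * GM) i j = (N *ᵥ bs j) i := by
    intro N i j
    rw [Matrix.mul_apply, Matrix.mulVec, dotProduct]
    simp only [hGM]
  have hCG : C * GM = (γ • (1 : Matrix (Fin 3) (Fin 3) F)) * GM := by
    ext i j
    rw [hcol, Matrix.smul_mul, Matrix.one_mul, Matrix.smul_apply, hGM]
    fin_cases j
    · show (C *ᵥ bs 0) i = γ • bs 0 i
      rw [hbs0, hCv]; rfl
    · show (C *ᵥ bs 1) i = γ • bs 1 i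
      rw [hbs1, hC1']; rfl
    · show (C *ᵥ bs 2) i = γ • bs 2 i
      rw [hbs2, hC2]; rfl
  have hunit : IsUnit GM := isUnit_of_invertible GM
  refine ⟨γ, β, ζ, unitOfInvertible GM, hγ, hζ, hβ, hunit.mul_left_inj.1 hCG, ?_, ?_⟩
  · show A * GM = GM * Xm
    ext i j
    rw [hcol]
    fin_cases j
    · show (A *ᵥ bs 0) i = (GM * (Xm : Matrix (Fin 3) (Fin 3) F)) i 0
      rw [hbs0, ← hbs1]
      simp [Xm, Matrix.mul_apply, Fin.sum_univ_three, hGM]
    · show (A *ᵥ bs 1) i = (GM * (Xm : Matrix (Fin 3) (Fin 3) F)) i 1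
      rw [hbs1, ← hbs2]
      simp [Xm, Matrix.mul_apply, Fin.sum_univ_three, hGM]
    · show (A *ᵥ bs 2) i = (GM * (Xm : Matrix (Fin 3) (Fin 3) F)) i 2
      rw [hbs2, hA3v, ← hbs0]
      simp [Xm, Matrix.mul_apply, Fin.sum_univ_three, hGM]
  · show B * GM = GM * (β • Matrix.diagonal (Yd ζ))
    ext i j
    rw [hcol, Matrix.mul_smul, Matrix.smul_apply, Matrix.mul_diagonal, hGM]
    fin_cases j
    · show (B *ᵥ bs 0) i = β • (bs 0 i * 1)
      rw [hbs0, hBv, mul_one]; rfl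
    · show (B *ᵥ bs 1) i = β • (bs 1 i * ζ)
      rw [hbs1, hB1, Pi.smul_apply, smul_eq_mul, smul_eq_mul]
      ring
    · show (B *ᵥ bs 2) i = β • (bs 2 i * ζ ^ 2)
      rw [hbs2, hB2, Pi.smul_apply, smul_eq_mul, smul_eq_mul]
      ring

end proj

end Cfsg.Agent.H9.Ex27
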