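import Mathlib
import Cfsg.Agent.H9.Ex27E

set_option autoImplicit false
set_option linter.style.haveILetI false
set_option linter.unusedSectionVars false

/-! A non-abelian subgroup of order `27` and exponent `3` of `GL₃(F)` is conjugate to the standard
group. -/

namespace Cfsg.Agent.H9.Ex27

open Matrix

section grp

/-- a subgroup of a group of order `27` containing a non-commuting pair is everything -/
theorem eq_top_of_noncomm {H : Type*} [Group H] (hH : Nat.card H = 27) (S : Subgroup H) (x y : H)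
    (hx : x ∈ S) (hy : y ∈ S) (hxy : x * y ≠ y * x) : S = ⊤ := by
  haveI : Finite H := Nat.finite_of_card_ne_zero (by rw [hH]; norm_num)
  haveI : Fact (Nat.Prime 3) := ⟨Nat.prime_three⟩
  have hdvd : Nat.card S ∣ 3 ^ 3 := by
    have := Subgroup.card_subgroup_dvd_card S
    rw [hH] at this
    norm_num
    exact this
  obtain ⟨k, hk3, hk⟩ := (Nat.dvd_prime_pow Nat.prime_three).1 hdvd
  have hcomm_contra : (∀ u v : S, u * v = v * u) → False := by
    intro h
    apply hxy
    have := congrArg Subtype.val (h ⟨x, hx⟩ ⟨y, hy⟩)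
    exact this
  have hk' : k = 0 ∨ k = 1 ∨ k = 2 ∨ k = 3 := by omega
  rcases hk' with rfl | rfl | rfl | rfl
  · exfalso
    apply hcomm_contra
    rw [pow_zero] at hk
    haveI : Subsingleton S := (Nat.card_eq_one_iff_unique.1 hk).1
    intro u v
    exact Subsingleton.elim _ _
  · exfalso
    apply hcomm_contra
    rw [pow_one] at hk
    haveI : IsCyclic S := isCyclic_of_prime_card hk
    exact isMulCommutative_iff.1 (MonoidHom.isMulCommutative_of_isCyclic_of_ker_le_center
      (MonoidHom.id S) (by rw [MonoidHom.ker_id]; exact bot_le))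
  · exfalso
    apply hcomm_contra
    exact isMulCommutative_iff.1 (IsPGroup.isMulCommutative_of_card_eq_prime_sq hk)
  · apply Subgroup.eq_top_of_card_eq
    rw [hk, hH]
    norm_num

end grp

section form

variable {F : Type*} [Field F] [Fintype F] [DecidableEq F]

theorem exists_std_form (h3 : (3 : F) ≠ 0) (ω₀ : F) (hω₀ : ω₀ ^ 2 + ω₀ + 1 = 0)
    (R : Subgroup (GL (Fin 3) F)) (hR : Nat.card R = 27) (hRe : Monoid.exponent R = 3)
    (hRna : ¬ IsMulCommutative R) :
    ∃ (ω : F) (hω0 : ω ≠ 0) (G₀ : GL (Fin 3) F), ω ^ 2 + ω + 1 = 0 ∧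
      R = (Rstd ω hω0).map (MulAut.conj G₀).toMonoidHom := by
  classical
  have hex : ∃ a b : R, a * b ≠ b * a := by
    by_contra h
    push Not at h
    exact hRna (isMulCommutative_iff.2 h)
  obtain ⟨a, b, hab⟩ := hex
  haveI : Fact (Nat.Prime 3) := ⟨Nat.prime_three⟩
  have hcz := comm_mem_center_of_card_cube 3 (by rw [hR]; norm_num) a b
  obtain ⟨c, hcdef⟩ : ∃ c : R, c = a * b * a⁻¹ * b⁻¹ := ⟨_, rfl⟩
  rw [← hcdef] at hcz
  have hc1 : c ≠ 1 := by
    intro h
    apply hab
    rw [hcdef] at h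
    have : a * b = (a * b * a⁻¹ * b⁻¹) * (b * a) := by group
    rw [this, h, one_mul]
  have hpow : ∀ g : R, g ^ 3 = 1 := fun g => by
    have := Monoid.pow_exponent_eq_one g
    rwa [hRe] at this
  have hcomm_c : ∀ g : R, g * c = c * g := fun g => Subgroup.mem_center_iff.1 hcz g
  have habc : a * b = c * b * a := by rw [hcdef]; group
  -- the matrix homomorphism
  let φ : R →* Matrix (Fin 3) (Fin 3) F := (Units.coeHom _).comp R.subtype
  have hφ : ∀ g : R, φ g = ((g : GL (Fin 3) F) : Matrix (Fin 3) (Fin 3) F) := fun g => rfl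
  have hφinj : Function.Injective φ := by
    intro g h hgh
    apply Subtype.ext
    apply Units.ext
    exact hgh
  have hcube : ∀ g : R, φ g * φ g * φ g = 1 := by
    intro g
    rw [← map_mul, ← map_mul, ← pow_three', hpow, map_one]
  have hC1 : φ c ≠ 1 := by
    intro h
    apply hc1
    apply hφinj
    rw [h, map_one]
  obtain ⟨γ, β, ζ, G, hγ, hζ, hβ, hCγ, hAG, hBG⟩ := exists_std_matrix h3 ω₀ hω₀ (φ a) (φ b) (φ c)
    (hcube a) (hcube b) (hcube c)
    (by rw [← map_mul, ← map_mul, hcomm_c a])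
    (by rw [← map_mul, ← map_mul, hcomm_c b])
    (by rw [← map_mul, ← map_mul, ← map_mul, habc]) hC1
  have hγ3 : γ ^ 3 = 1 := by linear_combination (γ - 1) * hγ
  have hζ0 : ζ ≠ 0 := by
    intro h
    rw [h] at hζ
    simp at hζ
  obtain ⟨j, hj⟩ : ∃ j : ℕ, γ ^ j * β = 1 := by
    rcases cube_root_cases γ hγ β hβ with h | h | h
    · exact ⟨0, by rw [h, pow_zero, mul_one]⟩
    · exact ⟨2, by rw [h, ← pow_succ]; exact hγ3⟩
    · exact ⟨1, by rw [h, pow_one, ← pow_succ']; exact hγ3⟩
  obtain ⟨b', hb'⟩ : ∃ b' : R, b' = c ^ j * b := ⟨_, rfl⟩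
  have hφb' : φ b' * (G : Matrix (Fin 3) (Fin 3) F)
      = (G : Matrix (Fin 3) (Fin 3) F) * Matrix.diagonal (Yd ζ) := by
    rw [hb', map_mul, map_pow, hCγ, smul_pow, one_pow, Matrix.smul_mul, Matrix.one_mul,
      Matrix.smul_mul, hBG, Matrix.mul_smul, smul_smul, hj, one_smul]
  -- group level
  have haG : (a : GL (Fin 3) F) = G * Xg * G⁻¹ := by
    rw [eq_mul_inv_iff_mul_eq]
    apply Units.ext
    rw [Units.val_mul, Units.val_mul, Xg_val]
    exact hAG
  have hbG : (b' : GL (Fin 3) F) = G * Yg ζ hζ0 * G⁻¹ := by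
    rw [eq_mul_inv_iff_mul_eq]
    apply Units.ext
    rw [Units.val_mul, Units.val_mul]
    exact hφb'
  have hle : (Rstd ζ hζ0).map (MulAut.conj G).toMonoidHom ≤ R := by
    rw [Subgroup.map_le_iff_le_comap]
    unfold Rstd
    rw [Subgroup.closure_le]
    intro s hs
    rw [SetLike.mem_coe, Subgroup.mem_comap]
    rcases hs with rfl | rfl
    · show G * Xg * G⁻¹ ∈ R
      rw [← haG]
      exact a.2
    · show G * Yg ζ hζ0 * G⁻¹ ∈ R
      rw [← hbG]
      exact b'.2
  refine ⟨ζ, hζ0, G, hζ, ?_⟩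
  -- equality by non-commutativity
  have hab' : a * b' ≠ b' * a := by
    intro h
    apply hab
    rw [hb'] at h
    have hcj : ∀ g : R, g * c ^ j = c ^ j * g := by
      intro g
      have : Commute g c := hcomm_c g
      exact (this.pow_right j).eq
    have h1 : c ^ j * (a * b) = c ^ j * (b * a) := by
      calc c ^ j * (a * b) = a * c ^ j * b := by rw [hcj a]; group
        _ = a * (c ^ j * b) := by group
        _ = c ^ j * b * a := h
        _ = c ^ j * (b * a) := by group
    exact mul_left_cancel h1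
  have htop := eq_top_of_noncomm hR (((Rstd ζ hζ0).map (MulAut.conj G).toMonoidHom).subgroupOf R)
    a b' (by
      rw [Subgroup.mem_subgroupOf, haG]
      exact ⟨Xg, Xg_mem ζ hζ0, rfl⟩) (by
      rw [Subgroup.mem_subgroupOf, hbG]
      exact ⟨Yg ζ hζ0, Yg_mem ζ hζ0, rfl⟩) hab'
  rw [Subgroup.subgroupOf_eq_top] at htop
  exact le_antisymm htop hle

end form

end Cfsg.Agent.H9.Ex27
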