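import Mathlib
import Cfsg.Agent.H9.Ex27F

set_option autoImplicit false
set_option linter.style.haveILetI false
set_option linter.unusedSectionVars false

/-! Explicit `GL₃`-conjugates of elements with scalar cube or square (the targets of `conj_cube`,
`conj_sq`, exposed). -/

namespace Cfsg.Agent.H9.Ex27

open Matrix Cfsg.Agent.Lib.Helper8.Singer3

section conjG

variable {F : Type*} [Field F] [Fintype F] [DecidableEq F]

/-- an element whose cube is the scalar `c ^ 3` is conjugate to `c • diag(d)` with `d i ^ 3 = 1` -/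
theorem exists_conj_diag_of_cube (h3 : (3 : F) ≠ 0) (ω : F) (hω : ω ^ 2 + ω + 1 = 0)
    (x : GL (Fin 3) F) (c : F) (hc0 : c ≠ 0)
    (hx : (x : Matrix (Fin 3) (Fin 3) F) * x * x = (c ^ 3) • (1 : Matrix (Fin 3) (Fin 3) F)) :
    ∃ (k₀ : GL (Fin 3) F) (d : Fin 3 → F) (hcd0 : ∀ i, c * d i ≠ 0), (∀ i, d i ^ 3 = 1) ∧
      k₀⁻¹ * x * k₀ = diagG (fun i => c * d i) hcd0 := by
  set y : Matrix (Fin 3) (Fin 3) F := c⁻¹ • (x : Matrix (Fin 3) (Fin 3) F) with hy
  have hy3 : y * y * y = 1 := by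
    rw [hy]
    simp only [Matrix.smul_mul, Matrix.mul_smul, smul_smul]
    rw [hx, smul_smul]
    have : c⁻¹ * (c⁻¹ * c⁻¹) * c ^ 3 = 1 := by field_simp
    rw [this, one_smul]
  obtain ⟨k₀, d, hkd, hev⟩ := exists_diag_of_iSup y (iSup_eigenspace_of_cube h3 ω hω y hy3)
  have hd3 : ∀ i, d i ^ 3 = 1 := by
    intro i
    obtain ⟨v, hv0, hv⟩ := hev i
    have h1 : y *ᵥ (y *ᵥ (y *ᵥ v)) = v := by
      rw [Matrix.mulVec_mulVec, Matrix.mulVec_mulVec, hy3, Matrix.one_mulVec]
    rw [hv, Matrix.mulVec_smul, hv, Matrix.mulVec_smul, Matrix.mulVec_smul, hv, smul_smul,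
      smul_smul] at h1
    have h2 : (d i * d i * d i - 1) • v = 0 := by rw [sub_smul, h1, one_smul, sub_self]
    rcases smul_eq_zero.1 h2 with h | h
    · linear_combination h
    · exact absurd h hv0
  have hd0 : ∀ i, d i ≠ 0 := by
    intro i h
    have := hd3 i
    rw [h] at this
    simp at this
  have hcd0 : ∀ i, c * d i ≠ 0 := fun i => mul_ne_zero hc0 (hd0 i)
  refine ⟨k₀, d, hcd0, hd3, ?_⟩
  rw [mul_assoc, inv_mul_eq_iff_eq_mul]
  apply Units.ext
  rw [Units.val_mul, Units.val_mul, diagG_val]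
  have hxy : (x : Matrix (Fin 3) (Fin 3) F) = c • y := by
    rw [hy, smul_smul, mul_inv_cancel₀ hc0, one_smul]
  rw [hxy, Matrix.smul_mul, hkd]
  have : Matrix.diagonal (fun i => c * d i) = c • Matrix.diagonal d := by
    ext i j
    by_cases hij : i = j
    · subst hij; simp
    · simp [hij]
  rw [this, Matrix.mul_smul]

/-- a nonscalar element whose square is the scalar `c ^ 2` and whose determinant is `c ^ 3` is
conjugate to `c • Pm` -/
theorem exists_conj_Pg_of_sq (h2 : (2 : F) ≠ 0)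
    (x : GL (Fin 3) F) (c : F) (hc0 : c ≠ 0)
    (hx : (x : Matrix (Fin 3) (Fin 3) F) * x = (c ^ 2) • (1 : Matrix (Fin 3) (Fin 3) F))
    (hdet : (x : Matrix (Fin 3) (Fin 3) F).det = c ^ 3)
    (hns : ∀ z : F, (x : Matrix (Fin 3) (Fin 3) F) ≠ z • (1 : Matrix (Fin 3) (Fin 3) F)) :
    ∃ k₀ : GL (Fin 3) F, k₀⁻¹ * x * k₀ = diagG (fun _ => c) (fun _ => hc0) * Pg := by
  set y : Matrix (Fin 3) (Fin 3) F := c⁻¹ • (x : Matrix (Fin 3) (Fin 3) F) with hy
  have hxy : (x : Matrix (Fin 3) (Fin 3) F) = c • y := by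
    rw [hy, smul_smul, mul_inv_cancel₀ hc0, one_smul]
  have hy2 : y * y = 1 := by
    rw [hy]
    simp only [Matrix.smul_mul, Matrix.mul_smul, smul_smul]
    rw [hx, smul_smul]
    have : c⁻¹ * c⁻¹ * c ^ 2 = 1 := by field_simp
    rw [this, one_smul]
  have hydet : y.det = 1 := by
    rw [hy, Matrix.det_smul, hdet, Fintype.card_fin]
    field_simp
  obtain ⟨k₀, ε, hkd, hev⟩ := exists_diag_of_iSup y (iSup_eigenspace_of_sq h2 y hy2)
  have hε : ∀ i, ε i = 1 ∨ ε i = -1 := by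
    intro i
    obtain ⟨v, hv0, hv⟩ := hev i
    have h1 : y *ᵥ (y *ᵥ v) = v := by
      rw [Matrix.mulVec_mulVec, hy2, Matrix.one_mulVec]
    rw [hv, Matrix.mulVec_smul, hv, smul_smul] at h1
    have h2' : (ε i * ε i - 1) • v = 0 := by rw [sub_smul, h1, one_smul, sub_self]
    rcases smul_eq_zero.1 h2' with h | h
    · have : (ε i - 1) * (ε i + 1) = 0 := by linear_combination h
      rcases mul_eq_zero.1 this with h' | h'
      · left; linear_combination h'
      · right; linear_combination h'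
    · exact absurd h hv0
  have hε0 : ∀ i, ε i ≠ 0 := by
    intro i
    rcases hε i with h | h <;> rw [h]
    · exact one_ne_zero
    · exact neg_ne_zero.2 one_ne_zero
  have hk₀det : (k₀ : Matrix (Fin 3) (Fin 3) F).det ≠ 0 := by
    have := (Matrix.GeneralLinearGroup.det k₀).ne_zero
    rwa [Matrix.GeneralLinearGroup.val_det_apply] at this
  have hprod : ε 0 * ε 1 * ε 2 = 1 := by
    have h1 := congrArg Matrix.det hkd
    rw [Matrix.det_mul, Matrix.det_mul, Matrix.det_diagonal, Fin.prod_univ_three, hydet, one_mul] at h1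
    have : (k₀ : Matrix (Fin 3) (Fin 3) F).det * (ε 0 * ε 1 * ε 2 - 1) = 0 := by
      linear_combination -h1
    rcases mul_eq_zero.1 this with h | h
    · exact absurd h hk₀det
    · linear_combination h
  have hne : ¬ (ε 0 = ε 1 ∧ ε 1 = ε 2) := by
    rintro ⟨h01, h12⟩
    apply hns (c * ε 0)
    have hdiag : Matrix.diagonal ε = ε 0 • (1 : Matrix (Fin 3) (Fin 3) F) := by
      ext i j
      fin_cases i <;> fin_cases j <;> simp [← h12, ← h01]
    have h1 : y * (k₀ : Matrix (Fin 3) (Fin 3) F)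
        = (ε 0 • (1 : Matrix (Fin 3) (Fin 3) F)) * (k₀ : Matrix (Fin 3) (Fin 3) F) := by
      rw [hkd, hdiag, Matrix.mul_smul, Matrix.mul_one, Matrix.smul_mul, Matrix.one_mul]
    have hunit : IsUnit (k₀ : Matrix (Fin 3) (Fin 3) F) := ⟨k₀, rfl⟩
    have h3 : y = ε 0 • (1 : Matrix (Fin 3) (Fin 3) F) := hunit.mul_left_inj.1 h1
    rw [hxy, h3, smul_smul]
  obtain ⟨m, hm⟩ := exists_Pm_conj h2 ε hε hprod hne
  -- the diagonal form
  have hE : x * k₀ = k₀ * (diagG (fun _ => c) (fun _ => hc0) * diagG ε hε0) := by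
    apply Units.ext
    rw [Units.val_mul, Units.val_mul, Units.val_mul, diagG_val, diagG_val, hxy, Matrix.smul_mul, hkd]
    have : Matrix.diagonal (fun _ : Fin 3 => c) = c • (1 : Matrix (Fin 3) (Fin 3) F) := by
      ext i j
      by_cases hij : i = j
      · subst hij; simp
      · simp [hij]
    rw [this, Matrix.smul_mul, Matrix.one_mul, Matrix.mul_smul]
  have hPm : Pg * m = m * diagG ε hε0 := by
    apply Units.ext
    rw [Units.val_mul, Units.val_mul, Pg_val, diagG_val]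
    exact hm
  refine ⟨k₀ * m⁻¹, ?_⟩
  have h1 : (k₀ * m⁻¹)⁻¹ * x * (k₀ * m⁻¹) = m * (k₀⁻¹ * (x * k₀)) * m⁻¹ := by group
  rw [h1, hE, inv_mul_cancel_left, ← mul_assoc, ← scalarG_comm, mul_assoc, mul_assoc,
    ← mul_assoc m, ← hPm]
  group

end conjG

end Cfsg.Agent.H9.Ex27
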