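import Mathlib
import Cfsg.Agent.H9.RegNil

set_option autoImplicit false

/-!
Regular nilpotent endomorphisms, part 2: cyclic vectors and the commutant.
-/

namespace Cfsg.Agent.H9.RegNil

open Module

variable {F V : Type*} [Field F] [AddCommGroup V] [Module F V] [FiniteDimensional F V]

theorem exists_cyc {n : ℕ} (hV : finrank F V = n) (f : V →ₗ[F] V) (hnil : f ^ n = 0)
    (hreg : finrank F (LinearMap.ker f) ≤ 1) (hn : 1 ≤ n) : ∃ v, (f ^ (n - 1)) v ≠ 0 := by
  by_contra hcon
  push Not at hcon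
  have h1 : LinearMap.ker (f ^ (n - 1)) = ⊤ := by
    rw [eq_top_iff]
    intro v _
    exact hcon v
  have h2 := finrank_ker_pow_eq hV f hnil hreg (n - 1) (Nat.sub_le n 1)
  rw [h1, finrank_top, hV] at h2
  omega

theorem linInd_pow {n : ℕ} (f : V →ₗ[F] V) (hnil : f ^ n = 0) (v : V) (hv : (f ^ (n - 1)) v ≠ 0) :
    LinearIndependent F (fun i : Fin n => (f ^ (i : ℕ)) v) := by
  rw [Fintype.linearIndependent_iff]
  intro g hg
  have key : ∀ k : ℕ, ∀ i : Fin n, (i : ℕ) = k → g i = 0 := by
    intro k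
    induction k using Nat.strong_induction_on with
    | _ k ih =>
      intro i hik
      have h1 := congrArg (f ^ (n - 1 - k)) hg
      rw [map_sum, map_zero, Finset.sum_eq_single i] at h1
      · rw [map_smul, ← Module.End.mul_apply, ← pow_add] at h1
        have h2 : n - 1 - k + (i : ℕ) = n - 1 := by have := i.2; omega
        rw [h2] at h1
        exact (smul_eq_zero.1 h1).resolve_right hv
      · intro j _ hji
        rw [map_smul, ← Module.End.mul_apply, ← pow_add]
        rcases lt_or_gt_of_ne (fun h : (j : ℕ) = (i : ℕ) => hji (Fin.ext h)) with h | h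
        · rw [ih j (by omega) j rfl, zero_smul]
        · have h3 : n - 1 - k + (j : ℕ) = n + ((j : ℕ) - (i : ℕ) - 1) := by have := i.2; omega
          rw [h3, pow_add, hnil, zero_mul, LinearMap.zero_apply, smul_zero]
      · intro h; exact absurd (Finset.mem_univ i) h
  intro i
  exact key i i rfl

/-- the basis `v, f v, …, f^(n-1) v`. -/
noncomputable def cycBasis {n : ℕ} (hV : finrank F V = n) (f : V →ₗ[F] V) (hnil : f ^ n = 0) (v : V)
    (hv : (f ^ (n - 1)) v ≠ 0) : Basis (Fin n) F V :=
  haveI : Nonempty (Fin n) := by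
    rcases Nat.eq_zero_or_pos n with h | h
    · exfalso
      subst h
      have : Subsingleton V := Module.finrank_zero_iff.1 hV
      exact hv (Subsingleton.elim _ _)
    · exact ⟨⟨0, h⟩⟩
  basisOfLinearIndependentOfCardEqFinrank (linInd_pow f hnil v hv) (by rw [Fintype.card_fin, hV])

theorem cycBasis_apply {n : ℕ} (hV : finrank F V = n) (f : V →ₗ[F] V) (hnil : f ^ n = 0) (v : V)
    (hv : (f ^ (n - 1)) v ≠ 0) (i : Fin n) : cycBasis hV f hnil v hv i = (f ^ (i : ℕ)) v := by
  unfold cycBasis
  simp only [coe_basisOfLinearIndependentOfCardEqFinrank]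

/-- an endomorphism commuting with `f` is determined by its value at a cyclic vector. -/
theorem eq_of_commute_of_apply_cyc {n : ℕ} (hV : finrank F V = n) (f : V →ₗ[F] V) (hnil : f ^ n = 0) (v : V)
    (hv : (f ^ (n - 1)) v ≠ 0) (c c' : V →ₗ[F] V) (hc : Commute c f) (hc' : Commute c' f) (h : c v = c' v) :
    c = c' := by
  apply (cycBasis hV f hnil v hv).ext
  intro i
  rw [cycBasis_apply]
  have h1 : c ((f ^ (i : ℕ)) v) = (f ^ (i : ℕ)) (c v) := by
    have := (hc.pow_right (i : ℕ)).eq
    have h := congrArg (fun φ : V →ₗ[F] V => φ v) this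
    simpa [Module.End.mul_apply] using h
  have h2 : c' ((f ^ (i : ℕ)) v) = (f ^ (i : ℕ)) (c' v) := by
    have := (hc'.pow_right (i : ℕ)).eq
    have h := congrArg (fun φ : V →ₗ[F] V => φ v) this
    simpa [Module.End.mul_apply] using h
  rw [h1, h2, h]

/-- every vector is the image of a cyclic vector under something commuting with `f`. -/
theorem exists_commute_apply_cyc {n : ℕ} (hV : finrank F V = n) (f : V →ₗ[F] V) (hnil : f ^ n = 0) (v : V)
    (hv : (f ^ (n - 1)) v ≠ 0) (w : V) : ∃ c : V →ₗ[F] V, Commute c f ∧ c v = w := by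
  refine ⟨∑ i : Fin n, (cycBasis hV f hnil v hv).repr w i • f ^ (i : ℕ), ?_, ?_⟩
  · apply Commute.sum_left
    intro i _
    exact ((Commute.refl f).pow_left (i : ℕ)).smul_left _
  · rw [LinearMap.sum_apply]
    conv_rhs => rw [← (cycBasis hV f hnil v hv).sum_repr w]
    apply Finset.sum_congr rfl
    intro i _
    rw [LinearMap.smul_apply, cycBasis_apply]

theorem apply_cyc_of_commute {n : ℕ} (f : V →ₗ[F] V) (v : V)
    (hv : (f ^ (n - 1)) v ≠ 0) (c : V →ₗ[F] V) (hc : Commute c f) (hinj : Function.Injective c) :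
    (f ^ (n - 1)) (c v) ≠ 0 := by
  have h1 : c ((f ^ (n - 1)) v) = (f ^ (n - 1)) (c v) := by
    have := (hc.pow_right (n - 1)).eq
    have h := congrArg (fun φ : V →ₗ[F] V => φ v) this
    simpa [Module.End.mul_apply] using h
  rw [← h1]
  intro h0
  exact hv (hinj (by rw [h0, map_zero]))

theorem injective_of_commute {n : ℕ} (hV : finrank F V = n) (f : V →ₗ[F] V) (hnil : f ^ n = 0)
    (hreg : finrank F (LinearMap.ker f) ≤ 1) (hn : 1 ≤ n) (v : V)
    (c : V →ₗ[F] V) (hc : Commute c f) (hcv : (f ^ (n - 1)) (c v) ≠ 0) : Function.Injective c := by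
  rw [← LinearMap.ker_eq_bot]
  have hinv : ∀ x ∈ LinearMap.ker c, f x ∈ LinearMap.ker c := by
    intro x hx
    rw [LinearMap.mem_ker] at hx ⊢
    have h := congrArg (fun φ : V →ₗ[F] V => φ x) hc.eq
    simp only [Module.End.mul_apply] at h
    rw [h, hx, map_zero]
  have hK := invariant_eq_ker_pow hV f hnil hreg _ hinv
  by_contra hne
  have hk : 1 ≤ finrank F (LinearMap.ker c) := by
    rw [Nat.one_le_iff_ne_zero]
    intro h0
    exact hne (Submodule.finrank_eq_zero.1 h0)
  have h1 : (f ^ (n - 1)) v ∈ LinearMap.ker c := by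
    rw [hK, LinearMap.mem_ker, ← Module.End.mul_apply, ← pow_add]
    have h3 : finrank F (LinearMap.ker c) + (n - 1) = n + (finrank F (LinearMap.ker c) - 1) := by omega
    rw [h3, pow_add, hnil, zero_mul, LinearMap.zero_apply]
  rw [LinearMap.mem_ker] at h1
  have h2 : c ((f ^ (n - 1)) v) = (f ^ (n - 1)) (c v) := by
    have := (hc.pow_right (n - 1)).eq
    have h := congrArg (fun φ : V →ₗ[F] V => φ v) this
    simpa [Module.End.mul_apply] using h
  exact hcv (h2 ▸ h1)

/-- number of cyclic vectors. -/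
theorem card_cyc [Finite F] {n : ℕ} (hV : finrank F V = n) (f : V →ₗ[F] V) (hnil : f ^ n = 0)
    (hreg : finrank F (LinearMap.ker f) ≤ 1) (hn : 1 ≤ n) :
    Nat.card {w : V // (f ^ (n - 1)) w ≠ 0} = (Nat.card F - 1) * Nat.card F ^ (n - 1) := by
  have : Finite V := Module.finite_of_finite F
  have h1 : Nat.card V = Nat.card F ^ n := by rw [Module.natCard_eq_pow_finrank (K := F) (V := V), hV]
  have h2 : Nat.card (LinearMap.ker (f ^ (n - 1))) = Nat.card F ^ (n - 1) := by
    rw [Module.natCard_eq_pow_finrank (K := F), finrank_ker_pow_eq hV f hnil hreg (n - 1) (Nat.sub_le n 1)]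
  have h3 : Nat.card {w : V // (f ^ (n - 1)) w ≠ 0} + Nat.card (LinearMap.ker (f ^ (n - 1))) = Nat.card V := by
    have := Fintype.ofFinite V
    classical
    rw [Nat.card_eq_fintype_card, Nat.card_eq_fintype_card, Nat.card_eq_fintype_card]
    have h4 : Fintype.card (LinearMap.ker (f ^ (n - 1))) = Fintype.card {w : V // (f ^ (n - 1)) w = 0} :=
      Fintype.card_congr (Equiv.subtypeEquivRight fun w => LinearMap.mem_ker)
    rw [h4, add_comm]
    exact Fintype.card_subtype_compl (fun w : V => (f ^ (n - 1)) w = 0) ▸ by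
      have := Fintype.card_subtype_le (fun w : V => (f ^ (n - 1)) w = 0)
      omega
  have h5 : Nat.card F ^ n = Nat.card F * Nat.card F ^ (n - 1) := by
    rw [← pow_succ']
    congr 1
    omega
  rw [h1, h2, h5] at h3
  rw [Nat.sub_mul, one_mul]
  omega

end Cfsg.Agent.H9.RegNil
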