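import Mathlib
import Cfsg.Agent.H9.RegNil
import Cfsg.Agent.H9.RegNil2
import Cfsg.Agent.S2163
import Cfsg.Agent.S2573

set_option autoImplicit false

/-!
Regular unipotent matrices: `GL`-conjugacy, determinants in the centraliser, existence.
-/

namespace Cfsg.Agent.H9.RegUni

open Module Matrix Cfsg.Agent.H9.RegNil

variable {F : Type*} [Field F] {n : ℕ}

/-- the regular unipotent predicate on matrices. -/
def IsReg (u : Matrix (Fin n) (Fin n) F) : Prop := (u - 1) ^ n = 0 ∧ (u - 1).rank = n - 1

theorem det_add_nilpotent {V : Type*} [AddCommGroup V] [Module F V] [FiniteDimensional F V]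
    (a : F) (M : Module.End F V) (hM : IsNilpotent M) :
    LinearMap.det (algebraMap F (Module.End F V) a + M) = a ^ finrank F V := by
  have h1 : algebraMap F (Module.End F V) a + M = algebraMap F (Module.End F V) a - (-M) := by
    rw [sub_neg_eq_add]
  rw [h1, ← LinearMap.eval_charpoly, IsNilpotent.charpoly_eq_X_pow_finrank hM.neg,
    Polynomial.eval_pow, Polynomial.eval_X]

theorem finrank_fun : finrank F (Fin n → F) = n := by
  rw [finrank_fintype_fun_eq_card, Fintype.card_fin]

/-- data of a regular unipotent matrix as a linear map. -/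
theorem IsReg.lin {u : Matrix (Fin n) (Fin n) F} (hu : IsReg u) :
    (Matrix.toLin' (u - 1)) ^ n = 0 ∧ finrank F (LinearMap.ker (Matrix.toLin' (u - 1))) ≤ 1 := by
  refine ⟨by rw [← Matrix.toLin'_pow, hu.1, map_zero], ?_⟩
  have := Cfsg.Agent.S2573.finrank_ker_le_one (u - 1) hu.2
  rwa [← Matrix.toLin'_apply'] at this

/-- `GL`-conjugacy of regular unipotent matrices. -/
theorem exists_conj (hn : 1 ≤ n) (u u' : Matrix (Fin n) (Fin n) F) (hu : IsReg u) (hu' : IsReg u') :
    ∃ g : GL (Fin n) F, (g : Matrix (Fin n) (Fin n) F) * u = u' * (g : Matrix (Fin n) (Fin n) F) := by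
  set f := Matrix.toLin' (u - 1) with hf
  set f' := Matrix.toLin' (u' - 1) with hf'
  obtain ⟨hnil, hreg⟩ := hu.lin
  obtain ⟨hnil', hreg'⟩ := hu'.lin
  obtain ⟨v, hv⟩ := exists_cyc finrank_fun f hnil hreg hn
  obtain ⟨v', hv'⟩ := exists_cyc finrank_fun f' hnil' hreg' hn
  set b := cycBasis finrank_fun f hnil v hv with hb
  set b' := cycBasis finrank_fun f' hnil' v' hv' with hb'
  set e := b.equiv b' (Equiv.refl _) with he
  have hcomm : e.toLinearMap ∘ₗ f = f' ∘ₗ e.toLinearMap := by
    apply b.ext
    intro i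
    simp only [LinearMap.comp_apply, LinearEquiv.coe_coe]
    rw [he, Basis.equiv_apply, Equiv.refl_apply, hb, hb', cycBasis_apply, cycBasis_apply,
      ← Module.End.mul_apply, ← pow_succ', ← Module.End.mul_apply, ← pow_succ']
    by_cases hi : (i : ℕ) + 1 < n
    · have h1 : (f ^ ((i : ℕ) + 1)) v = cycBasis finrank_fun f hnil v hv ⟨(i : ℕ) + 1, hi⟩ := by
        rw [cycBasis_apply]
      rw [h1, Basis.equiv_apply, Equiv.refl_apply, cycBasis_apply]
    · have h1 : (i : ℕ) + 1 = n := by have := i.2; omega
      rw [h1, hnil, hnil', LinearMap.zero_apply, LinearMap.zero_apply, map_zero]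
  set G := LinearMap.toMatrix' e.toLinearMap with hG
  have hGdet : G.det ≠ 0 := by
    rw [hG, LinearMap.det_toMatrix']
    exact (LinearEquiv.isUnit_det' e).ne_zero
  have hGN : G * (u - 1) = (u' - 1) * G := by
    have := congrArg LinearMap.toMatrix' hcomm
    rw [LinearMap.toMatrix'_comp, LinearMap.toMatrix'_comp, hf, hf', LinearMap.toMatrix'_toLin',
      LinearMap.toMatrix'_toLin'] at this
    exact this
  refine ⟨Matrix.GeneralLinearGroup.mkOfDetNeZero G hGdet, ?_⟩
  change G * u = u' * G
  rw [Matrix.mul_sub, Matrix.sub_mul, Matrix.mul_one, Matrix.one_mul] at hGN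
  exact sub_left_injective hGN

/-- determinants in the centraliser of a regular unipotent matrix are `n`-th powers. -/
theorem det_of_commute (hn : 1 ≤ n) (u : Matrix (Fin n) (Fin n) F) (hu : IsReg u)
    (c : Matrix (Fin n) (Fin n) F) (hc : c * u = u * c) : ∃ a : F, c.det = a ^ n := by
  classical
  set f := Matrix.toLin' (u - 1) with hf
  obtain ⟨hnil, hreg⟩ := hu.lin
  obtain ⟨v, hv⟩ := exists_cyc finrank_fun f hnil hreg hn
  set b := cycBasis finrank_fun f hnil v hv with hb
  set cL := Matrix.toLin' c with hcL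
  have hcN : c * (u - 1) = (u - 1) * c := by
    rw [Matrix.mul_sub, Matrix.sub_mul, hc, Matrix.mul_one, Matrix.one_mul]
  have hcomm : Commute cL f := by
    change cL * f = f * cL
    rw [hcL, hf, Module.End.mul_eq_comp, Module.End.mul_eq_comp, ← Matrix.toLin'_mul,
      ← Matrix.toLin'_mul, hcN]
  set a : Fin n → F := fun i => b.repr (cL v) i with ha
  set c'' : Module.End F (Fin n → F) := ∑ i : Fin n, a i • f ^ (i : ℕ) with hc''
  have hcomm'' : Commute c'' f := by
    apply Commute.sum_left
    intro i _
    exact ((Commute.refl f).pow_left (i : ℕ)).smul_left _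
  have hv'' : cL v = c'' v := by
    rw [hc'', LinearMap.sum_apply]
    conv_lhs => rw [← b.sum_repr (cL v)]
    apply Finset.sum_congr rfl
    intro i _
    rw [LinearMap.smul_apply, hb, cycBasis_apply]
  have heq : cL = c'' := eq_of_commute_of_apply_cyc finrank_fun f hnil v hv cL c'' hcomm hcomm'' hv''
  let i0 : Fin n := ⟨0, hn⟩
  refine ⟨a i0, ?_⟩
  have hdet : c.det = LinearMap.det cL := by rw [hcL, LinearMap.det_toLin']
  rw [hdet, heq]
  set M' : Module.End F (Fin n → F) := ∑ i ∈ Finset.univ.erase i0, a i • f ^ ((i : ℕ) - 1) with hM'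
  have hsplit : c'' = algebraMap F (Module.End F (Fin n → F)) (a i0) + f * M' := by
    rw [hc'', ← Finset.add_sum_erase _ _ (Finset.mem_univ i0), hM', Finset.mul_sum]
    congr 1
    apply Finset.sum_congr rfl
    intro i hi
    have hi0 : (i : ℕ) ≠ 0 := by
      intro h0
      apply (Finset.mem_erase.1 hi).1
      exact Fin.ext h0
    rw [mul_smul_comm, ← pow_succ']
    congr 2
    omega
  have hfM' : Commute f M' := by
    apply Commute.sum_right
    intro i _
    exact ((Commute.refl f).pow_right _).smul_right _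
  have hnilM : IsNilpotent (f * M') := ⟨n, by rw [hfM'.mul_pow, hnil, zero_mul]⟩
  rw [hsplit, det_add_nilpotent _ _ hnilM, finrank_fun]

/-- the shift matrix. -/
theorem shift_apply (hn : 1 ≤ n) (i j : Fin n) :
    Cfsg.Agent.S2163.NN F n (n - 1) i j = if i.val = j.val + 1 then (1 : F) else 0 := by
  rw [Cfsg.Agent.S2163.NN_apply]
  have h1 : n - (n - 1) = 1 := by omega
  rw [h1]
  by_cases h : i.val = j.val + 1
  · rw [if_pos h, if_pos]
    exact ⟨by have := i.2; omega, h⟩
  · rw [if_neg h, if_neg]
    exact fun h' => h h'.2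

theorem shift_pow (hn : 1 ≤ n) (k : ℕ) (i j : Fin n) :
    (Cfsg.Agent.S2163.NN F n (n - 1) ^ k) i j = if i.val = j.val + k then (1 : F) else 0 := by
  induction k generalizing i j with
  | zero =>
    rw [pow_zero, Matrix.one_apply]
    simp only [add_zero, Fin.ext_iff]
  | succ k ih =>
    rw [pow_succ, Matrix.mul_apply]
    by_cases h : i.val = j.val + (k + 1)
    · rw [if_pos h]
      have hj : j.val + 1 < n := by have := i.2; omega
      rw [Finset.sum_eq_single ⟨j.val + 1, hj⟩]
      · rw [ih, shift_apply hn, if_pos (by simp only; omega), if_pos rfl, one_mul]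
      · intro l _ hl
        rw [shift_apply hn, if_neg, mul_zero]
        intro h2
        apply hl
        exact Fin.ext h2
      · intro h2
        exact absurd (Finset.mem_univ _) h2
    · rw [if_neg h]
      apply Finset.sum_eq_zero
      intro l _
      rw [ih, shift_apply hn]
      by_cases h2 : l.val = j.val + 1
      · rw [if_pos h2, if_neg, zero_mul]
        omega
      · rw [if_neg h2, mul_zero]

/-- existence of a regular unipotent matrix of determinant one. -/
theorem exists_isReg (hn : 1 ≤ n) : ∃ u : Matrix (Fin n) (Fin n) F, u.det = 1 ∧ IsReg u := by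
  refine ⟨1 + Cfsg.Agent.S2163.NN F n (n - 1), ?_, ?_, ?_⟩
  · have htri : (1 + Cfsg.Agent.S2163.NN F n (n - 1)).BlockTriangular OrderDual.toDual := by
      intro i j hij
      have hij' : i < j := hij
      rw [Matrix.add_apply, Matrix.one_apply_ne (ne_of_lt hij'), zero_add, shift_apply hn]
      apply if_neg
      have : i.val < j.val := hij'
      omega
    rw [Matrix.det_of_isLowerTriangular _ htri]
    apply Finset.prod_eq_one
    intro i _
    rw [Matrix.add_apply, Matrix.one_apply_eq, shift_apply hn, if_neg (by omega), add_zero]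
  · rw [add_sub_cancel_left]
    ext i j
    rw [shift_pow hn, Matrix.zero_apply, if_neg]
    have := i.2
    omega
  · rw [add_sub_cancel_left]
    exact Cfsg.Agent.S2163.rank_NN (by omega)

end Cfsg.Agent.H9.RegUni
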