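import Mathlib
import Cfsg.Agent.H9.Ex27G
import Cfsg.Agent.S2587
import Cfsg.Agent.S0278

set_option autoImplicit false
set_option linter.style.haveILetI false
set_option linter.unusedSectionVars false

/-! The unitary version: the standard extraspecial group inside `GU₃`, unitary conjugacy. -/

namespace Cfsg.Agent.H9.Ex27

open Matrix Cfsg Cfsg.Agent.Lib.Helper8.Singer3 Cfsg.Agent.Lib.Helper8.SUReg

section unitary

variable {F : Type*} [Field F] [Fintype F] [DecidableEq F] {q : ℕ} (σ : F →+* F)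

theorem adj_Xm_mul : adj σ (Xm : Matrix (Fin 3) (Fin 3) F) * Xm = 1 := by
  ext i j
  rw [Matrix.mul_apply, Fin.sum_univ_three]
  simp only [adj_apply]
  fin_cases i <;> fin_cases j <;> simp [Xm]

theorem adj_Pm_mul : adj σ (Pm : Matrix (Fin 3) (Fin 3) F) * Pm = 1 := by
  ext i j
  rw [Matrix.mul_apply, Fin.sum_univ_three]
  simp only [adj_apply]
  fin_cases i <;> fin_cases j <;> simp [Pm]

theorem adj_diag_mul (d : Fin 3 → F) (hd : ∀ i, d i * σ (d i) = 1) :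
    adj σ (Matrix.diagonal d) * Matrix.diagonal d = 1 := by
  rw [adj_diagonal, Matrix.diagonal_mul_diagonal, ← Matrix.diagonal_one]
  congr 1
  funext i
  rw [mul_comm]
  exact hd i

theorem Xg_mem_GU (hσ : ∀ x, σ x = x ^ q) : (Xg : GL (Fin 3) F) ∈ Cfsg.GU 3 F q := by
  rw [mem_GU_iff σ hσ, Xg_val]
  exact adj_Xm_mul σ

theorem Pg_mem_GU (hσ : ∀ x, σ x = x ^ q) : (Pg : GL (Fin 3) F) ∈ Cfsg.GU 3 F q := by
  rw [mem_GU_iff σ hσ, Pg_val]
  exact adj_Pm_mul σ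

theorem diagG_mem_GU (hσ : ∀ x, σ x = x ^ q) (d : Fin 3 → F) (hd0 : ∀ i, d i ≠ 0)
    (hd : ∀ i, d i * σ (d i) = 1) : diagG d hd0 ∈ Cfsg.GU 3 F q := by
  rw [mem_GU_iff σ hσ, diagG_val]
  exact adj_diag_mul σ d hd

/-- cube roots of unity have norm one when `3 ∣ q + 1` -/
theorem norm_one_of_pow (hσ : ∀ x, σ x = x ^ q) (m : ℕ) (hm : m ∣ q + 1) (d : F) (hd : d ^ m = 1) :
    d * σ d = 1 := by
  obtain ⟨k, hk⟩ := hm
  rw [hσ, ← pow_succ', hk, pow_mul, hd, one_pow]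

end unitary

section adjust

variable {F : Type*} [Field F] [Fintype F] [DecidableEq F] {q : ℕ} (σ : F →+* F)

/-- conjugacy in `GL` of unitary elements gives conjugacy by a unitary element of prescribed
determinant, provided the target commutes with the matrices `diag(t, 1, 1)` -/
theorem exists_adjust_U (hF : Fintype.card F = q ^ 2) (hσ : ∀ x, σ x = x ^ q)
    (x n : GL (Fin 3) F) (hxU : x ∈ Cfsg.GU 3 F q) (hnU : n ∈ Cfsg.GU 3 F q)
    (k₀ : GL (Fin 3) F) (hk : k₀⁻¹ * x * k₀ = n)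
    (hcomm : ∀ (t : F) (ht : t ≠ 0), diagG ![t, 1, 1] (by
      intro i; fin_cases i
      · exact ht
      · exact one_ne_zero
      · exact one_ne_zero) * n = n * diagG ![t, 1, 1] (by
      intro i; fin_cases i
      · exact ht
      · exact one_ne_zero
      · exact one_ne_zero)) (δ : Fˣ) (hδ : (δ : F) * σ δ = 1) :
    ∃ k : GL (Fin 3) F, k ∈ Cfsg.GU 3 F q ∧ Matrix.GeneralLinearGroup.det k = δ ∧
      k⁻¹ * x * k = n := by
  have hconj : IsConj ((⟨x, hxU⟩ : ↥(Cfsg.GU 3 F q)) : GL (Fin 3) F)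
      ((⟨n, hnU⟩ : ↥(Cfsg.GU 3 F q)) : GL (Fin 3) F) := by
    rw [isConj_iff]
    exact ⟨k₀⁻¹, by rw [inv_inv]; exact hk⟩
  obtain ⟨c, hc⟩ := isConj_iff.1 ((Cfsg.Agent.S2587.result hF _ _).2 hconj)
  have hc' : (c : GL (Fin 3) F) * x * (c : GL (Fin 3) F)⁻¹ = n := by
    have := congrArg (fun u : ↥(Cfsg.GU 3 F q) => (u : GL (Fin 3) F)) hc
    exact this
  obtain ⟨k₁, hk₁⟩ : ∃ k₁ : GL (Fin 3) F, k₁ = (c : GL (Fin 3) F)⁻¹ := ⟨_, rfl⟩
  have hk₁U : k₁ ∈ Cfsg.GU 3 F q := by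
    rw [hk₁]
    exact Subgroup.inv_mem _ c.2
  have hk₁x : k₁⁻¹ * x * k₁ = n := by
    rw [hk₁, inv_inv]
    exact hc'
  have hdet1 := det_of_mem_GU σ hσ k₁ hk₁U
  set t : Fˣ := δ * (Matrix.GeneralLinearGroup.det k₁)⁻¹ with ht
  have ht0 : (t : F) ≠ 0 := t.ne_zero
  have htn : (t : F) * σ (t : F) = 1 := by
    have h1 : ((Matrix.GeneralLinearGroup.det k₁ : Fˣ) : F)
        = (k₁ : Matrix (Fin 3) (Fin 3) F).det := Matrix.GeneralLinearGroup.val_det_apply k₁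
    have h2 : (t : F) * (k₁ : Matrix (Fin 3) (Fin 3) F).det = δ := by
      rw [ht, Units.val_mul, ← h1, mul_assoc, ← Units.val_mul, inv_mul_cancel, Units.val_one,
        mul_one]
    have h3 : ((t : F) * σ (t : F)) * ((k₁ : Matrix (Fin 3) (Fin 3) F).det
        * σ (k₁ : Matrix (Fin 3) (Fin 3) F).det) = 1 := by
      rw [← hδ, ← h2, map_mul]
      ring
    rw [hdet1, mul_one] at h3
    exact h3
  obtain ⟨T, hT⟩ : ∃ T, T = diagG ![(t : F), 1, 1] (by
      intro i; fin_cases i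
      · exact ht0
      · exact one_ne_zero
      · exact one_ne_zero) := ⟨_, rfl⟩
  have hTU : T ∈ Cfsg.GU 3 F q := by
    rw [hT]
    apply diagG_mem_GU σ hσ
    intro i
    fin_cases i
    · exact htn
    · show (1 : F) * σ 1 = 1
      rw [map_one, mul_one]
    · show (1 : F) * σ 1 = 1
      rw [map_one, mul_one]
  refine ⟨k₁ * T, Subgroup.mul_mem _ hk₁U hTU, ?_, ?_⟩
  · rw [map_mul]
    apply Units.ext
    rw [Units.val_mul, hT, det_diagG]
    show ((Matrix.GeneralLinearGroup.det k₁ : Fˣ) : F) * ((t : F) * 1 * 1) = δ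
    rw [mul_one, mul_one, ht, Units.val_mul, mul_comm (δ : F), ← mul_assoc, ← Units.val_mul,
      mul_inv_cancel, Units.val_one, one_mul]
  · have h1 := hcomm (t : F) ht0
    rw [← hT] at h1
    calc (k₁ * T)⁻¹ * x * (k₁ * T) = T⁻¹ * (k₁⁻¹ * x * k₁) * T := by group
      _ = T⁻¹ * n * T := by rw [hk₁x]
      _ = T⁻¹ * (T * n) := by rw [h1]; group
      _ = n := by group

end adjust

section stdform

variable {F : Type*} [Field F] [Fintype F] [DecidableEq F] {q : ℕ} (σ : F →+* F)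

/-- if `s` and `g s g⁻¹` are unitary then the Gram matrix `adj g * g` commutes with `s` -/
theorem gram_comm (g gi s : Matrix (Fin 3) (Fin 3) F) (hg : g * gi = 1) (hs : adj σ s * s = 1)
    (hc : adj σ (g * s * gi) * (g * s * gi) = 1) :
    (adj σ g * g) * s = s * (adj σ g * g) := by
  have hgi : gi * g = 1 := mul_eq_one_comm.1 hg
  have hs' : s * adj σ s = 1 := mul_eq_one_comm.1 hs
  have h1 : adj σ g * adj σ gi = 1 := by rw [← adj_mul, hgi, adj_one]
  rw [adj_mul, adj_mul] at hc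
  have h2 : adj σ s * (adj σ g * g) * s = adj σ g * g := by
    calc adj σ s * (adj σ g * g) * s
        = (adj σ g * adj σ gi) * (adj σ s * (adj σ g * g) * s) * (gi * g) := by
          rw [h1, hgi, Matrix.one_mul, Matrix.mul_one]
      _ = adj σ g * (adj σ gi * (adj σ s * adj σ g) * (g * s * gi)) * g := by
          simp only [Matrix.mul_assoc]
      _ = adj σ g * g := by rw [hc, Matrix.mul_one]
  calc (adj σ g * g) * s = (s * adj σ s) * ((adj σ g * g) * s) := by rw [hs', Matrix.one_mul]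
    _ = s * (adj σ s * (adj σ g * g) * s) := by simp only [Matrix.mul_assoc]
    _ = s * (adj σ g * g) := by rw [h2]

theorem diagonal_const (c : F) :
    Matrix.diagonal (fun _ : Fin 3 => c) = c • (1 : Matrix (Fin 3) (Fin 3) F) := by
  ext i j
  by_cases hij : i = j
  · subst hij; simp
  · simp [hij]

/-- a nonabelian group of order 27 and exponent 3 inside `GU₃(q)`, `3 ∣ q + 1`, is conjugate to
the standard one by a unitary matrix -/
theorem exists_unitary_std_form (hσ : ∀ x, σ x = x ^ q)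
    (hσne : σ ≠ RingHom.id F) (hσ2 : ∀ a, σ (σ a) = a) (hq3 : 3 ∣ q + 1)
    (h3 : (3 : F) ≠ 0) (ω₀ : F) (hω₀ : ω₀ ^ 2 + ω₀ + 1 = 0)
    (R : Subgroup (GL (Fin 3) F)) (hRU : R ≤ Cfsg.GU 3 F q) (hR : Nat.card R = 27)
    (hRe : Monoid.exponent R = 3) (hRna : ¬ IsMulCommutative R) :
    ∃ (ω : F) (hω0 : ω ≠ 0) (G₁ : GL (Fin 3) F), ω ^ 2 + ω + 1 = 0 ∧ G₁ ∈ Cfsg.GU 3 F q ∧
      R = (Rstd ω hω0).map (MulAut.conj G₁).toMonoidHom := by
  obtain ⟨ω, hω0, G₀, hω, hRG⟩ := exists_std_form h3 ω₀ hω₀ R hR hRe hRna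
  have hω3 : ω ^ 3 = 1 := by linear_combination (ω - 1) * hω
  have hωn : ω * σ ω = 1 := norm_one_of_pow σ hσ 3 hq3 ω hω3
  obtain ⟨g, hg⟩ : ∃ g : Matrix (Fin 3) (Fin 3) F, g = (G₀ : Matrix (Fin 3) (Fin 3) F) := ⟨_, rfl⟩
  obtain ⟨gi, hgi⟩ : ∃ gi : Matrix (Fin 3) (Fin 3) F,
      gi = ((G₀⁻¹ : GL (Fin 3) F) : Matrix (Fin 3) (Fin 3) F) := ⟨_, rfl⟩
  have hggi : g * gi = 1 := by
    rw [hg, hgi, ← Units.val_mul, mul_inv_cancel]
    rfl
  have hgig : gi * g = 1 := mul_eq_one_comm.1 hggi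
  obtain ⟨A, hA⟩ : ∃ A, A = adj σ g * g := ⟨_, rfl⟩
  have hconjU : ∀ s ∈ Rstd ω hω0,
      adj σ (g * (s : Matrix (Fin 3) (Fin 3) F) * gi) * (g * s * gi) = 1 := by
    intro s hs
    have hmem : G₀ * s * G₀⁻¹ ∈ R := by rw [hRG]; exact ⟨s, hs, rfl⟩
    have := (mem_GU_iff σ hσ _).1 (hRU hmem)
    rwa [Units.val_mul, Units.val_mul, ← hg, ← hgi] at this
  have hAX : A * Xm = Xm * A := by
    rw [hA]
    refine gram_comm σ g gi Xm hggi (adj_Xm_mul σ) ?_
    have := hconjU Xg (Xg_mem ω hω0)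
    rwa [Xg_val] at this
  have hYn : ∀ i, Yd ω i * σ (Yd ω i) = 1 := by
    intro i
    fin_cases i
    · show (1 : F) * σ 1 = 1
      rw [map_one, mul_one]
    · exact hωn
    · show ω ^ 2 * σ (ω ^ 2) = 1
      rw [map_pow, ← mul_pow, hωn, one_pow]
  have hAY : A * Matrix.diagonal (Yd ω) = Matrix.diagonal (Yd ω) * A := by
    rw [hA]
    refine gram_comm σ g gi _ hggi (adj_diag_mul σ _ hYn) ?_
    have := hconjU (Yg ω hω0) (Yg_mem ω hω0)
    unfold Yg at this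
    rwa [diagG_val] at this
  obtain ⟨κ, hκ⟩ := scalar_of_commute_std h3 ω hω A hAX hAY
  have hκ0 : κ ≠ 0 := by
    intro h0
    rw [h0, zero_smul] at hκ
    have h1 : A * (gi * adj σ gi) = 1 := by
      rw [hA]
      calc adj σ g * g * (gi * adj σ gi) = adj σ g * (g * gi) * adj σ gi := by
            simp only [Matrix.mul_assoc]
        _ = 1 := by rw [hggi, Matrix.mul_one, ← adj_mul, hgig, adj_one]
    rw [hκ, Matrix.zero_mul] at h1
    exact zero_ne_one h1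
  have hκσ : σ κ = κ := by
    have h1 : adj σ A = A := by rw [hA, adj_mul, adj_adj σ hσ2]
    rw [hκ, adj_smul, adj_one] at h1
    have := congrFun (congrFun h1 0) 0
    simpa using this
  set σe : F ≃+* F := RingEquiv.ofRingHom σ σ (RingHom.ext hσ2) (RingHom.ext hσ2) with hσe
  have hσe_ne : σe ≠ RingEquiv.refl F := by
    intro h
    apply hσne
    ext x
    have := congrArg (fun f : F ≃+* F => f x) h
    exact this
  obtain ⟨μ, hμ⟩ := Cfsg.Agent.Lib.Helper8.Unitary.norm_surj (σ := σe) hσe_ne hσ2 κ⁻¹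
    (by show σ κ⁻¹ = κ⁻¹; rw [map_inv₀, hκσ])
  have hμ' : μ * σ μ = κ⁻¹ := hμ
  have hμ0 : μ ≠ 0 := by
    intro h0
    rw [h0, zero_mul] at hμ'
    exact inv_ne_zero hκ0 hμ'.symm
  obtain ⟨G₁, hG₁⟩ : ∃ G₁, G₁ = diagG (fun _ => μ) (fun _ => hμ0) * G₀ := ⟨_, rfl⟩
  refine ⟨ω, hω0, G₁, hω, ?_, ?_⟩
  · rw [mem_GU_iff σ hσ, hG₁, Units.val_mul, diagG_val, diagonal_const, Matrix.smul_mul,
      Matrix.one_mul, adj_smul, Matrix.smul_mul, Matrix.mul_smul, smul_smul, ← hg, ← hA, hκ,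
      smul_smul]
    have : σ μ * μ * κ = 1 := by
      rw [mul_comm (σ μ), hμ', inv_mul_cancel₀ hκ0]
    rw [this, one_smul]
  · have hconj : MulAut.conj G₁ = MulAut.conj G₀ := by
      apply MulEquiv.ext
      intro s
      rw [MulAut.conj_apply, MulAut.conj_apply, hG₁]
      have hZ := scalarG_comm μ hμ0 (G₀ * s * G₀⁻¹)
      calc diagG (fun _ => μ) (fun _ => hμ0) * G₀ * s * (diagG (fun _ => μ) (fun _ => hμ0) * G₀)⁻¹
          = (diagG (fun _ => μ) (fun _ => hμ0) * (G₀ * s * G₀⁻¹))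
            * (diagG (fun _ => μ) (fun _ => hμ0))⁻¹ := by group
        _ = G₀ * s * G₀⁻¹ := by rw [hZ]; group
    rw [hconj]
    exact hRG

end stdform

end Cfsg.Agent.H9.Ex27
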