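import Mathlib
import Cfsg.Agent.H9.Ex27H

set_option autoImplicit false
set_option linter.style.haveILetI false
set_option linter.unusedSectionVars false

/-! Unitary conjugacy into the normalizer of the standard extraspecial group, and the order of
`SU₃`. -/

namespace Cfsg.Agent.H9.Ex27

open Matrix Cfsg Cfsg.Agent.Lib.Helper8.Singer3 Cfsg.Agent.Lib.Helper8.SUReg

section conjU

variable {F : Type*} [Field F] [Fintype F] [DecidableEq F] {q : ℕ} (σ : F →+* F)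

/-- unitary elements whose cube is the scalar `c ^ 3`, `c` of norm one, are conjugate into the
normalizer of the standard group by unitary matrices of any determinant of norm one -/
theorem conj_cube_U (hF : Fintype.card F = q ^ 2) (hσ : ∀ x, σ x = x ^ q) (hq3 : 3 ∣ q + 1)
    (h3 : (3 : F) ≠ 0) (ω : F) (hω0 : ω ≠ 0) (hω : ω ^ 2 + ω + 1 = 0)
    (x : GL (Fin 3) F) (hxU : x ∈ Cfsg.GU 3 F q) (c : F) (hc0 : c ≠ 0) (hcn : c * σ c = 1)
    (hx : (x : Matrix (Fin 3) (Fin 3) F) * x * x = (c ^ 3) • (1 : Matrix (Fin 3) (Fin 3) F))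
    (δ : Fˣ) (hδ : (δ : F) * σ δ = 1) :
    ∃ k : GL (Fin 3) F, k ∈ Cfsg.GU 3 F q ∧ Matrix.GeneralLinearGroup.det k = δ ∧
      k⁻¹ * x * k ∈ Subgroup.normalizer (Rstd ω hω0 : Set (GL (Fin 3) F)) := by
  obtain ⟨k₀, d, hcd0, hd3, hk⟩ := exists_conj_diag_of_cube h3 ω hω x c hc0 hx
  have hnU : diagG (fun i => c * d i) hcd0 ∈ Cfsg.GU 3 F q := by
    apply diagG_mem_GU σ hσ
    intro i
    show c * d i * σ (c * d i) = 1
    have := norm_one_of_pow σ hσ 3 hq3 (d i) (hd3 i)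
    rw [map_mul]
    linear_combination (d i * σ (d i)) * hcn + this
  obtain ⟨k, hkU, hkdet, hkx⟩ := exists_adjust_U σ hF hσ x _ hxU hnU k₀ hk (by
    intro t ht
    rw [diagG_mul, diagG_mul]
    apply diagG_congr
    funext i
    exact mul_comm _ _) δ hδ
  refine ⟨k, hkU, hkdet, ?_⟩
  rw [hkx]
  have hd0 : ∀ i, d i ≠ 0 := fun i => right_ne_zero_of_mul (hcd0 i)
  apply diagG_mem_normalizer ω hω0 hω
  · show (c * d 1 / (c * d 0)) ^ 3 = 1
    rw [mul_div_mul_left _ _ hc0, div_pow, hd3, hd3, div_one]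
  · show (c * d 2 / (c * d 1)) ^ 3 = 1
    rw [mul_div_mul_left _ _ hc0, div_pow, hd3, hd3, div_one]

/-- nonscalar unitary elements whose square is the scalar `c ^ 2` and determinant `c ^ 3`, `c` of
norm one, are conjugate into the normalizer of the standard group by unitary matrices of any
determinant of norm one -/
theorem conj_sq_U (hF : Fintype.card F = q ^ 2) (hσ : ∀ x, σ x = x ^ q)
    (h2 : (2 : F) ≠ 0) (ω : F) (hω0 : ω ≠ 0) (hω : ω ^ 2 + ω + 1 = 0)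
    (x : GL (Fin 3) F) (hxU : x ∈ Cfsg.GU 3 F q) (c : F) (hc0 : c ≠ 0) (hcn : c * σ c = 1)
    (hx : (x : Matrix (Fin 3) (Fin 3) F) * x = (c ^ 2) • (1 : Matrix (Fin 3) (Fin 3) F))
    (hdet : (x : Matrix (Fin 3) (Fin 3) F).det = c ^ 3)
    (hns : ∀ z : F, (x : Matrix (Fin 3) (Fin 3) F) ≠ z • (1 : Matrix (Fin 3) (Fin 3) F))
    (δ : Fˣ) (hδ : (δ : F) * σ δ = 1) :
    ∃ k : GL (Fin 3) F, k ∈ Cfsg.GU 3 F q ∧ Matrix.GeneralLinearGroup.det k = δ ∧
      k⁻¹ * x * k ∈ Subgroup.normalizer (Rstd ω hω0 : Set (GL (Fin 3) F)) := by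
  obtain ⟨k₀, hk⟩ := exists_conj_Pg_of_sq h2 x c hc0 hx hdet hns
  have hnU : diagG (fun _ => c) (fun _ => hc0) * Pg ∈ Cfsg.GU 3 F q :=
    Subgroup.mul_mem _ (diagG_mem_GU σ hσ _ _ (fun _ => hcn)) (Pg_mem_GU σ hσ)
  obtain ⟨k, hkU, hkdet, hkx⟩ := exists_adjust_U σ hF hσ x _ hxU hnU k₀ hk (by
    intro t ht
    have hP : Pg * diagG ![t, 1, 1] (by
        intro i; fin_cases i
        · exact ht
        · exact one_ne_zero
        · exact one_ne_zero) = diagG ![t, 1, 1] (by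
        intro i; fin_cases i
        · exact ht
        · exact one_ne_zero
        · exact one_ne_zero) * Pg := by
      apply Units.ext
      rw [Units.val_mul, Units.val_mul, Pg_val, diagG_val, Pm_mul_diag]
      rfl
    rw [mul_assoc, hP, ← mul_assoc, ← mul_assoc, scalarG_comm]) δ hδ
  refine ⟨k, hkU, hkdet, ?_⟩
  rw [hkx]
  exact scalar_Pg_mem_normalizer ω hω0 hω c hc0

end conjU

section card

variable {F : Type*} [Field F] [Fintype F] [DecidableEq F] {q : ℕ}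

theorem card_su3 (hF : Fintype.card F = q ^ 2) :
    (q + 1) * Nat.card ↥(Cfsg.GU 3 F q ⊓ Cfsg.Geo.specialLinear (Fin 3) F)
      = q ^ 3 * ((q + 1) * (q ^ 2 - 1) * (q ^ 3 + 1)) := by
  have h1 := Cfsg.Agent.S0278.result hF 3 (by norm_num)
  have hcard : Nat.card (Cfsg.SU 3 F q)
      = Nat.card ↥(Cfsg.GU 3 F q ⊓ Cfsg.Geo.specialLinear (Fin 3) F) := by
    apply Nat.card_eq_of_bijective
      (fun B => (⟨Cfsg.Agent.S0781.phi 3 B, Cfsg.Agent.S0781.phi_mem 3 B⟩ :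
        ↥(Cfsg.GU 3 F q ⊓ Cfsg.Geo.specialLinear (Fin 3) F)))
    constructor
    · intro B C h
      apply Cfsg.Agent.S0781.phi_injective 3
      exact congrArg Subtype.val h
    · intro g
      obtain ⟨B, hB⟩ := Cfsg.Agent.S0781.exists_lift 3 (g : GL (Fin 3) F) g.2
      exact ⟨B, Subtype.ext hB⟩
  rw [← hcard, h1]
  simp [Finset.prod_range_succ]

set_option maxRecDepth 100000 in
theorem not_81_dvd_card_su3 (hF : Fintype.card F = q ^ 2) (hcase : q % 9 = 2 ∨ q % 9 = 5) :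
    ¬ 81 ∣ Nat.card ↥(Cfsg.GU 3 F q ⊓ Cfsg.Geo.specialLinear (Fin 3) F) := by
  intro h81
  have h1 := card_su3 hF
  have hq2 : 2 ≤ q := by omega
  have h2 : (q + 1) * 81 ∣ q ^ 3 * ((q + 1) * (q ^ 2 - 1) * (q ^ 3 + 1)) := by
    rw [← h1]
    exact Nat.mul_dvd_mul_left _ h81
  have h3 : 81 ∣ q ^ 3 * ((q ^ 2 - 1) * (q ^ 3 + 1)) := by
    have e : q ^ 3 * ((q + 1) * (q ^ 2 - 1) * (q ^ 3 + 1))
        = (q + 1) * (q ^ 3 * ((q ^ 2 - 1) * (q ^ 3 + 1))) := by ring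
    rw [e] at h2
    exact Nat.dvd_of_mul_dvd_mul_left (by omega) h2
  have hle1 : 1 ≤ q ^ 2 := Nat.one_le_pow _ _ (by omega)
  have h4 := (ZMod.natCast_eq_zero_iff _ 81).2 h3
  rw [Nat.cast_mul, Nat.cast_mul, Nat.cast_sub hle1, Nat.cast_add, Nat.cast_pow, Nat.cast_pow,
    Nat.cast_one] at h4
  have hval : ((q : ZMod 81)).val % 9 = 2 ∨ ((q : ZMod 81)).val % 9 = 5 := by
    rw [ZMod.val_natCast]
    have : q % 81 % 9 = q % 9 := Nat.mod_mod_of_dvd q (by norm_num)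
    rw [this]
    exact hcase
  have key : ∀ x : ZMod 81, (x.val % 9 = 2 ∨ x.val % 9 = 5) →
      x ^ 3 * ((x ^ 2 - 1) * (x ^ 3 + 1)) ≠ 0 := by decide
  exact key _ hval h4

end card

end Cfsg.Agent.H9.Ex27
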