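import Cfsg.Agent.H9.GfsSimple

/-!
# Simplicity of the fusion system of a group whose Sylow subgroup has only inner automizers

A variant of `GfsSimple.isSimple_of_certificate`: the hypothesis `N_G(S₀) ≤ S₀` is weakened to
"every element of `N_G(S₀)` acts on `S₀` as an element of `S₀`" (that is `N_G(S₀) = S₀ C_G(S₀)`), and
the certificate is transported along a surjection with central kernel of order prime to `p`.
-/

set_option autoImplicit false

namespace Cfsg.Agent.H9.GfsSimple2

open Cfsg Cfsg.FusionSystem Cfsg.Agent.Lib.Helper7 Cfsg.Agent.H9.GfsSimple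

variable {G : Type*} [Group G]

section

variable [Finite G] (p : ℕ) [Fact p.Prime] (S : Sylow p G)

omit [Fact p.Prime] in
theorem autInducedBy_top_eq_self'
    (hN : ∀ g ∈ Subgroup.normalizer ((S : Subgroup G) : Set G), ∃ s ∈ (S : Subgroup G),
      ∀ x ∈ (S : Subgroup G), g * x * g⁻¹ = s * x * s⁻¹) :
    autInducedBy ⊤ (S : Subgroup G) = autInducedBy (S : Subgroup G) (S : Subgroup G) := by
  ext α
  rw [mem_autInducedBy_iff, mem_autInducedBy_iff]
  constructor
  · rintro ⟨g, -, hg⟩
    have hgn : g ∈ Subgroup.normalizer ((S : Subgroup G) : Set G) := by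
      apply Subgroup.mem_normalizer_fintype
      intro x hx
      have := hg ⟨x, hx⟩
      rw [SetLike.mem_coe, ← this]
      exact (α ⟨x, hx⟩).2
    obtain ⟨s, hs, h⟩ := hN g hgn
    refine ⟨s, hs, fun x => ?_⟩
    rw [hg x, h x x.2]
  · rintro ⟨g, -, hg⟩
    exact ⟨g, Subgroup.mem_top g, hg⟩

theorem hb_of_inner
    (hN : ∀ g ∈ Subgroup.normalizer ((S : Subgroup G) : Set G), ∃ s ∈ (S : Subgroup G),
      ∀ x ∈ (S : Subgroup G), g * x * g⁻¹ = s * x * s⁻¹) :
    autInducedBy ⊤ (S : Subgroup G) =
      ⨆ (R : Subgroup G) (_ : (groupFusionSystem (S : Subgroup G)).IsFullyNormalized R ∧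
        (groupFusionSystem (S : Subgroup G)).IsRadical p R ∧
        (groupFusionSystem (S : Subgroup G)).IsCentric R),
        autInducedBy (Subgroup.closure {g : G | g ∈ Subgroup.normalizer (R : Set G) ∧
          ∃ k : ℕ, orderOf g = p ^ k}) (S : Subgroup G) := by
  apply le_antisymm
  · -- the term of `R = S`
    have hFN : (groupFusionSystem (S : Subgroup G)).IsFullyNormalized (S : Subgroup G) := by
      refine ⟨le_rfl, fun Q hQ => ?_⟩
      rw [isConj_self_iff p S hQ]
    have hC : (groupFusionSystem (S : Subgroup G)).IsCentric (S : Subgroup G) := by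
      refine ⟨le_rfl, fun Q hQ => ?_⟩
      rw [isConj_self_iff p S hQ]
      exact inf_le_left
    have hA : (groupFusionSystem (S : Subgroup G)).autGroup (S : Subgroup G) = Inn ↥(S : Subgroup G) := by
      rw [gfs_autGroup_eq _ _ le_rfl, autInducedBy_top_eq_self' p S hN, autInducedBy_self_eq]
    have hR : (groupFusionSystem (S : Subgroup G)).IsRadical p (S : Subgroup G) := by
      refine ⟨le_rfl, ?_⟩
      have hp : IsPGroup p ↥((groupFusionSystem (S : Subgroup G)).autGroup (S : Subgroup G)) := by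
        rw [hA]
        exact isPGroup_inn S.isPGroup'
      have htop : pCore p ↥((groupFusionSystem (S : Subgroup G)).autGroup (S : Subgroup G)) = ⊤ := by
        apply le_antisymm le_top
        apply le_sSup
        refine ⟨inferInstance, ?_⟩
        intro x
        obtain ⟨k, hk⟩ := hp x.1
        exact ⟨k, Subtype.ext hk⟩
      rw [htop, ← MonoidHom.range_eq_map, Subgroup.range_subtype, hA]
    refine le_trans ?_ (le_iSup₂ (f := fun (R : Subgroup G)
      (_ : (groupFusionSystem (S : Subgroup G)).IsFullyNormalized R ∧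
        (groupFusionSystem (S : Subgroup G)).IsRadical p R ∧
        (groupFusionSystem (S : Subgroup G)).IsCentric R) =>
        autInducedBy (Subgroup.closure {g : G | g ∈ Subgroup.normalizer (R : Set G) ∧
          ∃ k : ℕ, orderOf g = p ^ k}) (S : Subgroup G)) (S : Subgroup G) ⟨hFN, hR, hC⟩)
    rw [autInducedBy_top_eq_self' p S hN]
    apply autInducedBy_mono
    intro g hg
    apply Subgroup.subset_closure
    refine ⟨Subgroup.le_normalizer hg, ?_⟩
    obtain ⟨k, hk⟩ := S.isPGroup' ⟨g, hg⟩
    have hk' : g ^ p ^ k = 1 := congrArg Subtype.val hk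
    have hdvd : orderOf g ∣ p ^ k := orderOf_dvd_of_pow_eq_one hk'
    obtain ⟨j, -, hj⟩ := (Nat.dvd_prime_pow (Fact.out : p.Prime)).mp hdvd
    exact ⟨j, hj⟩
  · apply iSup₂_le
    intro R _
    exact autInducedBy_mono le_top _

/-- the criterion, for one Sylow subgroup -/
theorem isSimple_of_inner (hS1 : (S : Subgroup G) ≠ ⊥)
    (hN : ∀ g ∈ Subgroup.normalizer ((S : Subgroup G) : Set G), ∃ s ∈ (S : Subgroup G),
      ∀ x ∈ (S : Subgroup G), g * x * g⁻¹ = s * x * s⁻¹)
    (hsc : ∀ T : Subgroup G, T ≤ S →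
      (∀ x ∈ T, ∀ g : G, g * x * g⁻¹ ∈ (S : Subgroup G) → g * x * g⁻¹ ∈ T) →
      T = ⊥ ∨ T = (S : Subgroup G)) :
    (groupFusionSystem (S : Subgroup G)).IsSimple p := by
  apply gfs_isSimple_criterion p S hS1
  · intro T hT
    exact hsc T hT.1 (fun x hx g hg => conj_mem_of_stronglyClosed hT hx hg)
  · exact hb_of_inner p S hN

end

/-- the data certifying that the `p`-fusion system of `G` is simple -/
structure Certificate (p : ℕ) (S0 : Subgroup G) : Prop where
  card : Nat.card S0 = p ^ (Nat.card G).factorization p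
  ne : S0 ≠ ⊥
  inner : ∀ g ∈ Subgroup.normalizer (S0 : Set G), ∃ s ∈ S0, ∀ x ∈ S0, g * x * g⁻¹ = s * x * s⁻¹
  sc : ∀ T : Subgroup G, T ≤ S0 →
    (∀ x ∈ T, ∀ g : G, g * x * g⁻¹ ∈ S0 → g * x * g⁻¹ ∈ T) → T = ⊥ ∨ T = S0

/-- **the criterion for every Sylow subgroup, from one subgroup of Sylow order** -/
theorem isSimple_of_certificate' [Finite G] (p : ℕ) [Fact p.Prime] (S0 : Subgroup G)
    (hc : Certificate p S0)
    (S : Sylow p G) : (groupFusionSystem (S : Subgroup G)).IsSimple p := by
  obtain ⟨hcard, hne, hN, hsc⟩ := hc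
  obtain ⟨g, hg⟩ := MulAction.exists_smul_eq G (Sylow.ofCard S0 hcard) S
  have hmem : ∀ y : G, y ∈ (S : Subgroup G) ↔ g⁻¹ * y * g ∈ S0 := by
    intro y
    rw [← hg, Sylow.coe_subgroup_smul, Subgroup.mem_pointwise_smul_iff_inv_smul_mem,
      MulAut.smul_def, MulAut.conj_inv_apply]
    rfl
  have hmem' : ∀ y : G, y ∈ S0 ↔ g * y * g⁻¹ ∈ (S : Subgroup G) := by
    intro y
    rw [hmem]
    have : g⁻¹ * (g * y * g⁻¹) * g = y := by group
    rw [this]
  apply isSimple_of_inner p S
  · intro h
    apply hne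
    rw [Subgroup.eq_bot_iff_forall]
    intro x hx
    have h1 := (hmem' x).mp hx
    rw [h, Subgroup.mem_bot] at h1
    have : x = g⁻¹ * (g * x * g⁻¹) * g := by group
    rw [this, h1]
    group
  · intro n hn
    have hn0 : g⁻¹ * n * g ∈ Subgroup.normalizer (S0 : Set G) := by
      rw [Subgroup.mem_normalizer_iff] at hn ⊢
      intro y
      rw [hmem' y, hn (g * y * g⁻¹), hmem]
      have : g⁻¹ * (n * (g * y * g⁻¹) * n⁻¹) * g = g⁻¹ * n * g * y * (g⁻¹ * n * g)⁻¹ := by group
      rw [this]
    obtain ⟨s, hs, h⟩ := hN _ hn0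
    refine ⟨g * s * g⁻¹, (hmem' s).mp hs, ?_⟩
    intro x hx
    have h1 := h (g⁻¹ * x * g) ((hmem x).mp hx)
    have e1 : n * x * n⁻¹ = g * (g⁻¹ * n * g * (g⁻¹ * x * g) * (g⁻¹ * n * g)⁻¹) * g⁻¹ := by group
    rw [e1, h1]
    group
  · intro T hTS hT
    have key := hsc (T.comap (MulAut.conj g).toMonoidHom) (by
      intro y hy
      rw [hmem']
      exact hTS hy) (by
      intro x hx k hk
      show g * (k * x * k⁻¹) * g⁻¹ ∈ T
      have h1 : g * x * g⁻¹ ∈ T := hx
      have h2 := hT _ h1 (g * k * g⁻¹) (by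
        have : g * k * g⁻¹ * (g * x * g⁻¹) * (g * k * g⁻¹)⁻¹ = g * (k * x * k⁻¹) * g⁻¹ := by group
        rw [this]
        exact (hmem' _).mp hk)
      have : g * k * g⁻¹ * (g * x * g⁻¹) * (g * k * g⁻¹)⁻¹ = g * (k * x * k⁻¹) * g⁻¹ := by group
      rw [this] at h2
      exact h2)
    rcases key with h | h
    · left
      rw [Subgroup.eq_bot_iff_forall]
      intro x hx
      have h1 : g⁻¹ * x * g ∈ T.comap (MulAut.conj g).toMonoidHom := by
        show g * (g⁻¹ * x * g) * g⁻¹ ∈ T
        have : g * (g⁻¹ * x * g) * g⁻¹ = x := by group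
        rw [this]
        exact hx
      rw [h, Subgroup.mem_bot] at h1
      have : x = g * (g⁻¹ * x * g) * g⁻¹ := by group
      rw [this, h1]
      group
    · right
      apply le_antisymm hTS
      intro x hx
      have h1 : g⁻¹ * x * g ∈ S0 := (hmem x).mp hx
      rw [← h] at h1
      have h2 : g * (g⁻¹ * x * g) * g⁻¹ ∈ T := h1
      have : g * (g⁻¹ * x * g) * g⁻¹ = x := by group
      rw [this] at h2
      exact h2

/-- a certificate is carried along a surjection with central kernel of order prime to `p` -/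
theorem Certificate.map {G' : Type*} [Group G'] [Finite G] (p : ℕ) [Fact p.Prime] (π : G →* G')
    (hπ : Function.Surjective π) (hker : π.ker ≤ Subgroup.center G)
    (hcop : (Nat.card π.ker).Coprime p) (S0 : Subgroup G) (hc : Certificate p S0) :
    Certificate p (S0.map π) := by
  obtain ⟨hcard, hne, hN, hsc⟩ := hc
  have hp : p.Prime := Fact.out
  have : Finite G' := Finite.of_surjective π hπ
  -- exponent of `S0`
  have hexp : ∀ x ∈ S0, x ^ Nat.card S0 = 1 := by
    intro x hx
    have := pow_card_eq_one' (G := S0) (x := ⟨x, hx⟩)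
    exact congrArg Subtype.val this
  -- the kernel meets `p`-elements trivially
  have hk1 : ∀ k ∈ π.ker, k ^ Nat.card S0 = 1 → k = 1 := by
    intro k hk hke
    have h1 : orderOf k ∣ Nat.card S0 := orderOf_dvd_of_pow_eq_one hke
    have h2 : orderOf k ∣ Nat.card π.ker := by
      have := orderOf_dvd_natCard (⟨k, hk⟩ : π.ker)
      rwa [Subgroup.orderOf_mk] at this
    rw [hcard] at h1
    have h3 : (Nat.card π.ker).Coprime (p ^ (Nat.card G).factorization p) :=
      Nat.Coprime.pow_right _ hcop
    have h4 : orderOf k ∣ 1 := by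
      rw [← h3.gcd_eq_one]
      exact Nat.dvd_gcd h2 h1
    exact orderOf_eq_one_iff.mp (Nat.dvd_one.mp h4)
  have hinj : ∀ x ∈ S0, π x = 1 → x = 1 := by
    intro x hx h
    exact hk1 x (MonoidHom.mem_ker.mpr h) (hexp x hx)
  -- lifting membership
  have hlift : ∀ y : G, π y ∈ S0.map π → (y ^ Nat.card S0 = 1) → y ∈ S0 := by
    intro y hy hye
    obtain ⟨s, hs, hsy⟩ := hy
    have hk : s⁻¹ * y ∈ π.ker := by
      rw [MonoidHom.mem_ker, map_mul, map_inv, hsy, inv_mul_cancel]
    have hkc := hker hk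
    have hcomm : s * (s⁻¹ * y) = (s⁻¹ * y) * s := (Subgroup.mem_center_iff.mp hkc s)
    have hpow : (s⁻¹ * y) ^ Nat.card S0 = 1 := by
      have e : y = s * (s⁻¹ * y) := by group
      have h1 : y ^ Nat.card S0 = s ^ Nat.card S0 * (s⁻¹ * y) ^ Nat.card S0 := by
        conv_lhs => rw [e]
        exact (Commute.mul_pow hcomm _)
      rw [hye, hexp s hs, one_mul] at h1
      exact h1.symm
    have := hk1 _ hk hpow
    have e : y = s := by
      have : s * (s⁻¹ * y) = s * 1 := by rw [this]
      rwa [mul_inv_cancel_left, mul_one] at this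
    rw [e]
    exact hs
  have hcardmap : Nat.card (S0.map π) = Nat.card S0 := by
    have hi : Function.Injective (π.domRestrict S0) := by
      rw [injective_iff_map_eq_one]
      intro x hx
      exact Subtype.ext (hinj x.1 x.2 hx)
    rw [← MonoidHom.domRestrict_range]
    exact (Nat.card_congr (MonoidHom.ofInjective hi).toEquiv).symm
  have hfac : (Nat.card G').factorization p = (Nat.card G).factorization p := by
    have h1 : Nat.card G = Nat.card G' * Nat.card π.ker := by
      rw [Subgroup.card_eq_card_quotient_mul_card_subgroup π.ker,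
        Nat.card_congr (QuotientGroup.quotientKerEquivOfSurjective π hπ).toEquiv]
    rw [h1, Nat.factorization_mul Nat.card_pos.ne' Nat.card_pos.ne', Finsupp.add_apply,
      Nat.factorization_eq_zero_of_not_dvd (n := Nat.card π.ker)]
    · rw [add_zero]
    · intro h
      have := Nat.Coprime.eq_one_of_dvd hcop.symm h
      exact hp.one_lt.ne' this
  refine ⟨?_, ?_, ?_, ?_⟩
  · rw [hcardmap, hcard, hfac]
  · intro h
    apply hne
    rw [← Subgroup.card_eq_one] at h ⊢
    rw [← hcardmap, h]
  · intro g hg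
    obtain ⟨g', rfl⟩ := hπ g
    have hgn : g' ∈ Subgroup.normalizer (S0 : Set G) := by
      apply Subgroup.mem_normalizer_fintype
      intro x hx
      rw [SetLike.mem_coe]
      apply hlift
      · rw [map_mul, map_mul, map_inv]
        exact (Subgroup.mem_normalizer_iff.mp hg (π x)).mp (Subgroup.mem_map_of_mem π hx)
      · rw [conj_pow, hexp x hx]
        group
    obtain ⟨s, hs, h⟩ := hN g' hgn
    refine ⟨π s, Subgroup.mem_map_of_mem π hs, ?_⟩
    rintro _ ⟨x, hx, rfl⟩
    rw [← map_inv, ← map_mul, ← map_mul, h x hx, map_mul, map_mul, map_inv]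
  · intro T hTS hT
    have key := hsc (T.comap π ⊓ S0) inf_le_right (by
      intro x hx g hg
      refine ⟨?_, hg⟩
      show π (g * x * g⁻¹) ∈ T
      rw [map_mul, map_mul, map_inv]
      apply hT _ hx.1
      rw [← map_inv, ← map_mul, ← map_mul]
      exact Subgroup.mem_map_of_mem π hg)
    have hTeq : T = (T.comap π ⊓ S0).map π := by
      apply le_antisymm
      · intro t ht
        obtain ⟨s, hs, rfl⟩ := hTS ht
        exact ⟨s, ⟨ht, hs⟩, rfl⟩
      · rintro _ ⟨s, hs, rfl⟩
        exact hs.1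
    rcases key with h | h
    · left
      rw [hTeq, h, Subgroup.map_bot]
    · right
      rw [hTeq, h]

end Cfsg.Agent.H9.GfsSimple2
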