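import Mathlib
import Cfsg.Agent.H9.GfsSimple2
import Cfsg.Agent.H9.SylowTwoDicyclic

/-!
# The certificate for the `2`-fusion system of a group `G` from a torus normalizer of the
centralizer `H` of an involution

`ι : H →* G` is injective with image the centralizer of the involution `ι z₀`, all involutions of
`ι H` are conjugate in `G`, and `C ≤ N ≤ H` is a "torus" with `|N : C| = 2`.
-/

set_option autoImplicit false

namespace Cfsg.Agent.H9.FusAmb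

open Cfsg.Agent.H9.GfsSimple2

variable {H G : Type*} [Group H] [Group G]

/-- the ambient data: `ι H` is the centralizer of the involution `ι z₀` -/
structure Amb (ι : H →* G) (z₀ : H) : Prop where
  inj : Function.Injective ι
  zc : ∀ y : H, z₀ * y = y * z₀
  zz : z₀ * z₀ = 1
  z1 : z₀ ≠ 1
  cent : ∀ g : G, g * ι z₀ = ι z₀ * g → ∃ k, ι k = g
  uniq : ∀ x ∈ Subgroup.center H, x * x = 1 → x ≠ 1 → x = z₀
  conj : ∀ x : H, x * x = 1 → x ≠ 1 → IsConj (ι x) (ι z₀)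

/-- a maximal torus `C` of `H` and its normalizer `N` -/
structure GSetup (C N : Subgroup H) : Prop where
  le : C ≤ N
  comm : ∀ a ∈ C, ∀ b ∈ C, a * b = b * a
  idx : ∀ g ∈ N, ∀ h ∈ N, g ∉ C → h ∉ C → g * h ∈ C
  w : ∃ w ∈ N, w ∉ C ∧ w * w = 1
  normal : ∀ g ∈ N, ∀ c ∈ C, g * c * g⁻¹ ∈ C
  fix : ∀ g ∈ N, g ∉ C → ∀ c ∈ C, g * c * g⁻¹ = c → c ∈ Subgroup.center H
  cen : Subgroup.center H ≤ C
  nsc : ∀ c ∈ C, c ∉ Subgroup.center H → ∀ h : H, h * c * h⁻¹ ∈ C → h ∈ N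
  c0 : ∃ c ∈ C, (∃ k : ℕ, c ^ 2 ^ k = 1) ∧ c * c ∉ Subgroup.center H

/-- a Sylow `2`-subgroup `P₂` of `N` -/
structure PSetup (C N P₂ : Subgroup H) : Prop where
  gs : GSetup C N
  leN : P₂ ≤ N
  two : ∀ g ∈ P₂, ∃ k : ℕ, g ^ 2 ^ k = 1
  c2 : ∀ c ∈ C, (∃ k : ℕ, c ^ 2 ^ k = 1) → c ∈ P₂
  w1 : ∃ w₁ ∈ P₂, w₁ ∉ C ∧ w₁ * w₁ = 1

variable {C N P₂ : Subgroup H}

theorem central_comm (ζ y : H) (hζ : ζ ∈ Subgroup.center H) : y * ζ = ζ * y :=
  Subgroup.mem_center_iff.mp hζ y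

theorem GSetup.sq_mem (h : GSetup C N) {g : H} (hg : g ∈ N) : g * g ∈ C := by
  by_cases hc : g ∈ C
  · exact C.mul_mem hc hc
  · exact h.idx g hg g hg hc hc

theorem GSetup.inv_not_mem {g : H} (hc : g ∉ C) : g⁻¹ ∉ C :=
  fun h => hc (by simpa using Subgroup.inv_mem C h)

/-- the elements of `N` outside `C` all act in the same way on `C` -/
theorem GSetup.theta_eq (h : GSetup C N) {g k c : H} (hg : g ∈ N) (hgc : g ∉ C) (hk : k ∈ N)
    (hkc : k ∉ C) (hc : c ∈ C) : g * c * g⁻¹ = k * c * k⁻¹ := by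
  have h1 : g⁻¹ * k ∈ C := h.idx _ (N.inv_mem hg) _ hk (GSetup.inv_not_mem hgc) hkc
  have h2 := h.comm _ h1 _ hc
  have e : k * c * k⁻¹ = g * ((g⁻¹ * k) * c * (g⁻¹ * k)⁻¹) * g⁻¹ := by group
  rw [e, h2, mul_inv_cancel_right]

theorem GSetup.c0_not_central {c : H} (hcc : c * c ∉ Subgroup.center H) :
    c ∉ Subgroup.center H := fun hc => hcc (Subgroup.mul_mem _ hc hc)

/-- a central involution of `P₂` is `z₀` -/
theorem PSetup.central_invol {ι : H →* G} {z₀ : H} (ha : Amb ι z₀) (h : PSetup C N P₂) (x : H)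
    (hx : x ∈ P₂) (hcent : ∀ y ∈ P₂, x * y = y * x) (hxx : x * x = 1) (hx1 : x ≠ 1) : x = z₀ := by
  obtain ⟨c, hcC, hc2, hcc⟩ := h.gs.c0
  obtain ⟨w₁, hw₁P, hw₁C, -⟩ := h.w1
  have hcP : c ∈ P₂ := h.c2 c hcC hc2
  have hxC : x ∈ C := by
    by_contra hxC
    apply GSetup.c0_not_central hcc
    apply h.gs.fix x (h.leN hx) hxC c hcC
    rw [hcent c hcP, mul_inv_cancel_right]
  apply ha.uniq x _ hxx hx1
  apply h.gs.fix w₁ (h.leN hw₁P) hw₁C x hxC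
  rw [← hcent w₁ hw₁P, mul_inv_cancel_right]

/-- the normalizer of `P₂` lies in `N` -/
theorem PSetup.mem_N_of_normalizes (h : PSetup C N P₂) (k : H)
    (hk : ∀ x ∈ P₂, k * x * k⁻¹ ∈ P₂) : k ∈ N := by
  obtain ⟨c, hcC, hc2, hcc⟩ := h.gs.c0
  have hcP : c ∈ P₂ := h.c2 c hcC hc2
  apply h.gs.nsc c hcC (GSetup.c0_not_central hcc) k
  by_contra hb
  have hbP : k * c * k⁻¹ ∈ P₂ := hk c hcP
  have hbN := h.leN hbP
  have hsq := h.gs.sq_mem hbN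
  apply hcc
  have h1 : k * c * k⁻¹ * (k * c * k⁻¹) ∈ Subgroup.center H := by
    apply h.gs.fix _ hbN hb _ hsq
    group
  have e : c * c = k⁻¹ * (k * c * k⁻¹ * (k * c * k⁻¹)) * k := by group
  rw [e, central_comm _ k⁻¹ h1, inv_mul_cancel_right]
  exact h1

section Finite

variable [Finite H]

/-- an element of `C` normalizing `P₂` is the product of a central element and an element of `P₂` -/
theorem PSetup.decomp_of_mem_C (h : PSetup C N P₂) (k : H) (hkC : k ∈ C)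
    (hk : ∀ x ∈ P₂, k * x * k⁻¹ ∈ P₂) :
    ∃ ζ ∈ Subgroup.center H, ∃ s ∈ P₂, k = ζ * s := by
  obtain ⟨w₁, hw₁P, hw₁C, hww⟩ := h.w1
  have hw₁N := h.leN hw₁P
  have hθ : w₁ * k * w₁⁻¹ ∈ C := h.gs.normal w₁ hw₁N k hkC
  have he : k * (w₁ * k * w₁⁻¹)⁻¹ ∈ P₂ := by
    have h1 := hk w₁ hw₁P
    have h2 := P₂.mul_mem h1 (P₂.inv_mem hw₁P)
    have e : k * w₁ * k⁻¹ * w₁⁻¹ = k * (w₁ * k * w₁⁻¹)⁻¹ := by group
    rwa [e] at h2
  obtain ⟨j, hj⟩ := h.two _ he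
  have hfix : w₁ * k ^ 2 ^ j * w₁⁻¹ = k ^ 2 ^ j := by
    have e1 : w₁ * k ^ 2 ^ j * w₁⁻¹ = (w₁ * k * w₁⁻¹) ^ 2 ^ j := by rw [conj_pow]
    have hc : Commute (k * (w₁ * k * w₁⁻¹)⁻¹) (w₁ * k * w₁⁻¹) :=
      h.gs.comm _ (C.mul_mem hkC (C.inv_mem hθ)) _ hθ
    have e2 : k = (k * (w₁ * k * w₁⁻¹)⁻¹) * (w₁ * k * w₁⁻¹) := by group
    have e3 : k ^ 2 ^ j = (k * (w₁ * k * w₁⁻¹)⁻¹) ^ 2 ^ j * (w₁ * k * w₁⁻¹) ^ 2 ^ j := by
      conv_lhs => rw [e2]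
      exact hc.mul_pow _
    rw [e1, e3, hj, one_mul]
  have hcen : k ^ 2 ^ j ∈ Subgroup.center H :=
    h.gs.fix w₁ hw₁N hw₁C _ (C.pow_mem hkC _) hfix
  obtain ⟨a, m, hm, hord⟩ := Nat.exists_eq_two_pow_mul_odd (orderOf_pos k).ne'
  have hkm : k ^ m ∈ P₂ := by
    apply h.c2 _ (C.pow_mem hkC _)
    refine ⟨a, ?_⟩
    rw [← pow_mul, mul_comm, ← hord, pow_orderOf_eq_one]
  have hcop : IsCoprime ((2 ^ j : ℕ) : ℤ) (m : ℤ) := by
    rw [Nat.isCoprime_iff_coprime]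
    exact Nat.Coprime.pow_left j (Nat.coprime_two_left.mpr hm)
  obtain ⟨u, v, huv⟩ := hcop
  refine ⟨(k ^ 2 ^ j) ^ u, Subgroup.zpow_mem _ hcen u, (k ^ m) ^ v, P₂.zpow_mem hkm v, ?_⟩
  rw [← zpow_natCast k (2 ^ j), ← zpow_natCast k m, ← zpow_mul, ← zpow_mul, ← zpow_add]
  have : ((2 ^ j : ℕ) : ℤ) * u + (m : ℤ) * v = 1 := by linear_combination huv
  rw [this, zpow_one]

/-- an element normalizing `P₂` is the product of a central element and an element of `P₂` -/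
theorem PSetup.decomp (h : PSetup C N P₂) (k : H)
    (hk : ∀ x ∈ P₂, k * x * k⁻¹ ∈ P₂) :
    ∃ ζ ∈ Subgroup.center H, ∃ s ∈ P₂, k = ζ * s := by
  have hkN := h.mem_N_of_normalizes k hk
  by_cases hkC : k ∈ C
  · exact h.decomp_of_mem_C k hkC hk
  · obtain ⟨w₁, hw₁P, hw₁C, hww⟩ := h.w1
    have hw₁N := h.leN hw₁P
    have h1 : k * w₁ ∈ C := h.gs.idx k hkN w₁ hw₁N hkC hw₁C
    obtain ⟨ζ, hζ, s, hs, e⟩ := h.decomp_of_mem_C (k * w₁) h1 (by
      intro x hx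
      have := hk _ (P₂.mul_mem (P₂.mul_mem hw₁P hx) (P₂.inv_mem hw₁P))
      have e : k * w₁ * x * (k * w₁)⁻¹ = k * (w₁ * x * w₁⁻¹) * k⁻¹ := by group
      rw [e]
      exact this)
    refine ⟨ζ, hζ, s * w₁⁻¹, P₂.mul_mem hs (P₂.inv_mem hw₁P), ?_⟩
    rw [← mul_assoc, ← e, mul_inv_cancel_right]

/-- **the normalizer of `ι P₂`** -/
theorem PSetup.normalizer_decomp {ι : H →* G} {z₀ : H} (ha : Amb ι z₀) (h : PSetup C N P₂) (g : G)
    (hg : g ∈ Subgroup.normalizer ((P₂.map ι : Subgroup G) : Set G)) :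
    ∃ ζ ∈ Subgroup.center H, ∃ s ∈ P₂, g = ι (ζ * s) := by
  have hneg : z₀ ∈ P₂ := h.c2 _ (h.gs.cen (Subgroup.mem_center_iff.mpr fun y => (ha.zc y).symm))
    ⟨1, by rw [pow_one, pow_two, ha.zz]⟩
  have hz : ι z₀ ∈ P₂.map ι := Subgroup.mem_map_of_mem _ hneg
  obtain ⟨x', hx'P, hx'⟩ := (Subgroup.mem_normalizer_iff.mp hg (ι z₀)).mp hz
  have hcent : ∀ y ∈ P₂, x' * y = y * x' := by
    intro y hy
    apply ha.inj
    rw [map_mul, map_mul, hx']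
    have h3 : g⁻¹ * ι y * g ∈ P₂.map ι := by
      have := (Subgroup.mem_normalizer_iff.mp (Subgroup.inv_mem _ hg) (ι y)).mp
        (Subgroup.mem_map_of_mem _ hy)
      simpa using this
    obtain ⟨y0, hy0, hy0e⟩ := h3
    have e : ι y = g * ι y0 * g⁻¹ := by
      rw [hy0e]
      group
    rw [e]
    have hc : ι z₀ * ι y0 = ι y0 * ι z₀ := by
      rw [← map_mul, ← map_mul, ha.zc]
    calc g * ι z₀ * g⁻¹ * (g * ι y0 * g⁻¹)
        = g * (ι z₀ * ι y0) * g⁻¹ := by group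
      _ = g * (ι y0 * ι z₀) * g⁻¹ := by rw [hc]
      _ = g * ι y0 * g⁻¹ * (g * ι z₀ * g⁻¹) := by group
  have hzz : ι z₀ * ι z₀ = 1 := by
    rw [← map_mul, ha.zz, map_one]
  have hxx : x' * x' = 1 := by
    apply ha.inj
    rw [map_mul, hx', map_one]
    calc g * ι z₀ * g⁻¹ * (g * ι z₀ * g⁻¹)
        = g * (ι z₀ * ι z₀) * g⁻¹ := by group
      _ = 1 := by rw [hzz]; group
  have hx1 : x' ≠ 1 := by
    intro hx
    rw [hx, map_one] at hx'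
    have h3 : ι z₀ = 1 := by
      have : ι z₀ = g⁻¹ * (g * ι z₀ * g⁻¹) * g := by group
      rw [this, ← hx']
      group
    rw [← map_one ι] at h3
    exact ha.z1 (ha.inj h3)
  have hxe := h.central_invol ha x' hx'P hcent hxx hx1
  have hcomm : g * ι z₀ = ι z₀ * g := by
    rw [hxe] at hx'
    calc g * ι z₀ = g * ι z₀ * g⁻¹ * g := by group
      _ = ι z₀ * g := by rw [← hx']
  obtain ⟨k, rfl⟩ := ha.cent g hcomm
  have hk : ∀ x ∈ P₂, k * x * k⁻¹ ∈ P₂ := by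
    intro x hx
    obtain ⟨y, hy, hye⟩ := (Subgroup.mem_normalizer_iff.mp hg (ι x)).mp
      (Subgroup.mem_map_of_mem _ hx)
    have : y = k * x * k⁻¹ := ha.inj (by rw [hye, map_mul, map_mul, map_inv])
    rw [← this]
    exact hy
  obtain ⟨ζ, hζ, s, hs, e⟩ := h.decomp k hk
  exact ⟨ζ, hζ, s, hs, by rw [e]⟩

/-- **the automizer of the Sylow `2`-subgroup is inner** -/
theorem PSetup.inner {ι : H →* G} {z₀ : H} (ha : Amb ι z₀) (h : PSetup C N P₂) (g : G)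
    (hg : g ∈ Subgroup.normalizer ((P₂.map ι : Subgroup G) : Set G)) :
    ∃ s ∈ P₂.map ι, ∀ x ∈ P₂.map ι, g * x * g⁻¹ = s * x * s⁻¹ := by
  obtain ⟨ζ, hζ, s, hs, rfl⟩ := h.normalizer_decomp ha g hg
  refine ⟨ι s, Subgroup.mem_map_of_mem _ hs, ?_⟩
  rintro _ ⟨x, hx, rfl⟩
  rw [← map_inv, ← map_mul, ← map_mul, ← map_inv, ← map_mul, ← map_mul]
  congr 1
  have h5 : ζ * (s * x * s⁻¹) = (s * x * s⁻¹) * ζ := (central_comm ζ _ hζ).symm
  calc ζ * s * x * (ζ * s)⁻¹ = ζ * (s * x * s⁻¹) * ζ⁻¹ := by group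
    _ = s * x * s⁻¹ := by rw [h5, mul_inv_cancel_right]

end Finite

/-- **strongly closed subgroups** -/
theorem PSetup.sc [Finite G] {ι : H →* G} {z₀ : H} (ha : Amb ι z₀) (h : PSetup C N P₂)
    (hgen : ∀ T₂ : Subgroup H, T₂ ≤ P₂ → (∀ g ∈ P₂, g * g = 1 → g ∈ T₂) →
      (∀ c ∈ P₂, c ∈ C → (∀ g ∈ N, g ∉ C → g * c * g⁻¹ = c⁻¹) → c ∈ T₂) →
      (∀ x ∈ T₂, ∀ y ∈ P₂, IsConj (ι x) (ι y) → y ∈ T₂) → ∀ c ∈ P₂, c ∈ C → c ∈ T₂)
    (T : Subgroup G) (hTS : T ≤ P₂.map ι)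
    (hT : ∀ x ∈ T, ∀ g : G, g * x * g⁻¹ ∈ P₂.map ι → g * x * g⁻¹ ∈ T) :
    T = ⊥ ∨ T = P₂.map ι := by
  by_cases hTbot : T = ⊥
  · exact Or.inl hTbot
  right
  apply le_antisymm hTS
  have hneg : z₀ ∈ P₂ := h.c2 _ (h.gs.cen (Subgroup.mem_center_iff.mpr fun y => (ha.zc y).symm))
    ⟨1, by rw [pow_one, pow_two, ha.zz]⟩
  have hz : ι z₀ ∈ P₂.map ι := Subgroup.mem_map_of_mem _ hneg
  obtain ⟨w₁, hw₁P, hw₁C, hww⟩ := h.w1
  have hw₁N := h.leN hw₁P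
  -- an involution of `T`
  have hpS : IsPGroup 2 ↥(P₂.map ι) := by
    rintro ⟨_, ⟨x, hx, rfl⟩⟩
    obtain ⟨k, hk⟩ := h.two x hx
    refine ⟨k, Subtype.ext ?_⟩
    show ι x ^ 2 ^ k = 1
    rw [← map_pow, hk, map_one]
  have hTp : IsPGroup 2 T := hpS.to_le hTS
  have hTcard : 2 ∣ Nat.card T := by
    obtain ⟨n, hn⟩ := IsPGroup.iff_card.mp hTp
    rcases Nat.eq_zero_or_pos n with h' | h'
    · exfalso
      apply hTbot
      rw [h', pow_zero] at hn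
      exact Subgroup.card_eq_one.mp hn
    · rw [hn]
      exact dvd_pow_self 2 h'.ne'
  obtain ⟨t, ht⟩ := exists_prime_orderOf_dvd_card' 2 hTcard
  have ht1 : (t : G) ≠ 1 := by
    intro h'
    have : t = 1 := Subtype.ext h'
    rw [this, orderOf_one] at ht
    omega
  have htt : (t : G) * t = 1 := by
    have := pow_orderOf_eq_one t
    rw [ht, pow_two] at this
    exact congrArg Subtype.val this
  have hmem0 : ∀ g : H, g * g = 1 → g ≠ 1 → ι g ∈ T → ι z₀ ∈ T := by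
    intro g hgg hg1 hgT
    obtain ⟨c, hc⟩ := isConj_iff.mp (ha.conj g hgg hg1)
    rw [← hc]
    apply hT _ hgT
    rw [hc]
    exact hz
  -- `z ∈ T`
  have hzT : ι z₀ ∈ T := by
    obtain ⟨x, hx, hxt⟩ := hTS t.2
    have hxx : x * x = 1 := by
      apply ha.inj
      rw [map_mul, hxt, htt, map_one]
    have hx1 : x ≠ 1 := by
      intro h'
      rw [h', map_one] at hxt
      exact ht1 hxt.symm
    apply hmem0 x hxx hx1
    rw [hxt]
    exact t.2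
  have hmem : ∀ g ∈ P₂, g * g = 1 → ι g ∈ T := by
    intro g hg hgg
    by_cases hg1 : g = 1
    · rw [hg1, map_one]
      exact T.one_mem
    obtain ⟨d, hd⟩ := isConj_iff.mp (ha.conj g hgg hg1).symm
    rw [← hd]
    apply hT _ hzT
    rw [hd]
    exact Subgroup.mem_map_of_mem _ hg
  -- the subgroup `T₂`
  have key := hgen (T.comap ι ⊓ P₂) inf_le_right (fun g hg hgg => ⟨hmem g hg hgg, hg⟩) ?_ (by
    intro x hx y hy hxy
    refine ⟨?_, hy⟩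
    show ι y ∈ T
    obtain ⟨c, hc⟩ := isConj_iff.mp hxy
    rw [← hc]
    apply hT _ hx.1
    rw [hc]
    exact Subgroup.mem_map_of_mem _ hy)
  · rintro _ ⟨g, hg, rfl⟩
    by_cases hgC : g ∈ C
    · exact (key g hg hgC).1
    · have h1 : g * w₁ ∈ C := h.gs.idx g (h.leN hg) w₁ hw₁N hgC hw₁C
      have h3 := (key (g * w₁) (P₂.mul_mem hg hw₁P) h1).1
      have h4 : ι w₁ ∈ T := hmem w₁ hw₁P hww
      have h5 : ι (g * w₁) ∈ T := h3
      have := T.mul_mem h5 (T.inv_mem h4)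
      rwa [map_mul, mul_inv_cancel_right] at this
  · -- the elements of `C` inverted by `N \ C`
    intro c hcP hcC hinv
    have hcw : (c * w₁) * (c * w₁) = 1 := by
      have h1 := hinv w₁ hw₁N hw₁C
      calc c * w₁ * (c * w₁) = c * (w₁ * c * w₁⁻¹) * (w₁ * w₁) := by group
        _ = 1 := by rw [h1, hww, mul_inv_cancel, one_mul]
    refine ⟨?_, hcP⟩
    show ι c ∈ T
    have h5 := hmem (c * w₁) (P₂.mul_mem hcP hw₁P) hcw
    have h4 := hmem w₁ hw₁P hww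
    have := T.mul_mem h5 (T.inv_mem h4)
    rwa [map_mul, mul_inv_cancel_right] at this

/-- a Sylow `2`-subgroup of `N` containing the involution `w` -/
theorem GSetup.exists_psetup [Finite H] (h : GSetup C N) : ∃ P₂ : Subgroup H, PSetup C N P₂ := by
  obtain ⟨w, hwN, hwC, hww⟩ := h.w
  have hpw : IsPGroup 2 (Subgroup.zpowers (⟨w, hwN⟩ : N)) := by
    apply Cfsg.Agent.H9.SylowTwoDicyclic.isPGroup_zpowers _ 1
    apply Subtype.ext
    show w ^ 2 ^ 1 = 1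
    rw [pow_one, pow_two, hww]
  obtain ⟨Q, hQ⟩ := hpw.exists_le_sylow
  -- the `2`-elements of `C`
  let C₂ : Subgroup N :=
    { carrier := {n | n.1 ∈ C ∧ ∃ k : ℕ, n.1 ^ 2 ^ k = 1}
      one_mem' := ⟨C.one_mem, 0, by simp⟩
      mul_mem' := by
        rintro a b ⟨ha, ka, hka⟩ ⟨hb, kb, hkb⟩
        refine ⟨C.mul_mem ha hb, ka + kb, ?_⟩
        show (a.1 * b.1) ^ 2 ^ (ka + kb) = 1
        have hc : Commute a.1 b.1 := h.comm _ ha _ hb
        rw [hc.mul_pow, pow_add, pow_mul, hka, one_pow, mul_comm (2 ^ ka), pow_mul, hkb, one_pow,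
          one_mul]
      inv_mem' := by
        rintro a ⟨ha, ka, hka⟩
        refine ⟨C.inv_mem ha, ka, ?_⟩
        show (a.1)⁻¹ ^ 2 ^ ka = 1
        rw [inv_pow, hka, inv_one] }
  have hC₂n : C₂.Normal := by
    constructor
    rintro a ⟨ha, ka, hka⟩ g
    refine ⟨h.normal g.1 g.2 a.1 ha, ka, ?_⟩
    show (g.1 * a.1 * g.1⁻¹) ^ 2 ^ ka = 1
    rw [conj_pow, hka]
    group
  have hC₂p : IsPGroup 2 C₂ := by
    rintro ⟨a, ha, ka, hka⟩
    refine ⟨ka, Subtype.ext (Subtype.ext ?_)⟩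
    exact hka
  have hC₂Q : C₂ ≤ Q := hC₂p.le_sylow_of_normal Q
  refine ⟨(Q : Subgroup N).map N.subtype, ⟨h, ?_, ?_, ?_, ?_⟩⟩
  · rintro _ ⟨q, -, rfl⟩
    exact q.2
  · rintro _ ⟨q, hq, rfl⟩
    obtain ⟨k, hk⟩ := Q.isPGroup' ⟨q, hq⟩
    refine ⟨k, ?_⟩
    have := congrArg (fun x : (Q : Subgroup N) => ((x : N) : H)) hk
    exact this
  · rintro c hc ⟨k, hk⟩
    exact ⟨⟨c, h.le hc⟩, hC₂Q ⟨hc, k, hk⟩, rfl⟩
  · refine ⟨w, ⟨⟨w, hwN⟩, hQ (Subgroup.mem_zpowers _), rfl⟩, hwC, hww⟩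

/-- **`ι P₂` is a Sylow `2`-subgroup of `G`**, since its normalizer is `ι (Z(H) P₂)` -/
theorem PSetup.card_map [Finite H] [Finite G] {ι : H →* G} {z₀ : H} (ha : Amb ι z₀)
    (h : PSetup C N P₂) : Nat.card (P₂.map ι) = 2 ^ (Nat.card G).factorization 2 := by
  have : Fact (Nat.Prime 2) := ⟨Nat.prime_two⟩
  have hpS : IsPGroup 2 ↥(P₂.map ι) := by
    rintro ⟨_, ⟨x, hx, rfl⟩⟩
    obtain ⟨k, hk⟩ := h.two x hx
    refine ⟨k, Subtype.ext ?_⟩
    show ι x ^ 2 ^ k = 1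
    rw [← map_pow, hk, map_one]
  obtain ⟨Q, hQ⟩ := hpS.exists_le_sylow
  have hQS : (Q : Subgroup G) ≤ P₂.map ι := by
    by_contra hne
    have hlt : (P₂.map ι).subgroupOf (Q : Subgroup G) < ⊤ := by
      rw [lt_top_iff_ne_top]
      intro htop
      apply hne
      intro x hx
      have : (⟨x, hx⟩ : (Q : Subgroup G)) ∈ (P₂.map ι).subgroupOf (Q : Subgroup G) := by
        rw [htop]
        exact Subgroup.mem_top _
      exact this
    have hnil : Group.IsNilpotent (Q : Subgroup G) := Q.isPGroup'.isNilpotent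
    have hnc := Group.normalizerCondition_of_isNilpotent (G := (Q : Subgroup G)) _ hlt
    obtain ⟨x, hxn, hxS⟩ := SetLike.exists_of_lt hnc
    -- `x` normalizes `ι P₂`
    have hxN : (x : G) ∈ Subgroup.normalizer ((P₂.map ι : Subgroup G) : Set G) := by
      rw [Subgroup.mem_normalizer_iff]
      intro y
      rw [Subgroup.mem_normalizer_iff] at hxn
      constructor
      · intro hy
        exact (hxn ⟨y, hQ hy⟩).mp hy
      · intro hy
        have hyQ : y ∈ (Q : Subgroup G) := by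
          have h1 := (Q : Subgroup G).mul_mem ((Q : Subgroup G).mul_mem
            ((Q : Subgroup G).inv_mem x.2) (hQ hy)) x.2
          have e : (x : G)⁻¹ * ((x : G) * y * (x : G)⁻¹) * (x : G) = y := by group
          rwa [e] at h1
        exact (hxn ⟨y, hyQ⟩).mpr hy
    obtain ⟨ζ, hζ, s, hs, e⟩ := h.normalizer_decomp ha _ hxN
    apply hxS
    show (x : G) ∈ P₂.map ι
    rw [e]
    apply Subgroup.mem_map_of_mem
    apply P₂.mul_mem _ hs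
    apply h.c2 ζ (h.gs.cen hζ)
    -- `ζ` is a `2`-element
    have hζQ : ι ζ ∈ (Q : Subgroup G) := by
      have h1 := (Q : Subgroup G).mul_mem x.2
        ((Q : Subgroup G).inv_mem (hQ (Subgroup.mem_map_of_mem ι hs)))
      rw [e, map_mul, mul_inv_cancel_right] at h1
      exact h1
    obtain ⟨k, hk⟩ := Q.isPGroup' ⟨ι ζ, hζQ⟩
    refine ⟨k, ha.inj ?_⟩
    rw [map_pow, map_one]
    exact congrArg Subtype.val hk
  have : P₂.map ι = (Q : Subgroup G) := le_antisymm hQ hQS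
  rw [this, Q.card_eq_multiplicity]

/-- **the certificate** -/
theorem exists_certificate [Finite H] [Finite G] {ι : H →* G} {z₀ : H} (ha : Amb ι z₀)
    (h : GSetup C N)
    (hgen : ∀ P₂ T₂ : Subgroup H, PSetup C N P₂ → T₂ ≤ P₂ → (∀ g ∈ P₂, g * g = 1 → g ∈ T₂) →
      (∀ c ∈ P₂, c ∈ C → (∀ g ∈ N, g ∉ C → g * c * g⁻¹ = c⁻¹) → c ∈ T₂) →
      (∀ x ∈ T₂, ∀ y ∈ P₂, IsConj (ι x) (ι y) → y ∈ T₂) → ∀ c ∈ P₂, c ∈ C → c ∈ T₂) :
    ∃ S0 : Subgroup G, Certificate 2 S0 := by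
  obtain ⟨P₂, hP⟩ := h.exists_psetup
  refine ⟨P₂.map ι, hP.card_map ha, ?_, ?_, ?_⟩
  · intro hbot
    obtain ⟨w₁, hw₁P, hw₁C, -⟩ := hP.w1
    have : ι w₁ ∈ P₂.map ι := Subgroup.mem_map_of_mem _ hw₁P
    rw [hbot, Subgroup.mem_bot, ← map_one ι] at this
    apply hw₁C
    rw [ha.inj this]
    exact C.one_mem
  · exact fun g hg => hP.inner ha g hg
  · exact fun T hTS hT => hP.sc ha (hgen P₂ · hP) T hTS hT

end Cfsg.Agent.H9.FusAmb
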