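import Cfsg.Agent.H9.NatPermSylow3
import Cfsg.Agent.Lib.Helper6.GolayBSGS
import Cfsg.Agent.Lib.Helper6.GolayM11Two
import Cfsg.Agent.Lib.Helper6.M12Out4
import Cfsg.Agent.H9.M11Inv

/-!
# The small Mathieu groups `M23`, `M12`, `M11` as groups of coded permutations: membership and orders
-/

set_option autoImplicit false

namespace Cfsg.Agent.H9.FusGrp

open Cfsg Cfsg.Agent.Lib.Helper6.Golay Cfsg.Agent.Lib.Helper6.Golay.M12Out Cfsg.Agent.H9.NatPerm
open Cfsg.Agent.Lib.Helper6.PermChain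
open scoped Pointwise

theorem exists_M24_of_chkL {c : ℕ} {l : List ℕ} (h : chkL l = true) (hd : dec24 c = l) :
    ∃ g ∈ M24, IsC g c := by
  obtain ⟨g, hg, hgl⟩ := exists_of_chk h
  refine ⟨g, hg, ?_⟩
  unfold IsC
  rw [hd]
  exact hgl

theorem exists_M24_of_lists {cs : List ℕ} {ls : List (List ℕ)} (h1 : ls.all chkL = true)
    (h2 : cs.map dec24 = ls) : ∀ c ∈ cs, ∃ g ∈ M24, IsC g c := by
  intro c hc
  have h3 : dec24 c ∈ ls := by
    rw [← h2]
    exact List.mem_map_of_mem hc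
  exact exists_M24_of_chkL (List.all_eq_true.mp h1 _ h3) rfl

theorem fac_pow_mul {p k m : ℕ} (hp : p.Prime) (hm : ¬ p ∣ m) (hm0 : m ≠ 0) :
    (p ^ k * m).factorization p = k := by
  rw [Nat.factorization_mul (pow_ne_zero k hp.ne_zero) hm0, Finsupp.add_apply,
    Nat.Prime.factorization_pow hp, Finsupp.single_eq_same,
    Nat.factorization_eq_zero_of_not_dvd hm, add_zero]

theorem sq_of_isC {g : Equiv.Perm GolayPt} {c : ℕ} (hc : IsC g c) (h : pmul c c = idc) :
    g * g = 1 := by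
  have := hc.mul hc
  rw [h] at this
  exact this.ext isC_one

theorem ne_one_of_isC {g : Equiv.Perm GolayPt} {c : ℕ} (hc : IsC g c) (hlt : c < 32 ^ 24)
    (hne : Nat.beq c idc = false) : g ≠ 1 := by
  intro h
  rw [h] at hc
  have := hc.code_eq isC_one hlt idc_lt
  rw [this] at hne
  have h2 : Nat.beq idc idc = true := by rw [Nat.beq_eq]
  rw [h2] at hne
  exact absurd hne (by simp)

theorem comm_of_isC {z g : Equiv.Perm GolayPt} {zc c : ℕ} (hz : IsC z zc) (hg : IsC g c)
    (h : pmul c zc = pmul zc c) : g * z = z * g := by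
  have h2 := hg.mul hz
  have h3 := hz.mul hg
  rw [h] at h2
  exact h2.ext h3

theorem pt23' : pt 23 = (none : GolayPt) := rfl

theorem pt0' : pt 0 = (some 0 : GolayPt) := rfl

/-! ### `M23` -/

/-- the test for the stabilizer of the extra point -/
def chk23 (c : ℕ) : Bool := Nat.beq (aget c 23) 23

theorem mem_SporM23' {g : Equiv.Perm GolayPt} : g ∈ Spor.M23 ↔ g ∈ M24 ∧ g none = none := by
  show g ∈ M24 ⊓ MulAction.stabilizer (Equiv.Perm GolayPt) (none : GolayPt) ↔ _
  rw [Subgroup.mem_inf]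
  exact Iff.rfl

theorem mem_M23_of_isC {g : Equiv.Perm GolayPt} {c : ℕ} (hg : g ∈ M24) (hc : IsC g c)
    (hf : chk23 c = true) : g ∈ Spor.M23 := by
  unfold chk23 at hf
  rw [Nat.beq_eq] at hf
  rw [mem_SporM23']
  refine ⟨hg, ?_⟩
  rw [← pt23', hc.apply (by norm_num), hf]

theorem M23_eq_fixL : Spor.M23 = fixL M24 [none] := by
  ext g
  rw [mem_SporM23', mem_fixL]
  constructor
  · rintro ⟨h1, h2⟩
    refine ⟨h1, ?_⟩
    intro x hx
    simp only [List.mem_cons, List.not_mem_nil, or_false] at hx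
    rw [hx]
    exact h2
  · rintro ⟨h1, h2⟩
    exact ⟨h1, h2 _ (by simp)⟩

theorem card_SporM23 : Nat.card ↥Spor.M23 = 10200960 := by
  rw [M23_eq_fixL, card_fixL_single]

/-! ### `M12` and `M11` -/

/-- the dodecad of squares as a mask -/
def sqMask : ℕ := 0x5335f

set_option maxRecDepth 100000 in
theorem squareDodecad_eq_fs : Spor.squareDodecad = fs sqMask := by
  ext p
  rw [mem_fs]
  unfold Spor.squareDodecad support₂ qrWord sqMask
  revert p
  decide +kernel

/-- the test for the stabilizer of the dodecad of squares -/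
def chk12 (c : ℕ) : Bool :=
  (List.range 24).all fun i => Nat.testBit sqMask i == Nat.testBit sqMask (aget c i)

theorem smul_eq_of_forall {g : Equiv.Perm GolayPt} {s : Finset GolayPt}
    (h : ∀ p, p ∈ s ↔ g p ∈ s) : g • s = s := by
  ext q
  rw [← Finset.inv_smul_mem_iff, h (g⁻¹ • q)]
  rw [Equiv.Perm.smul_def]
  have : g (g⁻¹ q) = q := by
    rw [← Equiv.Perm.mul_apply, mul_inv_cancel, Equiv.Perm.one_apply]
  rw [this]

theorem smul_sq_of_isC {g : Equiv.Perm GolayPt} {c : ℕ} (hc : IsC g c) (hf : chk12 c = true) :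
    g • Spor.squareDodecad = Spor.squareDodecad := by
  apply smul_eq_of_forall
  intro p
  have hi : idx p < 24 := idx_lt p
  have h1 := List.all_eq_true.mp hf (idx p) (List.mem_range.mpr hi)
  rw [beq_iff_eq] at h1
  have h2 : aget c (idx p) < 24 := by
    have := getD_lt hc.1 hi
    rwa [getD_dec24 c hi] at this
  rw [squareDodecad_eq_fs, mem_fs, mem_fs]
  have h3 : g p = pt (aget c (idx p)) := by
    conv_lhs => rw [← pt_idx p]
    exact hc.apply hi
  rw [h3, idx_pt _ h2, h1]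

theorem mem_M12_of_isC {g : Equiv.Perm GolayPt} {c : ℕ} (hg : g ∈ M24) (hc : IsC g c)
    (hf : chk12 c = true) : g ∈ Spor.M12 :=
  mem_SporM12.mpr ⟨hg, smul_sq_of_isC hc hf⟩

theorem card_SporM12 : Nat.card ↥Spor.M12 = 95040 := by
  obtain ⟨e⟩ := nonempty_equiv_SporM12
  rw [← Nat.card_congr e.toEquiv]
  exact card_M12

/-- the test for the stabilizer of the dodecad of squares and of the residue zero -/
def chk11 (c : ℕ) : Bool := chk12 c && Nat.beq (aget c 0) 0

theorem mem_M11_of_isC {g : Equiv.Perm GolayPt} {c : ℕ} (hg : g ∈ M24) (hc : IsC g c)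
    (hf : chk11 c = true) : g ∈ Spor.M11 := by
  unfold chk11 at hf
  rw [Bool.and_eq_true, Nat.beq_eq] at hf
  rw [mem_SporM11]
  refine ⟨hg, smul_sq_of_isC hc hf.1, ?_⟩
  rw [← pt0', hc.apply (by norm_num), hf.2]

theorem card_SporM11 : Nat.card ↥Spor.M11 = 7920 := by
  rw [Cfsg.Agent.H9.M11Inv.card_M11]
  norm_num

/-- the common pattern: coded permutations passing the test of `M24` and a test of the subgroup -/
theorem exists_mem_of_lists {H : Subgroup (Equiv.Perm GolayPt)} {chk : ℕ → Bool}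
    (hmem : ∀ {g : Equiv.Perm GolayPt} {c : ℕ}, g ∈ M24 → IsC g c → chk c = true → g ∈ H)
    {cs : List ℕ} {ls : List (List ℕ)} (h1 : ls.all chkL = true) (h2 : cs.map dec24 = ls)
    (h3 : cs.all chk = true) : ∀ c ∈ cs, ∃ g ∈ H, IsC g c := by
  intro c hc
  obtain ⟨g, hg, hgc⟩ := exists_M24_of_lists h1 h2 c hc
  exact ⟨g, hmem hg hgc (List.all_eq_true.mp h3 c hc), hgc⟩

end Cfsg.Agent.H9.FusGrp
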