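import Cfsg.Agent.Lib.Helper7.GroupFusionSimple
import Cfsg.Agent.Lib.Helper7.GroupFusion
import Cfsg.Agent.Lib.Helper7.FusionNormal
import Cfsg.Agent.Lib.Helper7.FusionEssential
import Cfsg.Agent.Lib.Helper7.AutInduced
import Cfsg.Agent.Lib.Lead.PGroup

/-!
# Simplicity of the fusion system of a group with a self-normalizing Sylow subgroup

If a Sylow `p`-subgroup `S₀` of `G` is its own normalizer and no proper nontrivial subgroup of `S₀` is
closed under the `G`-conjugations that end in `S₀`, then the `p`-fusion system of `G` on every Sylow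
`p`-subgroup is simple (by the criterion `gfs_isSimple_criterion`).
-/

set_option autoImplicit false

namespace Cfsg.Agent.H9.GfsSimple

open Cfsg Cfsg.FusionSystem Cfsg.Agent.Lib.Helper7

variable {G : Type*} [Group G]

theorem conjHom_apply (P : Subgroup G) (g : G) (x : P) : conjHom P g x = g * (x : G) * g⁻¹ := rfl

/-- elementwise form of strong closure in the fusion system of a group -/
theorem conj_mem_of_stronglyClosed {S T : Subgroup G}
    (hT : (groupFusionSystem S).StronglyClosed T) {x g : G} (hx : x ∈ T)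
    (hg : g * x * g⁻¹ ∈ S) : g * x * g⁻¹ ∈ T := by
  obtain ⟨hTS, h⟩ := hT
  have hR : Subgroup.zpowers x ≤ T := by
    rw [Subgroup.zpowers_le]
    exact hx
  have hφ : conjHom (Subgroup.zpowers x) g ∈ (groupFusionSystem S).Hom (Subgroup.zpowers x) := by
    refine ⟨hR.trans hTS, ?_, g, fun y => rfl⟩
    intro y
    obtain ⟨k, hk⟩ := Subgroup.mem_zpowers_iff.mp y.2
    show g * (y : G) * g⁻¹ ∈ S
    rw [← hk]
    have e : g * x ^ k * g⁻¹ = (g * x * g⁻¹) ^ k := by
      rw [conj_zpow]
    rw [e]
    exact S.zpow_mem hg k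
  exact h _ hR _ hφ ⟨x, Subgroup.mem_zpowers x⟩

theorem autInducedBy_self_eq (S : Subgroup G) : autInducedBy S S = Inn ↥S := by
  ext α
  rw [mem_autInducedBy_iff]
  constructor
  · rintro ⟨g, hg, h⟩
    refine ⟨⟨g, hg⟩, ?_⟩
    ext x
    rw [h]
    simp [MulAut.conj_apply]
  · rintro ⟨g, rfl⟩
    refine ⟨g, g.2, fun x => ?_⟩
    simp [MulAut.conj_apply]

/-- a subgroup of a finite group conjugate into itself is mapped onto itself -/
theorem map_conj_eq_of_le [Finite G] {S : Subgroup G} {g : G}
    (h : S.map (MulAut.conj g).toMonoidHom ≤ S) : S.map (MulAut.conj g).toMonoidHom = S := by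
  apply Subgroup.eq_of_le_of_card_ge h
  rw [Subgroup.card_map_of_injective (MulAut.conj g).injective]

section

variable [Finite G] (p : ℕ) [Fact p.Prime] (S : Sylow p G)

omit [Fact p.Prime] in
theorem isConj_self_iff {Q : Subgroup G}
    (h : (groupFusionSystem (S : Subgroup G)).IsConj (S : Subgroup G) Q) : Q = S := by
  obtain ⟨g, hg, hQ⟩ := (gfs_isConj_iff _ _ _ le_rfl).mp h
  rw [← hg] at hQ ⊢
  exact map_conj_eq_of_le hQ

omit [Finite G] [Fact p.Prime] in
theorem autInducedBy_top_eq_self
    (hN : Subgroup.normalizer ((S : Subgroup G) : Set G) ≤ S) :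
    autInducedBy ⊤ (S : Subgroup G) = autInducedBy (S : Subgroup G) (S : Subgroup G) := by
  rw [autInducedBy_eq_map, autInducedBy_eq_map]
  congr 2
  rw [top_inf_eq, inf_eq_right.mpr hN]

theorem hb_of_self_normalizing (hN : Subgroup.normalizer ((S : Subgroup G) : Set G) ≤ S) :
    autInducedBy ⊤ (S : Subgroup G) =
      ⨆ (R : Subgroup G) (_ : (groupFusionSystem (S : Subgroup G)).IsFullyNormalized R ∧
        (groupFusionSystem (S : Subgroup G)).IsRadical p R ∧
        (groupFusionSystem (S : Subgroup G)).IsCentric R),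
        autInducedBy (Subgroup.closure {g : G | g ∈ Subgroup.normalizer (R : Set G) ∧
          ∃ k : ℕ, orderOf g = p ^ k}) (S : Subgroup G) := by
  apply le_antisymm
  · -- the term of `R = S`
    have hFN : (groupFusionSystem (S : Subgroup G)).IsFullyNormalized (S : Subgroup G) := by
      refine ⟨le_rfl, fun Q hQ => ?_⟩
      rw [isConj_self_iff p S hQ]
    have hC : (groupFusionSystem (S : Subgroup G)).IsCentric (S : Subgroup G) := by
      refine ⟨le_rfl, fun Q hQ => ?_⟩
      rw [isConj_self_iff p S hQ]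
      exact inf_le_left
    have hA : (groupFusionSystem (S : Subgroup G)).autGroup (S : Subgroup G) = Inn ↥(S : Subgroup G) := by
      rw [gfs_autGroup_eq _ _ le_rfl, autInducedBy_top_eq_self p S hN, autInducedBy_self_eq]
    have hR : (groupFusionSystem (S : Subgroup G)).IsRadical p (S : Subgroup G) := by
      refine ⟨le_rfl, ?_⟩
      have hp : IsPGroup p ↥((groupFusionSystem (S : Subgroup G)).autGroup (S : Subgroup G)) := by
        rw [hA]
        exact isPGroup_inn S.isPGroup'
      have htop : pCore p ↥((groupFusionSystem (S : Subgroup G)).autGroup (S : Subgroup G)) = ⊤ := by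
        apply le_antisymm le_top
        apply le_sSup
        refine ⟨inferInstance, ?_⟩
        intro x
        obtain ⟨k, hk⟩ := hp x.1
        exact ⟨k, Subtype.ext hk⟩
      rw [htop, ← MonoidHom.range_eq_map, Subgroup.range_subtype, hA]
    refine le_trans ?_ (le_iSup₂ (f := fun (R : Subgroup G)
      (_ : (groupFusionSystem (S : Subgroup G)).IsFullyNormalized R ∧
        (groupFusionSystem (S : Subgroup G)).IsRadical p R ∧
        (groupFusionSystem (S : Subgroup G)).IsCentric R) =>
        autInducedBy (Subgroup.closure {g : G | g ∈ Subgroup.normalizer (R : Set G) ∧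
          ∃ k : ℕ, orderOf g = p ^ k}) (S : Subgroup G)) (S : Subgroup G) ⟨hFN, hR, hC⟩)
    rw [autInducedBy_top_eq_self p S hN]
    apply autInducedBy_mono
    intro g hg
    apply Subgroup.subset_closure
    refine ⟨Subgroup.le_normalizer hg, ?_⟩
    obtain ⟨k, hk⟩ := S.isPGroup' ⟨g, hg⟩
    have hk' : g ^ p ^ k = 1 := congrArg Subtype.val hk
    have hdvd : orderOf g ∣ p ^ k := orderOf_dvd_of_pow_eq_one hk'
    obtain ⟨j, -, hj⟩ := (Nat.dvd_prime_pow (Fact.out : p.Prime)).mp hdvd
    exact ⟨j, hj⟩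
  · apply iSup₂_le
    intro R _
    exact autInducedBy_mono le_top _

/-- the criterion, for one Sylow subgroup -/
theorem isSimple_of_self_normalizing (hS1 : (S : Subgroup G) ≠ ⊥)
    (hN : Subgroup.normalizer ((S : Subgroup G) : Set G) ≤ S)
    (hsc : ∀ T : Subgroup G, T ≤ S →
      (∀ x ∈ T, ∀ g : G, g * x * g⁻¹ ∈ (S : Subgroup G) → g * x * g⁻¹ ∈ T) →
      T = ⊥ ∨ T = (S : Subgroup G)) :
    (groupFusionSystem (S : Subgroup G)).IsSimple p := by
  apply gfs_isSimple_criterion p S hS1
  · intro T hT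
    exact hsc T hT.1 (fun x hx g hg => conj_mem_of_stronglyClosed hT hx hg)
  · exact hb_of_self_normalizing p S hN

end

/-- **the criterion for every Sylow subgroup, from one subgroup of Sylow order** -/
theorem isSimple_of_certificate [Finite G] (p : ℕ) [Fact p.Prime] (S0 : Subgroup G)
    (hcard : Nat.card S0 = p ^ (Nat.card G).factorization p) (hne : S0 ≠ ⊥)
    (hN : Subgroup.normalizer (S0 : Set G) ≤ S0)
    (hsc : ∀ T : Subgroup G, T ≤ S0 →
      (∀ x ∈ T, ∀ g : G, g * x * g⁻¹ ∈ S0 → g * x * g⁻¹ ∈ T) → T = ⊥ ∨ T = S0)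
    (S : Sylow p G) : (groupFusionSystem (S : Subgroup G)).IsSimple p := by
  obtain ⟨g, hg⟩ := MulAction.exists_smul_eq G (Sylow.ofCard S0 hcard) S
  have hmem : ∀ y : G, y ∈ (S : Subgroup G) ↔ g⁻¹ * y * g ∈ S0 := by
    intro y
    rw [← hg, Sylow.coe_subgroup_smul, Subgroup.mem_pointwise_smul_iff_inv_smul_mem,
      MulAut.smul_def, MulAut.conj_inv_apply]
    rfl
  have hmem' : ∀ y : G, y ∈ S0 ↔ g * y * g⁻¹ ∈ (S : Subgroup G) := by
    intro y
    rw [hmem]
    have : g⁻¹ * (g * y * g⁻¹) * g = y := by group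
    rw [this]
  apply isSimple_of_self_normalizing p S
  · intro h
    apply hne
    rw [Subgroup.eq_bot_iff_forall]
    intro x hx
    have h1 := (hmem' x).mp hx
    rw [h, Subgroup.mem_bot] at h1
    have : x = g⁻¹ * (g * x * g⁻¹) * g := by group
    rw [this, h1]
    group
  · intro n hn
    rw [hmem]
    apply hN
    rw [Subgroup.mem_normalizer_iff] at hn ⊢
    intro y
    rw [hmem' y, hn (g * y * g⁻¹), hmem]
    have : g⁻¹ * (n * (g * y * g⁻¹) * n⁻¹) * g = g⁻¹ * n * g * y * (g⁻¹ * n * g)⁻¹ := by group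
    rw [this]
  · intro T hTS hT
    have key := hsc (T.comap (MulAut.conj g).toMonoidHom) (by
      intro y hy
      rw [hmem']
      exact hTS hy) (by
      intro x hx k hk
      show g * (k * x * k⁻¹) * g⁻¹ ∈ T
      have h1 : g * x * g⁻¹ ∈ T := hx
      have h2 := hT _ h1 (g * k * g⁻¹) (by
        have : g * k * g⁻¹ * (g * x * g⁻¹) * (g * k * g⁻¹)⁻¹ = g * (k * x * k⁻¹) * g⁻¹ := by group
        rw [this]
        exact (hmem' _).mp hk)
      have : g * k * g⁻¹ * (g * x * g⁻¹) * (g * k * g⁻¹)⁻¹ = g * (k * x * k⁻¹) * g⁻¹ := by group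
      rw [this] at h2
      exact h2)
    rcases key with h | h
    · left
      rw [Subgroup.eq_bot_iff_forall]
      intro x hx
      have h1 : g⁻¹ * x * g ∈ T.comap (MulAut.conj g).toMonoidHom := by
        show g * (g⁻¹ * x * g) * g⁻¹ ∈ T
        have : g * (g⁻¹ * x * g) * g⁻¹ = x := by group
        rw [this]
        exact hx
      rw [h, Subgroup.mem_bot] at h1
      have : x = g * (g⁻¹ * x * g) * g⁻¹ := by group
      rw [this, h1]
      group
    · right
      apply le_antisymm hTS
      intro x hx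
      have h1 : g⁻¹ * x * g ∈ S0 := (hmem x).mp hx
      rw [← h] at h1
      have h2 : g * (g⁻¹ * x * g) * g⁻¹ ∈ T := h1
      have : g * (g⁻¹ * x * g) * g⁻¹ = x := by group
      rw [this] at h2
      exact h2

end Cfsg.Agent.H9.GfsSimple
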