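import Cfsg.Agent.H9.NatPermSylow2
import Cfsg.Agent.H9.GfsSimple

/-!
# Simplicity of the `2`-fusion system of a group of permutations of the 24 points, from certificates
-/

set_option autoImplicit false

namespace Cfsg.Agent.H9.NatPerm

open Cfsg Cfsg.Agent.Lib.Helper6.Golay Cfsg.Agent.Lib.Helper6.Golay.M12Out

/-- **the `2`-fusion system is simple**: a listed Sylow `2`-subgroup with centre of order two, equal to
its normalizer, and generated from the central involution by conjugations ending in it and by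
products -/
theorem gfs_isSimple_of_cert {H : Subgroup (Equiv.Perm GolayPt)} {z : Equiv.Perm GolayPt}
    (sg kg : ℕ → ℕ) (L LP LK LT LS LSg CW iz n C NA NW NV m Dv DT DA DB DL nd : ℕ)
    (hsg : ∀ k, ∃ g ∈ H, IsC g (sg k)) (hkg : ∀ b, ∃ κ ∈ H, IsC κ (kg b))
    (h0 : arr 120 L 0 = idc) (hn : 0 < n)
    (hmul : allB (fun j => mulChk sg L LP LK (j + 1)) (n - 1) = true)
    (hsort : sortAll L LS LSg n n = true)
    (hL : ∀ k, ∃ off, lmulChk (sg k) L LT off n = true)
    (hc : centerChk sg L CW iz n = true)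
    (hz : IsC z (arr 120 L iz)) (hizn : iz < n) (hz1 : z ≠ 1)
    (hzc : ∀ k, Nat.beq (pmul (sg k) (arr 120 L iz)) (pmul (arr 120 L iz) (sg k)) = true)
    (hC : SetData (centSub H z : Set (Equiv.Perm GolayPt)) C m)
    (hCcard : Nat.card (centSub H z) ≤ m)
    (hw : normWitChk sg C L LS NA NW NV n m = true)
    (hDv0 : arr 120 Dv 0 = arr 120 L iz)
    (hder : allB (fun i => derivChk kg L Dv DT DA DB DL n (i + 1)) (nd - 1) = true)
    (hD : ∀ k, anyB (fun i => Nat.beq (arr 120 Dv i) (sg k)) nd = true)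
    (hfac : n = 2 ^ (Nat.card ↥H).factorization 2)
    (S : Sylow 2 ↥H) : (groupFusionSystem (S : Subgroup ↥H)).IsSimple 2 := by
  have hex : ∀ k, ∃ g : Equiv.Perm GolayPt, IsC g (sg k) := fun k => by
    obtain ⟨g, -, hg⟩ := hsg k
    exact ⟨g, hg⟩
  have hinj := inj_of_sortAll hsort
  have hle : genGroup sg ≤ H := genGroup_le hsg
  have hLmem := mem_genGroup_of_index hex h0 hmul
  have hcardp : Nat.card (genGroup sg) = n := card_genGroup hex h0 hn hmul hinj hL
  have hzS : z ∈ genGroup sg := by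
    obtain ⟨y, hy, hyc⟩ := hLmem iz hizn
    rw [hz.ext hyc]
    exact hy
  have hcard0 : Nat.card ((genGroup sg).subgroupOf H) = n := by
    rw [← hcardp]
    exact Nat.card_congr (Subgroup.subgroupOfEquivOfLe hle).toEquiv
  have hmemS0 : ∀ x : ↥H, x ∈ (genGroup sg).subgroupOf H ↔ (x : Equiv.Perm GolayPt) ∈ genGroup sg :=
    fun _ => Subgroup.mem_subgroupOf
  apply Cfsg.Agent.H9.GfsSimple.isSimple_of_certificate 2 ((genGroup sg).subgroupOf H)
  · rw [hcard0, hfac]
  · intro h
    have h1 : (⟨z, hle hzS⟩ : ↥H) ∈ (genGroup sg).subgroupOf H := (hmemS0 _).mpr hzS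
    rw [h, Subgroup.mem_bot] at h1
    exact hz1 (congrArg Subtype.val h1)
  · -- the normalizer
    intro ν hν
    rw [hmemS0]
    apply normalizer_le_of_cert hsg h0 hn hmul hsort hL hc hz hizn hz1 hzc hC hCcard hw _ ν.2
    rw [Subgroup.mem_normalizer_iff] at hν
    intro x
    constructor
    · intro hx
      have := (hν ⟨x, hle hx⟩).mp ((hmemS0 _).mpr hx)
      exact (hmemS0 _).mp this
    · intro hx
      have hxH : x ∈ H := by
        have h1 : (ν : Equiv.Perm GolayPt) * x * (ν : Equiv.Perm GolayPt)⁻¹ ∈ H := hle hx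
        have h2 := H.mul_mem (H.mul_mem (H.inv_mem ν.2) h1) ν.2
        have e : (ν : Equiv.Perm GolayPt)⁻¹ * ((ν : Equiv.Perm GolayPt) * x *
          (ν : Equiv.Perm GolayPt)⁻¹) * (ν : Equiv.Perm GolayPt) = x := by group
        rwa [e] at h2
      have := (hν ⟨x, hxH⟩).mpr ((hmemS0 _).mpr hx)
      exact (hmemS0 _).mp this
  · -- strongly closed subgroups
    intro T hTS hT
    by_cases hTbot : T = ⊥
    · exact Or.inl hTbot
    right
    apply le_antisymm hTS
    -- the subgroup is normal in the listed subgroup, hence meets its centre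
    have hp : IsPGroup 2 ↥((genGroup sg).subgroupOf H) := by
      apply IsPGroup.of_card (n := (Nat.card ↥H).factorization 2)
      rw [hcard0, hfac]
    have : (T.subgroupOf ((genGroup sg).subgroupOf H)).Normal := by
      constructor
      intro t ht s
      rw [Subgroup.mem_subgroupOf] at ht ⊢
      have h1 := hT _ ht (s : ↥H) (by
        exact ((genGroup sg).subgroupOf H).mul_mem
          (((genGroup sg).subgroupOf H).mul_mem s.2 t.2) (((genGroup sg).subgroupOf H).inv_mem s.2))
      exact h1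
    have hNne : T.subgroupOf ((genGroup sg).subgroupOf H) ≠ ⊥ := by
      intro h
      apply hTbot
      rw [Subgroup.eq_bot_iff_forall]
      intro t ht
      have h1 : (⟨t, hTS ht⟩ : ↥((genGroup sg).subgroupOf H)) ∈
          T.subgroupOf ((genGroup sg).subgroupOf H) := Subgroup.mem_subgroupOf.mpr ht
      rw [h, Subgroup.mem_bot] at h1
      exact congrArg Subtype.val h1
    have hne := Cfsg.Agent.Lib.Lead.PGroup.normal_inf_center_ne_bot hp
      (T.subgroupOf ((genGroup sg).subgroupOf H)) hNne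
    obtain ⟨⟨x, hxmem⟩, hx1⟩ := (Subgroup.ne_bot_iff_exists_ne_one).mp hne
    obtain ⟨hxT, hxZ⟩ := Subgroup.mem_inf.mp hxmem
    rw [Subgroup.mem_subgroupOf] at hxT
    rw [Subgroup.mem_center_iff] at hxZ
    -- on the level of permutations
    have hxS : ((x : ↥H) : Equiv.Perm GolayPt) ∈ genGroup sg := (hmemS0 _).mp x.2
    have hxcomm : ∀ y ∈ genGroup sg, ((x : ↥H) : Equiv.Perm GolayPt) * y
        = y * ((x : ↥H) : Equiv.Perm GolayPt) := by
      intro y hy
      have h1 := hxZ ⟨⟨y, hle hy⟩, (hmemS0 _).mpr hy⟩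
      have h2 := congrArg (fun t : ↥((genGroup sg).subgroupOf H) =>
        ((t : ↥H) : Equiv.Perm GolayPt)) h1
      exact h2.symm
    have hxne : ((x : ↥H) : Equiv.Perm GolayPt) ≠ 1 := by
      intro h
      apply hx1
      apply Subtype.ext
      apply Subtype.ext
      apply Subtype.ext
      exact h
    have hxz : IsC ((x : ↥H) : Equiv.Perm GolayPt) (arr 120 L iz) := by
      rcases center_of_centerChk hex h0 hn hL hc _ hxS hxcomm with h | h
      · exact absurd h hxne
      · exact h
    -- the derivation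
    have hTp : ∀ y ∈ T.map H.subtype, ∀ κ ∈ H, κ * y * κ⁻¹ ∈ genGroup sg →
        κ * y * κ⁻¹ ∈ T.map H.subtype := by
      rintro y ⟨t, ht, rfl⟩ κ hκ hk
      have h1 := hT t ht ⟨κ, hκ⟩ ((hmemS0 _).mpr hk)
      exact ⟨_, h1, rfl⟩
    have hz' : ∃ y ∈ T.map H.subtype, IsC y (arr 120 Dv 0) := by
      refine ⟨((x : ↥H) : Equiv.Perm GolayPt), ⟨(x : ↥H), hxT, rfl⟩, ?_⟩
      rw [hDv0]
      exact hxz
    have hfin := genGroup_le_of_deriv hkg (T.map H.subtype) hTp hz' hder hLmem hD
    intro s hs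
    obtain ⟨t, ht, hts⟩ := hfin ((hmemS0 s).mp hs)
    have : t = s := Subtype.ext hts
    rw [← this]
    exact ht

end Cfsg.Agent.H9.NatPerm
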