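import Cfsg.Agent.H9.FusM11Grp
import Cfsg.Agent.H9.NatPermSylow3

/-!
# The `2`-fusion system of `M11` is simple (generated certificates)
-/

set_option autoImplicit false
set_option maxRecDepth 1000000

namespace Cfsg.Agent.H9.FusM11

open Cfsg Cfsg.Agent.Lib.Helper6.Golay Cfsg.Agent.Lib.Helper6.Golay.M12Out Cfsg.Agent.H9.NatPerm

/-- generators of the Sylow `2`-subgroup -/
def sg : ℕ → ℕ
  | 0 => 944293816565412651426207388111472672
  | 1 => 719708130282520820308329691860975648
  | _ => 648154481660236051385864952584734752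

noncomputable def L : ℕ := 0x54665712f0abe433d90c5b686488208a9e5ab6d074cc83dc695929260820bd9f474942acc833c509598ad64020abacb50e708dd2da3c922a0ec30820b5e74a9a2273da83a86c5c8a44c020756eb8a1f055984a4da628ce9908209bee7526a28d86da38862b168940207554bb2262bc5322bccda0cec240207cec78b1c255d04a55b22a56334020aba2bb8de2b29862ce44a20e96c0209be27b25d0ba9122d4c4a316368820546a5792c29b8c95dd883b6921c0207cd47bb2b0b44662ba4da2568208208a9c59b6e27d64c5d9233928644020b5dd4799509d4895c5833c8ad40820bdab49ca307b9ac5a928398a418820

noncomputable def LP : ℕ := 0xb000a00090008000700060005000400030002000100010000000000000000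

noncomputable def LK : ℕ := 0x1221211212212100

noncomputable def LS : ℕ := 0xbdab49ca307b9ac5a928398a418820bd9f474942acc833c509598ad64020b5e74a9a2273da83a86c5c8a44c020b5dd4799509d4895c5833c8ad40820abacb50e708dd2da3c922a0ec30820aba2bb8de2b29862ce44a20e96c0209bee7526a28d86da38862b168940209be27b25d0ba9122d4c4a3163688208a9e5ab6d074cc83dc6959292608208a9c59b6e27d64c5d92339286440207cec78b1c255d04a55b22a563340207cd47bb2b0b44662ba4da256820820756eb8a1f055984a4da628ce9908207554bb2262bc5322bccda0cec24020546a5792c29b8c95dd883b6921c02054665712f0abe433d90c5b68648820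

noncomputable def LSg : ℕ := 0xd000b0001000c000600090005000e000200070003000a00080004000f

noncomputable def LT : ℕ := 0xa000c0007000f0009000e000d0002000b0004000000080001000600050003000b000d000e0008000f00060005000c0003000a000900010007000000040002000e000f000b000a000d000c0007000600090008000300020005000400000001

noncomputable def CW : ℕ := 0x1010101010101010101010201020000

noncomputable def NA : ℕ := 0xe00030003000e000c000d000e00050005000b0004000e0009000c000e0009000c0003000a0003000e000e0009000f000d0002000e00050003000d00080005000c000d000e00050001000e0009000c000e0007000e0009000e000d00060000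

noncomputable def NW : ℕ := 0x10101010101010101ffff01010101ffffffff01010101ffffff01010101ffff01010101ff01010101ff0101ff01ffff

noncomputable def NV : ℕ := 0x2f002e002a00290004002d002c000500270000000000080007000a00090000000000000000000e000d000c000f0000000000000015001400130012000000000019001c001b001a0000002200210024002300000028002b0000000200000000

noncomputable def KW : ℕ := 0xb5eab8a261539a9a3d9238ca430a00bce2aa88a87d20d71d8958ec409a40996af89ac23ba50a2d8d50ee4405202cdcba0de9b5c863c5a8532a184840996f13b1627d423b5110535d2311202ceb4b36295ba4c79e06522e418440b162ebc2ad5512c3ae4178a641a0c0bc6af2cacca38d03a8435b664424207d634734e19a910b2c43292e9648c03c6aea41682bc52ba8c3b126d624205d63474942b1cc99bc23b90b0635008ba87b91497d8622ae4ca86666a200ad1cb991ed3dc66b292c8a0a180a4071ef128568b55837a84da427232480bdab49ca307b9ac5a928398a418820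

noncomputable def KWP : ℕ := 0xd000c000b000a00090008000000020005000400030002000100000000

noncomputable def KWK : ℕ := 0x1110010010110

noncomputable def Dv : ℕ := 0x7cd47bb2b0b44662ba4da2568208208a9e5ab6d074cc83dc6959292608208a9c59b6e27d64c5d9233928644020bd9f474942acc833c509598ad64020b5dd4799509d4895c5833c8ad40820

noncomputable def DT : ℕ := 0x10110

noncomputable def DA : ℕ := 0x30002000000000000

noncomputable def DB : ℕ := 0xe0001000700060000

noncomputable def DL : ℕ := 0x300000002000d0001

noncomputable def SGI : ℕ := 0x1e0016000b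


/-- the conjugators -/
noncomputable def kg (b : ℕ) : ℕ :=
  match Nat.blt b 15 with
  | true => arr 120 KW b
  | false => idc

theorem L_zero : arr 120 L 0 = idc := by decide +kernel

theorem l_mul_ok : allB (fun j => mulChk sg L LP LK (j + 1)) 15 = true := by decide +kernel

theorem l_sort_ok : sortAll L LS LSg 16 16 = true := by decide +kernel

theorem ltab_ok : allB (fun k => lmulChk (sg k) L LT (Nat.mul 16 k) 16) 3 = true := by
  decide +kernel

theorem center_ok : centerChk sg L CW 1 16 = true := by decide +kernel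

theorem L_iz : arr 120 L 1 = M11Grp.zc := by decide +kernel

theorem zcomm_ok : allB (fun k => Nat.beq (pmul (sg k) (arr 120 L 1)) (pmul (arr 120 L 1) (sg k))) 3
    = true := by decide +kernel

theorem sgidx_ok : allB (fun k => Nat.beq (arr2 M11Grp.C (arr 16 SGI k)) (sg k)) 3 = true := by
  decide +kernel

theorem sgidx_lt : allB (fun k => Nat.blt (arr 16 SGI k) 48) 3 = true := by decide +kernel

theorem normwit_ok : normWitChk sg M11Grp.C L LS NA NW NV 16 48 = true := by decide +kernel

theorem KW_zero : arr 120 KW 0 = idc := by decide +kernel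

theorem kw_mul_ok : allB (fun j => mulChk M11Grp.gen KW KWP KWK (j + 1)) 14 = true := by decide +kernel

theorem Dv_zero : arr 120 Dv 0 = arr 120 L 1 := by decide +kernel

theorem deriv_ok : allB (fun i => derivChk kg L Dv DT DA DB DL 16 (i + 1)) 4 = true := by
  decide +kernel

theorem dgen_ok : allB (fun k => anyB (fun i => Nat.beq (arr 120 Dv i) (sg k)) 5) 3 = true := by
  decide +kernel

theorem hL : ∀ k, ∃ off, lmulChk (sg k) L LT off 16 = true := by
  intro k
  unfold sg
  split
  · exact ⟨_, allB_spec _ _ ltab_ok 0 (by norm_num)⟩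
  · exact ⟨_, allB_spec _ _ ltab_ok 1 (by norm_num)⟩
  · exact ⟨_, allB_spec _ _ ltab_ok 2 (by norm_num)⟩

theorem hzc : ∀ k, Nat.beq (pmul (sg k) (arr 120 L 1)) (pmul (arr 120 L 1) (sg k)) = true := by
  intro k
  unfold sg
  split
  · exact allB_spec _ _ zcomm_ok 0 (by norm_num)
  · exact allB_spec _ _ zcomm_ok 1 (by norm_num)
  · exact allB_spec _ _ zcomm_ok 2 (by norm_num)

theorem hD : ∀ k, anyB (fun i => Nat.beq (arr 120 Dv i) (sg k)) 5 = true := by
  intro k
  unfold sg
  split
  · exact allB_spec _ _ dgen_ok 0 (by norm_num)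
  · exact allB_spec _ _ dgen_ok 1 (by norm_num)
  · exact allB_spec _ _ dgen_ok 2 (by norm_num)

theorem sg_mem_aux (k : ℕ) (hk : k < 3) : ∃ g ∈ centSub Spor.M11 M11Grp.z, IsC g (sg k) := by
  have h1 := allB_spec _ _ sgidx_ok k hk
  have h2 := allB_spec _ _ sgidx_lt k hk
  rw [Nat.beq_eq, arr2_eq] at h1
  rw [Nat.blt_eq] at h2
  obtain ⟨y, hy, hyc⟩ := M11Grp.centData.valid _ h2
  rw [h1] at hyc
  exact ⟨y, hy, hyc⟩

theorem hsg : ∀ k, ∃ g ∈ Spor.M11, IsC g (sg k) := by
  have key : ∀ k < 3, ∃ g ∈ Spor.M11, IsC g (sg k) := by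
    intro k hk
    obtain ⟨g, hg, hgc⟩ := sg_mem_aux k hk
    exact ⟨g, (mem_centSub.mp hg).1, hgc⟩
  intro k
  rcases Nat.lt_or_ge k 3 with h | h
  · exact key k h
  · have e : sg k = sg 2 := by
      unfold sg
      split <;> first | omega | rfl
    rw [e]
    exact key 2 (by norm_num)

theorem fac2 : 16 = 2 ^ (Nat.card ↥Spor.M11).factorization 2 := by
  have h : Nat.card ↥Spor.M11 = 2 ^ 4 * 495 := by
    rw [FusGrp.card_SporM11]
    norm_num
  rw [h, FusGrp.fac_pow_mul (by norm_num) (by norm_num) (by norm_num)]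
  norm_num

theorem hkg : ∀ b, ∃ κ ∈ Spor.M11, IsC κ (kg b) := by
  intro b
  unfold kg
  cases hb : Nat.blt b 15 with
  | true =>
    rw [Nat.blt_eq] at hb
    exact valid_of_mulAll M11Grp.gen M11Grp.hgen KW KWP KWK 15 KW_zero kw_mul_ok b hb
  | false => exact ⟨1, Subgroup.one_mem _, isC_one⟩

/-- **the `2`-fusion system is simple** -/
theorem fusion_simple (S : Sylow 2 ↥Spor.M11) :
    (groupFusionSystem (S : Subgroup ↥Spor.M11)).IsSimple 2 := by
  have hz : IsC M11Grp.z (arr 120 L 1) := by
    rw [L_iz]
    exact M11Grp.z_isC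
  exact gfs_isSimple_of_cert sg kg L LP LK LT LS LSg CW 1 16 M11Grp.C NA NW NV 48 Dv DT DA DB DL 5
    hsg hkg L_zero (by norm_num) l_mul_ok l_sort_ok hL center_ok hz (by norm_num) M11Grp.z_ne hzc
    M11Grp.centData (le_of_eq M11Grp.card_centSub_z) normwit_ok Dv_zero deriv_ok hD fac2 S

end Cfsg.Agent.H9.FusM11
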