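import Cfsg.Agent.H9.FusAmb

/-!
# Restricting a torus and its normalizer to a subgroup
-/

set_option autoImplicit false

namespace Cfsg.Agent.H9.FusRestrict

open Cfsg.Agent.H9.FusAmb

variable {K : Type*} [Group K]

/-- the universal part of the torus data, in an overgroup `K` -/
structure KSetup (C N : Subgroup K) : Prop where
  le : C ≤ N
  comm : ∀ a ∈ C, ∀ b ∈ C, a * b = b * a
  idx : ∀ g ∈ N, ∀ h ∈ N, g ∉ C → h ∉ C → g * h ∈ C
  normal : ∀ g ∈ N, ∀ c ∈ C, g * c * g⁻¹ ∈ C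
  fix : ∀ g ∈ N, g ∉ C → ∀ c ∈ C, g * c * g⁻¹ = c → c ∈ Subgroup.center K
  cen : Subgroup.center K ≤ C
  nsc : ∀ c ∈ C, c ∉ Subgroup.center K → ∀ h : K, h * c * h⁻¹ ∈ C → h ∈ N

theorem gsetup_of_ksetup {C N : Subgroup K} (h : KSetup C N) (U : Subgroup K)
    (hcenK : ∀ x ∈ Subgroup.center U, (x : K) ∈ Subgroup.center K)
    (hw : ∃ w ∈ U, w ∈ N ∧ w ∉ C ∧ w * w = 1)
    (hc0 : ∃ c ∈ U, c ∈ C ∧ (∃ k : ℕ, c ^ 2 ^ k = 1) ∧ c * c ∉ Subgroup.center K) :
    GSetup (C.subgroupOf U) (N.subgroupOf U) := by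
  have hcenU : ∀ x : U, (x : K) ∈ Subgroup.center K → x ∈ Subgroup.center U := by
    intro x hx
    rw [Subgroup.mem_center_iff]
    intro y
    apply Subtype.ext
    exact Subgroup.mem_center_iff.mp hx y.1
  refine
    { le := ?_
      comm := ?_
      idx := ?_
      w := ?_
      normal := ?_
      fix := ?_
      cen := ?_
      nsc := ?_
      c0 := ?_ }
  · intro x hx
    exact h.le hx
  · intro a ha b hb
    apply Subtype.ext
    exact h.comm a.1 ha b.1 hb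
  · intro g hg k hk hgC hkC
    exact h.idx g.1 hg k.1 hk hgC hkC
  · obtain ⟨w, hwU, hwN, hwC, hww⟩ := hw
    exact ⟨⟨w, hwU⟩, hwN, hwC, Subtype.ext hww⟩
  · intro g hg c hc
    exact h.normal g.1 hg c.1 hc
  · intro g hg hgC c hc hfix
    apply hcenU
    exact h.fix g.1 hg hgC c.1 hc (congrArg Subtype.val hfix)
  · intro x hx
    exact h.cen (hcenK x hx)
  · intro c hc hcz k hk
    apply h.nsc c.1 hc (fun hcK => hcz (hcenU c hcK)) k.1
    exact hk
  · obtain ⟨c, hcU, hcC, ⟨k, hk⟩, hcc⟩ := hc0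
    refine ⟨⟨c, hcU⟩, hcC, ⟨k, Subtype.ext hk⟩, ?_⟩
    intro hz
    exact hcc (hcenK _ hz)

end Cfsg.Agent.H9.FusRestrict
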