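import Mathlib

set_option autoImplicit false
set_option linter.style.haveILetI false
set_option linter.unusedSectionVars false

/-! An invariant complement for an involution acting on an elementary abelian `3`-group. -/

namespace Cfsg.Agent.H9.G162

/-- Maschke's theorem for a linear involution -/
theorem exists_invariant_compl {K V : Type*} [Field K] [AddCommGroup V] [Module K V]
    (h2 : (2 : K) ≠ 0) (τ : V →ₗ[K] V) (hτ : ∀ v, τ (τ v) = v) (Z : Submodule K V)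
    (hZ : ∀ z ∈ Z, τ z = z) :
    ∃ W : Submodule K V, IsCompl Z W ∧ ∀ w ∈ W, τ w ∈ W := by
  obtain ⟨W₀, hW₀⟩ := Submodule.exists_isCompl Z
  obtain ⟨P, hP⟩ : ∃ P : V →ₗ[K] V, P = Z.subtype ∘ₗ Submodule.projectionOnto Z W₀ hW₀ :=
    ⟨_, rfl⟩
  have hPZ : ∀ z ∈ Z, P z = z := by
    intro z hz
    rw [hP, LinearMap.comp_apply]
    have := Submodule.projectionOnto_apply_left hW₀ ⟨z, hz⟩
    simp only at this
    rw [this]
    rfl
  have hPmem : ∀ v, P v ∈ Z := by
    intro v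
    rw [hP, LinearMap.comp_apply]
    exact (Submodule.projectionOnto Z W₀ hW₀ v).2
  obtain ⟨Q, hQ⟩ : ∃ Q : V →ₗ[K] V, Q = (2 : K)⁻¹ • (P + P ∘ₗ τ) := ⟨_, rfl⟩
  have hQv : ∀ v, Q v = (2 : K)⁻¹ • (P v + P (τ v)) := by
    intro v
    rw [hQ]
    rfl
  have hQZ : ∀ z ∈ Z, Q z = z := by
    intro z hz
    rw [hQv, hZ z hz, hPZ z hz, ← two_smul K z, smul_smul, inv_mul_cancel₀ h2, one_smul]
  have hQmem : ∀ v, Q v ∈ Z := by
    intro v
    rw [hQv]
    exact Z.smul_mem _ (Z.add_mem (hPmem v) (hPmem _))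
  have hQτ : ∀ v, Q (τ v) = Q v := by
    intro v
    rw [hQv, hQv, hτ, add_comm]
  refine ⟨LinearMap.ker Q, ⟨?_, ?_⟩, ?_⟩
  · rw [Submodule.disjoint_def]
    intro x hxZ hxK
    rw [← hQZ x hxZ]
    exact hxK
  · rw [codisjoint_iff, eq_top_iff]
    intro v _
    have e : v = Q v + (v - Q v) := by abel
    rw [e]
    refine Submodule.add_mem_sup (hQmem v) ?_
    rw [LinearMap.mem_ker, map_sub, hQZ _ (hQmem v), sub_self]
  · intro w hw
    rw [LinearMap.mem_ker] at hw ⊢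
    rw [hQτ, hw]

/-- an invariant complement in an elementary abelian `3`-group with an involutory operator -/
theorem exists_invariant_subgroup {G : Type*} [Group G] (J Z : Subgroup G) [Finite J]
    (hJcomm : ∀ a ∈ J, ∀ b ∈ J, a * b = b * a) (hJexp : ∀ a ∈ J, a ^ 3 = 1)
    (hZJ : Z ≤ J) (t : G) (ht : t * t = 1) (htJ : ∀ a ∈ J, t * a * t⁻¹ ∈ J)
    (htZ : ∀ a ∈ Z, t * a * t⁻¹ = a) :
    ∃ A : Subgroup G, A ≤ J ∧ A ⊓ Z = ⊥ ∧ (∀ a ∈ A, t * a * t⁻¹ ∈ A) ∧
      Nat.card Z * Nat.card A = Nat.card J := by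
  classical
  have h20 : (2 : ZMod 3) ≠ 0 := by decide
  letI : CommGroup ↥J := { (inferInstance : Group ↥J) with
    mul_comm := fun a b => Subtype.ext (hJcomm a a.2 b b.2) }
  haveI : Fact (Nat.Prime 3) := ⟨Nat.prime_three⟩
  have h3 : ∀ x : Additive ↥J, 3 • x = 0 := by
    intro x
    have h1 : (Additive.toMul x) ^ 3 = 1 := Subtype.ext (by
      rw [Subgroup.coe_pow]
      exact hJexp _ (Additive.toMul x).2)
    have h2 : 3 • x = Additive.ofMul ((Additive.toMul x) ^ 3) := rfl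
    rw [h2, h1]
    rfl
  letI : Module (ZMod 3) (Additive ↥J) := AddCommGroup.zmodModule h3
  have htinv : t⁻¹ = t := by
    rw [inv_eq_iff_mul_eq_one]
    exact ht
  obtain ⟨τJ, hτJ⟩ : ∃ τJ : ↥J →* ↥J, ∀ a : ↥J, ((τJ a : ↥J) : G) = t * a * t⁻¹ :=
    ⟨{ toFun := fun a => ⟨t * a * t⁻¹, htJ a a.2⟩
       map_one' := Subtype.ext (by simp)
       map_mul' := fun a b => Subtype.ext (by simp) }, fun a => rfl⟩
  obtain ⟨τ, hτ⟩ : ∃ τ : Additive ↥J →ₗ[ZMod 3] Additive ↥J,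
      ∀ v, τ v = Additive.ofMul (τJ (Additive.toMul v)) :=
    ⟨(MonoidHom.toAdditive τJ).toZModLinearMap 3, fun v => rfl⟩
  have hττ : ∀ v, τ (τ v) = v := by
    intro v
    rw [hτ, hτ]
    apply Additive.toMul.injective
    apply Subtype.ext
    simp only [toMul_ofMul]
    rw [hτJ, hτJ, htinv]
    calc t * (t * ((Additive.toMul v : ↥J) : G) * t) * t
        = (t * t) * ((Additive.toMul v : ↥J) : G) * (t * t) := by group
      _ = ((Additive.toMul v : ↥J) : G) := by rw [ht, one_mul, mul_one]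
  obtain ⟨Z', hZ'⟩ : ∃ Z' : Submodule (ZMod 3) (Additive ↥J),
      ∀ v, v ∈ Z' ↔ ((Additive.toMul v : ↥J) : G) ∈ Z :=
    ⟨{ carrier := {v | ((Additive.toMul v : ↥J) : G) ∈ Z}
       add_mem' := fun {a b} ha hb => Z.mul_mem ha hb
       zero_mem' := Z.one_mem
       smul_mem' := fun c v hv => by
         rw [← ZMod.natCast_zmod_val c, Nat.cast_smul_eq_nsmul]
         exact Z.pow_mem hv _ }, fun v => Iff.rfl⟩
  have hZfix : ∀ z ∈ Z', τ z = z := by
    intro z hz
    rw [hτ]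
    apply Additive.toMul.injective
    apply Subtype.ext
    simp only [toMul_ofMul]
    rw [hτJ]
    exact htZ _ ((hZ' z).1 hz)
  obtain ⟨W, hW, hWτ⟩ := exists_invariant_compl h20 τ hττ Z' hZfix
  obtain ⟨AJ, hAJ⟩ : ∃ AJ : Subgroup ↥J, ∀ a, a ∈ AJ ↔ Additive.ofMul a ∈ W :=
    ⟨{ carrier := {a | Additive.ofMul a ∈ W}
       mul_mem' := fun {a b} ha hb => W.add_mem ha hb
       one_mem' := W.zero_mem
       inv_mem' := fun {a} ha => W.neg_mem ha }, fun a => Iff.rfl⟩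
  refine ⟨AJ.map J.subtype, ?_, ?_, ?_, ?_⟩
  · rintro _ ⟨a, _, rfl⟩
    exact a.2
  · rw [eq_bot_iff]
    rintro x ⟨⟨a, ha, rfl⟩, hxZ⟩
    rw [Subgroup.mem_bot]
    have h1 : Additive.ofMul a ∈ Z' ⊓ W := by
      refine Submodule.mem_inf.2 ⟨?_, (hAJ a).1 ha⟩
      rw [hZ']
      exact hxZ
    rw [hW.inf_eq_bot, Submodule.mem_bot] at h1
    have h2 : a = 1 := h1
    rw [h2]
    rfl
  · rintro _ ⟨a, ha, rfl⟩
    refine ⟨τJ a, ?_, ?_⟩
    · rw [SetLike.mem_coe, hAJ]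
      have := hWτ _ ((hAJ a).1 ha)
      rw [hτ] at this
      exact this
    · exact hτJ a
  · rw [Subgroup.card_map_of_injective (Subgroup.subtype_injective J)]
    have e1 : Nat.card ↥Z' = Nat.card ↥Z := by
      apply Nat.card_congr
      exact
        { toFun := fun v => ⟨((Additive.toMul v.1 : ↥J) : G), (hZ' v.1).1 v.2⟩
          invFun := fun z => ⟨Additive.ofMul ⟨z.1, hZJ z.2⟩, (hZ' _).2 z.2⟩
          left_inv := fun v => rfl
          right_inv := fun z => rfl }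
    have e2 : Nat.card ↥W = Nat.card ↥AJ := by
      apply Nat.card_congr
      exact
        { toFun := fun v => ⟨Additive.toMul v.1, (hAJ _).2 v.2⟩
          invFun := fun a => ⟨Additive.ofMul a.1, (hAJ _).1 a.2⟩
          left_inv := fun v => rfl
          right_inv := fun a => rfl }
    have e3 : Nat.card (↥Z' × ↥W) = Nat.card (Additive ↥J) :=
      Nat.card_congr (Submodule.prodEquivOfIsCompl Z' W hW).toEquiv
    rw [Nat.card_prod, e1, e2] at e3
    rw [e3]
    rfl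

end Cfsg.Agent.H9.G162
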