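import Mathlib

set_option autoImplicit false
set_option linter.style.haveILetI false
set_option linter.unusedSectionVars false

/-! Recognition of the centralizer in `Sym(9)` of a product of three disjoint `3`-cycles by a
core-free subgroup of index nine. -/

namespace Cfsg.Agent.H9.G162

open Equiv

/-- the product of three disjoint `3`-cycles -/
def sigma0 : Equiv.Perm (Fin 9) :=
  Equiv.swap (0 : Fin 9) 1 * Equiv.swap 1 2 * Equiv.swap 3 4 * Equiv.swap 4 5 * Equiv.swap 6 7
    * Equiv.swap 7 8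

theorem cycleType_of_order_three (σ : Equiv.Perm (Fin 9)) (h3 : σ ^ 3 = 1)
    (hfix : ∀ x, σ x ≠ x) : σ.cycleType = Multiset.replicate 3 3 := by
  have h1 : σ ≠ 1 := by
    intro h
    exact hfix 0 (by rw [h]; rfl)
  haveI : Fact (Nat.Prime 3) := ⟨Nat.prime_three⟩
  have hord : orderOf σ = 3 := orderOf_eq_prime h3 h1
  obtain ⟨n, hn⟩ := Equiv.Perm.cycleType_prime_order (σ := σ) (by rw [hord]; exact Nat.prime_three)
  rw [hord] at hn
  have hsum := Equiv.Perm.sum_cycleType σ
  have hsupp : σ.support = Finset.univ := by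
    ext x
    simp [hfix x]
  rw [hn, hsupp, Multiset.sum_replicate, Finset.card_univ, Fintype.card_fin, smul_eq_mul] at hsum
  have : n + 1 = 3 := by omega
  rw [hn, this]

theorem sigma0_pow : sigma0 ^ 3 = 1 := by decide

theorem sigma0_fix : ∀ x, sigma0 x ≠ x := by decide

theorem card_centralizer_sigma0 :
    Nat.card (Subgroup.centralizer ({sigma0} : Set (Equiv.Perm (Fin 9)))) = 162 := by
  rw [Equiv.Perm.nat_card_centralizer, cycleType_of_order_three sigma0 sigma0_pow sigma0_fix]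
  decide

/-- a group of order `162` with a central element of order three avoiding a core-free subgroup
of order `18` -/
theorem iso_of_core_free {G : Type*} [Group G] [Finite G] (hG : Nat.card G = 162)
    (z : G) (hz3 : z ^ 3 = 1) (hzc : ∀ g : G, g * z = z * g)
    (B : Subgroup G) (hB : Nat.card B = 18) (hzB : z ∉ B) (hcore : B.normalCore = ⊥) :
    Nonempty (G ≃* Subgroup.centralizer ({sigma0} : Set (Equiv.Perm (Fin 9)))) := by
  classical
  have hidx : B.index = 9 := by
    have := B.card_mul_index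
    rw [hB, hG] at this
    omega
  have hcard : Nat.card (G ⧸ B) = 9 := by
    rw [← Subgroup.index_eq_card]
    exact hidx
  obtain ⟨e⟩ : Nonempty (G ⧸ B ≃ Fin 9) := ⟨Finite.equivFinOfCardEq hcard⟩
  obtain ⟨φ, hφ⟩ : ∃ φ : G →* Equiv.Perm (G ⧸ B), φ = MulAction.toPermHom G (G ⧸ B) := ⟨_, rfl⟩
  have hφker : φ.ker = ⊥ := by rw [hφ, ← Subgroup.normalCore_eq_ker, hcore]
  have hφinj : Function.Injective φ := (MonoidHom.ker_eq_bot_iff φ).1 hφker
  obtain ⟨ψ, hψ⟩ : ∃ ψ : G →* Equiv.Perm (Fin 9), ψ = (e.permCongrHom).toMonoidHom.comp φ :=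
    ⟨_, rfl⟩
  have hψinj : Function.Injective ψ := by
    rw [hψ]
    exact e.permCongrHom.injective.comp hφinj
  have hψz3 : (ψ z) ^ 3 = 1 := by rw [← map_pow, hz3, map_one]
  have hψfix : ∀ x, ψ z x ≠ x := by
    intro x hx
    have h1 : ψ z x = e (z • e.symm x) := by
      rw [hψ, hφ]
      rfl
    rw [h1] at hx
    have h2 : z • e.symm x = e.symm x := by
      apply e.injective
      rw [hx, Equiv.apply_symm_apply]
    obtain ⟨g, hg⟩ := QuotientGroup.mk_surjective (e.symm x)
    rw [← hg] at h2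
    have h3 : ((z * g : G) : G ⧸ B) = (g : G ⧸ B) := h2
    rw [QuotientGroup.eq] at h3
    apply hzB
    have : (z * g)⁻¹ * g = z⁻¹ := by
      rw [← hzc g]
      group
    rw [this] at h3
    have := B.inv_mem h3
    rwa [inv_inv] at this
  have hct : (ψ z).cycleType = sigma0.cycleType := by
    rw [cycleType_of_order_three _ hψz3 hψfix,
      cycleType_of_order_three sigma0 sigma0_pow sigma0_fix]
  obtain ⟨c, hc⟩ := isConj_iff.1 ((Equiv.Perm.isConj_iff_cycleType_eq).2 hct)
  obtain ⟨ψ', hψ'⟩ : ∃ ψ' : G →* Equiv.Perm (Fin 9), ψ' = (MulAut.conj c).toMonoidHom.comp ψ :=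
    ⟨_, rfl⟩
  have hψ'z : ψ' z = sigma0 := by
    rw [hψ']
    exact hc
  have hψ'inj : Function.Injective ψ' := by
    rw [hψ']
    exact (MulAut.conj c).injective.comp hψinj
  have hψ'mem : ∀ g, ψ' g ∈ Subgroup.centralizer ({sigma0} : Set (Equiv.Perm (Fin 9))) := by
    intro g
    rw [Subgroup.mem_centralizer_iff]
    intro h hh
    rw [Set.mem_singleton_iff] at hh
    rw [hh, ← hψ'z, ← map_mul, ← map_mul, hzc]
  obtain ⟨Ψ, hΨ⟩ : ∃ Ψ : G →* Subgroup.centralizer ({sigma0} : Set (Equiv.Perm (Fin 9))),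
      ∀ g, ((Ψ g : Subgroup.centralizer ({sigma0} : Set (Equiv.Perm (Fin 9)))) :
        Equiv.Perm (Fin 9)) = ψ' g := ⟨ψ'.codRestrict _ hψ'mem, fun g => rfl⟩
  have hΨinj : Function.Injective Ψ := by
    intro a b hab
    apply hψ'inj
    rw [← hΨ, ← hΨ, hab]
  have hΨbij : Function.Bijective Ψ :=
    (Nat.bijective_iff_injective_and_card Ψ).2 ⟨hΨinj, by rw [hG, card_centralizer_sigma0]⟩
  exact ⟨MulEquiv.ofBijective Ψ hΨbij⟩

end Cfsg.Agent.H9.G162
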