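import Mathlib
import Cfsg.Agent.H9.G162A
import Cfsg.Agent.H9.G162B
import Cfsg.Agent.Lib.Helper4.Sylow
import Cfsg.Agent.Lib.Lead.PGroup

set_option autoImplicit false
set_option linter.style.haveILetI false
set_option linter.unusedSectionVars false

/-! A group of order `162` with the local structure of `C₃ ≀ S₃` is the centralizer in `Sym(9)`
of a product of three disjoint `3`-cycles. -/

namespace Cfsg.Agent.H9.G162

open Subgroup
open scoped Pointwise

theorem main {G : Type*} [Group G] [Finite G] (hG : Nat.card G = 162)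
    (S : Sylow 3 G) (T : Sylow 2 G) (J : Subgroup G) [hJn : J.Normal]
    (hJcomm : IsMulCommutative J)
    (hJexp : ∀ a ∈ J, a ^ 3 = 1) (hJcard : Nat.card J = 27)
    (Z : Subgroup G)
    (hZ : Z = (S : Subgroup G) ⊓ Subgroup.centralizer ((S : Subgroup G) : Set G))
    (hZcard : Nat.card Z = 3)
    (hZT : Z ≤ Subgroup.centralizer ((T : Subgroup G) : Set G))
    (hST : (S : Subgroup G) ⊓ Subgroup.centralizer ((T : Subgroup G) : Set G) ≠ S) :
    Nonempty (G ≃* Subgroup.centralizer ({sigma0} : Set (Equiv.Perm (Fin 9)))) := by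
  classical
  haveI : Fact (Nat.Prime 3) := ⟨Nat.prime_three⟩
  haveI : Fact (Nat.Prime 2) := ⟨Nat.prime_two⟩
  have hS : Nat.card (S : Subgroup G) = 81 := by
    have := Cfsg.Agent.Lib.Helper4.Sylow.card_sylow_of_card_eq (p := 3) (a := 4) (m := 2)
      (by rw [hG]; norm_num) (by norm_num) S
    rw [this]; norm_num
  have hT : Nat.card (T : Subgroup G) = 2 := by
    have := Cfsg.Agent.Lib.Helper4.Sylow.card_sylow_of_card_eq (p := 2) (a := 1) (m := 81)
      (by rw [hG]; norm_num) (by norm_num) T
    rw [this]; norm_num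
  have hSidx : (S : Subgroup G).index = 2 := by
    have := (S : Subgroup G).card_mul_index
    rw [hS, hG] at this
    omega
  haveI hSn : (S : Subgroup G).Normal := Subgroup.normal_of_index_eq_two hSidx
  -- `J ≤ S`
  have hJS : J ≤ S := by
    have hJp : IsPGroup 3 J := IsPGroup.of_card (n := 3) (by rw [hJcard]; norm_num)
    obtain ⟨Q, hQ⟩ := hJp.exists_le_sylow
    haveI := Sylow.unique_of_normal S hSn
    rw [Subsingleton.elim S Q]
    exact hQ
  have hJc : ∀ a ∈ J, ∀ b ∈ J, a * b = b * a := by
    intro a ha b hb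
    have := hJcomm.is_comm.comm (⟨a, ha⟩ : J) ⟨b, hb⟩
    exact congrArg Subtype.val this
  -- the central element
  have hJne : J.subgroupOf S ≠ ⊥ := by
    intro h
    rw [Subgroup.subgroupOf_eq_bot] at h
    have : J = ⊥ := by
      rw [eq_bot_iff]
      exact h le_rfl hJS
    rw [this, Subgroup.card_bot] at hJcard
    omega
  obtain ⟨z₀, hz₀J, hz₀Z, hz₀1⟩ :=
    Cfsg.Agent.Lib.Lead.PGroup.exists_mem_center_of_normal S.isPGroup' (J.subgroupOf S) hJne
  obtain ⟨z, hz⟩ : ∃ z : G, z = (z₀ : G) := ⟨_, rfl⟩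
  have hzJ : z ∈ J := by rw [hz]; exact Subgroup.mem_subgroupOf.1 hz₀J
  have hz1 : z ≠ 1 := by
    intro h
    apply hz₀1
    apply Subtype.ext
    rw [← hz, h]
    rfl
  have hzZ : z ∈ Z := by
    rw [hZ, Subgroup.mem_inf]
    refine ⟨by rw [hz]; exact z₀.2, ?_⟩
    rw [Subgroup.mem_centralizer_iff]
    intro s hs
    have := Subgroup.mem_center_iff.1 hz₀Z ⟨s, hs⟩
    have h2 := congrArg Subtype.val this
    rw [hz]
    exact h2
  have hz3 : z ^ 3 = 1 := hJexp z hzJ
  -- `Z` is generated by any of its non-trivial elements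
  have hZgen : ∀ w ∈ Z, w ≠ 1 → ∀ y ∈ Z, y ∈ Subgroup.zpowers w := by
    intro w hw hw1 y hy
    have h1 : Subgroup.zpowers (⟨w, hw⟩ : Z) = ⊤ :=
      zpowers_eq_top_of_prime_card hZcard (by
        intro h
        apply hw1
        exact congrArg Subtype.val h)
    have h2 : (⟨y, hy⟩ : Z) ∈ Subgroup.zpowers (⟨w, hw⟩ : Z) := by rw [h1]; trivial
    obtain ⟨k, hk⟩ := Subgroup.mem_zpowers_iff.1 h2
    refine Subgroup.mem_zpowers_iff.2 ⟨k, ?_⟩
    have := congrArg Subtype.val hk
    rw [Subgroup.coe_zpow] at this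
    exact this
  have hZJ : Z ≤ J := by
    intro y hy
    obtain ⟨k, hk⟩ := Subgroup.mem_zpowers_iff.1 (hZgen z hzZ hz1 y hy)
    rw [← hk]
    exact J.zpow_mem hzJ k
  -- `z` is central
  have hzc : ∀ g : G, g * z = z * g := by
    have hC : Subgroup.centralizer ({z} : Set G) = ⊤ := by
      apply Subgroup.eq_top_of_card_eq
      have h1 : (S : Subgroup G) ≤ Subgroup.centralizer ({z} : Set G) := by
        intro s hs
        rw [Subgroup.mem_centralizer_iff]
        intro y hy
        rw [Set.mem_singleton_iff] at hy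
        rw [hy]
        rw [hZ, Subgroup.mem_inf] at hzZ
        exact (Subgroup.mem_centralizer_iff.1 hzZ.2 s hs).symm
      have h2 : (T : Subgroup G) ≤ Subgroup.centralizer ({z} : Set G) := by
        intro s hs
        rw [Subgroup.mem_centralizer_iff]
        intro y hy
        rw [Set.mem_singleton_iff] at hy
        rw [hy]
        exact (Subgroup.mem_centralizer_iff.1 (hZT hzZ) s hs).symm
      have d1 := Subgroup.card_dvd_of_le h1
      have d2 := Subgroup.card_dvd_of_le h2
      rw [hS] at d1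
      rw [hT] at d2
      have d3 : 81 * 2 ∣ Nat.card (Subgroup.centralizer ({z} : Set G)) :=
        Nat.Coprime.mul_dvd_of_dvd_of_dvd (by norm_num) d1 d2
      have d4 := Subgroup.card_subgroup_dvd_card (Subgroup.centralizer ({z} : Set G))
      rw [hG] at d4 ⊢
      exact Nat.dvd_antisymm d4 d3
    intro g
    have : g ∈ Subgroup.centralizer ({z} : Set G) := by rw [hC]; trivial
    exact (Subgroup.mem_centralizer_iff.1 this z rfl).symm
  -- the involution
  obtain ⟨t, htT, ht1⟩ : ∃ t ∈ (T : Subgroup G), t ≠ 1 := by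
    have : (T : Subgroup G) ≠ ⊥ := by
      intro h
      rw [h, Subgroup.card_bot] at hT
      omega
    exact (Subgroup.ne_bot_iff_exists_ne_one.1 this).elim fun x hx =>
      ⟨x.1, x.2, fun h => hx (Subtype.ext h)⟩
  have htt : t * t = 1 := by
    have := pow_card_eq_one' (G := (T : Subgroup G)) (x := ⟨t, htT⟩)
    rw [hT] at this
    have h2 := congrArg Subtype.val this
    rw [Subgroup.coe_pow, pow_two] at h2
    exact h2
  have htinv : t⁻¹ = t := by
    rw [inv_eq_iff_mul_eq_one]
    exact htt
  have hTelts : ∀ x ∈ (T : Subgroup G), x = 1 ∨ x = t := by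
    intro x hx
    have h1 : Subgroup.zpowers (⟨t, htT⟩ : (T : Subgroup G)) = ⊤ :=
      zpowers_eq_top_of_prime_card hT (by
        intro h
        apply ht1
        exact congrArg Subtype.val h)
    have h2 : (⟨x, hx⟩ : (T : Subgroup G)) ∈ Subgroup.zpowers (⟨t, htT⟩ : (T : Subgroup G)) := by
      rw [h1]; trivial
    obtain ⟨k, hk⟩ := Subgroup.mem_zpowers_iff.1 h2
    have h3 : t ^ k = x := by
      have := congrArg Subtype.val hk
      rw [Subgroup.coe_zpow] at this
      exact this
    rw [← h3]
    rcases Int.even_or_odd k with ⟨m, hm⟩ | ⟨m, hm⟩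
    · left
      rw [hm, zpow_add, ← (Commute.refl t).mul_zpow, htt, one_zpow]
    · right
      rw [hm, zpow_add, zpow_one, two_mul, zpow_add, ← (Commute.refl t).mul_zpow, htt, one_zpow, one_mul]
  have htJ : ∀ a ∈ J, t * a * t⁻¹ ∈ J := fun a ha => hJn.conj_mem a ha t
  have htZ : ∀ a ∈ Z, t * a * t⁻¹ = a := by
    intro a ha
    have := Subgroup.mem_centralizer_iff.1 (hZT ha) t htT
    rw [this, mul_inv_cancel_right]
  haveI : Finite J := inferInstance
  obtain ⟨A, hAJ, hAZ, hAt, hAcard⟩ := exists_invariant_subgroup J Z hJc hJexp hZJ t htt htJ htZ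
  have hA9 : Nat.card A = 9 := by
    rw [hZcard, hJcard] at hAcard
    omega
  have htnotJ : t ∉ J := by
    intro h
    have h3 := hJexp t h
    apply ht1
    calc t = t ^ 3 * (t * t)⁻¹ := by group
      _ = 1 := by rw [h3, htt, inv_one, mul_one]
  -- the subgroup of order `18`
  have hTN : (T : Subgroup G) ≤ Subgroup.normalizer (A : Set G) := by
    intro x hx
    rcases hTelts x hx with hx1 | hx1
    · rw [hx1]
      exact Subgroup.one_mem _
    · rw [hx1, Subgroup.mem_normalizer_iff]
      intro a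
      constructor
      · intro ha
        exact hAt a ha
      · intro ha
        have := hAt _ ha
        rw [htinv] at this
        have e : t * (t * a * t) * t = a := by
          calc t * (t * a * t) * t = (t * t) * a * (t * t) := by group
            _ = a := by rw [htt, one_mul, mul_one]
        rw [htinv] at ha
        rw [e] at this
        exact this
  obtain ⟨B, hBdef⟩ : ∃ B : Subgroup G, B = A ⊔ (T : Subgroup G) := ⟨_, rfl⟩
  have hBmem : ∀ g, g ∈ B ↔ ∃ a ∈ A, ∃ x ∈ (T : Subgroup G), a * x = g := by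
    intro g
    rw [hBdef, ← SetLike.mem_coe, Subgroup.coe_mul_of_right_le_normalizer_left A _ hTN,
      Set.mem_mul]
    rfl
  have hB18 : Nat.card B = 18 := by
    have d1 : 9 ∣ Nat.card B := by
      rw [← hA9, hBdef]
      exact Subgroup.card_dvd_of_le le_sup_left
    have d2 : 2 ∣ Nat.card B := by
      rw [← hT, hBdef]
      exact Subgroup.card_dvd_of_le le_sup_right
    have d3 : 9 * 2 ∣ Nat.card B := Nat.Coprime.mul_dvd_of_dvd_of_dvd (by norm_num) d1 d2
    have hle : Nat.card B ≤ 18 := by
      have h1 : Nat.card B = Nat.card ((A : Set G) * ((T : Subgroup G) : Set G) : Set G) := by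
        rw [hBdef, ← Subgroup.coe_mul_of_right_le_normalizer_left A _ hTN]
        rfl
      rw [h1]
      refine (Set.natCard_mul_le).trans ?_
      have e1 : Nat.card (A : Set G) = 9 := hA9
      have e2 : Nat.card ((T : Subgroup G) : Set G) = 2 := hT
      rw [e1, e2]
    have hpos : 0 < Nat.card B := Nat.card_pos
    obtain ⟨k, hk⟩ := d3
    have : k = 1 := by nlinarith
    rw [hk, this]
  have hzB : z ∉ B := by
    intro h
    obtain ⟨a, ha, x, hx, hax⟩ := (hBmem z).1 h
    rcases hTelts x hx with rfl | rfl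
    · rw [mul_one] at hax
      have : z ∈ A ⊓ Z := Subgroup.mem_inf.2 ⟨by rw [← hax]; exact ha, hzZ⟩
      rw [hAZ, Subgroup.mem_bot] at this
      exact hz1 this
    · apply htnotJ
      have : x = a⁻¹ * z := by rw [← hax]; group
      rw [this]
      exact J.mul_mem (J.inv_mem (hAJ ha)) hzJ
  -- the core is trivial
  have hcore : B.normalCore = ⊥ := by
    by_contra hne
    obtain ⟨N, hN⟩ : ∃ N : Subgroup G, N = B.normalCore := ⟨_, rfl⟩
    haveI hNn : N.Normal := by rw [hN]; infer_instance
    have hNB : N ≤ B := by rw [hN]; exact Subgroup.normalCore_le B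
    rw [← hN] at hne
    by_cases hNS : N.subgroupOf S = ⊥
    · -- `N` meets `S` trivially
      have hNS' : ∀ g, g ∈ N → g ∈ (S : Subgroup G) → g = 1 := by
        intro g hgN hgS
        have : (⟨g, hgS⟩ : (S : Subgroup G)) ∈ N.subgroupOf S := Subgroup.mem_subgroupOf.2 hgN
        rw [hNS, Subgroup.mem_bot] at this
        exact congrArg Subtype.val this
      obtain ⟨n, hnN, hn1⟩ : ∃ n ∈ N, n ≠ 1 :=
        (Subgroup.ne_bot_iff_exists_ne_one.1 hne).elim fun x hx =>
          ⟨x.1, x.2, fun h => hx (Subtype.ext h)⟩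
      have hn2 : n * n = 1 := by
        apply hNS' _ (N.mul_mem hnN hnN)
        rw [← pow_two]
        exact Subgroup.sq_mem_of_index_two hSidx n
      obtain ⟨a, ha, x, hx, hax⟩ := (hBmem n).1 (hNB hnN)
      have hxt : x = t := by
        rcases hTelts x hx with rfl | rfl
        · exfalso
          rw [mul_one] at hax
          apply hn1
          apply hNS' n hnN
          rw [← hax]
          exact hJS (hAJ ha)
        · rfl
      rw [hxt] at hax
      -- `t a t⁻¹ = a⁻¹`
      have ha3 : a ^ 3 = 1 := hJexp a (hAJ ha)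
      have hta : t * a * t = a⁻¹ := by
        have e : a * t * (a * t) = 1 := by rw [hax]; exact hn2
        calc t * a * t = a⁻¹ * (a * t * (a * t)) := by group
          _ = a⁻¹ := by rw [e, mul_one]
      have htN : t ∈ N := by
        have h1 := hNn.conj_mem n hnN (a * a)⁻¹
        have hta' : t * a = a⁻¹ * t := by
          calc t * a = (t * a * t) * t⁻¹ := by group
            _ = a⁻¹ * t := by rw [hta, htinv]
        have e : (a * a)⁻¹ * n * (a * a)⁻¹⁻¹ = t := by
          rw [← hax, inv_inv]
          calc (a * a)⁻¹ * (a * t) * (a * a) = a⁻¹ * (t * a) * a := by group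
            _ = a⁻¹ * (a⁻¹ * t) * a := by rw [hta']
            _ = a⁻¹ * a⁻¹ * (t * a) := by group
            _ = a⁻¹ * a⁻¹ * (a⁻¹ * t) := by rw [hta']
            _ = (a ^ 3)⁻¹ * t := by group
            _ = t := by rw [ha3, inv_one, one_mul]
        rw [e] at h1
        exact h1
      apply hST
      apply le_antisymm inf_le_left
      intro s hs
      refine Subgroup.mem_inf.2 ⟨hs, ?_⟩
      rw [Subgroup.mem_centralizer_iff]
      intro x hx
      rcases hTelts x hx with rfl | rfl
      · rw [one_mul, mul_one]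
      · -- `[s, x] ∈ N ⊓ S`
        have h1 : s * x * s⁻¹ * x⁻¹ ∈ N := N.mul_mem (hNn.conj_mem x htN s) (N.inv_mem htN)
        have h2 : s * x * s⁻¹ * x⁻¹ ∈ (S : Subgroup G) := by
          have : s * x * s⁻¹ * x⁻¹ = s * (x * s⁻¹ * x⁻¹) := by group
          rw [this]
          exact Subgroup.mul_mem _ hs (hSn.conj_mem _ (Subgroup.inv_mem _ hs) x)
        have h3 := hNS' _ h1 h2
        calc x * s = (s * x * s⁻¹ * x⁻¹)⁻¹ * (s * x) := by group
          _ = s * x := by rw [h3, inv_one, one_mul]
    · -- `N` meets the centre of `S`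
      haveI : (N.subgroupOf S).Normal := inferInstance
      obtain ⟨w₀, hw₀N, hw₀Z, hw₀1⟩ :=
        Cfsg.Agent.Lib.Lead.PGroup.exists_mem_center_of_normal S.isPGroup' (N.subgroupOf S) hNS
      have hwN : (w₀ : G) ∈ N := Subgroup.mem_subgroupOf.1 hw₀N
      have hw1 : (w₀ : G) ≠ 1 := by
        intro h
        apply hw₀1
        apply Subtype.ext
        rw [h]
        rfl
      have hwZ : (w₀ : G) ∈ Z := by
        rw [hZ, Subgroup.mem_inf]
        refine ⟨w₀.2, ?_⟩
        rw [Subgroup.mem_centralizer_iff]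
        intro s hs
        have := Subgroup.mem_center_iff.1 hw₀Z ⟨s, hs⟩
        exact congrArg Subtype.val this
      obtain ⟨k, hk⟩ := Subgroup.mem_zpowers_iff.1 (hZgen _ hwZ hw1 z hzZ)
      apply hzB
      rw [← hk]
      exact B.zpow_mem (hNB hwN) k
  exact iso_of_core_free hG z hz3 hzc B hB18 hzB hcore

end Cfsg.Agent.H9.G162
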