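import Cfsg.Agent.H9.GDFSpec

/-!
# Functionals on the length-24 code: recognising the functionals `c ↦ c p + c q`

For a function `g` on the code that respects sums, `vec g < 4096` packs its values on twelve words, and
`g (cw m)` is the parity of `m &&& vec g`.  The number `cntOct g` of words of weight `8` or `16` on which `g`
vanishes is `814` exactly when `g` vanishes on the all-ones word and is `c ↦ c p + c q` for two points `p ≠ q`.
-/

set_option autoImplicit false

namespace Cfsg.Agent.H9.GDF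

open Cfsg Cfsg.Agent.Lib.Helper6.Golay

/-- the word of the code with information bits `m` -/
def cw (m : ℕ) : ↥golayCode := ⟨dec (combo m), dec_combo_mem m⟩

theorem cw_val (m : ℕ) : ((cw m : ↥golayCode) : GolayPt → ZMod 2) = dec (combo m) := rfl

theorem cw_xor (a b : ℕ) : cw (a ^^^ b) = cw a + cw b := by
  apply Subtype.ext
  rw [Submodule.coe_add, cw_val, cw_val, cw_val, combo_xor, dec_xor]

theorem cw_surj (c : ↥golayCode) : ∃ m < 4096, c = cw m := by
  obtain ⟨m, hm, h⟩ := (mem_golayCode_iff _).1 c.2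
  exact ⟨m, hm, Subtype.ext h⟩

theorem cw_inj {a b : ℕ} (ha : a < 4096) (hb : b < 4096) (h : cw a = cw b) : a = b := by
  have h1 : dec (combo a) = dec (combo b) := congrArg Subtype.val h
  exact combo_injOn ha hb ((dec_eq_iff (combo_lt a ha) (combo_lt b hb)).1 h1)

theorem cw_ones : ((cw 4095 : ↥golayCode) : GolayPt → ZMod 2) = fun _ => 1 := by
  rw [cw_val, combo_ones, dec_ones]; rfl

/-- the vector of a function on the code -/
def vec (g : ↥golayCode → ZMod 2) : ℕ :=
  Nat.ofBits (fun i : Fin 12 => decide (g (cw (2 ^ (i : ℕ))) = 1))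

theorem vec_lt (g : ↥golayCode → ZMod 2) : vec g < 4096 := Nat.ofBits_lt_two_pow _

theorem testBit_vec (g : ↥golayCode → ZMod 2) (i : ℕ) (hi : i < 12) :
    (vec g).testBit i = decide (g (cw (2 ^ i)) = 1) := by
  rw [vec, Nat.testBit_ofBits_lt _ i hi]

theorem testBit_vec_ge (g : ↥golayCode → ZMod 2) (i : ℕ) (hi : 12 ≤ i) : (vec g).testBit i = false :=
  Nat.testBit_ofBits_ge _ i hi

theorem vec_add (g g' : ↥golayCode → ZMod 2) : vec (g + g') = vec g ^^^ vec g' := by
  apply Nat.eq_of_testBit_eq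
  intro i
  rw [Nat.testBit_xor]
  by_cases hi : i < 12
  · rw [testBit_vec _ i hi, testBit_vec _ i hi, testBit_vec _ i hi, Pi.add_apply]
    generalize g (cw (2 ^ i)) = x
    generalize g' (cw (2 ^ i)) = y
    revert x y; decide
  · rw [testBit_vec_ge _ i (not_lt.1 hi), testBit_vec_ge _ i (not_lt.1 hi), testBit_vec_ge _ i (not_lt.1 hi)]
    rfl

theorem xor_split (k m : ℕ) (hm : m < 2 ^ (k + 1)) :
    m = (m % 2 ^ k) ^^^ (if m.testBit k then 2 ^ k else 0) := by
  apply Nat.eq_of_testBit_eq
  intro j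
  rw [Nat.testBit_xor, Nat.testBit_mod_two_pow]
  rcases lt_trichotomy j k with h | h | h
  · have h1 : (if m.testBit k then 2 ^ k else 0).testBit j = false := by
      split_ifs
      · rw [Nat.testBit_two_pow]; simp; omega
      · exact Nat.zero_testBit j
    rw [h1]; simp [h]
  · subst h
    have h1 : (if m.testBit j then 2 ^ j else 0).testBit j = m.testBit j := by
      split_ifs with h2
      · rw [Nat.testBit_two_pow, h2]; simp
      · rw [Nat.zero_testBit]; simpa using h2
    rw [h1]; simp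
  · have h0 : m.testBit j = false :=
      Nat.testBit_lt_two_pow (lt_of_lt_of_le hm (Nat.pow_le_pow_right (by norm_num) h))
    have h1 : (if m.testBit k then 2 ^ k else 0).testBit j = false := by
      split_ifs
      · rw [Nat.testBit_two_pow]; simp; omega
      · exact Nat.zero_testBit j
    rw [h1, h0]; simp

theorem xor_additive_sum (f : ℕ → ZMod 2) (hf : ∀ a b, f (a ^^^ b) = f a + f b) :
    ∀ k m, m < 2 ^ k → f m = ∑ i ∈ Finset.range k, if m.testBit i then f (2 ^ i) else 0 := by
  have h0 : f 0 = 0 := by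
    have := hf 0 0
    simpa using this
  intro k
  induction k with
  | zero =>
    intro m hm
    have : m = 0 := by simpa using hm
    rw [this, h0]; simp
  | succ k ih =>
    intro m hm
    have hr : m % 2 ^ k < 2 ^ k := Nat.mod_lt _ (by positivity)
    have hsplit := xor_split k m hm
    have h1 : f m = f (m % 2 ^ k) + f (if m.testBit k then 2 ^ k else 0) := by
      conv_lhs => rw [hsplit]
      exact hf _ _
    rw [Finset.sum_range_succ, h1, ih _ hr]
    congr 1
    · apply Finset.sum_congr rfl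
      intro i hi
      rw [Nat.testBit_mod_two_pow]
      simp [Finset.mem_range.1 hi]
    · split_ifs
      · rfl
      · exact h0

/-- the value of a function respecting sums is a parity -/
theorem apply_cw (g : ↥golayCode → ZMod 2) (hg : ∀ c c', g (c + c') = g c + g c') (m : ℕ)
    (hm : m < 4096) : g (cw m) = ((pc 12 (m &&& vec g) : ℕ) : ZMod 2) := by
  have h := xor_additive_sum (fun m => g (cw m)) (fun a b => by rw [cw_xor, hg]) 12 m hm
  rw [h, pc_eq_sum, Nat.cast_sum]
  apply Finset.sum_congr rfl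
  intro i hi
  rw [Nat.testBit_and, testBit_vec _ i (Finset.mem_range.1 hi)]
  cases m.testBit i
  · simp
  · generalize g (cw (2 ^ i)) = x
    revert x; decide

theorem apply_cw_eq_zero (g : ↥golayCode → ZMod 2) (hg : ∀ c c', g (c + c') = g c + g c') (m : ℕ)
    (hm : m < 4096) : g (cw m) = 0 ↔ ev (m &&& vec g) = 1 := by
  rw [apply_cw g hg m hm, ZMod.natCast_eq_zero_iff]
  have h := ev_spec (m &&& vec g) (lt_of_le_of_lt Nat.and_le_left hm)
  omega

theorem eq_of_vec_eq (g g' : ↥golayCode → ZMod 2) (hg : ∀ c c', g (c + c') = g c + g c')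
    (hg' : ∀ c c', g' (c + c') = g' c + g' c') (h : vec g = vec g') : g = g' := by
  funext c
  obtain ⟨m, hm, rfl⟩ := cw_surj c
  rw [apply_cw g hg m hm, apply_cw g' hg' m hm, h]

/-- the number of words of weight `8` or `16` on which `g` vanishes -/
noncomputable def cntOct (g : ↥golayCode → ZMod 2) : ℕ :=
  {c : ↥golayCode | (hammingNorm (c : GolayPt → ZMod 2) = 8 ∨ hammingNorm (c : GolayPt → ZMod 2) = 16) ∧
    g c = 0}.ncard

theorem cntOct_eq (g : ↥golayCode → ZMod 2) (hg : ∀ c c', g (c + c') = g c + g c') :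
    cntOct g = cntL (vec g) octLit := by
  have hset : {c : ↥golayCode | (hammingNorm (c : GolayPt → ZMod 2) = 8 ∨
      hammingNorm (c : GolayPt → ZMod 2) = 16) ∧ g c = 0} =
      cw '' (↑((octLit.filter (fun m => ev (m &&& vec g) = 1)).toFinset) : Set ℕ) := by
    ext c
    simp only [Set.mem_ofPred_eq, Set.mem_image, Finset.mem_coe, List.mem_toFinset, List.mem_filter,
      decide_eq_true_eq]
    constructor
    · rintro ⟨hw, h0⟩
      obtain ⟨m, hm, rfl⟩ := cw_surj c
      rw [cw_val, hammingNorm_dec] at hw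
      exact ⟨m, ⟨(mem_octLit m).2 ⟨hm, hw⟩, (apply_cw_eq_zero g hg m hm).1 h0⟩, rfl⟩
    · rintro ⟨m, ⟨hmem, hev⟩, rfl⟩
      obtain ⟨hm, hw⟩ := (mem_octLit m).1 hmem
      rw [cw_val, hammingNorm_dec]
      exact ⟨hw, (apply_cw_eq_zero g hg m hm).2 hev⟩
  have hinj : Set.InjOn cw (↑((octLit.filter (fun m => ev (m &&& vec g) = 1)).toFinset) : Set ℕ) := by
    intro a ha b hb hab
    simp only [Finset.mem_coe, List.mem_toFinset, List.mem_filter] at ha hb
    exact cw_inj ((mem_octLit a).1 ha.1).1 ((mem_octLit b).1 hb.1).1 hab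
  rw [cntOct, hset, hinj.ncard_image, Set.ncard_coe_finset,
    List.toFinset_card_of_nodup (octLit_nodup.filter _), cntL_eq]

/-- the coordinate functionals -/
def E (p : GolayPt) : ↥golayCode → ZMod 2 := fun c => (c : GolayPt → ZMod 2) p

theorem E_add (p : GolayPt) (c c' : ↥golayCode) : E p (c + c') = E p c + E p c' := rfl

theorem vec_E (p : GolayPt) : vec (E p) = sL (idx p) := by
  apply Nat.eq_of_testBit_eq
  intro i
  by_cases hi : i < 12
  · rw [testBit_vec _ i hi, sL_testBit _ i (idx_lt p) hi]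
    show decide (dec (combo (2 ^ i)) p = 1) = _
    rw [dec_apply]
    cases (combo (2 ^ i)).testBit (idx p) <;> simp
  · rw [testBit_vec_ge _ i (not_lt.1 hi)]
    symm
    apply Nat.testBit_lt_two_pow
    exact lt_of_lt_of_le (sL_lt _ (idx_lt p))
      (le_trans (by norm_num : 4096 ≤ 2 ^ 12) (Nat.pow_le_pow_right (by norm_num) (not_lt.1 hi)))

theorem vec_D (p q : GolayPt) : vec (E p + E q) = sL (idx p) ^^^ sL (idx q) := by
  rw [vec_add, vec_E, vec_E]

theorem D_add (p q : GolayPt) (c c' : ↥golayCode) : (E p + E q) (c + c') = (E p + E q) c + (E p + E q) c' := by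
  simp only [Pi.add_apply, E_add]
  abel

theorem idx_ne {p q : GolayPt} (h : p ≠ q) : idx p ≠ idx q := fun h' => h (idx_injective h')

/-- the functional `c ↦ c p + c q` vanishes on `814` words of weight `8` or `16` -/
theorem cntOct_D (p q : GolayPt) (hpq : p ≠ q) : cntOct (E p + E q) = 814 := by
  rw [cntOct_eq _ (D_add p q), vec_D]
  obtain ⟨h1, h2⟩ := dm_duad (idx p) (idx q) (idx_lt p) (idx_lt q) (idx_ne hpq)
  exact (k1 _ (Nat.xor_lt_two_pow (n := 12) (sL_lt _ (idx_lt p)) (sL_lt _ (idx_lt q))) h2).2 h1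

/-- the all-ones word -/
def onesW : ↥golayCode := cw 4095

/-- a function respecting sums and vanishing on the all-ones word and on `814` words of weight `8` or `16`
is `c ↦ c p + c q` -/
theorem classify (g : ↥golayCode → ZMod 2) (hg : ∀ c c', g (c + c') = g c + g c') (h1 : g onesW = 0)
    (hN : cntOct g = 814) : ∃ a b : GolayPt, a ≠ b ∧ g = E a + E b := by
  have hev : ev (4095 &&& vec g) = 1 := (apply_cw_eq_zero g hg 4095 (by norm_num)).1 h1
  rw [cntOct_eq g hg] at hN
  have hdm := (k1 _ (vec_lt g) hev).1 hN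
  obtain ⟨a, b, ha, hb, hab, hv⟩ := duad_of_dm _ (vec_lt g) hdm
  refine ⟨pt a, pt b, ?_, ?_⟩
  · intro h
    apply hab
    rw [← idx_pt a ha, ← idx_pt b hb, h]
  · apply eq_of_vec_eq g _ hg (D_add _ _)
    rw [vec_D, idx_pt a ha, idx_pt b hb, hv]

theorem K3 (a b c d : GolayPt) (hab : a ≠ b) (h : E a + E b = E c + E d) :
    (a = c ∧ b = d) ∨ (a = d ∧ b = c) := by
  have hv := congrArg vec h
  rw [vec_D, vec_D] at hv
  rcases k3 _ _ _ _ (idx_lt a) (idx_lt b) (idx_lt c) (idx_lt d) (idx_ne hab) hv with ⟨h1, h2⟩ | ⟨h1, h2⟩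
  · exact Or.inl ⟨idx_injective h1, idx_injective h2⟩
  · exact Or.inr ⟨idx_injective h1, idx_injective h2⟩

theorem K4 (a b c d e f : GolayPt) (hab : a ≠ b) (hcd : c ≠ d) (hef : e ≠ f)
    (h : (E a + E b) + (E c + E d) = E e + E f) : a = c ∨ a = d ∨ b = c ∨ b = d := by
  have hv := congrArg vec h
  rw [vec_add, vec_D, vec_D, vec_D] at hv
  have h1 := (dm_duad (idx e) (idx f) (idx_lt e) (idx_lt f) (idx_ne hef)).1
  by_contra hcon
  simp only [not_or] at hcon
  obtain ⟨hac, had, hbc, hbd⟩ := hcon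
  have h0 := k4 _ _ _ _ (idx_lt a) (idx_lt b) (idx_lt c) (idx_lt d) (idx_ne hab) (idx_ne hac) (idx_ne hbc)
    (idx_ne had) (idx_ne hbd) (idx_ne hcd)
  rw [hv, h1] at h0
  exact absurd h0 (by decide)

end Cfsg.Agent.H9.GDF
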