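import Mathlib

/-!
# Pairs of points: a map of pairs that respects sums comes from a map of points

Let `E p`, for `p` in a set `P` of points, be elements of a ring in which `a + a = 0`, such that the sums
`E a + E b` of two of them determine the pair, and such that the sum of two of these sums over disjoint pairs is
not a third one.  If the `H p` are such that every `H p + H q` with `p ≠ q` is some `E a + E b` with `a ≠ b`, and
these determine the pair `p, q`, then `H p + H q = E (π p) + E (π q)` for an injective map `π` of points.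
-/

set_option autoImplicit false

namespace Cfsg.Agent.H9.GDF

section

variable {P A : Type*} [CommRing A] (E H : P → A)

theorem star_triple (h2 : ∀ a : A, a + a = 0)
    (K4 : ∀ a b c d e f, a ≠ b → c ≠ d → e ≠ f → (E a + E b) + (E c + E d) = E e + E f →
      a = c ∨ a = d ∨ b = c ∨ b = d)
    (hH : ∀ p q, p ≠ q → ∃ a b, a ≠ b ∧ H p + H q = E a + E b)
    (hinj : ∀ p q p' q', p ≠ q → H p + H q = H p' + H q' → (p = p' ∧ q = q') ∨ (p = q' ∧ q = p'))
    (p q r : P) (hpq : p ≠ q) (hpr : p ≠ r) (hqr : q ≠ r) :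
    ∃ a b c, a ≠ b ∧ a ≠ c ∧ b ≠ c ∧ H p + H q = E a + E b ∧ H p + H r = E a + E c := by
  obtain ⟨a, b, hab, e1⟩ := hH p q hpq
  obtain ⟨c, d, hcd, e2⟩ := hH p r hpr
  obtain ⟨e, f, hef, e3⟩ := hH q r hqr
  have hsum : (E a + E b) + (E c + E d) = E e + E f := by
    rw [← e1, ← e2, ← e3]
    linear_combination h2 (H p)
  have hne : ∀ u w : A, H p + H q = u → H p + H r = w → u ≠ w := by
    intro u w hu hw huw
    have : H p + H q = H p + H r := by rw [hu, hw, huw]
    rcases hinj p q p r hpq this with ⟨_, h⟩ | ⟨h, _⟩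
    · exact hqr h
    · exact hpr h
  rcases K4 a b c d e f hab hcd hef hsum with h | h | h | h
  · subst h
    refine ⟨a, b, d, hab, hcd, ?_, e1, e2⟩
    intro hbd
    exact hne _ _ e1 e2 (by rw [hbd])
  · subst h
    refine ⟨a, b, c, hab, Ne.symm hcd, ?_, e1, by rw [e2, add_comm]⟩
    intro hbc
    exact hne _ _ e1 e2 (by rw [hbc, add_comm])
  · subst h
    refine ⟨b, a, d, Ne.symm hab, hcd, ?_, by rw [e1, add_comm], e2⟩
    intro had
    exact hne _ _ e1 e2 (by rw [had, add_comm])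
  · subst h
    refine ⟨b, a, c, Ne.symm hab, Ne.symm hcd, ?_, by rw [e1, add_comm], by rw [e2, add_comm]⟩
    intro hac
    exact hne _ _ e1 e2 (by rw [hac])

theorem star_point (h2 : ∀ a : A, a + a = 0)
    (K4 : ∀ a b c d e f, a ≠ b → c ≠ d → e ≠ f → (E a + E b) + (E c + E d) = E e + E f →
      a = c ∨ a = d ∨ b = c ∨ b = d)
    (hH : ∀ p q, p ≠ q → ∃ a b, a ≠ b ∧ H p + H q = E a + E b)
    (hinj : ∀ p q p' q', p ≠ q → H p + H q = H p' + H q' → (p = p' ∧ q = q') ∨ (p = q' ∧ q = p'))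
    (hP : ∀ p q : P, ∃ r, r ≠ p ∧ r ≠ q) (p : P) :
    ∃ a, ∀ s, s ≠ p → ∃ d, d ≠ a ∧ H p + H s = E a + E d := by
  obtain ⟨q, hqp, -⟩ := hP p p
  obtain ⟨r, hrp, hrq⟩ := hP p q
  obtain ⟨a, b, c, hab, hac, hbc, e1, e2⟩ :=
    star_triple E H h2 K4 hH hinj p q r (Ne.symm hqp) (Ne.symm hrp) (Ne.symm hrq)
  refine ⟨a, ?_⟩
  intro s hsp
  by_cases hsq : s = q
  · subst hsq; exact ⟨b, Ne.symm hab, e1⟩
  by_cases hsr : s = r
  · subst hsr; exact ⟨c, Ne.symm hac, e2⟩
  obtain ⟨a', d', hne, e4⟩ := hH p s (Ne.symm hsp)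
  obtain ⟨e, f, hef, e5⟩ := hH q s (Ne.symm hsq)
  obtain ⟨e', f', hef', e6⟩ := hH r s (Ne.symm hsr)
  have hs1 : (E a + E b) + (E a' + E d') = E e + E f := by
    rw [← e1, ← e4, ← e5]
    linear_combination h2 (H p)
  have hs2 : (E a + E c) + (E a' + E d') = E e' + E f' := by
    rw [← e2, ← e4, ← e6]
    linear_combination h2 (H p)
  have done1 : a = a' → ∃ d, d ≠ a ∧ H p + H s = E a + E d := by
    intro h; subst h; exact ⟨d', Ne.symm hne, e4⟩
  have done2 : a = d' → ∃ d, d ≠ a ∧ H p + H s = E a + E d := by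
    intro h; subst h; exact ⟨a', hne, by rw [e4, add_comm]⟩
  have bad : E a' + E d' = E b + E c → False := by
    intro h
    have : H p + H s = H q + H r := by
      rw [e4, h]
      have h3 : E b + E c = (E a + E b) + (E a + E c) := by linear_combination - h2 (E a)
      rw [h3, ← e1, ← e2]
      linear_combination h2 (H p)
    rcases hinj p s q r (Ne.symm hsp) this with ⟨h, _⟩ | ⟨h, _⟩
    · exact hqp h.symm
    · exact hrp h.symm
  rcases K4 a b a' d' e f hab hne hef hs1 with h | h | h | h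
  · exact done1 h
  · exact done2 h
  · rcases K4 a c a' d' e' f' hac hne hef' hs2 with h' | h' | h' | h'
    · exact done1 h'
    · exact done2 h'
    · exact absurd (h.trans h'.symm) hbc
    · exact (bad (by rw [← h, ← h'])).elim
  · rcases K4 a c a' d' e' f' hac hne hef' hs2 with h' | h' | h' | h'
    · exact done1 h'
    · exact done2 h'
    · exact (bad (by rw [← h, ← h', add_comm])).elim
    · exact absurd (h.trans h'.symm) hbc

/-- a map of pairs that respects sums comes from a map of points -/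
theorem star_lemma (h2 : ∀ a : A, a + a = 0)
    (K3 : ∀ a b c d, a ≠ b → E a + E b = E c + E d → (a = c ∧ b = d) ∨ (a = d ∧ b = c))
    (K4 : ∀ a b c d e f, a ≠ b → c ≠ d → e ≠ f → (E a + E b) + (E c + E d) = E e + E f →
      a = c ∨ a = d ∨ b = c ∨ b = d)
    (hH : ∀ p q, p ≠ q → ∃ a b, a ≠ b ∧ H p + H q = E a + E b)
    (hinj : ∀ p q p' q', p ≠ q → H p + H q = H p' + H q' → (p = p' ∧ q = q') ∨ (p = q' ∧ q = p'))
    (hP : ∀ p q : P, ∃ r, r ≠ p ∧ r ≠ q) :
    ∃ π : P → P, Function.Injective π ∧ ∀ p q, H p + H q = E (π p) + E (π q) := by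
  choose π hπ using star_point E H h2 K4 hH hinj hP
  have hπinj : Function.Injective π := by
    intro p q hpq
    by_contra hne
    obtain ⟨r, hrp, hrq⟩ := hP p q
    obtain ⟨d, hd, e1⟩ := hπ p q (Ne.symm hne)
    obtain ⟨e, he, e2⟩ := hπ p r hrp
    obtain ⟨e', he', e3⟩ := hπ q r hrq
    rw [← hpq] at e3 he'
    have h : E (π p) + E d = E e + E e' := by
      have h3 : E e + E e' = (E (π p) + E e) + (E (π p) + E e') := by linear_combination - h2 (E (π p))
      rw [h3, ← e1, ← e2, ← e3]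
      linear_combination - h2 (H r)
    rcases K3 _ _ _ _ (Ne.symm hd) h with ⟨h', _⟩ | ⟨h', _⟩
    · exact he h'.symm
    · exact he' h'.symm
  refine ⟨π, hπinj, ?_⟩
  intro p q
  by_cases hpq : p = q
  · subst hpq; rw [h2, h2]
  obtain ⟨d, hd, e1⟩ := hπ p q (Ne.symm hpq)
  obtain ⟨d', hd', e2⟩ := hπ q p hpq
  have h : E (π p) + E d = E (π q) + E d' := by rw [← e1, ← e2, add_comm]
  rcases K3 _ _ _ _ (Ne.symm hd) h with ⟨h', _⟩ | ⟨_, h'⟩
  · exact absurd (hπinj h') hpq
  · rw [e1, h']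

end

end Cfsg.Agent.H9.GDF
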