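import Cfsg.Agent.H9.GDFLin
import Cfsg.Agent.H9.GDFStar
import Cfsg.Agent.Lib.Helper6.GolayM24

/-!
# Linear automorphisms of the length-24 code that permute the words of weight `8` or `16`

Such an automorphism, if it fixes the all-ones word, acts on the functionals `c ↦ c p + c q` as a permutation of
the points does.
-/

set_option autoImplicit false

namespace Cfsg.Agent.H9.GDF

open Cfsg Cfsg.Agent.Lib.Helper6.Golay

theorem hammingNorm_perm (σ : Equiv.Perm GolayPt) (w : GolayPt → ZMod 2) :
    hammingNorm (fun p => w (σ.symm p)) = hammingNorm w := by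
  unfold hammingNorm
  apply Finset.card_bij (fun p _ => σ.symm p)
  · intro p hp
    simpa using hp
  · intro p _ q _ h
    exact σ.symm.injective h
  · intro q hq
    exact ⟨σ q, by simpa using hq, by simp⟩

theorem hammingNorm_add_ones (w : GolayPt → ZMod 2) :
    hammingNorm (w + fun _ => (1 : ZMod 2)) + hammingNorm w = 24 := by
  unfold hammingNorm
  have h : (Finset.univ.filter (fun p => (w + fun _ : GolayPt => (1 : ZMod 2)) p ≠ 0)) =
      Finset.univ.filter (fun p => ¬ (w p ≠ 0)) := by
    ext p
    simp only [Finset.mem_filter, Finset.mem_univ, true_and, Pi.add_apply]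
    generalize w p = a
    revert a; decide
  rw [h, add_comm, Finset.card_filter_add_card_filter_not]
  rfl

/-- the word has weight `8` or `16` -/
def isOct (c : ↥golayCode) : Prop :=
  hammingNorm (c : GolayPt → ZMod 2) = 8 ∨ hammingNorm (c : GolayPt → ZMod 2) = 16

theorem isOct_of_orb (y : ↥golayCode → ↥golayCode)
    (hy : ∀ c : ↥golayCode, ∃ σ ∈ M24,
      ((y c : ↥golayCode) : GolayPt → ZMod 2) = (fun p => (c : GolayPt → ZMod 2) (σ.symm p)) ∨
      ((y c : ↥golayCode) : GolayPt → ZMod 2) =
        (fun p => (c : GolayPt → ZMod 2) (σ.symm p)) + fun _ => (1 : ZMod 2))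
    (c : ↥golayCode) (hc : isOct c) : isOct (y c) := by
  obtain ⟨σ, -, h | h⟩ := hy c
  · rw [isOct, h, hammingNorm_perm]; exact hc
  · have h1 := hammingNorm_add_ones (fun p => (c : GolayPt → ZMod 2) (σ.symm p))
    rw [hammingNorm_perm] at h1
    rw [isOct, h]
    rcases hc with hc | hc
    · right; omega
    · left; omega

theorem cntOct_comp (x : ↥golayCode ≃ₗ[ZMod 2] ↥golayCode) (hx : ∀ c, isOct c → isOct (x c))
    (hx' : ∀ c, isOct c → isOct (x.symm c)) (g : ↥golayCode → ZMod 2) :
    cntOct (fun c => g (x c)) = cntOct g := by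
  have h : {c : ↥golayCode | (hammingNorm (c : GolayPt → ZMod 2) = 8 ∨
      hammingNorm (c : GolayPt → ZMod 2) = 16) ∧ g c = 0} =
      x '' {c : ↥golayCode | (hammingNorm (c : GolayPt → ZMod 2) = 8 ∨
        hammingNorm (c : GolayPt → ZMod 2) = 16) ∧ g (x c) = 0} := by
    ext c
    constructor
    · rintro ⟨h1, h2⟩
      exact ⟨x.symm c, ⟨hx' c h1, by simpa using h2⟩, by simp⟩
    · rintro ⟨d, ⟨h1, h2⟩, rfl⟩
      exact ⟨hx d h1, h2⟩
  unfold cntOct
  rw [h, Set.ncard_image_of_injective _ x.injective]

theorem onesW_val : ((onesW : ↥golayCode) : GolayPt → ZMod 2) = fun _ => 1 := cw_ones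

theorem ones_mem : (fun _ : GolayPt => (1 : ZMod 2)) ∈ golayCode := by
  rw [← onesW_val]; exact onesW.2

theorem exists_third : ∀ p q : GolayPt, ∃ r, r ≠ p ∧ r ≠ q := by decide

/-- a linear automorphism of the code that fixes the all-ones word and permutes the words of weight `8` or `16`
acts on the functionals `c ↦ c p + c q` as an injective map of the points does -/
theorem exists_point_map (x : ↥golayCode ≃ₗ[ZMod 2] ↥golayCode) (h1 : x onesW = onesW)
    (hx : ∀ c, isOct c → isOct (x c)) (hx' : ∀ c, isOct c → isOct (x.symm c)) :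
    ∃ π : GolayPt → GolayPt, Function.Injective π ∧ ∀ (p q : GolayPt) (c : ↥golayCode),
      ((x c : ↥golayCode) : GolayPt → ZMod 2) p + ((x c : ↥golayCode) : GolayPt → ZMod 2) q =
        (c : GolayPt → ZMod 2) (π p) + (c : GolayPt → ZMod 2) (π q) := by
  have hstar := star_lemma (P := GolayPt) (A := ↥golayCode → ZMod 2) E (fun p c => E p (x c))
    (fun a => by funext c; exact CharTwo.add_self_eq_zero (a c)) K3 K4 ?_ ?_ exists_third
  · obtain ⟨π, hπ, h⟩ := hstar
    exact ⟨π, hπ, fun p q c => congrFun (h p q) c⟩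
  · intro p q hpq
    have hfun : ((fun c => E p (x c)) + fun c => E q (x c)) = fun c => (E p + E q) (x c) := rfl
    rw [hfun]
    apply classify
    · intro c c'
      show (E p + E q) (x (c + c')) = _
      rw [map_add, D_add]
    · show (E p + E q) (x onesW) = 0
      rw [h1]
      show (onesW : GolayPt → ZMod 2) p + (onesW : GolayPt → ZMod 2) q = 0
      rw [onesW_val]
      show (1 : ZMod 2) + 1 = 0
      decide
    · rw [cntOct_comp x hx hx', cntOct_D p q hpq]
  · intro p q p' q' hpq h
    apply K3 p q p' q' hpq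
    funext c
    have := congrFun h (x.symm c)
    simpa using this

end Cfsg.Agent.H9.GDF
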