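import Cfsg.Agent.H9.GDFComp

/-!
# Functionals on the length-24 code: the computed facts, in usable form
-/

set_option autoImplicit false

namespace Cfsg.Agent.H9.GDF

open Cfsg Cfsg.Agent.Lib.Helper6.Golay

theorem cond_imp {c x : Bool} (h : cond c x true = true) (hc : c = true) : x = true := by
  rw [hc, cond_true] at h; exact h

theorem cond_and {c x : Bool} (h : cond c x false = true) : c = true ∧ x = true := by
  cases c
  · simp at h
  · exact ⟨rfl, by simpa using h⟩

theorem cond_skip {c x : Bool} (h : cond c true x = true) (hc : c = false) : x = true := by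
  rw [hc, cond_false] at h; exact h

theorem beq_false_of_ne {a b : ℕ} (h : a ≠ b) : Nat.beq a b = false := by
  cases hb : Nat.beq a b
  · rfl
  · exact absurd (Nat.eq_of_beq_eq_true hb) h

theorem beq_true_of_eq {a b : ℕ} (h : a = b) : Nat.beq a b = true := by
  rw [h]; exact Nat.beq_refl b

theorem ev_spec (n : ℕ) (hn : n < 4096) : ev n + pc 12 n % 2 = 1 :=
  Nat.eq_of_beq_eq_true (allB_spec ev_aux n hn)

theorem sL_lt (a : ℕ) (ha : a < 24) : sL a < 4096 := by
  have h := (cond_and (allB_spec sL_aux a ha)).1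
  exact Nat.blt_eq ▸ h

theorem sL_testBit (a i : ℕ) (ha : a < 24) (hi : i < 12) :
    (sL a).testBit i = (combo (2 ^ i)).testBit a := by
  have h := (cond_and (allB_spec sL_aux a ha)).2
  have h2 := allB_spec h i hi
  exact eq_of_beq h2

theorem dm_duad (a b : ℕ) (ha : a < 24) (hb : b < 24) (hab : a ≠ b) :
    dm (sL a ^^^ sL b) = 1 ∧ ev (4095 &&& (sL a ^^^ sL b)) = 1 := by
  have h := allB_spec (allB_spec dm_aux a ha) b hb
  have h2 := cond_and (cond_skip h (beq_false_of_ne hab))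
  exact ⟨Nat.eq_of_beq_eq_true h2.1, Nat.eq_of_beq_eq_true h2.2⟩

theorem duad_of_dm (v : ℕ) (hv : v < 4096) (h : dm v = 1) :
    ∃ a b, a < 24 ∧ b < 24 ∧ a ≠ b ∧ v = sL a ^^^ sL b := by
  have h1 := cond_imp (allB_spec ft_aux v hv) (beq_true_of_eq h)
  have h2 := cond_and h1
  have h3 := cond_and h2.2
  have hab : fa v < fb v := Nat.blt_eq ▸ h2.1
  have hb : fb v < 24 := Nat.blt_eq ▸ h3.1
  exact ⟨fa v, fb v, lt_trans hab hb, hb, ne_of_lt hab, (Nat.eq_of_beq_eq_true h3.2).symm⟩

theorem k3 (a b c d : ℕ) (ha : a < 24) (hb : b < 24) (hc : c < 24) (hd : d < 24) (hab : a ≠ b)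
    (h : sL a ^^^ sL b = sL c ^^^ sL d) : (a = c ∧ b = d) ∨ (a = d ∧ b = c) := by
  have h1 := allB_spec (allB_spec k3_aux a ha) b hb
  have h2 := allB_spec (allB_spec (cond_skip h1 (beq_false_of_ne hab)) c hc) d hd
  have h3 := cond_imp h2 (beq_true_of_eq h)
  by_cases hac : a = c
  · left
    rw [beq_true_of_eq hac, cond_true] at h3
    exact ⟨hac, Nat.eq_of_beq_eq_true h3⟩
  · right
    rw [beq_false_of_ne hac, cond_false] at h3
    have h4 := cond_and h3
    exact ⟨Nat.eq_of_beq_eq_true h4.1, Nat.eq_of_beq_eq_true h4.2⟩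

theorem k4 (a b c d : ℕ) (ha : a < 24) (hb : b < 24) (hc : c < 24) (hd : d < 24) (hab : a ≠ b)
    (hac : a ≠ c) (hbc : b ≠ c) (had : a ≠ d) (hbd : b ≠ d) (hcd : c ≠ d) :
    dm ((sL a ^^^ sL b) ^^^ (sL c ^^^ sL d)) = 0 := by
  have h1 := allB_spec (allB_spec k4_aux a ha) b hb
  have h2 := allB_spec (cond_skip h1 (beq_false_of_ne hab)) c hc
  have h3 := allB_spec (cond_skip (cond_skip h2 (beq_false_of_ne hac)) (beq_false_of_ne hbc)) d hd
  have h4 := cond_skip (cond_skip (cond_skip h3 (beq_false_of_ne had)) (beq_false_of_ne hbd))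
    (beq_false_of_ne hcd)
  exact Nat.eq_of_beq_eq_true h4

theorem dm_le_one (v : ℕ) : dm v = 0 ∨ dm v = 1 := by
  have : dm v = (DM >>> v) % 2 := Nat.and_one_is_mod _
  omega

theorem ev_le_one (n : ℕ) : ev n = 0 ∨ ev n = 1 := by
  have : ev n = (PT >>> n) % 2 := Nat.and_one_is_mod _
  omega

theorem k1 (v : ℕ) (hv : v < 4096) (hev : ev (4095 &&& v) = 1) : cntL v octLit = 814 ↔ dm v = 1 := by
  have h1 := cond_imp (allB_spec k1_aux v hv) (beq_true_of_eq hev)
  have h2 := Nat.eq_of_beq_eq_true h1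
  constructor
  · intro h
    rw [beq_true_of_eq h, cond_true] at h2
    exact h2.symm
  · intro h
    by_contra hne
    rw [beq_false_of_ne hne, cond_false, h] at h2
    exact absurd h2 (by decide)

theorem combo_ones : combo 4095 = 2 ^ 24 - 1 := by decide +kernel

theorem mem_octLit (m : ℕ) : m ∈ octLit ↔ m < 4096 ∧ (pc 24 (combo m) = 8 ∨ pc 24 (combo m) = 16) := by
  rw [octLit_eq, List.mem_filter, List.mem_range, wtOK, Bool.or_eq_true]
  constructor
  · rintro ⟨h, h1 | h1⟩
    · exact ⟨h, Or.inl (Nat.eq_of_beq_eq_true h1)⟩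
    · exact ⟨h, Or.inr (Nat.eq_of_beq_eq_true h1)⟩
  · rintro ⟨h, h1 | h1⟩
    · exact ⟨h, Or.inl (beq_true_of_eq h1)⟩
    · exact ⟨h, Or.inr (beq_true_of_eq h1)⟩

theorem octLit_nodup : octLit.Nodup := by
  rw [octLit_eq]
  exact List.Nodup.filter _ List.nodup_range

/-- the count as the length of a filtered list -/
theorem cntL_eq (v : ℕ) (l : List ℕ) : cntL v l = (l.filter (fun m => ev (m &&& v) = 1)).length := by
  induction l with
  | nil => rfl
  | cons m l ih =>
    rw [cntL_cons, ih, List.filter_cons]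
    rcases ev_le_one (m &&& v) with h | h
    · rw [h]; simp
    · rw [h]; simp [Nat.add_comm]

end Cfsg.Agent.H9.GDF
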