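import Mathlib

/-!
# A presentation of `GL(2,3)`: groups generated by `i, j, c, u` subject to ten relations have at
most 48 elements; any two such groups of order 48 are isomorphic.
-/

set_option autoImplicit false

namespace Cfsg.Agent.H9.GL23R

/-- the defining relations -/
structure Rel {Y : Type*} [Group Y] (i j c u : Y) : Prop where
  i4 : i ^ 4 = 1
  j2 : j ^ 2 = i ^ 2
  ji : j * i * j⁻¹ = i⁻¹
  c3 : c ^ 3 = 1
  u2 : u ^ 2 = 1
  ci : c * i * c⁻¹ = j
  cj : c * j * c⁻¹ = i * j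
  ui : u * i * u⁻¹ = i⁻¹
  uj : u * j * u⁻¹ = (i * j)⁻¹
  uc : u * c * u⁻¹ = c⁻¹

section Bound

variable {Y : Type*} [Group Y] {i j c u : Y}

theorem Rel.i_inv (h : Rel i j c u) : i⁻¹ = i ^ 3 := by
  rw [inv_eq_iff_mul_eq_one, ← pow_succ']
  exact h.i4

theorem Rel.j4 (h : Rel i j c u) : j ^ 4 = 1 := by
  have : j ^ 4 = (j ^ 2) ^ 2 := by rw [← pow_mul]
  rw [this, h.j2, ← pow_mul]
  exact h.i4

theorem Rel.j_inv (h : Rel i j c u) : j⁻¹ = j ^ 3 := by
  rw [inv_eq_iff_mul_eq_one, ← pow_succ']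
  exact h.j4

theorem Rel.c_inv (h : Rel i j c u) : c⁻¹ = c ^ 2 := by
  rw [inv_eq_iff_mul_eq_one, ← pow_succ']
  exact h.c3

theorem Rel.u_inv (h : Rel i j c u) : u⁻¹ = u := by
  rw [inv_eq_iff_mul_eq_one, ← sq]
  exact h.u2

/-- the monoid generated by `i` and `j` -/
def qM (i j : Y) : Submonoid Y := Submonoid.closure {i, j}

theorem i_mem_qM : i ∈ qM i j := Submonoid.subset_closure (by simp)

theorem j_mem_qM : j ∈ qM i j := Submonoid.subset_closure (by simp)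

theorem Rel.c_comm (h : Rel i j c u) {q : Y} (hq : q ∈ qM i j) : ∃ q' ∈ qM i j, c * q = q' * c := by
  induction hq using Submonoid.closure_induction with
  | one => exact ⟨1, one_mem _, by simp⟩
  | mem x hx =>
    simp only [Set.mem_insert_iff, Set.mem_singleton_iff] at hx
    rcases hx with rfl | rfl
    · exact ⟨j, j_mem_qM, by rw [← h.ci]; group⟩
    · exact ⟨x⁻¹ * x * (i * x), by simpa using mul_mem i_mem_qM j_mem_qM, by
        rw [inv_mul_cancel, one_mul, ← h.cj]; group⟩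
  | mul x y _ _ hx hy =>
    obtain ⟨x', hx', ex⟩ := hx
    obtain ⟨y', hy', ey⟩ := hy
    exact ⟨x' * y', mul_mem hx' hy', by rw [← mul_assoc, ex, mul_assoc, ey, mul_assoc]⟩

theorem Rel.u_comm (h : Rel i j c u) {q : Y} (hq : q ∈ qM i j) : ∃ q' ∈ qM i j, u * q = q' * u := by
  induction hq using Submonoid.closure_induction with
  | one => exact ⟨1, one_mem _, by simp⟩
  | mem x hx =>
    simp only [Set.mem_insert_iff, Set.mem_singleton_iff] at hx
    rcases hx with rfl | rfl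
    · refine ⟨x ^ 3, pow_mem i_mem_qM 3, ?_⟩
      rw [← h.i_inv, ← h.ui]; group
    · refine ⟨x ^ 3 * i ^ 3, mul_mem (pow_mem j_mem_qM 3) (pow_mem i_mem_qM 3), ?_⟩
      rw [← h.i_inv, ← h.j_inv, ← mul_inv_rev, ← h.uj]; group
  | mul x y _ _ hx hy =>
    obtain ⟨x', hx', ex⟩ := hx
    obtain ⟨y', hy', ey⟩ := hy
    exact ⟨x' * y', mul_mem hx' hy', by rw [← mul_assoc, ex, mul_assoc, ey, mul_assoc]⟩

theorem Rel.cpow_comm (h : Rel i j c u) (m : ℕ) {q : Y} (hq : q ∈ qM i j) :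
    ∃ q' ∈ qM i j, c ^ m * q = q' * c ^ m := by
  induction m generalizing q with
  | zero => exact ⟨q, hq, by simp⟩
  | succ m ih =>
    obtain ⟨q1, hq1, e1⟩ := h.c_comm hq
    obtain ⟨q2, hq2, e2⟩ := ih hq1
    exact ⟨q2, hq2, by rw [pow_succ, mul_assoc, e1, ← mul_assoc, e2, mul_assoc]⟩

/-- the normal-form set -/
def nfSet (i j c u : Y) : Set Y :=
  {x | ∃ q ∈ qM i j, ∃ m : ℕ, x = q * c ^ m ∨ x = q * c ^ m * u}

theorem Rel.nf_mul_q (h : Rel i j c u) {x : Y} (hx : x ∈ nfSet i j c u) {q0 q1 : Y}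
    (hq0 : q0 ∈ qM i j) (hq1 : q1 ∈ qM i j) (hu : u * q0 = q1 * u) : x * q0 ∈ nfSet i j c u := by
  obtain ⟨q, hq, m, rfl | rfl⟩ := hx
  · obtain ⟨q', hq', e⟩ := h.cpow_comm m hq0
    exact ⟨q * q', mul_mem hq hq', m, Or.inl (by rw [mul_assoc, e, mul_assoc])⟩
  · obtain ⟨q', hq', e⟩ := h.cpow_comm m hq1
    refine ⟨q * q', mul_mem hq hq', m, Or.inr ?_⟩
    rw [mul_assoc, hu, mul_assoc q, ← mul_assoc (c ^ m), e]
    simp only [mul_assoc]

theorem Rel.nf_mul_i (h : Rel i j c u) {x : Y} (hx : x ∈ nfSet i j c u) :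
    x * i ∈ nfSet i j c u := by
  refine h.nf_mul_q hx i_mem_qM (pow_mem i_mem_qM 3) ?_
  rw [← h.i_inv, ← h.ui]; group

theorem Rel.nf_mul_j (h : Rel i j c u) {x : Y} (hx : x ∈ nfSet i j c u) :
    x * j ∈ nfSet i j c u := by
  refine h.nf_mul_q hx j_mem_qM (mul_mem (pow_mem j_mem_qM 3) (pow_mem i_mem_qM 3)) ?_
  rw [← h.i_inv, ← h.j_inv, ← mul_inv_rev, ← h.uj]; group

theorem Rel.nf_mul_u (h : Rel i j c u) {x : Y} (hx : x ∈ nfSet i j c u) :
    x * u ∈ nfSet i j c u := by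
  obtain ⟨q, hq, m, rfl | rfl⟩ := hx
  · exact ⟨q, hq, m, Or.inr rfl⟩
  · refine ⟨q, hq, m, Or.inl ?_⟩
    rw [mul_assoc, ← sq, h.u2, mul_one]

theorem Rel.nf_mul_c (h : Rel i j c u) {x : Y} (hx : x ∈ nfSet i j c u) :
    x * c ∈ nfSet i j c u := by
  obtain ⟨q, hq, m, rfl | rfl⟩ := hx
  · exact ⟨q, hq, m + 1, Or.inl (by rw [pow_succ, mul_assoc])⟩
  · refine ⟨q, hq, m + 2, Or.inr ?_⟩
    have e : u * c = c ^ 2 * u := by
      rw [← h.c_inv, ← h.uc]; group
    rw [mul_assoc, e, pow_add]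
    simp only [mul_assoc]

theorem Rel.nf_top (h : Rel i j c u) (hgen : Subgroup.closure {i, j, c, u} = ⊤) (x : Y) :
    x ∈ nfSet i j c u := by
  have hx : x ∈ Subgroup.closure {i, j, c, u} := by rw [hgen]; trivial
  induction hx using Subgroup.closure_induction_right with
  | one => exact ⟨1, one_mem _, 0, Or.inl (by simp)⟩
  | mul_right x _ y hy ih =>
    simp only [Set.mem_insert_iff, Set.mem_singleton_iff] at hy
    rcases hy with rfl | rfl | rfl | rfl
    · exact h.nf_mul_i ih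
    · exact h.nf_mul_j ih
    · exact h.nf_mul_c ih
    · exact h.nf_mul_u ih
  | mul_inv_cancel x _ y hy ih =>
    simp only [Set.mem_insert_iff, Set.mem_singleton_iff] at hy
    rcases hy with rfl | rfl | rfl | rfl
    · rw [h.i_inv, pow_succ, pow_succ, pow_one, ← mul_assoc, ← mul_assoc]
      exact h.nf_mul_i (h.nf_mul_i (h.nf_mul_i ih))
    · rw [h.j_inv, pow_succ, pow_succ, pow_one, ← mul_assoc, ← mul_assoc]
      exact h.nf_mul_j (h.nf_mul_j (h.nf_mul_j ih))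
    · rw [h.c_inv, pow_succ, pow_one, ← mul_assoc]
      exact h.nf_mul_c (h.nf_mul_c ih)
    · rw [h.u_inv]
      exact h.nf_mul_u ih

/-- the eight normal forms of the quaternion part -/
def qf (i j : Y) (p : Fin 4 × Fin 2) : Y := i ^ (p.1 : ℕ) * j ^ (p.2 : ℕ)

theorem Rel.ipow_mem (h : Rel i j c u) (a : ℕ) (b : Fin 2) :
    i ^ a * j ^ (b : ℕ) ∈ Set.range (qf i j) := by
  refine ⟨(⟨a % 4, Nat.mod_lt _ (by norm_num)⟩, b), ?_⟩
  simp only [qf]
  rw [← pow_eq_pow_mod a h.i4]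

theorem Rel.qM_le (h : Rel i j c u) {q : Y} (hq : q ∈ qM i j) : q ∈ Set.range (qf i j) := by
  induction hq using Submonoid.closure_induction_right with
  | one => exact ⟨(0, 0), by simp [qf]⟩
  | mul_right x _ y hy ih =>
    obtain ⟨⟨a, b⟩, rfl⟩ := ih
    have hji : j * i = i ^ 3 * j := by
      rw [← h.i_inv, ← h.ji]; group
    simp only [Set.mem_insert_iff, Set.mem_singleton_iff] at hy
    have hb : b = 0 ∨ b = 1 := by fin_cases b <;> simp
    rcases hy with rfl | rfl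
    · rcases hb with rfl | rfl
      · have : qf y j (a, 0) * y = y ^ ((a : ℕ) + 1) * j ^ ((0 : Fin 2) : ℕ) := by
          simp [qf, pow_succ]
        rw [this]
        exact h.ipow_mem _ _
      · have : qf y j (a, 1) * y = y ^ ((a : ℕ) + 3) * j ^ ((1 : Fin 2) : ℕ) := by
          simp only [qf, Fin.val_one, pow_one]
          rw [mul_assoc, hji, pow_add, mul_assoc]
        rw [this]
        exact h.ipow_mem _ _
    · rcases hb with rfl | rfl
      · have : qf i y (a, 0) * y = i ^ (a : ℕ) * y ^ ((1 : Fin 2) : ℕ) := by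
          simp [qf]
        rw [this]
        exact h.ipow_mem _ _
      · have : qf i y (a, 1) * y = i ^ ((a : ℕ) + 2) * y ^ ((0 : Fin 2) : ℕ) := by
          simp only [qf, Fin.val_one, pow_one, Fin.val_zero, pow_zero, mul_one]
          rw [mul_assoc, ← sq, h.j2, pow_add]
        rw [this]
        exact h.ipow_mem _ _

/-- all 48 normal forms -/
def nf (i j c u : Y) (p : (Fin 4 × Fin 2) × Fin 3 × Fin 2) : Y :=
  qf i j p.1 * c ^ (p.2.1 : ℕ) * u ^ (p.2.2 : ℕ)

theorem Rel.nf_surjective (h : Rel i j c u) (hgen : Subgroup.closure {i, j, c, u} = ⊤) :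
    Function.Surjective (nf i j c u) := by
  intro x
  obtain ⟨q, hq, m, rfl | rfl⟩ := h.nf_top hgen x
  · obtain ⟨p, rfl⟩ := h.qM_le hq
    refine ⟨(p, ⟨m % 3, Nat.mod_lt _ (by norm_num)⟩, 0), ?_⟩
    simp only [nf, Fin.val_zero, pow_zero, mul_one]
    rw [← pow_eq_pow_mod m h.c3]
  · obtain ⟨p, rfl⟩ := h.qM_le hq
    refine ⟨(p, ⟨m % 3, Nat.mod_lt _ (by norm_num)⟩, 1), ?_⟩
    simp only [nf, Fin.val_one, pow_one]
    rw [← pow_eq_pow_mod m h.c3]

theorem Rel.finite (h : Rel i j c u) (hgen : Subgroup.closure {i, j, c, u} = ⊤) : Finite Y :=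
  Finite.of_surjective _ (h.nf_surjective hgen)

theorem Rel.card_le (h : Rel i j c u) (hgen : Subgroup.closure {i, j, c, u} = ⊤) :
    Nat.card Y ≤ 48 := by
  have := Nat.card_le_card_of_surjective _ (h.nf_surjective hgen)
  simpa [Nat.card_eq_fintype_card] using this

end Bound

end Cfsg.Agent.H9.GL23R
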