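import Mathlib
import Cfsg.Agent.H9.DicksonMax2

set_option autoImplicit false

/-! The Borel subgroup of `PSL₂(F)`: order, index, normalizers of `p`-subgroups. -/

namespace Cfsg.Agent.H9.PSL2Borel

open Matrix
open Cfsg.Agent.H9.AutPSL2
open Cfsg.Agent.H9.DicksonMax
open Cfsg.Agent.H9.DicksonUN (conj_u_10)

universe u

variable {F : Type u} [Field F]

local notation "SL2" => Matrix.SpecialLinearGroup (Fin 2) F
local notation "PSL2" => Matrix.ProjectiveSpecialLinearGroup (Fin 2) F

/-- the upper triangular subgroup of `SL₂(F)` -/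
def UTs : Subgroup SL2 where
  carrier := {m | m.1 1 0 = 0}
  one_mem' := by simp
  mul_mem' := by
    intro a b ha hb
    simp only [Set.mem_ofPred_eq] at ha hb ⊢
    rw [mul_10, ha, hb]; ring
  inv_mem' := by
    intro a ha
    simp only [Set.mem_ofPred_eq] at ha ⊢
    rw [inv_10, ha, neg_zero]

theorem mem_UTs (m : SL2) : m ∈ (UTs : Subgroup SL2) ↔ m.1 1 0 = 0 := Iff.rfl

/-- the Borel subgroup of `PSL₂(F)` -/
def Bor : Subgroup PSL2 := (UTs : Subgroup SL2).map (pr : SL2 →* PSL2)

theorem mem_Bor (z : PSL2) : z ∈ (Bor : Subgroup PSL2) ↔ UT z := by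
  constructor
  · rintro ⟨m, hm, rfl⟩
    exact ⟨m, hm, rfl⟩
  · rintro ⟨m, hm, rfl⟩
    exact ⟨m, hm, rfl⟩

theorem center_le_UTs : Subgroup.center SL2 ≤ (UTs : Subgroup SL2) := by
  intro z hz
  rw [mem_center_iff'] at hz
  rw [mem_UTs]
  rcases hz with rfl | rfl <;> simp

/-- an upper triangular matrix -/
def mkUT (e : Fˣ) (b : F) : SL2 := ⟨!![(e : F), b; 0, ((e⁻¹ : Fˣ) : F)], by
  rw [Matrix.det_fin_two_of]; simp⟩

theorem mkUT_mem (e : Fˣ) (b : F) : mkUT e b ∈ (UTs : Subgroup SL2) := by
  rw [mem_UTs]; rfl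

/-- the diagonal entry as a character of the upper triangular group -/
def diagHom : (UTs : Subgroup SL2) →* Fˣ where
  toFun m := Units.mkOfMulEqOne (m.1.1 0 0) (m.1.1 1 1) (by
    have d := det_eq m.1
    have h := (mem_UTs m.1).1 m.2
    rw [h, mul_zero, sub_zero] at d
    exact d)
  map_one' := by
    apply Units.ext
    simp
  map_mul' := by
    intro a b
    apply Units.ext
    have hb := (mem_UTs b.1).1 b.2
    show (a.1 * b.1).1 0 0 = a.1.1 0 0 * b.1.1 0 0
    rw [mul_00, hb]; ring

theorem diagHom_val (m : (UTs : Subgroup SL2)) : ((diagHom m : Fˣ) : F) = m.1.1 0 0 := rfl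

theorem mem_ker_diagHom (m : (UTs : Subgroup SL2)) :
    m ∈ (diagHom : (UTs : Subgroup SL2) →* Fˣ).ker ↔ ∃ b : F, m.1 = u b := by
  rw [MonoidHom.mem_ker]
  constructor
  · intro h
    have h00 : m.1.1 0 0 = 1 := by rw [← diagHom_val, h]; rfl
    have h10 := (mem_UTs m.1).1 m.2
    have d := det_eq m.1
    rw [h10, mul_zero, sub_zero, h00, one_mul] at d
    refine ⟨m.1.1 0 1, ?_⟩
    apply ext4 <;> simp [h00, h10, d]
  · rintro ⟨b, hb⟩
    apply Units.ext
    rw [diagHom_val, hb]
    rfl

/-- the upper triangular group is solvable -/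
theorem isSolvable_UTs : Group.IsSolvable (UTs : Subgroup SL2) := by
  have hk : ∀ a b : (diagHom : (UTs : Subgroup SL2) →* Fˣ).ker, a * b = b * a := by
    intro a b
    obtain ⟨x, hx⟩ := (mem_ker_diagHom a.1).1 a.2
    obtain ⟨y, hy⟩ := (mem_ker_diagHom b.1).1 b.2
    apply Subtype.ext
    apply Subtype.ext
    show a.1.1 * b.1.1 = b.1.1 * a.1.1
    rw [hx, hy, ← u_add, ← u_add, add_comm]
  have : Group.IsSolvable (diagHom : (UTs : Subgroup SL2) →* Fˣ).ker :=
    Group.isSolvable_of_comm hk
  exact Group.isSolvable_of_ker_le_range (diagHom : (UTs : Subgroup SL2) →* Fˣ).ker.subtype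
    (diagHom : (UTs : Subgroup SL2) →* Fˣ) (by
      intro x hx
      exact ⟨⟨x, hx⟩, rfl⟩)

/-- the Borel subgroup is solvable -/
theorem isSolvable_Bor : Group.IsSolvable (Bor : Subgroup PSL2) := by
  have := isSolvable_UTs (F := F)
  exact Group.isSolvable_of_surjective
    (f := ((pr : SL2 →* PSL2).subgroupMap (UTs : Subgroup SL2)))
    ((pr : SL2 →* PSL2).subgroupMap_surjective _)

section card

variable [Fintype F]

/-- the order of the upper triangular group -/
theorem card_UTs : Nat.card (UTs : Subgroup SL2) = Fintype.card F * (Fintype.card F - 1) := by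
  classical
  have e : (UTs : Subgroup SL2) ≃ Fˣ × F :=
    { toFun := fun m => (diagHom m, m.1.1 0 1)
      invFun := fun eb => ⟨mkUT eb.1 eb.2, mkUT_mem eb.1 eb.2⟩
      left_inv := by
        intro m
        apply Subtype.ext
        have h10 := (mem_UTs m.1).1 m.2
        have d := det_eq m.1
        rw [h10, mul_zero, sub_zero] at d
        apply ext4
        · rfl
        · rfl
        · exact h10.symm
        · show (((diagHom m)⁻¹ : Fˣ) : F) = m.1.1 1 1
          rw [Units.val_inv_eq_inv_val, diagHom_val]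
          have h0 : m.1.1 0 0 ≠ 0 := by
            intro h; rw [h, zero_mul] at d; exact zero_ne_one d
          field_simp
          linear_combination -d
      right_inv := by
        rintro ⟨e, b⟩
        refine Prod.ext ?_ rfl
        apply Units.ext
        rfl }
  rw [Nat.card_congr e, Nat.card_prod, Nat.card_units, Nat.card_eq_fintype_card]
  ring

/-- the order of the Borel subgroup -/
theorem card_Bor : Nat.card (Bor : Subgroup PSL2) * Nat.gcd 2 (Fintype.card F - 1) =
    Fintype.card F * (Fintype.card F - 1) := by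
  have h := Cfsg.Agent.H9.DicksonQ.card_map (pr : SL2 →* PSL2) pr_surjective
    (Z := Subgroup.center SL2) (by
      ext z
      rw [MonoidHom.mem_ker]
      unfold pr
      rw [QuotientGroup.mk'_apply, QuotientGroup.eq_one_iff]) (UTs : Subgroup SL2) center_le_UTs
  rw [← card_UTs, ← Cfsg.Agent.H9.DicksonConcl.card_center (F := F)]
  rw [h]
  exact Nat.mul_comm _ _

omit [Field F] in
theorem gcd_pos' : 0 < Nat.gcd 2 (Fintype.card F - 1) := Nat.gcd_pos_of_pos_left _ (by norm_num)

/-- the index of the Borel subgroup -/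
theorem index_Bor : (Bor : Subgroup PSL2).index = Fintype.card F + 1 := by
  have h1 := Cfsg.Agent.H9.DicksonMax.card_PSL2_mul F
  have h2 := card_Bor (F := F)
  have h3 := (Bor : Subgroup PSL2).card_mul_index
  have hq : 1 < Fintype.card F := Fintype.one_lt_card
  have hpos : 0 < Fintype.card F * (Fintype.card F - 1) :=
    Nat.mul_pos (by omega) (by omega)
  have e : Fintype.card F ^ 2 - 1 = (Fintype.card F - 1) * (Fintype.card F + 1) := by
    obtain ⟨r, hr⟩ : ∃ r, Fintype.card F = r + 1 := ⟨Fintype.card F - 1, by omega⟩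
    rw [hr, Nat.add_sub_cancel]
    have : (r + 1) ^ 2 = r * (r + 1 + 1) + 1 := by ring
    rw [this, Nat.add_sub_cancel]
  have h4 : (Fintype.card F * (Fintype.card F - 1)) * (Bor : Subgroup PSL2).index =
      (Fintype.card F * (Fintype.card F - 1)) * (Fintype.card F + 1) := by
    calc (Fintype.card F * (Fintype.card F - 1)) * (Bor : Subgroup PSL2).index
        = (Nat.card (Bor : Subgroup PSL2) * (Bor : Subgroup PSL2).index) *
            Nat.gcd 2 (Fintype.card F - 1) := by rw [← h2]; ring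
      _ = Fintype.card F * (Fintype.card F ^ 2 - 1) := by rw [h3, h1]
      _ = _ := by rw [e]; ring
  exact Nat.eq_of_mul_eq_mul_left hpos h4

end card

section sylow

variable [Fintype F]

omit [Fintype F] in
/-- an element conjugating a nontrivial unipotent element to a unipotent element is upper
triangular -/
theorem UT_of_conj_u (w : PSL2) (a b : F) (ha : a ≠ 0)
    (h : w * pr (u a) * w⁻¹ = pr (u b)) : UT w := by
  obtain ⟨m, rfl⟩ := pr_surjective w
  refine ⟨m, ?_, rfl⟩
  rw [← map_inv, ← map_mul, ← map_mul, pr_eq_iff] at h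
  have h10 : (m * u a * m⁻¹).1 1 0 = 0 := by
    rcases h with hb | hb
    · rw [hb]; simp
    · rw [hb]; simp
  rw [conj_u_10] at h10
  have : (m.1 1 0) ^ 2 = 0 := by
    have h2 : (m.1 1 0) ^ 2 * a = 0 := by linear_combination -h10
    rcases mul_eq_zero.1 h2 with h3 | h3
    · exact h3
    · exact (ha h3).elim
  exact pow_eq_zero_iff (two_ne_zero) |>.1 this

/-- a Sylow `p`-subgroup is conjugate to the standard unipotent subgroup -/
theorem exists_conj_sylow (p : ℕ) [Fact p.Prime] [CharP F p] (P : Sylow p PSL2) :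
    ∃ g : PSL2, ∀ a : PSL2, a ∈ (P : Subgroup PSL2) ↔
      g⁻¹ * a * g ∈ (uHom : Multiplicative F →* PSL2).range := by
  have hfac := factorization_card (F := F) p
  have hU' : Nat.card (uHom : Multiplicative F →* PSL2).range
      = p ^ (Nat.card PSL2).factorization p := by rw [card_uHom_range, ← hfac]
  obtain ⟨g, hg⟩ := MulAction.exists_smul_eq PSL2 (Sylow.ofCard _ hU') P
  have hg' := congrArg (fun S : Sylow p PSL2 => (S : Subgroup PSL2)) hg
  simp only [Sylow.coe_subgroup_smul, Sylow.coe_ofCard] at hg'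
  refine ⟨g, fun a => ?_⟩
  rw [← hg', Subgroup.mem_pointwise_smul_iff_inv_smul_mem, MulAut.smul_def, ← map_inv,
    MulAut.conj_apply, inv_inv]

/-- the conjugate of the Borel subgroup by `g` -/
def BorC (g : PSL2) : Subgroup PSL2 := (Bor : Subgroup PSL2).map (MulAut.conj g).toMonoidHom

omit [Fintype F] in
theorem mem_BorC (g z : PSL2) : z ∈ BorC g ↔ UT (g⁻¹ * z * g) := by
  unfold BorC
  rw [← mem_Bor]
  constructor
  · rintro ⟨b, hb, rfl⟩
    have e : g⁻¹ * (g * b * g⁻¹) * g = b := by group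
    show g⁻¹ * (g * b * g⁻¹) * g ∈ _
    rw [e]
    exact hb
  · intro h
    refine ⟨g⁻¹ * z * g, h, ?_⟩
    show g * (g⁻¹ * z * g) * g⁻¹ = z
    group

omit [Fintype F] in
theorem card_BorC (g : PSL2) : Nat.card (BorC g) = Nat.card (Bor : Subgroup PSL2) := by
  unfold BorC
  exact (Nat.card_congr ((Bor : Subgroup PSL2).equivMapOfInjective (MulAut.conj g).toMonoidHom
    (MulAut.conj g).injective).toEquiv).symm

omit [Fintype F] in
theorem isSolvable_BorC (g : PSL2) : Group.IsSolvable (BorC g) := by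
  have := isSolvable_Bor (F := F)
  unfold BorC
  exact Group.isSolvable_of_surjective
    (f := ((MulAut.conj g).toMonoidHom.subgroupMap (Bor : Subgroup PSL2)))
    ((MulAut.conj g).toMonoidHom.subgroupMap_surjective _)

/-- the normalizer of a nontrivial `p`-subgroup lies in a conjugate of the Borel subgroup -/
theorem normalizer_le_BorC (p : ℕ) [Fact p.Prime] [CharP F p] (Q : Subgroup PSL2)
    (hQ : IsPGroup p Q) (hne : Q ≠ ⊥) :
    ∃ g : PSL2, Subgroup.normalizer (Q : Set PSL2) ≤ BorC g := by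
  obtain ⟨P, hP⟩ := hQ.exists_le_sylow
  obtain ⟨g, hg⟩ := exists_conj_sylow p P
  refine ⟨g, fun z hz => ?_⟩
  rw [mem_BorC]
  obtain ⟨a, haQ, ha1⟩ : ∃ a ∈ Q, a ≠ 1 := by
    by_contra hcon
    push Not at hcon
    apply hne
    rw [eq_bot_iff]
    intro a ha
    rw [Subgroup.mem_bot]
    exact hcon a ha
  obtain ⟨α, hα⟩ := (mem_uHom_range _).1 ((hg a).1 (hP haQ))
  have hza : z * a * z⁻¹ ∈ Q := (Subgroup.mem_normalizer_iff.1 hz a).1 haQ
  obtain ⟨β, hβ⟩ := (mem_uHom_range _).1 ((hg _).1 (hP hza))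
  have hα0 : α ≠ 0 := by
    rintro rfl
    apply ha1
    have : g⁻¹ * a * g = 1 := by rw [hα, u_zero, map_one]
    calc a = g * (g⁻¹ * a * g) * g⁻¹ := by group
      _ = 1 := by rw [this]; group
  apply UT_of_conj_u _ α β hα0
  rw [← hα, ← hβ]
  group

/-- the normalizer of a Sylow `p`-subgroup lies in a conjugate of the Borel subgroup -/
theorem sylow_normalizer_le_BorC (p : ℕ) [Fact p.Prime] [CharP F p] (P : Sylow p PSL2) :
    ∃ g : PSL2, Subgroup.normalizer ((P : Subgroup PSL2) : Set PSL2) ≤ BorC g := by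
  obtain ⟨g, hg⟩ := exists_conj_UT p P
  exact ⟨g, fun z hz => (mem_BorC g z).2 (hg z hz)⟩

end sylow

end Cfsg.Agent.H9.PSL2Borel
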