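import Mathlib
import Cfsg.Agent.Lib.Helper4.Simple

set_option autoImplicit false

/-! General facts on maximal subgroups of finite simple groups. -/

namespace Cfsg.Agent.H9.PSL2MaxGen

open Subgroup

section general

variable {G : Type*} [Group G] [Finite G]

/-- a coatom contained in a proper subgroup equals it -/
theorem eq_of_coatom_le (M N : Subgroup G) (hM : IsCoatom M) (hle : M ≤ N) (hN : N ≠ ⊤) :
    N = M := by
  by_contra hne
  have hlt : M < N := lt_of_le_of_ne hle (fun h => hne h.symm)
  exact hN (hM.2 N hlt)

/-- a maximal subgroup with a non-trivial subgroup normalized by it is the normalizer, in a simple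
group -/
theorem normalizer_eq_of_coatom [IsSimpleGroup G] (M : Subgroup G) (hM : IsCoatom M)
    (H : Subgroup G) (hH : H ≠ ⊥) (hHM : H ≤ M) (hn : M ≤ normalizer (H : Set G)) :
    normalizer (H : Set G) = M := by
  apply eq_of_coatom_le M _ hM hn
  intro htop
  have hnorm : H.Normal := normalizer_eq_top_iff.1 htop
  rcases hnorm.eq_bot_or_eq_top with h | h
  · exact hH h
  · apply hM.1
    rw [eq_top_iff, ← h]
    exact hHM

/-- a non-abelian finite simple group has no abelian maximal subgroup -/
theorem no_abelian_maximal [IsSimpleGroup G] (hna : ∃ a b : G, a * b ≠ b * a)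
    (M : Subgroup G) (hM : IsCoatom M) (hab : ∀ a ∈ M, ∀ b ∈ M, a * b = b * a) : False := by
  classical
  -- `M` is not trivial
  have hMbot : M ≠ ⊥ := by
    rintro rfl
    obtain ⟨a, b, hab'⟩ := hna
    have ha1 : a ≠ 1 := by
      rintro rfl
      exact hab' (by rw [one_mul, mul_one])
    have hz : zpowers a = ⊤ := by
      apply hM.2
      rw [bot_lt_iff_ne_bot]
      intro h
      apply ha1
      have : a ∈ zpowers a := mem_zpowers a
      rw [h, mem_bot] at this
      exact this
    have hb : b ∈ zpowers a := by rw [hz]; trivial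
    obtain ⟨k, rfl⟩ := mem_zpowers_iff.1 hb
    apply hab'
    rw [← zpow_one_add, ← zpow_add_one, add_comm]
  have hcard : Nat.card M ≠ 1 := by
    intro h
    exact hMbot (card_eq_one.1 h)
  obtain ⟨r, hr, hrM⟩ := Nat.exists_prime_and_dvd hcard
  haveI : Fact r.Prime := ⟨hr⟩
  obtain ⟨R⟩ : Nonempty (Sylow r M) := inferInstance
  set H : Subgroup G := (R : Subgroup M).map M.subtype with hHdef
  have hHM : H ≤ M := by
    rintro _ ⟨x, -, rfl⟩
    exact x.2
  have hRcard : Nat.card (R : Subgroup M) = r ^ (Nat.card M).factorization r :=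
    Sylow.card_eq_multiplicity R
  have hHcard : Nat.card H = r ^ (Nat.card M).factorization r := by
    rw [← hRcard]
    exact Nat.card_congr ((R : Subgroup M).equivMapOfInjective M.subtype
      M.subtype_injective).symm.toEquiv
  have hv : 1 ≤ (Nat.card M).factorization r :=
    (hr.dvd_iff_one_le_factorization Nat.card_pos.ne').1 hrM
  have hHbot : H ≠ ⊥ := by
    intro h
    rw [h, card_bot] at hHcard
    have h1 : r ^ 1 ≤ r ^ (Nat.card M).factorization r := Nat.pow_le_pow_right hr.pos hv
    rw [pow_one] at h1
    have := hr.two_le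
    omega
  have hMN : M ≤ normalizer (H : Set G) := by
    intro m hm
    rw [mem_normalizer_iff]
    intro x
    constructor
    · intro hx
      have := hab m hm x (hHM hx)
      have e : m * x * m⁻¹ = x := by rw [this]; group
      rw [e]; exact hx
    · intro hx
      have h1 := hab m hm _ (hHM hx)
      have e : x = m * x * m⁻¹ := by
        calc x = m⁻¹ * ((m * x * m⁻¹) * m) := by group
          _ = m⁻¹ * (m * (m * x * m⁻¹)) := by rw [h1]
          _ = m * x * m⁻¹ := by group
      rw [e]; exact hx
  have hN : normalizer (H : Set G) = M := normalizer_eq_of_coatom M hM H hHbot hHM hMN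
  -- `H` is a Sylow subgroup of `G`
  have hmod := Sylow.card_quotient_normalizer_modEq_card_quotient hHcard
  have hmod' : H.relIndex (normalizer (H : Set G)) ≡ H.index [MOD r] := hmod
  rw [hN] at hmod'
  have hrel : H.relIndex M = (R : Subgroup M).index := by
    unfold Subgroup.relIndex Subgroup.subgroupOf
    rw [hHdef, comap_map_eq_self_of_injective M.subtype_injective]
  rw [hrel] at hmod'
  have hnd : ¬ r ∣ H.index := by
    intro h
    have := (Nat.ModEq.dvd_iff hmod' (dvd_refl r)).2 h
    exact R.not_dvd_index this
  have hHp : IsPGroup r H := IsPGroup.of_card hHcard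
  set P : Sylow r G := hHp.toSylow hnd with hP
  have hPH : (P : Subgroup G) = H := rfl
  apply Cfsg.Agent.Lib.Helper4.Simple.false_of_simple_of_normalizer_le_centralizer P
  · rw [hPH, hN]
    intro m hm
    rw [mem_centralizer_iff]
    intro x hx
    exact (hab m hm x (hHM hx)).symm
  · rw [hPH]
    intro h
    exact hHbot (card_eq_one.1 h)
  · rw [hPH]
    intro h
    apply hM.1
    rw [eq_top_iff]
    have : H = ⊤ := eq_top_of_card_eq H h
    rw [← this]
    exact hHM

end general

end Cfsg.Agent.H9.PSL2MaxGen
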