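import Mathlib
import Cfsg.Agent.H9.PSL2Borel

set_option autoImplicit false

/-! Tori of `SL₂(F)`: exact orders of centralizers of semisimple elements, and the elements
inverting them. -/

namespace Cfsg.Agent.H9.PSL2Tori

open Matrix
open Cfsg.Agent.H9.AutPSL2
open Cfsg.Agent.H9.DicksonSS
open Cfsg.Agent.H9.DicksonUN (dg dgHom dgHom_apply dg_injective commute_dg_iff eq_dg exists_conj_dg
  dg_00 dg_01 dg_10 dg_11 trace_of_pow_p)

universe u

variable {F : Type u} [Field F]

local notation "SL2" => Matrix.SpecialLinearGroup (Fin 2) F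
local notation "PSL2" => Matrix.ProjectiveSpecialLinearGroup (Fin 2) F

/-- the torus of `x`: its centralizer -/
def Tor (x : SL2) : Subgroup SL2 := Subgroup.centralizer {x}

theorem mem_Tor (x y : SL2) : y ∈ Tor x ↔ y * x = x * y := by
  unfold Tor
  rw [Subgroup.mem_centralizer_iff]
  constructor
  · intro h; exact (h x rfl).symm
  · intro h z hz
    rw [Set.mem_singleton_iff] at hz
    rw [hz, h]

/-- the elements centralizing or inverting `x` -/
def Nx (x : SL2) : Subgroup SL2 where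
  carrier := {g | g * x * g⁻¹ = x ∨ g * x * g⁻¹ = x⁻¹}
  one_mem' := by left; simp
  mul_mem' := by
    rintro a b (ha | ha) (hb | hb)
    · left
      calc a * b * x * (a * b)⁻¹ = a * (b * x * b⁻¹) * a⁻¹ := by group
        _ = x := by rw [hb, ha]
    · right
      calc a * b * x * (a * b)⁻¹ = a * (b * x * b⁻¹) * a⁻¹ := by group
        _ = (a * x * a⁻¹)⁻¹ := by rw [hb]; group
        _ = x⁻¹ := by rw [ha]
    · right
      calc a * b * x * (a * b)⁻¹ = a * (b * x * b⁻¹) * a⁻¹ := by group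
        _ = x⁻¹ := by rw [hb, ha]
    · left
      calc a * b * x * (a * b)⁻¹ = a * (b * x * b⁻¹) * a⁻¹ := by group
        _ = (a * x * a⁻¹)⁻¹ := by rw [hb]; group
        _ = x := by rw [ha, inv_inv]
  inv_mem' := by
    rintro a (ha | ha)
    · left
      calc a⁻¹ * x * a⁻¹⁻¹ = a⁻¹ * (a * x * a⁻¹) * a := by rw [ha, inv_inv]
        _ = x := by group
    · right
      calc a⁻¹ * x * a⁻¹⁻¹ = (a⁻¹ * (a * x * a⁻¹) * a)⁻¹ := by rw [ha]; group
        _ = x⁻¹ := by group

theorem mem_Nx (x g : SL2) : g ∈ Nx x ↔ g * x * g⁻¹ = x ∨ g * x * g⁻¹ = x⁻¹ := Iff.rfl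

theorem Tor_le_Nx (x : SL2) : Tor x ≤ Nx x := by
  intro y hy
  rw [mem_Tor] at hy
  left
  rw [hy]; group

theorem center_le_Tor (x : SL2) : Subgroup.center SL2 ≤ Tor x := by
  intro z hz
  rw [mem_Tor]
  exact (Subgroup.mem_center_iff.1 hz x).symm

/-- conjugation of tori -/
theorem mem_Tor_conj (x g y : SL2) : y ∈ Tor (g * x * g⁻¹) ↔ g⁻¹ * y * g ∈ Tor x := by
  rw [mem_Tor, mem_Tor]
  constructor
  · intro h
    calc g⁻¹ * y * g * x = g⁻¹ * (y * (g * x * g⁻¹)) * g := by group
      _ = g⁻¹ * ((g * x * g⁻¹) * y) * g := by rw [h]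
      _ = x * (g⁻¹ * y * g) := by group
  · intro h
    calc y * (g * x * g⁻¹) = g * ((g⁻¹ * y * g) * x) * g⁻¹ := by group
      _ = g * (x * (g⁻¹ * y * g)) * g⁻¹ := by rw [h]
      _ = g * x * g⁻¹ * y := by group

theorem card_Tor_conj (x g : SL2) : Nat.card (Tor (g * x * g⁻¹)) = Nat.card (Tor x) := by
  apply Nat.card_congr
  refine ⟨fun y => ⟨g⁻¹ * y.1 * g, (mem_Tor_conj x g y.1).1 y.2⟩,
    fun y => ⟨g * y.1 * g⁻¹, (mem_Tor_conj x g _).2 (by convert y.2 using 1; group)⟩, ?_, ?_⟩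
  · intro y; apply Subtype.ext; show g * (g⁻¹ * y.1 * g) * g⁻¹ = y.1; group
  · intro y; apply Subtype.ext; show g⁻¹ * (g * y.1 * g⁻¹) * g = y.1; group

/-- an inverting element transported by conjugation -/
theorem inverts_conj (x g w : SL2) (hw : w * (g * x * g⁻¹) * w⁻¹ = (g * x * g⁻¹)⁻¹) :
    (g⁻¹ * w * g) * x * (g⁻¹ * w * g)⁻¹ = x⁻¹ := by
  calc (g⁻¹ * w * g) * x * (g⁻¹ * w * g)⁻¹ = g⁻¹ * (w * (g * x * g⁻¹) * w⁻¹) * g := by group
    _ = g⁻¹ * (g * x * g⁻¹)⁻¹ * g := by rw [hw]
    _ = x⁻¹ := by group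

/-- the Weyl element -/
def wE : SL2 := ⟨!![0, 1; -1, 0], by rw [Matrix.det_fin_two_of]; ring⟩

@[simp] theorem wE_00 : (wE : SL2).1 0 0 = 0 := rfl
@[simp] theorem wE_01 : (wE : SL2).1 0 1 = 1 := rfl
@[simp] theorem wE_10 : (wE : SL2).1 1 0 = -1 := rfl
@[simp] theorem wE_11 : (wE : SL2).1 1 1 = 0 := rfl

theorem wE_inverts (e : Fˣ) : wE * dg e * wE⁻¹ = (dg e)⁻¹ := by
  apply ext4 <;> simp [mul_00, mul_01, mul_10, mul_11, inv_00, inv_01, inv_10, inv_11]

/-- completing a nonzero vector to a matrix of determinant one -/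
theorem exists_conj_of_eigen (x : SL2) (v0 v1 lam : F) (hv : v0 ≠ 0 ∨ v1 ≠ 0)
    (h0 : x.1 0 0 * v0 + x.1 0 1 * v1 = lam * v0)
    (h1 : x.1 1 0 * v0 + x.1 1 1 * v1 = lam * v1) :
    ∃ g : SL2, (g * x * g⁻¹).1 1 0 = 0 ∧ (g * x * g⁻¹).1 0 0 = lam := by
  obtain ⟨w0, w1, hw⟩ : ∃ w0 w1 : F, v0 * w1 - w0 * v1 = 1 := by
    by_cases h : v0 = 0
    · have hv1 : v1 ≠ 0 := by
        rcases hv with h' | h'
        · exact (h' h).elim
        · exact h'
      refine ⟨-v1⁻¹, 0, ?_⟩
      rw [h]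
      field_simp
      ring
    · refine ⟨0, v0⁻¹, ?_⟩
      field_simp
      ring
  -- `g = h⁻¹`, `h = [v | w]`
  let g : SL2 := ⟨!![w1, -w0; -v1, v0], by rw [Matrix.det_fin_two_of]; linear_combination hw⟩
  refine ⟨g, ?_, ?_⟩
  · simp only [mul_10, mul_11, inv_00, inv_10]
    show ((-v1) * x.1 0 0 + v0 * x.1 1 0) * v0 + ((-v1) * x.1 0 1 + v0 * x.1 1 1) * (- -v1) = 0
    linear_combination (-v1) * h0 + v0 * h1
  · simp only [mul_00, mul_01, inv_00, inv_10]
    show (w1 * x.1 0 0 + (-w0) * x.1 1 0) * v0 + (w1 * x.1 0 1 + (-w0) * x.1 1 1) * (- -v1) = lam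
    linear_combination w1 * h0 - w0 * h1 + lam * hw

/-- a semisimple element with an eigenvalue in `F` is conjugate to a diagonal matrix -/
theorem exists_conj_dg_of_root (x : SL2) (hx : NonScalar x) (hss : x.1.trace ^ 2 ≠ 4) (lam : F)
    (hroot : lam ^ 2 - x.1.trace * lam + 1 = 0) :
    ∃ (g : SL2) (e : Fˣ), ((e : F)) ^ 2 ≠ 1 ∧ g * x * g⁻¹ = dg e := by
  have hlam0 : lam ≠ 0 := by
    rintro rfl
    have : (1 : F) = 0 := by linear_combination hroot
    exact one_ne_zero this
  have hlam2 : lam ^ 2 ≠ 1 := by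
    intro h
    apply hss
    have h2 : x.1.trace * lam = 2 := by linear_combination -hroot + h
    calc x.1.trace ^ 2 = (x.1.trace * lam) ^ 2 := by rw [mul_pow, h, mul_one]
      _ = 4 := by rw [h2]; norm_num
  have htr : x.1.trace = x.1 0 0 + x.1 1 1 := Matrix.trace_fin_two _
  have hdet := det_eq x
  rw [htr] at hroot
  -- an eigenvector
  obtain ⟨v0, v1, hv, h0, h1⟩ : ∃ v0 v1 : F, (v0 ≠ 0 ∨ v1 ≠ 0) ∧
      x.1 0 0 * v0 + x.1 0 1 * v1 = lam * v0 ∧ x.1 1 0 * v0 + x.1 1 1 * v1 = lam * v1 := by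
    by_cases hb : x.1 0 1 = 0 ∧ lam - x.1 0 0 = 0
    · by_cases hc : lam - x.1 1 1 = 0 ∧ x.1 1 0 = 0
      · exfalso
        apply hx
        refine ⟨lam, ?_⟩
        ext i j
        fin_cases i <;> fin_cases j
        · show x.1 0 0 = _; simp; linear_combination -hb.2
        · show x.1 0 1 = _; simp; exact hb.1
        · show x.1 1 0 = _; simp; exact hc.2
        · show x.1 1 1 = _; simp; linear_combination -hc.1
      · refine ⟨lam - x.1 1 1, x.1 1 0, ?_, ?_, ?_⟩
        · by_contra hcon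
          push Not at hcon
          exact hc hcon
        · linear_combination -hroot - hdet
        · ring
    · refine ⟨x.1 0 1, lam - x.1 0 0, ?_, ?_, ?_⟩
      · by_contra hcon
        push Not at hcon
        exact hb hcon
      · ring
      · linear_combination -hroot - hdet
  obtain ⟨g, hg10, hg00⟩ := exists_conj_of_eigen x v0 v1 lam hv h0 h1
  obtain ⟨r, hr⟩ := exists_conj_dg (g * x * g⁻¹) hg10 (Units.mk0 lam hlam0) hg00 hlam2
  refine ⟨u r * g, Units.mk0 lam hlam0, hlam2, ?_⟩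
  rw [← hr]
  group

section fin

variable [Fintype F]

omit [Fintype F] in
/-- the diagonal torus -/
theorem Tor_dg (e : Fˣ) (he : ((e : F)) ^ 2 ≠ 1) :
    Tor (dg e) = (dgHom : Fˣ →* SL2).range := by
  ext y
  rw [mem_Tor, commute_dg_iff e he, MonoidHom.mem_range]
  constructor
  · rintro ⟨h01, h10⟩
    have h00 : y.1 0 0 ≠ 0 := by
      intro h
      have d := det_eq y
      rw [h, h01] at d
      simp at d
    refine ⟨Units.mk0 _ h00, ?_⟩
    rw [dgHom_apply]
    exact (eq_dg y h01 h10 (Units.mk0 _ h00) rfl).symm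
  · rintro ⟨e', rfl⟩
    rw [dgHom_apply]
    exact ⟨rfl, rfl⟩

theorem card_Tor_dg (e : Fˣ) (he : ((e : F)) ^ 2 ≠ 1) :
    Nat.card (Tor (dg e)) = Fintype.card F - 1 := by
  rw [Tor_dg e he, ← Nat.card_eq_fintype_card, ← Nat.card_units F]
  exact (Nat.card_congr (MonoidHom.ofInjective dg_injective).toEquiv).symm

/-- the order of a split torus -/
theorem card_Tor_split (x : SL2) (hx : NonScalar x) (hss : x.1.trace ^ 2 ≠ 4) (lam : F)
    (hroot : lam ^ 2 - x.1.trace * lam + 1 = 0) : Nat.card (Tor x) = Fintype.card F - 1 := by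
  obtain ⟨g, e, he, hg⟩ := exists_conj_dg_of_root x hx hss lam hroot
  rw [← card_Tor_conj x g, hg, card_Tor_dg e he]

omit [Fintype F] in
/-- a split semisimple element is inverted by some element -/
theorem exists_inverts_split (x : SL2) (hx : NonScalar x) (hss : x.1.trace ^ 2 ≠ 4) (lam : F)
    (hroot : lam ^ 2 - x.1.trace * lam + 1 = 0) : ∃ w : SL2, w * x * w⁻¹ = x⁻¹ := by
  obtain ⟨g, e, he, hg⟩ := exists_conj_dg_of_root x hx hss lam hroot
  refine ⟨g⁻¹ * wE * g, inverts_conj x g wE ?_⟩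
  rw [hg]
  exact wE_inverts e

/-- the number of elements of given trace with irreducible characteristic polynomial -/
theorem card_traceSet_le (τ : F) (hirr : ∀ a : F, a ^ 2 - τ * a + 1 ≠ 0) :
    Nat.card {m : SL2 // m.1.trace = τ} ≤ Fintype.card F * (Fintype.card F - 1) := by
  have h01 : ∀ m : {m : SL2 // m.1.trace = τ}, m.1.1 0 1 ≠ 0 := by
    intro m h
    have d := det_eq m.1
    have t := m.2
    rw [Matrix.trace_fin_two] at t
    rw [h, zero_mul, sub_zero] at d
    apply hirr (m.1.1 0 0)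
    linear_combination (m.1.1 0 0) * t - d
  let f : {m : SL2 // m.1.trace = τ} → F × Fˣ := fun m => (m.1.1 0 0, Units.mk0 _ (h01 m))
  have hf : Function.Injective f := by
    intro m m' h
    have e00 : m.1.1 0 0 = m'.1.1 0 0 := congrArg Prod.fst h
    have e01 : m.1.1 0 1 = m'.1.1 0 1 := congrArg (fun z : F × Fˣ => (z.2 : F)) h
    have t := m.2
    have t' := m'.2
    rw [Matrix.trace_fin_two] at t t'
    have e11 : m.1.1 1 1 = m'.1.1 1 1 := by linear_combination t - t' - e00
    have d := det_eq m.1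
    have d' := det_eq m'.1
    have e10 : m.1.1 1 0 = m'.1.1 1 0 := by
      have : m.1.1 0 1 * (m.1.1 1 0 - m'.1.1 1 0) = 0 := by
        rw [e00, e11] at d
        rw [← e01] at d'
        linear_combination d' - d
      rcases mul_eq_zero.1 this with h0 | h0
      · exact absurd h0 (h01 m)
      · linear_combination h0
    apply Subtype.ext
    exact ext4 _ _ e00 e01 e10 e11
  have := Nat.card_le_card_of_injective f hf
  rw [Nat.card_prod, Nat.card_units] at this
  rw [← Nat.card_eq_fintype_card]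
  exact this

omit [Fintype F] in
/-- the class of `x` injects into its trace set -/
theorem card_SL2_le [Finite F] (x : SL2) :
    Nat.card SL2 ≤ Nat.card {m : SL2 // m.1.trace = x.1.trace} * Nat.card (Tor x) := by
  rw [Subgroup.card_eq_card_quotient_mul_card_subgroup (Tor x)]
  apply Nat.mul_le_mul_right
  let f : SL2 ⧸ Tor x → {m : SL2 // m.1.trace = x.1.trace} :=
    fun c => Quotient.liftOn' c (fun g => ⟨g * x * g⁻¹, trace_conj g x⟩) (by
      intro a b hab
      rw [QuotientGroup.leftRel_apply, mem_Tor] at hab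
      apply Subtype.ext
      show a * x * a⁻¹ = b * x * b⁻¹
      calc a * x * a⁻¹ = a * (x * (a⁻¹ * b)) * b⁻¹ := by group
        _ = a * ((a⁻¹ * b) * x) * b⁻¹ := by rw [hab]
        _ = b * x * b⁻¹ := by group)
  apply Nat.card_le_card_of_injective f
  intro c c'
  refine Quotient.inductionOn₂' c c' ?_
  intro a b hab
  have h : a * x * a⁻¹ = b * x * b⁻¹ := congrArg Subtype.val hab
  apply Quotient.sound'
  rw [QuotientGroup.leftRel_apply, mem_Tor]
  calc a⁻¹ * b * x = a⁻¹ * (b * x * b⁻¹) * b := by group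
    _ = a⁻¹ * (a * x * a⁻¹) * b := by rw [h]
    _ = x * (a⁻¹ * b) := by group

end fin

section fin2

variable [Fintype F]

/-- the order of a torus divides `q ± 1` -/
theorem card_Tor_dvd (x : SL2) (hx : NonScalar x) (hss : x.1.trace ^ 2 ≠ 4) :
    Nat.card (Tor x) ∣ Fintype.card F - 1 ∨ Nat.card (Tor x) ∣ Fintype.card F + 1 := by
  obtain ⟨p, hpF⟩ := CharP.exists F
  have hpp : p.Prime := CharP.char_is_prime F p
  have : Fact p.Prime := ⟨hpp⟩
  have hcyc : IsCyclic (Tor x) := isCyclic_centralizer hx hss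
  obtain ⟨c, hc⟩ := IsCyclic.exists_generator (α := Tor x)
  have hord : orderOf c = Nat.card (Tor x) := orderOf_eq_card_of_forall_mem_zpowers hc
  have hord' : orderOf c.1 = Nat.card (Tor x) := by
    rw [← hord]
    exact orderOf_injective (Tor x).subtype Subtype.val_injective c
  rw [← hord']
  apply Cfsg.Agent.S0800.result rfl p
  rw [hord']
  rw [Nat.coprime_comm, Nat.Prime.coprime_iff_not_dvd hpp]
  intro hdvd
  obtain ⟨y, hy⟩ := exists_prime_orderOf_dvd_card' p hdvd
  have hyp : y.1 ^ p = 1 := by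
    have : y ^ p = 1 := by rw [← hy]; exact pow_orderOf_eq_one y
    have := congrArg (fun z : Tor x => z.1) this
    simpa using this
  have htr := trace_of_pow_p p y.1 1 (by rw [pow_one]; exact hyp)
  have hcomm : y.1 * x = x * y.1 := (mem_Tor x y.1).1 y.2
  have hy1 : y.1 = 1 := by
    rcases central_of_trace hx hss y.1 hcomm (by rw [htr]; norm_num) with h | h
    · exact h
    · rw [h] at hyp
      rcases Nat.Prime.eq_two_or_odd' hpp with h2 | hodd
      · rw [h]
        have h2F : (2 : F) = 0 := by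
          have := CharP.cast_eq_zero F p
          rw [h2] at this
          exact_mod_cast this
        have hm : (-1 : F) = 1 := by linear_combination -h2F
        apply ext4 <;> simp [hm]
      · rw [hodd.neg_one_pow] at hyp
        rw [h, hyp]
  have : y = 1 := Subtype.ext hy1
  rw [this, orderOf_one] at hy
  exact hpp.one_lt.ne hy

theorem q_sq_sub_one : Fintype.card F ^ 2 - 1 = (Fintype.card F - 1) * (Fintype.card F + 1) := by
  have hq : 1 < Fintype.card F := Fintype.one_lt_card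
  obtain ⟨r, hr⟩ : ∃ r, Fintype.card F = r + 1 := ⟨Fintype.card F - 1, by omega⟩
  rw [hr, Nat.add_sub_cancel]
  have : (r + 1) ^ 2 = r * (r + 1 + 1) + 1 := by ring
  rw [this, Nat.add_sub_cancel]

/-- the order of a nonsplit torus -/
theorem card_Tor_nonsplit (x : SL2) (hx : NonScalar x) (hss : x.1.trace ^ 2 ≠ 4)
    (hirr : ∀ a : F, a ^ 2 - x.1.trace * a + 1 ≠ 0) : Nat.card (Tor x) = Fintype.card F + 1 := by
  have hq : 1 < Fintype.card F := Fintype.one_lt_card
  have h1 := card_SL2_le x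
  have h2 := card_traceSet_le x.1.trace hirr
  rw [Cfsg.Agent.H9.SubfieldPSL2.card_SL2_all, q_sq_sub_one] at h1
  have hpos : 0 < Fintype.card F * (Fintype.card F - 1) := Nat.mul_pos (by omega) (by omega)
  have h3 : Fintype.card F * (Fintype.card F - 1) * (Fintype.card F + 1) ≤
      Fintype.card F * (Fintype.card F - 1) * Nat.card (Tor x) := by
    calc Fintype.card F * (Fintype.card F - 1) * (Fintype.card F + 1)
        = Fintype.card F * ((Fintype.card F - 1) * (Fintype.card F + 1)) := by ring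
      _ ≤ _ := h1
      _ ≤ _ := Nat.mul_le_mul_right _ h2
  have h4 : Fintype.card F + 1 ≤ Nat.card (Tor x) := Nat.le_of_mul_le_mul_left h3 hpos
  rcases card_Tor_dvd x hx hss with h | h
  · have := Nat.le_of_dvd (by omega) h
    omega
  · have := Nat.le_of_dvd (by omega) h
    omega

/-- a nonsplit semisimple element is inverted by some element -/
theorem exists_inverts_nonsplit (x : SL2) (hx : NonScalar x) (hss : x.1.trace ^ 2 ≠ 4)
    (hirr : ∀ a : F, a ^ 2 - x.1.trace * a + 1 ≠ 0) : ∃ w : SL2, w * x * w⁻¹ = x⁻¹ := by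
  classical
  have hq : 1 < Fintype.card F := Fintype.one_lt_card
  have hT := card_Tor_nonsplit x hx hss hirr
  have h2 := card_traceSet_le x.1.trace hirr
  have hquot : Nat.card (SL2 ⧸ Tor x) = Fintype.card F * (Fintype.card F - 1) := by
    have := Subgroup.card_eq_card_quotient_mul_card_subgroup (Tor x)
    rw [Cfsg.Agent.H9.SubfieldPSL2.card_SL2_all, q_sq_sub_one, hT] at this
    have hpos : 0 < Fintype.card F + 1 := by omega
    apply Nat.eq_of_mul_eq_mul_right hpos
    rw [← this]; ring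
  let f : SL2 ⧸ Tor x → {m : SL2 // m.1.trace = x.1.trace} :=
    fun c => Quotient.liftOn' c (fun g => ⟨g * x * g⁻¹, trace_conj g x⟩) (by
      intro a b hab
      rw [QuotientGroup.leftRel_apply, mem_Tor] at hab
      apply Subtype.ext
      show a * x * a⁻¹ = b * x * b⁻¹
      calc a * x * a⁻¹ = a * (x * (a⁻¹ * b)) * b⁻¹ := by group
        _ = a * ((a⁻¹ * b) * x) * b⁻¹ := by rw [hab]
        _ = b * x * b⁻¹ := by group)
  have hf : Function.Injective f := by
    intro c c'
    refine Quotient.inductionOn₂' c c' ?_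
    intro a b hab
    have h : a * x * a⁻¹ = b * x * b⁻¹ := congrArg Subtype.val hab
    apply Quotient.sound'
    rw [QuotientGroup.leftRel_apply, mem_Tor]
    calc a⁻¹ * b * x = a⁻¹ * (b * x * b⁻¹) * b := by group
      _ = a⁻¹ * (a * x * a⁻¹) * b := by rw [h]
      _ = x * (a⁻¹ * b) := by group
  have hbij : Function.Bijective f :=
    Function.Injective.bijective_of_nat_card_le hf (by rw [hquot]; exact h2)
  have htr : (x⁻¹).1.trace = x.1.trace := by
    rw [Matrix.trace_fin_two, Matrix.trace_fin_two, inv_00, inv_11]; ring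
  obtain ⟨c, hc⟩ := hbij.2 ⟨x⁻¹, htr⟩
  obtain ⟨g, rfl⟩ := QuotientGroup.mk_surjective c
  exact ⟨g, congrArg Subtype.val hc⟩

/-- the order of a torus is `q - 1` or `q + 1` -/
theorem card_Tor (x : SL2) (hx : NonScalar x) (hss : x.1.trace ^ 2 ≠ 4) :
    Nat.card (Tor x) = Fintype.card F - 1 ∨ Nat.card (Tor x) = Fintype.card F + 1 := by
  by_cases h : ∃ a : F, a ^ 2 - x.1.trace * a + 1 = 0
  · obtain ⟨a, ha⟩ := h
    exact Or.inl (card_Tor_split x hx hss a ha)
  · push Not at h
    exact Or.inr (card_Tor_nonsplit x hx hss h)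

omit [Fintype F] in
/-- a semisimple element is inverted by some element -/
theorem exists_inverts [Finite F] (x : SL2) (hx : NonScalar x) (hss : x.1.trace ^ 2 ≠ 4) :
    ∃ w : SL2, w * x * w⁻¹ = x⁻¹ := by
  have := Fintype.ofFinite F
  by_cases h : ∃ a : F, a ^ 2 - x.1.trace * a + 1 = 0
  · obtain ⟨a, ha⟩ := h
    exact exists_inverts_split x hx hss a ha
  · push Not at h
    exact exists_inverts_nonsplit x hx hss h

end fin2

section dihedral

open Cfsg.Agent.H9.DicksonCE (Cent mem_Cent)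
open Cfsg.Agent.H9.DicksonUN (ZG mem_ZG caG card_ZG isCyclic_Cent prG prG_surjective prG_ker)

/-- a semisimple element is not an involution -/
theorem ne_inv (x : SL2) (hx : NonScalar x) (hss : x.1.trace ^ 2 ≠ 4) : x ≠ x⁻¹ := by
  intro h
  have h1 : x.1 = (x⁻¹).1 := congrArg Subtype.val h
  rw [inv_val] at h1
  -- `2 x = τ`
  have e01 := congrFun (congrFun h1 0) 1
  have e10 := congrFun (congrFun h1 1) 0
  have e00 := congrFun (congrFun h1 0) 0
  have e11 := congrFun (congrFun h1 1) 1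
  simp only [Matrix.sub_apply, Matrix.smul_apply, Matrix.one_apply_ne, Matrix.one_apply_eq,
    smul_eq_mul, mul_zero, mul_one, ne_eq, zero_ne_one, one_ne_zero, not_false_eq_true,
    Fin.isValue] at e01 e10 e00 e11
  have h01 : 2 * x.1 0 1 = 0 := by
    linear_combination e01
  have h10 : 2 * x.1 1 0 = 0 := by
    linear_combination e10
  have h00 : 2 * x.1 0 0 = x.1.trace := by linear_combination e00
  have h11 : 2 * x.1 1 1 = x.1.trace := by linear_combination e11
  by_cases h2 : (2 : F) = 0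
  · apply hss
    have : x.1.trace = 0 := by rw [← h00, h2, zero_mul]
    rw [this]
    have : (4 : F) = 2 * 2 := by norm_num
    rw [this, h2]; ring
  · apply hx
    refine ⟨x.1 0 0, ?_⟩
    have e1 : x.1 0 1 = 0 := (mul_eq_zero.1 h01).resolve_left h2
    have e2 : x.1 1 0 = 0 := (mul_eq_zero.1 h10).resolve_left h2
    have e3 : x.1 1 1 = x.1 0 0 := by
      have : 2 * (x.1 1 1 - x.1 0 0) = 0 := by linear_combination h11 - h00
      have := (mul_eq_zero.1 this).resolve_left h2
      linear_combination this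
    ext i j
    fin_cases i <;> fin_cases j
    · simp
    · show x.1 0 1 = _; simp [e1]
    · show x.1 1 0 = _; simp [e2]
    · show x.1 1 1 = _; simp [e3]

theorem self_mem_Nx (x : SL2) : x ∈ Nx x := by
  left; group

theorem center_le_Nx (x : SL2) : Subgroup.center SL2 ≤ Nx x :=
  (center_le_Tor x).trans (Tor_le_Nx x)

/-- the torus as a subgroup of `Nx` -/
theorem card_Cent_Nx (x : SL2) :
    Nat.card (Cent (⟨x, self_mem_Nx x⟩ : Nx x)) = Nat.card (Tor x) := by
  apply Nat.card_congr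
  refine ⟨fun y => ⟨y.1.1, ?_⟩, fun y => ⟨⟨y.1, Tor_le_Nx x y.2⟩, ?_⟩, ?_, ?_⟩
  · rw [mem_Tor]
    have := mem_Cent.1 y.2
    exact congrArg Subtype.val this
  · rw [mem_Cent]
    apply Subtype.ext
    exact (mem_Tor x y.1).1 y.2
  · intro y; rfl
  · intro y; rfl

/-- the image of `Nx x` in `PSL₂` is dihedral -/
theorem dihedral_Nx [Finite F] (x : SL2) (hx : NonScalar x) (hss : x.1.trace ^ 2 ≠ 4) (a : ℕ)
    (ha : 2 ≤ a) (hC : Nat.card (Tor x) = Nat.card (Subgroup.center SL2) * a) :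
    Nonempty (↥((Nx x).map (pr : SL2 →* PSL2)) ≃* DihedralGroup a) := by
  set G := Nx x with hG
  set x' : G := ⟨x, self_mem_Nx x⟩ with hx'
  have hxc : x'.1 ∉ Subgroup.center SL2 := not_mem_center_of_nonScalar hx
  have hcyc : IsCyclic (Cent x') := isCyclic_Cent G x' hxc hss
  have hZ : Subgroup.center SL2 ≤ G := center_le_Nx x
  obtain ⟨w, hw⟩ := exists_inverts x hx hss
  have hwG : w ∈ G := Or.inr hw
  have hne := ne_inv x hx hss
  -- membership in the centralizer
  have hmem : ∀ g : G, g ∈ Cent x' ↔ g.1 * x * g.1⁻¹ = x := by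
    intro g
    rw [mem_Cent]
    constructor
    · intro h
      have h' : g.1 * x = x * g.1 := congrArg Subtype.val h
      rw [h']; group
    · intro h
      apply Subtype.ext
      show g.1 * x = x * g.1
      calc g.1 * x = (g.1 * x * g.1⁻¹) * g.1 := by group
        _ = x * g.1 := by rw [h]
  have hidx : (Cent x').index = 2 := by
    rw [Subgroup.index_eq_two_iff]
    refine ⟨⟨w, hwG⟩, fun b => ?_⟩
    have hb := b.2
    rw [hmem, hmem]
    have e : (b * ⟨w, hwG⟩ : G).1 * x * (b * ⟨w, hwG⟩ : G).1⁻¹ = b.1 * x⁻¹ * b.1⁻¹ := by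
      show (b.1 * w) * x * (b.1 * w)⁻¹ = _
      calc (b.1 * w) * x * (b.1 * w)⁻¹ = b.1 * (w * x * w⁻¹) * b.1⁻¹ := by group
        _ = _ := by rw [hw]
    rw [e]
    rcases hb with hb | hb
    · right
      refine ⟨hb, ?_⟩
      intro h
      apply hne
      calc x = (b.1 * x⁻¹ * b.1⁻¹)⁻¹⁻¹ := by rw [h, inv_inv]
        _ = (b.1 * x * b.1⁻¹)⁻¹ := by group
        _ = x⁻¹ := by rw [hb]
    · left
      refine ⟨?_, ?_⟩
      · calc b.1 * x⁻¹ * b.1⁻¹ = (b.1 * x * b.1⁻¹)⁻¹ := by group
          _ = x := by rw [hb, inv_inv]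
      · intro h
        rw [h] at hb
        exact hne hb
  have hΓ : Nat.card G = 2 * Nat.card (Cent x') := by
    have := (Cent x').card_mul_index
    rw [hidx] at this
    omega
  have hC' : Nat.card (Cent x') = Nat.card (ZG G) * a := by
    rw [card_ZG G hZ, ← hC]
    exact card_Cent_Nx x
  have hsq : ∀ g : G, g ∉ Cent x' → g * g ∈ ZG G := by
    intro g hg
    rw [hmem] at hg
    have h := (g.2 : g.1 * x * g.1⁻¹ = x ∨ g.1 * x * g.1⁻¹ = x⁻¹).resolve_left hg
    have := sq_of_inverts hx g.1 h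
    rw [mem_ZG, mem_center_iff']
    right
    exact this
  exact Cfsg.Agent.H9.DicksonQ.dihedral_of (prG G) (prG_surjective G) (prG_ker G) (caG G) hcyc a ha
    hC' hΓ hsq

end dihedral

section existence

open Cfsg.Agent.H9.DicksonUN (trace_dg_ne dg_not_mem_center)

variable [Fintype F]

/-- some polynomial `t² - τ t + 1` has no root -/
theorem exists_irr : ∃ τ : F, ∀ a : F, a ^ 2 - τ * a + 1 ≠ 0 := by
  classical
  by_contra hcon
  push Not at hcon
  -- `e ↦ e + e⁻¹` would be onto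
  have hsurj : Function.Surjective (fun e : Fˣ => (e : F) + ((e⁻¹ : Fˣ) : F)) := by
    intro τ
    obtain ⟨a, ha⟩ := hcon τ
    have ha0 : a ≠ 0 := by
      rintro rfl
      have : (1 : F) = 0 := by linear_combination ha
      exact one_ne_zero this
    refine ⟨Units.mk0 a ha0, ?_⟩
    show a + ((Units.mk0 a ha0)⁻¹ : Fˣ) = τ
    rw [Units.val_inv_eq_inv_val, Units.val_mk0]
    field_simp
    linear_combination ha
  have := Nat.card_le_card_of_surjective _ hsurj
  rw [Nat.card_units, Nat.card_eq_fintype_card] at this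
  have hq : 1 < Fintype.card F := Fintype.one_lt_card
  omega

/-- the companion matrix of `t² - τ t + 1` -/
def cmp (τ : F) : SL2 := ⟨!![0, -1; 1, τ], by rw [Matrix.det_fin_two_of]; ring⟩

omit [Fintype F] in
theorem cmp_trace (τ : F) : (cmp τ).1.trace = τ := by
  rw [Matrix.trace_fin_two]
  show (0 : F) + τ = τ
  ring

omit [Fintype F] in
theorem cmp_nonScalar (τ : F) : NonScalar (cmp τ) := by
  rintro ⟨a, ha⟩
  have := congrFun (congrFun ha 1) 0
  have h1 : (cmp τ).1 1 0 = 1 := rfl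
  rw [h1] at this
  simp at this

omit [Fintype F] in
theorem ss_of_irr (τ : F) (hirr : ∀ a : F, a ^ 2 - τ * a + 1 ≠ 0) : τ ^ 2 ≠ 4 := by
  intro h
  have h2 : (τ - 2) * (τ + 2) = 0 := by linear_combination h
  rcases mul_eq_zero.1 h2 with h' | h'
  · apply hirr 1
    linear_combination -h'
  · apply hirr (-1)
    linear_combination h'

theorem gcd_dvd_succ : Nat.gcd 2 (Fintype.card F - 1) ∣ Fintype.card F + 1 := by
  have hq : 1 < Fintype.card F := Fintype.one_lt_card
  have h1 : Nat.gcd 2 (Fintype.card F - 1) ∣ Fintype.card F - 1 := Nat.gcd_dvd_right _ _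
  have h2 : Nat.gcd 2 (Fintype.card F - 1) ∣ 2 := Nat.gcd_dvd_left _ _
  have : Fintype.card F + 1 = (Fintype.card F - 1) + 2 := by omega
  rw [this]
  exact dvd_add h1 h2

/-- a dihedral subgroup of order `2 (q + 1) / d` -/
theorem exists_dihedral_plus : ∃ H : Subgroup PSL2,
    Nonempty (H ≃* DihedralGroup ((Fintype.card F + 1) / Nat.gcd 2 (Fintype.card F - 1))) := by
  obtain ⟨τ, hirr⟩ := exists_irr (F := F)
  have hx := cmp_nonScalar τ
  have hss : (cmp τ).1.trace ^ 2 ≠ 4 := by rw [cmp_trace]; exact ss_of_irr τ hirr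
  have hT := card_Tor_nonsplit (cmp τ) hx hss (by rw [cmp_trace]; exact hirr)
  have hq : 1 < Fintype.card F := Fintype.one_lt_card
  obtain ⟨d, hd⟩ : ∃ d, d = Nat.gcd 2 (Fintype.card F - 1) := ⟨_, rfl⟩
  have hdvd : d ∣ Fintype.card F + 1 := by rw [hd]; exact gcd_dvd_succ
  have hd12 : d = 1 ∨ d = 2 := by
    have h1 : d ∣ 2 := by rw [hd]; exact Nat.gcd_dvd_left _ _
    have h2 := Nat.le_of_dvd (by norm_num) h1
    have h3 : 0 < d := by rw [hd]; exact Nat.gcd_pos_of_pos_left _ (by norm_num)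
    omega
  rw [← hd]
  obtain ⟨a, ha⟩ := hdvd
  have ha2 : 2 ≤ a := by
    rcases hd12 with h | h
    · rw [h] at ha; omega
    · rw [h] at ha
      have hd2 : 2 ∣ Fintype.card F - 1 := by
        have : d ∣ Fintype.card F - 1 := by rw [hd]; exact Nat.gcd_dvd_right _ _
        rwa [h] at this
      obtain ⟨c, hc⟩ := hd2
      omega
  have hdiv : (Fintype.card F + 1) / d = a := by
    rw [ha]
    exact Nat.mul_div_cancel_left a (by rcases hd12 with h | h <;> omega)
  rw [hdiv]
  refine ⟨(Nx (cmp τ)).map (pr : SL2 →* PSL2), dihedral_Nx (cmp τ) hx hss a ha2 ?_⟩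
  rw [hT, Cfsg.Agent.H9.DicksonConcl.card_center, ← hd, ha]

/-- a unit whose square is not one -/
theorem exists_unit_sq_ne (hq : 4 ≤ Fintype.card F) : ∃ e : Fˣ, ((e : F)) ^ 2 ≠ 1 := by
  obtain ⟨g, hg⟩ := IsCyclic.exists_generator (α := Fˣ)
  have hord : orderOf g = Nat.card Fˣ := orderOf_eq_card_of_forall_mem_zpowers hg
  rw [Nat.card_units, Nat.card_eq_fintype_card] at hord
  refine ⟨g, fun h => ?_⟩
  have h2 : g ^ 2 = 1 := Units.ext (by push_cast; exact h)
  have := orderOf_dvd_of_pow_eq_one h2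
  have := Nat.le_of_dvd (by norm_num) this
  omega

/-- a dihedral subgroup of order `2 (q - 1) / d` -/
theorem exists_dihedral_minus (hq4 : 4 ≤ Fintype.card F) : ∃ H : Subgroup PSL2,
    Nonempty (H ≃* DihedralGroup ((Fintype.card F - 1) / Nat.gcd 2 (Fintype.card F - 1))) := by
  obtain ⟨e, he⟩ := exists_unit_sq_ne hq4
  have hx : NonScalar (dg e) := nonScalar_of_not_mem_center (dg_not_mem_center e he)
  have hss := trace_dg_ne e he
  have hT := card_Tor_dg e he
  obtain ⟨d, hd⟩ : ∃ d, d = Nat.gcd 2 (Fintype.card F - 1) := ⟨_, rfl⟩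
  have hdvd : d ∣ Fintype.card F - 1 := by rw [hd]; exact Nat.gcd_dvd_right _ _
  have hd12 : d = 1 ∨ d = 2 := by
    have h1 : d ∣ 2 := by rw [hd]; exact Nat.gcd_dvd_left _ _
    have h2 := Nat.le_of_dvd (by norm_num) h1
    have h3 : 0 < d := by rw [hd]; exact Nat.gcd_pos_of_pos_left _ (by norm_num)
    omega
  rw [← hd]
  obtain ⟨a, ha⟩ := hdvd
  have ha2 : 2 ≤ a := by
    rcases hd12 with h | h
    · rw [h] at ha; omega
    · rw [h] at ha; omega
  have hdiv : (Fintype.card F - 1) / d = a := by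
    rw [ha]
    exact Nat.mul_div_cancel_left a (by rcases hd12 with h | h <;> omega)
  rw [hdiv]
  refine ⟨(Nx (dg e)).map (pr : SL2 →* PSL2), dihedral_Nx (dg e) hx hss a ha2 ?_⟩
  rw [hT, Cfsg.Agent.H9.DicksonConcl.card_center, ← hd, ha]

end existence

end Cfsg.Agent.H9.PSL2Tori
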