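import Mathlib
import Cfsg.Agent.H9.PSL2Tori

set_option autoImplicit false

/-! Auxiliary facts for the determination of maximal subgroups of `PSL₂(q)`: dihedral groups in
Borel subgroups and in `A₄`, `S₄`, `A₅`; element orders in `PSL₂` and `PGL₂`. -/

namespace Cfsg.Agent.H9.PSL2MaxAux

open Matrix
open Cfsg.Agent.H9.AutPSL2
open Cfsg.Agent.H9.DicksonMax

universe u

section borel

variable {F : Type u} [Field F] [Fintype F]

local notation "SL2" => Matrix.SpecialLinearGroup (Fin 2) F
local notation "PSL2" => Matrix.ProjectiveSpecialLinearGroup (Fin 2) F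

/-- a dihedral group of order `2a`, `a ≥ 3` prime to `p`, does not embed in the normalizer of a
Sylow `p`-subgroup -/
theorem dihedral_not_borel (p : ℕ) [Fact p.Prime] [CharP F p] (a : ℕ) (ha : 3 ≤ a)
    (hcop : Nat.Coprime a p) (φ : DihedralGroup a →* PSL2) (hφ : Function.Injective φ)
    (P : Sylow p PSL2)
    (hN : ∀ x, φ x ∈ Subgroup.normalizer ((P : Subgroup PSL2) : Set PSL2)) : False := by
  have h1 := comm_pow_p p P (φ (DihedralGroup.sr 0)) (φ (DihedralGroup.r 1)) (hN _) (hN _)
  have h2 : (DihedralGroup.sr (0 : ZMod a) * DihedralGroup.r 1 * (DihedralGroup.sr 0)⁻¹ *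
      (DihedralGroup.r 1)⁻¹) ^ p = 1 := by
    apply hφ
    rw [map_pow, map_mul, map_mul, map_mul, map_inv, map_inv, h1, map_one]
  rw [DihedralGroup.sr_mul_r, DihedralGroup.inv_sr, DihedralGroup.sr_mul_sr, DihedralGroup.inv_r,
    DihedralGroup.r_mul_r, DihedralGroup.r_pow, DihedralGroup.one_def] at h2
  have h3 : ((0 - (0 + 1) + -1) * (p : ZMod a) : ZMod a) = 0 := by
    injection h2
  have h4 : ((2 * p : ℕ) : ZMod a) = 0 := by
    push_cast
    linear_combination -h3
  rw [ZMod.natCast_eq_zero_iff] at h4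
  have h5 : a ∣ 2 := (Nat.Coprime.dvd_of_dvd_mul_right hcop h4)
  have := Nat.le_of_dvd (by norm_num) h5
  omega

end borel

section small

open Equiv

/-- no involution of `A₄` inverts an element of order three -/
theorem A4_no_D3 : ∀ x t : alternatingGroup (Fin 4), x ^ 3 = 1 → t ^ 2 = 1 → t * x * t⁻¹ = x⁻¹ →
    x = 1 ∨ t = 1 := by decide

set_option maxRecDepth 100000 in
/-- element orders of `S₄` -/
theorem S4_orders : ∀ x : Perm (Fin 4), x ^ 12 = 1 ∧ (x ^ 6 = 1 → x ^ 2 = 1 ∨ x ^ 3 = 1) := by
  decide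

set_option maxRecDepth 100000 in
/-- element orders of `A₅` -/
theorem A5_orders : ∀ x : alternatingGroup (Fin 5), x ^ 30 = 1 ∧
    (x ^ 6 = 1 → x ^ 2 = 1 ∨ x ^ 3 = 1) ∧ (x ^ 10 = 1 → x ^ 2 = 1 ∨ x ^ 5 = 1) ∧
    (x ^ 15 = 1 → x ^ 3 = 1 ∨ x ^ 5 = 1) := by
  decide

end small

section orders

open Cfsg.Agent.H9.DicksonSS (cayley)

variable {K : Type u} [Field K]

local notation "SL2K" => Matrix.SpecialLinearGroup (Fin 2) K
local notation "PSL2K" => Matrix.ProjectiveSpecialLinearGroup (Fin 2) K

/-- involutions of `SL₂` in odd characteristic -/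
theorem sq_eq_one (h2 : (2 : K) ≠ 0) (z : SL2K) (hz : z * z = 1) : z = 1 ∨ z = -1 := by
  have hc := cayley z
  have h1 : z.1 * z.1 = 1 := by
    rw [← Matrix.SpecialLinearGroup.coe_mul, hz]; rfl
  rw [h1] at hc
  have e00 := congrFun (congrFun hc 0) 0
  have e01 := congrFun (congrFun hc 0) 1
  have e10 := congrFun (congrFun hc 1) 0
  have e11 := congrFun (congrFun hc 1) 1
  simp only [Matrix.sub_apply, Matrix.smul_apply, Matrix.one_apply_eq, smul_eq_mul] at e00 e11
  have n01 : (0 : Fin 2) ≠ 1 := by decide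
  have n10 : (1 : Fin 2) ≠ 0 := by decide
  simp only [Matrix.sub_apply, Matrix.smul_apply, Matrix.one_apply_ne n01,
    Matrix.one_apply_ne n10, smul_eq_mul, sub_zero] at e01 e10
  have hτ : z.1.trace ≠ 0 := by
    intro h
    rw [h, zero_mul] at e00
    apply h2
    linear_combination e00
  have h01 : z.1 0 1 = 0 := by
    rcases mul_eq_zero.1 e01.symm with h | h
    · exact (hτ h).elim
    · exact h
  have h10 : z.1 1 0 = 0 := by
    rcases mul_eq_zero.1 e10.symm with h | h
    · exact (hτ h).elim
    · exact h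
  have h0011 : z.1 0 0 = z.1 1 1 := by
    have : z.1.trace * (z.1 0 0 - z.1 1 1) = 0 := by linear_combination e11 - e00
    rcases mul_eq_zero.1 this with h | h
    · exact (hτ h).elim
    · linear_combination h
  have d := det_eq z
  rw [h01, zero_mul, sub_zero, ← h0011] at d
  have : (z.1 0 0 - 1) * (z.1 0 0 + 1) = 0 := by linear_combination d
  rcases mul_eq_zero.1 this with h | h
  · left
    have h00 : z.1 0 0 = 1 := by linear_combination h
    apply ext4 <;> simp [h00, h01, h10, ← h0011]
  · right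
    have h00 : z.1 0 0 = -1 := by linear_combination h
    apply ext4 <;> simp [h00, h01, h10, ← h0011]

variable [Fintype K]

/-- element orders in `PSL₂(K)` -/
theorem psl_order (p : ℕ) [Fact p.Prime] [CharP K p] (s : PSL2K)
    (hcop : Nat.Coprime (orderOf s) p) :
    Nat.gcd 2 (Fintype.card K - 1) * orderOf s ∣ Fintype.card K - 1 ∨
      Nat.gcd 2 (Fintype.card K - 1) * orderOf s ∣ Fintype.card K + 1 := by
  have hpp : p.Prime := Fact.out
  obtain ⟨z, rfl⟩ := pr_surjective s
  obtain ⟨b, hb⟩ : ∃ b, b = orderOf ((pr : SL2K →* PSL2K) z) := ⟨_, rfl⟩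
  obtain ⟨o, ho⟩ : ∃ o, o = orderOf z := ⟨_, rfl⟩
  rw [← hb] at hcop ⊢
  have hbo : b ∣ o := by rw [hb, ho]; exact orderOf_map_dvd _ z
  have hbpos : 0 < b := by rw [hb]; exact orderOf_pos _
  have hopos : 0 < o := by rw [ho]; exact orderOf_pos _
  have hzb : z ^ b = 1 ∨ z ^ b = -1 := by
    have : (pr : SL2K →* PSL2K) (z ^ b) = pr 1 := by
      rw [map_pow, hb, pow_orderOf_eq_one, map_one]
    exact (pr_eq_iff _ _).1 this
  obtain ⟨f, -, hf⟩ := FiniteField.card K p
  have hq1 : 1 < Fintype.card K := Fintype.one_lt_card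
  by_cases h2 : (2 : K) = 0
  · -- characteristic two
    have hp2 : p = 2 := by
      have : ((2 : ℕ) : K) = 0 := by exact_mod_cast h2
      have := (CharP.cast_eq_zero_iff K p 2).1 this
      exact (Nat.prime_dvd_prime_iff_eq hpp Nat.prime_two).1 this
    have hm : (-1 : SL2K) = 1 := by
      have hm' : (-1 : K) = 1 := by linear_combination -h2
      apply ext4 <;> simp [hm']
    have hzb1 : z ^ b = 1 := by
      rcases hzb with h | h
      · exact h
      · rw [h, hm]
    have hob : o = b := by
      apply Nat.dvd_antisymm _ hbo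
      rw [ho]; exact orderOf_dvd_of_pow_eq_one hzb1
    have hgcd : Nat.gcd 2 (Fintype.card K - 1) = 1 := by
      rw [hf, hp2]
      have : 2 ∣ 2 ^ (f : ℕ) := dvd_pow_self 2 f.ne_zero
      obtain ⟨c, hc⟩ := this
      have hc1 : 1 ≤ c := by
        rcases Nat.eq_zero_or_pos c with h | h
        · rw [h] at hc; simp at hc
        · exact h
      rw [hc]
      have : 2 * c - 1 = 2 * (c - 1) + 1 := by omega
      rw [this]
      simp
    rw [hgcd, one_mul, ← hob, ho]
    apply Cfsg.Agent.S0800.result rfl p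
    rw [← ho, hob]; exact hcop
  · -- odd characteristic
    have hp2 : p ≠ 2 := by
      rintro rfl
      apply h2
      have := CharP.cast_eq_zero K 2
      exact_mod_cast this
    have hqodd : Odd (Fintype.card K) := by
      rw [hf]
      exact (hpp.odd_of_ne_two hp2).pow
    have hgcd : Nat.gcd 2 (Fintype.card K - 1) = 2 := by
      obtain ⟨t, ht⟩ := hqodd
      have : Fintype.card K - 1 = 2 * t := by omega
      rw [this]; simp
    have hneg : (-1 : SL2K) ≠ 1 := by
      intro h
      have := congrArg (fun g : SL2K => g.1 0 0) h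
      simp only [neg_00] at this
      apply h2
      have e : ((1 : SL2K).1 0 0) = 1 := by simp
      rw [e] at this
      linear_combination -this
    have hz2b : z ^ (2 * b) = 1 := by
      rw [mul_comm, pow_mul]
      rcases hzb with h | h
      · rw [h, one_pow]
      · rw [h]; simp
    have ho2b : o ∣ 2 * b := by rw [ho]; exact orderOf_dvd_of_pow_eq_one hz2b
    have hcop2 : Nat.Coprime o p := by
      apply Nat.Coprime.coprime_dvd_left ho2b
      apply Nat.Coprime.mul_left _ hcop
      rw [Nat.coprime_primes Nat.prime_two hpp]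
      exact fun h => hp2 h.symm
    have hS := Cfsg.Agent.S0800.result (F := K) rfl p z (by rw [← ho]; exact hcop2)
    rw [← ho] at hS
    rw [hgcd]
    -- `2 b ∣ n` whenever `o ∣ n` with `n` even
    have key : ∀ n : ℕ, 2 ∣ n → o ∣ n → 2 * b ∣ n := by
      intro n h2n hon
      obtain ⟨c, hc⟩ := hbo
      have hc2 : c ∣ 2 := by
        have : b * c ∣ b * 2 := by rw [← hc, mul_comm b 2]; exact ho2b
        exact Nat.dvd_of_mul_dvd_mul_left hbpos this
      have hc12 : c = 1 ∨ c = 2 := by
        have := Nat.le_of_dvd (by norm_num) hc2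
        rcases Nat.eq_zero_or_pos c with h | h
        · rw [h, mul_zero] at hc; omega
        · omega
      rcases hc12 with h1 | h1
      · -- `o = b`
        rw [h1, mul_one] at hc
        -- `o` is odd
        have hodd : ¬ 2 ∣ o := by
          rintro ⟨e, he⟩
          have hw : (z ^ e) * (z ^ e) = 1 := by
            rw [← pow_add, ← two_mul, ← he, ho, pow_orderOf_eq_one]
          have hepos : 0 < e := by omega
          rcases sq_eq_one h2 _ hw with h | h
          · have := orderOf_dvd_of_pow_eq_one h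
            rw [← ho] at this
            have := Nat.le_of_dvd hepos this
            omega
          · have hpe : ((pr : SL2K →* PSL2K) z) ^ e = 1 := by
              rw [← map_pow, h]
              have : (pr : SL2K →* PSL2K) (-1) = pr 1 := (pr_eq_iff _ _).2 (Or.inr rfl)
              rw [this, map_one]
            have := orderOf_dvd_of_pow_eq_one hpe
            rw [← hb] at this
            have := Nat.le_of_dvd hepos this
            omega
        have hcop' : Nat.Coprime 2 o := by
          rw [Nat.Prime.coprime_iff_not_dvd Nat.prime_two]; exact hodd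
        rw [← hc]
        exact Nat.Coprime.mul_dvd_of_dvd_of_dvd hcop' h2n hon
      · rw [h1] at hc
        rw [mul_comm, ← hc]; exact hon
    have he1 : 2 ∣ Fintype.card K - 1 := by
      obtain ⟨t, ht⟩ := hqodd
      exact ⟨t, by omega⟩
    have he2 : 2 ∣ Fintype.card K + 1 := by
      obtain ⟨t, ht⟩ := hqodd
      exact ⟨t + 1, by omega⟩
    rcases hS with h | h
    · exact Or.inl (key _ he1 h)
    · exact Or.inr (key _ he2 h)

/-- element orders in `PGL₂(K)` -/
theorem pgl_order (p : ℕ) [Fact p.Prime] [CharP K p] (y : Matrix.ProjGenLinGroup (Fin 2) K)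
    (hcop : Nat.Coprime (orderOf y) p) :
    orderOf y ∣ Fintype.card K - 1 ∨ orderOf y ∣ Fintype.card K + 1 := by
  classical
  have hpp : p.Prime := Fact.out
  have hq1 : 1 < Fintype.card K := Fintype.one_lt_card
  set S : Subgroup (Matrix.ProjGenLinGroup (Fin 2) K) :=
    (Matrix.ProjectiveSpecialLinearGroup.toPGL (n := Fin 2) (R := K)).range with hS
  have hinj := Matrix.ProjectiveSpecialLinearGroup.toPGL_injective (n := Fin 2) (R := K)
  have hcS : Nat.card S = Nat.card PSL2K :=
    (Nat.card_congr (MonoidHom.ofInjective hinj).toEquiv).symm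
  have hcP : Nat.card (Matrix.ProjGenLinGroup (Fin 2) K) =
      Fintype.card K * (Fintype.card K ^ 2 - 1) := by
    rw [Cfsg.Agent.S0265.result, Cfsg.Agent.H9.SubfieldPSL2.card_SL2_all]
  have hcPSL := Cfsg.Agent.H9.DicksonMax.card_PSL2_mul K
  have hfin : Finite (Matrix.ProjGenLinGroup (Fin 2) K) := by
    apply Nat.finite_of_card_ne_zero
    rw [hcP]
    have h1 : 0 < Fintype.card K ^ 2 - 1 := by
      have : 2 ^ 2 ≤ Fintype.card K ^ 2 := Nat.pow_le_pow_left hq1 2
      omega
    have := Nat.mul_pos (show 0 < Fintype.card K by omega) h1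
    omega
  obtain ⟨d, hd⟩ : ∃ d, d = Nat.gcd 2 (Fintype.card K - 1) := ⟨_, rfl⟩
  rw [← hd] at hcPSL
  have hd12 : d = 1 ∨ d = 2 := by
    have h1 : d ∣ 2 := by rw [hd]; exact Nat.gcd_dvd_left _ _
    have h2 := Nat.le_of_dvd (by norm_num) h1
    have h3 : 0 < d := by rw [hd]; exact Nat.gcd_pos_of_pos_left _ (by norm_num)
    omega
  have hidx : S.index = d := by
    have h1 := S.card_mul_index
    rw [hcS, hcP, ← hcPSL] at h1
    have hpos : 0 < Nat.card PSL2K := Nat.card_pos
    exact Nat.eq_of_mul_eq_mul_left hpos h1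
  have hy2 : y ^ 2 ∈ S := by
    rcases hd12 with h | h
    · rw [h] at hidx
      rw [Subgroup.index_eq_one.1 hidx]
      exact Subgroup.mem_top _
    · rw [h] at hidx
      exact Subgroup.sq_mem_of_index_two hidx y
  obtain ⟨s, hs⟩ := hy2
  obtain ⟨a, ha⟩ : ∃ a, a = orderOf y := ⟨_, rfl⟩
  rw [← ha] at hcop ⊢
  have hapos : 0 < a := by rw [ha]; exact orderOf_pos _
  have hos : orderOf s = a / Nat.gcd a 2 := by
    rw [← orderOf_injective _ hinj s, hs, orderOf_pow, ← ha]
  have hsdvd : orderOf s ∣ a := by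
    rw [hos]; exact Nat.div_dvd_of_dvd (Nat.gcd_dvd_left _ _)
  have hcops : Nat.Coprime (orderOf s) p := Nat.Coprime.coprime_dvd_left hsdvd hcop
  have hmain := psl_order p s hcops
  rw [← hd] at hmain
  -- `a ∣ d * orderOf s`
  have hadvd : a ∣ d * orderOf s := by
    rcases hd12 with h | h
    · -- `q` even, so `p = 2` and `a` is odd
      rw [h, one_mul]
      have hp2 : p = 2 := by
        obtain ⟨f, -, hf⟩ := FiniteField.card K p
        by_contra hne
        have hodd : Odd (Fintype.card K) := by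
          rw [hf]; exact (hpp.odd_of_ne_two hne).pow
        obtain ⟨t, ht⟩ := hodd
        have : Fintype.card K - 1 = 2 * t := by omega
        rw [this] at hd
        simp at hd
        omega
      rw [hp2] at hcop
      have hg : Nat.gcd a 2 = 1 := hcop
      rw [hos, hg, Nat.div_one]
    · rw [h, hos]
      have hg : Nat.gcd a 2 ∣ 2 := Nat.gcd_dvd_right _ _
      have hga : Nat.gcd a 2 ∣ a := Nat.gcd_dvd_left _ _
      obtain ⟨c, hc⟩ := hga
      have hgpos : 0 < Nat.gcd a 2 := Nat.gcd_pos_of_pos_right _ (by norm_num)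
      have : a / Nat.gcd a 2 = c := Nat.div_eq_of_eq_mul_right hgpos hc
      rw [this]
      calc a = Nat.gcd a 2 * c := hc
        _ ∣ 2 * c := Nat.mul_dvd_mul_right hg c
  rcases hmain with h | h
  · exact Or.inl (hadvd.trans h)
  · exact Or.inr (hadvd.trans h)

end orders

end Cfsg.Agent.H9.PSL2MaxAux
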