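import Mathlib
import Cfsg.Agent.H9.PSL2MaxAux

set_option autoImplicit false

/-! Overgroups of the dihedral torus normalizers of `PSL₂(q)`. -/

namespace Cfsg.Agent.H9.PSL2MaxDih

open Matrix
open Cfsg.Agent.H9.AutPSL2
open Cfsg.Agent.H9.DicksonMax
open Cfsg.Agent.H9.PSL2MaxAux

universe u

/-- the characteristic of a subfield-type field -/
theorem charP_of_card_pow {K' : Type} [Field K'] [Fintype K'] (p : ℕ) (hp : p.Prime) (m f : ℕ)
    (h : Fintype.card K' ^ m = p ^ f) (hm : m ≠ 0) : CharP K' p := by
  obtain ⟨p', hp'⟩ := CharP.exists K'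
  have hpp' : p'.Prime := CharP.char_is_prime K' p'
  have : Fact p'.Prime := ⟨hpp'⟩
  obtain ⟨j, -, hj⟩ := FiniteField.card K' p'
  have h1 : p' ∣ p ^ f := by
    rw [← h, hj]
    exact dvd_pow (dvd_pow_self p' j.ne_zero) hm
  have h2 : p' ∣ p := hpp'.dvd_of_dvd_pow h1
  have h3 : p' = p := (Nat.prime_dvd_prime_iff_eq hpp' hp).1 h2
  rw [← h3]; exact hp'

variable {F : Type u} [Field F] [Fintype F]

local notation "SL2" => Matrix.SpecialLinearGroup (Fin 2) F
local notation "PSL2" => Matrix.ProjectiveSpecialLinearGroup (Fin 2) F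

set_option maxHeartbeats 1600000 in
/-- proper overgroups of a dihedral subgroup of order `2 (q ± 1) / d` have the same order -/
theorem overgroup (p : ℕ) [Fact p.Prime] [CharP F p] (q d a : ℕ) (hq : Fintype.card F = q)
    (hd : d = Nat.gcd 2 (q - 1)) (ha : 2 ≤ a)
    (hsign : (a * d = q + 1 ∧ q ≠ 2 ∧ q ≠ 7 ∧ q ≠ 9) ∨
      (a * d = q - 1 ∧ q ≠ 2 ∧ q ≠ 3 ∧ q ≠ 5 ∧ q ≠ 7 ∧ q ≠ 9 ∧ q ≠ 11))
    (H0 : Subgroup PSL2) (e0 : H0 ≃* DihedralGroup a) (L : Subgroup PSL2) (hle : H0 ≤ L)
    (hL : L ≠ ⊤) : Nat.card L = Nat.card H0 := by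
  classical
  have hpp : p.Prime := Fact.out
  have : NeZero a := ⟨by omega⟩
  obtain ⟨f, -, hf⟩ := FiniteField.card F p
  rw [hq] at hf
  have hq1 : 1 < q := by rw [← hq]; exact Fintype.one_lt_card
  have hG := card_PSL2_mul F
  rw [hq, ← hd] at hG
  have hd12 : d = 1 ∨ d = 2 := by
    have h1 : d ∣ 2 := by rw [hd]; exact Nat.gcd_dvd_left _ _
    have h2 := Nat.le_of_dvd (by norm_num) h1
    have h3 : 0 < d := by rw [hd]; exact Nat.gcd_pos_of_pos_left _ (by norm_num)
    omega
  have hdodd : Odd q → d = 2 := by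
    rintro ⟨t, ht⟩
    have : q - 1 = 2 * t := by omega
    rw [hd, this]; simp
  have hdeven : Even q → d = 1 := by
    rintro ⟨t, ht⟩
    have h1 : d ∣ q - 1 := by rw [hd]; exact Nat.gcd_dvd_right _ _
    rcases hd12 with h | h
    · exact h
    · exfalso
      rw [h] at h1
      obtain ⟨c, hc⟩ := h1
      omega
  have hH0 : Nat.card H0 = 2 * a := by
    rw [Nat.card_congr e0.toEquiv, DihedralGroup.nat_card]
  rw [hH0]
  have hdvd : 2 * a ∣ Nat.card L := by
    rw [← hH0]; exact Subgroup.card_dvd_of_le hle
  have hLne : Nat.card L ≠ Nat.card PSL2 := fun h => hL (Subgroup.eq_top_of_card_eq L h)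
  have hLdvd : Nat.card L ∣ Nat.card PSL2 := Subgroup.card_subgroup_dvd_card L
  have hLpos : 0 < Nat.card L := Nat.card_pos
  -- the embedding of the dihedral group
  set φ : DihedralGroup a →* L := (Subgroup.inclusion hle).comp e0.symm.toMonoidHom with hφ
  have hφi : Function.Injective φ :=
    (Subgroup.inclusion_injective hle).comp e0.symm.injective
  have e2 : q ^ 2 - 1 = (q - 1) * (q + 1) := by
    obtain ⟨r, hr⟩ : ∃ r, q = r + 1 := ⟨q - 1, by omega⟩
    rw [hr, Nat.add_sub_cancel]
    have : (r + 1) ^ 2 = r * (r + 1 + 1) + 1 := by ring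
    rw [this, Nat.add_sub_cancel]
  -- `a` is prime to `p`
  have hcop : Nat.Coprime a p := by
    rw [Nat.coprime_comm, Nat.Prime.coprime_iff_not_dvd hpp]
    intro hpa
    have hpq : p ∣ q := by rw [hf]; exact dvd_pow_self p f.ne_zero
    have h1 : p ∣ a * d := Dvd.dvd.mul_right hpa d
    have : p ∣ 1 := by
      rcases hsign with ⟨h, -⟩ | ⟨h, -⟩
      · rw [h] at h1
        exact (Nat.dvd_add_right hpq).1 h1
      · rw [h] at h1
        have : p ∣ q - (q - 1) := Nat.dvd_sub hpq h1
        have e : q - (q - 1) = 1 := by omega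
        rwa [e] at this
    exact hpp.one_lt.ne' (Nat.dvd_one.1 this)
  -- the case `q = 3`
  by_cases hq3 : q = 3
  · rw [hq3] at hG
    have hd2 : d = 2 := hdodd (by rw [hq3]; decide)
    rw [hd2] at hG
    have hG12 : Nat.card PSL2 = 12 := by omega
    rw [hG12] at hLdvd hLne
    have h4 : a = 2 := by
      rcases hsign with ⟨h1, -⟩ | ⟨-, -, h3, -⟩
      · rw [hq3, hd2] at h1; omega
      · exact (h3 hq3).elim
    rw [h4] at hdvd ⊢
    have hle12 := Nat.le_of_dvd (by norm_num) hLdvd
    obtain ⟨c, hc⟩ := hdvd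
    obtain ⟨c', hc'⟩ := hLdvd
    have : c = 1 ∨ c = 2 ∨ c = 3 := by
      rcases Nat.eq_zero_or_pos c with h0 | h0
      · rw [h0] at hc; omega
      · omega
    rcases this with rfl | rfl | rfl
    · omega
    · rw [hc] at hc'; omega
    · omega
  have ha3 : 3 ≤ a := by
    by_contra hcon
    have h2 : a = 2 := by omega
    rcases hsign with ⟨h1, -⟩ | ⟨h1, h2', h3, h5, -⟩
    · rcases hd12 with hd1 | hd2
      · rw [h2, hd1] at h1; omega
      · rw [h2, hd2] at h1; omega
    · rcases hd12 with hd1 | hd2
      · rw [h2, hd1] at h1; omega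
      · rw [h2, hd2] at h1; omega
  have hq4 : 4 ≤ q := by
    rcases hsign with ⟨-, h2, -⟩ | ⟨-, h2, -⟩ <;> omega
  -- the two generators
  obtain ⟨x, hx⟩ : ∃ x : L, x = φ (DihedralGroup.r 1) := ⟨_, rfl⟩
  obtain ⟨t, ht⟩ : ∃ t : L, t = φ (DihedralGroup.sr 0) := ⟨_, rfl⟩
  have hxo : orderOf x = a := by
    rw [hx, orderOf_injective φ hφi, DihedralGroup.orderOf_r_one]
  have hto : orderOf t = 2 := by
    rw [ht, orderOf_injective φ hφi, DihedralGroup.orderOf_sr]
  have htx : t * x * t⁻¹ = x⁻¹ := by
    rw [hx, ht, ← map_inv, ← map_inv, ← map_mul, ← map_mul]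
    congr 1
    rw [DihedralGroup.sr_mul_r, DihedralGroup.inv_sr, DihedralGroup.sr_mul_sr,
      DihedralGroup.inv_r]
    congr 1
    ring
  have hx1 : x ≠ 1 := by
    intro h
    rw [h, orderOf_one] at hxo
    omega
  have ht1 : t ≠ 1 := by
    intro h
    rw [h, orderOf_one] at hto
    omega
  -- arithmetic of `q + 1` and `q - 1`
  have hsq : a * d = q + 1 ∨ a * d = q - 1 := by
    rcases hsign with ⟨h, -⟩ | ⟨h, -⟩
    · exact Or.inl h
    · exact Or.inr h
  have hd1 : d ∣ q + 1 := by
    have h1 : d ∣ q - 1 := by rw [hd]; exact Nat.gcd_dvd_right _ _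
    have h2 : d ∣ 2 := by rw [hd]; exact Nat.gcd_dvd_left _ _
    have : q + 1 = (q - 1) + 2 := by omega
    rw [this]; exact dvd_add h1 h2
  have hd2 : d ∣ q - 1 := by rw [hd]; exact Nat.gcd_dvd_right _ _
  have hdpos : 0 < d := by rcases hd12 with h | h <;> omega
  rcases Cfsg.Agent.H9.DicksonUN.dickson q p hq L with
    ⟨k, hk, ⟨hc, hck⟩ | ⟨⟨e⟩⟩⟩ | ⟨P, K', hK', ⟨e⟩⟩ | ⟨⟨e⟩⟩ | ⟨⟨e⟩⟩ | ⟨⟨e⟩⟩ |
    ⟨K', i1, i2, m, hm, ⟨⟨e⟩⟩ | ⟨⟨e⟩⟩⟩
  · -- cyclic
    exfalso
    have := hc
    apply no_cyclic (X := L) t x _ (MonoidHom.id L) Function.injective_id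
    intro h
    have : x = x⁻¹ := by
      calc x = t * x * t⁻¹ := by rw [h]; group
        _ = x⁻¹ := htx
    have h2 : x ^ 2 = 1 := by
      rw [pow_two]
      calc x * x = x * x⁻¹ := by rw [← this]
        _ = 1 := mul_inv_cancel x
    have := orderOf_dvd_of_pow_eq_one h2
    rw [hxo] at this
    have := Nat.le_of_dvd (by norm_num) this
    omega
  · -- dihedral
    rw [← hd] at hk
    have hk0 : k ≠ 0 := by
      rintro rfl
      have : Infinite (DihedralGroup 0) := by
        have : Infinite (ZMod 0) := inferInstanceAs (Infinite ℤ)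
        exact Infinite.of_injective (fun i : ZMod 0 => DihedralGroup.r i)
          (fun a b h => by injection h)
      have hfin : Finite (DihedralGroup 0) := Finite.of_equiv L e.toEquiv
      exact not_finite (DihedralGroup 0)
    have hcard : Nat.card L = 2 * k := by
      rw [Nat.card_congr e.toEquiv]
      have : NeZero k := ⟨hk0⟩
      exact DihedralGroup.nat_card
    rw [hcard] at hdvd ⊢
    have hak : a ∣ k := Nat.dvd_of_mul_dvd_mul_left (by norm_num) hdvd
    have hkpos : 0 < k := Nat.pos_of_ne_zero hk0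
    obtain ⟨c1, hc1⟩ := hd1
    obtain ⟨c2, hc2⟩ := hd2
    have e1 : (q + 1) / d = c1 := by rw [hc1]; exact Nat.mul_div_cancel_left c1 hdpos
    have e2' : (q - 1) / d = c2 := by rw [hc2]; exact Nat.mul_div_cancel_left c2 hdpos
    rw [e1, e2'] at hk
    have hkeq : k = a := by
      rcases hk with h | h
      · -- `k ∣ (q + 1) / d`
        rcases hsq with hs | hs
        · have : a = c1 := by
            have : d * a = d * c1 := by rw [← hc1, ← hs]; ring
            exact Nat.eq_of_mul_eq_mul_left hdpos this
          rw [← this] at h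
          exact Nat.dvd_antisymm h hak
        · exfalso
          have hac2 : a = c2 := by
            have : d * a = d * c2 := by rw [← hc2, ← hs]; ring
            exact Nat.eq_of_mul_eq_mul_left hdpos this
          have h1 : c2 ∣ c1 := by rw [← hac2]; exact hak.trans h
          have h2 : d * c2 ∣ d * c1 := Nat.mul_dvd_mul_left d h1
          rw [← hc1, ← hc2] at h2
          have h3 : q - 1 ∣ (q + 1) - (q - 1) := Nat.dvd_sub h2 (dvd_refl _)
          have e : (q + 1) - (q - 1) = 2 := by omega
          rw [e] at h3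
          have := Nat.le_of_dvd (by norm_num) h3
          omega
      · rcases hsq with hs | hs
        · exfalso
          have hac1 : a = c1 := by
            have : d * a = d * c1 := by rw [← hc1, ← hs]; ring
            exact Nat.eq_of_mul_eq_mul_left hdpos this
          have h1 : c1 ∣ c2 := by rw [← hac1]; exact hak.trans h
          have h2 : d * c1 ∣ d * c2 := Nat.mul_dvd_mul_left d h1
          rw [← hc1, ← hc2] at h2
          have := Nat.le_of_dvd (by omega) h2
          omega
        · have : a = c2 := by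
            have : d * a = d * c2 := by rw [← hc2, ← hs]; ring
            exact Nat.eq_of_mul_eq_mul_left hdpos this
          rw [← this] at h
          exact Nat.dvd_antisymm h hak
    rw [hkeq]
  · -- Borel type
    exfalso
    apply dihedral_not_borel p a ha3 hcop ((K'.subtype.comp e.toMonoidHom).comp φ)
      ((K'.subtype_injective.comp e.injective).comp hφi) P
    intro y
    exact hK' (e (φ y)).2
  · -- A4
    have hcard : Nat.card L = 12 := by
      rw [Nat.card_congr e.toEquiv, nat_card_alternatingGroup, Nat.card_eq_fintype_card,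
        Fintype.card_fin]
      rfl
    rw [hcard] at hdvd ⊢
    have ha6 : a ≤ 6 := by
      have := Nat.le_of_dvd (by norm_num) hdvd
      omega
    have hcases : a = 3 ∨ a = 6 := by
      obtain ⟨c, hc⟩ := hdvd
      interval_cases a <;> omega
    rcases hcases with h | h
    · exfalso
      have h1 : (e x) ^ 3 = 1 := by
        rw [← map_pow, ← h, ← hxo, pow_orderOf_eq_one, map_one]
      have h2 : (e t) ^ 2 = 1 := by
        have ht2 := pow_orderOf_eq_one t
        rw [hto] at ht2
        rw [← map_pow, ht2, map_one]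
      have h3 : e t * e x * (e t)⁻¹ = (e x)⁻¹ := by
        rw [← map_inv, ← map_inv, ← map_mul, ← map_mul, htx]
      rcases A4_no_D3 (e x) (e t) h1 h2 h3 with h4 | h4
      · exact hx1 (e.injective (by rw [h4, map_one]))
      · exact ht1 (e.injective (by rw [h4, map_one]))
    · rw [h]
  · -- S4
    have hcard : Nat.card L = 24 := by
      rw [Nat.card_congr e.toEquiv, Nat.card_eq_fintype_card, Fintype.card_perm,
        Fintype.card_fin]
      rfl
    rw [hcard] at hdvd hLdvd ⊢
    have ha12 : a ≤ 12 := by
      have := Nat.le_of_dvd (by norm_num) hdvd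
      omega
    have hcases : a = 3 ∨ a = 4 ∨ a = 6 ∨ a = 12 := by
      obtain ⟨c, hc⟩ := hdvd
      interval_cases a <;> omega
    rcases hcases with h | h | h | h
    · -- `a = 3`: `q ∈ {5, 4}`, and `24 ∤ 60`
      exfalso
      have hq45 : q = 5 ∨ q = 4 := by
        rcases hsign with ⟨h1, h2, -⟩ | ⟨h1, h2, h3, h5, h7, -⟩
        · rcases hd12 with hd' | hd'
          · rw [h, hd'] at h1; omega
          · rw [h, hd'] at h1; left; omega
        · rcases hd12 with hd' | hd'
          · rw [h, hd'] at h1; right; omega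
          · rw [h, hd'] at h1; omega
      have hG60 : Nat.card PSL2 = 60 := by
        rcases hq45 with h5 | h4
        · have := hdodd (by rw [h5]; decide)
          rw [h5, this] at hG; omega
        · have := hdeven (by rw [h4]; decide)
          rw [h4, this] at hG; omega
      rw [hG60] at hLdvd
      omega
    · -- `a = 4`: excluded values of `q`
      exfalso
      rcases hsign with ⟨h1, h2, h7, h9⟩ | ⟨h1, h2, h3, h5, h7, h9, -⟩
      · rcases hd12 with hd' | hd'
        · rw [h, hd'] at h1
          have : q = 3 := by omega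
          have := hdodd (by rw [this]; decide)
          omega
        · rw [h, hd'] at h1; omega
      · rcases hd12 with hd' | hd'
        · rw [h, hd'] at h1
          have : q = 5 := by omega
          exact h5 this
        · rw [h, hd'] at h1; omega
    · -- `a = 6`: no element of order six
      exfalso
      have h1 : (e x) ^ 6 = 1 := by
        rw [← map_pow, ← h, ← hxo, pow_orderOf_eq_one, map_one]
      rcases (S4_orders (e x)).2 h1 with h2 | h2
      · have : x ^ 2 = 1 := e.injective (by rw [map_pow, h2, map_one])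
        have := orderOf_dvd_of_pow_eq_one this
        rw [hxo, h] at this
        omega
      · have : x ^ 3 = 1 := e.injective (by rw [map_pow, h2, map_one])
        have := orderOf_dvd_of_pow_eq_one this
        rw [hxo, h] at this
        omega
    · rw [h]
  · -- A5
    have hcard : Nat.card L = 60 := by
      rw [Nat.card_congr e.toEquiv, nat_card_alternatingGroup, Nat.card_eq_fintype_card,
        Fintype.card_fin]
      rfl
    rw [hcard] at hdvd hLdvd hLne ⊢
    have ha30 : a ≤ 30 := by
      have := Nat.le_of_dvd (by norm_num) hdvd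
      omega
    have hcases : a = 3 ∨ a = 5 ∨ a = 6 ∨ a = 10 ∨ a = 15 ∨ a = 30 := by
      obtain ⟨c, hc⟩ := hdvd
      interval_cases a <;> omega
    have hpow : ∀ n : ℕ, x ^ n = 1 → a ∣ n := by
      intro n hn
      rw [← hxo]; exact orderOf_dvd_of_pow_eq_one hn
    have hepow : ∀ n : ℕ, (e x) ^ n = 1 → a ∣ n := by
      intro n hn
      apply hpow
      exact e.injective (by rw [map_pow, hn, map_one])
    have hea : (e x) ^ a = 1 := by
      rw [← map_pow, ← hxo, pow_orderOf_eq_one, map_one]
    rcases hcases with h | h | h | h | h | h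
    · -- `a = 3`: `q ∈ {5, 4}` and `L = G`
      exfalso
      have hq45 : q = 5 ∨ q = 4 := by
        rcases hsign with ⟨h1, h2, -⟩ | ⟨h1, h2, h3, h5, h7, -⟩
        · rcases hd12 with hd' | hd'
          · rw [h, hd'] at h1; omega
          · rw [h, hd'] at h1; left; omega
        · rcases hd12 with hd' | hd'
          · rw [h, hd'] at h1; right; omega
          · rw [h, hd'] at h1; omega
      apply hLne
      rcases hq45 with h5 | h4
      · have := hdodd (by rw [h5]; decide)
        rw [h5, this] at hG; omega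
      · have := hdeven (by rw [h4]; decide)
        rw [h4, this] at hG; omega
    · -- `a = 5`
      exfalso
      rcases hsign with ⟨h1, h2, h7, h9⟩ | ⟨h1, h2, h3, h5, h7, h9, h11⟩
      · rcases hd12 with hd' | hd'
        · rw [h, hd'] at h1
          have h4 : q = 4 := by omega
          apply hLne
          rw [h4, hd'] at hG; omega
        · rw [h, hd'] at h1; omega
      · rcases hd12 with hd' | hd'
        · rw [h, hd'] at h1
          have h6 : q = 6 := by omega
          rw [h6, hd'] at hG
          have : Nat.card PSL2 = 210 := by omega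
          rw [this] at hLdvd
          omega
        · rw [h, hd'] at h1; omega
    · exfalso
      rw [h] at hea hepow
      rcases (A5_orders (e x)).2.1 hea with h2 | h2
      · have := hepow 2 h2; omega
      · have := hepow 3 h2; omega
    · exfalso
      rw [h] at hea hepow
      rcases (A5_orders (e x)).2.2.1 hea with h2 | h2
      · have := hepow 2 h2; omega
      · have := hepow 5 h2; omega
    · exfalso
      rw [h] at hea hepow
      rcases (A5_orders (e x)).2.2.2 hea with h2 | h2
      · have := hepow 3 h2; omega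
      · have := hepow 5 h2; omega
    · rw [h]
  · -- `PSL₂(K')`
    obtain ⟨q0, hq0⟩ : ∃ q0, q0 = Fintype.card K' := ⟨_, rfl⟩
    have hK1 : 1 < q0 := by rw [hq0]; exact Fintype.one_lt_card
    have hcL := card_PSL2_mul K'
    rw [← Nat.card_congr e.toEquiv, ← hq0] at hcL
    rw [← hq0] at hm
    have hm0 : m ≠ 0 := by
      rintro rfl
      rw [pow_zero] at hm; omega
    have hm2 : 2 ≤ m := by
      by_contra hcon
      have hm1 : m = 1 := by omega
      rw [hm1, pow_one] at hm
      rw [hm, ← hd] at hcL
      apply hLne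
      exact Nat.eq_of_mul_eq_mul_right hdpos (hcL.trans hG.symm)
    have : CharP K' p := charP_of_card_pow p hpp m f (by rw [← hq0, hm, hf]) hm0
    have hox : orderOf (e x) = a := by
      rw [← hxo]; exact MulEquiv.orderOf_eq e x
    have hord := psl_order p (e x) (by rw [hox]; exact hcop)
    rw [hox, ← hq0] at hord
    obtain ⟨d0, hd0⟩ : ∃ d0, d0 = Nat.gcd 2 (q0 - 1) := ⟨_, rfl⟩
    rw [← hd0] at hord hcL
    have hd0pos : 0 < d0 := by rw [hd0]; exact Nat.gcd_pos_of_pos_left _ (by norm_num)
    have hqq0 : q0 ^ 2 ≤ q := by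
      rw [← hm]; exact Nat.pow_le_pow_right (by omega) hm2
    have hale : d0 * a ≤ q0 + 1 := by
      rcases hord with h | h
      · have := Nat.le_of_dvd (by omega) h; omega
      · exact Nat.le_of_dvd (by omega) h
    have hq03 : q0 ≤ 3 := by
      by_contra hcon
      push Not at hcon
      have h1 : a ≤ q0 + 1 := le_trans (Nat.le_mul_of_pos_left a hd0pos) hale
      have h2 : q - 1 ≤ a * d := by rcases hsq with h | h <;> omega
      have h3 : a * d ≤ a * 2 := Nat.mul_le_mul_left a (by rcases hd12 with h | h <;> omega)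
      have h4 : q0 * 4 ≤ q0 * q0 := Nat.mul_le_mul_left q0 hcon
      have h5 : q0 ^ 2 = q0 * q0 := by ring
      omega
    have hq0cases : q0 = 2 ∨ q0 = 3 := by omega
    rcases hq0cases with h | h
    · -- `q0 = 2`
      rw [h] at hd0 hord hcL hm
      have hd01 : d0 = 1 := by rw [hd0]; norm_num
      rw [hd01, one_mul] at hord
      have ha3' : a = 3 := by
        rcases hord with h' | h'
        · have := Nat.le_of_dvd (by norm_num) h'; omega
        · have := Nat.le_of_dvd (by norm_num) h'; omega
      have hqeven : Even q := by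
        rw [← hm]; exact (Nat.even_pow.2 ⟨even_two, hm0⟩)
      have hd1' := hdeven hqeven
      rw [hd01] at hcL
      have hq44 : 4 ≤ 2 ^ m := by
        calc 4 = 2 ^ 2 := by norm_num
          _ ≤ 2 ^ m := Nat.pow_le_pow_right (by norm_num) hm2
      rcases hsq with hs | hs
      · rw [ha3', hd1'] at hs; omega
      · rw [ha3', hd1'] at hs
        rw [ha3']; omega
    · -- `q0 = 3`
      exfalso
      rw [h] at hd0 hord hm
      have hd02 : d0 = 2 := by rw [hd0]; norm_num
      rw [hd02] at hord
      rcases hord with h' | h'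
      · have := Nat.le_of_dvd (by norm_num) h'; omega
      · have := Nat.le_of_dvd (by norm_num) h'; omega
  · -- `PGL₂(K')`
    obtain ⟨q0, hq0⟩ : ∃ q0, q0 = Fintype.card K' := ⟨_, rfl⟩
    have hK1 : 1 < q0 := by rw [hq0]; exact Fintype.one_lt_card
    have hcL : Nat.card L = q0 * (q0 ^ 2 - 1) := by
      rw [Nat.card_congr e.toEquiv, Cfsg.Agent.S0265.result,
        Cfsg.Agent.H9.SubfieldPSL2.card_SL2_all, hq0]
    rw [← hq0] at hm
    have hm0 : m ≠ 0 := by
      rintro rfl
      rw [pow_zero] at hm; omega
    have hm2 : 2 ≤ m := by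
      by_contra hcon
      have hm1 : m = 1 := by omega
      rw [hm1, pow_one] at hm
      rw [hm] at hcL
      rw [← hcL] at hG
      rcases hd12 with h1 | h2
      · rw [h1, mul_one] at hG
        exact hLne hG.symm
      · rw [h2] at hG
        have := Nat.le_of_dvd Nat.card_pos hLdvd
        omega
    have : CharP K' p := charP_of_card_pow p hpp m f (by rw [← hq0, hm, hf]) hm0
    have hox : orderOf (e x) = a := by
      rw [← hxo]; exact MulEquiv.orderOf_eq e x
    have hord := pgl_order p (e x) (by rw [hox]; exact hcop)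
    rw [hox, ← hq0] at hord
    have hqq0 : q0 ^ 2 ≤ q := by
      rw [← hm]; exact Nat.pow_le_pow_right (by omega) hm2
    have hale : a ≤ q0 + 1 := by
      rcases hord with h | h
      · have := Nat.le_of_dvd (by omega) h; omega
      · exact Nat.le_of_dvd (by omega) h
    have hq03 : q0 ≤ 3 := by
      by_contra hcon
      push Not at hcon
      have h2 : q - 1 ≤ a * d := by rcases hsq with h | h <;> omega
      have h3 : a * d ≤ a * 2 := Nat.mul_le_mul_left a (by rcases hd12 with h | h <;> omega)
      have h4 : q0 * 4 ≤ q0 * q0 := Nat.mul_le_mul_left q0 hcon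
      have h5 : q0 ^ 2 = q0 * q0 := by ring
      omega
    have hq0cases : q0 = 2 ∨ q0 = 3 := by omega
    rcases hq0cases with h | h
    · -- `q0 = 2`
      rw [h] at hord hcL hm
      have ha3' : a = 3 := by
        rcases hord with h' | h'
        · have := Nat.le_of_dvd (by norm_num) h'; omega
        · have := Nat.le_of_dvd (by norm_num) h'; omega
      rw [hcL, ha3']
      norm_num
    · -- `q0 = 3`
      exfalso
      rw [h] at hord hm
      have hqodd : Odd q := by
        rw [← hm]; exact Odd.pow (by decide)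
      have hd2' := hdodd hqodd
      have hq9 : 9 ≤ q := by
        rw [← hm]
        calc 9 = 3 ^ 2 := by norm_num
          _ ≤ 3 ^ m := Nat.pow_le_pow_right (by norm_num) hm2
      have ha24 : a ≤ 4 := by
        rcases hord with h' | h'
        · have := Nat.le_of_dvd (by norm_num) h'; omega
        · exact Nat.le_of_dvd (by norm_num) h'
      rcases hsign with ⟨h1, h2, h7, h9⟩ | ⟨h1, h2, h3, h5, h7, h9, h11⟩
      · rw [hd2'] at h1; omega
      · rw [hd2'] at h1; omega

end Cfsg.Agent.H9.PSL2MaxDih
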