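import Mathlib
import Cfsg.Agent.H9.PSL2MaxDih
import Cfsg.Agent.H9.DicksonSub
import Cfsg.Agent.S0253
import Cfsg.Agent.S0144
import Cfsg.Agent.S0804

set_option autoImplicit false

/-! Solvability facts used for the minimal simple groups `PSL₂(q)`. -/

namespace Cfsg.Agent.H9.PSL2MinSimple

open Matrix
open Cfsg.Agent.H9.AutPSL2

universe u

/-- the sign character of a dihedral group -/
def dsgn (k : ℕ) : DihedralGroup k →* Multiplicative (ZMod 2) where
  toFun g := match g with
    | DihedralGroup.r _ => Multiplicative.ofAdd 0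
    | DihedralGroup.sr _ => Multiplicative.ofAdd 1
  map_one' := rfl
  map_mul' := by
    rintro (i | i) (j | j)
    · rfl
    · rfl
    · rfl
    · show Multiplicative.ofAdd (0 : ZMod 2) = Multiplicative.ofAdd 1 * Multiplicative.ofAdd 1
      rw [← ofAdd_add]
      rfl

/-- dihedral groups are solvable -/
theorem isSolvable_dihedral (k : ℕ) : Group.IsSolvable (DihedralGroup k) := by
  have hk : ∀ a b : (dsgn k).ker, a * b = b * a := by
    rintro ⟨a, ha⟩ ⟨b, hb⟩
    apply Subtype.ext
    show a * b = b * a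
    rw [MonoidHom.mem_ker] at ha hb
    rcases a with i | i
    · rcases b with j | j
      · rw [DihedralGroup.r_mul_r, DihedralGroup.r_mul_r, add_comm]
      · exfalso
        have : Multiplicative.ofAdd (1 : ZMod 2) = 1 := hb
        have h2 : (1 : ZMod 2) = 0 := this
        exact one_ne_zero h2
    · exfalso
      have : Multiplicative.ofAdd (1 : ZMod 2) = 1 := ha
      have h2 : (1 : ZMod 2) = 0 := this
      exact one_ne_zero h2
  have : Group.IsSolvable (dsgn k).ker := Group.isSolvable_of_comm hk
  exact Group.isSolvable_of_ker_le_range (dsgn k).ker.subtype (dsgn k) (by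
    intro x hx
    exact ⟨⟨x, hx⟩, rfl⟩)

variable {F : Type u} [Field F] [Fintype F]

local notation "SL2" => Matrix.SpecialLinearGroup (Fin 2) F
local notation "PSL2" => Matrix.ProjectiveSpecialLinearGroup (Fin 2) F

/-- `PSL₂(q)` is simple for `q ≥ 4` -/
theorem isSimple (hq4 : 4 ≤ Fintype.card F) : IsSimpleGroup PSL2 := by
  obtain ⟨e, he⟩ := Cfsg.Agent.H9.PSL2Tori.exists_unit_sq_ne hq4
  exact Cfsg.Agent.S0253.psl_two_simple ⟨(e : F), e.ne_zero, he⟩

omit [Fintype F] in
/-- `PSL₂(F)` is not commutative -/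
theorem not_comm : ¬ IsMulCommutative PSL2 := by
  intro h
  exact Cfsg.Agent.H9.DicksonMax.pr_u_l_ne (F := F) ((isMulCommutative_iff.1 h) _ _)

/-- `PSL₂(q)` is not solvable for `q ≥ 4` -/
theorem not_solvable (hq4 : 4 ≤ Fintype.card F) : ¬ Group.IsSolvable PSL2 := by
  intro h
  have := isSimple hq4
  have hc := IsSimpleGroup.comm_iff_isSolvable.2 h
  exact Cfsg.Agent.H9.DicksonMax.pr_u_l_ne (F := F) (hc _ _)

/-- a group isomorphic to a non-solvable group is not solvable -/
theorem not_solvable_of_equiv {X Y : Type*} [Group X] [Group Y] (e : X ≃* Y)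
    (h : ¬ Group.IsSolvable Y) : ¬ Group.IsSolvable X := by
  intro hX
  exact h (Group.isSolvable_of_surjective (f := e.toMonoidHom) e.surjective)

end Cfsg.Agent.H9.PSL2MinSimple
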