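import Mathlib
import Cfsg.Agent.H9.DicksonMain
import Cfsg.Agent.H9.DicksonMax2
import Cfsg.Agent.H9.DicksonSub
import Cfsg.Agent.H9.PSL2MaxAux
import Cfsg.Agent.H9.PSL2MaxDih

set_option autoImplicit false

/-! A pair of unipotent elements of `SL₂(F)` whose product has trace `0` generates a group
containing a copy of `SL₂(𝔽_p)`; subgroups with several Sylow `p`-subgroups contain such a pair. -/

namespace Cfsg.Agent.H9.SL2Pair

open Matrix
open Cfsg.Agent.H9.AutPSL2
open Cfsg.Agent.H9.DicksonUN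
open Cfsg.Agent.H9.DicksonIso
open Cfsg.Agent.H9.DicksonSS

universe u

section pair

variable {F : Type u} [Field F]

local notation "SL2" => Matrix.SpecialLinearGroup (Fin 2) F

theorem l_pow (a : F) (k : ℕ) : (l a) ^ k = l (k * a) := by
  induction k with
  | zero => simp [l_zero]
  | succ k ih =>
    rw [pow_succ, ih, ← l_add]
    congr 1
    push_cast
    ring

theorem trace_conj' (m y : SL2) : (m * y * m⁻¹).1.trace = y.1.trace := by
  rw [Matrix.trace_fin_two, Matrix.trace_fin_two]
  simp only [mul_00, mul_01, mul_10, mul_11, inv_00, inv_01, inv_10, inv_11]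
  have hd := det_eq m
  linear_combination (y.1 0 0 + y.1 1 1) * hd

/-- simultaneous conjugation of a pair of unipotent elements -/
theorem exists_conj_pair (x y : SL2) (hx : x.1.trace = 2) (hy : y.1.trace = 2)
    (hxy : (x * y).1.trace ≠ 2) :
    ∃ (M : SL2) (c b : F), c ≠ 0 ∧ M * x * M⁻¹ = u c ∧ M * y * M⁻¹ = l b ∧
      (x * y).1.trace = 2 + c * b := by
  obtain ⟨m, c, hm⟩ := exists_conj_u x hx
  set y' : SL2 := m * y * m⁻¹ with hy'
  have hty : y'.1.trace = 2 := by rw [hy', trace_conj', hy]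
  have hprod : (x * y).1.trace = 2 + c * y'.1 1 0 := by
    have e : m * (x * y) * m⁻¹ = u c * y' := by rw [← hm, hy']; group
    rw [← trace_conj' m (x * y), e, Matrix.trace_fin_two]
    rw [Matrix.trace_fin_two] at hty
    simp only [mul_00, mul_11, u_00, u_01, u_10, u_11]
    linear_combination hty
  have hcg : c * y'.1 1 0 ≠ 0 := by
    intro h
    apply hxy
    rw [hprod, h, add_zero]
  have hc : c ≠ 0 := left_ne_zero_of_mul hcg
  have hg : y'.1 1 0 ≠ 0 := right_ne_zero_of_mul hcg
  set ω : F := (y'.1 0 0 - 1) / y'.1 1 0 with hω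
  have hωg : ω * y'.1 1 0 = y'.1 0 0 - 1 := by rw [hω]; field_simp
  clear_value ω
  refine ⟨u (-ω) * m, c, y'.1 1 0, hc, ?_, ?_, hprod⟩
  · have : u (-ω) * m * x * (u (-ω) * m)⁻¹ = u (-ω) * (m * x * m⁻¹) * (u (-ω))⁻¹ := by group
    rw [this, hm, u_inv, neg_neg, ← u_add, ← u_add]
    congr 1
    ring
  · have : u (-ω) * m * y * (u (-ω) * m)⁻¹ = u (-ω) * y' * (u (-ω))⁻¹ := by rw [hy']; group
    rw [this, u_inv, neg_neg]
    have hd := det_eq y'
    rw [Matrix.trace_fin_two] at hty
    apply ext4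
    · simp only [mul_00, mul_01, mul_10, mul_11, u_00, u_01, u_10, u_11, l_00]
      linear_combination -hωg
    · simp only [mul_00, mul_01, mul_10, mul_11, u_00, u_01, u_10, u_11, l_01]
      have h1 : y'.1 1 0 * ((1 * y'.1 0 0 + -ω * y'.1 1 0) * ω +
          (1 * y'.1 0 1 + -ω * y'.1 1 1) * 1) = 0 := by
        linear_combination hty - hd + (2 - y'.1 0 0 - y'.1 1 1 - (ω * y'.1 1 0 - (y'.1 0 0 - 1))) * hωg
      rcases mul_eq_zero.1 h1 with h | h
      · exact absurd h hg
      · exact h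
    · simp only [mul_00, mul_01, mul_10, mul_11, u_00, u_01, u_10, u_11, l_10]
      ring
    · simp only [mul_00, mul_01, mul_10, mul_11, u_00, u_01, u_10, u_11, l_11]
      linear_combination hωg + hty

/-- two unipotent elements whose product has trace `0` generate a group containing `SL₂(𝔽_p)` -/
theorem exists_SL2p (p : ℕ) [Fact p.Prime] [CharP F p] (hp : p ≠ 2) (H : Subgroup SL2)
    (x y : SL2) (hxH : x ∈ H) (hyH : y ∈ H) (hx : x.1.trace = 2) (hy : y.1.trace = 2)
    (hxy : (x * y).1.trace = 0) :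
    ∃ K : Subgroup SL2, K ≤ H ∧
      Nonempty (K ≃* Matrix.SpecialLinearGroup (Fin 2) (ZMod p)) := by
  have h2 : (2 : F) ≠ 0 := by
    intro h
    have h' : ((2 : ℕ) : F) = 0 := by exact_mod_cast h
    rw [CharP.cast_eq_zero_iff F p] at h'
    have := (Nat.prime_dvd_prime_iff_eq (Fact.out : p.Prime) Nat.prime_two).1 h'
    exact hp this
  obtain ⟨M, c, b, hc, hMx, hMy, htr⟩ := exists_conj_pair x y hx hy (by rw [hxy]; exact h2.symm)
  have hcb : c * b = -2 := by
    rw [hxy] at htr
    linear_combination -htr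
  set ι : ZMod p →+* F := ZMod.castHom (dvd_refl p) F with hι
  set c' : Fˣ := Units.mk0 c hc with hc'
  set φ : Matrix.SpecialLinearGroup (Fin 2) (ZMod p) →* SL2 :=
    (MulAut.conj M⁻¹).toMonoidHom.comp (psi ι c') with hφ
  have hinj : Function.Injective φ := by
    intro a a' h
    apply psi_injective ι c'
    exact (MulAut.conj M⁻¹).injective h
  refine ⟨φ.range, ?_, ⟨(MonoidHom.ofInjective hinj).symm⟩⟩
  set H' : Subgroup SL2 := H.comap (MulAut.conj M⁻¹).toMonoidHom with hH'
  have huc : u c ∈ H' := by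
    show M⁻¹ * u c * M⁻¹⁻¹ ∈ H
    rw [← hMx]
    have : M⁻¹ * (M * x * M⁻¹) * M⁻¹⁻¹ = x := by group
    rw [this]; exact hxH
  have hlb : l b ∈ H' := by
    show M⁻¹ * l b * M⁻¹⁻¹ ∈ H
    rw [← hMy]
    have : M⁻¹ * (M * y * M⁻¹) * M⁻¹⁻¹ = y := by group
    rw [this]; exact hyH
  have hιk : ∀ k : ZMod p, ι k = ((k.val : ℕ) : F) := by
    intro k
    conv_lhs => rw [← ZMod.natCast_zmod_val k]
    rw [map_natCast]
  have hmem : ∀ m, psi ι c' m ∈ H' := by
    apply psi_mem ι c' H'
    · intro k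
      have : u ((c' : F) * ι k) = (u c) ^ k.val := by
        rw [u_pow, hιk]
        congr 1
        show c * _ = _
        ring
      rw [this]
      exact H'.pow_mem huc _
    · intro k
      set j : ZMod p := k * (-2 : ZMod p)⁻¹ with hj
      have hιj : ι j = ι k * (-2 : F)⁻¹ := by
        rw [hj, map_mul, map_inv₀, map_neg, map_ofNat]
      have : l (((c'⁻¹ : Fˣ) : F) * ι k) = (l b) ^ j.val := by
        rw [l_pow, ← hιk, hιj]
        congr 1
        rw [Units.val_inv_eq_inv_val]
        show c⁻¹ * _ = _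
        have hn2 : (-2 : F) ≠ 0 := neg_ne_zero.2 h2
        field_simp
        linear_combination (ι k) * hcb
      rw [this]
      exact H'.pow_mem hlb _
  rintro _ ⟨m, rfl⟩
  exact hmem m

end pair

section good

/-- a pair of `p`-elements with product an involution -/
def Good (p : ℕ) (X : Type*) [Group X] : Prop :=
  ∃ a b : X, a ^ p = 1 ∧ b ^ p = 1 ∧ (a * b) ^ 2 = 1 ∧ a * b ≠ 1

theorem Good.of_hom {p : ℕ} {X Y : Type*} [Group X] [Group Y] (f : X →* Y)
    (hf : Function.Injective f) (h : Good p X) : Good p Y := by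
  obtain ⟨a, b, ha, hb, hab, hne⟩ := h
  refine ⟨f a, f b, ?_, ?_, ?_, ?_⟩
  · rw [← map_pow, ha, map_one]
  · rw [← map_pow, hb, map_one]
  · rw [← map_mul, ← map_pow, hab, map_one]
  · rw [← map_mul]
    intro h
    exact hne (hf (by rw [h, map_one]))

theorem good_A4 : Good 3 (alternatingGroup (Fin 4)) := by
  refine ⟨⟨c[1, 2, 3], by rw [Equiv.Perm.mem_alternatingGroup]; decide⟩,
    ⟨c[0, 1, 2], by rw [Equiv.Perm.mem_alternatingGroup]; decide⟩, ?_, ?_, ?_, ?_⟩
  · apply Subtype.ext; decide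
  · apply Subtype.ext; decide
  · apply Subtype.ext; decide
  · intro h
    have := congrArg Subtype.val h
    revert this
    decide

theorem good_S4 : Good 3 (Equiv.Perm (Fin 4)) :=
  good_A4.of_hom (alternatingGroup (Fin 4)).subtype Subtype.val_injective

set_option maxRecDepth 100000 in
theorem good_A5_three : Good 3 (alternatingGroup (Fin 5)) := by
  refine ⟨⟨c[2, 3, 4], by rw [Equiv.Perm.mem_alternatingGroup]; decide⟩,
    ⟨c[1, 2, 3], by rw [Equiv.Perm.mem_alternatingGroup]; decide⟩, ?_, ?_, ?_, ?_⟩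
  · apply Subtype.ext; decide
  · apply Subtype.ext; decide
  · apply Subtype.ext; decide
  · intro h
    have := congrArg Subtype.val h
    revert this
    decide

set_option maxRecDepth 100000 in
theorem good_A5_five : Good 5 (alternatingGroup (Fin 5)) := by
  refine ⟨⟨c[0, 1, 2, 3, 4], by rw [Equiv.Perm.mem_alternatingGroup]; decide⟩,
    ⟨c[0, 1, 2, 4, 3], by rw [Equiv.Perm.mem_alternatingGroup]; decide⟩, ?_, ?_, ?_, ?_⟩
  · apply Subtype.ext; decide
  · apply Subtype.ext; decide
  · apply Subtype.ext; decide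
  · intro h
    have := congrArg Subtype.val h
    revert this
    decide

variable {K : Type*} [Field K] [Fintype K]

theorem good_PSL2 (p : ℕ) [Fact p.Prime] [CharP K p] :
    Good p (Matrix.ProjectiveSpecialLinearGroup (Fin 2) K) := by
  refine ⟨pr (u 1), pr (l (-2)), Cfsg.Agent.H9.DicksonMax.pr_u_pow p 1, ?_, ?_, ?_⟩
  · rw [← map_pow, pow_p_of_trace p (l (-2)) (by rw [Matrix.trace_fin_two, l_00, l_11]; norm_num),
      map_one]
  · rw [← map_mul, ← map_pow, ← map_one (pr : Matrix.SpecialLinearGroup (Fin 2) K →* _),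
      pr_eq_iff]
    right
    apply ext4 <;> simp [sq, mul_00, mul_01, mul_10, mul_11] <;> ring
  · rw [Ne, ← map_mul, ← map_one (pr : Matrix.SpecialLinearGroup (Fin 2) K →* _), pr_eq_iff]
    rintro (h | h)
    · have := congrArg (fun g : Matrix.SpecialLinearGroup (Fin 2) K => g.1 0 1) h
      simp [mul_01] at this
    · have := congrArg (fun g : Matrix.SpecialLinearGroup (Fin 2) K => g.1 0 1) h
      simp [mul_01] at this

theorem good_PGL2 (p : ℕ) [Fact p.Prime] [CharP K p] :
    Good p (Matrix.ProjGenLinGroup (Fin 2) K) :=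
  (good_PSL2 (K := K) p).of_hom Matrix.ProjectiveSpecialLinearGroup.toPGL
    Matrix.ProjectiveSpecialLinearGroup.toPGL_injective

end good

section main

variable {F : Type u} [Field F] [Fintype F]

local notation "SL2" => Matrix.SpecialLinearGroup (Fin 2) F
local notation "PSL2" => Matrix.ProjectiveSpecialLinearGroup (Fin 2) F

/-- the product of `H` with the centre `{±1}` -/
def ext (H : Subgroup SL2) : Subgroup SL2 where
  carrier := {g | g ∈ H ∨ -g ∈ H}
  mul_mem' := by
    rintro a b (ha | ha) (hb | hb)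
    · left; exact H.mul_mem ha hb
    · right
      have : -(a * b) = a * -b := by rw [mul_neg]
      rw [this]; exact H.mul_mem ha hb
    · right
      have : -(a * b) = -a * b := by rw [neg_mul]
      rw [this]; exact H.mul_mem ha hb
    · left
      have : a * b = -a * -b := by rw [neg_mul_neg]
      rw [this]; exact H.mul_mem ha hb
  one_mem' := Or.inl H.one_mem
  inv_mem' := by
    rintro a (ha | ha)
    · left; exact H.inv_mem ha
    · right
      have : -a⁻¹ = (-a)⁻¹ := by
        symm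
        apply inv_eq_of_mul_eq_one_right
        rw [neg_mul_neg, mul_inv_cancel]
      show -a⁻¹ ∈ H
      rw [this]; exact H.inv_mem ha

theorem mem_ext (H : Subgroup SL2) (g : SL2) : g ∈ ext H ↔ g ∈ H ∨ -g ∈ H := Iff.rfl

theorem le_ext (H : Subgroup SL2) : H ≤ ext H := fun _ h => Or.inl h

theorem neg_mem_ext (H : Subgroup SL2) (g : SL2) (hg : g ∈ ext H) : -g ∈ ext H := by
  rcases hg with h | h
  · right; rwa [neg_neg]
  · left; exact h

theorem center_le_ext (H : Subgroup SL2) : Subgroup.center SL2 ≤ ext H := by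
  intro z hz
  rcases (mem_center_iff' z).1 hz with rfl | rfl
  · exact (ext H).one_mem
  · exact neg_mem_ext H 1 (ext H).one_mem

/-- an element of odd order of `ext H` lies in `H` -/
theorem mem_of_pow_odd (H : Subgroup SL2) (g : SL2) (hg : g ∈ ext H) (n : ℕ) (hn : Odd n)
    (hgn : g ^ n = 1) : g ∈ H := by
  rcases hg with h | h
  · exact h
  · have h1 : (-g) ^ (n + 1) = g := by
      rw [Even.neg_pow (Odd.add_one hn), pow_succ, hgn, one_mul]
    rw [← h1]
    exact H.pow_mem h _

/-- non-commuting `p`-elements in a subgroup with several Sylow `p`-subgroups -/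
theorem exists_noncomm {X : Type*} [Group X] [Finite X] (p : ℕ) [Fact p.Prime]
    (hX : 1 < Nat.card (Sylow p X)) :
    ∃ (x y : X) (a b : ℕ), x ^ (p ^ a) = 1 ∧ y ^ (p ^ b) = 1 ∧ x * y ≠ y * x := by
  have : Nontrivial (Sylow p X) := Finite.one_lt_card_iff_nontrivial.1 hX
  obtain ⟨P1, P2, hne⟩ := exists_pair_ne (Sylow p X)
  by_contra hcon
  push Not at hcon
  have hcomm : ∀ x ∈ (P1 : Subgroup X), ∀ y ∈ (P2 : Subgroup X), x * y = y * x := by
    intro x hx y hy
    obtain ⟨a, ha⟩ := P1.isPGroup' ⟨x, hx⟩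
    obtain ⟨b, hb⟩ := P2.isPGroup' ⟨y, hy⟩
    have ha' : x ^ (p ^ a) = 1 := by simpa using congrArg Subtype.val ha
    have hb' : y ^ (p ^ b) = 1 := by simpa using congrArg Subtype.val hb
    exact hcon x y a b ha' hb'
  have hN : (P2 : Subgroup X) ≤ Subgroup.normalizer (P1 : Subgroup X) := by
    intro y hy
    rw [Subgroup.mem_normalizer_iff]
    intro x
    constructor
    · intro hx
      have := hcomm x hx y hy
      have e : y * x * y⁻¹ = x := by rw [← this]; group
      rw [e]; exact hx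
    · intro hx
      have := hcomm _ hx y hy
      have e : x = y * x * y⁻¹ := by
        calc x = y⁻¹ * (y * x * y⁻¹ * y) := by group
          _ = y⁻¹ * (y * (y * x * y⁻¹)) := by rw [this]
          _ = y * x * y⁻¹ := by group
      rw [e]; exact hx
  have hP := IsPGroup.to_sup_of_normal_left' P1.isPGroup' P2.isPGroup' hN
  have h1 := P1.is_maximal' hP le_sup_left
  have h2 : (P2 : Subgroup X) ≤ P1 := by rw [← h1]; exact le_sup_right
  have h3 := P2.is_maximal' P1.isPGroup' h2
  exact hne (Sylow.ext h3)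

omit [Fintype F] in
theorem neg_one_ne_one (h2 : (2 : F) ≠ 0) : (-1 : SL2) ≠ 1 := by
  intro h
  have := congrArg (fun g : SL2 => g.1 0 0) h
  simp only [neg_00] at this
  apply h2
  have h1 : (1 : SL2).1 0 0 = 1 := by simp
  rw [h1] at this
  linear_combination -this

omit [Fintype F] in
theorem trace_zero_of_sq (z : SL2) (hz : z * z = -1) : z.1.trace = 0 := by
  have hc := cayley z
  have h1 : z.1 * z.1 = -1 := by
    rw [← Matrix.SpecialLinearGroup.coe_mul, hz]; simp
  rw [h1] at hc
  have e00 := congrFun (congrFun hc 0) 0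
  have e01 := congrFun (congrFun hc 0) 1
  have e10 := congrFun (congrFun hc 1) 0
  have e11 := congrFun (congrFun hc 1) 1
  simp only [Matrix.sub_apply, Matrix.smul_apply, Matrix.neg_apply, Matrix.one_apply_eq,
    smul_eq_mul] at e00 e11
  have n01 : (0 : Fin 2) ≠ 1 := by decide
  have n10 : (1 : Fin 2) ≠ 0 := by decide
  simp only [Matrix.sub_apply, Matrix.smul_apply, Matrix.neg_apply, Matrix.one_apply_ne n01,
    Matrix.one_apply_ne n10, smul_eq_mul] at e01 e10
  have hd := det_eq z
  linear_combination (-z.1.trace) * hd - (z.1 1 1) * e00 + (z.1 1 0) * e01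

/-- lifting an element of order `p` -/
theorem lift_p (p : ℕ) (hodd : Odd p) (G : Subgroup SL2) (hneg : ∀ g ∈ G, -g ∈ G)
    (a : G.map (pr : SL2 →* PSL2)) (ha : a ^ p = 1) :
    ∃ x ∈ G, x ^ p = 1 ∧ pr x = a.1 := by
  obtain ⟨x0, hx0, hx0a⟩ := a.2
  have h1 : pr (x0 ^ p) = pr (1 : SL2) := by
    rw [map_pow, hx0a, map_one]
    have := congrArg Subtype.val ha
    simpa using this
  rw [pr_eq_iff] at h1
  rcases h1 with h1 | h1
  · exact ⟨x0, hx0, h1, hx0a⟩
  · refine ⟨-x0, hneg _ hx0, ?_, ?_⟩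
    · rw [Odd.neg_pow hodd, h1, neg_neg]
    · rw [← hx0a, pr_eq_iff]
      right; rfl

/-- a subgroup of `SL₂(F)`, `F` of odd characteristic `p`, with more than one Sylow
`p`-subgroup contains two unipotent elements whose product has trace `0` -/
theorem exists_pair (p : ℕ) [Fact p.Prime] [CharP F p] (hp : p ≠ 2) (H : Subgroup SL2)
    (hH : 1 < Nat.card (Sylow p H)) :
    ∃ x y : SL2, x ∈ H ∧ y ∈ H ∧ x.1.trace = 2 ∧ y.1.trace = 2 ∧ (x * y).1.trace = 0 := by
  classical
  have hpr : p.Prime := Fact.out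
  have hodd : Odd p := hpr.odd_of_ne_two hp
  have h2 : (2 : F) ≠ 0 := by
    intro h
    have h' : ((2 : ℕ) : F) = 0 := by exact_mod_cast h
    rw [CharP.cast_eq_zero_iff F p] at h'
    exact hp ((Nat.prime_dvd_prime_iff_eq hpr Nat.prime_two).1 h')
  obtain ⟨x0, y0, a, b, hx0, hy0, hne0⟩ := exists_noncomm p hH
  have hx0' : (x0 : SL2) ^ (p ^ a) = 1 := by simpa using congrArg Subtype.val hx0
  have hy0' : (y0 : SL2) ^ (p ^ b) = 1 := by simpa using congrArg Subtype.val hy0
  have hZ := center_le_ext H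
  have hx0G : (x0 : SL2) ∈ ext H := le_ext H x0.2
  have hy0G : (y0 : SL2) ∈ ext H := le_ext H y0.2
  set xb : (ext H).map (pr : SL2 →* PSL2) := ⟨pr x0.1, ⟨x0.1, hx0G, rfl⟩⟩ with hxbdef
  set yb : (ext H).map (pr : SL2 →* PSL2) := ⟨pr y0.1, ⟨y0.1, hy0G, rfl⟩⟩ with hybdef
  have hxb : xb ^ (p ^ a) = 1 := by
    apply Subtype.ext
    show (pr x0.1) ^ (p ^ a) = 1
    rw [← map_pow, hx0', map_one]
  have hyb : yb ^ (p ^ b) = 1 := by
    apply Subtype.ext
    show (pr y0.1) ^ (p ^ b) = 1
    rw [← map_pow, hy0', map_one]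
  have hneb : xb * yb ≠ yb * xb := by
    intro h
    have h' : pr x0.1 * pr y0.1 = (pr y0.1 * pr x0.1 : PSL2) := congrArg Subtype.val h
    rw [← map_mul, ← map_mul, pr_eq_iff] at h'
    rcases h' with h' | h'
    · exact hne0 (Subtype.ext h')
    · have e : x0.1 * y0.1 * x0.1⁻¹ = -y0.1 := by
        rw [h', neg_mul, mul_assoc, mul_inv_cancel, mul_one]
      have h3 : (x0.1 * y0.1 * x0.1⁻¹) ^ (p ^ b) = 1 := by
        rw [conj_pow, hy0', mul_one, mul_inv_cancel]
      rw [e, Odd.neg_pow (hodd.pow), hy0'] at h3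
      exact neg_one_ne_one h2 h3
  -- orders
  have hord : ∀ (z : (ext H).map (pr : SL2 →* PSL2)) (k : ℕ), z ^ (p ^ k) = 1 → z ≠ 1 →
      p ∣ orderOf z := by
    intro z k hz hz1
    obtain ⟨j, -, hj⟩ := (Nat.dvd_prime_pow hpr).1 (orderOf_dvd_of_pow_eq_one hz)
    rcases Nat.eq_zero_or_pos j with rfl | hjpos
    · rw [pow_zero, orderOf_eq_one_iff] at hj
      exact absurd hj hz1
    · rw [hj]; exact dvd_pow_self p (by omega)
  have hxb1 : xb ≠ 1 := by
    rintro h
    apply hneb; rw [h, one_mul, mul_one]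
  have hyb1 : yb ≠ 1 := by
    rintro h
    apply hneb; rw [h, one_mul, mul_one]
  have hpx := hord xb a hxb hxb1
  have hpy := hord yb b hyb hyb1
  have hp3 : 3 ≤ p := by
    have := hpr.two_le
    omega
  have hcard : p ∣ Nat.card ((ext H).map (pr : SL2 →* PSL2)) :=
    hpx.trans (orderOf_dvd_natCard xb)
  have hD := dickson_SL2 (Fintype.card F) p rfl (ext H) hZ
  have hgood : Good p ((ext H).map (pr : SL2 →* PSL2)) := by
    rcases hD with ⟨k, hk, ⟨hc, hck⟩ | ⟨⟨e⟩⟩⟩ | ⟨P, K', hK', ⟨e⟩⟩ | ⟨⟨e⟩⟩ | ⟨⟨e⟩⟩ | ⟨⟨e⟩⟩ |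
      ⟨K', i1, i2, m, hm, ⟨⟨e⟩⟩ | ⟨⟨e⟩⟩⟩
    · exfalso
      haveI := hc
      exact Cfsg.Agent.H9.DicksonMax.no_cyclic xb yb hneb (MonoidHom.id _) Function.injective_id
    · exfalso
      have h1 : 2 < orderOf xb := by
        have := Nat.le_of_dvd (orderOf_pos xb) hpx
        omega
      have h2' : 2 < orderOf yb := by
        have := Nat.le_of_dvd (orderOf_pos yb) hpy
        omega
      exact Cfsg.Agent.H9.DicksonMax.no_dihedral xb yb h1 h2' hneb e.toMonoidHom e.injective
    · exfalso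
      exact Cfsg.Agent.H9.DicksonMax.no_borel' p xb yb a b hxb hyb hneb
        (K'.subtype.comp e.toMonoidHom) (K'.subtype_injective.comp e.injective) P
        (fun z => hK' (e z).2)
    · have hc12 : Nat.card ((ext H).map (pr : SL2 →* PSL2)) = 12 := by
        rw [Nat.card_congr e.toEquiv, nat_card_alternatingGroup]
        simp [Nat.factorial]
      rw [hc12] at hcard
      have hp' : p = 3 := by
        have h12 : (12 : ℕ) = 2 ^ 2 * 3 := by norm_num
        rw [h12] at hcard
        rcases (Nat.Prime.dvd_mul hpr).1 hcard with h | h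
        · exact absurd ((Nat.prime_dvd_prime_iff_eq hpr Nat.prime_two).1 (hpr.dvd_of_dvd_pow h)) hp
        · exact (Nat.prime_dvd_prime_iff_eq hpr Nat.prime_three).1 h
      rw [hp']
      exact good_A4.of_hom e.symm.toMonoidHom e.symm.injective
    · have hc24 : Nat.card ((ext H).map (pr : SL2 →* PSL2)) = 24 := by
        rw [Nat.card_congr e.toEquiv, Nat.card_eq_fintype_card, Fintype.card_perm]
        simp [Nat.factorial]
      rw [hc24] at hcard
      have hp' : p = 3 := by
        have h24 : (24 : ℕ) = 2 ^ 3 * 3 := by norm_num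
        rw [h24] at hcard
        rcases (Nat.Prime.dvd_mul hpr).1 hcard with h | h
        · exact absurd ((Nat.prime_dvd_prime_iff_eq hpr Nat.prime_two).1 (hpr.dvd_of_dvd_pow h)) hp
        · exact (Nat.prime_dvd_prime_iff_eq hpr Nat.prime_three).1 h
      rw [hp']
      exact good_S4.of_hom e.symm.toMonoidHom e.symm.injective
    · have hc60 : Nat.card ((ext H).map (pr : SL2 →* PSL2)) = 60 := by
        rw [Nat.card_congr e.toEquiv, nat_card_alternatingGroup]
        simp [Nat.factorial]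
      rw [hc60] at hcard
      have hp' : p = 3 ∨ p = 5 := by
        have h60 : (60 : ℕ) = 2 ^ 2 * 3 * 5 := by norm_num
        rw [h60] at hcard
        rcases (Nat.Prime.dvd_mul hpr).1 hcard with h | h
        · rcases (Nat.Prime.dvd_mul hpr).1 h with h | h
          · exact absurd ((Nat.prime_dvd_prime_iff_eq hpr Nat.prime_two).1
              (hpr.dvd_of_dvd_pow h)) hp
          · exact Or.inl ((Nat.prime_dvd_prime_iff_eq hpr Nat.prime_three).1 h)
        · exact Or.inr ((Nat.prime_dvd_prime_iff_eq hpr Nat.prime_five).1 h)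
      rcases hp' with hp' | hp'
      · rw [hp']
        exact good_A5_three.of_hom e.symm.toMonoidHom e.symm.injective
      · rw [hp']
        exact good_A5_five.of_hom e.symm.toMonoidHom e.symm.injective
    · obtain ⟨f, -, hf⟩ := FiniteField.card F p
      have hm0 : m ≠ 0 := by
        rintro rfl
        rw [pow_zero] at hm
        have : 1 < Fintype.card F := Fintype.one_lt_card
        omega
      have hm' : Fintype.card K' ^ m = p ^ (f : ℕ) := by rw [hm, hf]
      haveI : CharP K' p := Cfsg.Agent.H9.PSL2MaxDih.charP_of_card_pow p hpr m f hm' hm0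
      exact (good_PSL2 (K := K') p).of_hom e.symm.toMonoidHom e.symm.injective
    · obtain ⟨f, -, hf⟩ := FiniteField.card F p
      have hm0 : m ≠ 0 := by
        rintro rfl
        rw [pow_zero] at hm
        have : 1 < Fintype.card F := Fintype.one_lt_card
        omega
      have hm' : Fintype.card K' ^ m = p ^ (f : ℕ) := by rw [hm, hf]
      haveI : CharP K' p := Cfsg.Agent.H9.PSL2MaxDih.charP_of_card_pow p hpr m f hm' hm0
      exact (good_PGL2 (K := K') p).of_hom e.symm.toMonoidHom e.symm.injective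
  obtain ⟨ab, bb, hab, hbb, hsq, hne1⟩ := hgood
  obtain ⟨x1, hx1G, hx1p, hx1a⟩ := lift_p p hodd (ext H) (neg_mem_ext H) ab hab
  obtain ⟨y1, hy1G, hy1p, hy1b⟩ := lift_p p hodd (ext H) (neg_mem_ext H) bb hbb
  have hx1H : x1 ∈ H := mem_of_pow_odd H x1 hx1G p hodd hx1p
  have hy1H : y1 ∈ H := mem_of_pow_odd H y1 hy1G p hodd hy1p
  refine ⟨x1, y1, hx1H, hy1H, trace_of_pow_p p x1 1 (by rw [pow_one]; exact hx1p),
    trace_of_pow_p p y1 1 (by rw [pow_one]; exact hy1p), ?_⟩
  apply trace_zero_of_sq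
  have h1 : pr ((x1 * y1) ^ 2) = pr (1 : SL2) := by
    rw [map_pow, map_mul, hx1a, hy1b, map_one]
    have := congrArg Subtype.val hsq
    simpa using this
  rw [pr_eq_iff] at h1
  rcases h1 with h1 | h1
  · exfalso
    apply hne1
    apply Subtype.ext
    show ab.1 * bb.1 = 1
    rw [← hx1a, ← hy1b, ← map_mul, ← map_one (pr : SL2 →* PSL2), pr_eq_iff]
    rw [sq] at h1
    exact Cfsg.Agent.H9.PSL2MaxAux.sq_eq_one h2 _ h1
  · rw [← sq]; exact h1

end main

end Cfsg.Agent.H9.SL2Pair
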