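import Mathlib
import Cfsg.Agent.H9.SL2Pair
import Cfsg.Agent.H9.PSL2Tori

set_option autoImplicit false

/-! Dickson's lemma on the subgroup of `SL₂(F)` generated by two transvections: tools. -/

namespace Cfsg.Agent.H9.TwoTransv

open Matrix
open Cfsg.Agent.H9.AutPSL2
open Cfsg.Agent.H9.DicksonUN
open Cfsg.Agent.H9.DicksonSS

universe u

section fix

variable {F : Type u} [Field F] [Fintype F]

/-- if a generator of the field is fixed by `x ↦ x ^ (p ^ j)`, so is every element -/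
theorem pow_eq_self_of_gen (p : ℕ) [Fact p.Prime] [CharP F p] (j : ℕ) (lam : F)
    (hgen : Subfield.closure ({lam} : Set F) = ⊤) (hlam : lam ^ (p ^ j) = lam) (x : F) :
    x ^ (p ^ j) = x := by
  have h : iterateFrobenius F p j = RingHom.id F := by
    apply RingHom.eq_of_eqOn_of_field_closure_eq_top hgen
    intro y hy
    rw [Set.mem_singleton_iff] at hy
    rw [hy, iterateFrobenius_def, RingHom.id_apply, hlam]
  have := congrArg (fun f : F →+* F => f x) h
  simpa [iterateFrobenius_def] using this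

omit [Fintype F] in
/-- a finite field all of whose elements satisfy `x ^ s = x` has at most `s` elements -/
theorem card_le_of_pow_eq_self [Finite F] (s : ℕ) (hs : 2 ≤ s) (h : ∀ x : F, x ^ s = x) :
    Nat.card F ≤ s := by
  classical
  have : Fintype F := Fintype.ofFinite F
  obtain ⟨g, hg⟩ := IsCyclic.exists_generator (α := Fˣ)
  have ho : orderOf g = Fintype.card Fˣ := by
    rw [← Nat.card_eq_fintype_card]; exact orderOf_eq_card_of_forall_mem_zpowers hg
  have h1 : g ^ (s - 1) = 1 := by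
    apply Units.ext
    have h2 := h (g : F)
    have h3 : (g : F) ^ (s - 1) * g = 1 * g := by
      rw [← pow_succ, Nat.sub_add_cancel (by omega), h2, one_mul]
    have := mul_right_cancel₀ (Units.ne_zero g) h3
    simpa using this
  have h2 : orderOf g ∣ s - 1 := orderOf_dvd_of_pow_eq_one h1
  rw [ho, Fintype.card_units] at h2
  have h3 := Nat.le_of_dvd (by omega) h2
  rw [Nat.card_eq_fintype_card]
  omega

end fix

section trace

variable {F : Type u} [Field F]

local notation "SL2" => Matrix.SpecialLinearGroup (Fin 2) F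
local notation "M2" => Matrix (Fin 2) (Fin 2) F

/-- the trace of an element `g` with `g ^ s = ± g ^ (± 1)`, `s` a power of the characteristic -/
theorem trace_pow_of (p : ℕ) [Fact p.Prime] [CharP F p] (j : ℕ) (g : SL2) (ε : F)
    (hg : (g ^ (p ^ j)).1 = ε • g.1 ∧ ((g⁻¹) ^ (p ^ j)).1 = ε • (g⁻¹).1 ∨
      (g ^ (p ^ j)).1 = ε • (g⁻¹).1 ∧ ((g⁻¹) ^ (p ^ j)).1 = ε • g.1) :
    g.1.trace ^ (p ^ j) = ε * g.1.trace := by
  have hsum : g.1 + (g⁻¹).1 = g.1.trace • (1 : M2) := by
    rw [inv_val]; abel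
  have hcomm : Commute g.1 (g⁻¹).1 := by
    show g.1 * (g⁻¹).1 = (g⁻¹).1 * g.1
    rw [← Matrix.SpecialLinearGroup.coe_mul, ← Matrix.SpecialLinearGroup.coe_mul,
      mul_inv_cancel, inv_mul_cancel]
  have h1 := add_pow_char_pow_of_commute p j hcomm
  rw [hsum, ← Matrix.SpecialLinearGroup.coe_pow, ← Matrix.SpecialLinearGroup.coe_pow,
    smul_pow, one_pow] at h1
  have h2 : (g ^ (p ^ j)).1 + ((g⁻¹) ^ (p ^ j)).1 = (ε * g.1.trace) • (1 : M2) := by
    rcases hg with ⟨ha, hb⟩ | ⟨ha, hb⟩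
    · rw [ha, hb, ← smul_add, hsum, smul_smul]
    · rw [ha, hb, ← smul_add, add_comm, hsum, smul_smul]
  rw [h2] at h1
  have := congrFun (congrFun h1 0) 0
  simpa using this

theorem neg_inv' (x : SL2) : (-x)⁻¹ = -x⁻¹ := by
  apply inv_eq_of_mul_eq_one_right
  rw [neg_mul_neg, mul_inv_cancel]

theorem coe_neg' (x : SL2) : (-x).1 = (-1 : F) • x.1 := by
  rw [Matrix.SpecialLinearGroup.coe_neg, neg_smul, one_smul]

/-- the square of the trace of an element of order dividing `2 (s ± 1)` lies in the field with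
`s` elements -/
theorem trace_sq_fix (p : ℕ) [Fact p.Prime] [CharP F p] (j : ℕ) (g : SL2)
    (h : g ^ (p ^ j + 1) = 1 ∨ g ^ (p ^ j + 1) = -1 ∨ g ^ (p ^ j - 1) = 1 ∨
      g ^ (p ^ j - 1) = -1) :
    (g.1.trace ^ 2) ^ (p ^ j) = g.1.trace ^ 2 := by
  have hs : 1 ≤ p ^ j :=
    Nat.one_le_iff_ne_zero.2 (pow_ne_zero j (Fact.out : p.Prime).ne_zero)
  have key : ∃ ε : F, ε ^ 2 = 1 ∧ g.1.trace ^ (p ^ j) = ε * g.1.trace := by
    rcases h with h | h | h | h
    · have h1 : g ^ (p ^ j) = g⁻¹ := by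
        apply eq_inv_of_mul_eq_one_left
        rw [← pow_succ]; exact h
      have h2 : (g⁻¹) ^ (p ^ j) = g := by rw [inv_pow, h1, inv_inv]
      refine ⟨1, one_pow 2, trace_pow_of p j g 1 (Or.inr ⟨?_, ?_⟩)⟩
      · rw [h1, one_smul]
      · rw [h2, one_smul]
    · have h1 : g ^ (p ^ j) = -g⁻¹ := by
        have : g ^ (p ^ j) * g = -1 := by rw [← pow_succ]; exact h
        calc g ^ (p ^ j) = g ^ (p ^ j) * g * g⁻¹ := by group
          _ = -g⁻¹ := by rw [this, neg_mul, one_mul]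
      have h2 : (g⁻¹) ^ (p ^ j) = -g := by rw [inv_pow, h1, neg_inv', inv_inv]
      refine ⟨-1, by ring, trace_pow_of p j g (-1) (Or.inr ⟨?_, ?_⟩)⟩
      · rw [h1, coe_neg']
      · rw [h2, coe_neg']
    · have h1 : g ^ (p ^ j) = g := by
        calc g ^ (p ^ j) = g ^ (p ^ j - 1 + 1) := by rw [Nat.sub_add_cancel hs]
          _ = g := by rw [pow_succ, h, one_mul]
      have h2 : (g⁻¹) ^ (p ^ j) = g⁻¹ := by rw [inv_pow, h1]
      refine ⟨1, one_pow 2, trace_pow_of p j g 1 (Or.inl ⟨?_, ?_⟩)⟩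
      · rw [h1, one_smul]
      · rw [h2, one_smul]
    · have h1 : g ^ (p ^ j) = -g := by
        calc g ^ (p ^ j) = g ^ (p ^ j - 1 + 1) := by rw [Nat.sub_add_cancel hs]
          _ = -g := by rw [pow_succ, h, neg_mul, one_mul]
      have h2 : (g⁻¹) ^ (p ^ j) = -g⁻¹ := by rw [inv_pow, h1, neg_inv']
      refine ⟨-1, by ring, trace_pow_of p j g (-1) (Or.inl ⟨?_, ?_⟩)⟩
      · rw [h1, coe_neg']
      · rw [h2, coe_neg']
  obtain ⟨ε, hε, hτ⟩ := key
  rw [← pow_mul, mul_comm, pow_mul, hτ, mul_pow, hε, one_mul]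

end trace

section orders

variable {F : Type u} [Field F] [Fintype F]

local notation "SL2" => Matrix.SpecialLinearGroup (Fin 2) F
local notation "PSL2" => Matrix.ProjectiveSpecialLinearGroup (Fin 2) F

omit [Fintype F] in
theorem nonScalar_of_ss (g : SL2) (hss : g.1.trace ^ 2 ≠ 4) : NonScalar g := by
  rintro ⟨a, ha⟩
  apply hss
  have hd := det_eq g
  have e00 : g.1 0 0 = a := by rw [ha]; simp
  have e01 : g.1 0 1 = 0 := by rw [ha]; simp
  have e11 : g.1 1 1 = a := by rw [ha]; simp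
  rw [Matrix.trace_fin_two, e00, e11]
  rw [e00, e01, e11] at hd
  linear_combination 4 * hd

/-- a semisimple element has order prime to the characteristic -/
theorem coprime_order_of_ss (p : ℕ) [Fact p.Prime] [CharP F p] (g : SL2)
    (hss : g.1.trace ^ 2 ≠ 4) : Nat.Coprime (orderOf ((pr : SL2 →* PSL2) g)) p := by
  have hpr : p.Prime := Fact.out
  have hns := nonScalar_of_ss g hss
  have hmem : g ∈ Cfsg.Agent.H9.PSL2Tori.Tor g := (Cfsg.Agent.H9.PSL2Tori.mem_Tor g g).2 rfl
  have h1 : orderOf g ∣ Nat.card (Cfsg.Agent.H9.PSL2Tori.Tor g) :=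
    Subgroup.orderOf_dvd_natCard _ hmem
  have h2 : orderOf ((pr : SL2 →* PSL2) g) ∣ orderOf g := orderOf_map_dvd _ g
  obtain ⟨f, -, hf⟩ := FiniteField.card F p
  have hpq : p ∣ Fintype.card F := by rw [hf]; exact dvd_pow_self p (PNat.ne_zero f)
  have hq1 : 1 < Fintype.card F := Fintype.one_lt_card
  apply Nat.Coprime.symm
  rw [Nat.Prime.coprime_iff_not_dvd hpr]
  intro hdvd
  have h3 : p ∣ Nat.card (Cfsg.Agent.H9.PSL2Tori.Tor g) := (hdvd.trans h2).trans h1
  rcases Cfsg.Agent.H9.PSL2Tori.card_Tor g hns hss with h | h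
  · rw [h] at h3
    have : p ∣ Fintype.card F - (Fintype.card F - 1) := Nat.dvd_sub hpq h3
    have e : Fintype.card F - (Fintype.card F - 1) = 1 := by omega
    rw [e] at this
    exact hpr.one_lt.ne' (Nat.dvd_one.1 this)
  · rw [h] at h3
    have : p ∣ Fintype.card F + 1 - Fintype.card F := Nat.dvd_sub h3 hpq
    have e : Fintype.card F + 1 - Fintype.card F = 1 := by omega
    rw [e] at this
    exact hpr.one_lt.ne' (Nat.dvd_one.1 this)

omit [Fintype F] in
theorem natCast_pow_char_pow (p : ℕ) [Fact p.Prime] [CharP F p] (j n : ℕ) :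
    ((n : ℕ) : F) ^ (p ^ j) = n := by
  have := map_natCast (iterateFrobenius F p j) n
  rwa [iterateFrobenius_def] at this

/-- exponent property of the image implies that squares of traces lie in the small field -/
theorem trace_sq_of_exp (p : ℕ) [Fact p.Prime] [CharP F p] (j : ℕ) (G : Subgroup SL2)
    (hE : ∀ z : G.map (pr : SL2 →* PSL2), Nat.Coprime (orderOf z) p →
      z ^ (p ^ j + 1) = 1 ∨ z ^ (p ^ j - 1) = 1)
    (g : SL2) (hg : g ∈ G) : (g.1.trace ^ 2) ^ (p ^ j) = g.1.trace ^ 2 := by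
  by_cases hss : g.1.trace ^ 2 = 4
  · rw [hss]
    have := natCast_pow_char_pow (F := F) p j 4
    exact_mod_cast this
  · have hcop := coprime_order_of_ss p g hss
    set z : G.map (pr : SL2 →* PSL2) := ⟨pr g, ⟨g, hg, rfl⟩⟩ with hz
    have hoz : orderOf z = orderOf ((pr : SL2 →* PSL2) g) := Subgroup.orderOf_mk _ _
    rw [← hoz] at hcop
    apply trace_sq_fix p j g
    rcases hE z hcop with h | h
    · have h1 : (pr : SL2 →* PSL2) (g ^ (p ^ j + 1)) = pr 1 := by
        rw [map_pow, map_one]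
        exact congrArg Subtype.val h
      rw [pr_eq_iff] at h1
      rcases h1 with h1 | h1
      · exact Or.inl h1
      · exact Or.inr (Or.inl h1)
    · have h1 : (pr : SL2 →* PSL2) (g ^ (p ^ j - 1)) = pr 1 := by
        rw [map_pow, map_one]
        exact congrArg Subtype.val h
      rw [pr_eq_iff] at h1
      rcases h1 with h1 | h1
      · exact Or.inr (Or.inr (Or.inl h1))
      · exact Or.inr (Or.inr (Or.inr h1))

omit [Fintype F] in
/-- the two-element trick -/
theorem lam_fix (p : ℕ) [Fact p.Prime] [CharP F p] (hp : p ≠ 2) (j : ℕ) (lam : F)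
    (h1 : ((2 + lam) ^ 2) ^ (p ^ j) = (2 + lam) ^ 2)
    (h2 : ((2 + 2 * lam) ^ 2) ^ (p ^ j) = (2 + 2 * lam) ^ 2) : lam ^ (p ^ j) = lam := by
  have h2F : (2 : F) ≠ 0 := by
    intro h
    have h' : ((2 : ℕ) : F) = 0 := by exact_mod_cast h
    rw [CharP.cast_eq_zero_iff F p] at h'
    exact hp ((Nat.prime_dvd_prime_iff_eq (Fact.out : p.Prime) Nat.prime_two).1 h')
  have h8 : (8 : F) ≠ 0 := by
    have : (8 : F) = 2 ^ 3 := by norm_num
    rw [this]; exact pow_ne_zero 3 h2F
  set φ := iterateFrobenius F p j with hφ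
  have hφ1 : φ ((2 + lam) ^ 2) = (2 + lam) ^ 2 := by rw [hφ, iterateFrobenius_def]; exact h1
  have hφ2 : φ ((2 + 2 * lam) ^ 2) = (2 + 2 * lam) ^ 2 := by
    rw [hφ, iterateFrobenius_def]; exact h2
  have e : 8 * lam = 4 * (2 + lam) ^ 2 - (2 + 2 * lam) ^ 2 - 12 := by ring
  have e' := congrArg φ e
  rw [map_mul, map_sub, map_sub, map_mul, hφ1, hφ2, map_ofNat, map_ofNat, map_ofNat] at e'
  have e3 : 8 * φ lam = 8 * lam := by rw [e', e]
  have := mul_left_cancel₀ h8 e3
  rw [hφ, iterateFrobenius_def] at this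
  exact this

end orders

section invariant

variable {F : Type u} [Field F]

local notation "SL2" => Matrix.SpecialLinearGroup (Fin 2) F

/-- the invariant of degree `12` of the binary icosahedral group in `SL₂(9)` -/
def f12 (x y : F) : F := x ^ 12 + x ^ 10 * y ^ 2 - x ^ 6 * y ^ 6 + x ^ 2 * y ^ 10 - y ^ 12

theorem f12_l (h3 : (3 : F) = 0) (x y : F) : f12 x (x + y) = f12 x y := by
  unfold f12
  linear_combination ((-4)*x*y^11 + (-22)*x^2*y^10 + (-70)*x^3*y^9 + (-150)*x^4*y^8 + (-224)*x^5*y^7 + (-238)*x^6*y^6 +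
      (-182)*x^7*y^5 + (-100)*x^8*y^4 + (-40)*x^9*y^3 + (-12)*x^10*y^2 + (-2)*x^11*y) * h3

theorem f12_u (h3 : (3 : F) = 0) (lam : F) (hlam : lam ^ 2 = -1) (x y : F) :
    f12 (x + lam * y) y = f12 x y := by
  unfold f12
  linear_combination ((-2)*x*y^11*lam + (-12)*x^2*y^10 + (40)*x^3*y^9*lam + (100)*x^4*y^8 + (-182)*x^5*y^7*lam +
      (-238)*x^6*y^6 + (224)*x^7*y^5*lam + (150)*x^8*y^4 + (-70)*x^9*y^3*lam + (-22)*x^10*y^2 +
      (4)*x^11*y*lam) * h3 +
    ((1)*y^12*lam^2 + (-1)*y^12*lam^4 + (1)*y^12*lam^10 + (8)*x*y^11*lam + (-8)*x*y^11*lam^3 +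
      (2)*x*y^11*lam^5 + (-2)*x*y^11*lam^7 + (12)*x*y^11*lam^9 + (36)*x^2*y^10 + (-36)*x^2*y^10*lam^2 +
      (21)*x^2*y^10*lam^4 + (-21)*x^2*y^10*lam^6 + (66)*x^2*y^10*lam^8 + (-120)*x^3*y^9*lam +
      (100)*x^3*y^9*lam^3 + (-100)*x^3*y^9*lam^5 + (220)*x^3*y^9*lam^7 + (-300)*x^4*y^8 +
      (285)*x^4*y^8*lam^2 + (-285)*x^4*y^8*lam^4 + (495)*x^4*y^8*lam^6 + (540)*x^5*y^7*lam +
      (-540)*x^5*y^7*lam^3 + (792)*x^5*y^7*lam^5 + (714)*x^6*y^6 + (-714)*x^6*y^6*lam^2 +
      (924)*x^6*y^6*lam^4 + (-672)*x^7*y^5*lam + (792)*x^7*y^5*lam^3 + (-450)*x^8*y^4 +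
      (495)*x^8*y^4*lam^2 + (220)*x^9*y^3*lam + (66)*x^10*y^2) * hlam

theorem pow_twelve (h3 : (3 : F) = 0) (lam : F) (hlam : lam ^ 2 = -1) : (1 + lam) ^ 12 = -1 := by
  linear_combination ((-21)) * h3 +
    ((65) + (12)*lam + (1)*lam^2 + (208)*lam^3 + (494)*lam^4 + (584)*lam^5 + (430)*lam^6 +
      (208)*lam^7 + (65)*lam^8 + (12)*lam^9 + (1)*lam^10) * hlam

/-- the stabilizer of `f12` -/
def Stab12 : Subgroup SL2 where
  carrier := {g | ∀ x y : F,
    f12 (g.1 0 0 * x + g.1 0 1 * y) (g.1 1 0 * x + g.1 1 1 * y) = f12 x y}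
  mul_mem' := by
    intro a b ha hb x y
    have h1 := ha (b.1 0 0 * x + b.1 0 1 * y) (b.1 1 0 * x + b.1 1 1 * y)
    rw [hb] at h1
    rw [← h1, mul_00, mul_01, mul_10, mul_11]
    congr 1 <;> ring
  one_mem' := by
    intro x y
    simp
  inv_mem' := by
    intro a ha x y
    have h1 := ha ((a⁻¹).1 0 0 * x + (a⁻¹).1 0 1 * y) ((a⁻¹).1 1 0 * x + (a⁻¹).1 1 1 * y)
    rw [← h1]
    have hd := det_eq a
    congr 1
    · rw [inv_00, inv_01, inv_10, inv_11]
      linear_combination x * hd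
    · rw [inv_00, inv_01, inv_10, inv_11]
      linear_combination y * hd

theorem mem_Stab12 (g : SL2) : g ∈ Stab12 (F := F) ↔ ∀ x y : F,
    f12 (g.1 0 0 * x + g.1 0 1 * y) (g.1 1 0 * x + g.1 1 1 * y) = f12 x y := Iff.rfl

/-- in the exceptional case the two transvections do not generate `SL₂(F)` -/
theorem closure_ne_top (h3 : (3 : F) = 0) (lam : F) (hlam : lam ^ 2 = -1) :
    Subgroup.closure ({l 1, u lam} : Set SL2) ≠ ⊤ := by
  have h2 : (2 : F) ≠ 0 := by
    intro h
    have : (1 : F) = 0 := by linear_combination h3 - h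
    exact one_ne_zero this
  have hle : Subgroup.closure ({l 1, u lam} : Set SL2) ≤ Stab12 := by
    rw [Subgroup.closure_le]
    rintro g (rfl | rfl)
    · intro x y
      have := f12_l h3 x y
      simpa only [l_00, l_01, l_10, l_11, one_mul, zero_mul, add_zero] using this
    · intro x y
      have := f12_u h3 lam hlam x y
      simpa only [u_00, u_01, u_10, u_11, one_mul, zero_mul, zero_add] using this
  intro htop
  have hdet : (!![1 + lam, 0; 0, lam - 1] : Matrix (Fin 2) (Fin 2) F).det = 1 := by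
    rw [Matrix.det_fin_two_of]
    linear_combination hlam - h3
  set g0 : SL2 := ⟨!![1 + lam, 0; 0, lam - 1], hdet⟩ with hg0
  have hmem : g0 ∈ Stab12 := hle (by rw [htop]; trivial)
  have := hmem 1 0
  have e00 : g0.1 0 0 = 1 + lam := rfl
  have e10 : g0.1 1 0 = 0 := rfl
  rw [e00, e10] at this
  simp only [mul_one, mul_zero, add_zero] at this
  unfold f12 at this
  have h12 := pow_twelve h3 lam hlam
  have : (2 : F) = 0 := by
    simp only [ne_eq, OfNat.ofNat_ne_zero, not_false_eq_true, zero_pow, mul_zero, add_zero,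
      sub_zero, one_pow] at this
    rw [h12] at this
    linear_combination -this
  exact h2 this

end invariant

section quartic

variable {F : Type u} [Field F]

local notation "SL2" => Matrix.SpecialLinearGroup (Fin 2) F

/-- the three quadratics of a field with nine elements -/
theorem trichotomy [Fintype F] (h9 : Fintype.card F = 9) (h3 : (3 : F) = 0) (lam : F)
    (hne : lam ^ 3 ≠ lam) :
    lam ^ 2 = -1 ∨ lam ^ 2 + lam - 1 = 0 ∨ lam ^ 2 - lam - 1 = 0 := by
  have h0 : lam ≠ 0 := by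
    rintro rfl
    exact hne (by ring)
  have h8 : lam ^ 8 = 1 := by
    have := FiniteField.pow_card_sub_one_eq_one lam h0
    rwa [h9] at this
  have hprod : (lam ^ 2 - 1) * ((lam ^ 2 + 1) * ((lam ^ 2 + lam - 1) * (lam ^ 2 - lam - 1))) = 0 := by
    linear_combination h8 - (lam ^ 6 - lam ^ 2) * h3
  rcases mul_eq_zero.1 hprod with h | h
  · exfalso
    apply hne
    linear_combination lam * h
  rcases mul_eq_zero.1 h with h | h
  · left; linear_combination h
  rcases mul_eq_zero.1 h with h | h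
  · right; left; exact h
  · right; right; exact h

/-- an element whose trace squares to `-1` in characteristic `3` has fourth power `-1` -/
theorem pow_four_of_trace (h3 : (3 : F) = 0) (g : SL2) (htr : g.1.trace ^ 2 = -1) :
    g * g * (g * g) = -1 := by
  apply Subtype.ext
  have hc := cayley g
  rw [Matrix.SpecialLinearGroup.coe_mul, Matrix.SpecialLinearGroup.coe_mul, hc]
  have e1 : (g.1.trace • g.1 - 1) * (g.1.trace • g.1 - 1) =
      (g.1.trace ^ 2) • (g.1 * g.1) - (2 * g.1.trace) • g.1 + 1 := by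
    simp only [sub_mul, mul_sub, smul_mul_assoc, mul_smul_comm, one_mul, mul_one, smul_smul]
    module
  rw [e1, hc, htr]
  have e2 : (-1 : F) • (g.1.trace • g.1 - 1) - (2 * g.1.trace) • g.1 + 1 =
      ((-3 : F) * g.1.trace) • g.1 + (2 : F) • (1 : Matrix (Fin 2) (Fin 2) F) := by
    module
  rw [e2]
  have h3' : (-3 : F) = 0 := by rw [h3, neg_zero]
  have h2 : (2 : F) = -1 := by linear_combination h3
  rw [h3', zero_mul, zero_smul, zero_add, h2]
  simp

end quartic

end Cfsg.Agent.H9.TwoTransv
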