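import Mathlib
import Cfsg.Agent.H9.PSL2MaxGen
import Cfsg.Agent.H9.PSL2Borel
import Cfsg.Agent.H9.PSL2Tori
import Cfsg.Agent.H9.PSL2MinSimple
import Cfsg.Agent.H9.DicksonMax2
import Cfsg.Agent.H9.TwoTransv

set_option autoImplicit false

/-! Maximal subgroups of `PSL₂(F)`: the local cases. -/

namespace Cfsg.Agent.H9.PSL2MaxGen

open Matrix Subgroup
open Cfsg.Agent.H9.AutPSL2
open Cfsg.Agent.H9.PSL2Borel

universe u

section general

variable {G : Type*} [Group G]

theorem le_normalizer_of_conj_mem (M Q : Subgroup G) (h : ∀ m ∈ M, ∀ x ∈ Q, m * x * m⁻¹ ∈ Q) :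
    M ≤ normalizer (Q : Set G) := by
  intro m hm
  rw [mem_normalizer_iff]
  intro x
  constructor
  · exact h m hm x
  · intro hx
    have := h m⁻¹ (M.inv_mem hm) _ hx
    have e : m⁻¹ * (m * x * m⁻¹) * m⁻¹⁻¹ = x := by group
    rwa [e] at this

end general

section dihedral

open DihedralGroup in
theorem dihedral_comm_r_one (k : ℕ) (hk : 3 ≤ k) (y : DihedralGroup k)
    (h : y * DihedralGroup.r 1 = DihedralGroup.r 1 * y) : ∃ j, y = DihedralGroup.r j := by
  rcases y with j | j
  · exact ⟨j, rfl⟩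
  · exfalso
    rw [sr_mul_r, r_mul_sr] at h
    have h' : j + 1 = j - 1 := by
      injection h
    have h2 : (2 : ZMod k) = 0 := by linear_combination h'
    have h3 : ((2 : ℕ) : ZMod k) = 0 := by exact_mod_cast h2
    rw [ZMod.natCast_eq_zero_iff] at h3
    have := Nat.le_of_dvd (by norm_num) h3
    omega

open DihedralGroup in
theorem dihedral_conj_r_one (k : ℕ) (y : DihedralGroup k) :
    y * DihedralGroup.r 1 * y⁻¹ = DihedralGroup.r 1 ∨
      y * DihedralGroup.r 1 * y⁻¹ = (DihedralGroup.r 1)⁻¹ := by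
  rcases y with j | j
  · left
    rw [inv_r, r_mul_r, r_mul_r]
    congr 1; ring
  · right
    rw [inv_sr, sr_mul_r, sr_mul_sr, inv_r]
    congr 1; ring

theorem dihedral_abelian (k : ℕ) (hk1 : 1 ≤ k) (hk : k ≤ 2) (a b : DihedralGroup k) :
    a * b = b * a := by
  interval_cases k
  · revert a b; decide
  · revert a b; decide

end dihedral

section psl

variable {F : Type u} [Field F] [Fintype F]

local notation "SL2" => Matrix.SpecialLinearGroup (Fin 2) F
local notation "PSL2" => Matrix.ProjectiveSpecialLinearGroup (Fin 2) F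

theorem BorC_ne_top (g : PSL2) : BorC g ≠ ⊤ := by
  intro h
  have h1 := card_BorC g
  rw [h, Subgroup.card_top] at h1
  have h2 := (Bor : Subgroup PSL2).card_mul_index
  rw [index_Bor, ← h1] at h2
  have hpos : 0 < Nat.card PSL2 := Nat.card_pos
  have hq : 1 < Fintype.card F := Fintype.one_lt_card
  nlinarith

/-- a maximal subgroup normalizing a non-trivial `p`-subgroup is a Borel subgroup -/
theorem card_of_normal_pSubgroup (p : ℕ) [Fact p.Prime] [CharP F p]
    (hq4 : 4 ≤ Fintype.card F) (M : Subgroup PSL2) (hM : IsCoatom M)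
    (Q : Subgroup PSL2) (hQ : IsPGroup p Q) (hne : Q ≠ ⊥) (hQM : Q ≤ M)
    (hn : M ≤ normalizer (Q : Set PSL2)) :
    Nat.card M * Nat.gcd 2 (Fintype.card F - 1) = Fintype.card F * (Fintype.card F - 1) := by
  have := Cfsg.Agent.H9.PSL2MinSimple.isSimple hq4
  have hN := normalizer_eq_of_coatom M hM Q hne hQM hn
  obtain ⟨g, hg⟩ := normalizer_le_BorC p Q hQ hne
  rw [hN] at hg
  have hB := eq_of_coatom_le M (BorC g) hM hg (BorC_ne_top g)
  rw [← hB, card_BorC]
  exact card_Bor

/-- the same, for a normal `p`-subgroup of an abstract copy -/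
theorem card_of_equiv_normal (p : ℕ) [Fact p.Prime] [CharP F p]
    (hq4 : 4 ≤ Fintype.card F) (M : Subgroup PSL2) (hM : IsCoatom M)
    {X : Type*} [Group X] (e : M ≃* X) (N : Subgroup X) [hN : N.Normal] (hNp : IsPGroup p N)
    (hne : N ≠ ⊥) :
    Nat.card M * Nat.gcd 2 (Fintype.card F - 1) = Fintype.card F * (Fintype.card F - 1) := by
  set N' : Subgroup M := N.comap e.toMonoidHom with hN'
  have hN'n : N'.Normal := hN.comap _
  have hN'p : IsPGroup p N' := hNp.comap_of_injective _ e.injective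
  have hN'ne : N' ≠ ⊥ := by
    intro h
    apply hne
    have := Subgroup.map_comap_eq_self_of_surjective (f := e.toMonoidHom) e.surjective N
    rw [← this, ← hN', h, Subgroup.map_bot]
  set Q : Subgroup PSL2 := N'.map M.subtype with hQ
  apply card_of_normal_pSubgroup p hq4 M hM Q (hN'p.map _)
  · intro h
    apply hN'ne
    exact (Subgroup.map_eq_bot_iff_of_injective N' M.subtype_injective).1 h
  · rintro _ ⟨x, -, rfl⟩
    exact x.2
  · apply le_normalizer_of_conj_mem
    rintro m hm _ ⟨x, hx, rfl⟩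
    refine ⟨⟨m, hm⟩ * x * ⟨m, hm⟩⁻¹, ?_, rfl⟩
    exact hN'n.conj_mem x hx ⟨m, hm⟩

omit [Fintype F] in
theorem hna : ∃ a b : PSL2, a * b ≠ b * a :=
  ⟨_, _, Cfsg.Agent.H9.DicksonMax.pr_u_l_ne (F := F)⟩

/-- a `p`-element normalizing a Sylow `p`-subgroup lies in it -/
theorem mem_sylow_of_normalizer {G : Type*} [Group G] (p : ℕ) [Fact p.Prime] (P : Sylow p G)
    (z : G) (hz : z ∈ normalizer ((P : Subgroup G) : Set G)) (k : ℕ) (hzp : z ^ (p ^ k) = 1) :
    z ∈ (P : Subgroup G) := by
  have hzp' : IsPGroup p (zpowers z) := by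
    rintro ⟨y, hy⟩
    obtain ⟨j, rfl⟩ := mem_zpowers_iff.1 hy
    refine ⟨k, ?_⟩
    apply Subtype.ext
    show (z ^ j) ^ (p ^ k) = 1
    rw [← zpow_natCast, ← _root_.zpow_mul, mul_comm, _root_.zpow_mul, zpow_natCast, hzp,
      _root_.one_zpow]
  have hle : zpowers z ≤ normalizer ((P : Subgroup G) : Set G) := by
    rw [zpowers_le]; exact hz
  have h1 := IsPGroup.to_sup_of_normal_left' P.isPGroup' hzp' hle
  have h2 := P.is_maximal' h1 le_sup_left
  have : zpowers z ≤ (P : Subgroup G) := by rw [← h2]; exact le_sup_right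
  exact this (mem_zpowers z)

/-- maximal subgroups of Borel type -/
theorem borel_type (p : ℕ) [Fact p.Prime] [CharP F p]
    (hq4 : 4 ≤ Fintype.card F) (M : Subgroup PSL2) (hM : IsCoatom M)
    (P : Sylow p PSL2) (K' : Subgroup PSL2)
    (hK' : K' ≤ normalizer ((P : Subgroup PSL2) : Set PSL2)) (e : M ≃* K') :
    Nat.card M * Nat.gcd 2 (Fintype.card F - 1) = Fintype.card F * (Fintype.card F - 1) := by
  have hsimple := Cfsg.Agent.H9.PSL2MinSimple.isSimple hq4
  set N : Subgroup K' := ((P : Subgroup PSL2) ⊓ K').subgroupOf K' with hN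
  have hNn : N.Normal := by
    constructor
    intro x hx k
    rw [hN, mem_subgroupOf] at hx ⊢
    refine ⟨?_, (k * x * k⁻¹).2⟩
    have hk := hK' k.2
    have := (mem_normalizer_iff.1 hk x.1).1 hx.1
    exact this
  have hNp : IsPGroup p N := by
    have h1 : IsPGroup p ((P : Subgroup PSL2) ⊓ K' : Subgroup PSL2) :=
      P.isPGroup'.to_le inf_le_left
    exact h1.comap_of_injective K'.subtype K'.subtype_injective
  by_cases hne : N = ⊥
  · exfalso
    apply no_abelian_maximal hna M hM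
    intro a ha b hb
    have hcomm : e ⟨a, ha⟩ * e ⟨b, hb⟩ = e ⟨b, hb⟩ * e ⟨a, ha⟩ := by
      set x := e ⟨a, ha⟩ with hx
      set y := e ⟨b, hb⟩ with hy
      have hc := Cfsg.Agent.H9.DicksonMax.comm_pow_p p P x.1 y.1 (hK' x.2) (hK' y.2)
      have hcK : x.1 * y.1 * x.1⁻¹ * y.1⁻¹ ∈ K' := (x * y * x⁻¹ * y⁻¹).2
      have hcN : x.1 * y.1 * x.1⁻¹ * y.1⁻¹ ∈ normalizer ((P : Subgroup PSL2) : Set PSL2) :=
        hK' hcK
      have hcP := mem_sylow_of_normalizer p P _ hcN 1 (by rw [pow_one]; exact hc)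
      have hmem : (x * y * x⁻¹ * y⁻¹ : K') ∈ N := by
        rw [hN, mem_subgroupOf]
        exact ⟨hcP, hcK⟩
      rw [hne, mem_bot] at hmem
      calc x * y = (x * y * x⁻¹ * y⁻¹) * y * x := by group
        _ = y * x := by rw [hmem, one_mul]
    have := e.injective (by rw [map_mul, map_mul]; exact hcomm :
      e (⟨a, ha⟩ * ⟨b, hb⟩) = e (⟨b, hb⟩ * ⟨a, ha⟩))
    exact congrArg Subtype.val this
  · exact card_of_equiv_normal p hq4 M hM e N hNp hne

/-- a maximal dihedral subgroup is the normalizer of a maximal torus -/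
theorem dihedral_max (p : ℕ) [Fact p.Prime] [CharP F p]
    (hq4 : 4 ≤ Fintype.card F) (M : Subgroup PSL2) (hM : IsCoatom M) (k : ℕ)
    (hk : k ∣ (Fintype.card F + 1) / Nat.gcd 2 (Fintype.card F - 1) ∨
      k ∣ (Fintype.card F - 1) / Nat.gcd 2 (Fintype.card F - 1))
    (e : M ≃* DihedralGroup k) :
    k = (Fintype.card F + 1) / Nat.gcd 2 (Fintype.card F - 1) ∨
      k = (Fintype.card F - 1) / Nat.gcd 2 (Fintype.card F - 1) := by
  classical
  have hpr : p.Prime := Fact.out
  have hsimple := Cfsg.Agent.H9.PSL2MinSimple.isSimple hq4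
  obtain ⟨q, hq⟩ : ∃ q, q = Fintype.card F := ⟨_, rfl⟩
  obtain ⟨d, hd⟩ : ∃ d, d = Nat.gcd 2 (Fintype.card F - 1) := ⟨_, rfl⟩
  rw [← hd, ← hq] at hk ⊢
  rw [← hq] at hq4
  have hd1 : d ∣ q - 1 := by rw [hd, hq]; exact Nat.gcd_dvd_right _ _
  have hd2 : d ∣ q + 1 := by rw [hd, hq]; exact Cfsg.Agent.H9.PSL2Tori.gcd_dvd_succ
  have hdpos : 0 < d := by rw [hd]; exact Nat.gcd_pos_of_pos_left _ (by norm_num)
  have hdle : d ≤ 2 := by rw [hd]; exact Nat.le_of_dvd (by norm_num) (Nat.gcd_dvd_left _ _)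
  obtain ⟨A, hA⟩ : ∃ A, A = (q + 1) / d := ⟨_, rfl⟩
  obtain ⟨B, hB⟩ : ∃ B, B = (q - 1) / d := ⟨_, rfl⟩
  have hAd : A * d = q + 1 := by rw [hA]; exact Nat.div_mul_cancel hd2
  have hBd : B * d = q - 1 := by rw [hB]; exact Nat.div_mul_cancel hd1
  rw [← hA, ← hB] at hk ⊢
  have hB2 : 2 ≤ B := by
    by_contra h
    have : B ≤ 1 := by omega
    have : B * d ≤ 1 * 2 := Nat.mul_le_mul this hdle
    omega
  have hAB : B < A := by
    by_contra h
    push Not at h
    have : A * d ≤ B * d := Nat.mul_le_mul_right d h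
    omega
  have hk0 : k ≠ 0 := by
    rintro rfl
    rcases hk with h | h
    · rw [zero_dvd_iff] at h; omega
    · rw [zero_dvd_iff] at h; omega
  haveI : NeZero k := ⟨hk0⟩
  have hk3 : 3 ≤ k := by
    by_contra h
    apply no_abelian_maximal hna M hM
    intro a ha b hb
    have h1 := dihedral_abelian k (by omega) (by omega) (e ⟨a, ha⟩) (e ⟨b, hb⟩)
    have := e.injective (by rw [map_mul, map_mul]; exact h1 :
      e (⟨a, ha⟩ * ⟨b, hb⟩) = e (⟨b, hb⟩ * ⟨a, ha⟩))
    exact congrArg Subtype.val this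
  set x : M := e.symm (DihedralGroup.r 1) with hx
  have hex : e x = DihedralGroup.r 1 := e.apply_symm_apply _
  have hox : orderOf x = k := by
    rw [← MulEquiv.orderOf_eq e x, hex, DihedralGroup.orderOf_r_one]
  have hoxG : orderOf (x : PSL2) = k := by rw [← hox]; exact (Subgroup.orderOf_coe x)
  set H : Subgroup PSL2 := zpowers (x : PSL2) with hH
  have hHM : H ≤ M := by rw [hH, zpowers_le]; exact x.2
  have hHne : H ≠ ⊥ := by
    intro h
    have : (x : PSL2) ∈ H := mem_zpowers _
    rw [h, mem_bot] at this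
    rw [this, orderOf_one] at hoxG
    omega
  have hconj : ∀ m ∈ M, m * (x : PSL2) * m⁻¹ = x ∨ m * (x : PSL2) * m⁻¹ = (x : PSL2)⁻¹ := by
    intro m hm
    rcases dihedral_conj_r_one k (e ⟨m, hm⟩) with h | h
    · left
      have : e (⟨m, hm⟩ * x * ⟨m, hm⟩⁻¹) = e x := by
        rw [map_mul, map_mul, map_inv, hex, h]
      exact congrArg Subtype.val (e.injective this)
    · right
      have : e (⟨m, hm⟩ * x * ⟨m, hm⟩⁻¹) = e x⁻¹ := by
        rw [map_mul, map_mul, map_inv, map_inv, hex, h]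
      exact congrArg Subtype.val (e.injective this)
  have hMN : M ≤ normalizer (H : Set PSL2) := by
    apply le_normalizer_of_conj_mem
    intro m hm y hy
    obtain ⟨j, rfl⟩ := mem_zpowers_iff.1 hy
    rw [← conj_zpow]
    rcases hconj m hm with h | h
    · rw [h]; exact zpow_mem (mem_zpowers _) j
    · rw [h]; exact zpow_mem (inv_mem (mem_zpowers _)) j
  have hN := normalizer_eq_of_coatom M hM H hHne hHM hMN
  obtain ⟨xt, hxt⟩ := pr_surjective (x : PSL2)
  have hpq : p ∣ q := by
    obtain ⟨f, -, hf⟩ := FiniteField.card F p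
    rw [hq, hf]; exact dvd_pow_self p (PNat.ne_zero f)
  have hss : xt.1.trace ^ 2 ≠ 4 := by
    intro h4
    have hxp : (x : PSL2) ^ p = 1 := by
      have h2 : (xt.1.trace - 2) * (xt.1.trace + 2) = 0 := by linear_combination h4
      rcases mul_eq_zero.1 h2 with h | h
      · have := Cfsg.Agent.H9.DicksonUN.pow_p_of_trace p xt (by linear_combination h)
        rw [← hxt, ← map_pow, this, map_one]
      · have htr : (-xt).1.trace = 2 := by
          rw [Matrix.SpecialLinearGroup.coe_neg, Matrix.trace_neg]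
          linear_combination -h
        have := Cfsg.Agent.H9.DicksonUN.pow_p_of_trace p (-xt) htr
        have hpr' : (pr : SL2 →* PSL2) (-xt) = x := by
          rw [← hxt, pr_eq_iff]; right; rfl
        rw [← hpr', ← map_pow, this, map_one]
    have hkp : k ∣ p := by rw [← hoxG]; exact orderOf_dvd_of_pow_eq_one hxp
    have hkp' : k = p := by
      rcases (Nat.dvd_prime hpr).1 hkp with h | h
      · omega
      · exact h
    rw [hkp'] at hk
    rcases hk with h | h
    · have h1 : p ∣ q + 1 := by rw [← hAd]; exact Dvd.dvd.mul_right h d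
      have := (Nat.dvd_add_right hpq).1 h1
      exact hpr.one_lt.ne' (Nat.dvd_one.1 this)
    · have h1 : p ∣ q - 1 := by rw [← hBd]; exact Dvd.dvd.mul_right h d
      have h2 : p ∣ q - (q - 1) := Nat.dvd_sub hpq h1
      have e1 : q - (q - 1) = 1 := by omega
      rw [e1] at h2
      exact hpr.one_lt.ne' (Nat.dvd_one.1 h2)
  have hns := Cfsg.Agent.H9.TwoTransv.nonScalar_of_ss xt hss
  set T : Subgroup PSL2 := (Cfsg.Agent.H9.PSL2Tori.Tor xt).map (pr : SL2 →* PSL2) with hT
  have hcardT : Nat.card (Cfsg.Agent.H9.PSL2Tori.Tor xt) =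
      Nat.card (Subgroup.center SL2) * Nat.card T :=
    Cfsg.Agent.H9.DicksonQ.card_map (pr : SL2 →* PSL2) pr_surjective
      (Z := Subgroup.center SL2) (by
        ext z
        rw [MonoidHom.mem_ker]
        unfold pr
        rw [QuotientGroup.mk'_apply, QuotientGroup.eq_one_iff]) _
      (Cfsg.Agent.H9.PSL2Tori.center_le_Tor xt)
  rw [Cfsg.Agent.H9.DicksonConcl.card_center, ← hd] at hcardT
  have hcomm : ∀ t ∈ T, t * (x : PSL2) = x * t := by
    rintro _ ⟨y, hy, rfl⟩
    rw [← hxt, ← map_mul, ← map_mul, (Cfsg.Agent.H9.PSL2Tori.mem_Tor xt y).1 hy]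
  have hTM : T ≤ M := by
    intro t ht
    rw [← hN, mem_normalizer_iff]
    have h1 := hcomm t ht
    have hconj' : ∀ j : ℤ, t * (x : PSL2) ^ j * t⁻¹ = (x : PSL2) ^ j := by
      intro j
      rw [← conj_zpow]
      congr 1
      rw [h1]; group
    intro y
    constructor
    · intro hy
      obtain ⟨j, rfl⟩ := mem_zpowers_iff.1 hy
      rw [hconj']; exact zpow_mem (mem_zpowers _) j
    · intro hy
      obtain ⟨j, hj⟩ := mem_zpowers_iff.1 hy
      have : y = (x : PSL2) ^ j := by
        calc y = t⁻¹ * (t * y * t⁻¹) * t := by group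
          _ = t⁻¹ * (x : PSL2) ^ j * t := by rw [← hj]
          _ = t⁻¹ * (t * (x : PSL2) ^ j * t⁻¹) * t := by rw [hconj' j]
          _ = (x : PSL2) ^ j := by group
      rw [this]; exact zpow_mem (mem_zpowers _) j
  have hrot : ∀ t : T, ∃ j : ZMod k, e ⟨t.1, hTM t.2⟩ = DihedralGroup.r j := by
    intro t
    apply dihedral_comm_r_one k hk3
    rw [← hex, ← map_mul, ← map_mul]
    congr 1
    apply Subtype.ext
    exact hcomm t.1 t.2
  choose f hf using hrot
  have hfinj : Function.Injective f := by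
    intro t t' h
    have h1 : e ⟨t.1, hTM t.2⟩ = e ⟨t'.1, hTM t'.2⟩ := by rw [hf, hf, h]
    have := e.injective h1
    apply Subtype.ext
    exact congrArg (fun m : M => (m : PSL2)) this
  have hTk : Nat.card T ≤ k := by
    have := Nat.card_le_card_of_injective f hfinj
    rwa [Nat.card_zmod] at this
  have hTcard : Nat.card T = A ∨ Nat.card T = B := by
    rcases Cfsg.Agent.H9.PSL2Tori.card_Tor xt hns hss with h | h
    · right
      rw [h, ← hq, ← hBd, mul_comm] at hcardT
      exact (Nat.eq_of_mul_eq_mul_left hdpos hcardT).symm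
    · left
      rw [h, ← hq, ← hAd, mul_comm] at hcardT
      exact (Nat.eq_of_mul_eq_mul_left hdpos hcardT).symm
  have hApos : 0 < A := by omega
  have hBpos : 0 < B := by omega
  rcases hTcard with hT' | hT'
  · rw [hT'] at hTk
    rcases hk with h | h
    · left; exact le_antisymm (Nat.le_of_dvd hApos h) hTk
    · exfalso
      have := Nat.le_of_dvd hBpos h
      omega
  · rw [hT'] at hTk
    rcases hk with h | h
    · obtain ⟨j, hj⟩ := h
      rcases Nat.lt_or_ge j 2 with hj2 | hj2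
      · left
        have : j = 1 := by
          rcases Nat.eq_zero_or_pos j with rfl | h0
          · rw [mul_zero] at hj; omega
          · omega
        rw [hj, this, mul_one]
      · exfalso
        have h1 : k * 2 ≤ A := by rw [hj]; exact Nat.mul_le_mul_left k hj2
        have h2 : B * 2 ≤ A := (Nat.mul_le_mul_right 2 hTk).trans h1
        have h3 : B * 2 * d ≤ A * d := Nat.mul_le_mul_right d h2
        have h4 : B * 2 * d = 2 * (B * d) := by ring
        rw [h4, hBd, hAd] at h3
        omega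
    · right; exact le_antisymm (Nat.le_of_dvd hBpos h) hTk

end psl

end Cfsg.Agent.H9.PSL2MaxGen
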