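import Mathlib
import Cfsg.Agent.H9.PSL2MaxGen2
import Cfsg.Agent.H9.DicksonConcrete
import Cfsg.Agent.H9.A4Char2

set_option autoImplicit false

/-! Maximal subgroups of `SL₂(F) = PSL₂(F)` in characteristic two: the simple case. -/

namespace Cfsg.Agent.H9.PSL2MaxEven

open Matrix Subgroup
open Cfsg.Agent.H9.AutPSL2
open Cfsg.Agent.H9.DicksonUN
open Cfsg.Agent.H9.DicksonIso
open Cfsg.Agent.H9.PSL2MaxGen

universe u

section tower

variable {K K1 F : Type*} [Field K] [Fintype K] [Field K1] [Fintype K1] [Field F]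

/-- the image of a small finite field lies in the image of a bigger one -/
theorem range_le_range (ι : K →+* F) (ι1 : K1 →+* F) (a : ℕ)
    (h : Fintype.card K1 = Fintype.card K ^ a) (k : K) : ∃ k1 : K1, ι1 k1 = ι k := by
  classical
  set S := Fintype.card K with hS
  set S1 := Fintype.card K1 with hS1
  have hS1' : 1 < S1 := Fintype.one_lt_card
  have hx : ∀ b : ℕ, (ι k) ^ (S ^ b) = ι k := by
    intro b
    induction b with
    | zero => simp
    | succ b ih =>
      rw [pow_succ, pow_mul, ih, ← map_pow, hS, FiniteField.pow_card]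
  have hxa : (ι k) ^ S1 = ι k := by rw [h]; exact hx a
  set P : Polynomial F := Polynomial.X ^ S1 - Polynomial.X with hP
  have hP0 : P ≠ 0 := FiniteField.X_pow_card_sub_X_ne_zero F hS1'
  have hdeg : P.natDegree = S1 := FiniteField.X_pow_card_sub_X_natDegree_eq F hS1'
  have hroot : ∀ y : F, y ^ S1 = y → y ∈ P.roots.toFinset := by
    intro y hy
    rw [Multiset.mem_toFinset, Polynomial.mem_roots hP0, Polynomial.IsRoot, hP]
    simp [hy]
  have himg : Finset.univ.image ι1 ⊆ P.roots.toFinset := by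
    intro y hy
    obtain ⟨k1, -, rfl⟩ := Finset.mem_image.1 hy
    apply hroot
    rw [← map_pow, hS1, FiniteField.pow_card]
  have hcard : P.roots.toFinset.card ≤ (Finset.univ.image ι1).card := by
    rw [Finset.card_image_of_injective _ ι1.injective, Finset.card_univ]
    calc P.roots.toFinset.card ≤ Multiset.card P.roots := Multiset.toFinset_card_le _
      _ ≤ P.natDegree := Polynomial.card_roots' P
      _ = S1 := hdeg
  have heq := Finset.eq_of_subset_of_card_le himg hcard
  have := hroot (ι k) hxa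
  rw [← heq] at this
  obtain ⟨k1, -, hk1⟩ := Finset.mem_image.1 this
  exact ⟨k1, hk1⟩

end tower

section core

variable {F : Type u} [Field F] [Fintype F]

local notation "SL2" => Matrix.SpecialLinearGroup (Fin 2) F
local notation "PSL2" => Matrix.ProjectiveSpecialLinearGroup (Fin 2) F

omit [Fintype F] in
theorem center_eq_bot (h2 : (2 : F) = 0) : Subgroup.center SL2 = ⊥ := by
  rw [eq_bot_iff]
  intro z hz
  rw [mem_bot]
  rcases (mem_center_iff' z).1 hz with rfl | rfl
  · rfl
  · exact Cfsg.Agent.H9.A4Char2.neg_eq_self h2 1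

theorem mono_card (s s' : ℕ) (hs : 2 ≤ s) (hss : s < s') :
    s * (s ^ 2 - 1) < s' * (s' ^ 2 - 1) := by
  have h1 : s ^ 2 - 1 ≤ s' ^ 2 - 1 := Nat.sub_le_sub_right (Nat.pow_le_pow_left hss.le 2) 1
  have h2 : 0 < s' ^ 2 - 1 := by
    have : 2 ^ 2 ≤ s' ^ 2 := Nat.pow_le_pow_left (by omega) 2
    omega
  calc s * (s ^ 2 - 1) ≤ s * (s' ^ 2 - 1) := Nat.mul_le_mul_left s h1
    _ < s' * (s' ^ 2 - 1) := Nat.mul_lt_mul_of_pos_right hss h2

/-- image of a coatom under an isomorphism -/
theorem coatom_map {X Y : Type*} [Group X] [Group Y] (f : X ≃* Y) (M : Subgroup X)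
    (hM : IsCoatom M) : IsCoatom (M.map f.toMonoidHom) :=
  (f.mapSubgroup.isCoatom_iff M).2 hM

omit [Fintype F] in
theorem card_range_psi {K : Type*} [Field K] [Fintype K] (ι : K →+* F) (c : Fˣ) :
    Nat.card (psi ι c).range = Fintype.card K * (Fintype.card K ^ 2 - 1) := by
  rw [← Cfsg.Agent.H9.SubfieldPSL2.card_SL2_all]
  exact (Nat.card_congr (MonoidHom.ofInjective (psi_injective ι c)).toEquiv).symm

/-- the simple case: a non-solvable maximal subgroup of `SL₂(F)`, `F` of characteristic two,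
containing a torus element normalizing a root subgroup, is a subfield subgroup of prime degree -/
theorem core (h2 : (2 : F) = 0) (G : Subgroup SL2) (hG : IsCoatom G)
    (hns : ¬ Group.IsSolvable G) {c : F} (hc : c ≠ 0) (hu : u c ∈ G)
    (y : SL2) (hy : y ∈ G) (hy10 : y.1 1 0 = 0) (hy00 : y.1 0 0 ^ 2 ≠ 1) :
    ∃ n r : ℕ, r.Prime ∧ 4 ≤ 2 ^ n ∧ Fintype.card F = (2 ^ n) ^ r ∧
      Nonempty (G ≃* Matrix.SpecialLinearGroup (Fin 2) (GaloisField 2 n)) := by
  classical
  haveI : Fact (Nat.Prime 2) := ⟨Nat.prime_two⟩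
  haveI : CharP F 2 := CharTwo.of_one_ne_zero_of_two_eq_zero one_ne_zero h2
  have hZ : Subgroup.center SL2 ≤ G := by rw [center_eq_bot h2]; exact bot_le
  -- `t ≥ 3`
  have ht : 3 ≤ Nat.card (theta G).range := by
    set yB : Bor G := ⟨⟨y, hy⟩, (mem_Bor G).2 hy10⟩ with hyB
    have hne : theta G yB ≠ 1 := by
      intro h
      apply hy00
      have := congrArg (fun e : Fˣ => (e : F)) h
      simp only [theta_apply, Units.val_one] at this
      exact this
    have h2' : 2 ≤ Nat.card (theta G).range := by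
      by_contra hcon
      have h1 : Nat.card (theta G).range = 1 := by
        have : 0 < Nat.card (theta G).range := Nat.card_pos
        omega
      have hbot := Subgroup.card_eq_one.1 h1
      have hmem : theta G yB ∈ (theta G).range := ⟨yB, rfl⟩
      rw [hbot, mem_bot] at hmem
      exact hne hmem
    have hdvd := card_range_theta_dvd' G
    have h2S := p_dvd_card_A 2 (A G) hc hu
    obtain ⟨w, hw⟩ := h2S
    have hwpos : 0 < w := by
      have : 0 < Nat.card (A G) := Nat.card_pos
      omega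
    rcases Nat.even_or_odd (Nat.card (theta G).range) with he | ho
    · exfalso
      obtain ⟨v, hv⟩ := he
      have : 2 ∣ Nat.card (A G) - 1 := (Dvd.intro_left v (by omega)).trans hdvd
      omega
    · obtain ⟨v, hv⟩ := ho
      omega
  obtain ⟨r, hr⟩ := caseII_concrete 2 G hZ hc hu ht
  set G2 : Subgroup SL2 := cj r G with hG2def
  have hG2 : IsCoatom G2 := coatom_map (MulAut.conj (u r)) G hG
  have e2 : G ≃* G2 := (MulAut.conj (u r)).subgroupMap G
  rcases hr with hB | ⟨n, ι, hn, h4, hmem, hcard⟩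
  · exfalso
    apply hns
    have hle : G2 ≤ (Cfsg.Agent.H9.PSL2Borel.UTs : Subgroup SL2) := fun g hg => hB g hg
    have h1 : Group.IsSolvable G2 := by
      have := Cfsg.Agent.H9.PSL2Borel.isSolvable_UTs (F := F)
      exact Group.isSolvable_of_isSolvable_injective (f := Subgroup.inclusion hle)
        (Subgroup.inclusion_injective hle)
    exact Group.isSolvable_of_surjective (f := e2.symm.toMonoidHom) e2.symm.surjective
  · let _ : Fintype (GaloisField 2 n) := Fintype.ofFinite _
    set c' : Fˣ := Units.mk0 c hc with hc'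
    obtain ⟨S, hS'⟩ : ∃ S, S = Nat.card (GaloisField 2 n) := ⟨_, rfl⟩
    rw [← hS'] at h4 hcard
    have hS : S = Fintype.card (GaloisField 2 n) := by rw [hS', Nat.card_eq_fintype_card]
    have hSn : S = 2 ^ n := by
      rw [hS', GaloisField.card 2 n hn]
    set R : Subgroup SL2 := (psi ι c').range with hR
    have hRG : R ≤ G2 := by
      rintro _ ⟨m, rfl⟩
      exact hmem m
    have hRcard : Nat.card R = S * (S ^ 2 - 1) := by rw [hS]; exact card_range_psi ι c'
    have hG2card : Nat.card G2 = Nat.card (G2.map (pr : SL2 →* PSL2)) :=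
      Nat.card_congr (G2.equivMapOfInjective (pr : SL2 →* PSL2)
        (Cfsg.Agent.H9.A4Char2.pr_injective h2)).toEquiv
    have hle : Nat.card R ≤ Nat.card G2 := Subgroup.card_le_of_le hRG
    have hpos : 0 < S * (S ^ 2 - 1) := by
      apply Nat.mul_pos (by omega)
      have : 4 ^ 2 ≤ S ^ 2 := Nat.pow_le_pow_left h4 2
      omega
    have hG2card' : Nat.card G2 = S * (S ^ 2 - 1) := by
      rcases hcard with h | h
      · rw [hG2card, h]
      · exfalso
        rw [hRcard, hG2card] at hle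
        omega
    have hRG2 : R = G2 := Subgroup.eq_of_le_of_card_ge hRG (by rw [hRcard, hG2card'])
    have eR : R ≃* Matrix.SpecialLinearGroup (Fin 2) (GaloisField 2 n) :=
      (MonoidHom.ofInjective (psi_injective ι c')).symm
    have eG : G ≃* Matrix.SpecialLinearGroup (Fin 2) (GaloisField 2 n) :=
      (e2.trans (MulEquiv.subgroupCongr hRG2.symm)).trans eR
    -- the degree
    letI : Algebra (GaloisField 2 n) F := ι.toAlgebra
    have : Module.Finite (GaloisField 2 n) F := Module.Finite.of_finite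
    obtain ⟨m, hm⟩ : ∃ m, m = Module.finrank (GaloisField 2 n) F := ⟨_, rfl⟩
    have hqS : Fintype.card F = S ^ m := by
      rw [← Nat.card_eq_fintype_card,
        Module.natCard_eq_pow_finrank (K := GaloisField 2 n) (V := F), ← hm,
        Nat.card_eq_fintype_card, ← hS]
    have hq1 : 1 < Fintype.card F := Fintype.one_lt_card
    have hcardSL : Nat.card SL2 = Fintype.card F * (Fintype.card F ^ 2 - 1) :=
      Cfsg.Agent.H9.SubfieldPSL2.card_SL2_all
    have hm0 : m ≠ 0 := by
      rintro rfl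
      rw [pow_zero] at hqS
      omega
    have hm1 : m ≠ 1 := by
      rintro rfl
      rw [pow_one] at hqS
      apply hG2.1
      apply Subgroup.eq_top_of_card_eq
      rw [hG2card', hcardSL, hqS]
    have hmp : m.Prime := by
      by_contra hnp
      obtain ⟨a, ha_dvd, ha2, ha_lt⟩ := Nat.exists_dvd_of_not_prime2 (by omega) hnp
      obtain ⟨b, hb⟩ := ha_dvd
      have hb2 : 2 ≤ b := by
        by_contra hcon
        have : b ≤ 1 := by omega
        rcases Nat.eq_zero_or_pos b with rfl | hbpos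
        · rw [mul_zero] at hb; exact hm0 hb
        · have : b = 1 := by omega
          rw [this, mul_one] at hb
          omega
      let _ : Fintype (GaloisField 2 (n * a)) := Fintype.ofFinite _
      have hna : n * a ≠ 0 := Nat.mul_ne_zero hn (by omega)
      have hS1 : Fintype.card (GaloisField 2 (n * a)) = S ^ a := by
        rw [← Nat.card_eq_fintype_card, GaloisField.card 2 (n * a) hna, hSn, pow_mul]
      obtain ⟨ι1⟩ := Cfsg.Agent.H9.SubfieldPSL2.exists_ringHom (F := F)
        (K := GaloisField 2 (n * a)) b (by omega) (by rw [hS1, ← pow_mul, ← hb, hqS])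
      set R1 : Subgroup SL2 := (psi ι1 c').range with hR1
      have hsub : ∀ k : GaloisField 2 n, ∃ k1 : GaloisField 2 (n * a), ι1 k1 = ι k :=
        range_le_range ι ι1 a (by rw [hS1, hS])
      have hRR1 : R ≤ R1 := by
        rintro _ ⟨m', rfl⟩
        apply psi_mem ι c' R1
        · intro k
          obtain ⟨k1, hk1⟩ := hsub k
          refine ⟨u k1, ?_⟩
          rw [psi_u, hk1]
        · intro k
          obtain ⟨k1, hk1⟩ := hsub k
          refine ⟨l k1, ?_⟩
          rw [psi_l, hk1]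
      have hR1card : Nat.card R1 = S ^ a * ((S ^ a) ^ 2 - 1) := by
        rw [← hS1]; exact card_range_psi ι1 c'
      have hSa : S < S ^ a := by
        calc S = S ^ 1 := (pow_one S).symm
          _ < S ^ a := Nat.pow_lt_pow_right (by omega) (by omega)
      have hSaq : S ^ a < Fintype.card F := by
        rw [hqS, hb]
        calc S ^ a = (S ^ a) ^ 1 := (pow_one _).symm
          _ < (S ^ a) ^ b := Nat.pow_lt_pow_right (by omega) (by omega)
          _ = S ^ (a * b) := (pow_mul S a b).symm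
      have hlt : G2 < R1 := by
        rw [← hRG2]
        apply lt_of_le_of_ne hRR1
        intro h
        have := mono_card S (S ^ a) (by omega) hSa
        rw [← hRcard, ← hR1card, h] at this
        exact lt_irrefl _ this
      have htop := hG2.2 R1 hlt
      have := mono_card (S ^ a) (Fintype.card F) (by omega) hSaq
      rw [← hR1card, ← hcardSL, htop, Subgroup.card_top] at this
      exact lt_irrefl _ this
    exact ⟨n, m, hmp, by rw [← hSn]; exact h4, by rw [← hSn]; exact hqS, ⟨eG⟩⟩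

end core

section simple

variable {F : Type u} [Field F] [Fintype F]

local notation "SL2" => Matrix.SpecialLinearGroup (Fin 2) F
local notation "PSL2" => Matrix.ProjectiveSpecialLinearGroup (Fin 2) F

/-- the simple case, in `SL₂`: a non-solvable maximal subgroup containing an involution `z` and
a conjugate of it, different from `z` and commuting with `z` -/
theorem simple_SL2 (h2 : (2 : F) = 0) (G : Subgroup SL2) (hG : IsCoatom G)
    (hns : ¬ Group.IsSolvable G) (z y : SL2) (hz : z ∈ G) (hy : y ∈ G) (hz1 : z ≠ 1)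
    (hzz : z * z = 1) (hcomm : (y * z * y⁻¹) * z = z * (y * z * y⁻¹)) (hne : y * z * y⁻¹ ≠ z) :
    ∃ n r : ℕ, r.Prime ∧ 4 ≤ 2 ^ n ∧ Fintype.card F = (2 ^ n) ^ r ∧
      Nonempty (G ≃* Matrix.SpecialLinearGroup (Fin 2) (GaloisField 2 n)) := by
  classical
  haveI : Fact (Nat.Prime 2) := ⟨Nat.prime_two⟩
  haveI : CharP F 2 := CharTwo.of_one_ne_zero_of_two_eq_zero one_ne_zero h2
  have htr : z.1.trace = 2 := trace_of_pow_p 2 z 1 (by rw [pow_one, pow_two]; exact hzz)
  obtain ⟨m, c, hmc⟩ := exists_conj_u z htr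
  have hc : c ≠ 0 := by
    rintro rfl
    apply hz1
    rw [u_zero] at hmc
    calc z = m⁻¹ * (m * z * m⁻¹) * m := by group
      _ = 1 := by rw [hmc]; group
  set G1 : Subgroup SL2 := G.map (MulAut.conj m).toMonoidHom with hG1
  have hG1c : IsCoatom G1 := coatom_map (MulAut.conj m) G hG
  have e1 : G ≃* G1 := (MulAut.conj m).subgroupMap G
  have hns1 : ¬ Group.IsSolvable G1 := by
    intro h
    apply hns
    exact Group.isSolvable_of_surjective (f := e1.symm.toMonoidHom) e1.symm.surjective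
  have hu : u c ∈ G1 := ⟨z, hz, by rw [← hmc]; rfl⟩
  set y1 : SL2 := m * y * m⁻¹ with hy1
  have hy1G : y1 ∈ G1 := ⟨y, hy, rfl⟩
  have hconj : y1 * u c * y1⁻¹ = m * (y * z * y⁻¹) * m⁻¹ := by
    rw [← hmc, hy1]; group
  have hcomm1 : (y1 * u c * y1⁻¹) * u c = u c * (y1 * u c * y1⁻¹) := by
    rw [hconj, ← hmc]
    calc m * (y * z * y⁻¹) * m⁻¹ * (m * z * m⁻¹) = m * ((y * z * y⁻¹) * z) * m⁻¹ := by group
      _ = m * (z * (y * z * y⁻¹)) * m⁻¹ := by rw [hcomm]
      _ = m * z * m⁻¹ * (m * (y * z * y⁻¹) * m⁻¹) := by group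
  have hy10 : y1.1 1 0 = 0 := (conj_u_commute_iff hc y1).1 hcomm1
  have hy00 : y1.1 0 0 ^ 2 ≠ 1 := by
    intro h
    apply hne
    have e : y1 * u c * y1⁻¹ = u c := by
      rw [conj_u_of_eq y1 hy10 c, h, one_mul]; group
    rw [hconj, ← hmc] at e
    calc y * z * y⁻¹ = m⁻¹ * (m * (y * z * y⁻¹) * m⁻¹) * m := by group
      _ = m⁻¹ * (m * z * m⁻¹) * m := by rw [e]
      _ = z := by group
  obtain ⟨n, r, hr, h4, hq, ⟨e⟩⟩ := core h2 G1 hG1c hns1 hc hu y1 hy1G hy10 hy00
  exact ⟨n, r, hr, h4, hq, ⟨e1.trans e⟩⟩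

/-- `SL₂ ≃ PSL₂` in characteristic two -/
noncomputable def slEquiv {K : Type*} [Field K] (h2 : (2 : K) = 0) :
    Matrix.SpecialLinearGroup (Fin 2) K ≃* Matrix.ProjectiveSpecialLinearGroup (Fin 2) K :=
  MulEquiv.ofBijective (pr : Matrix.SpecialLinearGroup (Fin 2) K →* _)
    ⟨Cfsg.Agent.H9.A4Char2.pr_injective h2, pr_surjective⟩

/-- the simple case, in `PSL₂` -/
theorem simple_case (h2 : (2 : F) = 0) (M : Subgroup PSL2) (hM : IsCoatom M)
    (hns : ¬ Group.IsSolvable M)
    (hw : ∃ z y : M, z ≠ 1 ∧ z * z = 1 ∧ (y * z * y⁻¹) * z = z * (y * z * y⁻¹) ∧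
      y * z * y⁻¹ ≠ z) :
    ∃ n r : ℕ, r.Prime ∧ 4 ≤ 2 ^ n ∧ Fintype.card F = (2 ^ n) ^ r ∧
      Nonempty (M ≃* Matrix.ProjectiveSpecialLinearGroup (Fin 2) (GaloisField 2 n)) := by
  classical
  set E : SL2 ≃* PSL2 := slEquiv h2 with hE
  set G0 : Subgroup SL2 := M.map E.symm.toMonoidHom with hG0
  have hG0c : IsCoatom G0 := coatom_map E.symm M hM
  have e0 : M ≃* G0 := E.symm.subgroupMap M
  have hns0 : ¬ Group.IsSolvable G0 := by
    intro h
    apply hns
    exact Group.isSolvable_of_surjective (f := e0.symm.toMonoidHom) e0.symm.surjective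
  obtain ⟨z, y, hz1, hzz, hcomm, hne⟩ := hw
  have hz0 : E.symm z.1 ∈ G0 := ⟨z.1, z.2, rfl⟩
  have hy0 : E.symm y.1 ∈ G0 := ⟨y.1, y.2, rfl⟩
  have hz1' : E.symm z.1 ≠ 1 := by
    intro h
    apply hz1
    apply Subtype.ext
    have := E.symm.injective (h.trans (map_one E.symm).symm)
    exact this
  have hzz' : E.symm z.1 * E.symm z.1 = 1 := by
    rw [← map_mul, ← map_one E.symm]
    congr 1
    exact congrArg Subtype.val hzz
  have hcomm' : (E.symm y.1 * E.symm z.1 * (E.symm y.1)⁻¹) * E.symm z.1 =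
      E.symm z.1 * (E.symm y.1 * E.symm z.1 * (E.symm y.1)⁻¹) := by
    rw [← map_inv, ← map_mul, ← map_mul, ← map_mul, ← map_mul]
    congr 1
    exact congrArg Subtype.val hcomm
  have hne' : E.symm y.1 * E.symm z.1 * (E.symm y.1)⁻¹ ≠ E.symm z.1 := by
    intro h
    apply hne
    apply Subtype.ext
    rw [← map_inv, ← map_mul, ← map_mul] at h
    exact E.symm.injective h
  obtain ⟨n, r, hr, h4, hq, ⟨e⟩⟩ :=
    simple_SL2 h2 G0 hG0c hns0 _ _ hz0 hy0 hz1' hzz' hcomm' hne'
  have hn : n ≠ 0 := by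
    rintro rfl
    norm_num at h4
  haveI : Fact (Nat.Prime 2) := ⟨Nat.prime_two⟩
  have h2K : (2 : GaloisField 2 n) = 0 := by
    have : ((2 : ℕ) : GaloisField 2 n) = 0 := CharP.cast_eq_zero _ 2
    exact_mod_cast this
  exact ⟨n, r, hr, h4, hq, ⟨(e0.trans e).trans (slEquiv h2K)⟩⟩

end simple

end Cfsg.Agent.H9.PSL2MaxEven
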