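import Mathlib
import Cfsg.Agent.H9.PSL2MaxEven
import Cfsg.Agent.H9.DicksonMain
import Cfsg.Agent.H9.PSL2MaxDih
import Cfsg.Agent.S4062
import Cfsg.Agent.S0265

set_option autoImplicit false

/-! Maximal subgroups of `PSL₂(F)`, `F` of characteristic two: the list. -/

namespace Cfsg.Agent.H9.PSL2MaxEven

open Matrix Subgroup
open Cfsg.Agent.H9.AutPSL2
open Cfsg.Agent.H9.DicksonUN
open Cfsg.Agent.H9.PSL2MaxGen

universe u

/-- the witness: an involution with a conjugate different from it and commuting with it -/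
def W (X : Type*) [Group X] : Prop :=
  ∃ z y : X, z ≠ 1 ∧ z * z = 1 ∧ (y * z * y⁻¹) * z = z * (y * z * y⁻¹) ∧ y * z * y⁻¹ ≠ z

theorem W.of_equiv {X Y : Type*} [Group X] [Group Y] (e : X ≃* Y) (h : W Y) : W X := by
  obtain ⟨z, y, h1, h2, h3, h4⟩ := h
  refine ⟨e.symm z, e.symm y, ?_, ?_, ?_, ?_⟩
  · intro h
    apply h1
    exact e.symm.injective (h.trans (map_one e.symm).symm)
  · rw [← map_mul, h2, map_one]
  · rw [← map_inv, ← map_mul, ← map_mul, ← map_mul, ← map_mul, h3]
  · intro h
    apply h4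
    rw [← map_inv, ← map_mul, ← map_mul] at h
    exact e.symm.injective h

set_option maxRecDepth 100000 in
theorem W_A5 : W (alternatingGroup (Fin 5)) := by
  refine ⟨⟨Equiv.swap 0 1 * Equiv.swap 2 3, by rw [Equiv.Perm.mem_alternatingGroup]; decide⟩,
    ⟨Equiv.swap 0 1 * Equiv.swap 1 2, by rw [Equiv.Perm.mem_alternatingGroup]; decide⟩,
    ?_, ?_, ?_, ?_⟩
  · intro h
    have := congrArg Subtype.val h
    revert this
    decide
  · apply Subtype.ext
    decide
  · apply Subtype.ext
    decide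
  · intro h
    have := congrArg Subtype.val h
    revert this
    decide

theorem not_solvable_A5 : ¬ Group.IsSolvable (alternatingGroup (Fin 5)) := by
  intro h
  have hs : IsSimpleGroup (alternatingGroup (Fin 5)) := alternatingGroup.isSimpleGroup_five
  have hc := IsSimpleGroup.comm_iff_isSolvable.2 h
  obtain ⟨z, y, h1, h2, h3, h4⟩ := W_A5
  apply h4
  rw [hc y z]
  group

section WPSL

variable {K : Type*} [Field K]

theorem W_PSL2 (h2 : (2 : K) = 0) (e : Kˣ) (he : (e : K) ^ 2 ≠ 1) :
    W (Matrix.ProjectiveSpecialLinearGroup (Fin 2) K) := by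
  have hconj : dg e * u 1 * (dg e)⁻¹ = u ((e : K) ^ 2) := by
    rw [conj_u_of_eq (dg e) rfl 1, mul_one, dg_00]; group
  refine ⟨pr (u 1), pr (dg e), ?_, ?_, ?_, ?_⟩
  · intro h
    rw [← map_one pr, pr_eq_iff] at h
    rcases h with h | h
    · have := congrArg (fun g : Matrix.SpecialLinearGroup (Fin 2) K => g.1 0 1) h
      simp at this
    · have := congrArg (fun g : Matrix.SpecialLinearGroup (Fin 2) K => g.1 0 1) h
      simp at this
  · rw [← map_mul, ← u_add]
    have : (1 : K) + 1 = 0 := by rw [one_add_one_eq_two, h2]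
    rw [this, u_zero, map_one]
  · rw [← map_inv, ← map_mul, ← map_mul, ← map_mul, ← map_mul, hconj, ← u_add, ← u_add, add_comm]
  · rw [← map_inv, ← map_mul, ← map_mul, hconj]
    intro h
    rw [pr_eq_iff] at h
    rcases h with h | h
    · have := congrArg (fun g : Matrix.SpecialLinearGroup (Fin 2) K => g.1 0 1) h
      simp only [u_01] at this
      exact he this
    · rw [Cfsg.Agent.H9.A4Char2.neg_eq_self h2] at h
      have := congrArg (fun g : Matrix.SpecialLinearGroup (Fin 2) K => g.1 0 1) h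
      simp only [u_01] at this
      exact he this

variable [Fintype K]

/-- `PSL₂ ≃ PGL₂` in characteristic two -/
theorem pgl_equiv (h2 : (2 : K) = 0) :
    Nonempty (Matrix.ProjectiveSpecialLinearGroup (Fin 2) K ≃* Matrix.ProjGenLinGroup (Fin 2) K) := by
  classical
  have hinj := Matrix.ProjectiveSpecialLinearGroup.toPGL_injective (n := Fin 2) (R := K)
  have hcP : Nat.card (Matrix.ProjGenLinGroup (Fin 2) K) =
      Nat.card (Matrix.ProjectiveSpecialLinearGroup (Fin 2) K) := by
    rw [Cfsg.Agent.S0265.result]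
    exact Nat.card_congr (slEquiv h2).toEquiv
  have hfin : Finite (Matrix.ProjGenLinGroup (Fin 2) K) := by
    apply Nat.finite_of_card_ne_zero
    rw [hcP]
    exact Nat.card_pos.ne'
  have hbij : Function.Bijective
      (Matrix.ProjectiveSpecialLinearGroup.toPGL (n := Fin 2) (R := K)) := by
    rw [Nat.bijective_iff_injective_and_card]
    exact ⟨hinj, hcP.symm⟩
  exact ⟨MulEquiv.ofBijective _ hbij⟩

end WPSL

section main

variable {F : Type u} [Field F] [Fintype F]

local notation "SL2" => Matrix.SpecialLinearGroup (Fin 2) F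
local notation "PSL2" => Matrix.ProjectiveSpecialLinearGroup (Fin 2) F

/-- maximal subgroups of `PSL₂(q)`, `q ≥ 4` even -/
theorem main_even (h2 : (2 : F) = 0) (hq4 : 4 ≤ Fintype.card F) (M : Subgroup PSL2)
    (hM : IsCoatom M) :
    Nat.card M = Fintype.card F * (Fintype.card F - 1) ∨
    Nonempty (M ≃* DihedralGroup (Fintype.card F - 1)) ∨
    Nonempty (M ≃* DihedralGroup (Fintype.card F + 1)) ∨
    ∃ n r : ℕ, r.Prime ∧ 4 ≤ 2 ^ n ∧ Fintype.card F = (2 ^ n) ^ r ∧
      Nonempty (M ≃* Matrix.ProjectiveSpecialLinearGroup (Fin 2) (GaloisField 2 n)) := by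
  classical
  haveI : Fact (Nat.Prime 2) := ⟨Nat.prime_two⟩
  haveI : CharP F 2 := CharTwo.of_one_ne_zero_of_two_eq_zero one_ne_zero h2
  have hsimple := Cfsg.Agent.H9.PSL2MinSimple.isSimple hq4
  obtain ⟨f, -, hf⟩ := FiniteField.card F 2
  have hf0 : (f : ℕ) ≠ 0 := PNat.ne_zero f
  have hqeven : 2 ∣ Fintype.card F := by rw [hf]; exact dvd_pow_self 2 hf0
  have hd : Nat.gcd 2 (Fintype.card F - 1) = 1 := by
    have h1 : Nat.gcd 2 (Fintype.card F - 1) ∣ 2 := Nat.gcd_dvd_left _ _
    have h3 : Nat.gcd 2 (Fintype.card F - 1) ∣ Fintype.card F - 1 := Nat.gcd_dvd_right _ _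
    rcases (Nat.dvd_prime Nat.prime_two).1 h1 with h | h
    · exact h
    · exfalso
      rw [h] at h3
      omega
  have h3q : 3 ∣ Fintype.card F + 1 ∨ 3 ∣ Fintype.card F - 1 := by
    have h1 : ¬ 3 ∣ Fintype.card F := by
      rw [hf]
      intro h
      have := Nat.Prime.dvd_of_dvd_pow Nat.prime_three h
      omega
    have h1' : Fintype.card F % 3 = 1 ∨ Fintype.card F % 3 = 2 := by omega
    rcases h1' with h | h
    · right; omega
    · left; omega
  -- the abelian case is impossible
  have hnab : ∃ a b : M, a * b ≠ b * a := by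
    by_contra hcon
    push Not at hcon
    apply no_abelian_maximal hna M hM
    intro a ha b hb
    exact congrArg Subtype.val (hcon ⟨a, ha⟩ ⟨b, hb⟩)
  -- the dihedral case
  have hdih : ∀ k : ℕ, (k ∣ (Fintype.card F + 1) / Nat.gcd 2 (Fintype.card F - 1) ∨
      k ∣ (Fintype.card F - 1) / Nat.gcd 2 (Fintype.card F - 1)) → (M ≃* DihedralGroup k) →
      Nonempty (M ≃* DihedralGroup (Fintype.card F - 1)) ∨
        Nonempty (M ≃* DihedralGroup (Fintype.card F + 1)) := by
    intro k hk e
    rcases dihedral_max 2 hq4 M hM k hk e with h | h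
    · rw [hd, Nat.div_one] at h
      subst h
      exact Or.inr ⟨e⟩
    · rw [hd, Nat.div_one] at h
      subst h
      exact Or.inl ⟨e⟩
  -- the simple case
  have hsimp : ∀ {X : Type} [Group X], (M ≃* X) → W X → ¬ Group.IsSolvable X →
      ∃ n r : ℕ, r.Prime ∧ 4 ≤ 2 ^ n ∧ Fintype.card F = (2 ^ n) ^ r ∧
      Nonempty (M ≃* Matrix.ProjectiveSpecialLinearGroup (Fin 2) (GaloisField 2 n)) := by
    intro X _ e hW hns
    apply simple_case h2 M hM
    · exact Cfsg.Agent.H9.PSL2MinSimple.not_solvable_of_equiv e hns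
    · exact hW.of_equiv e
  have hchar : ∀ (K' : Type) [Field K'] [Fintype K'] (m : ℕ),
      Fintype.card K' ^ m = Fintype.card F → (2 : K') = 0 := by
    intro K' _ _ m hm
    have hm0 : m ≠ 0 := by
      rintro rfl
      rw [pow_zero] at hm
      omega
    haveI : CharP K' 2 := Cfsg.Agent.H9.PSL2MaxDih.charP_of_card_pow 2 Nat.prime_two m f
      (by rw [hm, hf]) hm0
    have : ((2 : ℕ) : K') = 0 := CharP.cast_eq_zero _ 2
    exact_mod_cast this
  have hsub : ∀ (K' : Type) [Field K'] [Fintype K'] (m : ℕ),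
      Fintype.card K' ^ m = Fintype.card F →
      (M ≃* Matrix.ProjectiveSpecialLinearGroup (Fin 2) K') →
      (Nat.card M = Fintype.card F * (Fintype.card F - 1) ∨
      Nonempty (M ≃* DihedralGroup (Fintype.card F - 1)) ∨
      Nonempty (M ≃* DihedralGroup (Fintype.card F + 1)) ∨
      ∃ n r : ℕ, r.Prime ∧ 4 ≤ 2 ^ n ∧ Fintype.card F = (2 ^ n) ^ r ∧
        Nonempty (M ≃* Matrix.ProjectiveSpecialLinearGroup (Fin 2) (GaloisField 2 n))) := by
    intro K' _ _ m hm e
    have h2K := hchar K' m hm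
    haveI : CharP K' 2 := CharTwo.of_one_ne_zero_of_two_eq_zero one_ne_zero h2K
    obtain ⟨j, -, hj⟩ := FiniteField.card K' 2
    by_cases hK2 : Fintype.card K' = 2
    · -- order 6
      have hcard : Nat.card M = 6 := by
        rw [Nat.card_congr e.toEquiv, ← Nat.card_congr (slEquiv h2K).toEquiv,
          Cfsg.Agent.H9.SubfieldPSL2.card_SL2_all, hK2]
        norm_num
      obtain ⟨e1⟩ := Cfsg.Agent.S4062.mulEquiv_perm_three hcard hnab
      have hD3 : Nat.card (DihedralGroup 3) = 6 := by rw [DihedralGroup.nat_card]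
      obtain ⟨e2⟩ := Cfsg.Agent.S4062.mulEquiv_perm_three hD3
        ⟨DihedralGroup.r 1, DihedralGroup.sr 0, by decide⟩
      right
      rcases hdih 3 (by rw [hd, Nat.div_one, Nat.div_one]; exact h3q) (e1.trans e2.symm)
        with h | h
      · exact Or.inl h
      · exact Or.inr (Or.inl h)
    · have hK4 : 4 ≤ Fintype.card K' := by
        rw [hj] at hK2 ⊢
        have hj1 : (j : ℕ) ≠ 1 := by
          intro h; apply hK2; rw [h, pow_one]
        have hj0 : (j : ℕ) ≠ 0 := PNat.ne_zero j
        calc 4 = 2 ^ 2 := by norm_num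
          _ ≤ 2 ^ (j : ℕ) := Nat.pow_le_pow_right (by norm_num) (by omega)
      obtain ⟨e0, he0⟩ := Cfsg.Agent.H9.PSL2Tori.exists_unit_sq_ne hK4
      right; right; right
      exact hsimp e (W_PSL2 h2K e0 he0) (Cfsg.Agent.H9.PSL2MinSimple.not_solvable hK4)
  have hD := dickson (Fintype.card F) 2 rfl M
  rcases hD with ⟨k, hk, ⟨hc, hck⟩ | ⟨⟨e⟩⟩⟩ | ⟨P, K', hK', ⟨e⟩⟩ | ⟨⟨e⟩⟩ | ⟨⟨e⟩⟩ | ⟨⟨e⟩⟩ |
    ⟨K', i1, i2, m, hm, ⟨⟨e⟩⟩ | ⟨⟨e⟩⟩⟩
  · -- cyclic
    exfalso
    obtain ⟨a, b, hab⟩ := hnab
    exact Cfsg.Agent.H9.DicksonMax.no_cyclic a b hab (MonoidHom.id M) Function.injective_id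
  · -- dihedral
    right
    rcases hdih k hk e with h | h
    · exact Or.inl h
    · exact Or.inr (Or.inl h)
  · -- Borel
    left
    have := borel_type 2 hq4 M hM P K' hK' e
    rwa [hd, mul_one] at this
  · -- A4
    left
    have h4 : Nat.card (Fin 4) = 4 := by simp
    haveI := alternatingGroup.normal_kleinFour h4
    have hK4 := alternatingGroup.kleinFour_isKleinFour h4
    have := card_of_equiv_normal 2 hq4 M hM e (alternatingGroup.kleinFour (Fin 4))
      (IsPGroup.of_card (n := 2) (by rw [hK4.card_four]; norm_num))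
      (by
        intro h
        have h1 := hK4.card_four
        rw [h, Subgroup.card_bot] at h1
        omega)
    rwa [hd, mul_one] at this
  · -- S4
    left
    have h4 : Nat.card (Fin 4) = 4 := by simp
    haveI := alternatingGroup.characteristic_kleinFour h4
    have hK4 := alternatingGroup.kleinFour_isKleinFour h4
    set N : Subgroup (Equiv.Perm (Fin 4)) :=
      (alternatingGroup.kleinFour (Fin 4)).map (alternatingGroup (Fin 4)).subtype with hN
    haveI hNn : N.Normal := ConjAct.normal_of_characteristic_of_normal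
    have hNcard : Nat.card N = 4 := by
      rw [hN, Subgroup.card_map_of_injective (Subgroup.subtype_injective _)]
      exact hK4.card_four
    have := card_of_equiv_normal 2 hq4 M hM e N
      (IsPGroup.of_card (n := 2) (by rw [hNcard]; norm_num))
      (by
        intro h
        rw [h, Subgroup.card_bot] at hNcard
        omega)
    rwa [hd, mul_one] at this
  · -- A5
    right; right; right
    exact hsimp e W_A5 not_solvable_A5
  · exact hsub K' m hm e
  · obtain ⟨e'⟩ := pgl_equiv (hchar K' m hm)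
    exact hsub K' m hm (e.trans e'.symm)

end main

end Cfsg.Agent.H9.PSL2MaxEven
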