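import Mathlib
import Cfsg.Agent.H9.PSL2MaxEven2

set_option autoImplicit false

/-! Maximal subgroups of `PSL₂(F)`, `F` of characteristic two: the list, with the Borel subgroups
identified. -/

namespace Cfsg.Agent.H9.PSL2MaxEven

open Matrix Subgroup
open Cfsg.Agent.H9.AutPSL2
open Cfsg.Agent.H9.DicksonUN
open Cfsg.Agent.H9.PSL2MaxGen
open Cfsg.Agent.H9.PSL2Borel

universe u

section borel

variable {F : Type u} [Field F] [Fintype F]

local notation "SL2" => Matrix.SpecialLinearGroup (Fin 2) F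
local notation "PSL2" => Matrix.ProjectiveSpecialLinearGroup (Fin 2) F

/-- a maximal subgroup normalizing a non-trivial `p`-subgroup is a Borel subgroup -/
theorem eq_BorC_of_normal_pSubgroup (p : ℕ) [Fact p.Prime] [CharP F p]
    (hq4 : 4 ≤ Fintype.card F) (M : Subgroup PSL2) (hM : IsCoatom M)
    (Q : Subgroup PSL2) (hQ : IsPGroup p Q) (hne : Q ≠ ⊥) (hQM : Q ≤ M)
    (hn : M ≤ normalizer (Q : Set PSL2)) : ∃ g : PSL2, M = BorC g := by
  have := Cfsg.Agent.H9.PSL2MinSimple.isSimple hq4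
  have hN := normalizer_eq_of_coatom M hM Q hne hQM hn
  obtain ⟨g, hg⟩ := normalizer_le_BorC p Q hQ hne
  rw [hN] at hg
  exact ⟨g, (eq_of_coatom_le M (BorC g) hM hg (BorC_ne_top g)).symm⟩

/-- the same, for a normal `p`-subgroup of an abstract copy -/
theorem eq_BorC_of_equiv_normal (p : ℕ) [Fact p.Prime] [CharP F p]
    (hq4 : 4 ≤ Fintype.card F) (M : Subgroup PSL2) (hM : IsCoatom M)
    {X : Type*} [Group X] (e : M ≃* X) (N : Subgroup X) [hN : N.Normal] (hNp : IsPGroup p N)
    (hne : N ≠ ⊥) : ∃ g : PSL2, M = BorC g := by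
  set N' : Subgroup M := N.comap e.toMonoidHom with hN'
  have hN'n : N'.Normal := hN.comap _
  have hN'p : IsPGroup p N' := hNp.comap_of_injective _ e.injective
  have hN'ne : N' ≠ ⊥ := by
    intro h
    apply hne
    have := Subgroup.map_comap_eq_self_of_surjective (f := e.toMonoidHom) e.surjective N
    rw [← this, ← hN', h, Subgroup.map_bot]
  set Q : Subgroup PSL2 := N'.map M.subtype with hQ
  apply eq_BorC_of_normal_pSubgroup p hq4 M hM Q (hN'p.map _)
  · intro h
    apply hN'ne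
    exact (Subgroup.map_eq_bot_iff_of_injective N' M.subtype_injective).1 h
  · rintro _ ⟨x, -, rfl⟩
    exact x.2
  · apply le_normalizer_of_conj_mem
    rintro m hm _ ⟨x, hx, rfl⟩
    refine ⟨⟨m, hm⟩ * x * ⟨m, hm⟩⁻¹, ?_, rfl⟩
    exact hN'n.conj_mem x hx ⟨m, hm⟩

/-- maximal subgroups of Borel type -/
theorem borel_type' (p : ℕ) [Fact p.Prime] [CharP F p]
    (hq4 : 4 ≤ Fintype.card F) (M : Subgroup PSL2) (hM : IsCoatom M)
    (P : Sylow p PSL2) (K' : Subgroup PSL2)
    (hK' : K' ≤ normalizer ((P : Subgroup PSL2) : Set PSL2)) (e : M ≃* K') :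
    ∃ g : PSL2, M = BorC g := by
  have hsimple := Cfsg.Agent.H9.PSL2MinSimple.isSimple hq4
  set N : Subgroup K' := ((P : Subgroup PSL2) ⊓ K').subgroupOf K' with hN
  have hNn : N.Normal := by
    constructor
    intro x hx k
    rw [hN, mem_subgroupOf] at hx ⊢
    refine ⟨?_, (k * x * k⁻¹).2⟩
    have hk := hK' k.2
    have := (mem_normalizer_iff.1 hk x.1).1 hx.1
    exact this
  have hNp : IsPGroup p N := by
    have h1 : IsPGroup p ((P : Subgroup PSL2) ⊓ K' : Subgroup PSL2) :=
      P.isPGroup'.to_le inf_le_left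
    exact h1.comap_of_injective K'.subtype K'.subtype_injective
  by_cases hne : N = ⊥
  · exfalso
    apply no_abelian_maximal hna M hM
    intro a ha b hb
    have hcomm : e ⟨a, ha⟩ * e ⟨b, hb⟩ = e ⟨b, hb⟩ * e ⟨a, ha⟩ := by
      set x := e ⟨a, ha⟩ with hx
      set y := e ⟨b, hb⟩ with hy
      have hc := Cfsg.Agent.H9.DicksonMax.comm_pow_p p P x.1 y.1 (hK' x.2) (hK' y.2)
      have hcK : x.1 * y.1 * x.1⁻¹ * y.1⁻¹ ∈ K' := (x * y * x⁻¹ * y⁻¹).2
      have hcN : x.1 * y.1 * x.1⁻¹ * y.1⁻¹ ∈ normalizer ((P : Subgroup PSL2) : Set PSL2) :=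
        hK' hcK
      have hcP := mem_sylow_of_normalizer p P _ hcN 1 (by rw [pow_one]; exact hc)
      have hmem : (x * y * x⁻¹ * y⁻¹ : K') ∈ N := by
        rw [hN, mem_subgroupOf]
        exact ⟨hcP, hcK⟩
      rw [hne, mem_bot] at hmem
      calc x * y = (x * y * x⁻¹ * y⁻¹) * y * x := by group
        _ = y * x := by rw [hmem, one_mul]
    have := e.injective (by rw [map_mul, map_mul]; exact hcomm :
      e (⟨a, ha⟩ * ⟨b, hb⟩) = e (⟨b, hb⟩ * ⟨a, ha⟩))
    exact congrArg Subtype.val this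
  · exact eq_BorC_of_equiv_normal p hq4 M hM e N hNp hne

end borel

section main

variable {F : Type u} [Field F] [Fintype F]

local notation "SL2" => Matrix.SpecialLinearGroup (Fin 2) F
local notation "PSL2" => Matrix.ProjectiveSpecialLinearGroup (Fin 2) F

/-- maximal subgroups of `PSL₂(q)`, `q ≥ 4` even -/
theorem main_even' (h2 : (2 : F) = 0) (hq4 : 4 ≤ Fintype.card F) (M : Subgroup PSL2)
    (hM : IsCoatom M) :
    (∃ g : PSL2, M = BorC g) ∨
    Nonempty (M ≃* DihedralGroup (Fintype.card F - 1)) ∨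
    Nonempty (M ≃* DihedralGroup (Fintype.card F + 1)) ∨
    ∃ n r : ℕ, r.Prime ∧ 4 ≤ 2 ^ n ∧ Fintype.card F = (2 ^ n) ^ r ∧
      Nonempty (M ≃* Matrix.ProjectiveSpecialLinearGroup (Fin 2) (GaloisField 2 n)) := by
  classical
  haveI : Fact (Nat.Prime 2) := ⟨Nat.prime_two⟩
  haveI : CharP F 2 := CharTwo.of_one_ne_zero_of_two_eq_zero one_ne_zero h2
  have hsimple := Cfsg.Agent.H9.PSL2MinSimple.isSimple hq4
  obtain ⟨f, -, hf⟩ := FiniteField.card F 2
  have hf0 : (f : ℕ) ≠ 0 := PNat.ne_zero f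
  have hqeven : 2 ∣ Fintype.card F := by rw [hf]; exact dvd_pow_self 2 hf0
  have hd : Nat.gcd 2 (Fintype.card F - 1) = 1 := by
    have h1 : Nat.gcd 2 (Fintype.card F - 1) ∣ 2 := Nat.gcd_dvd_left _ _
    have h3 : Nat.gcd 2 (Fintype.card F - 1) ∣ Fintype.card F - 1 := Nat.gcd_dvd_right _ _
    rcases (Nat.dvd_prime Nat.prime_two).1 h1 with h | h
    · exact h
    · exfalso
      rw [h] at h3
      omega
  have h3q : 3 ∣ Fintype.card F + 1 ∨ 3 ∣ Fintype.card F - 1 := by
    have h1 : ¬ 3 ∣ Fintype.card F := by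
      rw [hf]
      intro h
      have := Nat.Prime.dvd_of_dvd_pow Nat.prime_three h
      omega
    have h1' : Fintype.card F % 3 = 1 ∨ Fintype.card F % 3 = 2 := by omega
    rcases h1' with h | h
    · right; omega
    · left; omega
  -- the abelian case is impossible
  have hnab : ∃ a b : M, a * b ≠ b * a := by
    by_contra hcon
    push Not at hcon
    apply no_abelian_maximal hna M hM
    intro a ha b hb
    exact congrArg Subtype.val (hcon ⟨a, ha⟩ ⟨b, hb⟩)
  -- the dihedral case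
  have hdih : ∀ k : ℕ, (k ∣ (Fintype.card F + 1) / Nat.gcd 2 (Fintype.card F - 1) ∨
      k ∣ (Fintype.card F - 1) / Nat.gcd 2 (Fintype.card F - 1)) → (M ≃* DihedralGroup k) →
      Nonempty (M ≃* DihedralGroup (Fintype.card F - 1)) ∨
        Nonempty (M ≃* DihedralGroup (Fintype.card F + 1)) := by
    intro k hk e
    rcases dihedral_max 2 hq4 M hM k hk e with h | h
    · rw [hd, Nat.div_one] at h
      subst h
      exact Or.inr ⟨e⟩
    · rw [hd, Nat.div_one] at h
      subst h
      exact Or.inl ⟨e⟩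
  -- the simple case
  have hsimp : ∀ {X : Type} [Group X], (M ≃* X) → W X → ¬ Group.IsSolvable X →
      ∃ n r : ℕ, r.Prime ∧ 4 ≤ 2 ^ n ∧ Fintype.card F = (2 ^ n) ^ r ∧
      Nonempty (M ≃* Matrix.ProjectiveSpecialLinearGroup (Fin 2) (GaloisField 2 n)) := by
    intro X _ e hW hns
    apply simple_case h2 M hM
    · exact Cfsg.Agent.H9.PSL2MinSimple.not_solvable_of_equiv e hns
    · exact hW.of_equiv e
  have hchar : ∀ (K' : Type) [Field K'] [Fintype K'] (m : ℕ),
      Fintype.card K' ^ m = Fintype.card F → (2 : K') = 0 := by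
    intro K' _ _ m hm
    have hm0 : m ≠ 0 := by
      rintro rfl
      rw [pow_zero] at hm
      omega
    haveI : CharP K' 2 := Cfsg.Agent.H9.PSL2MaxDih.charP_of_card_pow 2 Nat.prime_two m f
      (by rw [hm, hf]) hm0
    have : ((2 : ℕ) : K') = 0 := CharP.cast_eq_zero _ 2
    exact_mod_cast this
  have hsub : ∀ (K' : Type) [Field K'] [Fintype K'] (m : ℕ),
      Fintype.card K' ^ m = Fintype.card F →
      (M ≃* Matrix.ProjectiveSpecialLinearGroup (Fin 2) K') →
      ((∃ g : PSL2, M = BorC g) ∨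
      Nonempty (M ≃* DihedralGroup (Fintype.card F - 1)) ∨
      Nonempty (M ≃* DihedralGroup (Fintype.card F + 1)) ∨
      ∃ n r : ℕ, r.Prime ∧ 4 ≤ 2 ^ n ∧ Fintype.card F = (2 ^ n) ^ r ∧
        Nonempty (M ≃* Matrix.ProjectiveSpecialLinearGroup (Fin 2) (GaloisField 2 n))) := by
    intro K' _ _ m hm e
    have h2K := hchar K' m hm
    haveI : CharP K' 2 := CharTwo.of_one_ne_zero_of_two_eq_zero one_ne_zero h2K
    obtain ⟨j, -, hj⟩ := FiniteField.card K' 2
    by_cases hK2 : Fintype.card K' = 2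
    · -- order 6
      have hcard : Nat.card M = 6 := by
        rw [Nat.card_congr e.toEquiv, ← Nat.card_congr (slEquiv h2K).toEquiv,
          Cfsg.Agent.H9.SubfieldPSL2.card_SL2_all, hK2]
        norm_num
      obtain ⟨e1⟩ := Cfsg.Agent.S4062.mulEquiv_perm_three hcard hnab
      have hD3 : Nat.card (DihedralGroup 3) = 6 := by rw [DihedralGroup.nat_card]
      obtain ⟨e2⟩ := Cfsg.Agent.S4062.mulEquiv_perm_three hD3
        ⟨DihedralGroup.r 1, DihedralGroup.sr 0, by decide⟩
      right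
      rcases hdih 3 (by rw [hd, Nat.div_one, Nat.div_one]; exact h3q) (e1.trans e2.symm)
        with h | h
      · exact Or.inl h
      · exact Or.inr (Or.inl h)
    · have hK4 : 4 ≤ Fintype.card K' := by
        rw [hj] at hK2 ⊢
        have hj1 : (j : ℕ) ≠ 1 := by
          intro h; apply hK2; rw [h, pow_one]
        have hj0 : (j : ℕ) ≠ 0 := PNat.ne_zero j
        calc 4 = 2 ^ 2 := by norm_num
          _ ≤ 2 ^ (j : ℕ) := Nat.pow_le_pow_right (by norm_num) (by omega)
      obtain ⟨e0, he0⟩ := Cfsg.Agent.H9.PSL2Tori.exists_unit_sq_ne hK4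
      right; right; right
      exact hsimp e (W_PSL2 h2K e0 he0) (Cfsg.Agent.H9.PSL2MinSimple.not_solvable hK4)
  have hD := dickson (Fintype.card F) 2 rfl M
  rcases hD with ⟨k, hk, ⟨hc, hck⟩ | ⟨⟨e⟩⟩⟩ | ⟨P, K', hK', ⟨e⟩⟩ | ⟨⟨e⟩⟩ | ⟨⟨e⟩⟩ | ⟨⟨e⟩⟩ |
    ⟨K', i1, i2, m, hm, ⟨⟨e⟩⟩ | ⟨⟨e⟩⟩⟩
  · -- cyclic
    exfalso
    obtain ⟨a, b, hab⟩ := hnab
    exact Cfsg.Agent.H9.DicksonMax.no_cyclic a b hab (MonoidHom.id M) Function.injective_id
  · -- dihedral
    right
    rcases hdih k hk e with h | h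
    · exact Or.inl h
    · exact Or.inr (Or.inl h)
  · -- Borel
    left
    exact borel_type' 2 hq4 M hM P K' hK' e
  · -- A4
    left
    have h4 : Nat.card (Fin 4) = 4 := by simp
    haveI := alternatingGroup.normal_kleinFour h4
    have hK4 := alternatingGroup.kleinFour_isKleinFour h4
    exact eq_BorC_of_equiv_normal 2 hq4 M hM e (alternatingGroup.kleinFour (Fin 4))
      (IsPGroup.of_card (n := 2) (by rw [hK4.card_four]; norm_num))
      (by
        intro h
        have h1 := hK4.card_four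
        rw [h, Subgroup.card_bot] at h1
        omega)
  · -- S4
    left
    have h4 : Nat.card (Fin 4) = 4 := by simp
    haveI := alternatingGroup.characteristic_kleinFour h4
    have hK4 := alternatingGroup.kleinFour_isKleinFour h4
    set N : Subgroup (Equiv.Perm (Fin 4)) :=
      (alternatingGroup.kleinFour (Fin 4)).map (alternatingGroup (Fin 4)).subtype with hN
    haveI hNn : N.Normal := ConjAct.normal_of_characteristic_of_normal
    have hNcard : Nat.card N = 4 := by
      rw [hN, Subgroup.card_map_of_injective (Subgroup.subtype_injective _)]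
      exact hK4.card_four
    exact eq_BorC_of_equiv_normal 2 hq4 M hM e N
      (IsPGroup.of_card (n := 2) (by rw [hNcard]; norm_num))
      (by
        intro h
        rw [h, Subgroup.card_bot] at hNcard
        omega)
  · -- A5
    right; right; right
    exact hsimp e W_A5 not_solvable_A5
  · exact hsub K' m hm e
  · obtain ⟨e'⟩ := pgl_equiv (hchar K' m hm)
    exact hsub K' m hm (e.trans e'.symm)

end main

end Cfsg.Agent.H9.PSL2MaxEven
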