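import Mathlib

set_option autoImplicit false

/-! Solvable two-generated subgroups: general lemmas. -/

namespace Cfsg.Agent.H9.Solubilizer

open Subgroup

section general

variable {G : Type*} [Group G]

/-- conjugation by an element centralizing or inverting `x` preserves `zpowers x` -/
theorem conj_mem_zpowers (x y : G) (h : y * x * y⁻¹ = x ∨ y * x * y⁻¹ = x⁻¹) (n : G)
    (hn : n ∈ zpowers x) : y * n * y⁻¹ ∈ zpowers x := by
  obtain ⟨j, rfl⟩ := mem_zpowers_iff.1 hn
  rw [← conj_zpow]
  rcases h with h | h
  · rw [h]; exact zpow_mem (mem_zpowers x) j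
  · rw [h]; exact zpow_mem (inv_mem (mem_zpowers x)) j

/-- the inverse of an element centralizing or inverting `x` does the same -/
theorem inverts_inv (x y : G) (h : y * x * y⁻¹ = x ∨ y * x * y⁻¹ = x⁻¹) :
    y⁻¹ * x * y⁻¹⁻¹ = x ∨ y⁻¹ * x * y⁻¹⁻¹ = x⁻¹ := by
  rcases h with h | h
  · left
    calc y⁻¹ * x * y⁻¹⁻¹ = y⁻¹ * (y * x * y⁻¹) * y := by rw [h, inv_inv]
      _ = x := by group
  · right
    calc y⁻¹ * x * y⁻¹⁻¹ = (y⁻¹ * (y * x * y⁻¹) * y)⁻¹ := by rw [h]; group
      _ = x⁻¹ := by group

/-- a group generated by `x` and an element centralizing or inverting `x` is solvable -/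
theorem solvable_of_inverts (x y : G) (h : y * x * y⁻¹ = x ∨ y * x * y⁻¹ = x⁻¹) :
    Group.IsSolvable (closure ({x, y} : Set G)) := by
  set H : Subgroup G := closure ({x, y} : Set G) with hH
  have hxH : x ∈ H := subset_closure (by simp)
  have hyH : y ∈ H := subset_closure (by simp)
  set N : Subgroup G := zpowers x with hN
  have hNH : N ≤ H := by rw [hN, zpowers_le]; exact hxH
  have hHN : H ≤ normalizer (N : Set G) := by
    rw [hH, closure_le]
    rintro z (rfl | hz)
    · exact le_normalizer (mem_zpowers z)
    · rw [Set.mem_singleton_iff] at hz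
      subst hz
      rw [SetLike.mem_coe, mem_normalizer_iff]
      intro n
      constructor
      · exact conj_mem_zpowers x z h n
      · intro hn
        have := conj_mem_zpowers x z⁻¹ (inverts_inv x z h) _ hn
        have e : z⁻¹ * (z * n * z⁻¹) * z⁻¹⁻¹ = n := by group
        rwa [e] at this
  have hK : (N.subgroupOf H).Normal := normal_subgroupOf_of_le_normalizer hHN
  set K : Subgroup H := N.subgroupOf H with hKdef
  set ybar : H ⧸ K := QuotientGroup.mk ⟨y, hyH⟩ with hybar
  have hall : ∀ a : H ⧸ K, a ∈ zpowers ybar := by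
    intro a
    induction a using QuotientGroup.induction_on with
    | H a =>
      obtain ⟨a, ha⟩ := a
      induction ha using closure_induction with
      | mem g hg =>
        rcases hg with rfl | hg
        · have : (QuotientGroup.mk ⟨g, subset_closure (by simp)⟩ : H ⧸ K) = 1 := by
            rw [QuotientGroup.eq_one_iff, hKdef, mem_subgroupOf]
            exact mem_zpowers g
          rw [this]; exact one_mem _
        · rw [Set.mem_singleton_iff] at hg
          subst hg
          exact mem_zpowers _
      | one => exact one_mem _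
      | mul a b ha hb iha ihb =>
        have : (QuotientGroup.mk ⟨a * b, mul_mem ha hb⟩ : H ⧸ K) =
            QuotientGroup.mk ⟨a, ha⟩ * QuotientGroup.mk ⟨b, hb⟩ := rfl
        rw [this]; exact mul_mem iha ihb
      | inv a ha iha =>
        have : (QuotientGroup.mk ⟨a⁻¹, inv_mem ha⟩ : H ⧸ K) =
            (QuotientGroup.mk ⟨a, ha⟩)⁻¹ := rfl
        rw [this]; exact inv_mem iha
  have hQ : Group.IsSolvable (H ⧸ K) := by
    apply Group.isSolvable_of_comm
    intro a b
    obtain ⟨i, rfl⟩ := mem_zpowers_iff.1 (hall a)
    obtain ⟨j, rfl⟩ := mem_zpowers_iff.1 (hall b)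
    rw [← zpow_add, ← zpow_add, add_comm]
  have hNs : Group.IsSolvable N := by
    apply Group.isSolvable_of_comm
    rintro ⟨a, ha⟩ ⟨b, hb⟩
    obtain ⟨i, rfl⟩ := mem_zpowers_iff.1 ha
    obtain ⟨j, rfl⟩ := mem_zpowers_iff.1 hb
    apply Subtype.ext
    show x ^ i * x ^ j = x ^ j * x ^ i
    rw [← zpow_add, ← zpow_add, add_comm]
  refine Group.isSolvable_of_ker_le_range (Subgroup.inclusion hNH) (QuotientGroup.mk' K) ?_
  intro a ha
  rw [QuotientGroup.ker_mk', hKdef, mem_subgroupOf] at ha
  exact ⟨⟨a.1, ha⟩, rfl⟩

theorem closure_pair_mul (x y : G) :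
    closure ({x * y, y} : Set G) = closure ({x, y} : Set G) := by
  apply le_antisymm
  · rw [closure_le]
    rintro z (rfl | hz)
    · exact mul_mem (subset_closure (by simp)) (subset_closure (by simp))
    · rw [Set.mem_singleton_iff] at hz
      subst hz
      exact subset_closure (by simp)
  · rw [closure_le]
    rintro z (rfl | hz)
    · have h1 : z * y ∈ closure ({z * y, y} : Set G) := subset_closure (by simp)
      have h2 : y ∈ closure ({z * y, y} : Set G) := subset_closure (by simp)
      have := mul_mem h1 (inv_mem h2)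
      rwa [mul_inv_cancel_right] at this
    · rw [Set.mem_singleton_iff] at hz
      subst hz
      exact subset_closure (by simp)

theorem closure_pair_mul' (x y : G) :
    closure ({x, x * y} : Set G) = closure ({x, y} : Set G) := by
  apply le_antisymm
  · rw [closure_le]
    rintro z (rfl | hz)
    · exact subset_closure (by simp)
    · rw [Set.mem_singleton_iff] at hz
      subst hz
      exact mul_mem (subset_closure (by simp)) (subset_closure (by simp))
  · rw [closure_le]
    rintro z (rfl | hz)
    · exact subset_closure (by simp)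
    · rw [Set.mem_singleton_iff] at hz
      subst hz
      have h1 : x * z ∈ closure ({x, x * z} : Set G) := subset_closure (by simp)
      have h2 : x ∈ closure ({x, x * z} : Set G) := subset_closure (by simp)
      have := mul_mem (inv_mem h2) h1
      rwa [inv_mul_cancel_left] at this

/-- two elements of order at most two generate a solvable group -/
theorem solvable_of_involutions (x y : G) (hx : x * x = 1) (hy : y * y = 1) :
    Group.IsSolvable (closure ({x, y} : Set G)) := by
  rw [← closure_pair_mul]
  apply solvable_of_inverts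
  right
  have hxi : x⁻¹ = x := inv_eq_of_mul_eq_one_left hx
  have hyi : y⁻¹ = y := inv_eq_of_mul_eq_one_left hy
  rw [mul_inv_rev, hxi, hyi]
  calc y * (x * y) * y = y * x * (y * y) := by group
    _ = y * x := by rw [hy, mul_one]

/-- the same, for `x` and `x * y` -/
theorem solvable_of_involutions' (x y : G) (hx : x * x = 1) (hxy : (x * y) * (x * y) = 1) :
    Group.IsSolvable (closure ({x, y} : Set G)) := by
  rw [← closure_pair_mul']
  exact solvable_of_involutions x (x * y) hx hxy

/-- the same three alternatives in a dihedral group -/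
theorem dihedral_pair (k : ℕ) (a b : DihedralGroup k) :
    (b * a * b⁻¹ = a ∨ b * a * b⁻¹ = a⁻¹) ∨
      (a * a = 1 ∧ (b * b = 1 ∨ (a * b) * (a * b) = 1)) := by
  rcases a with i | i
  · left
    rcases b with j | j
    · left
      rw [DihedralGroup.inv_r, DihedralGroup.r_mul_r, DihedralGroup.r_mul_r]
      congr 1; ring
    · right
      rw [DihedralGroup.inv_sr, DihedralGroup.sr_mul_r, DihedralGroup.sr_mul_sr,
        DihedralGroup.inv_r]
      congr 1; ring
  · right
    refine ⟨?_, ?_⟩
    · rw [DihedralGroup.sr_mul_sr, sub_self]; rfl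
    · rcases b with j | j
      · right
        rw [DihedralGroup.sr_mul_r, DihedralGroup.sr_mul_sr, sub_self]; rfl
      · left
        rw [DihedralGroup.sr_mul_sr, sub_self]; rfl

/-- transport along an isomorphism -/
theorem pair_of_equiv {M X : Type*} [Group M] [Group X] (e : M ≃* X) (a b : M)
    (h : (e b * e a * (e b)⁻¹ = e a ∨ e b * e a * (e b)⁻¹ = (e a)⁻¹) ∨
      (e a * e a = 1 ∧ (e b * e b = 1 ∨ (e a * e b) * (e a * e b) = 1))) :
    (b * a * b⁻¹ = a ∨ b * a * b⁻¹ = a⁻¹) ∨
      (a * a = 1 ∧ (b * b = 1 ∨ (a * b) * (a * b) = 1)) := by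
  have hinj := e.injective
  rcases h with (h | h) | ⟨h1, h | h⟩
  · left; left
    apply hinj
    rw [map_mul, map_mul, map_inv]; exact h
  · left; right
    apply hinj
    rw [map_mul, map_mul, map_inv, map_inv]; exact h
  · right
    refine ⟨?_, Or.inl ?_⟩
    · apply hinj; rw [map_mul, map_one]; exact h1
    · apply hinj; rw [map_mul, map_one]; exact h
  · right
    refine ⟨?_, Or.inr ?_⟩
    · apply hinj; rw [map_mul, map_one]; exact h1
    · apply hinj; rw [map_mul, map_mul, map_one]; exact h

end general

end Cfsg.Agent.H9.Solubilizer
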