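import Mathlib
import Cfsg.Agent.H9.PSL2MaxEven3
import Cfsg.Agent.H9.Solubilizer

set_option autoImplicit false

/-! Solvable two-generated subgroups of `SL₂(2^p)`, `p` prime. -/

namespace Cfsg.Agent.H9.Solubilizer

open Matrix Subgroup
open Cfsg.Agent.H9.AutPSL2
open Cfsg.Agent.H9.DicksonUN
open Cfsg.Agent.H9.PSL2MaxGen
open Cfsg.Agent.H9.PSL2Borel
open Cfsg.Agent.H9.PSL2MaxEven

universe u

theorem exists_coatom_ge {G : Type*} [Group G] [Finite G] (H : Subgroup G) (h : H ≠ ⊤) :
    ∃ M : Subgroup G, IsCoatom M ∧ H ≤ M :=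
  (eq_top_or_exists_le_coatom H).resolve_left h

section psl

variable {F : Type u} [Field F] [Fintype F]

local notation "SL2" => Matrix.SpecialLinearGroup (Fin 2) F
local notation "PSL2" => Matrix.ProjectiveSpecialLinearGroup (Fin 2) F

/-- the alternatives for a pair generating a solvable subgroup -/
def Cond {G : Type*} [Group G] (x y : G) : Prop :=
  (y * x * y⁻¹ = x ∨ y * x * y⁻¹ = x⁻¹) ∨ (x * x = 1 ∧ (y * y = 1 ∨ (x * y) * (x * y) = 1))

theorem solvable_of_Cond {G : Type*} [Group G] (x y : G) (h : Cond x y) :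
    Group.IsSolvable (closure ({x, y} : Set G)) := by
  rcases h with h | ⟨h1, h | h⟩
  · exact solvable_of_inverts x y h
  · exact solvable_of_involutions x y h1 h
  · exact solvable_of_involutions' x y h1 h

theorem four_le (p : ℕ) (hp : p.Prime) (hq : Fintype.card F = 2 ^ p) : 4 ≤ Fintype.card F := by
  rw [hq]
  calc 4 = 2 ^ 2 := by norm_num
    _ ≤ 2 ^ p := Nat.pow_le_pow_right (by norm_num) hp.two_le

theorem pair_classify (h2 : (2 : F) = 0) (p : ℕ) (hp : p.Prime) (hq : Fintype.card F = 2 ^ p)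
    (x y : PSL2) (hne : closure ({x, y} : Set PSL2) ≠ ⊤) :
    (∃ g : PSL2, x ∈ BorC g ∧ y ∈ BorC g) ∨ Cond x y := by
  classical
  have hq4 := four_le p hp hq
  obtain ⟨M, hM, hle⟩ := exists_coatom_ge _ hne
  have hxM : x ∈ M := hle (subset_closure (by simp))
  have hyM : y ∈ M := hle (subset_closure (by simp))
  have hdih : ∀ k : ℕ, (M ≃* DihedralGroup k) → Cond x y := by
    intro k e
    have := pair_of_equiv e ⟨x, hxM⟩ ⟨y, hyM⟩ (dihedral_pair k _ _)
    rcases this with (h | h) | ⟨h1, h | h⟩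
    · exact Or.inl (Or.inl (congrArg Subtype.val h))
    · exact Or.inl (Or.inr (congrArg Subtype.val h))
    · exact Or.inr ⟨congrArg Subtype.val h1, Or.inl (congrArg Subtype.val h)⟩
    · exact Or.inr ⟨congrArg Subtype.val h1, Or.inr (congrArg Subtype.val h)⟩
  rcases main_even' h2 hq4 M hM with ⟨g, hg⟩ | ⟨⟨e⟩⟩ | ⟨⟨e⟩⟩ | ⟨n, r, hr, hn4, hqn, -⟩
  · left
    exact ⟨g, hg ▸ hxM, hg ▸ hyM⟩
  · exact Or.inr (hdih _ e)
  · exact Or.inr (hdih _ e)
  · exfalso
    rw [hq, ← pow_mul] at hqn
    have hnr : p = n * r := Nat.pow_right_injective (le_refl 2) hqn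
    have hn1 : n = 1 := by
      rcases (Nat.dvd_prime hp).1 (Dvd.intro_left n hnr.symm) with h | h
      · exact absurd h hr.one_lt.ne'
      · rw [h] at hnr
        have : n * p = 1 * p := by rw [one_mul]; exact hnr.symm
        exact Nat.eq_of_mul_eq_mul_right hp.pos this
    rw [hn1] at hn4
    norm_num at hn4

/-- the same in `SL₂` -/
theorem pair_classify_SL2 (h2 : (2 : F) = 0) (p : ℕ) (hp : p.Prime)
    (hq : Fintype.card F = 2 ^ p) (X Y : SL2) (hne : closure ({X, Y} : Set SL2) ≠ ⊤) :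
    (∃ g : SL2, (g⁻¹ * X * g).1 1 0 = 0 ∧ (g⁻¹ * Y * g).1 1 0 = 0) ∨ Cond X Y := by
  have hinj := Cfsg.Agent.H9.A4Char2.pr_injective h2
  have hne' : closure ({pr X, pr Y} : Set PSL2) ≠ ⊤ := by
    intro h
    apply hne
    have h1 : (closure ({X, Y} : Set SL2)).map (pr : SL2 →* PSL2) = ⊤ := by
      rw [MonoidHom.map_closure, Set.image_pair]; exact h
    apply Subgroup.map_injective hinj
    rw [h1, ← MonoidHom.range_eq_map]
    exact (MonoidHom.range_eq_top.2 pr_surjective).symm
  rcases pair_classify h2 p hp hq (pr X) (pr Y) hne' with ⟨g, hx, hy⟩ | h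
  · left
    obtain ⟨g0, rfl⟩ := pr_surjective g
    refine ⟨g0, ?_, ?_⟩
    · rw [mem_BorC] at hx
      obtain ⟨m, hm, hpm⟩ := hx
      rw [← map_inv, ← map_mul, ← map_mul] at hpm
      rw [← hinj hpm]; exact hm
    · rw [mem_BorC] at hy
      obtain ⟨m, hm, hpm⟩ := hy
      rw [← map_inv, ← map_mul, ← map_mul] at hpm
      rw [← hinj hpm]; exact hm
  · right
    rcases h with (h | h) | ⟨h1, h | h⟩
    · left; left
      apply hinj
      rw [map_mul, map_mul, map_inv]; exact h
    · left; right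
      apply hinj
      rw [map_mul, map_mul, map_inv, map_inv]; exact h
    · right
      refine ⟨?_, Or.inl ?_⟩
      · apply hinj; rw [map_mul, map_one]; exact h1
      · apply hinj; rw [map_mul, map_one]; exact h
    · right
      refine ⟨?_, Or.inr ?_⟩
      · apply hinj; rw [map_mul, map_one]; exact h1
      · apply hinj; rw [map_mul, map_mul, map_one]; exact h

/-- `SL₂(q)` is not solvable for `q ≥ 4` even -/
theorem not_solvable_SL2 (h2 : (2 : F) = 0) (hq4 : 4 ≤ Fintype.card F) :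
    ¬ Group.IsSolvable SL2 :=
  Cfsg.Agent.H9.PSL2MinSimple.not_solvable_of_equiv (slEquiv h2)
    (Cfsg.Agent.H9.PSL2MinSimple.not_solvable hq4)

omit [Fintype F] in
/-- a pair in a conjugate of the upper triangular group generates a solvable group -/
theorem solvable_of_UT (X Y : SL2) (g : SL2) (hX : (g⁻¹ * X * g).1 1 0 = 0)
    (hY : (g⁻¹ * Y * g).1 1 0 = 0) : Group.IsSolvable (closure ({X, Y} : Set SL2)) := by
  set B : Subgroup SL2 := (UTs : Subgroup SL2).map (MulAut.conj g).toMonoidHom with hB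
  have hBs : Group.IsSolvable B := by
    have := isSolvable_UTs (F := F)
    exact Group.isSolvable_of_surjective
      (f := ((MulAut.conj g).toMonoidHom.subgroupMap (UTs : Subgroup SL2)))
      ((MulAut.conj g).toMonoidHom.subgroupMap_surjective _)
  have hmem : ∀ Z : SL2, (g⁻¹ * Z * g).1 1 0 = 0 → Z ∈ B := by
    intro Z hZ
    refine ⟨g⁻¹ * Z * g, hZ, ?_⟩
    show g * (g⁻¹ * Z * g) * g⁻¹ = Z
    group
  have hle : closure ({X, Y} : Set SL2) ≤ B := by
    rw [closure_le]
    rintro Z (rfl | hZ)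
    · exact hmem _ hX
    · rw [Set.mem_singleton_iff] at hZ
      subst hZ
      exact hmem _ hY
  exact Group.isSolvable_of_isSolvable_injective (f := Subgroup.inclusion hle)
    (Subgroup.inclusion_injective hle)

/-- the criterion -/
theorem solvable_iff (h2 : (2 : F) = 0) (p : ℕ) (hp : p.Prime)
    (hq : Fintype.card F = 2 ^ p) (X Y : SL2) :
    Group.IsSolvable (closure ({X, Y} : Set SL2)) ↔
      ((∃ g : SL2, (g⁻¹ * X * g).1 1 0 = 0 ∧ (g⁻¹ * Y * g).1 1 0 = 0) ∨ Cond X Y) := by
  constructor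
  · intro hs
    apply pair_classify_SL2 h2 p hp hq
    intro htop
    apply not_solvable_SL2 h2 (four_le p hp hq)
    rw [htop] at hs
    exact Group.isSolvable_of_surjective (f := (Subgroup.topEquiv (G := SL2)).toMonoidHom)
      (Subgroup.topEquiv (G := SL2)).surjective
  · rintro (⟨g, hX, hY⟩ | h)
    · exact solvable_of_UT X Y g hX hY
    · exact solvable_of_Cond X Y h

end psl

end Cfsg.Agent.H9.Solubilizer
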