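import Mathlib
import Cfsg.Agent.H9.Solubilizer2

set_option autoImplicit false

/-! Solvable two-generated subgroups: the tetrahedral relations. -/

namespace Cfsg.Agent.H9.Sol3

open Subgroup
open Cfsg.Agent.H9.Solubilizer

section general

variable {G : Type*} [Group G]

/-- the tetrahedral relations, in their three arrangements -/
def T (a b : G) : Prop :=
  (a ^ 2 = 1 ∧ b ^ 3 = 1 ∧ (a * b) ^ 3 = 1) ∨ (a ^ 3 = 1 ∧ b ^ 2 = 1 ∧ (a * b) ^ 3 = 1) ∨
    (a ^ 3 = 1 ∧ b ^ 3 = 1 ∧ ((a * b) ^ 2 = 1 ∨ (a * b⁻¹) ^ 2 = 1))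

/-- a pairwise commuting set generates a commutative subgroup -/
theorem comm_closure (S : Set G) (hS : ∀ s ∈ S, ∀ t ∈ S, s * t = t * s) :
    ∀ n ∈ closure S, ∀ m ∈ closure S, n * m = m * n := by
  have h1 : closure S ≤ centralizer S := by
    rw [closure_le]
    intro s hs
    rw [SetLike.mem_coe, mem_centralizer_iff]
    intro t ht
    exact hS t ht s hs
  have h2 : closure S ≤ centralizer (closure S : Set G) := by
    rw [closure_le]
    intro s hs
    rw [SetLike.mem_coe, mem_centralizer_iff]
    intro n hn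
    exact ((mem_centralizer_iff.1 (h1 hn)) s hs).symm
  intro n hn m hm
  exact ((mem_centralizer_iff.1 (h2 hn)) m hm).symm

/-- conjugation maps a closure into itself if it does so on the generators -/
theorem conj_mem_closure (S : Set G) (g : G) (h : ∀ s ∈ S, g * s * g⁻¹ ∈ closure S) :
    ∀ n ∈ closure S, g * n * g⁻¹ ∈ closure S := by
  intro n hn
  induction hn using closure_induction with
  | mem s hs => exact h s hs
  | one => simp
  | mul a b _ _ iha ihb =>
    have : g * (a * b) * g⁻¹ = (g * a * g⁻¹) * (g * b * g⁻¹) := by group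
    rw [this]; exact mul_mem iha ihb
  | inv a _ iha =>
    have : g * a⁻¹ * g⁻¹ = (g * a * g⁻¹)⁻¹ := by group
    rw [this]; exact inv_mem iha

/-- an abelian subgroup, an element of it, and an element normalizing it -/
theorem solvable_of_abelian_normal (N : Subgroup G) (hN : ∀ n ∈ N, ∀ m ∈ N, n * m = m * n)
    (x y : G) (hx : x ∈ N) (hy : y ∈ normalizer (N : Set G)) :
    Group.IsSolvable (closure ({x, y} : Set G)) := by
  set H : Subgroup G := closure ({x, y} : Set G) with hH
  have hyH : y ∈ H := subset_closure (by simp)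
  have hHN : H ≤ normalizer (N : Set G) := by
    rw [hH, closure_le]
    rintro z (rfl | hz)
    · exact le_normalizer hx
    · rw [Set.mem_singleton_iff] at hz
      subst hz
      exact hy
  have hK : (N.subgroupOf H).Normal := normal_subgroupOf_of_le_normalizer hHN
  set K : Subgroup H := N.subgroupOf H with hKdef
  set ybar : H ⧸ K := QuotientGroup.mk ⟨y, hyH⟩ with hybar
  have hall : ∀ a : H ⧸ K, a ∈ zpowers ybar := by
    intro a
    induction a using QuotientGroup.induction_on with
    | H a =>
      obtain ⟨a, ha⟩ := a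
      induction ha using closure_induction with
      | mem g hg =>
        rcases hg with rfl | hg
        · have : (QuotientGroup.mk ⟨g, subset_closure (by simp)⟩ : H ⧸ K) = 1 := by
            rw [QuotientGroup.eq_one_iff, hKdef, mem_subgroupOf]
            exact hx
          rw [this]; exact one_mem _
        · rw [Set.mem_singleton_iff] at hg
          subst hg
          exact mem_zpowers _
      | one => exact one_mem _
      | mul a b ha hb iha ihb =>
        have : (QuotientGroup.mk ⟨a * b, mul_mem ha hb⟩ : H ⧸ K) =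
            QuotientGroup.mk ⟨a, ha⟩ * QuotientGroup.mk ⟨b, hb⟩ := rfl
        rw [this]; exact mul_mem iha ihb
      | inv a ha iha =>
        have : (QuotientGroup.mk ⟨a⁻¹, inv_mem ha⟩ : H ⧸ K) =
            (QuotientGroup.mk ⟨a, ha⟩)⁻¹ := rfl
        rw [this]; exact inv_mem iha
  have hQ : Group.IsSolvable (H ⧸ K) := by
    apply Group.isSolvable_of_comm
    intro a b
    obtain ⟨i, rfl⟩ := mem_zpowers_iff.1 (hall a)
    obtain ⟨j, rfl⟩ := mem_zpowers_iff.1 (hall b)
    rw [← zpow_add, ← zpow_add, add_comm]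
  have hKs : Group.IsSolvable K := by
    apply Group.isSolvable_of_comm
    rintro ⟨a, ha⟩ ⟨b, hb⟩
    rw [hKdef, mem_subgroupOf] at ha hb
    apply Subtype.ext
    apply Subtype.ext
    exact hN _ ha _ hb
  refine Group.isSolvable_of_ker_le_range K.subtype (QuotientGroup.mk' K) ?_
  intro a ha
  rw [QuotientGroup.ker_mk'] at ha
  exact ⟨⟨a, ha⟩, rfl⟩

theorem closure_pair_swap (x y : G) : closure ({x, y} : Set G) = closure ({y, x} : Set G) := by
  rw [Set.pair_comm]

theorem closure_pair_inv (x y : G) : closure ({x, y⁻¹} : Set G) = closure ({x, y} : Set G) := by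
  apply le_antisymm
  · rw [closure_le]
    rintro z (rfl | hz)
    · exact subset_closure (by simp)
    · rw [Set.mem_singleton_iff] at hz
      subst hz
      exact inv_mem (subset_closure (by simp))
  · rw [closure_le]
    rintro z (rfl | hz)
    · exact subset_closure (by simp)
    · rw [Set.mem_singleton_iff] at hz
      subst hz
      have : z⁻¹ ∈ closure ({x, z⁻¹} : Set G) := subset_closure (by simp)
      simpa using inv_mem this

/-- the first arrangement -/
theorem solvable_T1 (a b : G) (ha : a ^ 2 = 1) (hb : b ^ 3 = 1) (hab : (a * b) ^ 3 = 1) :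
    Group.IsSolvable (closure ({a, b} : Set G)) := by
  have ha' : a * a = 1 := by rw [← ha, pow_two]
  have hb' : b * b * b = 1 := by rw [← hb]; simp only [pow_succ, pow_zero, one_mul]
  have hab' : a * b * (a * b) * (a * b) = 1 := by
    rw [← hab]; simp only [pow_succ, pow_zero, one_mul]
  have hai : a⁻¹ = a := inv_eq_of_mul_eq_one_left ha'
  have hbi : b⁻¹ = b * b := inv_eq_of_mul_eq_one_left hb'
  have hbi' : b * b = b⁻¹ := hbi.symm
  have hbb : b⁻¹ * b⁻¹ = b := by
    rw [hbi]
    calc b * b * (b * b) = (b * b * b) * b := by group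
      _ = b := by rw [hb', one_mul]
  set a1 := b * a * b⁻¹ with ha1
  set a2 := b⁻¹ * a * b with ha2
  have hprod : a * a1 * a2 = 1 := by
    rw [ha1, ha2]
    calc a * (b * a * b⁻¹) * (b⁻¹ * a * b) = a * b * a * (b⁻¹ * b⁻¹) * a * b := by group
      _ = a * b * (a * b) * (a * b) := by rw [hbb]; group
      _ = 1 := hab'
  have ha1sq : a1 * a1 = 1 := by
    rw [ha1]
    calc b * a * b⁻¹ * (b * a * b⁻¹) = b * (a * a) * b⁻¹ := by group
      _ = 1 := by rw [ha']; group
  have ha2sq : a2 * a2 = 1 := by
    rw [ha2]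
    calc b⁻¹ * a * b * (b⁻¹ * a * b) = b⁻¹ * (a * a) * b := by group
      _ = 1 := by rw [ha']; group
  have hasq : a * a = 1 := ha'
  have ha1i : a1⁻¹ = a1 := inv_eq_of_mul_eq_one_left ha1sq
  have ha2i : a2⁻¹ = a2 := inv_eq_of_mul_eq_one_left ha2sq
  -- products
  have h01 : a * a1 = a2 := by
    calc a * a1 = (a * a1 * a2) * a2⁻¹ := by group
      _ = a2 := by rw [hprod, one_mul, ha2i]
  have h12 : a1 * a2 = a := by
    calc a1 * a2 = a⁻¹ * (a * a1 * a2) := by group
      _ = a := by rw [hprod, mul_one, hai]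
  have c01 : a * a1 = a1 * a := by
    have : (a * a1) * (a * a1) = 1 := by rw [h01]; exact ha2sq
    calc a * a1 = (a * a1 * (a * a1)) * a1⁻¹ * a⁻¹ := by group
      _ = a1 * a := by rw [this, ha1i, hai, one_mul]
  have c12 : a1 * a2 = a2 * a1 := by
    have : (a1 * a2) * (a1 * a2) = 1 := by rw [h12]; exact hasq
    calc a1 * a2 = (a1 * a2 * (a1 * a2)) * a2⁻¹ * a1⁻¹ := by group
      _ = a2 * a1 := by rw [this, ha2i, ha1i, one_mul]
  have c02 : a * a2 = a2 * a := by
    rw [← h01]
    calc a * (a * a1) = a * (a1 * a) := by rw [c01]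
      _ = a * a1 * a := by group
  set S : Set G := {a, a1, a2} with hS
  have hScomm : ∀ s ∈ S, ∀ t ∈ S, s * t = t * s := by
    rintro s (rfl | rfl | hs) t (rfl | rfl | ht)
    · rfl
    · exact c01
    · rw [Set.mem_singleton_iff] at ht; subst ht; exact c02
    · exact c01.symm
    · rfl
    · rw [Set.mem_singleton_iff] at ht; subst ht; exact c12
    · rw [Set.mem_singleton_iff] at hs; subst hs; exact c02.symm
    · rw [Set.mem_singleton_iff] at hs; subst hs; exact c12.symm
    · rw [Set.mem_singleton_iff] at hs ht; subst hs; subst ht; rfl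
  have haS : a ∈ S := by simp [hS]
  have ha1S : a1 ∈ S := by simp [hS]
  have ha2S : a2 ∈ S := by simp [hS]
  have hconj : ∀ s ∈ S, b * s * b⁻¹ ∈ closure S := by
    rintro s (rfl | rfl | hs)
    · exact subset_closure ha1S
    · have : b * a1 * b⁻¹ = a2 := by
        rw [ha1, ha2]
        calc b * (b * a * b⁻¹) * b⁻¹ = (b * b) * a * (b⁻¹ * b⁻¹) := by group
          _ = b⁻¹ * a * b := by rw [hbi', hbb]
      rw [this]; exact subset_closure ha2S
    · rw [Set.mem_singleton_iff] at hs; subst hs
      have : b * a2 * b⁻¹ = a := by rw [ha2]; group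
      rw [this]; exact subset_closure haS
  have hconj' : ∀ s ∈ S, b⁻¹ * s * b⁻¹⁻¹ ∈ closure S := by
    rintro s (rfl | rfl | hs)
    · have : b⁻¹ * s * b⁻¹⁻¹ = a2 := by rw [ha2]; group
      rw [this]; exact subset_closure ha2S
    · have : b⁻¹ * a1 * b⁻¹⁻¹ = a := by rw [ha1]; group
      rw [this]; exact subset_closure haS
    · rw [Set.mem_singleton_iff] at hs; subst hs
      have : b⁻¹ * a2 * b⁻¹⁻¹ = a1 := by
        rw [ha1, ha2]
        calc b⁻¹ * (b⁻¹ * a * b) * b⁻¹⁻¹ = (b⁻¹ * b⁻¹) * a * (b * b) := by group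
          _ = b * a * b⁻¹ := by rw [hbi', hbb]
      rw [this]; exact subset_closure ha1S
  apply solvable_of_abelian_normal (closure S) (comm_closure S hScomm) a b (subset_closure haS)
  rw [mem_normalizer_iff]
  intro n
  constructor
  · exact conj_mem_closure S b hconj n
  · intro hn
    have := conj_mem_closure S b⁻¹ hconj' _ hn
    have e : b⁻¹ * (b * n * b⁻¹) * b⁻¹⁻¹ = n := by group
    rwa [e] at this

/-- the tetrahedral relations give a solvable group -/
theorem solvable_of_T (a b : G) (h : T a b) : Group.IsSolvable (closure ({a, b} : Set G)) := by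
  have key : ∀ a b : G, a ^ 3 = 1 → b ^ 3 = 1 → (a * b) ^ 2 = 1 →
      Group.IsSolvable (closure ({a, b} : Set G)) := by
    intro a b ha hb hab
    rw [← closure_pair_mul, ← closure_pair_inv]
    apply solvable_T1 (a * b) b⁻¹ hab
    · rw [inv_pow, hb, inv_one]
    · rw [mul_inv_cancel_right]; exact ha
  rcases h with ⟨ha, hb, hab⟩ | ⟨ha, hb, hab⟩ | ⟨ha, hb, hab | hab⟩
  · exact solvable_T1 a b ha hb hab
  · rw [closure_pair_swap]
    apply solvable_T1 b a hb ha
    have hab' : a * b * (a * b) * (a * b) = 1 := by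
      rw [← hab]; simp only [pow_succ, pow_zero, one_mul]
    calc (b * a) ^ 3 = b * a * (b * a) * (b * a) := by simp only [pow_succ, pow_zero, one_mul]
      _ = a⁻¹ * (a * b * (a * b) * (a * b)) * a := by group
      _ = 1 := by rw [hab']; group
  · exact key a b ha hb hab
  · rw [← closure_pair_inv]
    apply key a b⁻¹ ha _ hab
    rw [inv_pow, hb, inv_one]

end general

end Cfsg.Agent.H9.Sol3
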