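import Mathlib
import Cfsg.Agent.H9.PSL2Tori
import Cfsg.Agent.H9.PSL2MaxEven
import Cfsg.Agent.H9.Sol3A

set_option autoImplicit false

/-! `GL₅(2)` has no elements of order nine; `PSL₂(8)` has. -/

namespace Cfsg.Agent.H9.GL5Sections

open Matrix Subgroup

section gl5

/-- an element of order three -/
def a5 : Matrix (Fin 5) (Fin 5) (ZMod 2) :=
  !![0,1,0,0,0; 1,1,0,0,0; 0,0,1,0,0; 0,0,0,1,0; 0,0,0,0,1]

/-- another element of order three -/
def b5 : Matrix (Fin 5) (Fin 5) (ZMod 2) :=
  !![1,0,0,0,0; 0,1,0,0,0; 0,0,0,1,0; 0,0,1,1,0; 0,0,0,0,1]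

theorem a5_cube : a5 * (a5 * a5) = 1 := by decide
theorem a5_cube' : (a5 * a5) * a5 = 1 := by decide
theorem b5_cube : b5 * (b5 * b5) = 1 := by decide
theorem b5_cube' : (b5 * b5) * b5 = 1 := by decide
theorem ab5_comm : a5 * b5 = b5 * a5 := by decide
theorem ab5_ne : a5 ≠ 1 ∧ a5 * a5 ≠ 1 ∧ a5 * a5 ≠ a5 ∧ b5 ≠ 1 ∧ b5 ≠ a5 ∧ b5 ≠ a5 * a5 := by decide

local notation "G5" => GL (Fin 5) (ZMod 2)

def aU : G5 := ⟨a5, a5 * a5, a5_cube, a5_cube'⟩
def bU : G5 := ⟨b5, b5 * b5, b5_cube, b5_cube'⟩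

theorem aU_cube : aU ^ 3 = 1 := by
  apply Units.ext
  show a5 ^ 3 = 1
  rw [pow_succ, pow_two, mul_assoc]; exact a5_cube

theorem bU_cube : bU ^ 3 = 1 := by
  apply Units.ext
  show b5 ^ 3 = 1
  rw [pow_succ, pow_two, mul_assoc]; exact b5_cube

theorem abU_comm : aU * bU = bU * aU := by
  apply Units.ext
  exact ab5_comm

theorem card_G5 : Nat.card G5 = 9999360 := by
  rw [Matrix.card_GL_field, ZMod.card, Fin.prod_univ_five]
  norm_num

/-- the elementary abelian subgroup of order nine -/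
def E9 : Subgroup G5 := closure {aU, bU}

theorem E9_cube : ∀ x ∈ E9, x ^ 3 = 1 := by
  have hcomm : ∀ s ∈ ({aU, bU} : Set G5), ∀ t ∈ ({aU, bU} : Set G5), s * t = t * s := by
    rintro s (rfl | hs) t (rfl | ht)
    · rfl
    · rw [Set.mem_singleton_iff] at ht; subst ht; exact abU_comm
    · rw [Set.mem_singleton_iff] at hs; subst hs; exact abU_comm.symm
    · rw [Set.mem_singleton_iff] at hs ht; subst hs; subst ht; rfl
  have hc := Cfsg.Agent.H9.Sol3.comm_closure _ hcomm
  intro x hx
  induction hx using closure_induction with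
  | mem s hs =>
    rcases hs with rfl | hs
    · exact aU_cube
    · rw [Set.mem_singleton_iff] at hs; subst hs; exact bU_cube
  | one => simp
  | mul a b ha hb iha ihb =>
    have : Commute a b := hc a ha b hb
    rw [this.mul_pow, iha, ihb, one_mul]
  | inv a _ iha => rw [inv_pow, iha, inv_one]

theorem four_le_card_E9 : 4 ≤ Nat.card E9 := by
  classical
  obtain ⟨h1, h2, h3, h4, h5, h6⟩ := ab5_ne
  have hsub : ({1, aU, aU * aU, bU} : Set G5) ⊆ (E9 : Set G5) := by
    have ha : aU ∈ E9 := subset_closure (by simp)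
    have hb : bU ∈ E9 := subset_closure (by simp)
    rintro x (rfl | rfl | rfl | hx)
    · exact one_mem _
    · exact ha
    · exact mul_mem ha ha
    · rw [Set.mem_singleton_iff] at hx; subst hx; exact hb
  have hcard : ({1, aU, aU * aU, bU} : Set G5).ncard = 4 := by
    have e1 : (aU * aU : G5) ≠ bU := by
      intro h
      apply h6
      have := congrArg (fun g : G5 => (g : Matrix (Fin 5) (Fin 5) (ZMod 2))) h
      exact this.symm
    have e2 : (aU : G5) ≠ aU * aU := by
      intro h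
      apply h3
      have := congrArg (fun g : G5 => (g : Matrix (Fin 5) (Fin 5) (ZMod 2))) h
      exact this.symm
    have e3 : (aU : G5) ≠ bU := by
      intro h
      apply h5
      have := congrArg (fun g : G5 => (g : Matrix (Fin 5) (Fin 5) (ZMod 2))) h
      exact this.symm
    have e4 : (1 : G5) ≠ aU := by
      intro h
      apply h1
      have := congrArg (fun g : G5 => (g : Matrix (Fin 5) (Fin 5) (ZMod 2))) h
      exact this.symm
    have e5 : (1 : G5) ≠ aU * aU := by
      intro h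
      apply h2
      have := congrArg (fun g : G5 => (g : Matrix (Fin 5) (Fin 5) (ZMod 2))) h
      exact this.symm
    have e6 : (1 : G5) ≠ bU := by
      intro h
      apply h4
      have := congrArg (fun g : G5 => (g : Matrix (Fin 5) (Fin 5) (ZMod 2))) h
      exact this.symm
    rw [Set.ncard_insert_of_notMem, Set.ncard_insert_of_notMem, Set.ncard_pair e1]
    · simp only [Set.mem_insert_iff, Set.mem_singleton_iff, not_or]
      exact ⟨e2, e3⟩
    · simp only [Set.mem_insert_iff, Set.mem_singleton_iff, not_or]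
      exact ⟨e4, e5, e6⟩
  have := Set.ncard_le_ncard hsub (Set.toFinite _)
  rw [hcard] at this
  have e : Nat.card E9 = ((E9 : Subgroup G5) : Set G5).ncard := (Nat.card_coe_set_eq _)
  rw [e]; exact this

/-- `GL₅(2)` has no element of order nine -/
theorem no_nine (g : G5) (h : g ^ 9 = 1) : g ^ 3 = 1 := by
  classical
  haveI : Fact (Nat.Prime 3) := ⟨Nat.prime_three⟩
  have hEp : IsPGroup 3 E9 := by
    intro x
    refine ⟨1, ?_⟩
    apply Subtype.ext
    rw [pow_one]
    exact E9_cube x.1 x.2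
  obtain ⟨S, hES⟩ := hEp.exists_le_sylow
  -- the order of `S`
  obtain ⟨k, hk⟩ := (IsPGroup.iff_card.1 S.isPGroup')
  have hSdvd : Nat.card S ∣ 9999360 := by
    rw [← card_G5]; exact Subgroup.card_subgroup_dvd_card _
  have hk2 : k ≤ 2 := by
    by_contra hcon
    push Not at hcon
    have h27 : 3 ^ 3 ∣ 9999360 := by
      rw [hk] at hSdvd
      exact (Nat.pow_dvd_pow 3 hcon).trans hSdvd
    norm_num at h27
  have hE4 := four_le_card_E9
  have hEdvd : Nat.card E9 ∣ Nat.card S := Subgroup.card_dvd_of_le hES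
  have hES' : (E9 : Subgroup G5) = S := by
    apply Subgroup.eq_of_le_of_card_ge hES
    rw [hk] at hEdvd ⊢
    obtain ⟨j, hj, hjE⟩ := (Nat.dvd_prime_pow Nat.prime_three).1 hEdvd
    rw [hjE] at hE4 ⊢
    interval_cases k
    · interval_cases j <;> simp_all
    · interval_cases j <;> simp_all
    · interval_cases j <;> simp_all
  -- now `g`
  have hQ : IsPGroup 3 (zpowers g) := by
    rintro ⟨x, hx⟩
    obtain ⟨i, rfl⟩ := mem_zpowers_iff.1 hx
    refine ⟨2, ?_⟩
    apply Subtype.ext
    show (g ^ i) ^ (3 ^ 2) = 1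
    have e : (g ^ i) ^ (3 ^ 2) = (g ^ 9) ^ i := by
      rw [← zpow_natCast, ← zpow_natCast, ← _root_.zpow_mul, ← _root_.zpow_mul, mul_comm]
      norm_num
    rw [e, h, _root_.one_zpow]
  obtain ⟨S2, hQS⟩ := hQ.exists_le_sylow
  obtain ⟨c, hc⟩ := MulAction.exists_smul_eq G5 S S2
  have hg : g ∈ (S2 : Subgroup G5) := hQS (mem_zpowers g)
  rw [← hc, Sylow.coe_subgroup_smul, Subgroup.mem_pointwise_smul_iff_inv_smul_mem,
    MulAut.smul_def, ← map_inv, MulAut.conj_apply, inv_inv, ← hES'] at hg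
  have h3 := E9_cube _ hg
  have : (c⁻¹ * g * c) ^ 3 = c⁻¹ * g ^ 3 * c := by
    simp only [pow_succ, pow_zero, one_mul]; group
  rw [this] at h3
  calc g ^ 3 = c * (c⁻¹ * g ^ 3 * c) * c⁻¹ := by group
    _ = 1 := by rw [h3]; group

/-- a section of `GL₅(2)` has no element of order nine -/
theorem section_no_nine (H : Subgroup G5) (K : Subgroup H) [K.Normal] (y : H ⧸ K)
    (hy : orderOf y = 9) : False := by
  obtain ⟨h, rfl⟩ := QuotientGroup.mk_surjective y
  have hdvd : orderOf (QuotientGroup.mk h : H ⧸ K) ∣ orderOf h :=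
    orderOf_map_dvd (QuotientGroup.mk' K) h
  rw [hy] at hdvd
  obtain ⟨k, hk⟩ := hdvd
  have hpos : 0 < orderOf h := orderOf_pos h
  have hk0 : 0 < k := by
    rcases Nat.eq_zero_or_pos k with h0 | h0
    · rw [h0, mul_zero] at hk; omega
    · exact h0
  set g : G5 := (h ^ k).1 with hg
  have h9 : g ^ 9 = 1 := by
    have : (h ^ k) ^ 9 = 1 := by
      rw [← pow_mul, mul_comm, ← hk]; exact pow_orderOf_eq_one h
    have := congrArg Subtype.val this
    exact this
  have h3 := no_nine g h9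
  have h3' : h ^ (k * 3) = 1 := by
    apply Subtype.ext
    rw [pow_mul]
    exact h3
  have := orderOf_dvd_of_pow_eq_one h3'
  rw [hk] at this
  have := Nat.le_of_dvd (by omega) this
  omega

end gl5

section psl8

open Cfsg.Agent.H9.PSL2Tori Cfsg.Agent.H9.DicksonSS Cfsg.Agent.H9.PSL2MaxEven

variable {F : Type*} [Field F] [Fintype F]

/-- `PSL₂(8)` has an element of order nine -/
theorem exists_order_nine (hF : Fintype.card F = 8) :
    ∃ y : Matrix.ProjectiveSpecialLinearGroup (Fin 2) F, orderOf y = 9 := by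
  classical
  have h2 : (2 : F) = 0 := by
    haveI : Fact (Nat.Prime 2) := ⟨Nat.prime_two⟩
    haveI : CharP F 2 := by
      obtain ⟨p', hp'⟩ := CharP.exists F
      haveI := hp'
      haveI : Fact p'.Prime := ⟨CharP.char_is_prime F p'⟩
      obtain ⟨f, -, hf⟩ := FiniteField.card F p'
      have hp2 : p' = 2 := by
        have h2 : 2 ∣ p' ^ (f : ℕ) := by
          rw [← hf, hF]; norm_num
        have := Nat.Prime.dvd_of_dvd_pow Nat.prime_two h2
        exact ((Nat.prime_dvd_prime_iff_eq Nat.prime_two (CharP.char_is_prime F p')).1 this).symm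
      subst hp2
      exact hp'
    have : ((2 : ℕ) : F) = 0 := CharP.cast_eq_zero _ 2
    exact_mod_cast this
  obtain ⟨τ, hirr⟩ := exists_irr (F := F)
  have hX := cmp_nonScalar τ
  have hss : (cmp τ).1.trace ^ 2 ≠ 4 := by
    rw [cmp_trace]; exact ss_of_irr τ hirr
  have hirr' : ∀ a : F, a ^ 2 - (cmp τ).1.trace * a + 1 ≠ 0 := by
    rw [cmp_trace]; exact hirr
  have hcard := card_Tor_nonsplit (cmp τ) hX hss hirr'
  rw [hF] at hcard
  haveI hcyc : IsCyclic (Tor (cmp τ)) := isCyclic_centralizer hX hss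
  obtain ⟨g, hg⟩ := hcyc.exists_generator
  have hord : orderOf g = 9 := by
    rw [orderOf_eq_card_of_forall_mem_zpowers hg, hcard]
  refine ⟨slEquiv h2 g.1, ?_⟩
  rw [MulEquiv.orderOf_eq, Subgroup.orderOf_coe, hord]

end psl8

end Cfsg.Agent.H9.GL5Sections
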