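import Mathlib
import Cfsg.Prelude.Def_GeometricClasses

set_option autoImplicit false

namespace Cfsg.Agent.H9

open scoped MatrixGroups Matrix

variable {ι : Type} [Fintype ι] [DecidableEq ι] {F : Type*} [Field F]

/-- The element of `GL ι F` attached to a linear automorphism of `ι → F`. -/
noncomputable def glOfEquiv (e : (ι → F) ≃ₗ[F] (ι → F)) : GL ι F :=
  ⟨LinearMap.toMatrix' e.toLinearMap, LinearMap.toMatrix' e.symm.toLinearMap,
    by rw [← LinearMap.toMatrix'_comp]; simp,
    by rw [← LinearMap.toMatrix'_comp]; simp⟩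

theorem glOfEquiv_mulVec (e : (ι → F) ≃ₗ[F] (ι → F)) (x : ι → F) :
    ((glOfEquiv e : GL ι F) : Matrix ι ι F) *ᵥ x = e x := by
  show (LinearMap.toMatrix' e.toLinearMap) *ᵥ x = e x
  rw [← Matrix.toLin'_apply, Matrix.toLin'_toMatrix']
  rfl

theorem glOfEquiv_mem_specialLinear (e : (ι → F) ≃ₗ[F] (ι → F)) (h : LinearMap.det e.toLinearMap = 1) :
    glOfEquiv e ∈ Cfsg.Geo.specialLinear ι F := by
  unfold Cfsg.Geo.specialLinear
  rw [MonoidHom.mem_ker]
  apply Units.ext
  show (LinearMap.toMatrix' e.toLinearMap).det = 1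
  rw [LinearMap.det_toMatrix', h]

theorem mem_subspaceStabilizer_iff (W : Submodule F (ι → F)) (g : GL ι F) :
    g ∈ Cfsg.Geo.subspaceStabilizer W ↔ ∀ v, v ∈ W ↔ (g : Matrix ι ι F) *ᵥ v ∈ W := Iff.rfl

/-- The transvection `x ↦ x + f x • v` as an element of `GL ι F`. -/
noncomputable def tv (f : Module.Dual F (ι → F)) (v : ι → F) (h : f v = 0) : GL ι F :=
  glOfEquiv (LinearEquiv.transvection h)

theorem tv_mulVec (f : Module.Dual F (ι → F)) (v : ι → F) (h : f v = 0) (x : ι → F) :
    ((tv f v h : GL ι F) : Matrix ι ι F) *ᵥ x = x + f x • v := by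
  unfold tv
  rw [glOfEquiv_mulVec]
  rfl

theorem tv_mem_specialLinear (f : Module.Dual F (ι → F)) (v : ι → F) (h : f v = 0) :
    tv f v h ∈ Cfsg.Geo.specialLinear ι F := by
  apply glOfEquiv_mem_specialLinear
  have := LinearEquiv.transvection.det_eq_one h
  have h2 := congrArg Units.val this
  rw [LinearEquiv.coe_det] at h2
  simpa using h2

/-- A transvection whose functional vanishes on `W` stabilises `W`. -/
theorem tv_mem_subspaceStabilizer (f : Module.Dual F (ι → F)) (v : ι → F) (h : f v = 0)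
    (W : Submodule F (ι → F)) (hW : W ≤ LinearMap.ker f) : tv f v h ∈ Cfsg.Geo.subspaceStabilizer W := by
  rw [mem_subspaceStabilizer_iff]
  intro x
  rw [tv_mulVec]
  constructor
  · intro hx
    have : f x = 0 := hW hx
    rw [this, zero_smul, add_zero]; exact hx
  · intro hx
    have h1 : f (x + f x • v) = 0 := hW hx
    rw [map_add, map_smul, h, smul_zero, add_zero] at h1
    rw [h1, zero_smul, add_zero] at hx
    exact hx

/-- A transvection with `v ∉ U` and `f u ≠ 0` for some `u ∈ U` does not stabilise `U`. -/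
theorem tv_not_mem_subspaceStabilizer (f : Module.Dual F (ι → F)) (v : ι → F) (h : f v = 0)
    (U : Submodule F (ι → F)) (hv : v ∉ U) {u : ι → F} (hu : u ∈ U) (hfu : f u ≠ 0) :
    tv f v h ∉ Cfsg.Geo.subspaceStabilizer U := by
  rw [mem_subspaceStabilizer_iff]
  intro hst
  have h1 := (hst u).mp hu
  rw [tv_mulVec] at h1
  have h2 : f u • v ∈ U := by
    have := U.sub_mem h1 hu
    simpa using this
  apply hv
  have := U.smul_mem (f u)⁻¹ h2
  rwa [smul_smul, inv_mul_cancel₀ hfu, one_smul] at this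

/-- A proper nonzero subspace is moved by some element of the special linear group. -/
theorem exists_specialLinear_not_stab (W : Submodule F (ι → F)) (hW0 : W ≠ ⊥) (hW1 : W ≠ ⊤) :
    ∃ g ∈ Cfsg.Geo.specialLinear ι F, g ∉ Cfsg.Geo.subspaceStabilizer W := by
  obtain ⟨w0, hw0, hw0ne⟩ := (Submodule.ne_bot_iff W).mp hW0
  obtain ⟨v, hv⟩ : ∃ v, v ∉ W := by
    by_contra hcon
    push Not at hcon
    exact hW1 (eq_top_iff.mpr fun x _ => hcon x)
  have hw0v : w0 ∉ Submodule.span F {v} := by
    intro hmem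
    obtain ⟨c, hc⟩ := Submodule.mem_span_singleton.mp hmem
    have hc0 : c ≠ 0 := by
      rintro rfl
      rw [zero_smul] at hc
      exact hw0ne hc.symm
    apply hv
    have := W.smul_mem c⁻¹ hw0
    rwa [← hc, smul_smul, inv_mul_cancel₀ hc0, one_smul] at this
  obtain ⟨f, hfw0, hfv⟩ := Submodule.exists_le_ker_of_notMem hw0v
  have hfv0 : f v = 0 := hfv (Submodule.mem_span_singleton_self v)
  exact ⟨tv f v hfv0, tv_mem_specialLinear f v hfv0,
    tv_not_mem_subspaceStabilizer f v hfv0 W hv hw0 hfw0⟩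

end Cfsg.Agent.H9
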