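import Cfsg.Agent.H9.GfsSimple2

/-!
# Simplicity of the fusion system of a group: a criterion with a family of centric subgroups

* `gfs_isSimple_criterion'`: the criterion `gfs_isSimple_criterion` of helper7 only uses that the
  subgroups `R` are centric, and only one inclusion.
* `Cert2`: an elementwise certificate: no proper nontrivial strongly closed subgroup, and every
  element of `N_G(S₀)` acts on `S₀` as a product of elements of `N_G(S₀)` lying in the subgroups
  generated by the `p`-elements of `N_G(R)`, `R` centric.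
* `Cert2.map`: transport along a surjection with central kernel of order prime to `p`.
* `isSimple_of_cert2`: the fusion system on every Sylow subgroup is simple.
-/

set_option autoImplicit false

namespace Cfsg.Agent.H9.GfsSimple3

open Cfsg Cfsg.FusionSystem Cfsg.Agent.Lib.Helper7 Cfsg.Agent.H9.GfsSimple
open Cfsg.Agent.H9.GfsSimple2

variable {G : Type*} [Group G]

/-- the subgroup generated by the `p`-elements of the normalizer of `R` -/
def pNormGen (p : ℕ) (R : Subgroup G) : Subgroup G :=
  Subgroup.closure {g : G | g ∈ Subgroup.normalizer (R : Set G) ∧ ∃ k : ℕ, orderOf g = p ^ k}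

theorem gfs_isSimple_criterion' [Finite G] (p : ℕ) [Fact p.Prime] (S : Sylow p G)
    (hS1 : (S : Subgroup G) ≠ ⊥)
    (ha : ∀ T : Subgroup G, (groupFusionSystem (S : Subgroup G)).StronglyClosed T →
      T = ⊥ ∨ T = (S : Subgroup G))
    (hb : autInducedBy ⊤ (S : Subgroup G) ≤
      ⨆ (R : Subgroup G) (_ : (groupFusionSystem (S : Subgroup G)).IsCentric R),
        autInducedBy (pNormGen p R) (S : Subgroup G)) :
    (groupFusionSystem (S : Subgroup G)).IsSimple p := by
  have hFsat : (groupFusionSystem (S : Subgroup G)).IsSaturated p := gfs_isSaturated p S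
  refine ⟨hFsat, hS1, ?_⟩
  intro T E hE
  obtain ⟨⟨hEsat, -, hsub, hTsc, -, hfrat⟩, -⟩ := hE
  rcases ha T hTsc with hT | hT
  · exact Or.inl hT
  right
  subst hT
  refine ⟨rfl, fun P => ?_⟩
  have hkey : (groupFusionSystem (S : Subgroup G)).autGroup (S : Subgroup G) ≤
      E.autGroup (S : Subgroup G) := by
    rw [gfs_autGroup_eq _ _ le_rfl]
    refine hb.trans ?_
    apply iSup_le; intro R; apply iSup_le; intro hCen
    have hRS : R ≤ (S : Subgroup G) := hCen.1
    have hKX : pNormGen p R ≤
        ((E.autGroup R).comap R.normalizerMonoidHom).map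
          (Subgroup.normalizer (R : Set G)).subtype := by
      unfold pNormGen
      rw [Subgroup.closure_le]
      rintro g ⟨hgN, k, hk⟩
      refine ⟨⟨g, hgN⟩, ?_, rfl⟩
      show R.normalizerMonoidHom ⟨g, hgN⟩ ∈ E.autGroup R
      rw [mem_autGroup_iff E hRS]
      exact gfs_pElt_conj_mem_of_frattini p S E hfrat R hRS g hgN k hk
    unfold autInducedBy
    rw [Subgroup.closure_le]
    rintro α ⟨g, hgK, hg⟩
    rw [SetLike.mem_coe, mem_autGroup_iff E le_rfl]
    have hαF : (S : Subgroup G).subtype.comp α.toMonoidHom ∈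
        (groupFusionSystem (S : Subgroup G)).Hom (S : Subgroup G) :=
      ⟨le_rfl, fun x => (α x).2, g, hg⟩
    apply hom_mem_sub_of_centric p S.isPGroup' (groupFusionSystem (S : Subgroup G)) E hFsat hEsat
      hsub _ hαF _ R hRS hCen _ rfl
    obtain ⟨n, hn, rfl⟩ := hKX hgK
    have hn' : R.normalizerMonoidHom n ∈ E.autGroup R := hn
    rw [mem_autGroup_iff E hRS] at hn'
    convert hn' using 1
    ext x
    exact hg ⟨x, hRS x.2⟩
  ext φ
  constructor
  · exact fun h => hsub P h
  · intro hφ
    have hPT : P ≤ (S : Subgroup G) := ((groupFusionSystem (S : Subgroup G)).le_of_mem hφ).1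
    obtain ⟨α, hα, φ₀, hφ₀, hcomp⟩ := hfrat P hPT φ hφ
    have hαE := hkey hα
    rw [mem_autGroup_iff E le_rfl] at hαE
    have hval : ∀ x : P, φ₀ x ∈ (S : Subgroup G) := (E.le_of_mem hφ₀).2
    have h1 := E.comp_mem hφ₀ hαE hval
    convert h1 using 1
    ext x
    rw [hcomp x (hval x)]
    rfl

/-- `R` is centric in the fusion system of `G` on `S0`, in elementwise form -/
def CentricIn (S0 R : Subgroup G) : Prop :=
  R ≤ S0 ∧ ∀ g : G, (∀ x ∈ R, g * x * g⁻¹ ∈ S0) →
    ∀ y ∈ S0, (∀ x ∈ R, y * (g * x * g⁻¹) = g * x * g⁻¹ * y) → ∃ x ∈ R, y = g * x * g⁻¹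

theorem isCentric_of_centricIn {S R : Subgroup G} (h : CentricIn S R) :
    (groupFusionSystem S).IsCentric R := by
  refine ⟨h.1, ?_⟩
  intro Q hQ
  obtain ⟨g, hg, hQS⟩ := (gfs_isConj_iff _ _ _ h.1).mp hQ
  rintro y ⟨hyS, hyC⟩
  have hmemQ : ∀ x ∈ R, g * x * g⁻¹ ∈ Q := by
    intro x hx
    rw [← hg]
    exact ⟨x, hx, rfl⟩
  obtain ⟨x, hx, hxy⟩ := h.2 g (fun x hx => hQS (hmemQ x hx)) y hyS (fun x hx =>
    ((Subgroup.mem_centralizer_iff.mp hyC) _ (hmemQ x hx)).symm)
  rw [hxy]
  exact hmemQ x hx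

/-- the subgroup generated by the elements of `N_G(S₀)` lying in some `pNormGen p R`, `R` centric -/
def genSub (p : ℕ) (S0 : Subgroup G) : Subgroup G :=
  Subgroup.closure {g : G | g ∈ Subgroup.normalizer (S0 : Set G) ∧
    ∃ R : Subgroup G, CentricIn S0 R ∧ g ∈ pNormGen p R}

/-- the data certifying that the `p`-fusion system of `G` is simple -/
structure Cert2 (p : ℕ) (S0 : Subgroup G) : Prop where
  card : Nat.card S0 = p ^ (Nat.card G).factorization p
  ne : S0 ≠ ⊥
  sc : ∀ T : Subgroup G, T ≤ S0 →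
    (∀ x ∈ T, ∀ g : G, g * x * g⁻¹ ∈ S0 → g * x * g⁻¹ ∈ T) → T = ⊥ ∨ T = S0
  gen : ∀ g ∈ Subgroup.normalizer (S0 : Set G), ∃ g' ∈ genSub p S0,
    ∀ x ∈ S0, g * x * g⁻¹ = g' * x * g'⁻¹

theorem genSub_le_normalizer (p : ℕ) (S0 : Subgroup G) :
    genSub p S0 ≤ Subgroup.normalizer (S0 : Set G) := by
  unfold genSub
  rw [Subgroup.closure_le]
  rintro g ⟨hg, -⟩
  exact hg

theorem hb_of_gen [Finite G] (p : ℕ) [Fact p.Prime] (S : Sylow p G)
    (hgen : ∀ g ∈ Subgroup.normalizer ((S : Subgroup G) : Set G), ∃ g' ∈ genSub p (S : Subgroup G),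
      ∀ x ∈ (S : Subgroup G), g * x * g⁻¹ = g' * x * g'⁻¹) :
    autInducedBy ⊤ (S : Subgroup G) ≤
      ⨆ (R : Subgroup G) (_ : (groupFusionSystem (S : Subgroup G)).IsCentric R),
        autInducedBy (pNormGen p R) (S : Subgroup G) := by
  obtain ⟨J, hJ⟩ : ∃ J : Subgroup (MulAut ↥(S : Subgroup G)), J =
      ⨆ (R : Subgroup G) (_ : (groupFusionSystem (S : Subgroup G)).IsCentric R),
        autInducedBy (pNormGen p R) (S : Subgroup G) := ⟨_, rfl⟩
  rw [← hJ]
  have key : ∀ g' ∈ genSub p (S : Subgroup G), ∀ α : MulAut ↥(S : Subgroup G),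
      (∀ x : ↥(S : Subgroup G), ((α x : ↥(S : Subgroup G)) : G) = g' * (x : G) * g'⁻¹) → α ∈ J := by
    intro g' hg'
    have hN := genSub_le_normalizer p (S : Subgroup G)
    unfold genSub at hg'
    induction hg' using Subgroup.closure_induction with
    | mem a ha =>
      intro α hα
      obtain ⟨-, R, hR, haR⟩ := ha
      rw [hJ]
      apply Subgroup.mem_iSup_of_mem R
      apply Subgroup.mem_iSup_of_mem (isCentric_of_centricIn hR)
      rw [mem_autInducedBy_iff]
      exact ⟨a, haR, hα⟩
    | one =>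
      intro α hα
      have : α = 1 := by
        ext x
        rw [hα]
        simp
      rw [this]
      exact J.one_mem
    | mul a b ha hb iha ihb =>
      intro α hα
      have haN : a ∈ Subgroup.normalizer ((S : Subgroup G) : Set G) := hN ha
      have hbN : b ∈ Subgroup.normalizer ((S : Subgroup G) : Set G) := hN hb
      have h1 := iha ((S : Subgroup G).normalizerMonoidHom ⟨a, haN⟩) (fun x => rfl)
      have h2 := ihb ((S : Subgroup G).normalizerMonoidHom ⟨b, hbN⟩) (fun x => rfl)
      have : α = (S : Subgroup G).normalizerMonoidHom ⟨a, haN⟩ *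
          (S : Subgroup G).normalizerMonoidHom ⟨b, hbN⟩ := by
        ext x
        rw [hα]
        show a * b * (x : G) * (a * b)⁻¹ = a * (b * (x : G) * b⁻¹) * a⁻¹
        group
      rw [this]
      exact J.mul_mem h1 h2
    | inv a ha iha =>
      intro α hα
      have haN : a ∈ Subgroup.normalizer ((S : Subgroup G) : Set G) := hN ha
      have h1 := iha ((S : Subgroup G).normalizerMonoidHom ⟨a, haN⟩) (fun x => rfl)
      have : α = ((S : Subgroup G).normalizerMonoidHom ⟨a, haN⟩)⁻¹ := by
        rw [eq_inv_iff_mul_eq_one]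
        ext x
        rw [MulAut.mul_apply, hα]
        show a⁻¹ * (a * (x : G) * a⁻¹) * a⁻¹⁻¹ = ((1 : MulAut ↥(S : Subgroup G)) x : G)
        rw [MulAut.one_apply]
        group
      rw [this]
      exact J.inv_mem h1
  unfold autInducedBy
  rw [Subgroup.closure_le]
  rintro α ⟨g, -, hg⟩
  have hgn : g ∈ Subgroup.normalizer ((S : Subgroup G) : Set G) := by
    apply Subgroup.mem_normalizer_fintype
    intro x hx
    have := hg ⟨x, hx⟩
    rw [SetLike.mem_coe, ← this]
    exact (α ⟨x, hx⟩).2
  obtain ⟨g', hg', h⟩ := hgen g hgn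
  apply key g' hg' α
  intro x
  rw [hg x, h x x.2]

/-- the criterion, for one Sylow subgroup -/
theorem isSimple_of_cert2_self [Finite G] (p : ℕ) [Fact p.Prime] (S : Sylow p G)
    (hc : Cert2 p (S : Subgroup G)) : (groupFusionSystem (S : Subgroup G)).IsSimple p := by
  apply gfs_isSimple_criterion' p S hc.ne
  · intro T hT
    exact hc.sc T hT.1 (fun x hx g hg => conj_mem_of_stronglyClosed hT hx hg)
  · exact hb_of_gen p S hc.gen

/-- a certificate is carried along a surjection with central kernel of order prime to `p` -/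
theorem Cert2.map {G' : Type*} [Group G'] [Finite G] (p : ℕ) [Fact p.Prime] (π : G →* G')
    (hπ : Function.Surjective π) (hker : π.ker ≤ Subgroup.center G)
    (hcop : (Nat.card π.ker).Coprime p) (S0 : Subgroup G) (hc : Cert2 p S0) :
    Cert2 p (S0.map π) := by
  obtain ⟨hcard, hne, hsc, hgen⟩ := hc
  have hp : p.Prime := Fact.out
  have : Finite G' := Finite.of_surjective π hπ
  -- exponent of `S0`
  have hexp : ∀ x ∈ S0, x ^ Nat.card S0 = 1 := by
    intro x hx
    have := pow_card_eq_one' (G := S0) (x := ⟨x, hx⟩)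
    exact congrArg Subtype.val this
  -- the kernel meets `p`-elements trivially
  have hk1 : ∀ k ∈ π.ker, k ^ Nat.card S0 = 1 → k = 1 := by
    intro k hk hke
    have h1 : orderOf k ∣ Nat.card S0 := orderOf_dvd_of_pow_eq_one hke
    have h2 : orderOf k ∣ Nat.card π.ker := by
      have := orderOf_dvd_natCard (⟨k, hk⟩ : π.ker)
      rwa [Subgroup.orderOf_mk] at this
    rw [hcard] at h1
    have h3 : (Nat.card π.ker).Coprime (p ^ (Nat.card G).factorization p) :=
      Nat.Coprime.pow_right _ hcop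
    have h4 : orderOf k ∣ 1 := by
      rw [← h3.gcd_eq_one]
      exact Nat.dvd_gcd h2 h1
    exact orderOf_eq_one_iff.mp (Nat.dvd_one.mp h4)
  have hinj : ∀ x ∈ S0, π x = 1 → x = 1 := by
    intro x hx h
    exact hk1 x (MonoidHom.mem_ker.mpr h) (hexp x hx)
  -- lifting membership
  have hlift : ∀ y : G, π y ∈ S0.map π → (y ^ Nat.card S0 = 1) → y ∈ S0 := by
    intro y hy hye
    obtain ⟨s, hs, hsy⟩ := hy
    have hk : s⁻¹ * y ∈ π.ker := by
      rw [MonoidHom.mem_ker, map_mul, map_inv, hsy, inv_mul_cancel]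
    have hkc := hker hk
    have hcomm : s * (s⁻¹ * y) = (s⁻¹ * y) * s := (Subgroup.mem_center_iff.mp hkc s)
    have hpow : (s⁻¹ * y) ^ Nat.card S0 = 1 := by
      have e : y = s * (s⁻¹ * y) := by group
      have h1 : y ^ Nat.card S0 = s ^ Nat.card S0 * (s⁻¹ * y) ^ Nat.card S0 := by
        conv_lhs => rw [e]
        exact (Commute.mul_pow hcomm _)
      rw [hye, hexp s hs, one_mul] at h1
      exact h1.symm
    have := hk1 _ hk hpow
    have e : y = s := by
      have : s * (s⁻¹ * y) = s * 1 := by rw [this]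
      rwa [mul_inv_cancel_left, mul_one] at this
    rw [e]
    exact hs
  have hcardmap : Nat.card (S0.map π) = Nat.card S0 := by
    have hi : Function.Injective (π.domRestrict S0) := by
      rw [injective_iff_map_eq_one]
      intro x hx
      exact Subtype.ext (hinj x.1 x.2 hx)
    rw [← MonoidHom.domRestrict_range]
    exact (Nat.card_congr (MonoidHom.ofInjective hi).toEquiv).symm
  have hfac : (Nat.card G').factorization p = (Nat.card G).factorization p := by
    have h1 : Nat.card G = Nat.card G' * Nat.card π.ker := by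
      rw [Subgroup.card_eq_card_quotient_mul_card_subgroup π.ker,
        Nat.card_congr (QuotientGroup.quotientKerEquivOfSurjective π hπ).toEquiv]
    rw [h1, Nat.factorization_mul Nat.card_pos.ne' Nat.card_pos.ne', Finsupp.add_apply,
      Nat.factorization_eq_zero_of_not_dvd (n := Nat.card π.ker)]
    · rw [add_zero]
    · intro h
      have := Nat.Coprime.eq_one_of_dvd hcop.symm h
      exact hp.one_lt.ne' this
  -- conjugates of elements of `S0` have exponent `|S0|`
  have hconjexp : ∀ (g : G), ∀ x ∈ S0, (g * x * g⁻¹) ^ Nat.card S0 = 1 := by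
    intro g x hx
    rw [conj_pow, hexp x hx]
    group
  -- normalizers
  have hnorm : ∀ (H : Subgroup G) (a : G), a ∈ Subgroup.normalizer (H : Set G) →
      π a ∈ Subgroup.normalizer ((H.map π : Subgroup G') : Set G') := by
    intro H a ha
    apply Subgroup.mem_normalizer_fintype
    rintro _ ⟨x, hx, rfl⟩
    rw [SetLike.mem_coe, ← map_inv, ← map_mul, ← map_mul]
    exact Subgroup.mem_map_of_mem π ((Subgroup.mem_normalizer_iff.mp ha x).mp hx)
  have hpn : ∀ R : Subgroup G, pNormGen p R ≤ (pNormGen p (R.map π)).comap π := by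
    intro R
    unfold pNormGen
    rw [Subgroup.closure_le]
    rintro b ⟨hbN, k, hk⟩
    show π b ∈ Subgroup.closure _
    apply Subgroup.subset_closure
    refine ⟨hnorm R b hbN, ?_⟩
    have hdvd : orderOf (π b) ∣ p ^ k := by
      rw [← hk]
      exact orderOf_map_dvd π b
    obtain ⟨j, -, hj⟩ := (Nat.dvd_prime_pow hp).mp hdvd
    exact ⟨j, hj⟩
  have hcen : ∀ R : Subgroup G, CentricIn S0 R → CentricIn (S0.map π) (R.map π) := by
    intro R hR
    refine ⟨Subgroup.map_mono hR.1, ?_⟩
    intro g' hg' y' hy' hcomm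
    obtain ⟨g, rfl⟩ := hπ g'
    have h1 : ∀ x ∈ R, g * x * g⁻¹ ∈ S0 := by
      intro x hx
      apply hlift _ _ (hconjexp g x (hR.1 hx))
      rw [map_mul, map_mul, map_inv]
      exact hg' _ (Subgroup.mem_map_of_mem π hx)
    obtain ⟨y, hy, rfl⟩ := hy'
    have h2 : ∀ x ∈ R, y * (g * x * g⁻¹) = g * x * g⁻¹ * y := by
      intro x hx
      have hc1 := hcomm _ (Subgroup.mem_map_of_mem π hx)
      have hmem : y * (g * x * g⁻¹) * (g * x * g⁻¹ * y)⁻¹ ∈ S0 :=
        S0.mul_mem (S0.mul_mem hy (h1 x hx)) (S0.inv_mem (S0.mul_mem (h1 x hx) hy))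
      have hone : π (y * (g * x * g⁻¹) * (g * x * g⁻¹ * y)⁻¹) = 1 := by
        rw [map_mul, map_inv, mul_inv_eq_one]
        simp only [map_mul, map_inv]
        exact hc1
      have := hinj _ hmem hone
      exact mul_inv_eq_one.mp this
    obtain ⟨x, hx, hxy⟩ := hR.2 g h1 y hy h2
    refine ⟨π x, Subgroup.mem_map_of_mem π hx, ?_⟩
    rw [hxy]
    simp only [map_mul, map_inv]
  have hgs : genSub p S0 ≤ (genSub p (S0.map π)).comap π := by
    unfold genSub
    rw [Subgroup.closure_le]
    rintro a ⟨haN, R, hR, haR⟩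
    show π a ∈ Subgroup.closure _
    apply Subgroup.subset_closure
    exact ⟨hnorm S0 a haN, R.map π, hcen R hR, hpn R haR⟩
  refine ⟨?_, ?_, ?_, ?_⟩
  · rw [hcardmap, hcard, hfac]
  · intro h
    apply hne
    rw [← Subgroup.card_eq_one] at h ⊢
    rw [← hcardmap, h]
  · intro T hTS hT
    have key := hsc (T.comap π ⊓ S0) inf_le_right (by
      intro x hx g hg
      refine ⟨?_, hg⟩
      show π (g * x * g⁻¹) ∈ T
      rw [map_mul, map_mul, map_inv]
      apply hT _ hx.1
      rw [← map_inv, ← map_mul, ← map_mul]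
      exact Subgroup.mem_map_of_mem π hg)
    have hTeq : T = (T.comap π ⊓ S0).map π := by
      apply le_antisymm
      · intro t ht
        obtain ⟨s, hs, rfl⟩ := hTS ht
        exact ⟨s, ⟨ht, hs⟩, rfl⟩
      · rintro _ ⟨s, hs, rfl⟩
        exact hs.1
    rcases key with h | h
    · left
      rw [hTeq, h, Subgroup.map_bot]
    · right
      rw [hTeq, h]
  · intro g hg
    obtain ⟨g', rfl⟩ := hπ g
    have hgn : g' ∈ Subgroup.normalizer (S0 : Set G) := by
      apply Subgroup.mem_normalizer_fintype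
      intro x hx
      rw [SetLike.mem_coe]
      apply hlift _ _ (hconjexp g' x hx)
      rw [map_mul, map_mul, map_inv]
      exact (Subgroup.mem_normalizer_iff.mp hg (π x)).mp (Subgroup.mem_map_of_mem π hx)
    obtain ⟨g'', hg'', h⟩ := hgen g' hgn
    refine ⟨π g'', hgs hg'', ?_⟩
    rintro _ ⟨x, hx, rfl⟩
    rw [← map_inv, ← map_mul, ← map_mul, h x hx, map_mul, map_mul, map_inv]

/-- **the criterion for every Sylow subgroup, from one subgroup of Sylow order** -/
theorem isSimple_of_cert2 [Finite G] (p : ℕ) [Fact p.Prime] (S0 : Subgroup G)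
    (hc : Cert2 p S0) (S : Sylow p G) : (groupFusionSystem (S : Subgroup G)).IsSimple p := by
  obtain ⟨g, hg⟩ := MulAction.exists_smul_eq G (Sylow.ofCard S0 hc.card) S
  have hmap : S0.map (MulAut.conj g).toMonoidHom = (S : Subgroup G) := by
    rw [← hg, Sylow.coe_subgroup_smul]
    rfl
  have hker : (MulAut.conj g).toMonoidHom.ker = ⊥ := by
    rw [MonoidHom.ker_eq_bot_iff]
    exact (MulAut.conj g).injective
  have h2 := Cert2.map p (MulAut.conj g).toMonoidHom (MulAut.conj g).surjective
    (by rw [hker]; exact bot_le) (by rw [hker, Subgroup.card_bot]; exact Nat.coprime_one_left p)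
    S0 hc
  rw [hmap] at h2
  exact isSimple_of_cert2_self p S h2

end Cfsg.Agent.H9.GfsSimple3
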