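import Mathlib

set_option autoImplicit false

/-! Abstract extended binary Golay codes: self-dual `[24,12]` codes of minimum weight `≥ 8`.
The sextet lemma (every coset has a unique word of weight `≤ 3` or exactly six words of weight
`4` with disjoint supports covering the 24 points) by a weighted count over the cosets. -/

namespace Cfsg.Agent.H9.GolayAbs

open Finset

section Words

variable {ι : Type*} [Fintype ι] [DecidableEq ι]

/-- support of a binary word -/
def supp (u : ι → ZMod 2) : Finset ι := univ.filter (fun i => u i ≠ 0)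

theorem hammingNorm_eq (u : ι → ZMod 2) : hammingNorm u = (supp u).card := rfl

theorem mem_supp (u : ι → ZMod 2) (i : ι) : i ∈ supp u ↔ u i ≠ 0 := by
  unfold supp
  rw [mem_filter]
  exact ⟨fun h => h.2, fun h => ⟨mem_univ _, h⟩⟩

theorem mem_supp' (u : ι → ZMod 2) (i : ι) : i ∈ supp u ↔ u i = 1 := by
  rw [mem_supp]
  generalize u i = a
  revert a
  decide

/-- indicator word of a set -/
def ind (s : Finset ι) : ι → ZMod 2 := fun i => if i ∈ s then 1 else 0

theorem supp_ind (s : Finset ι) : supp (ind s) = s := by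
  ext i
  rw [mem_supp']
  unfold ind
  by_cases h : i ∈ s
  · simp [h]
  · simp [h]

theorem ind_supp (u : ι → ZMod 2) : ind (supp u) = u := by
  funext i
  unfold ind
  by_cases h : i ∈ supp u
  · rw [if_pos h]
    exact ((mem_supp' u i).1 h).symm
  · rw [if_neg h]
    rw [mem_supp, not_not] at h
    exact h.symm

theorem supp_injective : Function.Injective (supp : (ι → ZMod 2) → Finset ι) := by
  intro u v h
  rw [← ind_supp u, ← ind_supp v, h]

theorem supp_zero : supp (0 : ι → ZMod 2) = ∅ := by
  ext i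
  rw [mem_supp]
  simp

theorem supp_eq_empty {u : ι → ZMod 2} : supp u = ∅ ↔ u = 0 := by
  constructor
  · intro h
    apply supp_injective
    rw [h, supp_zero]
  · rintro rfl
    exact supp_zero

theorem mem_supp_add (u v : ι → ZMod 2) (i : ι) :
    i ∈ supp (u + v) ↔ (i ∈ supp u ∧ i ∉ supp v) ∨ (i ∈ supp v ∧ i ∉ supp u) := by
  rw [mem_supp, mem_supp, mem_supp, Pi.add_apply]
  generalize u i = a
  generalize v i = b
  revert a b
  decide

theorem supp_add (u v : ι → ZMod 2) : supp (u + v) = (supp u \ supp v) ∪ (supp v \ supp u) := by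
  ext i
  rw [mem_supp_add, mem_union, mem_sdiff, mem_sdiff]

theorem card_supp_add (u v : ι → ZMod 2) :
    (supp (u + v)).card + 2 * (supp u ∩ supp v).card = (supp u).card + (supp v).card := by
  rw [supp_add, card_union_of_disjoint]
  · have h1 := card_sdiff_add_card_inter (supp u) (supp v)
    have h2 := card_sdiff_add_card_inter (supp v) (supp u)
    rw [inter_comm (supp v)] at h2
    omega
  · rw [disjoint_left]
    intro i hi hi'
    rw [mem_sdiff] at hi hi'
    exact hi.2 hi'.1

theorem sub_eq_add' (u v : ι → ZMod 2) : u - v = u + v := by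
  funext i
  rw [Pi.sub_apply, Pi.add_apply]
  generalize u i = a
  generalize v i = b
  revert a b
  decide

theorem add_self' (u : ι → ZMod 2) : u + u = 0 := by
  funext i
  rw [Pi.add_apply, Pi.zero_apply]
  generalize u i = a
  revert a
  decide

theorem dot_eq (u v : ι → ZMod 2) : ∑ i, u i * v i = ((supp u ∩ supp v).card : ZMod 2) := by
  rw [card_eq_sum_ones, Nat.cast_sum, ← sum_filter_add_sum_filter_not univ (fun i => i ∈ supp u ∩ supp v)]
  have h1 : ∑ i ∈ univ.filter (fun i => i ∈ supp u ∩ supp v), u i * v i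
      = ∑ i ∈ supp u ∩ supp v, ((1 : ℕ) : ZMod 2) := by
    rw [filter_mem_eq_inter, univ_inter]
    refine sum_congr rfl (fun i hi => ?_)
    rw [mem_inter, mem_supp', mem_supp'] at hi
    rw [hi.1, hi.2]
    rfl
  have h2 : ∑ i ∈ univ.filter (fun i => ¬ i ∈ supp u ∩ supp v), u i * v i = 0 := by
    refine sum_eq_zero (fun i hi => ?_)
    rw [mem_filter, mem_inter, mem_supp, mem_supp] at hi
    have := hi.2
    by_cases hu : u i = 0
    · rw [hu, zero_mul]
    · by_cases hv : v i = 0
      · rw [hv, mul_zero]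
      · exact absurd ⟨hu, hv⟩ this
  rw [h1, h2, add_zero]

/-- the number of words of weight `k`. -/
theorem card_weight_eq (k : ℕ) :
    (univ.filter (fun u : ι → ZMod 2 => (supp u).card = k)).card = Nat.choose (Fintype.card ι) k := by
  rw [← card_univ (α := ι), ← card_powersetCard k (univ : Finset ι)]
  refine card_bij (fun u _ => supp u) ?_ ?_ ?_
  · intro u hu
    rw [mem_filter] at hu
    rw [mem_powersetCard]
    exact ⟨subset_univ _, hu.2⟩
  · intro u _ v _ h
    exact supp_injective h
  · intro s hs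
    rw [mem_powersetCard] at hs
    refine ⟨ind s, ?_, supp_ind s⟩
    rw [mem_filter, supp_ind]
    exact ⟨mem_univ _, hs.2⟩

end Words

section Code

/-- the ambient space -/
abbrev V := Fin 24 → ZMod 2

/-- abstract extended Golay code -/
structure IsGolay (C : Submodule (ZMod 2) V) : Prop where
  dim : Module.finrank (ZMod 2) C = 12
  orth : ∀ v ∈ C, ∀ w ∈ C, ∑ i, v i * w i = 0
  min : ∀ w ∈ C, w ≠ 0 → 8 ≤ hammingNorm w

/-- weight -/
def wt (u : V) : ℕ := (supp u).card

/-- weighting for the coset count -/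
def om (u : V) : ℕ := if wt u ≤ 3 then 6 else 1

theorem sum_om : ∑ u ∈ univ.filter (fun u : V => wt u ≤ 4), om u = 24576 := by
  have hmaps : ∀ u ∈ univ.filter (fun u : V => wt u ≤ 4), wt u ∈ range 5 := by
    intro u hu
    rw [mem_filter] at hu
    rw [mem_range]
    omega
  rw [← sum_fiberwise_of_maps_to hmaps]
  have hk : ∀ k ∈ range 5, ∑ u ∈ (univ.filter (fun u : V => wt u ≤ 4)).filter (fun u => wt u = k),
      om u = Nat.choose 24 k * (if k ≤ 3 then 6 else 1) := by
    intro k hk
    rw [mem_range] at hk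
    have h1 : (univ.filter (fun u : V => wt u ≤ 4)).filter (fun u => wt u = k)
        = univ.filter (fun u : V => (supp u).card = k) := by
      ext u
      rw [mem_filter, mem_filter, mem_filter]
      unfold wt
      constructor
      · intro h; exact ⟨mem_univ _, h.2⟩
      · intro h; exact ⟨⟨mem_univ _, by omega⟩, h.2⟩
    rw [h1]
    have h2 : ∀ u ∈ univ.filter (fun u : V => (supp u).card = k), om u = (if k ≤ 3 then 6 else 1) := by
      intro u hu
      rw [mem_filter] at hu
      unfold om wt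
      rw [hu.2]
    rw [sum_congr rfl h2, sum_const, card_weight_eq, Fintype.card_fin, smul_eq_mul]
  rw [sum_congr rfl hk]
  decide

variable {C : Submodule (ZMod 2) V}

theorem card_quotient (hC : IsGolay C) : Nat.card (V ⧸ C) = 4096 := by
  classical
  have h1 := Submodule.card_eq_card_quotient_mul_card C
  have h2 : Nat.card V = 2 ^ 24 := by
    rw [Nat.card_eq_fintype_card, Fintype.card_fun, ZMod.card, Fintype.card_fin]
  have h3 : Nat.card C = 2 ^ 12 := by
    rw [Nat.card_eq_fintype_card, Module.card_eq_pow_finrank (K := ZMod 2), ZMod.card, hC.dim]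
  rw [h2, h3] at h1
  have : (2 : ℕ) ^ 12 * 4096 = 2 ^ 12 * Nat.card (V ⧸ C) := by
    rw [← h1]; norm_num
  exact (Nat.eq_of_mul_eq_mul_left (by norm_num) this).symm

end Code

section Coset

variable {C : Submodule (ZMod 2) V}

open scoped Classical in
/-- words of weight at most 4 in the coset of `w` -/
noncomputable def fib (C : Submodule (ZMod 2) V) (w : V) : Finset V :=
  univ.filter (fun u => u - w ∈ C ∧ wt u ≤ 4)

theorem mem_fib (w u : V) : u ∈ fib C w ↔ u - w ∈ C ∧ wt u ≤ 4 := by
  classical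
  unfold fib
  rw [mem_filter]
  exact ⟨fun h => h.2, fun h => ⟨mem_univ _, h⟩⟩

theorem wt_add (u v : V) : wt (u + v) + 2 * (supp u ∩ supp v).card = wt u + wt v :=
  card_supp_add u v

/-- two words in the same coset are equal or far apart. -/
theorem eq_or_far (hC : IsGolay C) {u u' : V} (h : u - u' ∈ C) :
    u = u' ∨ 8 + 2 * (supp u ∩ supp u').card ≤ wt u + wt u' := by
  by_cases h0 : u - u' = 0
  · left; exact sub_eq_zero.1 h0
  · right
    have h1 := hC.min _ h h0
    rw [hammingNorm_eq, sub_eq_add'] at h1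
    have h2 := wt_add u u'
    unfold wt at h2 ⊢
    omega

theorem sub_mem_of_fib {w u u' : V} (hu : u ∈ fib C w) (hu' : u' ∈ fib C w) : u - u' ∈ C := by
  rw [mem_fib] at hu hu'
  have : u - u' = (u - w) - (u' - w) := by abel
  rw [this]
  exact C.sub_mem hu.1 hu'.1

theorem disjoint_of_fib (hC : IsGolay C) {w u u' : V} (hu : u ∈ fib C w) (hu' : u' ∈ fib C w)
    (hne : u ≠ u') : Disjoint (supp u) (supp u') := by
  rcases eq_or_far hC (sub_mem_of_fib hu hu') with h | h
  · exact absurd h hne
  · rw [mem_fib] at hu hu'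
    have h1 := hu.2
    have h2 := hu'.2
    have : (supp u ∩ supp u').card = 0 := by omega
    rw [disjoint_iff_inter_eq_empty]
    exact card_eq_zero.1 this

theorem fib_eq_singleton (hC : IsGolay C) {w u₀ : V} (hu₀ : u₀ ∈ fib C w) (h3 : wt u₀ ≤ 3) :
    fib C w = {u₀} := by
  ext u
  rw [mem_singleton]
  constructor
  · intro hu
    rcases eq_or_far hC (sub_mem_of_fib hu hu₀) with h | h
    · exact h
    · rw [mem_fib] at hu
      have := hu.2
      omega
  · rintro rfl
    exact hu₀

theorem wt_eq_four_of_fib {w : V} (hno : ∀ u ∈ fib C w, ¬ wt u ≤ 3) {u : V} (hu : u ∈ fib C w) :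
    wt u = 4 := by
  have h1 := hno u hu
  rw [mem_fib] at hu
  have := hu.2
  omega

theorem four_mul_card_fib (hC : IsGolay C) {w : V} (hno : ∀ u ∈ fib C w, ¬ wt u ≤ 3) :
    4 * (fib C w).card = ((fib C w).biUnion supp).card := by
  rw [card_biUnion]
  · have h4 : ∀ u ∈ fib C w, (supp u).card = 4 := fun u hu => wt_eq_four_of_fib hno hu
    rw [sum_congr rfl h4, sum_const, smul_eq_mul, mul_comm]
  · intro u hu u' hu' hne
    exact disjoint_of_fib hC hu hu' hne

theorem sum_om_fib_le (hC : IsGolay C) (w : V) : ∑ u ∈ fib C w, om u ≤ 6 := by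
  by_cases hlight : ∃ u₀ ∈ fib C w, wt u₀ ≤ 3
  · obtain ⟨u₀, hu₀, h3⟩ := hlight
    rw [fib_eq_singleton hC hu₀ h3, sum_singleton]
    unfold om
    rw [if_pos h3]
  · have hno : ∀ u ∈ fib C w, ¬ wt u ≤ 3 := fun u hu h => hlight ⟨u, hu, h⟩
    have h1 : ∑ u ∈ fib C w, om u = (fib C w).card := by
      rw [card_eq_sum_ones]
      refine sum_congr rfl (fun u hu => ?_)
      unfold om
      rw [if_neg (hno u hu)]
    rw [h1]
    have h2 := four_mul_card_fib hC hno
    have h3 : ((fib C w).biUnion supp).card ≤ 24 := by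
      have := card_le_univ ((fib C w).biUnion supp)
      rw [Fintype.card_fin] at this
      exact this
    omega

theorem sum_om_fib_eq (hC : IsGolay C) (w : V) : ∑ u ∈ fib C w, om u = 6 := by
  classical
  have hfin : Finite (V ⧸ C) := inferInstance
  let _ : Fintype (V ⧸ C) := Fintype.ofFinite _
  let f : V ⧸ C → ℕ := fun κ =>
    ∑ u ∈ (univ.filter (fun u : V => wt u ≤ 4)).filter (fun u => Submodule.Quotient.mk u = κ), om u
  have hfib : ∀ w : V, f (Submodule.Quotient.mk w) = ∑ u ∈ fib C w, om u := by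
    intro w
    refine sum_congr ?_ (fun _ _ => rfl)
    ext u
    rw [mem_filter, mem_filter, mem_fib, Submodule.Quotient.eq]
    constructor
    · intro h; exact ⟨h.2, h.1.2⟩
    · intro h; exact ⟨⟨mem_univ _, h.2⟩, h.1⟩
  have hle : ∀ κ ∈ (univ : Finset (V ⧸ C)), f κ ≤ (fun _ => 6) κ := by
    intro κ _
    obtain ⟨w, rfl⟩ := Submodule.Quotient.mk_surjective C κ
    rw [hfib]
    exact sum_om_fib_le hC w
  have hsum : ∑ κ, f κ = ∑ κ : V ⧸ C, (fun _ => 6) κ := by
    have h1 := Finset.sum_fiberwise (univ.filter (fun u : V => wt u ≤ 4))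
      (fun u : V => (Submodule.Quotient.mk u : V ⧸ C)) om
    rw [sum_om] at h1
    rw [sum_const, card_univ, ← Nat.card_eq_fintype_card, card_quotient hC]
    exact h1
  have := (sum_eq_sum_iff_of_le hle).1 hsum (Submodule.Quotient.mk w) (mem_univ _)
  rw [hfib] at this
  exact this

/-- the sextet lemma -/
theorem sextet (hC : IsGolay C) (w : V) :
    (∃ u, fib C w = {u} ∧ wt u ≤ 3) ∨
    ((fib C w).card = 6 ∧ (∀ u ∈ fib C w, wt u = 4) ∧
      (∀ u ∈ fib C w, ∀ u' ∈ fib C w, u ≠ u' → Disjoint (supp u) (supp u')) ∧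
      (fib C w).biUnion supp = univ) := by
  by_cases hlight : ∃ u₀ ∈ fib C w, wt u₀ ≤ 3
  · obtain ⟨u₀, hu₀, h3⟩ := hlight
    left
    exact ⟨u₀, fib_eq_singleton hC hu₀ h3, h3⟩
  · right
    have hno : ∀ u ∈ fib C w, ¬ wt u ≤ 3 := fun u hu h => hlight ⟨u, hu, h⟩
    have h1 : ∑ u ∈ fib C w, om u = (fib C w).card := by
      rw [card_eq_sum_ones]
      refine sum_congr rfl (fun u hu => ?_)
      unfold om
      rw [if_neg (hno u hu)]
    have h6 : (fib C w).card = 6 := by rw [← h1, sum_om_fib_eq hC w]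
    refine ⟨h6, fun u hu => wt_eq_four_of_fib hno hu, fun u hu u' hu' hne =>
      disjoint_of_fib hC hu hu' hne, ?_⟩
    apply eq_univ_of_card
    rw [← four_mul_card_fib hC hno, h6, Fintype.card_fin]

end Coset

section Octads

variable {C : Submodule (ZMod 2) V}

theorem wt_ind (t : Finset (Fin 24)) : wt (ind t) = t.card := by
  unfold wt
  rw [supp_ind]

/-- through a 4-set and a further point there is an octad. -/
theorem octad_through (hC : IsGolay C) (t : Finset (Fin 24)) (ht : t.card = 4) (x : Fin 24)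
    (hx : x ∉ t) : ∃ o ∈ C, wt o = 8 ∧ t ⊆ supp o ∧ x ∈ supp o := by
  have h1 : ind t ∈ fib C (ind t) := by
    rw [mem_fib, sub_self, wt_ind, ht]
    exact ⟨C.zero_mem, le_refl _⟩
  rcases sextet hC (ind t) with ⟨u, hu, h3⟩ | ⟨-, h4, hdis, hcov⟩
  · exfalso
    rw [hu, mem_singleton] at h1
    rw [← h1, wt_ind, ht] at h3
    omega
  · have hx' : x ∈ (fib C (ind t)).biUnion supp := by rw [hcov]; exact mem_univ _
    rw [mem_biUnion] at hx'
    obtain ⟨u, hu, hxu⟩ := hx'
    have hne : ind t ≠ u := by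
      rintro rfl
      rw [supp_ind] at hxu
      exact hx hxu
    have hd := hdis _ h1 u hu hne
    rw [supp_ind] at hd
    refine ⟨ind t + u, ?_, ?_, ?_, ?_⟩
    · rw [← sub_eq_add']
      exact sub_mem_of_fib h1 hu
    · have := wt_add (ind t) u
      rw [supp_ind, disjoint_iff_inter_eq_empty.1 hd, card_empty, wt_ind, ht, h4 u hu] at this
      omega
    · intro i hi
      rw [mem_supp_add, supp_ind]
      left
      exact ⟨hi, fun h => (disjoint_left.1 hd) hi h⟩
    · rw [mem_supp_add, supp_ind]
      right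
      exact ⟨hxu, hx⟩

theorem eight_le_wt (hC : IsGolay C) {c : V} (hc : c ∈ C) (hc0 : c ≠ 0) : 8 ≤ wt c :=
  hC.min c hc hc0

theorem even_inter (hC : IsGolay C) {c o : V} (hc : c ∈ C) (ho : o ∈ C) :
    2 ∣ (supp c ∩ supp o).card := by
  have := hC.orth c hc o ho
  rw [dot_eq] at this
  exact (ZMod.natCast_eq_zero_iff _ _).1 this

/-- every non-zero codeword is shortened by 4 or 8 by adding a suitable octad. -/
theorem reduce (hC : IsGolay C) {c : V} (hc : c ∈ C) (hc0 : c ≠ 0) :
    ∃ o ∈ C, wt o = 8 ∧ (wt (c + o) + 4 = wt c ∨ wt (c + o) + 8 = wt c) := by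
  have h8 := eight_le_wt hC hc hc0
  obtain ⟨t, hts, ht⟩ := exists_subset_card_eq (s := supp c) (n := 4) (by unfold wt at h8; omega)
  have hex : ∃ x ∈ supp c, x ∉ t := by
    by_contra hcon
    have hsub : supp c ⊆ t := by
      intro x hx
      by_contra hxt
      exact hcon ⟨x, hx, hxt⟩
    have := card_le_card hsub
    unfold wt at h8
    omega
  obtain ⟨x, hxc, hxt⟩ := hex
  obtain ⟨o, hoC, ho8, hto, hxo⟩ := octad_through hC t ht x hxt
  refine ⟨o, hoC, ho8, ?_⟩
  have h1 := wt_add c o
  have h2 := even_inter hC hc hoC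
  have h3 : (supp c ∩ supp o).card ≤ 8 := by
    have := card_le_card (inter_subset_right : supp c ∩ supp o ⊆ supp o)
    unfold wt at ho8
    omega
  have h4 : 5 ≤ (supp c ∩ supp o).card := by
    have hsub : insert x t ⊆ supp c ∩ supp o := by
      intro i hi
      rw [mem_insert] at hi
      rw [mem_inter]
      rcases hi with rfl | hi
      · exact ⟨hxc, hxo⟩
      · exact ⟨hts hi, hto hi⟩
    have := card_le_card hsub
    rw [card_insert_of_notMem hxt, ht] at this
    exact this
  obtain ⟨k, hk⟩ := h2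
  have : k = 3 ∨ k = 4 := by omega
  rcases this with rfl | rfl
  · left; omega
  · right; omega

end Octads

end Cfsg.Agent.H9.GolayAbs
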