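import Mathlib
import Cfsg.Prelude.Def_OddOrderLocal

set_option autoImplicit false

/-! Hall `{2,3}`-subgroups in terms of orders. -/

namespace Cfsg.Agent.H9.Hall23

open Cfsg

/-- the factorization of `2 ^ a * 3 ^ b` -/
theorem fact_two (a b : ℕ) : (2 ^ a * 3 ^ b).factorization 2 = a := by
  rw [Nat.factorization_mul (by positivity) (by positivity), Nat.Prime.factorization_pow
    Nat.prime_two, Nat.Prime.factorization_pow Nat.prime_three]
  simp

theorem fact_three (a b : ℕ) : (2 ^ a * 3 ^ b).factorization 3 = b := by
  rw [Nat.factorization_mul (by positivity) (by positivity), Nat.Prime.factorization_pow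
    Nat.prime_two, Nat.Prime.factorization_pow Nat.prime_three]
  simp

theorem prime_dvd (a b r : ℕ) (hr : r.Prime) (h : r ∣ 2 ^ a * 3 ^ b) : r = 2 ∨ r = 3 := by
  rcases (Nat.Prime.dvd_mul hr).1 h with h | h
  · left
    exact (Nat.prime_dvd_prime_iff_eq hr Nat.prime_two).1 (hr.dvd_of_dvd_pow h)
  · right
    exact (Nat.prime_dvd_prime_iff_eq hr Nat.prime_three).1 (hr.dvd_of_dvd_pow h)

/-- Hall `{2,3}`-subgroups are the subgroups of order the `{2,3}`-part -/
theorem hall_iff {G : Type*} [Group G] [Finite G] (H : Subgroup G) :
    IsPiHall ({2, 3} : Set ℕ) H ↔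
      Nat.card H = 2 ^ (Nat.card G).factorization 2 * 3 ^ (Nat.card G).factorization 3 := by
  have hidx := H.card_mul_index
  have hHpos : Nat.card H ≠ 0 := Nat.card_pos.ne'
  have hipos : H.index ≠ 0 := Subgroup.index_ne_zero_of_finite
  have hfac : ∀ r : ℕ, (Nat.card G).factorization r =
      (Nat.card H).factorization r + H.index.factorization r := by
    intro r
    rw [← hidx, Nat.factorization_mul hHpos hipos]
    rfl
  constructor
  · rintro ⟨h1, h2⟩
    apply Nat.eq_of_factorization_eq hHpos (by positivity)
    intro r
    by_cases hr : r.Prime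
    · by_cases hr2 : r = 2
      · rw [hr2, fact_two, hfac 2]
        have : H.index.factorization 2 = 0 :=
          Nat.factorization_eq_zero_of_not_dvd (h2 2 Nat.prime_two (by simp))
        omega
      · by_cases hr3 : r = 3
        · rw [hr3, fact_three, hfac 3]
          have : H.index.factorization 3 = 0 :=
            Nat.factorization_eq_zero_of_not_dvd (h2 3 Nat.prime_three (by simp))
          omega
        · have e1 : (Nat.card H).factorization r = 0 := by
            apply Nat.factorization_eq_zero_of_not_dvd
            intro hd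
            have := h1 r hr hd
            rcases this with h | h
            · exact hr2 h
            · exact hr3 h
          have e2 : (2 ^ (Nat.card G).factorization 2 *
              3 ^ (Nat.card G).factorization 3).factorization r = 0 := by
            apply Nat.factorization_eq_zero_of_not_dvd
            intro hd
            rcases prime_dvd _ _ r hr hd with h | h
            · exact hr2 h
            · exact hr3 h
          rw [e1, e2]
    · rw [Nat.factorization_eq_zero_of_not_prime _ hr, Nat.factorization_eq_zero_of_not_prime _ hr]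
  · intro h
    refine ⟨?_, ?_⟩
    · intro r hr hd
      rw [h] at hd
      rcases prime_dvd _ _ r hr hd with h' | h'
      · rw [h']; simp
      · rw [h']; simp
    · intro r hr hmem hd
      have hr23 : r = 2 ∨ r = 3 := by simpa using hmem
      have h1 : 1 ≤ H.index.factorization r :=
        (hr.dvd_iff_one_le_factorization hipos).1 hd
      have h2 := hfac r
      rcases hr23 with h' | h'
      · rw [h', h, fact_two] at h2
        rw [h'] at h1
        omega
      · rw [h', h, fact_three] at h2
        rw [h'] at h1
        omega

/-- the `{2,3}`-part of a positive integer -/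
theorem exists_part (x : ℕ) (hx : x ≠ 0) :
    ∃ R : ℕ, x = (2 ^ x.factorization 2 * 3 ^ x.factorization 3) * R ∧
      Nat.Coprime (2 ^ x.factorization 2 * 3 ^ x.factorization 3) R := by
  have h2 : 2 ^ x.factorization 2 ∣ x := Nat.ordProj_dvd x 2
  have h3 : 3 ^ x.factorization 3 ∣ x := Nat.ordProj_dvd x 3
  have hcop : Nat.Coprime (2 ^ x.factorization 2) (3 ^ x.factorization 3) :=
    Nat.Coprime.pow _ _ (by norm_num)
  obtain ⟨R, hR⟩ := Nat.Coprime.mul_dvd_of_dvd_of_dvd hcop h2 h3
  refine ⟨R, hR, ?_⟩
  have hR0 : R ≠ 0 := by
    rintro rfl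
    rw [mul_zero] at hR
    exact hx hR
  have hfac : ∀ r : ℕ, x.factorization r =
      (2 ^ x.factorization 2 * 3 ^ x.factorization 3).factorization r + R.factorization r := by
    intro r
    conv_lhs => rw [hR]
    rw [Nat.factorization_mul (by positivity) hR0]
    rfl
  have hR2 : ¬ 2 ∣ R := by
    intro hd
    have h1 : 1 ≤ R.factorization 2 := (Nat.prime_two.dvd_iff_one_le_factorization hR0).1 hd
    have := hfac 2
    rw [fact_two] at this
    omega
  have hR3 : ¬ 3 ∣ R := by
    intro hd
    have h1 : 1 ≤ R.factorization 3 := (Nat.prime_three.dvd_iff_one_le_factorization hR0).1 hd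
    have := hfac 3
    rw [fact_three] at this
    omega
  apply Nat.Coprime.mul_left
  · apply Nat.Coprime.pow_left
    rw [Nat.Prime.coprime_iff_not_dvd Nat.prime_two]; exact hR2
  · apply Nat.Coprime.pow_left
    rw [Nat.Prime.coprime_iff_not_dvd Nat.prime_three]; exact hR3

end Cfsg.Agent.H9.Hall23
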