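import Mathlib
import Cfsg.Agent.H9.Hall23

set_option autoImplicit false

/-! Arithmetic of the `{2,3}`-part of `q² - 1`. -/

namespace Cfsg.Agent.H9.Hall23

theorem sq_sub_one (q : ℕ) (hq : 1 ≤ q) : q ^ 2 - 1 = (q - 1) * (q + 1) := by
  obtain ⟨r, hr⟩ : ∃ r, q = r + 1 := ⟨q - 1, by omega⟩
  rw [hr, Nat.add_sub_cancel]
  have : (r + 1) ^ 2 = r * (r + 1 + 1) + 1 := by ring
  rw [this, Nat.add_sub_cancel]

theorem fact_n (q : ℕ) (hq : 2 ≤ q) (r : ℕ) :
    (q ^ 2 - 1).factorization r = (q - 1).factorization r + (q + 1).factorization r := by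
  rw [sq_sub_one q (by omega), Nat.factorization_mul (by omega) (by omega)]
  rfl

/-- the factorization of the order of `PSL₂(q)` at `2` and `3` -/
theorem fact_g (q g : ℕ) (hq : 2 ≤ q) (hodd : Odd q) (h3 : ¬ 3 ∣ q)
    (hg : g * 2 = q * (q ^ 2 - 1)) :
    g.factorization 2 + 1 = (q ^ 2 - 1).factorization 2 ∧
      g.factorization 3 = (q ^ 2 - 1).factorization 3 := by
  have hn0 : q ^ 2 - 1 ≠ 0 := by
    rw [sq_sub_one q (by omega)]
    exact Nat.mul_ne_zero (by omega) (by omega)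
  have hg0 : g ≠ 0 := by
    rintro rfl
    rw [zero_mul] at hg
    exact Nat.mul_ne_zero (by omega) hn0 hg.symm
  have hfac : ∀ r : ℕ, g.factorization r + (2 : ℕ).factorization r =
      q.factorization r + (q ^ 2 - 1).factorization r := by
    intro r
    have := congrArg (fun x : ℕ => x.factorization r) hg
    rw [Nat.factorization_mul hg0 (by norm_num), Nat.factorization_mul (by omega) hn0] at this
    exact this
  have hq2 : q.factorization 2 = 0 := by
    apply Nat.factorization_eq_zero_of_not_dvd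
    intro h
    obtain ⟨t, ht⟩ := hodd
    omega
  have hq3 : q.factorization 3 = 0 := Nat.factorization_eq_zero_of_not_dvd h3
  constructor
  · have := hfac 2
    rw [Nat.Prime.factorization_self Nat.prime_two, hq2] at this
    omega
  · have := hfac 3
    have h23 : (2 : ℕ).factorization 3 = 0 :=
      Nat.factorization_eq_zero_of_not_dvd (by norm_num)
    rw [h23, hq3] at this
    omega

/-- `2 ^ A` does not divide `q ± 1` -/
theorem not_dvd_pm (q : ℕ) (hq : 2 ≤ q) (hodd : Odd q) :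
    ¬ 2 ^ (q ^ 2 - 1).factorization 2 ∣ q - 1 ∧ ¬ 2 ^ (q ^ 2 - 1).factorization 2 ∣ q + 1 := by
  have hn0 : q ^ 2 - 1 ≠ 0 := by
    rw [sq_sub_one q (by omega)]
    exact Nat.mul_ne_zero (by omega) (by omega)
  obtain ⟨A, hA⟩ : ∃ A, A = (q ^ 2 - 1).factorization 2 := ⟨_, rfl⟩
  have hnd : ¬ 2 ^ (A + 1) ∣ q ^ 2 - 1 := by
    rw [hA]; exact Nat.pow_succ_factorization_not_dvd hn0 Nat.prime_two
  rw [sq_sub_one q (by omega)] at hnd
  rw [← hA]
  obtain ⟨t, ht⟩ := hodd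
  have e1 : 2 ∣ q - 1 := ⟨t, by omega⟩
  have e2 : 2 ∣ q + 1 := ⟨t + 1, by omega⟩
  constructor
  · intro h
    apply hnd
    rw [pow_succ]
    exact Nat.mul_dvd_mul h e2
  · intro h
    apply hnd
    rw [pow_succ, mul_comm (q - 1)]
    exact Nat.mul_dvd_mul h e1

/-- if `2 ^ (A - 1)` divides `q + 1` then `q ≡ 3 (mod 4)` -/
theorem mod_four_of_dvd_succ (q a : ℕ) (hq : 2 ≤ q) (hodd : Odd q)
    (ha : a + 1 = (q ^ 2 - 1).factorization 2) (h : 2 ^ a ∣ q + 1) : q % 4 = 3 := by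
  have hn0 : q ^ 2 - 1 ≠ 0 := by
    rw [sq_sub_one q (by omega)]
    exact Nat.mul_ne_zero (by omega) (by omega)
  have hnd : ¬ 2 ^ (a + 1 + 1) ∣ q ^ 2 - 1 := by
    rw [ha]; exact Nat.pow_succ_factorization_not_dvd hn0 Nat.prime_two
  rw [sq_sub_one q (by omega)] at hnd
  by_contra hcon
  obtain ⟨t, ht⟩ := hodd
  have h4 : 4 ∣ q - 1 := by
    have : q % 4 = 1 := by omega
    exact ⟨q / 4, by omega⟩
  apply hnd
  rw [pow_succ, pow_succ, mul_assoc, mul_comm (q - 1)]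
  exact Nat.mul_dvd_mul h (by norm_num; exact h4)

/-- if `2 ^ (A - 1)` divides `q - 1` then `q ≡ 1 (mod 4)` -/
theorem mod_four_of_dvd_pred (q a : ℕ) (hq : 2 ≤ q) (hodd : Odd q)
    (ha : a + 1 = (q ^ 2 - 1).factorization 2) (h : 2 ^ a ∣ q - 1) : q % 4 = 1 := by
  have hn0 : q ^ 2 - 1 ≠ 0 := by
    rw [sq_sub_one q (by omega)]
    exact Nat.mul_ne_zero (by omega) (by omega)
  have hnd : ¬ 2 ^ (a + 1 + 1) ∣ q ^ 2 - 1 := by
    rw [ha]; exact Nat.pow_succ_factorization_not_dvd hn0 Nat.prime_two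
  rw [sq_sub_one q (by omega)] at hnd
  by_contra hcon
  obtain ⟨t, ht⟩ := hodd
  have h4 : 4 ∣ q + 1 := by
    have : q % 4 = 3 := by omega
    exact ⟨q / 4 + 1, by omega⟩
  apply hnd
  rw [pow_succ, pow_succ, mul_assoc]
  exact Nat.mul_dvd_mul h (by norm_num; exact h4)

/-- `3` divides `q² - 1` -/
theorem one_le_fact_three (q : ℕ) (hq : 2 ≤ q) (h3 : ¬ 3 ∣ q) :
    1 ≤ (q ^ 2 - 1).factorization 3 := by
  have hn0 : q ^ 2 - 1 ≠ 0 := by
    rw [sq_sub_one q (by omega)]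
    exact Nat.mul_ne_zero (by omega) (by omega)
  apply (Nat.prime_three.dvd_iff_one_le_factorization hn0).1
  have hmod : q % 3 = 1 ∨ q % 3 = 2 := by omega
  have h1 : q ^ 2 % 3 = 1 := by
    rw [Nat.pow_mod]
    rcases hmod with h | h <;> rw [h]
  have h2 : 1 ≤ q ^ 2 := Nat.one_le_pow _ _ (by omega)
  omega

/-- the `2`-part of `q + 1` when `q ≡ 1 (mod 4)` -/
theorem fact_two_succ (q : ℕ) (h : q % 4 = 1) : (q + 1).factorization 2 = 1 := by
  obtain ⟨c, hc⟩ : ∃ c, q + 1 = 2 * (2 * c + 1) := ⟨q / 4, by omega⟩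
  rw [hc, Nat.factorization_mul (by norm_num) (by omega), Finsupp.add_apply,
    Nat.Prime.factorization_self Nat.prime_two,
    Nat.factorization_eq_zero_of_not_dvd (by omega : ¬ 2 ∣ 2 * c + 1)]

/-- the `2`-part of `q - 1` when `q ≡ 3 (mod 4)` -/
theorem fact_two_pred (q : ℕ) (h : q % 4 = 3) : (q - 1).factorization 2 = 1 := by
  obtain ⟨c, hc⟩ : ∃ c, q - 1 = 2 * (2 * c + 1) := ⟨q / 4, by omega⟩
  rw [hc, Nat.factorization_mul (by norm_num) (by omega), Finsupp.add_apply,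
    Nat.Prime.factorization_self Nat.prime_two,
    Nat.factorization_eq_zero_of_not_dvd (by omega : ¬ 2 ∣ 2 * c + 1)]

end Cfsg.Agent.H9.Hall23
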