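import Mathlib

set_option autoImplicit false

/-!
Hermitian forms over the field with four elements (abstractly: left-linear maps `f` with `f v w = (f w v)^2`):
right semilinearity, norms in the prime field, orthonormal frames of non-degenerate planes.
-/

namespace Cfsg.Agent.H9.Herm4

section F4
variable {F : Type*} [Field F] [Fintype F] (hF : Fintype.card F = 4)
include hF

theorem two0 : (2 : F) = 0 := by
  have hc : ((Fintype.card F : ℕ) : F) = 0 := FiniteField.cast_card_eq_zero F
  rw [hF] at hc
  have h4 : (4 : F) = 0 := by exact_mod_cast hc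
  have : (2 : F) * 2 = 0 := by linear_combination h4
  exact mul_self_eq_zero.1 this

theorem add_self0 (a : F) : a + a = 0 := by linear_combination a * two0 hF

theorem pow4 (a : F) : a ^ 4 = a := by
  have := FiniteField.pow_card a
  rwa [hF] at this

theorem add_sq2 (a b : F) : (a + b) ^ 2 = a ^ 2 + b ^ 2 := by
  linear_combination (a * b) * two0 hF

theorem cube1 (a : F) (ha : a ≠ 0) : a ^ 3 = 1 := by
  have := FiniteField.pow_card_sub_one_eq_one a ha
  rwa [hF] at this

theorem exists_tr : ∃ w : F, w + w ^ 2 ≠ 0 := by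
  classical
  obtain ⟨w, hw⟩ : ∃ w : F, w ∉ ({0, 1} : Finset F) := by
    by_contra hcon
    push Not at hcon
    have : (Finset.univ : Finset F) ⊆ {0, 1} := fun x _ => hcon x
    have h1 := Finset.card_le_card this
    rw [Finset.card_univ, hF, Finset.card_pair zero_ne_one] at h1
    omega
  simp only [Finset.mem_insert, Finset.mem_singleton, not_or] at hw
  refine ⟨w, ?_⟩
  have : w + w ^ 2 = w * (1 + w) := by ring
  rw [this]
  apply mul_ne_zero hw.1
  intro h
  apply hw.2
  have h2 := add_self0 hF (1 : F)
  have : w = (1 + w) + 1 - (1 + 1) := by ring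
  rw [this, h, h2]; ring

end F4

variable {F : Type*} [Field F] {V : Type*} [AddCommGroup V] [Module F V]

/-- Left-linear forms with `f v w = (f w v)^2`. -/
structure IsH (f : V → V → F) : Prop where
  add_left : ∀ x y v, f (x + y) v = f x v + f y v
  smul_left : ∀ (c : F) (x v : V), f (c • x) v = c * f x v
  herm : ∀ v w, f v w = (f w v) ^ 2

namespace IsH

variable {f : V → V → F} (hf : IsH f)
include hf

theorem zero_left (v : V) : f 0 v = 0 := by
  have := hf.smul_left 0 0 v
  rwa [zero_smul, zero_mul] at this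

theorem zero_right (v : V) : f v 0 = 0 := by
  rw [hf.herm, hf.zero_left]; ring

theorem smul_right (c : F) (x z : V) : f x (c • z) = c ^ 2 * f x z := by
  rw [hf.herm, hf.smul_left, mul_pow, ← hf.herm]

variable [Fintype F] (hF : Fintype.card F = 4)
include hF

theorem add_right (x y z : V) : f x (y + z) = f x y + f x z := by
  rw [hf.herm, hf.add_left, add_sq2 hF, ← hf.herm, ← hf.herm]

theorem norm01 (x : V) : f x x = 0 ∨ f x x = 1 := by
  have h1 := hf.herm x x
  by_cases h0 : f x x = 0
  · left; exact h0
  · right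
    have : f x x * (f x x - 1) = 0 := by rw [mul_sub, mul_one, ← sq, ← h1, sub_self]
    rcases mul_eq_zero.1 this with h | h
    · exact absurd h h0
    · exact sub_eq_zero.1 h

/-- An isotropic-free argument: a non-degenerate plane has an orthonormal frame. -/
theorem exists_frame (W : Submodule F V) (hW2 : Module.finrank F W = 2)
    (hnd : ∀ w ∈ W, w ≠ 0 → ∃ x ∈ W, f x w ≠ 0) :
    ∃ v : Fin 2 → V, (∀ k, v k ∈ W) ∧ (∀ k l, f (v k) (v l) = if k = l then 1 else 0) ∧
      (∀ x ∈ W, x = f x (v 0) • v 0 + f x (v 1) • v 1) := by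
  have hfd : FiniteDimensional F W := Module.finite_of_finrank_pos (by rw [hW2]; norm_num)
  have hne : W ≠ ⊥ := by
    intro h
    rw [h, finrank_bot] at hW2
    omega
  obtain ⟨x, hx, hx0⟩ := Submodule.exists_mem_ne_zero_of_ne_bot hne
  obtain ⟨y, hy, hyx⟩ := hnd x hx hx0
  have step1 : ∃ v1 ∈ W, f v1 v1 = 1 := by
    by_cases h1 : f x x = 0
    · by_cases h2 : f y y = 0
      · obtain ⟨w, hw⟩ := exists_tr hF
        refine ⟨(w / f y x) • y + x, W.add_mem (W.smul_mem _ hy) hx, ?_⟩
        have : f ((w / f y x) • y + x) ((w / f y x) • y + x) = w + w ^ 2 := by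
          rw [hf.add_left, hf.add_right hF, hf.add_right hF, hf.smul_left, hf.smul_left, hf.smul_right,
            hf.smul_right, h1, h2, hf.herm x y]
          field_simp
          ring
        exact (hf.norm01 hF _).resolve_left (by rw [this]; exact hw)
      · exact ⟨y, hy, (hf.norm01 hF y).resolve_left h2⟩
    · exact ⟨x, hx, (hf.norm01 hF x).resolve_left h1⟩
  obtain ⟨v1, hv1W, hv11⟩ := step1
  have hv10 : v1 ≠ 0 := by
    intro h
    rw [h, hf.zero_left] at hv11
    exact zero_ne_one hv11
  obtain ⟨y', hy'W, hy'⟩ : ∃ y' ∈ W, y' ∉ Submodule.span F {v1} := by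
    by_contra hcon
    push Not at hcon
    have hle : W ≤ Submodule.span F {v1} := hcon
    have h1 := Submodule.finrank_mono hle
    have h2 := finrank_span_singleton (K := F) hv10
    omega
  obtain ⟨v2, hv2⟩ : ∃ v2, v2 = y' + f y' v1 • v1 := ⟨_, rfl⟩
  have hv2W : v2 ∈ W := by rw [hv2]; exact W.add_mem hy'W (W.smul_mem _ hv1W)
  have hv21 : f v2 v1 = 0 := by
    rw [hv2, hf.add_left, hf.smul_left, hv11, mul_one, add_self0 hF]
  have hv12 : f v1 v2 = 0 := by
    rw [hf.herm, hv21]; ring
  have hv20 : v2 ≠ 0 := by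
    intro h
    apply hy'
    have : y' = (- f y' v1) • v1 := by
      rw [neg_smul]
      exact eq_neg_of_add_eq_zero_left (by rw [← hv2, h])
    rw [this]
    exact Submodule.smul_mem _ _ (Submodule.mem_span_singleton_self v1)
  have hli : LinearIndependent F ![v1, v2] := by
    rw [LinearIndependent.pair_iff]
    intro a b hab
    have h1 : f (a • v1 + b • v2) v1 = 0 := by rw [hab, hf.zero_left]
    rw [hf.add_left, hf.smul_left, hf.smul_left, hv11, hv21, mul_one, mul_zero, add_zero] at h1
    refine ⟨h1, ?_⟩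
    rw [h1, zero_smul, zero_add] at hab
    exact (smul_eq_zero.1 hab).resolve_right hv20
  have hspan : Submodule.span F (Set.range ![v1, v2]) = W := by
    apply Submodule.eq_of_le_of_finrank_eq
    · apply Submodule.span_le.2
      rintro _ ⟨k, rfl⟩
      fin_cases k
      · exact hv1W
      · exact hv2W
    · rw [finrank_span_eq_card hli, hW2, Fintype.card_fin]
  have hexp : ∀ z ∈ W, ∃ a b : F, z = a • v1 + b • v2 := by
    intro z hz
    rw [← hspan] at hz
    obtain ⟨c, hc⟩ := (Submodule.mem_span_range_iff_exists_fun F).1 hz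
    refine ⟨c 0, c 1, ?_⟩
    rw [← hc, Fin.sum_univ_two]
    rfl
  have hv22 : f v2 v2 = 1 := by
    apply (hf.norm01 hF v2).resolve_left
    intro h0
    obtain ⟨z, hz, hzv⟩ := hnd v2 hv2W hv20
    apply hzv
    obtain ⟨a, b, rfl⟩ := hexp z hz
    rw [hf.add_left, hf.smul_left, hf.smul_left, hv12, h0, mul_zero, mul_zero, add_zero]
  refine ⟨![v1, v2], ?_, ?_, ?_⟩
  · intro k
    fin_cases k
    · exact hv1W
    · exact hv2W
  · intro k l
    fin_cases k <;> fin_cases l
    · simpa using hv11
    · simpa using hv12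
    · simpa using hv21
    · simpa using hv22
  · intro z hz
    obtain ⟨a, b, rfl⟩ := hexp z hz
    simp only [Fin.isValue, Matrix.cons_val_zero, Matrix.cons_val_one]
    rw [hf.add_left, hf.smul_left, hf.smul_left, hf.add_left, hf.smul_left, hf.smul_left, hv11, hv21, hv12, hv22]
    simp

end IsH

end Cfsg.Agent.H9.Herm4
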