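import Mathlib
import Cfsg.Agent.Lib.helper3.IndFun
import Cfsg.Agent.Lib.helper3.Irr7

set_option autoImplicit false

/-!
# Values of induced class functions through conjugacy inside the subgroup
-/

namespace Cfsg.Agent.H9.IndConj

open Cfsg Cfsg.Agent.Lib.helper3.IndFun Cfsg.Agent.Lib.helper3.Irr
open scoped ComplexConjugate

variable {G : Type*} [Group G] [Fintype G]

/-- the raw sum defining an induced function, sorted by the conjugate in `H` -/
theorem sum_extendByZero_conj (H : Subgroup G) [Fintype H] (f : H → ℂ) (g : G) :
    ∑ x : G, extendByZero H f (x⁻¹ * g * x)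
      = ∑ h : H, f h * (Nat.card {y : G // y * (h : G) * y⁻¹ = g} : ℂ) := by
  classical
  have h1 : ∀ x : G, extendByZero H f (x⁻¹ * g * x)
      = ∑ h : H, if x * (h : G) * x⁻¹ = g then f h else 0 := by
    intro x
    by_cases hx : x⁻¹ * g * x ∈ H
    · rw [extendByZero_mem H f hx, Finset.sum_eq_single ⟨x⁻¹ * g * x, hx⟩]
      · rw [if_pos]
        group
      · intro h _ hne
        rw [if_neg]
        intro he
        apply hne
        apply Subtype.ext
        have : (h : G) = x⁻¹ * g * x := by rw [← he]; group
        exact this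
      · intro h; exact absurd (Finset.mem_univ _) h
    · rw [extendByZero_not_mem H f hx]
      symm
      apply Finset.sum_eq_zero
      intro h _
      rw [if_neg]
      intro he
      apply hx
      rw [← he]
      have : x⁻¹ * (x * (h : G) * x⁻¹) * x = h := by group
      rw [this]
      exact h.2
  simp only [h1]
  rw [Finset.sum_comm]
  apply Finset.sum_congr rfl
  intro h _
  rw [← Finset.sum_filter, Finset.sum_const, nsmul_eq_mul, mul_comm, Nat.card_eq_fintype_card,
    Fintype.card_subtype]

/-- an induced function evaluated through the conjugates in the subgroup -/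
theorem indFun_eq_sum_conj (H : Subgroup G) [Fintype H] (f : H → ℂ) (g : G) :
    indFun H f g = (Nat.card (Subgroup.centralizer ({g} : Set G)) : ℂ) / (Nat.card H : ℂ) *
      ∑ h : H, (open Classical in if IsConj g (h : G) then f h else 0) := by
  classical
  rw [indFun_apply, sum_extendByZero_conj]
  have key : ∑ h : H, f h * (Nat.card {y : G // y * (h : G) * y⁻¹ = g} : ℂ)
      = (Nat.card (Subgroup.centralizer ({g} : Set G)) : ℂ) *
        ∑ h : H, (if IsConj g (h : G) then f h else 0) := by
    rw [Finset.mul_sum]
    apply Finset.sum_congr rfl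
    intro h _
    by_cases hc : IsConj g (h : G)
    · rw [if_pos hc, card_conj_eq_card_centralizer hc]
      ring
    · rw [if_neg hc, card_conj_eq_zero hc]
      simp
  rw [key]
  ring

/-- an induced function evaluated through a given finite set of conjugates in the subgroup -/
theorem indFun_eq_sum_finset (H : Subgroup G) [Fintype H] (f : H → ℂ) (g : G) (S : Finset H)
    (hS : ∀ h : H, h ∈ S ↔ IsConj g (h : G)) :
    indFun H f g = (Nat.card (Subgroup.centralizer ({g} : Set G)) : ℂ) / (Nat.card H : ℂ) *
      ∑ h ∈ S, f h := by
  classical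
  rw [indFun_eq_sum_conj]
  congr 1
  rw [← Finset.sum_filter]
  apply Finset.sum_congr _ (fun _ _ => rfl)
  ext h
  rw [Finset.mem_filter, hS]
  simp

/-- an induced function at a central element of the subgroup -/
theorem indFun_central (H : Subgroup G) [Fintype H] (f : H → ℂ) (z : H)
    (hz : (z : G) ∈ Subgroup.center G) :
    indFun H f (z : G) = (Nat.card G : ℂ) / (Nat.card H : ℂ) * f z := by
  have hS : ∀ h : H, h ∈ ({z} : Finset H) ↔ IsConj (z : G) (h : G) := by
    intro h
    rw [Finset.mem_singleton]
    constructor
    · rintro rfl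
      exact IsConj.refl _
    · intro hc
      apply Subtype.ext
      obtain ⟨s, hs⟩ := isConj_iff.mp hc
      rw [← hs]
      have := Subgroup.mem_center_iff.mp hz s
      calc s * (z : G) * s⁻¹ = (z : G) * s * s⁻¹ := by rw [this]
        _ = z := by group
  rw [indFun_eq_sum_finset _ _ _ _ hS, Finset.sum_singleton]
  have hcent : Subgroup.centralizer ({(z : G)} : Set G) = ⊤ := by
    rw [Subgroup.centralizer_eq_top_iff_subset]
    intro x hx
    rw [Set.mem_singleton_iff] at hx
    rw [hx]
    exact hz
  rw [hcent, Nat.card_congr Subgroup.topEquiv.toEquiv]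

/-- vanishing of an induced function off the conjugates of the subgroup -/
theorem indFun_eq_zero (H : Subgroup G) [Fintype H] (f : H → ℂ) (g : G)
    (hg : ∀ h : H, ¬ IsConj g (h : G)) : indFun H f g = 0 := by
  classical
  rw [indFun_eq_sum_conj, Finset.sum_eq_zero, mul_zero]
  intro h _
  rw [if_neg (hg h)]

/-- central character of a function induced from a multiplicative function -/
theorem indFun_central_mul (H : Subgroup G) [Fintype H] (f : H → ℂ)
    (hf : ∀ a b : H, f (a * b) = f a * f b) (z : H) (hz : (z : G) ∈ Subgroup.center G) (g : G) :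
    indFun H f ((z : G) * g) = f z * indFun H f g := by
  rw [indFun_apply, indFun_apply, mul_left_comm]
  congr 1
  rw [Finset.mul_sum]
  apply Finset.sum_congr rfl
  intro x _
  have hcomm : x⁻¹ * ((z : G) * g) * x = (z : G) * (x⁻¹ * g * x) := by
    have := Subgroup.mem_center_iff.mp hz x⁻¹
    calc x⁻¹ * ((z : G) * g) * x = (x⁻¹ * (z : G)) * g * x := by group
      _ = ((z : G) * x⁻¹) * g * x := by rw [this]
      _ = (z : G) * (x⁻¹ * g * x) := by group
  rw [hcomm]
  by_cases hx : x⁻¹ * g * x ∈ H
  · rw [extendByZero_mem H f hx, extendByZero_mem H f (H.mul_mem z.2 hx)]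
    exact hf z ⟨_, hx⟩
  · have hx' : (z : G) * (x⁻¹ * g * x) ∉ H := by
      intro h
      apply hx
      have := H.mul_mem (H.inv_mem z.2) h
      simpa using this
    rw [extendByZero_not_mem H f hx, extendByZero_not_mem H f hx', mul_zero]

end Cfsg.Agent.H9.IndConj
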