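import Mathlib

set_option autoImplicit false

/-!
Combinatorics of an involution `τ` on a finite set: a `τ`-invariant finset of size `a * t` can be cut into `t`
blocks of size `a` which `τ` permutes.
-/

namespace Cfsg.Agent.H9

open Finset

section
variable {ι : Type*} [DecidableEq ι] (τ : ι → ι) (hτ : Function.Involutive τ)
include hτ

/-- Greedy choice of `k` representatives of 2-cycles inside the moved points of `T`. -/
theorem inv_exists_pairs (T : Finset ι) (k : ℕ) (hk : 2 * k ≤ (T.filter (fun i => τ i ≠ i)).card) :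
    ∃ S ⊆ T.filter (fun i => τ i ≠ i), S.card = k ∧ ∀ i ∈ S, τ i ∉ S := by
  induction k with
  | zero => exact ⟨∅, by simp, by simp, by simp⟩
  | succ k ih =>
    obtain ⟨S, hS, hSc, hSτ⟩ := ih (by omega)
    have hcard : (S ∪ S.image τ).card < (T.filter (fun i => τ i ≠ i)).card := by
      have h1 : (S ∪ S.image τ).card ≤ S.card + (S.image τ).card := Finset.card_union_le _ _
      have h2 : (S.image τ).card ≤ S.card := Finset.card_image_le
      omega
    obtain ⟨i, hi, hi'⟩ := Finset.exists_mem_notMem_of_card_lt_card hcard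
    have hiS : i ∉ S := fun h => hi' (Finset.mem_union_left _ h)
    have hiS' : i ∉ S.image τ := fun h => hi' (Finset.mem_union_right _ h)
    refine ⟨insert i S, ?_, ?_, ?_⟩
    · intro j hj
      rcases Finset.mem_insert.1 hj with rfl | hj
      · exact hi
      · exact hS hj
    · rw [Finset.card_insert_of_notMem hiS, hSc]
    · intro j hj hτj
      rcases Finset.mem_insert.1 hj with rfl | hj
      · rcases Finset.mem_insert.1 hτj with h | h
        · exact (Finset.mem_filter.1 hi).2 h
        · exact hiS' (Finset.mem_image.2 ⟨τ j, h, hτ j⟩)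
      · rcases Finset.mem_insert.1 hτj with h | h
        · exact hiS' (Finset.mem_image.2 ⟨j, hj, h⟩)
        · exact hSτ j hj h

/-- The moved points of a `τ`-invariant finset are even in number. -/
theorem inv_even_moved (T : Finset ι) (hT : ∀ i ∈ T, τ i ∈ T) :
    Even (T.filter (fun i => τ i ≠ i)).card := by
  by_contra hodd
  rw [Nat.not_even_iff_odd] at hodd
  obtain ⟨k, hk⟩ := hodd
  obtain ⟨S, hS, hSc, hSτ⟩ := inv_exists_pairs τ hτ T k (by omega)
  have hcard : (S ∪ S.image τ).card < (T.filter (fun i => τ i ≠ i)).card := by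
    have h1 : (S ∪ S.image τ).card ≤ S.card + (S.image τ).card := Finset.card_union_le _ _
    have h2 : (S.image τ).card ≤ S.card := Finset.card_image_le
    omega
  -- the complement of `S ∪ τ S` in the moved points is `τ`-invariant without fixed points, of size 1
  set M := T.filter (fun i => τ i ≠ i) with hM
  have hdisj : Disjoint S (S.image τ) := by
    rw [Finset.disjoint_left]
    intro i hi hi'
    obtain ⟨j, hj, rfl⟩ := Finset.mem_image.1 hi'
    exact hSτ j hj hi
  have hcard2 : (S ∪ S.image τ).card = 2 * k := by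
    rw [Finset.card_union_of_disjoint hdisj, Finset.card_image_of_injective _ hτ.injective, hSc]; ring
  have hsub : S ∪ S.image τ ⊆ M := by
    intro i hi
    rcases Finset.mem_union.1 hi with h | h
    · exact hS h
    · obtain ⟨j, hj, rfl⟩ := Finset.mem_image.1 h
      have hj' := Finset.mem_filter.1 (hS hj)
      refine Finset.mem_filter.2 ⟨hT j hj'.1, ?_⟩
      rw [hτ j]; exact fun h => hj'.2 h.symm
  have hdiff : (M \ (S ∪ S.image τ)).card = 1 := by
    rw [Finset.card_sdiff_of_subset hsub, hcard2, hk]; omega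
  obtain ⟨i, hi⟩ := Finset.card_eq_one.1 hdiff
  have hiM : i ∈ M \ (S ∪ S.image τ) := by rw [hi]; exact Finset.mem_singleton_self i
  have hiM' := Finset.mem_sdiff.1 hiM
  have hτi : τ i ∈ M \ (S ∪ S.image τ) := by
    have hi' := Finset.mem_filter.1 hiM'.1
    refine Finset.mem_sdiff.2 ⟨Finset.mem_filter.2 ⟨hT i hi'.1, ?_⟩, ?_⟩
    · rw [hτ i]; exact fun h => hi'.2 h.symm
    · intro h
      apply hiM'.2
      rcases Finset.mem_union.1 h with h | h
      · exact Finset.mem_union_right _ (Finset.mem_image.2 ⟨τ i, h, hτ i⟩)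
      · obtain ⟨j, hj, hj'⟩ := Finset.mem_image.1 h
        rw [← hτ.injective hj']; exact Finset.mem_union_left _ hj
  rw [hi, Finset.mem_singleton] at hτi
  exact (Finset.mem_filter.1 hiM'.1).2 hτi

/-- `τ`-invariant subsets of prescribed size `2u + w`. -/
theorem inv_exists_invariant (T : Finset ι) (hT : ∀ i ∈ T, τ i ∈ T) (u w : ℕ)
    (hu : 2 * u ≤ (T.filter (fun i => τ i ≠ i)).card) (hw : w ≤ (T.filter (fun i => τ i = i)).card) :
    ∃ S ⊆ T, (∀ i ∈ S, τ i ∈ S) ∧ S.card = 2 * u + w := by
  obtain ⟨S, hS, hSc, hSτ⟩ := inv_exists_pairs τ hτ T u hu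
  obtain ⟨W, hW, hWc⟩ := Finset.exists_subset_card_eq hw
  have hdisj : Disjoint S (S.image τ) := by
    rw [Finset.disjoint_left]
    intro i hi hi'
    obtain ⟨j, hj, rfl⟩ := Finset.mem_image.1 hi'
    exact hSτ j hj hi
  have hsub : S ∪ S.image τ ⊆ T.filter (fun i => τ i ≠ i) := by
    intro i hi
    rcases Finset.mem_union.1 hi with h | h
    · exact hS h
    · obtain ⟨j, hj, rfl⟩ := Finset.mem_image.1 h
      have hj' := Finset.mem_filter.1 (hS hj)
      refine Finset.mem_filter.2 ⟨hT j hj'.1, ?_⟩
      rw [hτ j]; exact fun h => hj'.2 h.symm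
  have hdisj2 : Disjoint (S ∪ S.image τ) W := by
    rw [Finset.disjoint_left]
    intro i hi hi'
    exact (Finset.mem_filter.1 (hsub hi)).2 (Finset.mem_filter.1 (hW hi')).2
  refine ⟨(S ∪ S.image τ) ∪ W, ?_, ?_, ?_⟩
  · intro i hi
    rcases Finset.mem_union.1 hi with h | h
    · exact (Finset.mem_filter.1 (hsub h)).1
    · exact (Finset.mem_filter.1 (hW h)).1
  · intro i hi
    rcases Finset.mem_union.1 hi with h | h
    · rcases Finset.mem_union.1 h with h | h
      · exact Finset.mem_union_left _ (Finset.mem_union_right _ (Finset.mem_image.2 ⟨i, h, rfl⟩))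
      · obtain ⟨j, hj, rfl⟩ := Finset.mem_image.1 h
        rw [hτ j]; exact Finset.mem_union_left _ (Finset.mem_union_left _ hj)
    · rw [(Finset.mem_filter.1 (hW h)).2]; exact Finset.mem_union_right _ h
  · rw [Finset.card_union_of_disjoint hdisj2, Finset.card_union_of_disjoint hdisj,
      Finset.card_image_of_injective _ hτ.injective, hSc, hWc]; ring

omit hτ in
/-- Gluing a block structure on an invariant part `S` (labels in `[t', t)`) with one on `T \ S` (labels `< t'`). -/
theorem inv_combine (a : ℕ) (T S : Finset ι) (hS : S ⊆ T) (hSinv : ∀ i ∈ S, τ i ∈ S)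
    (hTS : ∀ i ∈ T \ S, τ i ∈ T \ S) (t t' : ℕ) (htt' : t' ≤ t)
    (blk₀ : ι → ℕ) (s₀ : ℕ → ℕ) (h1 : ∀ i ∈ S, t' ≤ blk₀ i ∧ blk₀ i < t)
    (h2 : ∀ j, t' ≤ j → j < t → (S.filter (fun i => blk₀ i = j)).card = a)
    (h3 : ∀ i ∈ S, blk₀ (τ i) = s₀ (blk₀ i))
    (blk' : ι → ℕ) (s' : ℕ → ℕ) (h1' : ∀ i ∈ T \ S, blk' i < t')
    (h2' : ∀ j < t', ((T \ S).filter (fun i => blk' i = j)).card = a)
    (h3' : ∀ i ∈ T \ S, blk' (τ i) = s' (blk' i)) :
    ∃ (blk : ι → ℕ) (s : ℕ → ℕ), (∀ i ∈ T, blk i < t) ∧
      (∀ j < t, (T.filter (fun i => blk i = j)).card = a) ∧ ∀ i ∈ T, blk (τ i) = s (blk i) := by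
  refine ⟨fun i => if i ∈ S then blk₀ i else blk' i, fun j => if t' ≤ j then s₀ j else s' j, ?_, ?_, ?_⟩
  · intro i hi
    by_cases hiS : i ∈ S
    · simp only [hiS, if_true]; exact (h1 i hiS).2
    · simp only [hiS, if_false]
      have := h1' i (Finset.mem_sdiff.2 ⟨hi, hiS⟩)
      omega
  · intro j hj
    by_cases hjt : t' ≤ j
    · rw [← h2 j hjt hj]
      congr 1
      ext i
      simp only [Finset.mem_filter]
      constructor
      · rintro ⟨hi, h⟩
        by_cases hiS : i ∈ S
        · simp only [hiS, if_true] at h; exact ⟨hiS, h⟩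
        · simp only [hiS, if_false] at h
          have := h1' i (Finset.mem_sdiff.2 ⟨hi, hiS⟩)
          omega
      · rintro ⟨hiS, h⟩
        refine ⟨hS hiS, ?_⟩
        simp only [hiS, if_true]; exact h
    · rw [← h2' j (by omega)]
      congr 1
      ext i
      simp only [Finset.mem_filter, Finset.mem_sdiff]
      constructor
      · rintro ⟨hi, h⟩
        by_cases hiS : i ∈ S
        · simp only [hiS, if_true] at h
          have := (h1 i hiS).1
          omega
        · simp only [hiS, if_false] at h; exact ⟨⟨hi, hiS⟩, h⟩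
      · rintro ⟨⟨hi, hiS⟩, h⟩
        refine ⟨hi, ?_⟩
        simp only [hiS, if_false]; exact h
  · intro i hi
    by_cases hiS : i ∈ S
    · have hτi := hSinv i hiS
      have := (h1 i hiS).1
      simp only [hiS, hτi, if_true, this]
      exact h3 i hiS
    · have hi' : i ∈ T \ S := Finset.mem_sdiff.2 ⟨hi, hiS⟩
      have hτi := (Finset.mem_sdiff.1 (hTS i hi')).2
      have := h1' i hi'
      have hn : ¬ t' ≤ blk' i := by omega
      simp only [hiS, hτi, if_false, hn]
      exact h3' i hi'

/-- The complement of an invariant subset inside an invariant set is invariant. -/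
theorem inv_sdiff (T S : Finset ι) (hT : ∀ i ∈ T, τ i ∈ T) (hSinv : ∀ i ∈ S, τ i ∈ S) :
    ∀ i ∈ T \ S, τ i ∈ T \ S := by
  intro i hi
  obtain ⟨hiT, hiS⟩ := Finset.mem_sdiff.1 hi
  refine Finset.mem_sdiff.2 ⟨hT i hiT, fun h => hiS ?_⟩
  have := hSinv _ h
  rwa [hτ i] at this

/-- Main combinatorial lemma: a `τ`-invariant finset of size `a * t` splits into `t` blocks of size `a`
(labelled `0, …, t-1` by `blk`) permuted by `τ` (via `s` on labels). -/
theorem inv_blocks (a : ℕ) (ha : 1 ≤ a) : ∀ (t : ℕ) (T : Finset ι), (∀ i ∈ T, τ i ∈ T) → T.card = a * t →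
    ∃ (blk : ι → ℕ) (s : ℕ → ℕ), (∀ i ∈ T, blk i < t) ∧
      (∀ j < t, (T.filter (fun i => blk i = j)).card = a) ∧ ∀ i ∈ T, blk (τ i) = s (blk i) := by
  intro t
  induction t using Nat.strong_induction_on with
  | _ t ih =>
    intro T hT hc
    rcases Nat.eq_zero_or_pos t with rfl | htpos
    · rw [Nat.mul_zero, Finset.card_eq_zero] at hc
      subst hc
      exact ⟨fun _ => 0, id, by simp, by simp, by simp⟩
    have hmf : (T.filter (fun i => τ i = i)).card + (T.filter (fun i => ¬ τ i = i)).card = a * t := by
      rw [← hc]; exact Finset.card_filter_add_card_filter_not _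
    obtain ⟨k, hk⟩ := inv_even_moved τ hτ T hT
    have hk : (T.filter (fun i => ¬ τ i = i)).card = k + k := hk
    have hat : a ≤ a * t := Nat.le_mul_of_pos_right a htpos
    by_cases hcase : a % 2 = 1 ∧ (T.filter (fun i => τ i = i)).card = 0
    · -- no fixed points, `a` odd: a pair of swapped blocks
      obtain ⟨hodd, hf0⟩ := hcase
      have ht2 : 2 ≤ t := by
        by_contra hlt
        have : t = 1 := by omega
        subst this
        rw [Nat.mul_one] at hmf
        omega
      have h2a : a * 2 ≤ a * t := Nat.mul_le_mul_left a ht2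
      obtain ⟨S₁, hS₁, hS₁c, hS₁τ⟩ := inv_exists_pairs τ hτ T a (by
        change 2 * a ≤ (T.filter (fun i => ¬ τ i = i)).card
        omega)
      have hdisj : Disjoint S₁ (S₁.image τ) := by
        rw [Finset.disjoint_left]
        intro i hi hi'
        obtain ⟨j, hj, rfl⟩ := Finset.mem_image.1 hi'
        exact hS₁τ j hj hi
      have hsubT : S₁ ∪ S₁.image τ ⊆ T := by
        intro i hi
        rcases Finset.mem_union.1 hi with h | h
        · exact (Finset.mem_filter.1 (hS₁ h)).1
        · obtain ⟨j, hj, rfl⟩ := Finset.mem_image.1 h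
          exact hT j (Finset.mem_filter.1 (hS₁ hj)).1
      have hinv : ∀ i ∈ S₁ ∪ S₁.image τ, τ i ∈ S₁ ∪ S₁.image τ := by
        intro i hi
        rcases Finset.mem_union.1 hi with h | h
        · exact Finset.mem_union_right _ (Finset.mem_image.2 ⟨i, h, rfl⟩)
        · obtain ⟨j, hj, rfl⟩ := Finset.mem_image.1 h
          rw [hτ j]; exact Finset.mem_union_left _ hj
      have hcardS : (S₁ ∪ S₁.image τ).card = a * 2 := by
        rw [Finset.card_union_of_disjoint hdisj, Finset.card_image_of_injective _ hτ.injective, hS₁c]; ring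
      have hcard' : (T \ (S₁ ∪ S₁.image τ)).card = a * (t - 2) := by
        rw [Finset.card_sdiff_of_subset hsubT, hcardS, hc, Nat.mul_sub]
      obtain ⟨blk', s', h1', h2', h3'⟩ := ih (t - 2) (by omega) (T \ (S₁ ∪ S₁.image τ))
        (inv_sdiff τ hτ T _ hT hinv) hcard'
      refine inv_combine τ a T (S₁ ∪ S₁.image τ) hsubT hinv (inv_sdiff τ hτ T _ hT hinv) t (t - 2) (by omega)
        (fun i => if i ∈ S₁ then t - 1 else t - 2) (fun j => if j = t - 1 then t - 2 else t - 1)
        ?_ ?_ ?_ blk' s' h1' h2' h3'
      · intro i _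
        split_ifs <;> omega
      · intro j hj1 hj2
        have hj : j = t - 1 ∨ j = t - 2 := by omega
        rcases hj with rfl | rfl
        · rw [← hS₁c]
          congr 1
          ext i
          simp only [Finset.mem_filter, Finset.mem_union]
          constructor
          · rintro ⟨_, h⟩
            by_contra hi
            simp only [hi, if_false] at h
            omega
          · intro hi
            exact ⟨Or.inl hi, by simp only [hi, if_true]⟩
        · rw [← hS₁c, ← Finset.card_image_of_injective S₁ hτ.injective]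
          congr 1
          ext i
          simp only [Finset.mem_filter, Finset.mem_union]
          constructor
          · rintro ⟨hi, h⟩
            rcases hi with hi | hi
            · simp only [hi, if_true] at h
              omega
            · exact hi
          · intro hi
            refine ⟨Or.inr hi, ?_⟩
            have : i ∉ S₁ := fun h => (Finset.disjoint_left.1 hdisj) h hi
            simp only [this, if_false]
      · intro i hi
        rcases Finset.mem_union.1 hi with h | h
        · have h' : τ i ∉ S₁ := hS₁τ i h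
          simp only [h, h', if_true, if_false]
        · have h' : i ∉ S₁ := fun h'' => (Finset.disjoint_left.1 hdisj) h'' h
          obtain ⟨j, hj, rfl⟩ := Finset.mem_image.1 h
          have h'' : τ (τ j) ∈ S₁ := by rw [hτ j]; exact hj
          have hne : t - 2 ≠ t - 1 := by omega
          simp only [h', h'', if_true, if_false, hne]
    · -- an invariant block of size `a`
      obtain ⟨u, w, hu, hw, huw⟩ : ∃ u w, 2 * u ≤ (T.filter (fun i => ¬ τ i = i)).card ∧
          w ≤ (T.filter (fun i => τ i = i)).card ∧ 2 * u + w = a := by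
        refine ⟨min k (a / 2), a - 2 * min k (a / 2), ?_, ?_, ?_⟩
        · have := min_le_left k (a / 2); omega
        · rcases le_total k (a / 2) with h | h
          · rw [min_eq_left h]; omega
          · rw [min_eq_right h]
            rw [not_and_or] at hcase
            omega
        · have := min_le_right k (a / 2); omega
      obtain ⟨S, hST, hSinv, hSc⟩ := inv_exists_invariant τ hτ T hT u w hu hw
      rw [huw] at hSc
      have hcard' : (T \ S).card = a * (t - 1) := by
        rw [Finset.card_sdiff_of_subset hST, hSc, hc, Nat.mul_sub, Nat.mul_one]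
      obtain ⟨blk', s', h1', h2', h3'⟩ := ih (t - 1) (by omega) (T \ S)
        (inv_sdiff τ hτ T _ hT hSinv) hcard'
      refine inv_combine τ a T S hST hSinv (inv_sdiff τ hτ T _ hT hSinv) t (t - 1) (by omega)
        (fun _ => t - 1) id ?_ ?_ ?_ blk' s' h1' h2' h3'
      · intro i _; omega
      · intro j hj1 hj2
        have hj : t - 1 = j := by omega
        rw [Finset.filter_true_of_mem (fun _ _ => hj), hSc]
      · intro i _; rfl

end

end Cfsg.Agent.H9
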