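import Mathlib
import Cfsg.Prelude.Def_CaseTheorems

set_option autoImplicit false

namespace Cfsg.Agent.H2.Iso2

universe u
variable {G : Type u} [Group G] [Finite G] {p : ℕ} [Fact p.Prime]

theorem zpowers_inf_zpowers_eq_bot_q3 (x u : G) (hx : orderOf x = p)
    (hne : x ∉ Subgroup.zpowers u) : Subgroup.zpowers x ⊓ Subgroup.zpowers u = ⊥ := by
  have hp : p.Prime := Fact.out
  have hcard : Nat.card (Subgroup.zpowers x) = p := by rw [Nat.card_zpowers, hx]
  have hle : Subgroup.zpowers x ⊓ Subgroup.zpowers u ≤ Subgroup.zpowers x := inf_le_left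
  have hdvd : Nat.card ↥(Subgroup.zpowers x ⊓ Subgroup.zpowers u) ∣ p := by
    rw [← hcard]; exact Subgroup.card_dvd_of_le hle
  rcases (Nat.dvd_prime hp).1 hdvd with h1 | h1
  · exact Subgroup.card_eq_one.1 h1
  · exfalso
    have heq : Subgroup.zpowers x ⊓ Subgroup.zpowers u = Subgroup.zpowers x :=
      Subgroup.eq_of_le_of_card_ge hle (by rw [h1, hcard])
    have : x ∈ Subgroup.zpowers x ⊓ Subgroup.zpowers u := by
      rw [heq]; exact Subgroup.mem_zpowers x
    exact hne this.2

/-- (Q3) rank lemma (Mathlib only). -/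
theorem rank_lemma (hrank : Cfsg.PRankLE p 2 G) (x u y : G) (hx : orderOf x = p)
    (hu : orderOf u = p) (hxu : x * u = u * x) (hxy : x * y = y * x) (huy : u * y = y * u)
    (hy : y ^ p = 1) (hne : x ∉ Subgroup.zpowers u) : ∃ i j : ℕ, y = x ^ i * u ^ j := by
  classical
  have hp : p.Prime := Fact.out
  have hxp : x ^ p = 1 := by rw [← hx]; exact pow_orderOf_eq_one x
  have hup : u ^ p = 1 := by rw [← hu]; exact pow_orderOf_eq_one u
  let S : Set G := {x, u, y}
  let A : Subgroup G := Subgroup.closure S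
  have hSc : ∀ s ∈ S, ∀ t ∈ S, s * t = t * s := by
    intro s hs t ht
    simp only [S, Set.mem_insert_iff, Set.mem_singleton_iff] at hs ht
    rcases hs with rfl | rfl | rfl <;> rcases ht with rfl | rfl | rfl <;>
      first | rfl | assumption | (symm; assumption)
  have h1 : ∀ s ∈ S, ∀ a ∈ A, a * s = s * a := by
    intro s hs a ha
    have : A ≤ Subgroup.centralizer ({s} : Set G) := by
      apply (Subgroup.closure_le _).2
      intro t ht
      rw [SetLike.mem_coe, Subgroup.mem_centralizer_iff]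
      intro z hz
      rw [Set.mem_singleton_iff] at hz
      rw [hz]; exact hSc s hs t ht
    have h2 := Subgroup.mem_centralizer_iff.1 (this ha) s (Set.mem_singleton s)
    exact h2.symm
  have hcomm : ∀ a ∈ A, ∀ b ∈ A, a * b = b * a := by
    intro a ha b hb
    have : A ≤ Subgroup.centralizer ({a} : Set G) := by
      apply (Subgroup.closure_le _).2
      intro t ht
      rw [SetLike.mem_coe, Subgroup.mem_centralizer_iff]
      intro z hz
      rw [Set.mem_singleton_iff] at hz
      rw [hz]; exact h1 t ht a ha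
    have h2 := Subgroup.mem_centralizer_iff.1 (this hb) a (Set.mem_singleton a)
    exact h2
  have hAc : IsMulCommutative A := ⟨⟨fun a b => Subtype.ext (hcomm a a.2 b b.2)⟩⟩
  have hexp : ∀ a ∈ A, a ^ p = 1 := by
    intro a ha
    induction ha using Subgroup.closure_induction with
    | mem s hs =>
      simp only [S, Set.mem_insert_iff, Set.mem_singleton_iff] at hs
      rcases hs with rfl | rfl | rfl <;> assumption
    | one => exact one_pow p
    | mul a b ha hb iha ihb =>
      have hc : Commute a b := hcomm a ha b hb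
      rw [hc.mul_pow, iha, ihb, one_mul]
    | inv a ha iha => rw [inv_pow, iha, inv_one]
  have hcard : Nat.card A ≤ p ^ 2 := hrank A hAc hexp
  have hxA : x ∈ A := Subgroup.subset_closure (by simp [S])
  have huA : u ∈ A := Subgroup.subset_closure (by simp [S])
  have hyA : y ∈ A := Subgroup.subset_closure (by simp [S])
  let f : Fin p × Fin p → A := fun ij =>
    ⟨x ^ (ij.1 : ℕ) * u ^ (ij.2 : ℕ), A.mul_mem (A.pow_mem hxA _) (A.pow_mem huA _)⟩
  have hbot := zpowers_inf_zpowers_eq_bot_q3 x u hx hne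
  have hinj : Function.Injective f := by
    rintro ⟨i, j⟩ ⟨i', j'⟩ h
    have h' : x ^ (i : ℕ) * u ^ (j : ℕ) = x ^ (i' : ℕ) * u ^ (j' : ℕ) := congrArg Subtype.val h
    have hcu : ∀ a b : ℕ, x ^ a * u ^ b = u ^ b * x ^ a := fun a b =>
      ((Commute.pow_pow (show Commute x u from hxu) a b)).eq
    have hz : (x ^ (i' : ℕ))⁻¹ * x ^ (i : ℕ) = u ^ (j' : ℕ) * (u ^ (j : ℕ))⁻¹ := by
      have : x ^ (i : ℕ) = x ^ (i' : ℕ) * u ^ (j' : ℕ) * (u ^ (j : ℕ))⁻¹ := by
        rw [← h']; group
      rw [this]; group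
    have hmem : (x ^ (i' : ℕ))⁻¹ * x ^ (i : ℕ) ∈ Subgroup.zpowers x ⊓ Subgroup.zpowers u := by
      constructor
      · exact (Subgroup.zpowers x).mul_mem ((Subgroup.zpowers x).inv_mem
          ((Subgroup.zpowers x).pow_mem (Subgroup.mem_zpowers x) _))
          ((Subgroup.zpowers x).pow_mem (Subgroup.mem_zpowers x) _)
      · rw [hz]
        exact (Subgroup.zpowers u).mul_mem
          ((Subgroup.zpowers u).pow_mem (Subgroup.mem_zpowers u) _)
          ((Subgroup.zpowers u).inv_mem ((Subgroup.zpowers u).pow_mem (Subgroup.mem_zpowers u) _))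
    rw [hbot, Subgroup.mem_bot] at hmem
    have hxe : x ^ (i : ℕ) = x ^ (i' : ℕ) := by
      have := inv_mul_eq_one.1 hmem
      exact this.symm
    have hue : u ^ (j : ℕ) = u ^ (j' : ℕ) := by
      rw [hxe] at h'
      exact mul_left_cancel h'
    have hi : (i : ℕ) = (i' : ℕ) := by
      have := (pow_inj_mod).1 hxe
      rw [hx, Nat.mod_eq_of_lt i.2, Nat.mod_eq_of_lt i'.2] at this
      exact this
    have hj : (j : ℕ) = (j' : ℕ) := by
      have := (pow_inj_mod).1 hue
      rw [hu, Nat.mod_eq_of_lt j.2, Nat.mod_eq_of_lt j'.2] at this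
      exact this
    exact Prod.ext (Fin.ext hi) (Fin.ext hj)
  have hcardle : Nat.card A ≤ Nat.card (Fin p × Fin p) := by
    rw [Nat.card_prod, Nat.card_fin]
    calc Nat.card A ≤ p ^ 2 := hcard
      _ = p * p := sq p
  have hbij := hinj.bijective_of_nat_card_le hcardle
  obtain ⟨⟨i, j⟩, hij⟩ := hbij.2 ⟨y, hyA⟩
  exact ⟨i, j, (congrArg Subtype.val hij).symm⟩

end Cfsg.Agent.H2.Iso2
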