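import Cfsg.Agent.H9.StemSylow

set_option autoImplicit false

/-!
Stem extensions, continued: the preimage of an elementary abelian group of order `8` whose three
generators are permuted by an element of order `7` (`a₀ ↦ a₁ ↦ a₂ ↦ a₀ a₁`) is abelian.
-/

namespace Cfsg.Agent.H9.StemSylowE8

open Subgroup Cfsg.Agent.H9.StemSylow
open scoped commutatorElement

variable {Γ G : Type*} [Group Γ] [Group G] (σ : Γ →* G)

theorem commutator_mul_central_right (x y z : Γ) (hz : ∀ w : Γ, w * z = z * w) :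
    ⁅x, y * z⁆ = ⁅x, y⁆ := by
  simp only [commutatorElement_def, mul_inv_rev]
  calc x * (y * z) * x⁻¹ * (z⁻¹ * y⁻¹) = x * y * (z * x⁻¹) * z⁻¹ * y⁻¹ := by group
    _ = x * y * (x⁻¹ * z) * z⁻¹ * y⁻¹ := by rw [hz x⁻¹]
    _ = x * y * x⁻¹ * y⁻¹ := by group

/-- **`E₈` with an element of order `7`.** -/
theorem commutator_e8 (hcen : σ.ker ≤ center Γ) (a g : Γ)
    (h01 : σ a * σ (g * a * g⁻¹) = σ (g * a * g⁻¹) * σ a)
    (h02 : σ a * σ (g * (g * a * g⁻¹) * g⁻¹) = σ (g * (g * a * g⁻¹) * g⁻¹) * σ a)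
    (h3 : σ (g * (g * (g * a * g⁻¹) * g⁻¹) * g⁻¹) = σ a * σ (g * a * g⁻¹)) :
    ⁅closure (({a, g * a * g⁻¹, g * (g * a * g⁻¹) * g⁻¹} : Set Γ) ∪ (σ.ker : Set Γ)),
      closure (({a, g * a * g⁻¹, g * (g * a * g⁻¹) * g⁻¹} : Set Γ) ∪ (σ.ker : Set Γ))⁆ = ⊥ := by
  obtain ⟨a1, ha1⟩ : ∃ a1, a1 = g * a * g⁻¹ := ⟨_, rfl⟩
  rw [← ha1] at h01 h02 h3 ⊢
  obtain ⟨a2, ha2⟩ : ∃ a2, a2 = g * a1 * g⁻¹ := ⟨_, rfl⟩
  rw [← ha2] at h02 h3 ⊢
  obtain ⟨c01, hc01⟩ : ∃ c, c = ⁅a, a1⁆ := ⟨_, rfl⟩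
  obtain ⟨c02, hc02⟩ : ∃ c, c = ⁅a, a2⁆ := ⟨_, rfl⟩
  obtain ⟨c12, hc12⟩ : ∃ c, c = ⁅a1, a2⁆ := ⟨_, rfl⟩
  have hk01 : c01 ∈ σ.ker := by
    rw [MonoidHom.mem_ker, hc01, commutatorElement_def, map_mul, map_mul, map_mul, map_inv, map_inv,
      h01]
    group
  have hk02 : c02 ∈ σ.ker := by
    rw [MonoidHom.mem_ker, hc02, commutatorElement_def, map_mul, map_mul, map_mul, map_inv, map_inv,
      h02]
    group
  have hcc01 : ∀ x : Γ, x * c01 = c01 * x := comm_of_mem_ker σ hcen hk01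
  have hcc02 : ∀ x : Γ, x * c02 = c02 * x := comm_of_mem_ker σ hcen hk02
  -- `c12 = c01`
  have e1 : c12 = c01 := by
    have h : g * c01 * g⁻¹ = c12 := by
      rw [hc01, hc12, ha2, ha1]
      simp only [commutatorElement_def]
      group
    rw [← h, hcc01 g]
    group
  have hcc12 : ∀ x : Γ, x * c12 = c12 * x := by rw [e1]; exact hcc01
  -- the element `z`
  obtain ⟨z, hz⟩ : ∃ z, z = (a * a1)⁻¹ * (g * a2 * g⁻¹) := ⟨_, rfl⟩
  have hzk : z ∈ σ.ker := by
    rw [MonoidHom.mem_ker, hz, map_mul, map_inv, h3, map_mul, inv_mul_cancel]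
  have hzc : ∀ x : Γ, x * z = z * x := comm_of_mem_ker σ hcen hzk
  have hga2 : g * a2 * g⁻¹ = a * a1 * z := by rw [hz]; group
  -- `c02 = c01⁻¹`
  have e2 : c02 = c01⁻¹ := by
    have h : g * c02 * g⁻¹ = ⁅a1, g * a2 * g⁻¹⁆ := by
      rw [hc02, ha1]
      simp only [commutatorElement_def]
      group
    rw [hga2, commutator_mul_central_right _ _ _ hzc] at h
    have h' : ⁅a1, a * a1⁆ = ⁅a1, a⁆ := by
      simp only [commutatorElement_def]
      group
    rw [h', ← commutatorElement_inv, ← hc01, hcc02 g] at h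
    rw [← h]
    group
  -- `c12 = c02⁻¹ * c12⁻¹`
  have e3 : c12 = c02⁻¹ * c12⁻¹ := by
    have h : g * c12 * g⁻¹ = ⁅a2, g * a2 * g⁻¹⁆ := by
      rw [hc12, ha2]
      simp only [commutatorElement_def]
      group
    rw [hga2, commutator_mul_central_right _ _ _ hzc] at h
    have h' : ⁅a2, a * a1⁆ = ⁅a2, a⁆ * (a * ⁅a2, a1⁆ * a⁻¹) := by
      simp only [commutatorElement_def]
      group
    rw [h', ← commutatorElement_inv a a2, ← commutatorElement_inv a1 a2, ← hc02, ← hc12] at h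
    have h2 : a * c12⁻¹ * a⁻¹ = c12⁻¹ := by
      have := hcc12 a
      calc a * c12⁻¹ * a⁻¹ = c12⁻¹ * (c12 * a) * c12⁻¹ * a⁻¹ := by group
        _ = c12⁻¹ * (a * c12) * c12⁻¹ * a⁻¹ := by rw [this]
        _ = c12⁻¹ := by group
    rw [h2, hcc12 g] at h
    rw [← h]
    group
  have hc01_1 : c01 = 1 := by
    rw [e1, e2, inv_inv, mul_inv_cancel] at e3
    exact e3
  have hc02_1 : c02 = 1 := by rw [e2, hc01_1, inv_one]
  have hc12_1 : c12 = 1 := by rw [e1, hc01_1]
  have k01 : ⁅a, a1⁆ = 1 := by rw [← hc01, hc01_1]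
  have k02 : ⁅a, a2⁆ = 1 := by rw [← hc02, hc02_1]
  have k12 : ⁅a1, a2⁆ = 1 := by rw [← hc12, hc12_1]
  have k10 : ⁅a1, a⁆ = 1 := by rw [← commutatorElement_inv, k01, inv_one]
  have k20 : ⁅a2, a⁆ = 1 := by rw [← commutatorElement_inv, k02, inv_one]
  have k21 : ⁅a2, a1⁆ = 1 := by rw [← commutatorElement_inv, k12, inv_one]
  rw [eq_bot_iff]
  apply commutator_closure_le
  · intro s _ k hk
    rw [mem_bot] at hk
    subst hk
    simp
  · rintro s (hs | hs) t (ht | ht)
    · rw [Set.mem_insert_iff, Set.mem_insert_iff, Set.mem_singleton_iff] at hs ht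
      rcases hs with rfl | rfl | rfl <;> rcases ht with rfl | rfl | rfl
      · rw [commutatorElement_self]; exact one_mem _
      · rw [k01]; exact one_mem _
      · rw [k02]; exact one_mem _
      · rw [k10]; exact one_mem _
      · rw [commutatorElement_self]; exact one_mem _
      · rw [k12]; exact one_mem _
      · rw [k20]; exact one_mem _
      · rw [k21]; exact one_mem _
      · rw [commutatorElement_self]; exact one_mem _
    · rw [commutator_ker_right σ hcen ht]
      exact one_mem _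
    · rw [commutator_ker_left σ hcen hs]
      exact one_mem _
    · rw [commutator_ker_left σ hcen hs]
      exact one_mem _

/-- `E₈` with an element of order `7`: the index kills the kernel -/
theorem ker_pow_eq_one_of_e8 [Finite Γ] (hsurj : Function.Surjective σ) (hcen : σ.ker ≤ center Γ)
    (hder : σ.ker ≤ commutator Γ) (x g : G)
    (h01 : x * (g * x * g⁻¹) = (g * x * g⁻¹) * x)
    (h02 : x * (g * (g * x * g⁻¹) * g⁻¹) = (g * (g * x * g⁻¹) * g⁻¹) * x)
    (h3 : g * (g * (g * x * g⁻¹) * g⁻¹) * g⁻¹ = x * (g * x * g⁻¹)) (z : Γ) (hz : z ∈ σ.ker) :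
    z ^ (closure ({x, g * x * g⁻¹, g * (g * x * g⁻¹) * g⁻¹} : Set G)).index = 1 := by
  obtain ⟨a, rfl⟩ := hsurj x
  obtain ⟨c, rfl⟩ := hsurj g
  have h := pow_index_mem_commutator_comap σ hsurj hcen hder
    (closure ({σ a, σ c * σ a * (σ c)⁻¹, σ c * (σ c * σ a * (σ c)⁻¹) * (σ c)⁻¹} : Set G)) z hz
  have e : (closure ({σ a, σ c * σ a * (σ c)⁻¹, σ c * (σ c * σ a * (σ c)⁻¹) * (σ c)⁻¹} :
      Set G)).comap σ =
      closure (({a, c * a * c⁻¹, c * (c * a * c⁻¹) * c⁻¹} : Set Γ) ∪ (σ.ker : Set Γ)) := by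
    rw [← comap_closure_image, Set.image_insert_eq, Set.image_pair]
    simp only [map_mul, map_inv]
  rw [e, commutator_e8 σ hcen a c (by simpa only [map_mul, map_inv] using h01)
    (by simpa only [map_mul, map_inv] using h02)
    (by simpa only [map_mul, map_inv] using h3), mem_bot] at h
  exact h

/-- The index of an elementary abelian subgroup of order `8` in a group of order `8 r`, `r` odd. -/
theorem index_closure_e8 [Finite G] (x0 x1 x2 : G) (r : ℕ)
    (c01 : x0 * x1 = x1 * x0) (c02 : x0 * x2 = x2 * x0) (c12 : x1 * x2 = x2 * x1)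
    (s0 : x0 ^ 2 = 1) (s1 : x1 ^ 2 = 1) (s2 : x2 ^ 2 = 1)
    (hd : ([1, x0, x1, x2, x0 * x1] : List G).Nodup)
    (hcard : Nat.card G = 2 ^ 3 * r) (hr : ¬ 2 ∣ r) :
    (closure ({x0, x1, x2} : Set G)).index = r := by
  classical
  have hcomm : ∀ x ∈ ({x0, x1, x2} : Set G), ∀ y ∈ ({x0, x1, x2} : Set G), x * y = y * x := by
    intro x hx y hy
    rw [Set.mem_insert_iff, Set.mem_insert_iff, Set.mem_singleton_iff] at hx hy
    rcases hx with rfl | rfl | rfl <;> rcases hy with rfl | rfl | rfl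
    · rfl
    · exact c01
    · exact c02
    · exact c01.symm
    · rfl
    · exact c12
    · exact c02.symm
    · exact c12.symm
    · rfl
  have hab : ∀ q ∈ closure ({x0, x1, x2} : Set G), ∀ q' ∈ closure ({x0, x1, x2} : Set G),
      q * q' = q' * q := by
    intro q hq q' hq'
    have := (isMulCommutative_closure hcomm).is_comm.comm ⟨q, hq⟩ ⟨q', hq'⟩
    exact congrArg Subtype.val this
  have hsq : ∀ q ∈ closure ({x0, x1, x2} : Set G), q ^ 2 = 1 := by
    intro q hq
    induction hq using closure_induction with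
    | mem s hs =>
      rw [Set.mem_insert_iff, Set.mem_insert_iff, Set.mem_singleton_iff] at hs
      rcases hs with rfl | rfl | rfl
      · exact s0
      · exact s1
      · exact s2
    | one => exact one_pow 2
    | mul q q' hq hq' ih ih' =>
      have : Commute q q' := hab q hq q' hq'
      rw [this.mul_pow, ih, ih', one_mul]
    | inv q _ ih => rw [inv_pow, ih, inv_one]
  have hP : IsPGroup 2 (closure ({x0, x1, x2} : Set G)) := by
    intro q
    refine ⟨1, ?_⟩
    apply Subtype.ext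
    rw [pow_one, SubgroupClass.coe_pow, hsq q.1 q.2]
    rfl
  have : Fact (Nat.Prime 2) := ⟨Nat.prime_two⟩
  obtain ⟨j, hj⟩ := IsPGroup.iff_card.1 hP
  -- at least five elements
  have hx0 : x0 ∈ closure ({x0, x1, x2} : Set G) := subset_closure (by simp)
  have hx1 : x1 ∈ closure ({x0, x1, x2} : Set G) := subset_closure (by simp)
  have hx2 : x2 ∈ closure ({x0, x1, x2} : Set G) := subset_closure (by simp)
  have h5 : 5 ≤ Nat.card (closure ({x0, x1, x2} : Set G)) := by
    have hsub : (([1, x0, x1, x2, x0 * x1] : List G).toFinset : Set G) ⊆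
        (closure ({x0, x1, x2} : Set G) : Set G) := by
      intro y hy
      rw [Finset.mem_coe, List.mem_toFinset] at hy
      simp only [List.mem_cons, List.not_mem_nil, or_false] at hy
      rcases hy with rfl | rfl | rfl | rfl | rfl
      · exact one_mem _
      · exact hx0
      · exact hx1
      · exact hx2
      · exact mul_mem hx0 hx1
    have h1 := Set.ncard_le_ncard hsub (Set.toFinite _)
    rw [Set.ncard_coe_finset, List.toFinset_card_of_nodup hd] at h1
    have h2 : Nat.card (closure ({x0, x1, x2} : Set G)) =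
        ((closure ({x0, x1, x2} : Set G) : Set G)).ncard := Nat.card_coe_set_eq _
    rw [h2]
    exact h1
  have h2 : 2 ^ j ∣ 2 ^ 3 * r := by
    rw [← hj, ← hcard]
    exact card_subgroup_dvd_card _
  have h3 : 2 ^ j ∣ 2 ^ 3 :=
    (Nat.Coprime.pow_left j ((Nat.Prime.coprime_iff_not_dvd Nat.prime_two).2 hr)).dvd_of_dvd_mul_right
      h2
  have hj3 : j ≤ 3 := (Nat.pow_dvd_pow_iff_le_right (by norm_num)).1 h3
  have hjeq : j = 3 := by
    rw [hj] at h5
    interval_cases j <;> simp_all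
  have h4 := card_mul_index (closure ({x0, x1, x2} : Set G))
  rw [hj, hcard, hjeq] at h4
  exact Nat.eq_of_mul_eq_mul_left (by norm_num) h4

end Cfsg.Agent.H9.StemSylowE8
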