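import Cfsg.Agent.Lib.Helper6.J1Group
import Cfsg.Agent.H9.StemSylowE8

set_option autoImplicit false
set_option maxRecDepth 1000000

/-!
The Schur multiplier of `J₁` is trivial: every finite stem extension of `J₁` is an isomorphism.
Sylow subgroups: `E₈` (with an element of order `7` acting), and cyclic ones for `3, 5, 7, 11, 19`.
-/

namespace Cfsg.Agent.H9.J1Mult

open Cfsg.Agent.Lib.Helper6.MatN Cfsg.Agent.Lib.Helper6.J1 Cfsg.Spor

/-- words -/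
def wa : List ℕ := [0, 1, 0, 3]
def wa1 : List ℕ := [0, 0, 1, 0, 3, 2]
def wa2 : List ℕ := [0, 0, 0, 1, 0, 3, 2, 2]
def wa3 : List ℕ := [0, 0, 0, 0, 1, 0, 3, 2, 2, 2]
def w3 : List ℕ := [3, 3, 0, 3, 3, 0]
def w11 : List ℕ := [1, 1, 0]
def w19 : List ℕ := [3, 0]

/-- codes -/
def ca : ℕ := evalW codes4 wa
def ca1 : ℕ := evalW codes4 wa1
def ca2 : ℕ := evalW codes4 wa2
def c3 : ℕ := evalW codes4 w3
def c11 : ℕ := evalW codes4 w11
def c19 : ℕ := evalW codes4 w19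

theorem chk_comm : lmul ca ca1 = lmul ca1 ca ∧ lmul ca ca2 = lmul ca2 ca ∧
    lmul ca1 ca2 = lmul ca2 ca1 := by decide +kernel

theorem chk_rel : evalW codes4 wa3 = lmul ca ca1 := by decide +kernel

theorem chk_sq : lmul ca ca = lone ∧ lmul ca1 ca1 = lone ∧ lmul ca2 ca2 = lone := by
  decide +kernel

theorem chk_nodup : ([lone, ca, ca1, ca2, lmul ca ca1] : List ℕ).Nodup := by decide +kernel

theorem chk_pow : powC c3 3 = lone ∧ powC cY 5 = lone ∧ powC cX 7 = lone ∧ powC c11 11 = lone ∧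
    powC c19 19 = lone := by decide +kernel

theorem chk_ne : c3 ≠ lone ∧ cY ≠ lone ∧ cX ≠ lone ∧ c11 ≠ lone ∧ c19 ≠ lone := by decide +kernel

abbrev GLt := GL (Fin 7) (ZMod 11)
abbrev Mt := Matrix (Fin 7) (Fin 7) (ZMod 11)

theorem val_one : ((1 : GLt) : Mt) = toM lone := by rw [toM_lone]; rfl

theorem eq_of_code {x y : GLt} {c : ℕ} (hx : (x : Mt) = toM c) (hy : (y : Mt) = toM c) : x = y :=
  Units.ext (hx.trans hy.symm)

theorem val_mul' {x y : GLt} {c d : ℕ} (hx : (x : Mt) = toM c) (hy : (y : Mt) = toM d) :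
    ((x * y : GLt) : Mt) = toM (lmul c d) := by
  rw [Units.val_mul, hx, hy, toM_lmul]

/-- the elements, in `GL₇(11)` -/
def aΓ : GLt := evalGL gen wa
def a1Γ : GLt := evalGL gen wa1
def a2Γ : GLt := evalGL gen wa2
def a3Γ : GLt := evalGL gen wa3
def t3Γ : GLt := evalGL gen w3
def t11Γ : GLt := evalGL gen w11
def t19Γ : GLt := evalGL gen w19

theorem val_aΓ : (aΓ : Mt) = toM ca := val_evalGL hgen _
theorem val_a1Γ : (a1Γ : Mt) = toM ca1 := val_evalGL hgen _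
theorem val_a2Γ : (a2Γ : Mt) = toM ca2 := val_evalGL hgen _
theorem val_a3Γ : (a3Γ : Mt) = toM (lmul ca ca1) := by
  rw [a3Γ, val_evalGL hgen, chk_rel]
theorem val_t3Γ : (t3Γ : Mt) = toM c3 := val_evalGL hgen _
theorem val_t11Γ : (t11Γ : Mt) = toM c11 := val_evalGL hgen _
theorem val_t19Γ : (t19Γ : Mt) = toM c19 := val_evalGL hgen _

theorem a1Γ_eq : a1Γ = jankoX * aΓ * jankoX⁻¹ := by
  show evalGL gen wa1 = gen 0 * evalGL gen wa * (gen 0)⁻¹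
  simp only [evalGL, wa, wa1, List.map_cons, List.map_nil, List.prod_cons, List.prod_nil]
  show gen 0 * (gen 0 * (gen 1 * (gen 0 * (gen 3 * ((gen 0)⁻¹ * 1))))) = _
  group

theorem a2Γ_eq : a2Γ = jankoX * a1Γ * jankoX⁻¹ := by
  show evalGL gen wa2 = gen 0 * evalGL gen wa1 * (gen 0)⁻¹
  simp only [evalGL, wa2, wa1, List.map_cons, List.map_nil, List.prod_cons, List.prod_nil]
  show gen 0 * (gen 0 * (gen 0 * (gen 1 * (gen 0 * (gen 3 * ((gen 0)⁻¹ * ((gen 0)⁻¹ * 1))))))) =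
    gen 0 * (gen 0 * (gen 0 * (gen 1 * (gen 0 * (gen 3 * ((gen 0)⁻¹ * 1)))))) * (gen 0)⁻¹
  group

theorem a3Γ_eq : a3Γ = jankoX * a2Γ * jankoX⁻¹ := by
  show evalGL gen wa3 = gen 0 * evalGL gen wa2 * (gen 0)⁻¹
  simp only [evalGL, wa2, wa3, List.map_cons, List.map_nil, List.prod_cons, List.prod_nil]
  show gen 0 * (gen 0 * (gen 0 * (gen 0 * (gen 1 * (gen 0 * (gen 3 * ((gen 0)⁻¹ * ((gen 0)⁻¹ *
    ((gen 0)⁻¹ * 1))))))))) =
    gen 0 * (gen 0 * (gen 0 * (gen 0 * (gen 1 * (gen 0 * (gen 3 * ((gen 0)⁻¹ * ((gen 0)⁻¹ * 1)))))))) *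
      (gen 0)⁻¹
  group

theorem comm01 : aΓ * a1Γ = a1Γ * aΓ :=
  eq_of_code (val_mul' val_aΓ val_a1Γ) (by rw [chk_comm.1]; exact val_mul' val_a1Γ val_aΓ)
theorem comm02 : aΓ * a2Γ = a2Γ * aΓ :=
  eq_of_code (val_mul' val_aΓ val_a2Γ) (by rw [chk_comm.2.1]; exact val_mul' val_a2Γ val_aΓ)
theorem comm12 : a1Γ * a2Γ = a2Γ * a1Γ :=
  eq_of_code (val_mul' val_a1Γ val_a2Γ) (by rw [chk_comm.2.2]; exact val_mul' val_a2Γ val_a1Γ)
theorem rel3 : a3Γ = aΓ * a1Γ := eq_of_code val_a3Γ (val_mul' val_aΓ val_a1Γ)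
theorem sq0 : aΓ * aΓ = 1 :=
  eq_of_code (val_mul' val_aΓ val_aΓ) (by rw [chk_sq.1]; exact val_one)
theorem sq1 : a1Γ * a1Γ = 1 :=
  eq_of_code (val_mul' val_a1Γ val_a1Γ) (by rw [chk_sq.2.1]; exact val_one)
theorem sq2 : a2Γ * a2Γ = 1 :=
  eq_of_code (val_mul' val_a2Γ val_a2Γ) (by rw [chk_sq.2.2]; exact val_one)

theorem nodupΓ : ([1, aΓ, a1Γ, a2Γ, aΓ * a1Γ] : List GLt).Nodup := by
  apply List.Nodup.of_map (fun q : GLt => (q : Mt))
  have e : ([1, aΓ, a1Γ, a2Γ, aΓ * a1Γ] : List GLt).map (fun q : GLt => (q : Mt)) =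
      ([lone, ca, ca1, ca2, lmul ca ca1] : List ℕ).map toM := by
    simp only [List.map_cons, List.map_nil]
    rw [val_one, val_aΓ, val_a1Γ, val_a2Γ, val_mul' val_aΓ val_a1Γ]
  rw [e]
  apply List.Nodup.map_on _ chk_nodup
  have hc : ∀ x ∈ ([lone, ca, ca1, ca2, lmul ca ca1] : List ℕ), Canon x := by
    intro x hx
    simp only [List.mem_cons, List.not_mem_nil, or_false] at hx
    rcases hx with rfl | rfl | rfl | rfl | rfl
    · exact canon_lone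
    · exact canon_evalW _ _
    · exact canon_evalW _ _
    · exact canon_evalW _ _
    · exact canon_lmul _ _
  intro x hx y hy h
  exact toM_inj (hc x hx) (hc y hy) h

theorem order_of_code (p : ℕ) [hp : Fact p.Prime] {x : GLt} {c : ℕ} (hx : (x : Mt) = toM c)
    (hpow : powC c p = lone) (hne : c ≠ lone) (hc : Canon c) : orderOf x = p := by
  apply orderOf_eq_prime
  · apply Units.ext
    rw [val_pow hx, hpow, toM_lone]; rfl
  · intro h
    apply hne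
    apply toM_inj hc canon_lone
    rw [← hx, h, toM_lone]; rfl

theorem canon_cX : Canon cX := by unfold Canon cX; norm_num
theorem canon_cY : Canon cY := by unfold Canon cY; norm_num

theorem order_t3 : orderOf t3Γ = 3 :=
  have : Fact (Nat.Prime 3) := ⟨by norm_num⟩
  order_of_code 3 val_t3Γ chk_pow.1 chk_ne.1 (canon_evalW _ _)
theorem order_Y : orderOf jankoY = 5 :=
  have : Fact (Nat.Prime 5) := ⟨by norm_num⟩
  order_of_code 5 val_jankoY chk_pow.2.1 chk_ne.2.1 canon_cY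
theorem order_X : orderOf jankoX = 7 :=
  have : Fact (Nat.Prime 7) := ⟨by norm_num⟩
  order_of_code 7 val_jankoX chk_pow.2.2.1 chk_ne.2.2.1 canon_cX
theorem order_t11 : orderOf t11Γ = 11 :=
  have : Fact (Nat.Prime 11) := ⟨by norm_num⟩
  order_of_code 11 val_t11Γ chk_pow.2.2.2.1 chk_ne.2.2.2.1 (canon_evalW _ _)
theorem order_t19 : orderOf t19Γ = 19 :=
  have : Fact (Nat.Prime 19) := ⟨by norm_num⟩
  order_of_code 19 val_t19Γ chk_pow.2.2.2.2 chk_ne.2.2.2.2 (canon_evalW _ _)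

/-- the elements, in the group -/
def xG : ↥G := ⟨jankoX, jankoX_mem⟩
def yG : ↥G := ⟨jankoY, jankoY_mem⟩
def aG : ↥G := ⟨aΓ, evalGL_mem G hH _⟩
def t3G : ↥G := ⟨t3Γ, evalGL_mem G hH _⟩
def t11G : ↥G := ⟨t11Γ, evalGL_mem G hH _⟩
def t19G : ↥G := ⟨t19Γ, evalGL_mem G hH _⟩

theorem comm01G : aG * (xG * aG * xG⁻¹) = (xG * aG * xG⁻¹) * aG := by
  apply Subtype.ext
  show aΓ * (jankoX * aΓ * jankoX⁻¹) = (jankoX * aΓ * jankoX⁻¹) * aΓ
  rw [← a1Γ_eq]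
  exact comm01

theorem comm02G : aG * (xG * (xG * aG * xG⁻¹) * xG⁻¹) = (xG * (xG * aG * xG⁻¹) * xG⁻¹) * aG := by
  apply Subtype.ext
  show aΓ * (jankoX * (jankoX * aΓ * jankoX⁻¹) * jankoX⁻¹) =
    (jankoX * (jankoX * aΓ * jankoX⁻¹) * jankoX⁻¹) * aΓ
  rw [← a1Γ_eq, ← a2Γ_eq]
  exact comm02

theorem comm12G : (xG * aG * xG⁻¹) * (xG * (xG * aG * xG⁻¹) * xG⁻¹) =
    (xG * (xG * aG * xG⁻¹) * xG⁻¹) * (xG * aG * xG⁻¹) := by
  apply Subtype.ext
  show (jankoX * aΓ * jankoX⁻¹) * (jankoX * (jankoX * aΓ * jankoX⁻¹) * jankoX⁻¹) =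
    (jankoX * (jankoX * aΓ * jankoX⁻¹) * jankoX⁻¹) * (jankoX * aΓ * jankoX⁻¹)
  rw [← a1Γ_eq, ← a2Γ_eq]
  exact comm12

theorem rel3G : xG * (xG * (xG * aG * xG⁻¹) * xG⁻¹) * xG⁻¹ = aG * (xG * aG * xG⁻¹) := by
  apply Subtype.ext
  show jankoX * (jankoX * (jankoX * aΓ * jankoX⁻¹) * jankoX⁻¹) * jankoX⁻¹ =
    aΓ * (jankoX * aΓ * jankoX⁻¹)
  rw [← a1Γ_eq, ← a2Γ_eq, ← a3Γ_eq]
  exact rel3

theorem sq0G : aG ^ 2 = 1 := by
  apply Subtype.ext
  rw [pow_two]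
  exact sq0

theorem sq1G : (xG * aG * xG⁻¹) ^ 2 = 1 := by
  apply Subtype.ext
  rw [pow_two]
  show (jankoX * aΓ * jankoX⁻¹) * (jankoX * aΓ * jankoX⁻¹) = 1
  rw [← a1Γ_eq]
  exact sq1

theorem sq2G : (xG * (xG * aG * xG⁻¹) * xG⁻¹) ^ 2 = 1 := by
  apply Subtype.ext
  rw [pow_two]
  show (jankoX * (jankoX * aΓ * jankoX⁻¹) * jankoX⁻¹) * (jankoX * (jankoX * aΓ * jankoX⁻¹) * jankoX⁻¹) = 1
  rw [← a1Γ_eq, ← a2Γ_eq]
  exact sq2

theorem nodupG : ([1, aG, xG * aG * xG⁻¹, xG * (xG * aG * xG⁻¹) * xG⁻¹, aG * (xG * aG * xG⁻¹)] :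
    List ↥G).Nodup := by
  apply List.Nodup.of_map (fun q : ↥G => q.1)
  show ([1, aΓ, jankoX * aΓ * jankoX⁻¹, jankoX * (jankoX * aΓ * jankoX⁻¹) * jankoX⁻¹,
    aΓ * (jankoX * aΓ * jankoX⁻¹)] : List GLt).Nodup
  rw [← a1Γ_eq, ← a2Γ_eq]
  exact nodupΓ

theorem index_cyc (q : ↥G) (p r : ℕ) (hq : orderOf q = p) (hr : p * r = 175560) :
    (Subgroup.zpowers q).index = r := by
  have h := Subgroup.card_mul_index (Subgroup.zpowers q)
  rw [Nat.card_zpowers, hq, card_G, ← hr] at h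
  have hp : 0 < p := by
    rcases Nat.eq_zero_or_pos p with h0 | h0
    · rw [h0] at hr; omega
    · exact h0
  exact Nat.eq_of_mul_eq_mul_left hp h

theorem index_Q2 : (Subgroup.closure ({aG, xG * aG * xG⁻¹, xG * (xG * aG * xG⁻¹) * xG⁻¹} :
    Set ↥G)).index = 21945 :=
  Cfsg.Agent.H9.StemSylowE8.index_closure_e8 _ _ _ 21945 comm01G comm02G comm12G sq0G sq1G sq2G nodupG
    (by rw [card_G]; norm_num) (by norm_num)

/-- every finite stem extension of `J₁` is an isomorphism -/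
theorem ker_eq_bot {Γ : Type*} [Group Γ] [Finite Γ] (σ : Γ →* ↥G) (hsurj : Function.Surjective σ)
    (hcen : σ.ker ≤ Subgroup.center Γ) (hder : σ.ker ≤ commutator Γ) : σ.ker = ⊥ := by
  rw [eq_bot_iff]
  intro z hz
  rw [Subgroup.mem_bot]
  have h2 := Cfsg.Agent.H9.StemSylowE8.ker_pow_eq_one_of_e8 σ hsurj hcen hder aG xG comm01G comm02G
    rel3G z hz
  rw [index_Q2] at h2
  have h3 := Cfsg.Agent.H9.StemSylow.ker_pow_eq_one_of_cyclic σ hsurj hcen hder t3G z hz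
  rw [index_cyc t3G 3 58520 ((Subgroup.orderOf_coe t3G).symm.trans order_t3) (by norm_num)] at h3
  have h5 := Cfsg.Agent.H9.StemSylow.ker_pow_eq_one_of_cyclic σ hsurj hcen hder yG z hz
  rw [index_cyc yG 5 35112 ((Subgroup.orderOf_coe yG).symm.trans order_Y) (by norm_num)] at h5
  have h7 := Cfsg.Agent.H9.StemSylow.ker_pow_eq_one_of_cyclic σ hsurj hcen hder xG z hz
  rw [index_cyc xG 7 25080 ((Subgroup.orderOf_coe xG).symm.trans order_X) (by norm_num)] at h7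
  have h11 := Cfsg.Agent.H9.StemSylow.ker_pow_eq_one_of_cyclic σ hsurj hcen hder t11G z hz
  rw [index_cyc t11G 11 15960 ((Subgroup.orderOf_coe t11G).symm.trans order_t11)
    (by norm_num)] at h11
  have h19 := Cfsg.Agent.H9.StemSylow.ker_pow_eq_one_of_cyclic σ hsurj hcen hder t19G z hz
  rw [index_cyc t19G 19 9240 ((Subgroup.orderOf_coe t19G).symm.trans order_t19)
    (by norm_num)] at h19
  have d1 : orderOf z ∣ Nat.gcd 21945 58520 := Nat.dvd_gcd (orderOf_dvd_of_pow_eq_one h2)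
    (orderOf_dvd_of_pow_eq_one h3)
  have d2 : orderOf z ∣ Nat.gcd (Nat.gcd 21945 58520) 35112 :=
    Nat.dvd_gcd d1 (orderOf_dvd_of_pow_eq_one h5)
  have d3 : orderOf z ∣ Nat.gcd (Nat.gcd (Nat.gcd 21945 58520) 35112) 25080 :=
    Nat.dvd_gcd d2 (orderOf_dvd_of_pow_eq_one h7)
  have d4 : orderOf z ∣ Nat.gcd (Nat.gcd (Nat.gcd (Nat.gcd 21945 58520) 35112) 25080) 15960 :=
    Nat.dvd_gcd d3 (orderOf_dvd_of_pow_eq_one h11)
  have d5 : orderOf z ∣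
      Nat.gcd (Nat.gcd (Nat.gcd (Nat.gcd (Nat.gcd 21945 58520) 35112) 25080) 15960) 9240 :=
    Nat.dvd_gcd d4 (orderOf_dvd_of_pow_eq_one h19)
  have e : Nat.gcd (Nat.gcd (Nat.gcd (Nat.gcd (Nat.gcd 21945 58520) 35112) 25080) 15960) 9240 = 1 := by
    norm_num
  rw [e, Nat.dvd_one] at d5
  exact orderOf_eq_one_iff.1 d5

end Cfsg.Agent.H9.J1Mult
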