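import Cfsg.Agent.H9.J1OutData
import Cfsg.Agent.Lib.Helper6.OutGeneric

/-! # Every automorphism of `J₁` is inner -/

set_option autoImplicit false
set_option maxRecDepth 100000

namespace Cfsg.Agent.H9.J1Out

open Cfsg.Agent.Lib.Helper6.MatN Cfsg.Agent.Lib.Helper6.J1 Cfsg.Agent.Lib.Helper6.SylowSimple
open Cfsg.Agent.Lib.Helper6.CentAux Cfsg.Spor

/-- the ambient group -/
abbrev GL7 : Type := GL (Fin 7) (ZMod 11)
/-- the ambient matrices -/
abbrev M7 : Type := Matrix (Fin 7) (Fin 7) (ZMod 11)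

/-! ### codes of group elements -/

/-- the matrix of `g` is coded by `c` -/
def HasCode (g : GL7) (c : ℕ) : Prop := (g : M7) = toM c

theorem HasCode.mul {a b : GL7} {ca cb : ℕ} (ha : HasCode a ca) (hb : HasCode b cb) :
    HasCode (a * b) (lmul ca cb) := by
  unfold HasCode at *
  rw [Units.val_mul, toM_lmul, ha, hb]

theorem HasCode.one : HasCode 1 lone := by
  unfold HasCode
  rw [toM_lone]; rfl

theorem HasCode.pow {a : GL7} {c : ℕ} (ha : HasCode a c) (k : ℕ) : HasCode (a ^ k) (powC c k) :=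
  val_pow ha k

theorem HasCode.eq {a b : GL7} {c : ℕ} (ha : HasCode a c) (hb : HasCode b c) : a = b :=
  Units.ext (ha.trans hb.symm)

theorem HasCode.code_eq {a : GL7} {c c' : ℕ} (ha : HasCode a c) (ha' : HasCode a c')
    (hc : Canon c) (hc' : Canon c') : c = c' :=
  toM_inj hc hc' (ha.symm.trans ha')

theorem canon_powC (c : ℕ) (k : ℕ) : Canon (powC c k) := by
  cases k with
  | zero => exact canon_lone
  | succ k => exact canon_lmul _ _

/-! ### the fast powers -/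

theorem toM_pw5 (a : ℕ) : toM (pw5 a) = toM a ^ 5 := by
  unfold pw5
  simp only [toM_lmul, pow_succ, pow_zero, one_mul, mul_assoc]

theorem toM_pw10 (a : ℕ) : toM (pw10 a) = toM a ^ 10 := by
  unfold pw10
  rw [toM_lmul, toM_pw5, ← pow_add]

theorem toM_pw19 (a : ℕ) : toM (pw19 a) = toM a ^ 19 := by
  unfold pw19
  simp only [toM_lmul, pow_succ, pow_zero, one_mul, mul_assoc]

theorem canon_pw5 (a : ℕ) : Canon (pw5 a) := canon_lmul _ _
theorem canon_pw10 (a : ℕ) : Canon (pw10 a) := canon_lmul _ _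
theorem canon_pw19 (a : ℕ) : Canon (pw19 a) := canon_lmul _ _

/-! ### the elements -/

theorem hcX : HasCode jankoX cX := val_jankoX
theorem hcXi : HasCode jankoX⁻¹ cXi := hgen 2

/-- the involution `s`, in GL₇(11) -/
def sΓ2 : GL7 := evalGL gen wS2
/-- the element `n`, in GL₇(11) -/
def nΓ : GL7 := evalGL gen wN

theorem hcS : HasCode sΓ2 cS2 := by
  unfold HasCode
  rw [sΓ2, val_evalGL hgen, ← chk_s.1]

theorem hcN : HasCode nΓ cN := by
  unfold HasCode
  rw [nΓ, val_evalGL hgen, ← chk_n.1]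

theorem hcNi : HasCode nΓ⁻¹ cNi := by
  unfold HasCode
  rw [nΓ, ← evalGL_invW hinv, val_evalGL hgen, ← chk_n.2.1]

theorem sΓ2_mem : sΓ2 ∈ G := evalGL_mem G hH _
theorem nΓ_mem : nΓ ∈ G := evalGL_mem G hH _

attribute [irreducible] sΓ2 nΓ

theorem hcX2 : HasCode (jankoX ^ 2) cX2 := by rw [chk_x.1]; exact hcX.pow 2
theorem hcX3 : HasCode (jankoX ^ 3) cX3 := by rw [chk_x.2.1]; exact hcX.pow 3
theorem hcX4 : HasCode (jankoX ^ 4) cX4 := by rw [chk_x.2.2]; exact hcX.pow 4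

theorem X_pow7 : jankoX ^ 7 = 1 := by
  apply (hcX.pow 7).eq
  rw [chk_x7.1]; exact HasCode.one

theorem X_ne : jankoX ≠ 1 := by
  intro h
  have h1 : HasCode jankoX lone := by rw [h]; exact HasCode.one
  have hc : Canon cX := by unfold Canon cX; norm_num
  exact chk_x7.2 (hcX.code_eq h1 hc canon_lone)

theorem S_sq : sΓ2 * sΓ2 = 1 := by
  apply (hcS.mul hcS).eq
  rw [chk_s.2.1]; exact HasCode.one

theorem canon_cS2 : Canon cS2 := by rw [chk_s.1]; exact canon_evalW _ _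

theorem S_ne : sΓ2 ≠ 1 := by
  intro h
  have h1 : HasCode sΓ2 lone := by rw [h]; exact HasCode.one
  exact chk_s.2.2 (hcS.code_eq h1 canon_cS2 canon_lone)

theorem N_conj : nΓ * jankoX * nΓ⁻¹ = jankoX ^ 3 := by
  apply ((hcN.mul hcX).mul hcNi).eq
  rw [chk_n.2.2]; exact hcX.pow 3

/-- the relations, from the test -/
theorem test_of {g : GL7} {c : ℕ} (hg : HasCode g c) (h1 : (jankoX * g) ^ 10 = 1)
    (h2 : (jankoX ^ 2 * g) ^ 5 = 1) (h3 : (jankoX ^ 3 * g) ^ 19 = 1)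
    (h4 : (jankoX * g * (jankoX ^ 2 * g) * (jankoX ^ 4 * g)) ^ 10 = 1) : test c = true := by
  have key : ∀ (a : GL7) (ca : ℕ) (k : ℕ) (f : ℕ → ℕ), HasCode a ca →
      (∀ b, toM (f b) = toM b ^ k) → (∀ b, Canon (f b)) → a ^ k = 1 → Nat.beq (f ca) lone = true := by
    intro a ca k f ha hf hcan hak
    have : f ca = lone := by
      apply toM_inj (hcan _) canon_lone
      rw [hf, ← ha, toM_lone, ← Units.val_pow_eq_pow_val, hak]; rfl
    rw [this]; exact Nat.beq_refl _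
  unfold test
  rw [Bool.and_eq_true, Bool.and_eq_true, Bool.and_eq_true]
  refine ⟨⟨⟨?_, ?_⟩, ?_⟩, ?_⟩
  · exact key _ _ 10 pw10 (hcX.mul hg) toM_pw10 canon_pw10 h1
  · exact key _ _ 5 pw5 (hcX2.mul hg) toM_pw5 canon_pw5 h2
  · exact key _ _ 19 pw19 (hcX3.mul hg) toM_pw19 canon_pw19 h3
  · exact key _ _ 10 pw10 (((hcX.mul hg).mul (hcX2.mul hg)).mul (hcX4.mul hg)) toM_pw10
      canon_pw10 h4

/-- the converse, for `s` itself -/
theorem rel_S : (jankoX * sΓ2) ^ 10 = 1 ∧ (jankoX ^ 2 * sΓ2) ^ 5 = 1 ∧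
    (jankoX ^ 3 * sΓ2) ^ 19 = 1 ∧
    (jankoX * sΓ2 * (jankoX ^ 2 * sΓ2) * (jankoX ^ 4 * sΓ2)) ^ 10 = 1 := by
  have key : ∀ (a : GL7) (ca : ℕ) (k : ℕ) (f : ℕ → ℕ), HasCode a ca →
      (∀ b, toM (f b) = toM b ^ k) → Nat.beq (f ca) lone = true → a ^ k = 1 := by
    intro a ca k f ha hf hb
    replace hb := Nat.eq_of_beq_eq_true hb
    apply Units.ext
    rw [Units.val_pow_eq_pow_val, ha, ← hf, hb, toM_lone]; rfl
  have h := chk_rel
  unfold test at h
  rw [Bool.and_eq_true, Bool.and_eq_true, Bool.and_eq_true] at h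
  obtain ⟨⟨⟨h1, h2⟩, h3⟩, h4⟩ := h
  refine ⟨?_, ?_, ?_, ?_⟩
  · exact key _ _ 10 pw10 (hcX.mul hcS) toM_pw10 h1
  · exact key _ _ 5 pw5 (hcX2.mul hcS) toM_pw5 h2
  · exact key _ _ 19 pw19 (hcX3.mul hcS) toM_pw19 h3
  · exact key _ _ 10 pw10 (((hcX.mul hcS).mul (hcX2.mul hcS)).mul (hcX4.mul hcS)) toM_pw10 h4

/-! ### the elements, in `J₁` -/

/-- `X`, in `J₁` -/
def x : ↥G := ⟨jankoX, jankoX_mem⟩
/-- `s`, in `J₁` -/
def s : ↥G := ⟨sΓ2, sΓ2_mem⟩
/-- `n`, in `J₁` -/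
def n : ↥G := ⟨nΓ, nΓ_mem⟩

theorem orderOf_x : orderOf x = 7 := by
  have : Fact (Nat.Prime 7) := ⟨by norm_num⟩
  apply orderOf_eq_prime
  · apply Subtype.ext
    rw [Subgroup.coe_pow, Subgroup.coe_one]
    exact X_pow7
  · intro h
    exact X_ne (congrArg Subtype.val h)

theorem orderOf_s : orderOf s = 2 := by
  have : Fact (Nat.Prime 2) := ⟨Nat.prime_two⟩
  apply orderOf_eq_prime
  · apply Subtype.ext
    rw [Subgroup.coe_pow, Subgroup.coe_one, pow_two]
    exact S_sq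
  · intro h
    exact S_ne (congrArg Subtype.val h)

theorem n_conj : n * x * n⁻¹ = x ^ 3 := Subtype.ext N_conj

theorem x_val : (x : GL7) = jankoX := rfl
theorem s_val : (s : GL7) = sΓ2 := rfl

/-- the relations of `x` and `s`, in `J₁` -/
theorem rel_s : (x * s) ^ 10 = 1 ∧ (x ^ 2 * s) ^ 5 = 1 ∧ (x ^ 3 * s) ^ 19 = 1 ∧
    (x * s * (x ^ 2 * s) * (x ^ 4 * s)) ^ 10 = 1 := by
  obtain ⟨r1, r2, r3, r4⟩ := rel_S
  refine ⟨Subtype.ext ?_, Subtype.ext ?_, Subtype.ext ?_, Subtype.ext ?_⟩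
  · simp only [Subgroup.coe_pow, Subgroup.coe_mul, Subgroup.coe_one, x_val, s_val]
    exact r1
  · simp only [Subgroup.coe_pow, Subgroup.coe_mul, Subgroup.coe_one, x_val, s_val]
    exact r2
  · simp only [Subgroup.coe_pow, Subgroup.coe_mul, Subgroup.coe_one, x_val, s_val]
    exact r3
  · simp only [Subgroup.coe_pow, Subgroup.coe_mul, Subgroup.coe_one, x_val, s_val]
    exact r4

/-- the test, for elements of `J₁` -/
theorem test_of' {g : ↥G} {c : ℕ} (hg : HasCode g.1 c) (h1 : (x * g) ^ 10 = 1)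
    (h2 : (x ^ 2 * g) ^ 5 = 1) (h3 : (x ^ 3 * g) ^ 19 = 1)
    (h4 : (x * g * (x ^ 2 * g) * (x ^ 4 * g)) ^ 10 = 1) : test c = true := by
  apply test_of hg
  · have := congrArg Subtype.val h1
    simpa only [Subgroup.coe_pow, Subgroup.coe_mul, Subgroup.coe_one, x_val] using this
  · have := congrArg Subtype.val h2
    simpa only [Subgroup.coe_pow, Subgroup.coe_mul, Subgroup.coe_one, x_val] using this
  · have := congrArg Subtype.val h3
    simpa only [Subgroup.coe_pow, Subgroup.coe_mul, Subgroup.coe_one, x_val] using this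
  · have := congrArg Subtype.val h4
    simpa only [Subgroup.coe_pow, Subgroup.coe_mul, Subgroup.coe_one, x_val] using this

/-- the code of a conjugate of `s` by a power of `x` -/
theorem code_conj_s (i : ℕ) :
    HasCode ((x ^ i * s * (x ^ i)⁻¹ : ↥G) : GL7) (lmul (lmul (powC cX i) cS2) (powC cXi i)) := by
  have e : ((x ^ i * s * (x ^ i)⁻¹ : ↥G) : GL7) = jankoX ^ i * sΓ2 * (jankoX⁻¹) ^ i := by
    simp only [Subgroup.coe_pow, Subgroup.coe_mul, Subgroup.coe_inv, x_val, s_val, inv_pow]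
  rw [e]
  exact ((hcX.pow i).mul hcS).mul (hcXi.pow i)

theorem n_pow_conj (j : ℕ) : n ^ j * x * (n ^ j)⁻¹ = x ^ (3 ^ j) := by
  induction j with
  | zero => simp
  | succ j ih =>
    have e : n ^ (j + 1) * x * (n ^ (j + 1))⁻¹ = n * (n ^ j * x * (n ^ j)⁻¹) * n⁻¹ := by
      rw [pow_succ']; group
    rw [e, ih, ← conj_pow, n_conj, ← pow_mul, pow_succ']

/-- the nontrivial powers of `x` are conjugate to `x` -/
theorem x_pow_conj (k : ℕ) (hk0 : k ≠ 0) (hk : k < 7) : ∃ g : ↥G, x ^ k = g * x * g⁻¹ := by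
  have red : ∀ m : ℕ, x ^ m = x ^ (m % 7) := by
    intro m
    have := pow_mod_orderOf x m
    rw [orderOf_x] at this
    exact this.symm
  interval_cases k
  · exact absurd rfl hk0
  · exact ⟨1, by simp⟩
  · exact ⟨n ^ 2, by rw [n_pow_conj, red (3 ^ 2)]; rfl⟩
  · exact ⟨n ^ 1, by rw [n_pow_conj, red (3 ^ 1)]; rfl⟩
  · exact ⟨n ^ 4, by rw [n_pow_conj, red (3 ^ 4)]; rfl⟩
  · exact ⟨n ^ 5, by rw [n_pow_conj, red (3 ^ 5)]; rfl⟩
  · exact ⟨n ^ 3, by rw [n_pow_conj, red (3 ^ 3)]; rfl⟩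

/-- the Sylow step: the image of `x` under an automorphism is conjugate to `x` -/
theorem exists_conj_x (φ : ↥G ≃* ↥G) : ∃ g : ↥G, φ x = g * x * g⁻¹ := by
  classical
  have : Fact (Nat.Prime 7) := ⟨by norm_num⟩
  have hsyl : ∀ y : ↥G, orderOf y = 7 → ∃ P : Sylow 7 ↥G, (P : Subgroup ↥G) = Subgroup.zpowers y := by
    intro y hy
    have hc : Nat.card (Subgroup.zpowers y) = 7 := by rw [Nat.card_zpowers, hy]
    have hpg : IsPGroup 7 (Subgroup.zpowers y) := IsPGroup.of_card (n := 1) (by rw [hc]; norm_num)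
    have hidx : (Subgroup.zpowers y).index = 25080 := by
      have := Subgroup.card_mul_index (Subgroup.zpowers y)
      rw [hc, card_G] at this
      omega
    exact ⟨hpg.toSylow (by rw [hidx]; norm_num), rfl⟩
  obtain ⟨P, hP⟩ := hsyl x orderOf_x
  obtain ⟨Q, hQ⟩ := hsyl (φ x) (by rw [MulEquiv.orderOf_eq, orderOf_x])
  obtain ⟨g, hg⟩ := MulAction.exists_smul_eq ↥G P Q
  have hmem : φ x ∈ (Q : Subgroup ↥G) := by rw [hQ]; exact Subgroup.mem_zpowers _
  rw [← hg, Sylow.coe_subgroup_smul, Subgroup.mem_smul_pointwise_iff_exists] at hmem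
  obtain ⟨y, hy, hyx⟩ := hmem
  rw [hP, mem_zpowers_iff_mem_range_orderOf, orderOf_x, Finset.mem_image] at hy
  obtain ⟨k, hk, rfl⟩ := hy
  rw [Finset.mem_range] at hk
  have hk0 : k ≠ 0 := by
    rintro rfl
    rw [pow_zero, smul_one] at hyx
    have h1 : φ x = φ 1 := by rw [map_one]; exact hyx.symm
    have := φ.injective h1
    have h7 := orderOf_x
    rw [this, orderOf_one] at h7
    norm_num at h7
  obtain ⟨g', hg'⟩ := x_pow_conj k hk0 hk
  refine ⟨g * g', ?_⟩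
  rw [← hyx, MulAut.smul_def, MulAut.conj_apply, hg']
  group

/-! ### the Sylow 2-subgroup, with its codes -/

/-- the Sylow data, keeping the codes of the elements -/
theorem syl2_spec : ∃ F : Finset GL7, 1 ∈ F ∧ (∀ a ∈ F, ∀ b ∈ F, a * b ∈ F) ∧
    (∀ a ∈ F, a ∈ G) ∧ F.card = 8 ∧ ∀ a ∈ F, ∃ c ∈ sylD2.map (fun d => d.1), HasCode a c := by
  have hD := chk_syl2
  unfold sylOK at hD
  simp only [Bool.and_eq_true, List.all_eq_true, decide_eq_true_eq, beq_iff_eq] at hD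
  obtain ⟨⟨⟨⟨h1, h2⟩, h3⟩, h4⟩, -⟩ := hD
  have hval : ∀ d ∈ sylD2, HasCode (evalGL gen d.2.1) d.1 := by
    intro d hd
    unfold HasCode
    rw [val_evalGL hgen, ← h1 d hd]
  have hcanon : ∀ d ∈ sylD2, Canon d.1 := by
    intro d hd
    rw [h1 d hd]; exact canon_evalW _ _
  have hinj : ∀ d ∈ sylD2, ∀ d' ∈ sylD2, evalGL gen d.2.1 = evalGL gen d'.2.1 → d = d' := by
    intro d hd d' hd' h
    have hc : d.1 = d'.1 := by
      apply (hval d hd).code_eq _ (hcanon d hd) (hcanon d' hd')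
      rw [h]; exact hval d' hd'
    exact List.inj_on_of_nodup_map h4 hd hd' hc
  refine ⟨(sylD2.map fun d => evalGL gen d.2.1).toFinset, ?_, ?_, ?_, ?_, ?_⟩
  · rw [List.contains_iff_mem, List.mem_map] at h2
    obtain ⟨d, hd, hd1⟩ := h2
    rw [List.mem_toFinset, List.mem_map]
    refine ⟨d, hd, ?_⟩
    apply (hval d hd).eq
    rw [hd1]; exact HasCode.one
  · intro a ha b hb
    rw [List.mem_toFinset, List.mem_map] at ha hb ⊢
    obtain ⟨d, hd, rfl⟩ := ha
    obtain ⟨d', hd', rfl⟩ := hb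
    have := h3 d.1 (List.mem_map.2 ⟨d, hd, rfl⟩) d'.1 (List.mem_map.2 ⟨d', hd', rfl⟩)
    rw [List.contains_iff_mem, List.mem_map] at this
    obtain ⟨d'', hd'', hc⟩ := this
    refine ⟨d'', hd'', ?_⟩
    apply (hval d'' hd'').eq
    rw [hc]
    exact (hval d hd).mul (hval d' hd')
  · intro a ha
    rw [List.mem_toFinset, List.mem_map] at ha
    obtain ⟨d, -, rfl⟩ := ha
    exact evalGL_mem G hH _
  · rw [List.toFinset_card_of_nodup, List.length_map]
    · exact chk_len.1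
    · exact List.Nodup.map_on hinj (List.Nodup.of_map _ h4)
  · intro a ha
    rw [List.mem_toFinset, List.mem_map] at ha
    obtain ⟨d, hd, rfl⟩ := ha
    exact ⟨d.1, List.mem_map.2 ⟨d, hd, rfl⟩, hval d hd⟩

theorem canon_cT : Canon cT := by rw [chk_cw.1]; exact canon_evalW _ _

/-- the conjugates in the list -/
theorem class_spec : clL.Nodup ∧ (∀ c ∈ clL, Canon c) ∧
    ∀ c ∈ clL, ∃ g : ↥G, HasCode (g * t * g⁻¹ : ↥G).1 c := by
  obtain ⟨h1, h2, h3⟩ := classOK_sound hgen hinv G hH chk_class tΓ val_tΓ canon_cT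
  refine ⟨h1, h2, fun c hc => ?_⟩
  obtain ⟨g, hg, hv⟩ := h3 c hc
  exact ⟨⟨g, hg⟩, hv⟩

/-- every involution of `J₁` is conjugate to `t` -/
theorem invol_conj (y : ↥G) (hy : orderOf y = 2) : ∃ g : ↥G, y = g * t * g⁻¹ := by
  classical
  have : Fact (Nat.Prime 2) := ⟨Nat.prime_two⟩
  obtain ⟨F, f1, f2, f3, f4, f5⟩ := syl2_spec
  obtain ⟨P, hP⟩ := exists_sylow_of_finset G 2 3 F f1 f2 f3 (by rw [f4]; norm_num)
    (by rw [card_G]; norm_num)
  have hpg : IsPGroup 2 (Subgroup.zpowers y) :=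
    IsPGroup.of_card (n := 1) (by rw [Nat.card_zpowers, hy]; norm_num)
  obtain ⟨Q, hQ⟩ := hpg.exists_le_sylow
  obtain ⟨h, hh⟩ := MulAction.exists_smul_eq ↥G P Q
  have hmem : y ∈ (Q : Subgroup ↥G) := hQ (Subgroup.mem_zpowers _)
  rw [← hh, Sylow.coe_subgroup_smul, Subgroup.mem_smul_pointwise_iff_exists] at hmem
  obtain ⟨p, hp, hpy⟩ := hmem
  rw [MulAut.smul_def, MulAut.conj_apply] at hpy
  have hp1 : p ≠ 1 := by
    rintro rfl
    rw [mul_one, mul_inv_cancel] at hpy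
    rw [← hpy, orderOf_one] at hy
    norm_num at hy
  obtain ⟨c, hc, hpc⟩ := f5 p.1 ((hP p).1 hp)
  have hc1 : c ≠ lone := by
    rintro rfl
    exact hp1 (Subtype.ext (hpc.eq HasCode.one))
  have hcl : c ∈ clL := by
    have h1 := chk_syl
    rw [List.all_eq_true] at h1
    have h2 := h1 c hc
    rw [Bool.or_eq_true] at h2
    rcases h2 with h2 | h2
    · exact absurd (Nat.eq_of_beq_eq_true h2) hc1
    · exact List.contains_iff_mem.1 h2
  obtain ⟨g, hg⟩ := class_spec.2.2 c hcl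
  refine ⟨h * g, ?_⟩
  have e : p = g * t * g⁻¹ := Subtype.ext (hpc.eq hg)
  rw [← hpy, e]
  group

/-! ### the class of `t` is the list -/

theorem card_cent : Nat.card (Subgroup.centralizer ({t} : Set ↥G)) = 120 := by
  obtain ⟨e⟩ := cent_iso
  rw [Nat.card_congr e.toEquiv, Nat.card_prod, nat_card_alternatingGroup]
  simp [Nat.factorial]

/-- every conjugate of `t` has its code in the list -/
theorem conj_t_code (y : ↥G) (hy : ∃ g : ↥G, y = g * t * g⁻¹) : ∃ c ∈ clL, HasCode y.1 c := by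
  classical
  obtain ⟨hnd, hcan, hconj⟩ := class_spec
  choose! g hg using hconj
  let φ : ℕ → ↥G := fun c => g c * t * (g c)⁻¹
  have hinj : Set.InjOn φ (clL.toFinset : Set ℕ) := by
    intro c hc c' hc' h
    rw [Finset.mem_coe, List.mem_toFinset] at hc hc'
    apply (hg c hc).code_eq _ (hcan c hc) (hcan c' hc')
    have : g c * t * (g c)⁻¹ = g c' * t * (g c')⁻¹ := h
    rw [this]
    exact hg c' hc'
  have hcard : (clL.toFinset.image φ).card = 1463 := by
    rw [Finset.card_image_of_injOn hinj, List.toFinset_card_of_nodup hnd]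
    exact chk_class_len
  by_cases hmem : y ∈ clL.toFinset.image φ
  · rw [Finset.mem_image] at hmem
    obtain ⟨c, hc, rfl⟩ := hmem
    rw [List.mem_toFinset] at hc
    exact ⟨c, hc, hg c hc⟩
  · exfalso
    have hb := card_mul_card_centralizer_le t (insert y (clL.toFinset.image φ)) (by
      intro z hz
      rw [Finset.mem_insert] at hz
      rcases hz with rfl | hz
      · exact hy
      · rw [Finset.mem_image] at hz
        obtain ⟨c, -, rfl⟩ := hz
        exact ⟨g c, rfl⟩)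
    rw [Finset.card_insert_of_notMem hmem, hcard, card_G, card_cent] at hb
    omega

/-! ### `x` and `s` generate -/

/-- the letters `X, s, X⁻¹, s` -/
def gen2 : ℕ → GL7
  | 0 => jankoX
  | 1 => sΓ2
  | 2 => jankoX⁻¹
  | 3 => sΓ2
  | _ => 1

theorem hgen2 : ∀ i, ((gen2 i : GL7) : M7) = toM (codes2.getD i lone) := by
  intro i
  match i with
  | 0 => exact hcX
  | 1 => exact hcS
  | 2 => exact hcXi
  | 3 => exact hcS
  | n + 4 =>
    show ((1 : GL7) : M7) = _
    have : codes2.getD (n + 4) lone = lone := by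
      apply List.getD_eq_default
      simp [codes2]
    rw [this, toM_lone]; rfl

theorem Y_eq : jankoY = evalGL gen2 wY := by
  apply Units.ext
  rw [val_evalGL hgen2, chk_Y]
  exact val_jankoY

/-- a subgroup of `J₁` containing `x` and `s` is everything -/
theorem eq_top_of_x_s (E : Subgroup ↥G) (hx : x ∈ E) (hs : s ∈ E) : E = ⊤ := by
  have hX : jankoX ∈ E.map G.subtype := ⟨x, hx, rfl⟩
  have hS : sΓ2 ∈ E.map G.subtype := ⟨s, hs, rfl⟩
  have hY : jankoY ∈ E.map G.subtype := by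
    rw [Y_eq]
    apply evalGL_mem
    intro i
    match i with
    | 0 => exact hX
    | 1 => exact hS
    | 2 => exact (E.map G.subtype).inv_mem hX
    | 3 => exact hS
    | n + 4 => exact (E.map G.subtype).one_mem
  have hle : G ≤ E.map G.subtype := by
    show Subgroup.closure {jankoX, jankoY} ≤ _
    rw [Subgroup.closure_le]
    rintro z (rfl | rfl)
    · exact hX
    · exact hY
  rw [eq_top_iff]
  intro a _
  obtain ⟨e, he, hea⟩ := hle a.2
  have : e = a := Subtype.ext hea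
  rw [← this]; exact he

/-! ### the theorem -/

/-- the second step: an automorphism fixing `x` is conjugation by a power of `x` -/
theorem inner_of_fix (ψ : ↥G ≃* ↥G) (hψx : ψ x = x) :
    ∃ i : ℕ, ∀ a, ψ a = x ^ i * a * (x ^ i)⁻¹ := by
  have hψxk : ∀ k : ℕ, ψ (x ^ k) = x ^ k := by intro k; rw [map_pow, hψx]
  have hord : orderOf (ψ s) = 2 := by rw [MulEquiv.orderOf_eq, orderOf_s]
  obtain ⟨c, hc, hv⟩ := conj_t_code (ψ s) (invol_conj (ψ s) hord)
  obtain ⟨r1, r2, r3, r4⟩ := rel_s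
  have ht : test c = true := by
    apply test_of' hv
    · rw [← hψx, ← map_mul, ← map_pow, r1, map_one]
    · rw [← hψxk, ← map_mul, ← map_pow, r2, map_one]
    · rw [← hψxk, ← map_mul, ← map_pow, r3, map_one]
    · rw [← hψxk 2, ← hψxk 4]
      nth_rewrite 1 [← hψx]
      rw [← map_mul, ← map_mul, ← map_mul, ← map_mul, ← map_mul, ← map_pow, r4, map_one]
  have hseven : c ∈ seven := by
    have h1 := chk_main
    rw [List.all_eq_true] at h1
    have h2 := h1 c hc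
    rw [ht] at h2
    exact List.contains_iff_mem.1 (by simpa using h2)
  rw [chk_seven, List.mem_map] at hseven
  obtain ⟨i, -, rfl⟩ := hseven
  have hs' : ψ s = x ^ i * s * (x ^ i)⁻¹ := Subtype.ext (hv.eq (code_conj_s i))
  refine ⟨i, ?_⟩
  let χ : ↥G ≃* ↥G := ψ.trans (MulAut.conj (x ^ i)⁻¹)
  have hχ : ∀ a, χ a = (x ^ i)⁻¹ * ψ a * x ^ i := by
    intro a
    show MulAut.conj (x ^ i)⁻¹ (ψ a) = _
    rw [MulAut.conj_apply, inv_inv]
  have hχx : χ x = x := by
    rw [hχ, hψx, mul_assoc, ← pow_succ', pow_succ, ← mul_assoc, inv_mul_cancel, one_mul]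
  have hχs : χ s = s := by rw [hχ, hs']; group
  have htop := eq_top_of_x_s (MonoidHom.eqLocus χ.toMonoidHom (MonoidHom.id ↥G)) hχx hχs
  intro a
  have h1 : χ a = a := by
    have : a ∈ MonoidHom.eqLocus χ.toMonoidHom (MonoidHom.id ↥G) := by rw [htop]; trivial
    exact this
  rw [hχ] at h1
  have h2 : ψ a = x ^ i * ((x ^ i)⁻¹ * ψ a * x ^ i) * (x ^ i)⁻¹ := by group
  rw [h2, h1]

/-- **every automorphism of `J₁` is inner** -/
theorem inner (φ : ↥G ≃* ↥G) : ∃ g : ↥G, φ = MulAut.conj g := by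
  obtain ⟨g1, hg1⟩ := exists_conj_x φ
  let ψ : ↥G ≃* ↥G := φ.trans (MulAut.conj g1⁻¹)
  have hψ : ∀ a, ψ a = g1⁻¹ * φ a * g1 := by
    intro a
    show MulAut.conj g1⁻¹ (φ a) = _
    rw [MulAut.conj_apply, inv_inv]
  have hψx : ψ x = x := by rw [hψ, hg1]; group
  obtain ⟨i, hi⟩ := inner_of_fix ψ hψx
  refine ⟨g1 * x ^ i, ?_⟩
  ext a : 1
  have h1 := hi a
  rw [hψ] at h1
  rw [MulAut.conj_apply]
  have h2 : φ a = g1 * (g1⁻¹ * φ a * g1) * g1⁻¹ := by group
  rw [h2, h1]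
  group

end Cfsg.Agent.H9.J1Out
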