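import Cfsg.Agent.Lib.Helper6.J1Cent

/-! # Data and kernel checks for `Out(J₁) = 1`

`X` has order 7, `s` is an involution with `⟨X, s⟩ = J₁`; `n` normalizes `⟨X⟩` acting as the cube;
the seven conjugates `X ^ i * s * X ^ (-i)` are the only conjugates `c` of the involution `t` with
`(X c)^10 = (X² c)^5 = (X³ c)^19 = (X c X² c X⁴ c)^10 = 1`. -/

set_option autoImplicit false
set_option maxRecDepth 1000000

namespace Cfsg.Agent.H9.J1Out

open Cfsg.Agent.Lib.Helper6.MatN Cfsg.Agent.Lib.Helper6.J1

/-- the word of the involution `s` -/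
def wS2 : List ℕ := [3, 3, 2, 2, 1, 0]
/-- the code of `s` -/
def cS2 : ℕ := 859276660567116942565437343946083355464280563203342
/-- the word of `Y` in the letters `X, s, X⁻¹, s` -/
def wY : List ℕ := [0, 0, 0, 1, 2, 1, 2, 2, 2, 1, 0, 0, 0, 1, 0]
/-- the word of `n` -/
def wN : List ℕ := [1, 0, 1, 0, 1, 1, 0, 3, 2, 3, 0, 0, 3, 0, 3, 3]
/-- the code of `n` -/
def cN : ℕ := 179027532650089564806048376162019253350041892672627
/-- the code of `n⁻¹` -/
def cNi : ℕ := 124412820621098068655104420501306215617732100200627
/-- the codes of `X ^ i * s * X ^ (-i)` -/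
def seven : List ℕ := [859276660567116942565437343946083355464280563203342, 39897678892543297018982566521052431895813539750502, 887491369469682309843555134578210074196975736603222, 538488586137527994582571762299570388171285432672782, 515898160292491475120693278607788062756348730157322, 159321603081500402981359064965675182311197815076162, 466416497733902349041102912602386762730629938415662]
/-- codes of powers of `X` -/
def cX2 : ℕ := 602400694678142303153395662769349642402925987
def cX3 : ℕ := 6626407638649321794090863611900866200754845087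
def cX4 : ℕ := 72890484025142539590789571024660238428787333087

/-- the codes of the letters `X, s, X⁻¹, s` -/
def codes2 : List ℕ := [cX, cS2, cXi, cS2]

/-- fifth power -/
def pw5 (a : ℕ) : ℕ := lmul (lmul (lmul a a) (lmul a a)) a
/-- tenth power -/
def pw10 (a : ℕ) : ℕ := lmul (pw5 a) (pw5 a)
/-- nineteenth power -/
def pw19 (a : ℕ) : ℕ :=
  lmul (lmul (lmul (lmul (lmul (lmul a a) (lmul a a)) (lmul (lmul a a) (lmul a a)))
    (lmul (lmul (lmul a a) (lmul a a)) (lmul (lmul a a) (lmul a a)))) (lmul a a)) a

/-- the test: the relations that `s` satisfies with `X` -/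
def test (c : ℕ) : Bool :=
  Nat.beq (pw10 (lmul cX c)) lone && Nat.beq (pw5 (lmul cX2 c)) lone &&
    Nat.beq (pw19 (lmul cX3 c)) lone &&
    Nat.beq (pw10 (lmul (lmul (lmul cX c) (lmul cX2 c)) (lmul cX4 c))) lone

/-- the list of codes of the conjugates of `t` -/
def clL : List ℕ := clCh.flatten.map fun e => e.1

theorem chk_s : cS2 = evalW codes4 wS2 ∧ lmul cS2 cS2 = lone ∧ cS2 ≠ lone := by decide +kernel

theorem chk_Y : evalW codes2 wY = cY := by decide +kernel

theorem chk_n : cN = evalW codes4 wN ∧ cNi = evalW codes4 (invW wN) ∧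
    lmul (lmul cN cX) cNi = powC cX 3 := by decide +kernel

theorem chk_x7 : powC cX 7 = lone ∧ cX ≠ lone := by decide +kernel

theorem chk_x : cX2 = powC cX 2 ∧ cX3 = powC cX 3 ∧ cX4 = powC cX 4 := by decide +kernel

theorem chk_seven : seven =
    (List.range 7).map (fun i => lmul (lmul (powC cX i) cS2) (powC cXi i)) := by decide +kernel

theorem chk_rel : test cS2 = true := by decide +kernel

theorem chk_syl : (sylD2.map fun d => d.1).all (fun c => Nat.beq c lone || clL.contains c) =
    true := by decide +kernel

set_option maxHeartbeats 0 in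
theorem chk_main : clL.all (fun c => !(test c) || seven.contains c) = true := by decide +kernel

end Cfsg.Agent.H9.J1Out
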