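import Mathlib
import Cfsg.Prelude.Def_ClassicalGeometry

set_option autoImplicit false

namespace Cfsg.Agent.H9.Klein6

open Matrix

universe u
variable {F : Type u} [Field F]

/-- the index type -/
abbrev I6 : Type := Fin 3 ⊕ Fin 3

/-- the quadratic form (Pfaffian in Plücker coordinates) -/
def Q6 (v : I6 → F) : F :=
  v (.inl 0) * v (.inr 0) + v (.inl 1) * v (.inr 1) + v (.inl 2) * v (.inr 2)

theorem quadFormPlus_eq (v : I6 → F) : Cfsg.quadFormPlus 3 F v = Q6 v := by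
  simp [Cfsg.quadFormPlus, Q6, Fin.sum_univ_three]

/-- the alternating matrix of a vector -/
def phi (v : I6 → F) : Matrix (Fin 4) (Fin 4) F :=
  !![0, v (.inl 0), v (.inl 1), v (.inl 2);
     -v (.inl 0), 0, v (.inr 2), -v (.inr 1);
     -v (.inl 1), -v (.inr 2), 0, v (.inr 0);
     -v (.inl 2), v (.inr 1), -v (.inr 0), 0]

/-- coordinates of a matrix -/
def psi (M : Matrix (Fin 4) (Fin 4) F) : I6 → F
  | .inl i => if i = 0 then M 0 1 else if i = 1 then M 0 2 else M 0 3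
  | .inr i => if i = 0 then M 2 3 else if i = 1 then -M 1 3 else M 1 2

theorem psi_phi (v : I6 → F) : psi (phi v) = v := by
  funext i
  rcases i with i | i <;> fin_cases i <;> simp [psi, phi]

theorem phi_psi (A : Matrix (Fin 4) (Fin 4) F) (v : I6 → F) :
    phi (psi (A * phi v * Aᵀ)) = A * phi v * Aᵀ := by
  ext i j
  fin_cases i <;> fin_cases j <;>
    simp [phi, psi, Matrix.mul_apply, Fin.sum_univ_four] <;> ring



theorem det_four (A : Matrix (Fin 4) (Fin 4) F) : A.det =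
    A 0 0 * (A 1 1 * (A 2 2 * A 3 3 - A 2 3 * A 3 2) - A 1 2 * (A 2 1 * A 3 3 - A 2 3 * A 3 1)
      + A 1 3 * (A 2 1 * A 3 2 - A 2 2 * A 3 1))
    - A 0 1 * (A 1 0 * (A 2 2 * A 3 3 - A 2 3 * A 3 2) - A 1 2 * (A 2 0 * A 3 3 - A 2 3 * A 3 0)
      + A 1 3 * (A 2 0 * A 3 2 - A 2 2 * A 3 0))
    + A 0 2 * (A 1 0 * (A 2 1 * A 3 3 - A 2 3 * A 3 1) - A 1 1 * (A 2 0 * A 3 3 - A 2 3 * A 3 0)
      + A 1 3 * (A 2 0 * A 3 1 - A 2 1 * A 3 0))
    - A 0 3 * (A 1 0 * (A 2 1 * A 3 2 - A 2 2 * A 3 1) - A 1 1 * (A 2 0 * A 3 2 - A 2 2 * A 3 0)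
      + A 1 2 * (A 2 0 * A 3 1 - A 2 1 * A 3 0)) := by
  rw [Matrix.det_succ_row_zero]
  simp [Fin.sum_univ_succ, Matrix.det_fin_three, Fin.succAbove]
  ring

set_option maxHeartbeats 1600000 in
theorem Q6_act (A : Matrix (Fin 4) (Fin 4) F) (v : I6 → F) :
    Q6 (psi (A * phi v * Aᵀ)) = A.det * Q6 v := by
  rw [det_four]
  simp [Q6, phi, psi, Matrix.mul_apply, Fin.sum_univ_four]
  ring

end Cfsg.Agent.H9.Klein6
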