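import Mathlib
import Cfsg.Agent.H9.Klein6

set_option autoImplicit false

namespace Cfsg.Agent.H9.Klein6

open Matrix

universe u
variable {F : Type u} [Field F]

theorem phi_injective : Function.Injective (phi : (I6 → F) → Matrix (Fin 4) (Fin 4) F) := by
  intro u v h
  rw [← psi_phi u, ← psi_phi v, h]

theorem phi_add (u v : I6 → F) : phi (u + v) = phi u + phi v := by
  ext i j
  fin_cases i <;> fin_cases j <;> simp [phi] <;> ring

theorem phi_smul (c : F) (v : I6 → F) : phi (c • v) = c • phi v := by
  ext i j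
  fin_cases i <;> fin_cases j <;> simp [phi]

/-- the action on vectors -/
def act (A : Matrix (Fin 4) (Fin 4) F) (v : I6 → F) : I6 → F := psi (A * phi v * Aᵀ)

theorem phi_act (A : Matrix (Fin 4) (Fin 4) F) (v : I6 → F) :
    phi (act A v) = A * phi v * Aᵀ := phi_psi A v

theorem act_add (A : Matrix (Fin 4) (Fin 4) F) (u v : I6 → F) :
    act A (u + v) = act A u + act A v := by
  apply phi_injective
  rw [phi_act, phi_add, phi_add, phi_act, phi_act, Matrix.mul_add, Matrix.add_mul]

theorem act_smul (A : Matrix (Fin 4) (Fin 4) F) (c : F) (v : I6 → F) :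
    act A (c • v) = c • act A v := by
  apply phi_injective
  rw [phi_act, phi_smul, phi_smul, phi_act, Matrix.mul_smul, Matrix.smul_mul]

theorem act_mul (A B : Matrix (Fin 4) (Fin 4) F) (v : I6 → F) :
    act (A * B) v = act A (act B v) := by
  apply phi_injective
  rw [phi_act, phi_act, phi_act, Matrix.transpose_mul]
  simp only [Matrix.mul_assoc]

theorem act_one (v : I6 → F) : act (1 : Matrix (Fin 4) (Fin 4) F) v = v := by
  apply phi_injective
  rw [phi_act, Matrix.transpose_one, one_mul, mul_one]

theorem Q6_act' (A : Matrix (Fin 4) (Fin 4) F) (hA : A.det = 1) (v : I6 → F) :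
    Q6 (act A v) = Q6 v := by
  unfold act
  rw [Q6_act, hA, one_mul]

/-- the action as a linear map -/
def Lin (A : Matrix (Fin 4) (Fin 4) F) : (I6 → F) →ₗ[F] (I6 → F) where
  toFun := act A
  map_add' := act_add A
  map_smul' c v := by simp [act_smul]

theorem Lin_apply (A : Matrix (Fin 4) (Fin 4) F) (v : I6 → F) : Lin A v = act A v := rfl

/-- the action as a monoid hom to matrices -/
noncomputable def Rm : Matrix.SpecialLinearGroup (Fin 4) F →* Matrix I6 I6 F where
  toFun A := LinearMap.toMatrix' (Lin A.1)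
  map_one' := by
    have : Lin (1 : Matrix.SpecialLinearGroup (Fin 4) F).1 = LinearMap.id := by
      refine LinearMap.ext fun v => ?_
      simp only [Matrix.SpecialLinearGroup.coe_one, Lin_apply, act_one, LinearMap.id_apply]
    rw [this, LinearMap.toMatrix'_id]
  map_mul' A B := by
    have : Lin (A * B).1 = (Lin A.1).comp (Lin B.1) := by
      refine LinearMap.ext fun v => ?_
      simp only [Matrix.SpecialLinearGroup.coe_mul, Lin_apply, act_mul, LinearMap.comp_apply]
    rw [this, LinearMap.toMatrix'_comp]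

theorem Rm_mulVec (A : Matrix.SpecialLinearGroup (Fin 4) F) (v : I6 → F) :
    Rm A *ᵥ v = act A.1 v := by
  change LinearMap.toMatrix' (Lin A.1) *ᵥ v = _
  rw [← Matrix.toLin'_apply, Matrix.toLin'_toMatrix', Lin_apply]

/-- into `GL₆` -/
noncomputable def R0 : Matrix.SpecialLinearGroup (Fin 4) F →* GL I6 F := Rm.toHomUnits

theorem R0_val (A : Matrix.SpecialLinearGroup (Fin 4) F) : (R0 A).1 = Rm A := rfl

theorem R0_mem (A : Matrix.SpecialLinearGroup (Fin 4) F) :
    R0 A ∈ Cfsg.isometryGroup F (Cfsg.quadFormPlus 3 F) := by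
  intro u _
  change Cfsg.quadFormPlus 3 F ((R0 A).1 *ᵥ u) = Cfsg.quadFormPlus 3 F u
  rw [quadFormPlus_eq, quadFormPlus_eq, R0_val, Rm_mulVec, Q6_act' _ A.2]

/-- the representation in the orthogonal group -/
noncomputable def RO : Matrix.SpecialLinearGroup (Fin 4) F →*
    Cfsg.isometryGroup F (Cfsg.quadFormPlus 3 F) :=
  R0.codRestrict _ R0_mem

theorem RO_mulVec (A : Matrix.SpecialLinearGroup (Fin 4) F) (v : I6 → F) :
    ((RO A).1 : GL I6 F).1 *ᵥ v = act A.1 v := Rm_mulVec A v

local notation "OO" => Cfsg.isometryGroup F (Cfsg.quadFormPlus 3 F)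
local notation "SL4" => Matrix.SpecialLinearGroup (Fin 4) F

theorem RO_eq_one_iff (A : SL4) : (RO A : OO) = 1 ↔ ∀ v, act A.1 v = v := by
  constructor
  · intro h v
    rw [← RO_mulVec, h]
    simp
  · intro h
    apply Subtype.ext
    apply Units.ext
    change (R0 A).1 = 1
    rw [R0_val]
    apply Matrix.toLin'.injective
    refine LinearMap.ext fun v => ?_
    rw [Matrix.toLin'_apply, Rm_mulVec, h, Matrix.toLin'_one, LinearMap.id_apply]

end Cfsg.Agent.H9.Klein6
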