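import Mathlib
import Cfsg.Agent.H9.Klein6b

set_option autoImplicit false
set_option linter.unusedSimpArgs false

namespace Cfsg.Agent.H9.Klein6

open Matrix

universe u
variable {F : Type u} [Field F]

set_option maxHeartbeats 3200000 in
/-- if `A` acts trivially on bivectors then `A = ± 1` -/
theorem eq_pm_one_of_act (A : Matrix (Fin 4) (Fin 4) F) (h : ∀ v, act A v = v) :
    A = 1 ∨ A = -1 := by
  have hm : ∀ c : I6, A * phi (Pi.single c 1) * Aᵀ = phi (Pi.single c 1) := by
    intro c
    rw [← phi_act, h]
  have a01_1 : A 0 1 * A 1 2 - A 0 2 * A 1 1 = 0 := by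
    have h := congrFun (congrFun (hm (Sum.inr 2)) 0) 1
    simp [phi, Matrix.mul_apply, Fin.sum_univ_four] at h
    first | linear_combination h | linear_combination -h
  have a01_2 : A 0 1 * A 2 2 - A 0 2 * A 2 1 = 0 := by
    have h := congrFun (congrFun (hm (Sum.inr 2)) 0) 2
    simp [phi, Matrix.mul_apply, Fin.sum_univ_four] at h
    first | linear_combination h | linear_combination -h
  have a01_3 : A 1 1 * A 2 2 - A 1 2 * A 2 1 = 1 := by
    have h := congrFun (congrFun (hm (Sum.inr 2)) 1) 2
    simp [phi, Matrix.mul_apply, Fin.sum_univ_four] at h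
    first | linear_combination h | linear_combination -h
  have z01 : A 0 1 = 0 := by
    linear_combination -(A 0 1) * a01_3 + (A 1 1) * a01_2 - (A 2 1) * a01_1
  have a02_1 : A 0 2 * A 2 1 - A 0 1 * A 2 2 = 0 := by
    have h := congrFun (congrFun (hm (Sum.inr 2)) 0) 2
    simp [phi, Matrix.mul_apply, Fin.sum_univ_four] at h
    first | linear_combination h | linear_combination -h
  have a02_2 : A 0 2 * A 1 1 - A 0 1 * A 1 2 = 0 := by
    have h := congrFun (congrFun (hm (Sum.inr 2)) 0) 1
    simp [phi, Matrix.mul_apply, Fin.sum_univ_four] at h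
    first | linear_combination h | linear_combination -h
  have a02_3 : A 2 2 * A 1 1 - A 2 1 * A 1 2 = 1 := by
    have h := congrFun (congrFun (hm (Sum.inr 2)) 2) 1
    simp [phi, Matrix.mul_apply, Fin.sum_univ_four] at h
    first | linear_combination h | linear_combination -h
  have z02 : A 0 2 = 0 := by
    linear_combination -(A 0 2) * a02_3 + (A 2 2) * a02_2 - (A 1 2) * a02_1
  have a03_1 : A 0 3 * A 3 1 - A 0 1 * A 3 3 = 0 := by
    have h := congrFun (congrFun (hm (Sum.inr 1)) 0) 3
    simp [phi, Matrix.mul_apply, Fin.sum_univ_four] at h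
    first | linear_combination h | linear_combination -h
  have a03_2 : A 0 3 * A 1 1 - A 0 1 * A 1 3 = 0 := by
    have h := congrFun (congrFun (hm (Sum.inr 1)) 0) 1
    simp [phi, Matrix.mul_apply, Fin.sum_univ_four] at h
    first | linear_combination h | linear_combination -h
  have a03_3 : A 3 3 * A 1 1 - A 3 1 * A 1 3 = 1 := by
    have h := congrFun (congrFun (hm (Sum.inr 1)) 3) 1
    simp [phi, Matrix.mul_apply, Fin.sum_univ_four] at h
    first | linear_combination h | linear_combination -h
  have z03 : A 0 3 = 0 := by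
    linear_combination -(A 0 3) * a03_3 + (A 3 3) * a03_2 - (A 1 3) * a03_1
  have a10_1 : A 1 0 * A 0 2 - A 1 2 * A 0 0 = 0 := by
    have h := congrFun (congrFun (hm (Sum.inl 1)) 1) 0
    simp [phi, Matrix.mul_apply, Fin.sum_univ_four] at h
    first | linear_combination h | linear_combination -h
  have a10_2 : A 1 0 * A 2 2 - A 1 2 * A 2 0 = 0 := by
    have h := congrFun (congrFun (hm (Sum.inl 1)) 1) 2
    simp [phi, Matrix.mul_apply, Fin.sum_univ_four] at h
    first | linear_combination h | linear_combination -h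
  have a10_3 : A 0 0 * A 2 2 - A 0 2 * A 2 0 = 1 := by
    have h := congrFun (congrFun (hm (Sum.inl 1)) 0) 2
    simp [phi, Matrix.mul_apply, Fin.sum_univ_four] at h
    first | linear_combination h | linear_combination -h
  have z10 : A 1 0 = 0 := by
    linear_combination -(A 1 0) * a10_3 + (A 0 0) * a10_2 - (A 2 0) * a10_1
  have a12_1 : A 1 2 * A 2 0 - A 1 0 * A 2 2 = 0 := by
    have h := congrFun (congrFun (hm (Sum.inl 1)) 1) 2
    simp [phi, Matrix.mul_apply, Fin.sum_univ_four] at h
    first | linear_combination h | linear_combination -h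
  have a12_2 : A 1 2 * A 0 0 - A 1 0 * A 0 2 = 0 := by
    have h := congrFun (congrFun (hm (Sum.inl 1)) 1) 0
    simp [phi, Matrix.mul_apply, Fin.sum_univ_four] at h
    first | linear_combination h | linear_combination -h
  have a12_3 : A 2 2 * A 0 0 - A 2 0 * A 0 2 = 1 := by
    have h := congrFun (congrFun (hm (Sum.inl 1)) 2) 0
    simp [phi, Matrix.mul_apply, Fin.sum_univ_four] at h
    first | linear_combination h | linear_combination -h
  have z12 : A 1 2 = 0 := by
    linear_combination -(A 1 2) * a12_3 + (A 2 2) * a12_2 - (A 0 2) * a12_1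
  have a13_1 : A 1 3 * A 3 0 - A 1 0 * A 3 3 = 0 := by
    have h := congrFun (congrFun (hm (Sum.inl 2)) 1) 3
    simp [phi, Matrix.mul_apply, Fin.sum_univ_four] at h
    first | linear_combination h | linear_combination -h
  have a13_2 : A 1 3 * A 0 0 - A 1 0 * A 0 3 = 0 := by
    have h := congrFun (congrFun (hm (Sum.inl 2)) 1) 0
    simp [phi, Matrix.mul_apply, Fin.sum_univ_four] at h
    first | linear_combination h | linear_combination -h
  have a13_3 : A 3 3 * A 0 0 - A 3 0 * A 0 3 = 1 := by
    have h := congrFun (congrFun (hm (Sum.inl 2)) 3) 0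
    simp [phi, Matrix.mul_apply, Fin.sum_univ_four] at h
    first | linear_combination h | linear_combination -h
  have z13 : A 1 3 = 0 := by
    linear_combination -(A 1 3) * a13_3 + (A 3 3) * a13_2 - (A 0 3) * a13_1
  have a20_1 : A 2 0 * A 0 1 - A 2 1 * A 0 0 = 0 := by
    have h := congrFun (congrFun (hm (Sum.inl 0)) 2) 0
    simp [phi, Matrix.mul_apply, Fin.sum_univ_four] at h
    first | linear_combination h | linear_combination -h
  have a20_2 : A 2 0 * A 1 1 - A 2 1 * A 1 0 = 0 := by
    have h := congrFun (congrFun (hm (Sum.inl 0)) 2) 1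
    simp [phi, Matrix.mul_apply, Fin.sum_univ_four] at h
    first | linear_combination h | linear_combination -h
  have a20_3 : A 0 0 * A 1 1 - A 0 1 * A 1 0 = 1 := by
    have h := congrFun (congrFun (hm (Sum.inl 0)) 0) 1
    simp [phi, Matrix.mul_apply, Fin.sum_univ_four] at h
    first | linear_combination h | linear_combination -h
  have z20 : A 2 0 = 0 := by
    linear_combination -(A 2 0) * a20_3 + (A 0 0) * a20_2 - (A 1 0) * a20_1
  have a21_1 : A 2 1 * A 1 0 - A 2 0 * A 1 1 = 0 := by
    have h := congrFun (congrFun (hm (Sum.inl 0)) 2) 1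
    simp [phi, Matrix.mul_apply, Fin.sum_univ_four] at h
    first | linear_combination h | linear_combination -h
  have a21_2 : A 2 1 * A 0 0 - A 2 0 * A 0 1 = 0 := by
    have h := congrFun (congrFun (hm (Sum.inl 0)) 2) 0
    simp [phi, Matrix.mul_apply, Fin.sum_univ_four] at h
    first | linear_combination h | linear_combination -h
  have a21_3 : A 1 1 * A 0 0 - A 1 0 * A 0 1 = 1 := by
    have h := congrFun (congrFun (hm (Sum.inl 0)) 1) 0
    simp [phi, Matrix.mul_apply, Fin.sum_univ_four] at h
    first | linear_combination h | linear_combination -h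
  have z21 : A 2 1 = 0 := by
    linear_combination -(A 2 1) * a21_3 + (A 1 1) * a21_2 - (A 0 1) * a21_1
  have a23_1 : A 2 3 * A 3 0 - A 2 0 * A 3 3 = 0 := by
    have h := congrFun (congrFun (hm (Sum.inl 2)) 2) 3
    simp [phi, Matrix.mul_apply, Fin.sum_univ_four] at h
    first | linear_combination h | linear_combination -h
  have a23_2 : A 2 3 * A 0 0 - A 2 0 * A 0 3 = 0 := by
    have h := congrFun (congrFun (hm (Sum.inl 2)) 2) 0
    simp [phi, Matrix.mul_apply, Fin.sum_univ_four] at h
    first | linear_combination h | linear_combination -h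
  have a23_3 : A 3 3 * A 0 0 - A 3 0 * A 0 3 = 1 := by
    have h := congrFun (congrFun (hm (Sum.inl 2)) 3) 0
    simp [phi, Matrix.mul_apply, Fin.sum_univ_four] at h
    first | linear_combination h | linear_combination -h
  have z23 : A 2 3 = 0 := by
    linear_combination -(A 2 3) * a23_3 + (A 3 3) * a23_2 - (A 0 3) * a23_1
  have a30_1 : A 3 0 * A 0 1 - A 3 1 * A 0 0 = 0 := by
    have h := congrFun (congrFun (hm (Sum.inl 0)) 3) 0
    simp [phi, Matrix.mul_apply, Fin.sum_univ_four] at h
    first | linear_combination h | linear_combination -h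
  have a30_2 : A 3 0 * A 1 1 - A 3 1 * A 1 0 = 0 := by
    have h := congrFun (congrFun (hm (Sum.inl 0)) 3) 1
    simp [phi, Matrix.mul_apply, Fin.sum_univ_four] at h
    first | linear_combination h | linear_combination -h
  have a30_3 : A 0 0 * A 1 1 - A 0 1 * A 1 0 = 1 := by
    have h := congrFun (congrFun (hm (Sum.inl 0)) 0) 1
    simp [phi, Matrix.mul_apply, Fin.sum_univ_four] at h
    first | linear_combination h | linear_combination -h
  have z30 : A 3 0 = 0 := by
    linear_combination -(A 3 0) * a30_3 + (A 0 0) * a30_2 - (A 1 0) * a30_1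
  have a31_1 : A 3 1 * A 1 0 - A 3 0 * A 1 1 = 0 := by
    have h := congrFun (congrFun (hm (Sum.inl 0)) 3) 1
    simp [phi, Matrix.mul_apply, Fin.sum_univ_four] at h
    first | linear_combination h | linear_combination -h
  have a31_2 : A 3 1 * A 0 0 - A 3 0 * A 0 1 = 0 := by
    have h := congrFun (congrFun (hm (Sum.inl 0)) 3) 0
    simp [phi, Matrix.mul_apply, Fin.sum_univ_four] at h
    first | linear_combination h | linear_combination -h
  have a31_3 : A 1 1 * A 0 0 - A 1 0 * A 0 1 = 1 := by
    have h := congrFun (congrFun (hm (Sum.inl 0)) 1) 0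
    simp [phi, Matrix.mul_apply, Fin.sum_univ_four] at h
    first | linear_combination h | linear_combination -h
  have z31 : A 3 1 = 0 := by
    linear_combination -(A 3 1) * a31_3 + (A 1 1) * a31_2 - (A 0 1) * a31_1
  have a32_1 : A 3 2 * A 2 0 - A 3 0 * A 2 2 = 0 := by
    have h := congrFun (congrFun (hm (Sum.inl 1)) 3) 2
    simp [phi, Matrix.mul_apply, Fin.sum_univ_four] at h
    first | linear_combination h | linear_combination -h
  have a32_2 : A 3 2 * A 0 0 - A 3 0 * A 0 2 = 0 := by
    have h := congrFun (congrFun (hm (Sum.inl 1)) 3) 0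
    simp [phi, Matrix.mul_apply, Fin.sum_univ_four] at h
    first | linear_combination h | linear_combination -h
  have a32_3 : A 2 2 * A 0 0 - A 2 0 * A 0 2 = 1 := by
    have h := congrFun (congrFun (hm (Sum.inl 1)) 2) 0
    simp [phi, Matrix.mul_apply, Fin.sum_univ_four] at h
    first | linear_combination h | linear_combination -h
  have z32 : A 3 2 = 0 := by
    linear_combination -(A 3 2) * a32_3 + (A 2 2) * a32_2 - (A 0 2) * a32_1

  have d01 : A 0 0 * A 1 1 = 1 := by
    have h := congrFun (congrFun (hm (Sum.inl 0)) 0) 1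
    simp [phi, Matrix.mul_apply, Fin.sum_univ_four, z01, z02, z03, z10, z12, z13, z20, z21, z23, z30, z31, z32] at h
    first | linear_combination h | linear_combination -h
  have d02 : A 0 0 * A 2 2 = 1 := by
    have h := congrFun (congrFun (hm (Sum.inl 1)) 0) 2
    simp [phi, Matrix.mul_apply, Fin.sum_univ_four, z01, z02, z03, z10, z12, z13, z20, z21, z23, z30, z31, z32] at h
    first | linear_combination h | linear_combination -h
  have d03 : A 0 0 * A 3 3 = 1 := by
    have h := congrFun (congrFun (hm (Sum.inl 2)) 0) 3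
    simp [phi, Matrix.mul_apply, Fin.sum_univ_four, z01, z02, z03, z10, z12, z13, z20, z21, z23, z30, z31, z32] at h
    first | linear_combination h | linear_combination -h
  have d23 : A 2 2 * A 3 3 = 1 := by
    have h := congrFun (congrFun (hm (Sum.inr 0)) 2) 3
    simp [phi, Matrix.mul_apply, Fin.sum_univ_four, z01, z02, z03, z10, z12, z13, z20, z21, z23, z30, z31, z32] at h
    first | linear_combination h | linear_combination -h
  have d13 : A 1 1 * A 3 3 = 1 := by
    have h := congrFun (congrFun (hm (Sum.inr 1)) 1) 3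
    simp [phi, Matrix.mul_apply, Fin.sum_univ_four, z01, z02, z03, z10, z12, z13, z20, z21, z23, z30, z31, z32] at h
    first | linear_combination h | linear_combination -h
  have d12 : A 1 1 * A 2 2 = 1 := by
    have h := congrFun (congrFun (hm (Sum.inr 2)) 1) 2
    simp [phi, Matrix.mul_apply, Fin.sum_univ_four, z01, z02, z03, z10, z12, z13, z20, z21, z23, z30, z31, z32] at h
    first | linear_combination h | linear_combination -h

  have h00 : A 0 0 ≠ 0 := left_ne_zero_of_mul_eq_one d01
  have h11 : A 1 1 ≠ 0 := right_ne_zero_of_mul_eq_one d01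
  have e12 : A 1 1 = A 2 2 := by
    apply mul_left_cancel₀ h00
    rw [d01, d02]
  have e13 : A 1 1 = A 3 3 := by
    apply mul_left_cancel₀ h00
    rw [d01, d03]
  have e02 : A 0 0 = A 2 2 := by
    apply mul_right_cancel₀ h11
    rw [d01, mul_comm, d12]
  have hsq : (A 0 0 - 1) * (A 0 0 + 1) = 0 := by
    have : A 0 0 * A 0 0 = 1 := by
      have := d02
      rw [← e02] at this
      exact this
    linear_combination this
  have e01 : A 1 1 = A 0 0 := by rw [e12, ← e02]
  rcases mul_eq_zero.1 hsq with h' | h'
  · left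
    have ha : A 0 0 = 1 := sub_eq_zero.1 h'
    have h1 : A 1 1 = 1 := by rw [e01, ha]
    have h2 : A 2 2 = 1 := by rw [← e12, h1]
    have h3 : A 3 3 = 1 := by rw [← e13, h1]
    ext i j
    fin_cases i <;> fin_cases j <;> simp [ha, h1, h2, h3, z01, z02, z03, z10, z12, z13, z20, z21, z23, z30, z31, z32]
  · right
    have ha : A 0 0 = -1 := eq_neg_of_add_eq_zero_left h'
    have h1 : A 1 1 = -1 := by rw [e01, ha]
    have h2 : A 2 2 = -1 := by rw [← e12, h1]
    have h3 : A 3 3 = -1 := by rw [← e13, h1]
    ext i j
    fin_cases i <;> fin_cases j <;> simp [ha, h1, h2, h3, z01, z02, z03, z10, z12, z13, z20, z21, z23, z30, z31, z32]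

end Cfsg.Agent.H9.Klein6
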