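import Mathlib
import Cfsg.Agent.H9.Klein6c

set_option autoImplicit false

namespace Cfsg.Agent.H9.Klein6

open Matrix
open scoped commutatorElement

universe u
variable {F : Type u} [Field F]

local notation "OO" => Cfsg.isometryGroup F (Cfsg.quadFormPlus 3 F)
local notation "SL4" => Matrix.SpecialLinearGroup (Fin 4) F

theorem act_neg_one (v : I6 → F) : act (-1 : Matrix (Fin 4) (Fin 4) F) v = v := by
  apply phi_injective
  rw [phi_act]
  simp

theorem mem_ker_iff (A : SL4) : A ∈ (RO : SL4 →* OO).ker ↔ A.1 = 1 ∨ A.1 = -1 := by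
  rw [MonoidHom.mem_ker, RO_eq_one_iff]
  constructor
  · exact eq_pm_one_of_act A.1
  · rintro (h | h) v
    · rw [h, act_one]
    · rw [h, act_neg_one]

/-- swapping the first hyperbolic pair -/
def swM : Matrix I6 I6 F := (Equiv.swap (Sum.inl 0 : I6) (Sum.inr 0)).permMatrix F

theorem swM_sq : (swM : Matrix I6 I6 F) * swM = 1 := by
  unfold swM
  rw [← Matrix.permMatrix_mul]
  simp

theorem det_swM : (swM : Matrix I6 I6 F).det = -1 := by
  unfold swM
  rw [Matrix.det_permutation, Equiv.Perm.sign_swap (by decide)]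
  simp

theorem Q6_swM (v : I6 → F) : Q6 (swM *ᵥ v) = Q6 v := by
  unfold swM
  rw [Matrix.permMatrix_mulVec]
  have h1 : Equiv.swap (Sum.inl 0 : I6) (Sum.inr 0) (Sum.inl 0) = Sum.inr 0 :=
    Equiv.swap_apply_left _ _
  have h2 : Equiv.swap (Sum.inl 0 : I6) (Sum.inr 0) (Sum.inr 0) = Sum.inl 0 :=
    Equiv.swap_apply_right _ _
  have h3 : Equiv.swap (Sum.inl 0 : I6) (Sum.inr 0) (Sum.inl 1) = Sum.inl 1 :=
    Equiv.swap_apply_of_ne_of_ne (by decide) (by decide)
  have h4 : Equiv.swap (Sum.inl 0 : I6) (Sum.inr 0) (Sum.inr 1) = Sum.inr 1 :=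
    Equiv.swap_apply_of_ne_of_ne (by decide) (by decide)
  have h5 : Equiv.swap (Sum.inl 0 : I6) (Sum.inr 0) (Sum.inl 2) = Sum.inl 2 :=
    Equiv.swap_apply_of_ne_of_ne (by decide) (by decide)
  have h6 : Equiv.swap (Sum.inl 0 : I6) (Sum.inr 0) (Sum.inr 2) = Sum.inr 2 :=
    Equiv.swap_apply_of_ne_of_ne (by decide) (by decide)
  simp only [Q6, Function.comp_apply, h1, h2, h3, h4, h5, h6]
  ring

/-- the swap as an isometry -/
def sw : OO := ⟨⟨swM, swM, swM_sq, swM_sq⟩, by
  intro u _
  change Cfsg.quadFormPlus 3 F (swM *ᵥ u) = Cfsg.quadFormPlus 3 F u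
  rw [quadFormPlus_eq, quadFormPlus_eq, Q6_swM]⟩

theorem commutator_ne_top (h2 : (2 : F) ≠ 0) : commutator OO ≠ ⊤ := by
  intro h
  let d : OO →* Fˣ := Matrix.GeneralLinearGroup.det.comp (Subgroup.subtype _)
  have hle : commutator OO ≤ d.ker := Abelianization.commutator_subset_ker d
  rw [h] at hle
  have hsw : (sw : OO) ∈ d.ker := hle (Subgroup.mem_top _)
  rw [MonoidHom.mem_ker] at hsw
  have h1 := congrArg Units.val hsw
  rw [show d sw = Matrix.GeneralLinearGroup.det (sw : OO).1 from rfl,
    Matrix.GeneralLinearGroup.val_det_apply,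
    show (((sw : OO).1 : Matrix.GeneralLinearGroup I6 F) : Matrix I6 I6 F) = swM from rfl,
    det_swM, Units.val_one] at h1
  apply h2
  linear_combination -h1

/-- the kernel has at most two elements, and only one in characteristic two -/
theorem card_ker [Finite F] : Nat.card (RO : SL4 →* OO).ker = 1 ∨
    (Nat.card (RO : SL4 →* OO).ker = 2 ∧ (2 : F) ≠ 0) := by
  classical
  by_cases h2 : (2 : F) = 0
  · left
    have hneg : (-1 : Matrix (Fin 4) (Fin 4) F) = 1 := by
      have : (-1 : F) = 1 := by linear_combination -h2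
      ext i j
      simp [Matrix.one_apply]
      split_ifs <;> simp [this]
    have : (RO : SL4 →* OO).ker = ⊥ := by
      rw [eq_bot_iff]
      intro A hA
      rw [Subgroup.mem_bot]
      rw [mem_ker_iff, hneg, or_self] at hA
      exact Subtype.ext hA
    rw [this, Subgroup.card_bot]
  · right
    refine ⟨?_, h2⟩
    have hne : (-1 : Matrix (Fin 4) (Fin 4) F) ≠ 1 := by
      intro h
      have := congrFun (congrFun h 0) 0
      simp at this
      apply h2
      linear_combination -this
    have hdet : (-1 : Matrix (Fin 4) (Fin 4) F).det = 1 := by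
      rw [Matrix.det_neg, Matrix.det_one]
      simp
      norm_num
    let m : SL4 := ⟨-1, hdet⟩
    have hm : m ∈ (RO : SL4 →* OO).ker := (mem_ker_iff m).2 (Or.inr rfl)
    have hm1 : m ≠ 1 := by
      intro h
      exact hne (congrArg Subtype.val h)
    have hall : ∀ x : (RO : SL4 →* OO).ker, x = 1 ∨ x = ⟨m, hm⟩ := by
      rintro ⟨A, hA⟩
      rcases (mem_ker_iff A).1 hA with h | h
      · left
        exact Subtype.ext (Subtype.ext h)
      · right
        exact Subtype.ext (Subtype.ext h)
    have hfin : Finite (RO : SL4 →* OO).ker := inferInstance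
    have : Fintype (RO : SL4 →* OO).ker := Fintype.ofFinite _
    rw [Nat.card_eq_fintype_card]
    have huniv : (Finset.univ : Finset (RO : SL4 →* OO).ker) = {1, ⟨m, hm⟩} := by
      ext x
      simp only [Finset.mem_univ, Finset.mem_insert, Finset.mem_singleton, true_iff]
      exact hall x
    rw [← Finset.card_univ, huniv, Finset.card_pair]
    intro h
    exact hm1 (congrArg Subtype.val h).symm

end Cfsg.Agent.H9.Klein6
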