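import Mathlib

set_option autoImplicit false

namespace Cfsg.Agent.H9.PerfIdx

open scoped commutatorElement

/-- a perfect subgroup lies in the commutator subgroup -/
theorem le_commutator {G : Type*} [Group G] (S : Subgroup G) (hS : ⁅S, S⁆ = S) :
    S ≤ commutator G := by
  rw [commutator_def, ← hS]
  exact Subgroup.commutator_mono le_top le_top

/-- a perfect subgroup of index two or four of a finite group which is not perfect is the
commutator subgroup -/
theorem commutator_eq {G : Type*} [Group G] [Finite G] (S : Subgroup G) (hS : ⁅S, S⁆ = S)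
    (hidx : S.index = 2 ∨ S.index = 4) (hG : S.index = 4 → commutator G ≠ ⊤) : commutator G = S := by
  have hle := le_commutator S hS
  -- the case of index two
  have htwo : S.index = 2 → commutator G ≤ S := by
    intro h2
    have hn : S.Normal := Subgroup.normal_of_index_eq_two h2
    have hq : Nat.card (G ⧸ S) = 2 := by rw [← Subgroup.index_eq_card]; exact h2
    have : Fact (Nat.Prime 2) := ⟨Nat.prime_two⟩
    have hcyc : IsCyclic (G ⧸ S) := isCyclic_of_prime_card hq
    rw [commutator_def, Subgroup.commutator_le]
    intro x _ y _
    have h := (IsCyclic.commGroup (α := G ⧸ S)).mul_comm (QuotientGroup.mk x) (QuotientGroup.mk y)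
    have h' : (QuotientGroup.mk (⁅x, y⁆) : G ⧸ S) = 1 := by
      rw [commutatorElement_def, QuotientGroup.mk_mul, QuotientGroup.mk_mul, QuotientGroup.mk_mul,
        QuotientGroup.mk_inv, QuotientGroup.mk_inv, h]
      group
    exact (QuotientGroup.eq_one_iff _).1 h'
  rcases hidx with h2 | h4
  · exact le_antisymm (htwo h2) hle
  have hidx : S.index = 2 ∨ S.index = 4 := Or.inr h4
  have hG := hG h4
  set P := commutator G with hP
  have hmul := Subgroup.relIndex_mul_index hle
  have hPi : P.index ≠ 1 := by
    intro h
    exact hG (Subgroup.index_eq_one.1 h)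
  have hPpos : P.index ≠ 0 := Subgroup.index_ne_zero_of_finite
  -- it suffices to show the relative index is one
  suffices h1 : S.relIndex P = 1 by
    exact le_antisymm (Subgroup.relIndex_eq_one.1 h1) hle
  have hcases : S.relIndex P = 1 ∨ S.relIndex P = 2 := by
    rcases hidx with h | h
    · rw [h] at hmul
      have hd : P.index ∣ 2 := Dvd.intro_left _ hmul
      rcases (Nat.dvd_prime Nat.prime_two).1 hd with h' | h'
      · exact absurd h' hPi
      · rw [h'] at hmul
        left; omega
    · rw [h] at hmul
      have hd : P.index ∣ 4 := Dvd.intro_left _ hmul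
      have : P.index ≤ 4 := Nat.le_of_dvd (by norm_num) hd
      interval_cases hPidx : P.index
      · omega
      · right; omega
      · omega
      · left; omega
      · left; omega
  rcases hcases with h1 | h2
  · exact h1
  · exfalso
    -- S has index two in P, so is normal in P with abelian quotient; hence ⁅P,P⁆ ≤ S
    have hnorm : (S.subgroupOf P).Normal := Subgroup.normal_of_index_eq_two h2
    have hPP : ⁅P, P⁆ ≤ S := by
      have hq : Nat.card (P ⧸ S.subgroupOf P) = 2 := by
        rw [← Subgroup.index_eq_card]; exact h2
      have hcomm : ∀ a b : P ⧸ S.subgroupOf P, a * b = b * a := by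
        have : Fact (Nat.Prime 2) := ⟨Nat.prime_two⟩
        have : IsCyclic (P ⧸ S.subgroupOf P) := isCyclic_of_prime_card hq
        intro a b
        exact (IsCyclic.commGroup (α := P ⧸ S.subgroupOf P)).mul_comm a b
      rw [Subgroup.commutator_le]
      intro x hx y hy
      have h := hcomm (QuotientGroup.mk ⟨x, hx⟩) (QuotientGroup.mk ⟨y, hy⟩)
      have h' : (QuotientGroup.mk (⁅(⟨x, hx⟩ : P), ⟨y, hy⟩⁆) : P ⧸ S.subgroupOf P) = 1 := by
        rw [commutatorElement_def, QuotientGroup.mk_mul, QuotientGroup.mk_mul, QuotientGroup.mk_mul,
          QuotientGroup.mk_inv, QuotientGroup.mk_inv, h]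
        group
      rw [QuotientGroup.eq_one_iff] at h'
      exact h'
    have hSeq : S = ⁅P, P⁆ := by
      apply le_antisymm
      · rw [← hS]
        exact Subgroup.commutator_mono hle hle
      · exact hPP
    have hSn : S.Normal := by
      rw [hSeq]
      have : P.Normal := by rw [hP]; infer_instance
      infer_instance
    -- G / S has order four, hence is abelian
    have h4 : S.index = 4 := by
      rcases hidx with h | h
      · rw [h, h2] at hmul
        have : P.index = 1 := by omega
        exact absurd this hPi
      · exact h
    have hq4 : Nat.card (G ⧸ S) = 2 ^ 2 := by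
      rw [← Subgroup.index_eq_card, h4]; norm_num
    have : Fact (Nat.Prime 2) := ⟨Nat.prime_two⟩
    have hmc := IsPGroup.isMulCommutative_of_card_eq_prime_sq hq4
    have hcomm : ∀ a b : G ⧸ S, a * b = b * a := fun a b => hmc.is_comm.comm a b
    have hPS : P ≤ S := by
      rw [hP, commutator_def, Subgroup.commutator_le]
      intro x _ y _
      have h := hcomm (QuotientGroup.mk x) (QuotientGroup.mk y)
      have h' : (QuotientGroup.mk (⁅x, y⁆) : G ⧸ S) = 1 := by
        rw [commutatorElement_def, QuotientGroup.mk_mul, QuotientGroup.mk_mul, QuotientGroup.mk_mul,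
          QuotientGroup.mk_inv, QuotientGroup.mk_inv, h]
        group
      exact (QuotientGroup.eq_one_iff _).1 h'
    have := Subgroup.relIndex_eq_one.2 hPS
    omega

end Cfsg.Agent.H9.PerfIdx
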