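import Mathlib
import Cfsg.Agent.H9.Klein6d
import Cfsg.Agent.H9.PerfIdx
import Cfsg.Agent.S0287
import Cfsg.Agent.S0242
import Cfsg.Agent.S0248

set_option autoImplicit false

namespace Cfsg.Agent.H9.Klein6

open Matrix
open scoped commutatorElement

universe u
variable {F : Type u} [Field F] [Fintype F]

local notation "OO" => Cfsg.isometryGroup F (Cfsg.quadFormPlus 3 F)
local notation "SL4" => Matrix.SpecialLinearGroup (Fin 4) F

theorem card_OO_eq : Nat.card OO = 2 * Nat.card SL4 := by
  classical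
  set q := Fintype.card F with hq
  have hq2 : 2 ≤ q := Fintype.one_lt_card
  have hO := Cfsg.Agent.S0287.result (F := F) (q := q) rfl 3 (by norm_num)
  have hS := Cfsg.Agent.S0242.result (F := F) (q := q) rfl 4 (by norm_num)
  rw [Fin.prod_univ_four] at hS
  simp only [Fin.val_zero, Fin.val_one, Fin.val_two, pow_zero, pow_one] at hS
  have h3 : ((3 : Fin 4) : ℕ) = 3 := rfl
  rw [h3] at hS
  have e1 : q ^ 4 - q = q * (q ^ 3 - 1) := by
    rw [Nat.mul_sub_one]; ring_nf
  have e2 : q ^ 4 - q ^ 2 = q ^ 2 * (q ^ 2 - 1) := by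
    rw [Nat.mul_sub_one]; ring_nf
  have e3 : q ^ 4 - q ^ 3 = q ^ 3 * (q - 1) := by
    rw [Nat.mul_sub_one]; ring_nf
  rw [e1, e2, e3] at hS
  have hO' : Nat.card OO = 2 * q ^ 6 * (q ^ 3 - 1) * ((q ^ 2 - 1) * (q ^ 4 - 1)) := by
    rw [hO]
    simp [Finset.prod_range_succ]
  have hpos : 0 < q - 1 := by omega
  apply Nat.eq_of_mul_eq_mul_left hpos
  rw [hO']
  have : (q - 1) * (2 * Nat.card SL4) = 2 * ((q - 1) * Nat.card SL4) := by ring
  rw [this, hS]
  ring

theorem index_range : (RO : SL4 →* OO).range.index = 2 * Nat.card (RO : SL4 →* OO).ker := by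
  have h1 := Subgroup.card_mul_index (RO : SL4 →* OO).range
  have h2 := Subgroup.card_mul_index (RO : SL4 →* OO).ker
  rw [Subgroup.index_ker] at h2
  rw [card_OO_eq, ← h2] at h1
  have hpos : 0 < Nat.card (RO : SL4 →* OO).range := Nat.card_pos
  apply Nat.eq_of_mul_eq_mul_left hpos
  rw [h1]; ring

theorem perfect_range : ⁅(RO : SL4 →* OO).range, (RO : SL4 →* OO).range⁆ = (RO : SL4 →* OO).range := by
  have hperf : commutator SL4 = ⊤ := Cfsg.Agent.S0248.result 4 (by norm_num)
  rw [MonoidHom.range_eq_map, ← Subgroup.map_commutator, ← commutator_def, hperf]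

theorem Omega_eq_range : Cfsg.Omega F (Cfsg.quadFormPlus 3 F) = (RO : SL4 →* OO).range := by
  have hidx : (RO : SL4 →* OO).range.index = 2 ∨ (RO : SL4 →* OO).range.index = 4 := by
    rw [index_range]
    rcases card_ker (F := F) with h | ⟨h, -⟩ <;> rw [h]
    · left; rfl
    · right; rfl
  exact Cfsg.Agent.H9.PerfIdx.commutator_eq _ perfect_range hidx (by
    intro h4
    rw [index_range] at h4
    rcases card_ker (F := F) with h | ⟨-, h⟩
    · rw [h] at h4; omega
    · exact commutator_ne_top h)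

end Cfsg.Agent.H9.Klein6
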