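import Cfsg.Agent.H9.LESAP2a
import Cfsg.Agent.H1.LESAFix

/-!
# S5428 piece (P2): `z^g` is conjugate to `z` in `⟨C_Q(A), C_{Q^g}(A)⟩`.  Verbatim stub signature
from `notes/S5428_stubs.lean.txt`, declared in helper1's namespace `Cfsg.Agent.H1.LESA`.
-/

set_option autoImplicit false
set_option linter.unusedVariables false

namespace Cfsg.Agent.H1.LESA

open Cfsg.Agent.Lead.ES2 Cfsg.Agent.Lead.LargeES

/-- (P2) conclusion (3): `z^g` is conjugate to `z` in `⟨C_Q(A), C_{Q^g}(A)⟩`. -/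
theorem exists_conj {G : Type*} [Group G] [Finite G] {Q : Subgroup G} {z : G} (z₀ : ↥Q)
    (hz₀ : (z₀ : G) = z) (hes : ES z₀) (hQ : LES Q z) (hcard : 32 ≤ Nat.card ↥Q)
    (A : Subgroup G) (hAodd : Odd (Nat.card ↥A)) (hAz : ∀ a ∈ A, a * z = z * a)
    (g : G) (htQ : g * z * g⁻¹ ∈ Q) (htA : ∀ a ∈ A, a * (g * z * g⁻¹) = (g * z * g⁻¹) * a)
    (htz : g * z * g⁻¹ ≠ z) :
    ∃ x ∈ (Q ⊓ Subgroup.centralizer (A : Set G)) ⊔
        (Q.map (MulAut.conj g).toMonoidHom ⊓ Subgroup.centralizer (A : Set G)),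
      x * (g * z * g⁻¹) * x⁻¹ = z := by
  apply exists_conj_aux z₀ hz₀ hes hQ hcard A hAz g htQ htA htz
  · intro h
    exact fixed_center hQ A hAodd hAz (g * z * g⁻¹) htQ htA h
  · intro hzY h
    exact fixed_center (hQ.conj g) A hAodd htA z hzY hAz h

end Cfsg.Agent.H1.LESA
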