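import Cfsg.Agent.Lib.Lead.LargeES

/-!
# S5428 piece (P2), core argument.  The two instances of (P1) `fixed_center` that are needed are
taken as hypotheses here; the verbatim stub `exists_conj` is assembled in `LESAP2.lean`.
-/

set_option autoImplicit false
set_option linter.unusedVariables false

namespace Cfsg.Agent.H1.LESA

open Cfsg.Agent.Lead.ES2 Cfsg.Agent.Lead.LargeES

theorem exists_conj_aux {G : Type*} [Group G] [Finite G] {Q : Subgroup G} {z : G} (z₀ : ↥Q)
    (hz₀ : (z₀ : G) = z) (hes : ES z₀) (hQ : LES Q z) (hcard : 32 ≤ Nat.card ↥Q)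
    (A : Subgroup G) (hAz : ∀ a ∈ A, a * z = z * a)
    (g : G) (htQ : g * z * g⁻¹ ∈ Q) (htA : ∀ a ∈ A, a * (g * z * g⁻¹) = (g * z * g⁻¹) * a)
    (htz : g * z * g⁻¹ ≠ z)
    (hP1 : (∀ r ∈ Q, (∀ a ∈ A, a * r = r * a) → (g * z * g⁻¹) * r = r * (g * z * g⁻¹)) →
      g * z * g⁻¹ = 1 ∨ g * z * g⁻¹ = z)
    (hP1' : z ∈ Q.map (MulAut.conj g).toMonoidHom →
      (∀ r ∈ Q.map (MulAut.conj g).toMonoidHom, (∀ a ∈ A, a * r = r * a) → z * r = r * z) →
      z = 1 ∨ z = g * z * g⁻¹) :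
    ∃ x ∈ (Q ⊓ Subgroup.centralizer (A : Set G)) ⊔
        (Q.map (MulAut.conj g).toMonoidHom ⊓ Subgroup.centralizer (A : Set G)),
      x * (g * z * g⁻¹) * x⁻¹ = z := by
  classical
  set t := g * z * g⁻¹ with ht
  have hY : LES (Q.map (MulAut.conj g).toMonoidHom) t := hQ.conj g
  have hQ' : LES Q (z₀ : G) := by rw [hz₀]; exact hQ
  have ht1 : t ≠ 1 := by
    intro h
    apply hQ.z1
    have : z = g⁻¹ * t * g := by rw [ht]; group
    rw [this, h]; group
  -- z ∈ Q^g
  have hzY : z ∈ Q.map (MulAut.conj g).toMonoidHom := by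
    have h := center_mem' (Y := Q.map (MulAut.conj g).toMonoidHom) (t := t) hes hcard hQ' hY htQ
      (by rw [hz₀]; exact htz)
      (by
        intro n hn a ha
        rw [hz₀] at hn
        -- c = g⁻¹ n centralizes z
        have hc : (g⁻¹ * n) * z = z * (g⁻¹ * n) := by
          have h1 : n * z * n⁻¹ = g * z * g⁻¹ := hn
          calc (g⁻¹ * n) * z = g⁻¹ * (n * z * n⁻¹) * n := by group
            _ = g⁻¹ * (g * z * g⁻¹) * n := by rw [h1]
            _ = z * (g⁻¹ * n) := by group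
        have h2 := hQ.norm _ hc a ha
        rw [mem_map_conj]
        have : g⁻¹ * (n * a * n⁻¹) * g = (g⁻¹ * n) * a * (g⁻¹ * n)⁻¹ := by group
        rw [this]; exact h2)
    rw [hz₀] at h; exact h
  -- r ∈ C_Q(A) moving t
  have hr : ∃ r ∈ Q, (∀ a ∈ A, a * r = r * a) ∧ r * t * r⁻¹ * t⁻¹ = z := by
    by_contra hcon
    push Not at hcon
    have : ∀ r ∈ Q, (∀ a ∈ A, a * r = r * a) → t * r = r * t := by
      intro r hrQ hrA
      rcases hQ.comm r hrQ t htQ with h | h
      · calc t * r = (r * t * r⁻¹ * t⁻¹)⁻¹ * (r * t) := by group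
          _ = r * t := by rw [h, inv_one, one_mul]
      · exact absurd h (hcon r hrQ hrA)
    rcases hP1 this with h | h
    · exact ht1 h
    · exact htz h
  -- r' ∈ C_{Q^g}(A) moving z
  have hr' : ∃ r' ∈ Q.map (MulAut.conj g).toMonoidHom, (∀ a ∈ A, a * r' = r' * a) ∧
      r' * z * r'⁻¹ * z⁻¹ = t := by
    by_contra hcon
    push Not at hcon
    have : ∀ r ∈ Q.map (MulAut.conj g).toMonoidHom, (∀ a ∈ A, a * r = r * a) → z * r = r * z := by
      intro r hrY hrA
      rcases hY.comm r hrY z hzY with h | h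
      · calc z * r = (r * z * r⁻¹ * z⁻¹)⁻¹ * (r * z) := by group
          _ = r * z := by rw [h, inv_one, one_mul]
      · exact absurd h (hcon r hrY hrA)
    rcases hP1' hzY this with h | h
    · exact hQ.z1 h
    · exact htz h.symm
  obtain ⟨r, hrQ, hrA, hrt⟩ := hr
  obtain ⟨r', hr'Y, hr'A, hr'z⟩ := hr'
  have htzc : t * z = z * t := hQ.zc t htQ
  refine ⟨r'⁻¹ * r, ?_, ?_⟩
  · apply Subgroup.mul_mem
    · apply Subgroup.mem_sup_right
      have hc : r' ∈ Subgroup.centralizer (A : Set G) := by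
        rw [Subgroup.mem_centralizer_iff]
        intro a ha
        exact hr'A a ha
      exact Subgroup.mem_inf.2 ⟨Subgroup.inv_mem _ hr'Y, Subgroup.inv_mem _ hc⟩
    · apply Subgroup.mem_sup_left
      have hc : r ∈ Subgroup.centralizer (A : Set G) := by
        rw [Subgroup.mem_centralizer_iff]
        intro a ha
        exact hrA a ha
      exact Subgroup.mem_inf.2 ⟨hrQ, hc⟩
  · -- r t r⁻¹ = z t, r' z r'⁻¹ = t z
    have e1 : r * t * r⁻¹ = z * t := by
      calc r * t * r⁻¹ = (r * t * r⁻¹ * t⁻¹) * t := by group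
        _ = z * t := by rw [hrt]
    have e2 : r' * z * r'⁻¹ = t * z := by
      calc r' * z * r'⁻¹ = (r' * z * r'⁻¹ * z⁻¹) * z := by group
        _ = t * z := by rw [hr'z]
    calc r'⁻¹ * r * t * (r'⁻¹ * r)⁻¹ = r'⁻¹ * (r * t * r⁻¹) * r' := by group
      _ = r'⁻¹ * (z * t) * r' := by rw [e1]
      _ = r'⁻¹ * (t * z) * r' := by rw [htzc]
      _ = r'⁻¹ * (r' * z * r'⁻¹) * r' := by rw [e2]
      _ = z := by group

end Cfsg.Agent.H1.LESA
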