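import Mathlib
import Cfsg.Agent.S0542

/-!
# S5426 piece (R4d): a Sylow 2-subgroup of a subnormal non-abelian simple subgroup of even order
has at least three elements.  Declared in helper2's namespace `Cfsg.Agent.H2.LES` with the
verbatim stub signature from `notes/S5426_stubs.lean.txt`.
-/

set_option autoImplicit false

namespace Cfsg.Agent.H2.LES

universe u
variable {G : Type u} [Group G] [Finite G]

/-- A Sylow 2-subgroup of a non-abelian simple group of even order has at least 3 elements
(Burnside transfer for a cyclic Sylow subgroup of the smallest prime). -/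
theorem three_le_card_sylow_two_of_simple_r4d {K : Type u} [Group K] [Finite K]
    (hs : IsSimpleGroup K) (hna : ¬ IsMulCommutative K) (heven : Even (Nat.card K))
    (R : Sylow 2 K) : 3 ≤ Nat.card (R : Subgroup K) := by
  have : Fact (Nat.Prime 2) := ⟨Nat.prime_two⟩
  by_contra hlt
  push Not at hlt
  have h2dvd : 2 ∣ Nat.card (R : Subgroup K) := R.dvd_card_of_dvd_card heven.two_dvd
  have hc2 : Nat.card (R : Subgroup K) = 2 := by
    have := Nat.le_of_dvd Nat.card_pos h2dvd
    omega
  have : Fact (Nat.Prime (Nat.card (R : Subgroup K))) := by rw [hc2]; infer_instance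
  have hcyc : IsCyclic (R : Subgroup K) := isCyclic_of_prime_card hc2
  have hmin : (Nat.card K).minFac = 2 := by
    rw [Nat.minFac_eq_two_iff]; exact heven.two_dvd
  have hcomp := IsCyclic.isComplement' hmin hcyc
  have hNn : (MonoidHom.transferSylow R (hcyc.normalizer_le_centralizer hmin)).ker.Normal :=
    MonoidHom.normal_ker _
  have hmul := hcomp.card_mul_card
  rcases hs.eq_bot_or_eq_top_of_normal _ hNn with h | h
  · rw [h, Subgroup.card_bot, one_mul, hc2] at hmul
    apply hna
    have : Fact (Nat.Prime (Nat.card K)) := by rw [← hmul]; infer_instance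
    have : IsCyclic K := isCyclic_of_prime_card hmul.symm
    exact ⟨⟨fun a b => (IsCyclic.commGroup (α := K)).mul_comm a b⟩⟩
  · rw [h, Subgroup.card_top, hc2] at hmul
    have : 0 < Nat.card K := Nat.card_pos
    omega

/-- (R4d) a Sylow 2-subgroup of a subnormal non-abelian simple subgroup of even order has at least 3
elements (in fact 4): it contains an element different from `1` and from any given `d0`. -/
theorem exists_third_of_simple {K : Subgroup G} (hs : IsSimpleGroup ↥K) (hna : ¬ IsMulCommutative ↥K)
    (heven : Even (Nat.card ↥K)) (hKs : K.IsSubnormal) (T : Sylow 2 G) (d0 : G) :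
    ∃ d ∈ (T : Subgroup G) ⊓ K, d ≠ 1 ∧ d ≠ d0 := by
  classical
  have : Fact (Nat.Prime 2) := ⟨Nat.prime_two⟩
  obtain ⟨R, hR⟩ := Cfsg.Agent.S0542.result 2 K hKs T
  have h3 := three_le_card_sylow_two_of_simple_r4d hs hna heven R
  by_contra hcon
  push Not at hcon
  -- every element of R is 1 or d0
  have hbad : ∀ d : (R : Subgroup K), d = 1 ∨ ((d : K) : G) = d0 := by
    intro d
    by_cases h1 : d = 1
    · exact Or.inl h1
    · right
      have hdT : ((d : K) : G) ∈ (T : Subgroup G) := by
        have : (d : K) ∈ (T : Subgroup G).subgroupOf K := by rw [← hR]; exact d.2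
        exact Subgroup.mem_subgroupOf.mp this
      have hdK : ((d : K) : G) ∈ K := (d : K).2
      have hne : ((d : K) : G) ≠ 1 := by
        intro h
        apply h1
        apply Subtype.ext
        apply Subtype.ext
        simpa using h
      exact hcon _ ⟨hdT, hdK⟩ hne
  have hinj : Function.Injective (fun d : (R : Subgroup K) => decide (d = 1)) := by
    intro a b hab
    simp only [decide_eq_decide] at hab
    rcases hbad a with ha | ha
    · rw [ha]; exact (hab.mp ha).symm
    · rcases hbad b with hb | hb
      · rw [hb]; exact hab.mpr hb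
      · apply Subtype.ext; apply Subtype.ext; rw [ha, hb]
  have hle := Nat.card_le_card_of_injective _ hinj
  have hb : Nat.card Bool = 2 := by simp
  rw [hb] at hle
  omega

end Cfsg.Agent.H2.LES
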