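import Cfsg.Agent.H9.LESR4eA
import Cfsg.Agent.Lib.helper3.LESR4b

/-!
# S5426 piece (R4e): at most two components.  Verbatim stub signature from
`notes/S5426_stubs.lean.txt`, declared in helper2's namespace `Cfsg.Agent.H2.LES`.
-/

set_option autoImplicit false

namespace Cfsg.Agent.H2.LES

universe u
variable {G : Type u} [Group G] [Finite G] {Q : Subgroup G} {z : G}

/-- `z` lies in the layer (local copy of (R4c-1), from (R4b-1) and (R4a')). -/
theorem Ctx.z_mem_layer_r4e (c : Ctx Q z) (h : Cfsg.pCore 2 G = ⊥) : z ∈ Cfsg.layer G := by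
  obtain ⟨K, hK⟩ := c.exists_component h
  have hz := c.z_mem_orbit_join h K hK
  have hle : (⨆ u : ↥Q, K.map (MulAut.conj (u : G)).toMonoidHom) ≤ Cfsg.layer G :=
    iSup_le (fun u => Cfsg.Agent.H2.component_le_layer (Cfsg.Agent.H2.component_conj hK (u : G)))
  exact hle hz

/-- (R4e) there are at most two components. -/
theorem Ctx.at_most_two (c : Ctx Q z) (h : Cfsg.pCore 2 G = ⊥) (K K' K'' : Subgroup G)
    (hK : Cfsg.IsComponent K) (hK' : Cfsg.IsComponent K') (hK'' : Cfsg.IsComponent K'')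
    (h1 : K ≠ K') (h2 : K ≠ K'') (h3 : K' ≠ K'') : False :=
  at_most_two_aux c h (fun K K' hK hK' => c.transitive h K K' hK hK') (c.z_mem_layer_r4e h)
    K K' K'' hK hK' hK'' h1 h2 h3

end Cfsg.Agent.H2.LES
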