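import Cfsg.Agent.H2.LESComp
import Cfsg.Agent.H9.LESR4d

/-!
# S5426 piece (R4e), core argument: at most two components.
The facts (R4b-3) `transitive` and (R4c-1) `z_mem_layer` are taken as hypotheses here; the verbatim
stub `Ctx.at_most_two` is assembled in `LESR4e.lean`.
-/

set_option autoImplicit false
set_option linter.unusedVariables false
set_option linter.unusedSectionVars false

namespace Cfsg.Agent.H2.LES

universe u
variable {G : Type u} [Group G] [Finite G] {Q : Subgroup G} {z : G}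

theorem mem_map_conj_iff_r4e (K : Subgroup G) (g x : G) :
    x ∈ K.map (MulAut.conj g).toMonoidHom ↔ g⁻¹ * x * g ∈ K := by
  constructor
  · rintro ⟨y, hy, rfl⟩
    have : g⁻¹ * ((MulAut.conj g).toMonoidHom y) * g = y := by
      simp only [MulEquiv.toMonoidHom_eq_coe, MonoidHom.coe_coe, MulAut.conj_apply]
      group
    rw [this]; exact hy
  · intro h
    refine ⟨g⁻¹ * x * g, h, ?_⟩
    simp only [MulEquiv.toMonoidHom_eq_coe, MonoidHom.coe_coe, MulAut.conj_apply]
    group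

theorem conj_mem_map_conj_r4e (K : Subgroup G) (g y : G) (hy : y ∈ K) :
    g * y * g⁻¹ ∈ K.map (MulAut.conj g).toMonoidHom := by
  rw [mem_map_conj_iff_r4e]
  have : g⁻¹ * (g * y * g⁻¹) * g = y := by group
  rw [this]; exact hy

/-- core of (R4e) -/
theorem at_most_two_aux (c : Ctx Q z) (h : Cfsg.pCore 2 G = ⊥)
    (htrans : ∀ K K' : Subgroup G, Cfsg.IsComponent K → Cfsg.IsComponent K' →
      ∃ u ∈ Q, K' = K.map (MulAut.conj u).toMonoidHom)
    (hzl : z ∈ Cfsg.layer G)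
    (K K' K'' : Subgroup G)
    (hK : Cfsg.IsComponent K) (hK' : Cfsg.IsComponent K') (hK'' : Cfsg.IsComponent K'')
    (h1 : K ≠ K') (h2 : K ≠ K'') (h3 : K' ≠ K'') : False := by
  classical
  obtain ⟨u, hu, rfl⟩ := htrans K K' hK hK'
  obtain ⟨v, hv, rfl⟩ := htrans K K'' hK hK''
  obtain ⟨hs, hna, hcen, heven⟩ := c.component_facts h K hK
  have hKvu : Cfsg.IsComponent (K.map (MulAut.conj (v * u)).toMonoidHom) :=
    Cfsg.Agent.H2.component_conj hK (v * u)
  -- the third conjugate is different from K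
  have hne3 : K.map (MulAut.conj (v * u)).toMonoidHom ≠ K := by
    intro heq
    apply h3
    -- v*v ∈ {1, z} normalizes K^v
    have hsn : v * v ∈ Subgroup.normalizer ((K.map (MulAut.conj v).toMonoidHom : Subgroup G) : Set G) := by
      rcases c.sq v hv with hv2 | hv2
      · rw [hv2]; exact Subgroup.one_mem _
      · rw [hv2]
        exact Cfsg.Agent.H2.layer_le_normalizer_of_isSubnormal hK''.1 hzl
    rw [Subgroup.mem_normalizer_iff] at hsn
    ext x
    rw [mem_map_conj_iff_r4e, mem_map_conj_iff_r4e]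
    -- x ∈ K^u ↔ v x v⁻¹ ∈ K
    have e1 : u⁻¹ * x * u ∈ K ↔ v * x * v⁻¹ ∈ K := by
      have := mem_map_conj_iff_r4e K (v * u) (v * x * v⁻¹)
      rw [heq] at this
      rw [this]
      have e : (v * u)⁻¹ * (v * x * v⁻¹) * (v * u) = u⁻¹ * x * u := by group
      rw [e]
    rw [e1]
    -- v x v⁻¹ ∈ K ↔ v⁻¹ x v ∈ K
    have e2 := hsn x
    rw [mem_map_conj_iff_r4e, mem_map_conj_iff_r4e] at e2
    have e3 : v⁻¹ * (v * v * x * (v * v)⁻¹) * v = v * x * v⁻¹ := by group
    rw [e3] at e2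
    exact e2.symm
  -- commutation of K with the three other components
  have hc1 := (Cfsg.Agent.H2.commutator_eq_bot_iff_forall_commute _ _).1
    (Cfsg.Agent.H2.components_commute hK hK' h1)
  have hc2 := (Cfsg.Agent.H2.commutator_eq_bot_iff_forall_commute _ _).1
    (Cfsg.Agent.H2.components_commute hK hK'' h2)
  have hc3 := (Cfsg.Agent.H2.commutator_eq_bot_iff_forall_commute _ _).1
    (Cfsg.Agent.H2.components_commute hK hKvu (Ne.symm hne3))
  -- a Sylow 2-subgroup containing Q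
  obtain ⟨T, hQT⟩ := c.pgrp.exists_le_sylow
  have hzT := c.z_comm_of_le (T : Subgroup G) T.isPGroup' hQT
  -- key: for d ∈ T ⊓ K there is w centralizing K with d * w = 1 ∨ d * w = z
  have key : ∀ d ∈ (T : Subgroup G) ⊓ K, ∃ w : G, (∀ k ∈ K, k * w = w * k) ∧ (d * w = 1 ∨ d * w = z) := by
    intro d hd
    have hdT : d ∈ (T : Subgroup G) := hd.1
    have hdK : d ∈ K := hd.2
    have hdz : d * z = z * d := (hzT d hdT).symm
    have hcd : d * u * d⁻¹ * u⁻¹ ∈ Q := Q.mul_mem (c.norm d hdz u hu) (Q.inv_mem hu)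
    have hcomm := c.comm _ hcd v hv
    set a1 := u * d⁻¹ * u⁻¹ with ha1
    set a2 := (v * u) * d * (v * u)⁻¹ with ha2
    set a3 := v * d⁻¹ * v⁻¹ with ha3
    have ha1m : a1 ∈ K.map (MulAut.conj u).toMonoidHom :=
      conj_mem_map_conj_r4e K u d⁻¹ (K.inv_mem hdK)
    have ha2m : a2 ∈ K.map (MulAut.conj (v * u)).toMonoidHom :=
      conj_mem_map_conj_r4e K (v * u) d hdK
    have ha3m : a3 ∈ K.map (MulAut.conj v).toMonoidHom :=
      conj_mem_map_conj_r4e K v d⁻¹ (K.inv_mem hdK)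
    have hid : d * u * d⁻¹ * u⁻¹ * v * (d * u * d⁻¹ * u⁻¹)⁻¹ * v⁻¹ = d * (a1 * a2 * a3) := by
      rw [ha1, ha2, ha3]; group
    refine ⟨a1 * a2 * a3, ?_, ?_⟩
    · intro k hk
      have q1 := hc1 k hk a1 ha1m
      have q2 := hc3 k hk a2 ha2m
      have q3 := hc2 k hk a3 ha3m
      calc k * (a1 * a2 * a3) = (k * a1) * a2 * a3 := by group
        _ = a1 * (k * a2) * a3 := by rw [q1]; group
        _ = a1 * a2 * (k * a3) := by rw [q2]; group
        _ = a1 * a2 * a3 * k := by rw [q3]; group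
    · rw [← hid]; exact hcomm
  -- two different nontrivial elements of T ⊓ K
  obtain ⟨d1, hd1, hd11, _⟩ := exists_third_of_simple hs hna heven hK.1 T 1
  obtain ⟨d2, hd2, hd21, hd2ne⟩ := exists_third_of_simple hs hna heven hK.1 T d1
  obtain ⟨w1, hw1c, hw1⟩ := key d1 hd1
  obtain ⟨w2, hw2c, hw2⟩ := key d2 hd2
  -- d * w = 1 is impossible for d ≠ 1
  have hno : ∀ d ∈ K, ∀ w : G, (∀ k ∈ K, k * w = w * k) → d * w = 1 → d = 1 := by
    intro d hdK w hwc hdw
    apply hcen d hdK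
    intro k hk
    have hd : d = w⁻¹ := eq_inv_of_mul_eq_one_left hdw
    rw [hd]
    have := hwc k hk
    calc w⁻¹ * k = w⁻¹ * (k * w) * w⁻¹ := by group
      _ = w⁻¹ * (w * k) * w⁻¹ := by rw [this]
      _ = k * w⁻¹ := by group
  have hz1 : d1 * w1 = z := by
    rcases hw1 with hh | hh
    · exact absurd (hno d1 hd1.2 w1 hw1c hh) hd11
    · exact hh
  have hz2 : d2 * w2 = z := by
    rcases hw2 with hh | hh
    · exact absurd (hno d2 hd2.2 w2 hw2c hh) hd21
    · exact hh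
  -- d2⁻¹ * d1 = w2 * w1⁻¹ centralizes K
  have hq : d2⁻¹ * d1 = w2 * w1⁻¹ := by
    have : d1 * w1 = d2 * w2 := hz1.trans hz2.symm
    calc d2⁻¹ * d1 = d2⁻¹ * (d1 * w1) * w1⁻¹ := by group
      _ = d2⁻¹ * (d2 * w2) * w1⁻¹ := by rw [this]
      _ = w2 * w1⁻¹ := by group
  have hone : d2⁻¹ * d1 = 1 := by
    apply hcen _ (K.mul_mem (K.inv_mem hd2.2) hd1.2)
    intro k hk
    rw [hq]
    have q1 := hw1c k hk
    have q2 := hw2c k hk
    calc w2 * w1⁻¹ * k = w2 * (w1⁻¹ * (k * w1) * w1⁻¹) := by group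
      _ = w2 * (w1⁻¹ * (w1 * k) * w1⁻¹) := by rw [q1]
      _ = (w2 * k) * w1⁻¹ := by group
      _ = (k * w2) * w1⁻¹ := by rw [q2]
      _ = k * (w2 * w1⁻¹) := by group
  apply hd2ne
  have : d1 = d2 := by
    calc d1 = d2 * (d2⁻¹ * d1) := by group
      _ = d2 := by rw [hone, mul_one]
  exact this.symm

end Cfsg.Agent.H2.LES
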