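import Mathlib
import Cfsg.Prelude.Def_Transfer
import Cfsg.Agent.Lib.Helper4.InvAction

set_option autoImplicit false

/-! helper9: a group whose involution centralizer `C` has an extraspecial normal subgroup `Q` with
`C/Q` simple non-abelian, irreducible on `Q/⟨z⟩`, `z` not weakly closed in `Q` and
`⟨z^G ∩ C⟩ ≠ Q`, is simple. -/

namespace Cfsg.Agent.H9.LargeExtraSimple

open scoped commutatorElement

lemma closure_normal_of_conj {H : Type*} [Group H] (S : Set H)
    (h : ∀ c : H, ∀ s ∈ S, c * s * c⁻¹ ∈ Subgroup.closure S) : (Subgroup.closure S).Normal := by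
  refine ⟨fun n hn c => ?_⟩
  have h1 : (Subgroup.closure S).map (MulAut.conj c).toMonoidHom ≤ Subgroup.closure S := by
    rw [MonoidHom.map_closure, Subgroup.closure_le]
    rintro _ ⟨s, hs, rfl⟩
    exact h c s hs
  exact h1 ⟨n, hn, rfl⟩

lemma mem_zpowers_two {H : Type*} [Group H] {z x : H} (hz2 : z * z = 1) :
    x ∈ Subgroup.zpowers z ↔ x = 1 ∨ x = z := by
  constructor
  · rintro ⟨k, rfl⟩
    rcases Int.even_or_odd' k with ⟨m, rfl | rfl⟩
    · left
      show z ^ (2 * m) = 1
      rw [zpow_mul, zpow_two, hz2, one_zpow]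
    · right
      show z ^ (2 * m + 1) = z
      rw [zpow_add, zpow_mul, zpow_two, hz2, one_zpow, one_mul, zpow_one]
  · rintro (rfl | rfl)
    · exact Subgroup.one_mem _
    · exact Subgroup.mem_zpowers _

/-- the subgroup of elements acting trivially on `Q/⟨z⟩`, for `z` a central involution -/
def trivQuot {H : Type*} [Group H] (Q : Subgroup H) [Q.Normal] (z : H)
    (hzc : ∀ c : H, c * z = z * c) (hz2 : z * z = 1) : Subgroup H where
  carrier := {c | ∀ x ∈ Q, c * x * c⁻¹ * x⁻¹ = 1 ∨ c * x * c⁻¹ * x⁻¹ = z}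
  one_mem' := by
    intro x _
    left
    group
  mul_mem' := by
    intro c d hc hd x hx
    have e : c * d * x * (c * d)⁻¹ * x⁻¹ = c * (d * x * d⁻¹ * x⁻¹) * c⁻¹ * (c * x * c⁻¹ * x⁻¹) := by
      group
    rw [e]
    rcases hd x hx with h1 | h1 <;> rcases hc x hx with h2 | h2 <;> rw [h1, h2]
    · left; group
    · right; group
    · right
      rw [hzc c]
      group
    · left
      rw [hzc c, mul_assoc z c, mul_inv_cancel, mul_one, hz2]
  inv_mem' := by
    intro c hc x hx
    have e : c⁻¹ * x * c⁻¹⁻¹ * x⁻¹ = c⁻¹ * (c * x * c⁻¹ * x⁻¹)⁻¹ * c := by group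
    rw [e]
    rcases hc x hx with h1 | h1 <;> rw [h1]
    · left; group
    · right
      have hzi : z⁻¹ = z := inv_eq_of_mul_eq_one_left hz2
      rw [hzi, mul_assoc, ← hzc c, ← mul_assoc, inv_mul_cancel, one_mul]

lemma trivQuot_normal {H : Type*} [Group H] (Q : Subgroup H) [hQ : Q.Normal] (z : H)
    (hzc : ∀ c : H, c * z = z * c) (hz2 : z * z = 1) : (trivQuot Q z hzc hz2).Normal := by
  refine ⟨fun c hc d => ?_⟩
  intro x hx
  have hx' : d⁻¹ * x * d ∈ Q := by
    have := hQ.conj_mem x hx d⁻¹
    rwa [inv_inv] at this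
  have e : d * c * d⁻¹ * x * (d * c * d⁻¹)⁻¹ * x⁻¹ =
      d * (c * (d⁻¹ * x * d) * c⁻¹ * (d⁻¹ * x * d)⁻¹) * d⁻¹ := by group
  rw [e]
  rcases hc _ hx' with h1 | h1 <;> rw [h1]
  · left; group
  · right
    rw [hzc d, mul_assoc, mul_inv_cancel, mul_one]


section main

variable {G : Type*} [Group G] [Finite G] (z : G)

local notation "C" => Subgroup.centralizer (Singleton.singleton z : Set G)

omit [Finite G] in
/-- structure of the normal subgroups of `C` -/
theorem setup_facts (hz : orderOf z = 2)
    (Q : Subgroup (Subgroup.centralizer ({z} : Set G))) [hQn : Q.Normal]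
    (hQ : Cfsg.IsExtraspecial 2 ↥Q)
    (hnwc : ∃ g : G, (∃ hq : g * z * g⁻¹ ∈ Subgroup.centralizer ({z} : Set G),
      (⟨g * z * g⁻¹, hq⟩ : Subgroup.centralizer ({z} : Set G)) ∈ Q) ∧ g * z * g⁻¹ ≠ z)
    (hsimp : IsSimpleGroup (↥(Subgroup.centralizer ({z} : Set G)) ⧸ Q))
    (hna : ¬ IsMulCommutative (↥(Subgroup.centralizer ({z} : Set G)) ⧸ Q))
    (hirr : ∀ W : Subgroup (Subgroup.centralizer ({z} : Set G)), W.Normal → W ≤ Q →
      (W = Q ∨ ∀ x ∈ W, (x : G) ∈ Subgroup.zpowers z)) :
    ∃ hzC : z ∈ Subgroup.centralizer ({z} : Set G),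
      (⟨z, hzC⟩ : Subgroup.centralizer ({z} : Set G)) ∈ Q ∧
      (∀ u ∈ Q, (∀ x ∈ Q, u * x = x * u) → u = 1 ∨ u = ⟨z, hzC⟩) ∧
      (∀ c : Subgroup.centralizer ({z} : Set G),
        (∀ x ∈ Q, c * x * c⁻¹ * x⁻¹ = 1 ∨ c * x * c⁻¹ * x⁻¹ = ⟨z, hzC⟩) → c ∈ Q) ∧
      (∀ K : Subgroup (Subgroup.centralizer ({z} : Set G)), K.Normal →
        (∀ x ∈ K, x = 1 ∨ x = ⟨z, hzC⟩) ∨ K = Q ∨ K = ⊤) := by
  classical
  have hz2 : z * z = 1 := by rw [← pow_two, ← hz, pow_orderOf_eq_one]
  have hz1 : z ≠ 1 := by
    intro h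
    rw [h, orderOf_one] at hz
    omega
  have hzC : z ∈ Subgroup.centralizer ({z} : Set G) := by
    rw [Subgroup.mem_centralizer_iff]
    intro h hh
    rw [Set.mem_singleton_iff] at hh
    rw [hh]
  refine ⟨hzC, ?_⟩
  set zC : C := ⟨z, hzC⟩ with hzCdef
  have hzc : ∀ c : C, c * zC = zC * c := by
    intro c
    apply Subtype.ext
    have := c.2
    rw [Subgroup.mem_centralizer_iff] at this
    exact (this z rfl).symm
  have hzC2 : zC * zC = 1 := Subtype.ext hz2
  have hzC1 : zC ≠ 1 := fun h => hz1 (congrArg Subtype.val h)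
  have hzp : ∀ x : C, (x : G) ∈ Subgroup.zpowers z → x = 1 ∨ x = zC := by
    intro x hx
    rcases (mem_zpowers_two hz2).1 hx with h | h
    · left; exact Subtype.ext h
    · right; exact Subtype.ext h
  haveI := hsimp
  -- `z ∈ Q`
  have hzQ : zC ∈ Q := by
    have hcen : Subgroup.center (C ⧸ Q) = ⊥ := by
      rcases (inferInstance : (Subgroup.center (C ⧸ Q)).Normal).eq_bot_or_eq_top with h | h
      · exact h
      · exfalso
        apply hna
        refine ⟨⟨fun a b => ?_⟩⟩
        have ha : a ∈ Subgroup.center (C ⧸ Q) := by rw [h]; trivial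
        exact ((Subgroup.mem_center_iff.1 ha) b).symm
    have h1 : (QuotientGroup.mk zC : C ⧸ Q) ∈ Subgroup.center (C ⧸ Q) := by
      rw [Subgroup.mem_center_iff]
      intro b
      obtain ⟨b, rfl⟩ := QuotientGroup.mk_surjective b
      rw [← QuotientGroup.mk_mul, ← QuotientGroup.mk_mul, hzc b]
    rw [hcen, Subgroup.mem_bot, QuotientGroup.eq_one_iff] at h1
    exact h1
  refine ⟨hzQ, ?_⟩
  -- the centre of `Q`
  have hcenQ : ∀ u ∈ Q, (∀ x ∈ Q, u * x = x * u) → u = 1 ∨ u = zC := by
    intro u hu hux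
    have hcard := hQ.2
    rw [Nat.card_eq_two_iff' (1 : Subgroup.center ↥Q)] at hcard
    obtain ⟨w, -, hw⟩ := hcard
    have hzcen : (⟨zC, hzQ⟩ : Q) ∈ Subgroup.center ↥Q := by
      rw [Subgroup.mem_center_iff]
      intro b
      apply Subtype.ext
      exact hzc b
    have hucen : (⟨u, hu⟩ : Q) ∈ Subgroup.center ↥Q := by
      rw [Subgroup.mem_center_iff]
      intro b
      apply Subtype.ext
      exact (hux b b.2).symm
    by_cases h1 : u = 1
    · left; exact h1
    · right
      have e1 := hw ⟨⟨zC, hzQ⟩, hzcen⟩ (fun h => hzC1 (congrArg (fun t => ((t : Subgroup.center ↥Q) : Q).1) h))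
      have e2 := hw ⟨⟨u, hu⟩, hucen⟩ (fun h => h1 (congrArg (fun t => ((t : Subgroup.center ↥Q) : Q).1) h))
      have := e2.trans e1.symm
      exact congrArg (fun t => ((t : Subgroup.center ↥Q) : Q).1) this
  refine ⟨hcenQ, ?_⟩
  -- commutators of `Q`
  have hcomm : ∀ a ∈ Q, ∀ b ∈ Q, a * b * a⁻¹ * b⁻¹ = 1 ∨ a * b * a⁻¹ * b⁻¹ = zC := by
    intro a ha b hb
    have h1 : ⁅(⟨a, ha⟩ : Q), ⟨b, hb⟩⁆ ∈ commutator ↥Q := by
      rw [commutator_def]
      exact Subgroup.commutator_mem_commutator (Subgroup.mem_top _) (Subgroup.mem_top _)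
    rw [hQ.1.2.2, Subgroup.mem_center_iff] at h1
    have h2 := hcenQ (a * b * a⁻¹ * b⁻¹)
      (Q.mul_mem (Q.mul_mem (Q.mul_mem ha hb) (Q.inv_mem ha)) (Q.inv_mem hb)) ?_
    · exact h2
    · intro x hx
      have := h1 ⟨x, hx⟩
      have := congrArg Subtype.val this
      rw [commutatorElement_def] at this
      exact this.symm
  -- `Q` is not abelian, via the non-weakly-closed conjugate
  obtain ⟨g, ⟨hq, hyQ⟩, hne⟩ := hnwc
  set y : C := ⟨g * z * g⁻¹, hq⟩ with hy
  have hy1 : y ≠ 1 := by
    intro h
    have h' : g * z * g⁻¹ = 1 := congrArg Subtype.val h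
    apply hz1
    have e : z = g⁻¹ * (g * z * g⁻¹) * g := by group
    rw [e, h']
    group
  have hyz : y ≠ zC := fun h => hne (congrArg Subtype.val h)
  have htop_of : ∀ K : Subgroup C, Q ≤ K → K.map (QuotientGroup.mk' Q) = ⊤ → K = ⊤ := by
    intro K hQK h
    rw [eq_top_iff]
    intro c _
    have h1 : (QuotientGroup.mk' Q) c ∈ K.map (QuotientGroup.mk' Q) := by rw [h]; trivial
    obtain ⟨k, hk, hkc⟩ := h1
    have h2 : k⁻¹ * c ∈ Q := by
      rw [← QuotientGroup.eq]
      exact hkc
    have : c = k * (k⁻¹ * c) := by group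
    rw [this]
    exact K.mul_mem hk (hQK h2)
  have hle_of : ∀ K : Subgroup C, K.map (QuotientGroup.mk' Q) = ⊥ → K ≤ Q := by
    intro K h c hc
    have h1 : (QuotientGroup.mk' Q) c ∈ K.map (QuotientGroup.mk' Q) := ⟨c, hc, rfl⟩
    rw [h, Subgroup.mem_bot] at h1
    exact (QuotientGroup.eq_one_iff c).1 h1
  -- Claim 1
  have hC1 : ∀ c : C, (∀ x ∈ Q, c * x * c⁻¹ * x⁻¹ = 1 ∨ c * x * c⁻¹ * x⁻¹ = zC) → c ∈ Q := by
    set C₁ := trivQuot Q zC hzc hzC2 with hC₁
    have hC₁n : C₁.Normal := trivQuot_normal Q zC hzc hzC2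
    have hQC₁ : Q ≤ C₁ := fun a ha x hx => hcomm a ha x hx
    have hn : (C₁.map (QuotientGroup.mk' Q)).Normal :=
      Subgroup.Normal.map hC₁n _ (QuotientGroup.mk'_surjective Q)
    rcases hn.eq_bot_or_eq_top with h | h
    · intro c hc
      exact hle_of C₁ h hc
    · exfalso
      have htop := htop_of C₁ hQC₁ h
      have hall : ∀ c : C, ∀ x ∈ Q, c * x * c⁻¹ * x⁻¹ = 1 ∨ c * x * c⁻¹ * x⁻¹ = zC := by
        intro c
        have : c ∈ C₁ := by rw [htop]; trivial
        exact this
      have hWn : (Subgroup.closure ({zC, y} : Set C)).Normal := by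
        apply closure_normal_of_conj
        intro c s hs
        rcases hs with rfl | hs
        · rw [hzc c, mul_assoc, mul_inv_cancel, mul_one]
          exact Subgroup.subset_closure (Set.mem_insert _ _)
        · rw [Set.mem_singleton_iff] at hs
          subst hs
          have e : c * y * c⁻¹ = (c * y * c⁻¹ * y⁻¹) * y := by group
          rw [e]
          rcases hall c y hyQ with h1 | h1 <;> rw [h1]
          · rw [one_mul]
            exact Subgroup.subset_closure (Set.mem_insert_of_mem _ rfl)
          · exact Subgroup.mul_mem _ (Subgroup.subset_closure (Set.mem_insert _ _))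
              (Subgroup.subset_closure (Set.mem_insert_of_mem _ rfl))
      have hWQ : Subgroup.closure ({zC, y} : Set C) ≤ Q := by
        rw [Subgroup.closure_le]
        intro s hs
        rcases hs with rfl | hs
        · exact hzQ
        · rw [Set.mem_singleton_iff] at hs
          subst hs
          exact hyQ
      have hWcen : Subgroup.closure ({zC, y} : Set C) ≤ Subgroup.centralizer ({y} : Set C) := by
        rw [Subgroup.closure_le]
        intro s hs
        rw [SetLike.mem_coe, Subgroup.mem_centralizer_iff]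
        intro w hw
        rw [Set.mem_singleton_iff] at hw
        rw [hw]
        rcases hs with rfl | hs
        · exact hzc y
        · rw [Set.mem_singleton_iff] at hs
          subst hs
          rfl
      rcases hirr _ hWn hWQ with h1 | h1
      · have : ∀ x ∈ Q, y * x = x * y := by
          intro x hx
          have hx' : x ∈ Subgroup.closure ({zC, y} : Set C) := by rw [h1]; exact hx
          have := hWcen hx'
          rw [Subgroup.mem_centralizer_iff] at this
          exact this y rfl
        rcases hcenQ y hyQ this with h2 | h2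
        · exact hy1 h2
        · exact hyz h2
      · have := h1 y (Subgroup.subset_closure (Set.mem_insert_of_mem _ rfl))
        rcases hzp y this with h2 | h2
        · exact hy1 h2
        · exact hyz h2
  refine ⟨hC1, ?_⟩
  -- Claim 2
  intro K hK
  have hKQ : (K ⊓ Q).Normal := inferInstance
  rcases hirr (K ⊓ Q) hKQ inf_le_right with h | h
  · have hQK : Q ≤ K := by
      rw [← h]
      exact inf_le_left
    right
    have hn : (K.map (QuotientGroup.mk' Q)).Normal :=
      Subgroup.Normal.map hK _ (QuotientGroup.mk'_surjective Q)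
    rcases hn.eq_bot_or_eq_top with h' | h'
    · left
      exact le_antisymm (hle_of K h') hQK
    · right
      exact htop_of K hQK h'
  · left
    have hKle : K ≤ Q := by
      intro k hk
      apply hC1
      intro x hx
      have hmem : k * x * k⁻¹ * x⁻¹ ∈ K ⊓ Q := by
        refine ⟨?_, ?_⟩
        · have h1 : x * k⁻¹ * x⁻¹ ∈ K := hK.conj_mem _ (K.inv_mem hk) x
          have e : k * x * k⁻¹ * x⁻¹ = k * (x * k⁻¹ * x⁻¹) := by group
          rw [e]
          exact K.mul_mem hk h1
        · have h1 : k * x * k⁻¹ ∈ Q := hQn.conj_mem _ hx k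
          exact Q.mul_mem h1 (Q.inv_mem hx)
      exact hzp _ (h _ hmem)
    intro x hx
    exact hzp x (h x ⟨hx, hKle hx⟩)

theorem simple_of_setup (hz : orderOf z = 2)
    (Q : Subgroup (Subgroup.centralizer ({z} : Set G))) [hQn : Q.Normal]
    (hQ : Cfsg.IsExtraspecial 2 ↥Q)
    (hnwc : ∃ g : G, (∃ hq : g * z * g⁻¹ ∈ Subgroup.centralizer ({z} : Set G),
      (⟨g * z * g⁻¹, hq⟩ : Subgroup.centralizer ({z} : Set G)) ∈ Q) ∧ g * z * g⁻¹ ≠ z)
    (hsimp : IsSimpleGroup (↥(Subgroup.centralizer ({z} : Set G)) ⧸ Q))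
    (hna : ¬ IsMulCommutative (↥(Subgroup.centralizer ({z} : Set G)) ⧸ Q))
    (hirr : ∀ W : Subgroup (Subgroup.centralizer ({z} : Set G)), W.Normal → W ≤ Q →
      (W = Q ∨ ∀ x ∈ W, (x : G) ∈ Subgroup.zpowers z))
    (hwcl : Subgroup.closure {x : Subgroup.centralizer ({z} : Set G) | IsConj z (x : G)} ≠ Q) :
    IsSimpleGroup G := by
  classical
  obtain ⟨hzC, hzQ, hcenQ, hC1, hnormal⟩ := setup_facts z hz Q hQ hnwc hsimp hna hirr
  have hz2 : z * z = 1 := by rw [← pow_two, ← hz, pow_orderOf_eq_one]
  have hz1 : z ≠ 1 := by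
    intro h
    rw [h, orderOf_one] at hz
    omega
  have hzi : z⁻¹ = z := inv_eq_of_mul_eq_one_left hz2
  obtain ⟨g, ⟨hq, hyQ⟩, hne⟩ := hnwc
  have hy1 : g * z * g⁻¹ ≠ 1 := by
    intro h'
    apply hz1
    have e : z = g⁻¹ * (g * z * g⁻¹) * g := by group
    rw [e, h']
    group
  have hzp : ∀ x : C, (x : G) ∈ Subgroup.zpowers z → x = 1 ∨ x = ⟨z, hzC⟩ := by
    intro x hx
    rcases (mem_zpowers_two hz2).1 hx with h | h
    · left; exact Subtype.ext h
    · right; exact Subtype.ext h
  have hmemC : ∀ n : G, z * n = n * z → n ∈ C := by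
    intro n hn
    rw [Subgroup.mem_centralizer_iff]
    intro w hw
    rw [Set.mem_singleton_iff] at hw
    rw [hw]
    exact hn
  have hmain : ∀ N : Subgroup G, N.Normal → N ≠ ⊥ → N = ⊤ := by
    intro N hN hNbot
    have hK : (N.subgroupOf C).Normal := inferInstance
    rcases hnormal _ hK with h | h | h
    · exfalso
      by_cases hzN : z ∈ N
      · have hyN : (⟨g * z * g⁻¹, hq⟩ : C) ∈ N.subgroupOf C := by
          rw [Subgroup.mem_subgroupOf]
          exact hN.conj_mem z hzN g
        rcases h _ hyN with h' | h'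
        · exact hy1 (congrArg Subtype.val h')
        · exact hne (congrArg Subtype.val h')
      · have hfpf : ∀ n ∈ N, z * n = n * z → n = 1 := by
          intro n hn hzn
          have hnC : n ∈ C := hmemC n hzn
          rcases h ⟨n, hnC⟩ (by rw [Subgroup.mem_subgroupOf]; exact hn) with h' | h'
          · exact congrArg Subtype.val h'
          · exfalso
            apply hzN
            have e : n = z := congrArg Subtype.val h'
            rw [← e]
            exact hn
        have hinv := Cfsg.Agent.Lib.Helper4.InvAction.inverts_of_fixedPointFree N z hz2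
          (fun s hs => hN.conj_mem s hs z) hfpf
        have hinv' : ∀ n ∈ N, (g * z * g⁻¹) * n * (g * z * g⁻¹)⁻¹ = n⁻¹ := by
          intro n hn
          have h0 : g⁻¹ * n * g ∈ N := by
            have := hN.conj_mem n hn g⁻¹
            rwa [inv_inv] at this
          have h1 := hinv (g⁻¹ * n * g) h0
          calc (g * z * g⁻¹) * n * (g * z * g⁻¹)⁻¹
              = g * (z * (g⁻¹ * n * g) * z⁻¹) * g⁻¹ := by group
            _ = g * (g⁻¹ * n * g)⁻¹ * g⁻¹ := by rw [h1]
            _ = n⁻¹ := by group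
        have ht : ∀ n ∈ N, n * (z * (g * z * g⁻¹)) = (z * (g * z * g⁻¹)) * n := by
          intro n hn
          have h1 := hinv' n hn
          have h2 := hinv n⁻¹ (N.inv_mem hn)
          rw [inv_inv] at h2
          have h3 : z * ((g * z * g⁻¹) * n * (g * z * g⁻¹)⁻¹) * z⁻¹ = n := by rw [h1, h2]
          calc n * (z * (g * z * g⁻¹))
              = (z * ((g * z * g⁻¹) * n * (g * z * g⁻¹)⁻¹) * z⁻¹) * (z * (g * z * g⁻¹)) := by
                rw [h3]
            _ = (z * (g * z * g⁻¹)) * n := by group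
        haveI := hN
        have hWn : (((Subgroup.centralizer (N : Set G)).subgroupOf C) ⊓ Q).Normal := inferInstance
        rcases hirr _ hWn inf_le_right with h' | h'
        · have h1 : (⟨z, hzC⟩ : C) ∈ ((Subgroup.centralizer (N : Set G)).subgroupOf C) ⊓ Q := by
            rw [h']
            exact hzQ
          have hzcen : (⟨z, hzC⟩ : C) ∈ (Subgroup.centralizer (N : Set G)).subgroupOf C :=
            (Subgroup.mem_inf.1 h1).1
          rw [Subgroup.mem_subgroupOf, Subgroup.mem_centralizer_iff] at hzcen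
          apply hNbot
          rw [Subgroup.eq_bot_iff_forall]
          intro n hn
          exact hfpf n hn (hzcen n hn).symm
        · have hmem : (⟨z, hzC⟩ : C) * ⟨g * z * g⁻¹, hq⟩ ∈
              ((Subgroup.centralizer (N : Set G)).subgroupOf C) ⊓ Q := by
            refine Subgroup.mem_inf.2 ⟨?_, Q.mul_mem hzQ hyQ⟩
            rw [Subgroup.mem_subgroupOf, Subgroup.mem_centralizer_iff]
            intro n hn
            exact ht n hn
          have h1 : z * (g * z * g⁻¹) ∈ Subgroup.zpowers z := h' _ hmem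
          rcases (mem_zpowers_two hz2).1 h1 with h2 | h2
          · apply hne
            have e : g * z * g⁻¹ = z⁻¹ * (z * (g * z * g⁻¹)) := by group
            rw [e, h2, mul_one, hzi]
          · apply hy1
            have e : g * z * g⁻¹ = z⁻¹ * (z * (g * z * g⁻¹)) := by group
            rw [e, h2, inv_mul_cancel]
    · exfalso
      have hzN : z ∈ N := by
        have h1 : (⟨z, hzC⟩ : C) ∈ N.subgroupOf C := by rw [h]; exact hzQ
        exact h1
      apply hwcl
      have hSle : Subgroup.closure {x : C | IsConj z (x : G)} ≤ Q := by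
        rw [← h, Subgroup.closure_le]
        intro x hx
        rw [SetLike.mem_coe, Subgroup.mem_subgroupOf]
        obtain ⟨c, hc⟩ := isConj_iff.1 hx
        rw [← hc]
        exact hN.conj_mem z hzN c
      have hSn : (Subgroup.closure {x : C | IsConj z (x : G)}).Normal := by
        apply closure_normal_of_conj
        intro c s hs
        apply Subgroup.subset_closure
        show IsConj z ((c * s * c⁻¹ : C) : G)
        obtain ⟨d, hd⟩ := isConj_iff.1 hs
        rw [isConj_iff]
        refine ⟨(c : G) * d, ?_⟩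
        rw [Subgroup.coe_mul, Subgroup.coe_mul, Subgroup.coe_inv, ← hd]
        group
      rcases hirr _ hSn hSle with h' | h'
      · exact h'
      · exfalso
        have h1 : (⟨g * z * g⁻¹, hq⟩ : C) ∈ Subgroup.closure {x : C | IsConj z (x : G)} :=
          Subgroup.subset_closure (isConj_iff.2 ⟨g, rfl⟩)
        rcases hzp _ (h' _ h1) with h2 | h2
        · exact hy1 (congrArg Subtype.val h2)
        · exact hne (congrArg Subtype.val h2)
    · have hCN : C ≤ N := by
        intro c hc
        have h1 : (⟨c, hc⟩ : C) ∈ N.subgroupOf C := by rw [h]; trivial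
        exact h1
      haveI : Fact (Nat.Prime 2) := ⟨Nat.prime_two⟩
      haveI := hN
      have hQ'N : Q.map (Subgroup.subtype C) ≤ N := by
        rintro _ ⟨x, -, rfl⟩
        exact hCN x.2
      have hQ'p : IsPGroup 2 ((Q.map (Subgroup.subtype C)).subgroupOf N) := by
        have h1 : IsPGroup 2 (Q.map (Subgroup.subtype C)) := hQ.1.1.map _
        exact h1.comap_subtype
      obtain ⟨P, hP⟩ := hQ'p.exists_le_sylow
      have hfr := Sylow.normalizer_sup_eq_top P
      have hQP : ∀ x ∈ Q, (x : G) ∈ (P : Subgroup N).map N.subtype := by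
        intro x hx
        have h1 : (x : G) ∈ N := hCN x.2
        refine ⟨⟨x, h1⟩, hP ?_, rfl⟩
        rw [Subgroup.mem_subgroupOf]
        exact ⟨x, hx, rfl⟩
      have hzP : z ∈ (P : Subgroup N).map N.subtype := hQP ⟨z, hzC⟩ hzQ
      have hcenP : ∀ u ∈ (P : Subgroup N).map N.subtype,
          (∀ v ∈ (P : Subgroup N).map N.subtype, u * v = v * u) → u = 1 ∨ u = z := by
        intro u hu huv
        have huC : u ∈ C := hmemC u (huv z hzP).symm
        have huQ : (⟨u, huC⟩ : C) ∈ Q := by
          apply hC1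
          intro x hx
          left
          have h1 := huv x (hQP x hx)
          apply Subtype.ext
          show u * x * u⁻¹ * (x : G)⁻¹ = 1
          rw [h1]
          group
        rcases hcenQ _ huQ (fun x hx => Subtype.ext (huv x (hQP x hx))) with h1 | h1
        · left; exact congrArg Subtype.val h1
        · right; exact congrArg Subtype.val h1
      have hPp : IsPGroup 2 ((P : Subgroup N).map N.subtype) := P.isPGroup'.map _
      haveI : Nontrivial ((P : Subgroup N).map N.subtype) :=
        ⟨⟨⟨z, hzP⟩, 1, fun h' => hz1 (congrArg Subtype.val h')⟩⟩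
      have hcnt := hPp.bot_lt_center
      obtain ⟨u, hu1, hu2⟩ := SetLike.exists_of_lt hcnt
      have hu3 : (u : G) = 1 ∨ (u : G) = z := by
        apply hcenP u u.2
        intro v hv
        rw [Subgroup.mem_center_iff] at hu1
        exact (congrArg Subtype.val (hu1 ⟨v, hv⟩)).symm
      have huz : (u : G) = z := by
        rcases hu3 with h1 | h1
        · exfalso
          apply hu2
          rw [Subgroup.mem_bot]
          exact Subtype.ext h1
        · exact h1
      have hzcen : ∀ v ∈ (P : Subgroup N).map N.subtype, z * v = v * z := by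
        intro v hv
        rw [Subgroup.mem_center_iff] at hu1
        rw [← huz]
        exact (congrArg Subtype.val (hu1 ⟨v, hv⟩)).symm
      have hnle : Subgroup.normalizer (((P : Subgroup N).map N.subtype : Subgroup G) : Set G) ≤ N := by
        intro n hn
        rw [Subgroup.mem_normalizer_iff] at hn
        have h1 : n * z * n⁻¹ ∈ (P : Subgroup N).map N.subtype := (hn z).1 hzP
        have h2 : n * z * n⁻¹ = 1 ∨ n * z * n⁻¹ = z := by
          apply hcenP _ h1
          intro v hv
          have h3 : n⁻¹ * v * n ∈ (P : Subgroup N).map N.subtype := by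
            rw [hn (n⁻¹ * v * n)]
            have e : n * (n⁻¹ * v * n) * n⁻¹ = v := by group
            rw [e]
            exact hv
          have h4 := hzcen _ h3
          calc n * z * n⁻¹ * v = n * (z * (n⁻¹ * v * n)) * n⁻¹ := by group
            _ = n * ((n⁻¹ * v * n) * z) * n⁻¹ := by rw [h4]
            _ = v * (n * z * n⁻¹) := by group
        apply hCN
        apply hmemC
        rcases h2 with h2 | h2
        · exfalso
          apply hz1
          have e : z = n⁻¹ * (n * z * n⁻¹) * n := by group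
          rw [e, h2]
          group
        · calc z * n = (n * z * n⁻¹) * n := by rw [h2]
            _ = n * z := by group
      rw [eq_top_iff, ← hfr]
      exact sup_le hnle le_rfl
  haveI : Nontrivial G := ⟨⟨z, 1, hz1⟩⟩
  exact ⟨fun N hN => by
    by_cases h : N = ⊥
    · left; exact h
    · right; exact hmain N hN h⟩

end main

end Cfsg.Agent.H9.LargeExtraSimple
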