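import Mathlib

set_option autoImplicit false

/-!
Central extensions with kernel inside the derived subgroup ("stem extensions"): by transfer, for a
subgroup `H` the `H.index`-th power of a kernel element lies in the derived subgroup of `H`; and the derived
subgroups of the preimages of cyclic, semidihedral-type and `C₃ × C₃`-with-a-reflection subgroups meet the
kernel trivially.
-/

namespace Cfsg.Agent.H9.StemSylow

open Subgroup
open scoped commutatorElement

variable {Γ G : Type*} [Group Γ] [Group G] (σ : Γ →* G)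

/-- Commutators of the subgroup generated by `S` lie in any subgroup `K` normalized by `S` that contains
the commutators of the generators. -/
theorem commutator_closure_le (S : Set Γ) (K : Subgroup Γ)
    (hnorm : ∀ s ∈ S, ∀ k ∈ K, s * k * s⁻¹ ∈ K ∧ s⁻¹ * k * s ∈ K)
    (hcomm : ∀ s ∈ S, ∀ t ∈ S, ⁅s, t⁆ ∈ K) :
    ⁅closure S, closure S⁆ ≤ K := by
  have hconj2 : ∀ g ∈ closure S, ∀ k ∈ K, g * k * g⁻¹ ∈ K ∧ g⁻¹ * k * g ∈ K := by
    intro g hg
    induction hg using closure_induction with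
    | mem s hs => exact hnorm s hs
    | one =>
      intro k hk
      simpa using hk
    | mul g h _ _ ihg ihh =>
      intro k hk
      constructor
      · have e : g * h * k * (g * h)⁻¹ = g * (h * k * h⁻¹) * g⁻¹ := by group
        rw [e]
        exact (ihg _ (ihh k hk).1).1
      · have e : (g * h)⁻¹ * k * (g * h) = h⁻¹ * (g⁻¹ * k * g) * h := by group
        rw [e]
        exact (ihh _ (ihg k hk).2).2
    | inv g _ ih =>
      intro k hk
      constructor
      · have e : g⁻¹ * k * g⁻¹⁻¹ = g⁻¹ * k * g := by group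
        rw [e]
        exact (ih k hk).2
      · have e : g⁻¹⁻¹ * k * g⁻¹ = g * k * g⁻¹ := by group
        rw [e]
        exact (ih k hk).1
  have hconj : ∀ g ∈ closure S, ∀ k ∈ K, g * k * g⁻¹ ∈ K := fun g hg k hk =>
    (hconj2 g hg k hk).1
  have step1 : ∀ g ∈ closure S, ∀ t ∈ S, ⁅g, t⁆ ∈ K := by
    intro g hg t ht
    induction hg using closure_induction with
    | mem s hs => exact hcomm s hs t ht
    | one => rw [commutatorElement_one_left]; exact K.one_mem
    | mul g h hg hh ihg ihh =>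
      have e : ⁅g * h, t⁆ = g * ⁅h, t⁆ * g⁻¹ * ⁅g, t⁆ := by
        simp only [commutatorElement_def]; group
      rw [e]
      exact K.mul_mem (hconj g hg _ ihh) ihg
    | inv g hg ih =>
      have e : ⁅g⁻¹, t⁆ = g⁻¹ * ⁅g, t⁆⁻¹ * g⁻¹⁻¹ := by
        simp only [commutatorElement_def]; group
      rw [e]
      exact hconj g⁻¹ (inv_mem hg) _ (K.inv_mem ih)
  rw [commutator_le]
  intro g hg h hh
  induction hh using closure_induction with
  | mem t ht => exact step1 g hg t ht
  | one => rw [commutatorElement_one_right]; exact K.one_mem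
  | mul h h' hh hh' ih ih' =>
    have e : ⁅g, h * h'⁆ = ⁅g, h⁆ * (h * ⁅g, h'⁆ * h⁻¹) := by
      simp only [commutatorElement_def]; group
    rw [e]
    exact K.mul_mem ih (hconj h hh _ ih')
  | inv h hh ih =>
    have e : ⁅g, h⁻¹⁆ = h⁻¹ * ⁅g, h⁆⁻¹ * h⁻¹⁻¹ := by
      simp only [commutatorElement_def]; group
    rw [e]
    exact hconj h⁻¹ (inv_mem hh) _ (K.inv_mem ih)

/-- The preimage of the subgroup generated by the images of `T`. -/
theorem comap_closure_image (T : Set Γ) :
    (closure (σ '' T)).comap σ = closure (T ∪ (σ.ker : Set Γ)) := by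
  apply le_antisymm
  · intro g hg
    rw [mem_comap, ← MonoidHom.map_closure] at hg
    obtain ⟨w, hw, hwg⟩ := hg
    have h3 : w⁻¹ * g ∈ σ.ker := by
      rw [MonoidHom.mem_ker, map_mul, map_inv, hwg, inv_mul_cancel]
    have e : g = w * (w⁻¹ * g) := by group
    rw [e]
    apply mul_mem
    · exact closure_mono Set.subset_union_left hw
    · exact subset_closure (Set.mem_union_right _ h3)
  · rw [closure_le]
    rintro g (hg | hg)
    · exact subset_closure ⟨g, hg, rfl⟩
    · rw [SetLike.mem_coe, mem_comap, MonoidHom.mem_ker.1 hg]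
      exact one_mem _

/-- **Transfer.** In a stem extension, the `H.index`-th power of a kernel element lies in the derived
subgroup of `H`. -/
theorem pow_index_mem_commutator [Finite Γ] (hcen : σ.ker ≤ center Γ)
    (hder : σ.ker ≤ commutator Γ) (H : Subgroup Γ) (z : Γ) (hz : z ∈ σ.ker) :
    z ^ H.index ∈ ⁅H, H⁆ := by
  have hzc : z ∈ center Γ := hcen hz
  have key : ∀ (k : ℕ) (g₀ : Γ), g₀⁻¹ * z ^ k * g₀ ∈ H → g₀⁻¹ * z ^ k * g₀ = z ^ k := by
    intro k g₀ _
    have h := mem_center_iff.1 (pow_mem hzc k) g₀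
    rw [mul_assoc, ← h, inv_mul_cancel_left]
  have h1 := MonoidHom.transfer_eq_pow (Abelianization.of : H →* Abelianization H) z key
  have h2 : MonoidHom.transfer (Abelianization.of : H →* Abelianization H) z = 1 :=
    MonoidHom.mem_ker.1 (Abelianization.commutator_subset_ker _ (hder hz))
  rw [h2] at h1
  have h3 : (⟨z ^ H.index, MonoidHom.transfer_eq_pow_aux z key⟩ : H) ∈ _root_.commutator H := by
    rw [← Abelianization.ker_of H, MonoidHom.mem_ker]
    exact h1.symm
  rw [← map_subtype_commutator]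
  exact ⟨_, h3, rfl⟩

/-- elements commuting with everything -/
theorem comm_of_mem_ker (hcen : σ.ker ≤ center Γ) {c : Γ} (hc : c ∈ σ.ker) (g : Γ) :
    g * c = c * g := mem_center_iff.1 (hcen hc) g

theorem commutator_ker_left (hcen : σ.ker ≤ center Γ) {c : Γ} (hc : c ∈ σ.ker) (g : Γ) :
    ⁅c, g⁆ = 1 := by
  rw [commutatorElement_def, ← comm_of_mem_ker σ hcen hc g]
  group

theorem commutator_ker_right (hcen : σ.ker ≤ center Γ) {c : Γ} (hc : c ∈ σ.ker) (g : Γ) :
    ⁅g, c⁆ = 1 := by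
  rw [commutatorElement_def, comm_of_mem_ker σ hcen hc g]
  group

/-- **Cyclic case.** The preimage of a cyclic subgroup is abelian. -/
theorem commutator_cyclic (hcen : σ.ker ≤ center Γ) (a : Γ) :
    ⁅closure (({a} : Set Γ) ∪ (σ.ker : Set Γ)), closure (({a} : Set Γ) ∪ (σ.ker : Set Γ))⁆ = ⊥ := by
  rw [eq_bot_iff]
  apply commutator_closure_le
  · intro s _ k hk
    rw [mem_bot] at hk
    subst hk
    simp
  · rintro s (hs | hs) t (ht | ht)
    · rw [Set.mem_singleton_iff] at hs ht
      subst hs ht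
      rw [commutatorElement_self]
      exact one_mem _
    · rw [commutator_ker_right σ hcen ht]
      exact one_mem _
    · rw [commutator_ker_left σ hcen hs]
      exact one_mem _
    · rw [commutator_ker_left σ hcen hs]
      exact one_mem _

/-- **`C₃ × C₃` with a reflection.** If the images of `a`, `b` commute, the image of `a` has order dividing `3`,
and some `g` inverts the image of `a` and centralizes that of `b`, then the preimage of `⟨σ a, σ b⟩` is abelian. -/
theorem commutator_c3c3 (hcen : σ.ker ≤ center Γ) (a b g : Γ) (hab : σ a * σ b = σ b * σ a)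
    (ha3 : σ a ^ 3 = 1) (hga : σ (g * a * g⁻¹) = (σ a)⁻¹) (hgb : σ (g * b * g⁻¹) = σ b) :
    ⁅closure (({a, b} : Set Γ) ∪ (σ.ker : Set Γ)), closure (({a, b} : Set Γ) ∪ (σ.ker : Set Γ))⁆ = ⊥ := by
  obtain ⟨c, hcdef⟩ : ∃ c, c = ⁅a, b⁆ := ⟨_, rfl⟩
  have hck : c ∈ σ.ker := by
    rw [MonoidHom.mem_ker, hcdef, commutatorElement_def, map_mul, map_mul, map_mul, map_inv, map_inv, hab]
    group
  have hcc : ∀ x : Γ, x * c = c * x := comm_of_mem_ker σ hcen hck
  -- `c ^ 3 = 1`
  have hconj : a * b * a⁻¹ = c * b := by rw [hcdef, commutatorElement_def]; group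
  have hpow : ∀ n : ℕ, a ^ n * b * (a ^ n)⁻¹ = c ^ n * b := by
    intro n
    induction n with
    | zero => simp
    | succ n ih =>
      have e : a ^ (n + 1) * b * (a ^ (n + 1))⁻¹ = a * (a ^ n * b * (a ^ n)⁻¹) * a⁻¹ := by
        rw [pow_succ']; group
      rw [e, ih]
      have e2 : a * (c ^ n * b) * a⁻¹ = (a * c ^ n) * b * a⁻¹ := by group
      have hcn : a * c ^ n = c ^ n * a := by
        have : c ^ n ∈ center Γ := pow_mem (hcen hck) n
        exact mem_center_iff.1 this a
      rw [e2, hcn]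
      have e3 : c ^ n * a * b * a⁻¹ = c ^ n * (a * b * a⁻¹) := by group
      rw [e3, hconj, pow_succ]
      group
  have ha3k : a ^ 3 ∈ σ.ker := by rw [MonoidHom.mem_ker, map_pow, ha3]
  have hc3 : c ^ 3 = 1 := by
    have h1 := hpow 3
    have h2 : a ^ 3 * b = b * a ^ 3 := (comm_of_mem_ker σ hcen ha3k b).symm
    rw [h2, mul_assoc, mul_inv_cancel, mul_one] at h1
    exact (mul_eq_right.1 h1.symm)
  -- `c ^ 2 = 1`
  obtain ⟨z1, hz1⟩ : ∃ z1, z1 = a * (g * a * g⁻¹) := ⟨_, rfl⟩
  obtain ⟨z2, hz2⟩ : ∃ z2, z2 = b⁻¹ * (g * b * g⁻¹) := ⟨_, rfl⟩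
  have hz1k : z1 ∈ σ.ker := by
    rw [MonoidHom.mem_ker, hz1, map_mul, hga, mul_inv_cancel]
  have hz2k : z2 ∈ σ.ker := by
    rw [MonoidHom.mem_ker, hz2, map_mul, map_inv, hgb, inv_mul_cancel]
  have hga' : g * a * g⁻¹ = a⁻¹ * z1 := by rw [hz1]; group
  have hgb' : g * b * g⁻¹ = b * z2 := by rw [hz2]; group
  have hgc : g * c * g⁻¹ = c := by rw [hcc g]; group
  have hgc2 : g * c * g⁻¹ = ⁅g * a * g⁻¹, g * b * g⁻¹⁆ := by
    rw [hcdef]; simp only [commutatorElement_def]; group
  have h1c : ⁅a⁻¹ * z1, b * z2⁆ = ⁅a⁻¹, b⁆ := by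
    have hz1c : ∀ x : Γ, x * z1 = z1 * x := comm_of_mem_ker σ hcen hz1k
    have hz2c : ∀ x : Γ, x * z2 = z2 * x := comm_of_mem_ker σ hcen hz2k
    simp only [commutatorElement_def, mul_inv_rev, inv_inv]
    calc a⁻¹ * z1 * (b * z2) * (z1⁻¹ * a) * (z2⁻¹ * b⁻¹)
        = a⁻¹ * (z1 * b) * (z2 * z1⁻¹) * a * z2⁻¹ * b⁻¹ := by group
      _ = a⁻¹ * (b * z1) * (z1⁻¹ * z2) * a * z2⁻¹ * b⁻¹ := by
          rw [hz1c b, ← hz2c z1⁻¹]
      _ = a⁻¹ * b * (z2 * a) * z2⁻¹ * b⁻¹ := by group
      _ = a⁻¹ * b * (a * z2) * z2⁻¹ * b⁻¹ := by rw [hz2c a]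
      _ = a⁻¹ * b * a * b⁻¹ := by group
  have h2c : ⁅a⁻¹, b⁆ = c⁻¹ := by
    have h := hcc a⁻¹
    -- a⁻¹ * c * a = c
    have h' : a⁻¹ * c * a = c := by rw [h]; group
    rw [hcdef] at h'
    simp only [commutatorElement_def] at h' ⊢
    have e : a⁻¹ * (a * b * a⁻¹ * b⁻¹) * a = b * a⁻¹ * b⁻¹ * a := by group
    rw [e] at h'
    rw [hcdef, commutatorElement_def, ← h']
    group
  have hc2 : c = c⁻¹ := by
    rw [← h2c, ← h1c, ← hga', ← hgb', ← hgc2, hgc]
  have hc1 : c = 1 := by
    have h4 : c * c = 1 := by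
      nth_rewrite 2 [hc2]
      exact mul_inv_cancel c
    have : c ^ 3 = c * (c * c) := by rw [pow_succ, pow_two]; group
    rw [this, h4, mul_one] at hc3
    exact hc3
  rw [eq_bot_iff]
  apply commutator_closure_le
  · intro s _ k hk
    rw [mem_bot] at hk
    subst hk
    simp
  · have hab1 : ⁅a, b⁆ = 1 := by rw [← hcdef, hc1]
    have hba1 : ⁅b, a⁆ = 1 := by rw [← commutatorElement_inv, hab1, inv_one]
    rintro s (hs | hs) t (ht | ht)
    · rw [Set.mem_insert_iff, Set.mem_singleton_iff] at hs ht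
      rcases hs with rfl | rfl <;> rcases ht with rfl | rfl
      · rw [commutatorElement_self]; exact one_mem _
      · rw [hab1]; exact one_mem _
      · rw [hba1]; exact one_mem _
      · rw [commutatorElement_self]; exact one_mem _
    · rw [commutator_ker_right σ hcen ht]
      exact one_mem _
    · rw [commutator_ker_left σ hcen hs]
      exact one_mem _
    · rw [commutator_ker_left σ hcen hs]
      exact one_mem _

/-- **Semidihedral case.** If `σ b` is an involution (or trivial) conjugating `σ a` to its cube and `(σ a)²` has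
order `4`, then the derived subgroup of the preimage of `⟨σ a, σ b⟩` meets the kernel trivially. -/
theorem commutator_sd (hcen : σ.ker ≤ center Γ) (a b : Γ) (h1 : σ (b * a * b⁻¹) = σ a ^ 3)
    (h2 : σ b ^ 2 = 1) (h3 : ∀ n : ℤ, (σ a ^ 2) ^ n = 1 → (4 : ℤ) ∣ n) :
    ∀ w ∈ ⁅closure (({a, b} : Set Γ) ∪ (σ.ker : Set Γ)), closure (({a, b} : Set Γ) ∪ (σ.ker : Set Γ))⁆,
      w ∈ σ.ker → w = 1 := by
  obtain ⟨z0, hz0⟩ : ∃ z0, z0 = (a ^ 3)⁻¹ * (b * a * b⁻¹) := ⟨_, rfl⟩
  have hz0k : z0 ∈ σ.ker := by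
    rw [MonoidHom.mem_ker, hz0, map_mul, map_inv, map_pow, h1, inv_mul_cancel]
  have hz0c : ∀ x : Γ, x * z0 = z0 * x := comm_of_mem_ker σ hcen hz0k
  have hbab : b * a * b⁻¹ = a ^ 3 * z0 := by rw [hz0]; group
  obtain ⟨u, hudef⟩ : ∃ u, u = ⁅b, a⁆ := ⟨_, rfl⟩
  have hu : u = a ^ 2 * z0 := by
    rw [hudef, commutatorElement_def, hbab]
    calc a ^ 3 * z0 * a⁻¹ = a ^ 3 * (z0 * a⁻¹) := by group
      _ = a ^ 3 * (a⁻¹ * z0) := by rw [← hz0c a⁻¹]
      _ = a ^ 2 * z0 := by group
  have hbab' : b * a * b⁻¹ = u * a := by rw [hudef, commutatorElement_def]; group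
  have hau : a * u = u * a := by
    rw [hu]
    calc a * (a ^ 2 * z0) = a ^ 2 * (a * z0) := by group
      _ = a ^ 2 * (z0 * a) := by rw [hz0c a]
      _ = a ^ 2 * z0 * a := by group
  have hb2k : b ^ 2 ∈ σ.ker := by rw [MonoidHom.mem_ker, map_pow, h2]
  have hb2c : ∀ x : Γ, x * b ^ 2 = b ^ 2 * x := comm_of_mem_ker σ hcen hb2k
  have hbu : b * u * b⁻¹ = u⁻¹ := by
    have e1 : b * u * b⁻¹ = (b ^ 2 * a) * (b ^ 2)⁻¹ * (b * a * b⁻¹)⁻¹ := by
      rw [hudef, commutatorElement_def, pow_two]; group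
    rw [e1, ← hb2c a, hbab']
    group
  have hbu3 : b * u * b⁻¹ = u ^ 3 := by
    have e1 : b * u * b⁻¹ = (b * a * b⁻¹) ^ 2 * (b * z0 * b⁻¹) := by
      rw [hu, pow_two, pow_two]; group
    have e2 : b * z0 * b⁻¹ = z0 := by rw [hz0c b]; group
    rw [e1, e2, hbab']
    -- (u a)^2 z0 = u^2 a^2 z0 = u^3
    have e3 : (u * a) ^ 2 = u ^ 2 * a ^ 2 := by
      rw [pow_two, pow_two, pow_two]
      calc u * a * (u * a) = u * (a * u) * a := by group
        _ = u * (u * a) * a := by rw [hau]
        _ = u * u * (a * a) := by group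
    rw [e3, mul_assoc, ← hu, ← pow_succ]
  have hu4 : u ^ 4 = 1 := by
    have : u ^ 3 = u⁻¹ := by rw [← hbu3, hbu]
    calc u ^ 4 = u ^ 3 * u := pow_succ u 3
      _ = 1 := by rw [this, inv_mul_cancel]
  have hbiu : b⁻¹ * u * b = u⁻¹ := by
    have : u = b⁻¹ * u⁻¹ * b := by rw [← hbu]; group
    calc b⁻¹ * u * b = b⁻¹ * (b⁻¹ * u⁻¹ * b) * b := by rw [← this]
      _ = (b ^ 2)⁻¹ * u⁻¹ * b ^ 2 := by rw [pow_two]; group
      _ = (b ^ 2)⁻¹ * (b ^ 2 * u⁻¹) := by rw [mul_assoc, hb2c u⁻¹]
      _ = u⁻¹ := by group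
  have hle : ⁅closure (({a, b} : Set Γ) ∪ (σ.ker : Set Γ)),
      closure (({a, b} : Set Γ) ∪ (σ.ker : Set Γ))⁆ ≤ zpowers u := by
    apply commutator_closure_le
    · rintro s (hs | hs) k hk
      · rw [Set.mem_insert_iff, Set.mem_singleton_iff] at hs
        obtain ⟨n, rfl⟩ := mem_zpowers_iff.1 hk
        rcases hs with rfl | rfl
        · have hc : Commute s (u ^ n) := (Commute.zpow_right hau n)
          constructor
          · have : s * u ^ n * s⁻¹ = u ^ n := by rw [hc.eq]; group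
            rw [this]; exact zpow_mem (mem_zpowers u) n
          · have : s⁻¹ * u ^ n * s = u ^ n := by rw [mul_assoc, ← hc.eq]; group
            rw [this]; exact zpow_mem (mem_zpowers u) n
        · constructor
          · have : s * u ^ n * s⁻¹ = (s * u * s⁻¹) ^ n := conj_zpow.symm
            rw [this, hbu]
            exact zpow_mem (inv_mem (mem_zpowers u)) n
          · have : s⁻¹ * u ^ n * s = (s⁻¹ * u * s) ^ n := by
              have := (conj_zpow (a := s⁻¹) (b := u) (i := n)).symm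
              rwa [inv_inv] at this
            rw [this, hbiu]
            exact zpow_mem (inv_mem (mem_zpowers u)) n
      · have hsc : ∀ x : Γ, x * s = s * x := comm_of_mem_ker σ hcen hs
        constructor
        · have : s * k * s⁻¹ = k := by rw [← hsc k]; group
          rw [this]; exact hk
        · have : s⁻¹ * k * s = k := by rw [mul_assoc, hsc k]; group
          rw [this]; exact hk
    · rintro s (hs | hs) t (ht | ht)
      · rw [Set.mem_insert_iff, Set.mem_singleton_iff] at hs ht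
        rcases hs with rfl | rfl <;> rcases ht with rfl | rfl
        · rw [commutatorElement_self]; exact one_mem _
        · rw [← commutatorElement_inv, ← hudef]; exact inv_mem (mem_zpowers u)
        · rw [← hudef]; exact mem_zpowers u
        · rw [commutatorElement_self]; exact one_mem _
      · rw [commutator_ker_right σ hcen ht]
        exact one_mem _
      · rw [commutator_ker_left σ hcen hs]
        exact one_mem _
      · rw [commutator_ker_left σ hcen hs]
        exact one_mem _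
  intro w hw hwk
  obtain ⟨n, rfl⟩ := mem_zpowers_iff.1 (hle hw)
  have hσu : σ u = σ a ^ 2 := by
    rw [hu, map_mul, map_pow, MonoidHom.mem_ker.1 hz0k, mul_one]
  have h4 : (4 : ℤ) ∣ n := by
    apply h3
    rw [← hσu, ← map_zpow]
    exact MonoidHom.mem_ker.1 hwk
  obtain ⟨m, rfl⟩ := h4
  rw [zpow_mul]
  have : u ^ (4 : ℤ) = 1 := by
    have := hu4
    exact_mod_cast this
  rw [this, one_zpow]

section assembly

variable [Finite Γ]

/-- index of the preimage, and the transfer statement for preimages -/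
theorem pow_index_mem_commutator_comap (hsurj : Function.Surjective σ) (hcen : σ.ker ≤ center Γ)
    (hder : σ.ker ≤ commutator Γ) (Q : Subgroup G) (z : Γ) (hz : z ∈ σ.ker) :
    z ^ Q.index ∈ ⁅Q.comap σ, Q.comap σ⁆ := by
  have := pow_index_mem_commutator σ hcen hder (Q.comap σ) z hz
  rwa [index_comap_of_surjective Q hsurj] at this

/-- cyclic subgroups: the index kills the kernel -/
theorem ker_pow_eq_one_of_cyclic (hsurj : Function.Surjective σ) (hcen : σ.ker ≤ center Γ)
    (hder : σ.ker ≤ commutator Γ) (q : G) (z : Γ) (hz : z ∈ σ.ker) :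
    z ^ (zpowers q).index = 1 := by
  obtain ⟨a, rfl⟩ := hsurj q
  have h := pow_index_mem_commutator_comap σ hsurj hcen hder (zpowers (σ a)) z hz
  have e : (zpowers (σ a)).comap σ = closure (({a} : Set Γ) ∪ (σ.ker : Set Γ)) := by
    rw [← comap_closure_image, Set.image_singleton, zpowers_eq_closure]
  rw [e, commutator_cyclic σ hcen a, mem_bot] at h
  exact h

/-- semidihedral-type subgroups: the index kills the kernel -/
theorem ker_pow_eq_one_of_sd (hsurj : Function.Surjective σ) (hcen : σ.ker ≤ center Γ)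
    (hder : σ.ker ≤ commutator Γ) (x t : G) (h1 : t * x * t⁻¹ = x ^ 3) (h2 : t ^ 2 = 1)
    (h3 : ∀ n : ℤ, (x ^ 2) ^ n = 1 → (4 : ℤ) ∣ n) (z : Γ) (hz : z ∈ σ.ker) :
    z ^ (closure ({x, t} : Set G)).index = 1 := by
  obtain ⟨a, rfl⟩ := hsurj x
  obtain ⟨b, rfl⟩ := hsurj t
  have h := pow_index_mem_commutator_comap σ hsurj hcen hder (closure ({σ a, σ b} : Set G)) z hz
  have e : (closure ({σ a, σ b} : Set G)).comap σ = closure (({a, b} : Set Γ) ∪ (σ.ker : Set Γ)) := by
    rw [← comap_closure_image, Set.image_pair]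
  rw [e] at h
  exact commutator_sd σ hcen a b (by rw [map_mul, map_mul, map_inv, h1]) h2 h3 _ h
    (pow_mem hz _)

/-- `C₃ × C₃` with a reflection: the index kills the kernel -/
theorem ker_pow_eq_one_of_c3c3 (hsurj : Function.Surjective σ) (hcen : σ.ker ≤ center Γ)
    (hder : σ.ker ≤ commutator Γ) (x y g : G) (hxy : x * y = y * x) (hx3 : x ^ 3 = 1)
    (hgx : g * x * g⁻¹ = x⁻¹) (hgy : g * y * g⁻¹ = y) (z : Γ) (hz : z ∈ σ.ker) :
    z ^ (closure ({x, y} : Set G)).index = 1 := by
  obtain ⟨a, rfl⟩ := hsurj x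
  obtain ⟨b, rfl⟩ := hsurj y
  obtain ⟨c, rfl⟩ := hsurj g
  have h := pow_index_mem_commutator_comap σ hsurj hcen hder (closure ({σ a, σ b} : Set G)) z hz
  have e : (closure ({σ a, σ b} : Set G)).comap σ = closure (({a, b} : Set Γ) ∪ (σ.ker : Set Γ)) := by
    rw [← comap_closure_image, Set.image_pair]
  rw [e, commutator_c3c3 σ hcen a b c hxy hx3 (by rw [map_mul, map_mul, map_inv, hgx])
    (by rw [map_mul, map_mul, map_inv, hgy]), mem_bot] at h
  exact h

end assembly

/-- The index of `⟨x, t⟩` when `x` has order `p ^ k`, `t` is a `p`-element normalizing `⟨x⟩` but not in it,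
and the group has order `p ^ (k + 1) * r` with `r` prime to `p`. -/
theorem index_closure_pair [Finite G] (p : ℕ) [hp : Fact p.Prime] (x t : G) (k m r : ℕ)
    (hx : orderOf x = p ^ k) (ht : t ^ p ^ m = 1) (hn1 : t * x * t⁻¹ ∈ zpowers x)
    (hn2 : t⁻¹ * x * t ∈ zpowers x) (hnot : t ∉ zpowers x) (hcard : Nat.card G = p ^ (k + 1) * r)
    (hr : ¬ p ∣ r) : (closure ({x, t} : Set G)).index = r := by
  have hN : IsPGroup p (zpowers x) := IsPGroup.of_card (n := k) (by rw [Nat.card_zpowers, hx])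
  have hH : IsPGroup p (zpowers t) := by
    obtain ⟨j, _, hj⟩ := (Nat.dvd_prime_pow hp.out).1 (orderOf_dvd_of_pow_eq_one ht)
    exact IsPGroup.of_card (n := j) (by rw [Nat.card_zpowers, hj])
  have hconj : ∀ n : ℤ, t * x ^ n * t⁻¹ ∈ zpowers x := by
    intro n
    rw [← conj_zpow]
    exact zpow_mem hn1 n
  have hconj' : ∀ n : ℤ, t⁻¹ * x ^ n * t ∈ zpowers x := by
    intro n
    have := (conj_zpow (a := t⁻¹) (b := x) (i := n)).symm
    rw [inv_inv] at this
    rw [this]
    exact zpow_mem hn2 n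
  have hHN : zpowers t ≤ normalizer (zpowers x) := by
    rw [zpowers_le, mem_normalizer_iff]
    intro h
    constructor
    · intro hh
      obtain ⟨n, rfl⟩ := mem_zpowers_iff.1 hh
      exact hconj n
    · intro hh
      obtain ⟨n, hn⟩ := mem_zpowers_iff.1 hh
      have e : h = t⁻¹ * x ^ n * t := by rw [hn]; group
      rw [e]
      exact hconj' n
  have hP : IsPGroup p (zpowers t ⊔ zpowers x : Subgroup G) := IsPGroup.to_sup_of_normal_right' hH hN hHN
  have hQ : closure ({x, t} : Set G) = zpowers t ⊔ zpowers x := by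
    rw [Set.pair_comm, ← Set.singleton_union, Subgroup.closure_union, zpowers_eq_closure, zpowers_eq_closure]
  rw [hQ]
  obtain ⟨j, hj⟩ := IsPGroup.iff_card.1 hP
  have hle : zpowers x ≤ zpowers t ⊔ zpowers x := le_sup_right
  have h1 : p ^ k ∣ p ^ j := by
    rw [← hj, ← hx, ← Nat.card_zpowers]
    exact card_dvd_of_le hle
  have hkj : k ≤ j := (Nat.pow_dvd_pow_iff_le_right hp.out.one_lt).1 h1
  have hne : k ≠ j := by
    intro hkj'
    apply hnot
    have : zpowers x = zpowers t ⊔ zpowers x := by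
      apply eq_of_le_of_card_ge hle
      rw [hj, Nat.card_zpowers, hx, hkj']
    rw [this]
    exact le_sup_left (a := zpowers t) (mem_zpowers t)
  have h2 : p ^ j ∣ p ^ (k + 1) * r := by
    rw [← hj, ← hcard]
    exact card_subgroup_dvd_card _
  have h3 : p ^ j ∣ p ^ (k + 1) :=
    (Nat.Coprime.pow_left j ((Nat.Prime.coprime_iff_not_dvd hp.out).2 hr)).dvd_of_dvd_mul_right h2
  have hjk : j ≤ k + 1 := (Nat.pow_dvd_pow_iff_le_right hp.out.one_lt).1 h3
  have hjeq : j = k + 1 := by omega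
  have h4 := card_mul_index (zpowers t ⊔ zpowers x : Subgroup G)
  rw [hj, hcard, hjeq] at h4
  exact Nat.eq_of_mul_eq_mul_left (pow_pos hp.out.pos _) h4

end Cfsg.Agent.H9.StemSylow
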