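import Mathlib
import Cfsg.Agent.Lib.Helper6.M11Out3
import Cfsg.Agent.H9.StemSylow
import Cfsg.Agent.H1.StemMeta

set_option autoImplicit false
set_option maxRecDepth 1000000

/-!
The Schur multiplier of the smallest Mathieu group is trivial: Sylow subgroups of orders `5` and `11` are cyclic,
a Sylow `2`-subgroup is semidihedral of order `16`, and a Sylow `3`-subgroup is `C₃ × C₃` with an involution of the
normalizer inverting one generator and centralizing the other.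
-/

namespace Cfsg.Agent.H9.M11Mult

open Cfsg Cfsg.Agent.Lib.Helper6.Golay Cfsg.Agent.Lib.Helper6.Golay.M12Out
open Cfsg.Agent.Lib.Helper6.Golay.M11Out

/-! ### lists -/

def xL : List ℕ := lmul (lmul (lmul (lmul (lmul y2L y2L) z2L) s2L) y2L) z2L
def tL : List ℕ := lmul s2L s2L
def aL : List ℕ := lmul (lmul (lmul (lmul (lmul y2L s2L) s2L) y2L) z2L) y2L
def bL : List ℕ := lmul (lmul (lmul (lmul (lmul z2L s2L) y2L) z2L) s2L) y2L

noncomputable def xP : Equiv.Perm GolayPt := y2 * y2 * z2 * s2 * y2 * z2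
noncomputable def tP : Equiv.Perm GolayPt := s2 * s2
noncomputable def aP : Equiv.Perm GolayPt := y2 * s2 * s2 * y2 * z2 * y2
noncomputable def bP : Equiv.Perm GolayPt := z2 * s2 * y2 * z2 * s2 * y2

theorem xP_isL : IsL xP xL :=
  ((((y2_isL.mul y2_isL).mul z2_isL).mul s2_isL).mul y2_isL).mul z2_isL
theorem tP_isL : IsL tP tL := s2_isL.mul s2_isL
theorem aP_isL : IsL aP aL :=
  ((((y2_isL.mul s2_isL).mul s2_isL).mul y2_isL).mul z2_isL).mul y2_isL
theorem bP_isL : IsL bP bL :=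
  ((((z2_isL.mul s2_isL).mul y2_isL).mul z2_isL).mul s2_isL).mul y2_isL

theorem xP_mem : xP ∈ G0 :=
  mul_mem (mul_mem (mul_mem (mul_mem (mul_mem y2_mem y2_mem) z2_mem) s2_mem) y2_mem) z2_mem
theorem tP_mem : tP ∈ G0 := mul_mem s2_mem s2_mem
theorem aP_mem : aP ∈ G0 :=
  mul_mem (mul_mem (mul_mem (mul_mem (mul_mem y2_mem s2_mem) s2_mem) y2_mem) z2_mem) y2_mem
theorem bP_mem : bP ∈ G0 :=
  mul_mem (mul_mem (mul_mem (mul_mem (mul_mem z2_mem s2_mem) y2_mem) z2_mem) s2_mem) y2_mem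

/-! ### relations among the permutations -/

theorem tP_sq : tP * tP = 1 := (tP_isL.mul tP_isL).ext' IsL.one (by decide +kernel)
theorem tP_xP : tP * xP * tP = xP ^ 3 :=
  ((tP_isL.mul xP_isL).mul tP_isL).ext' (xP_isL.pow 3) (by decide +kernel)
theorem xP_pow8 : xP ^ 8 = 1 := (xP_isL.pow 8).ext' IsL.one (by decide +kernel)
theorem xP_pow4 : xP ^ 4 ≠ 1 := by
  intro h
  have h1 := (xP_isL.pow 4).2
  rw [h] at h1
  have h2 := IsL.one.2
  have := lfun_injective' (xP_isL.pow 4).1 IsL.one.1 (h1.symm.trans h2)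
  revert this
  decide +kernel
theorem aP_pow3 : aP ^ 3 = 1 := (aP_isL.pow 3).ext' IsL.one (by decide +kernel)
theorem bP_pow3 : bP ^ 3 = 1 := (bP_isL.pow 3).ext' IsL.one (by decide +kernel)
theorem aP_ne : aP ≠ 1 := by
  intro h
  have h1 := aP_isL.2
  rw [h] at h1
  have := lfun_injective' aP_isL.1 IsL.one.1 (h1.symm.trans IsL.one.2)
  revert this
  decide +kernel
theorem bP_ne : bP ≠ 1 := by
  intro h
  have h1 := bP_isL.2
  rw [h] at h1
  have := lfun_injective' bP_isL.1 IsL.one.1 (h1.symm.trans IsL.one.2)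
  revert this
  decide +kernel
theorem aP_bP : aP * bP = bP * aP := (aP_isL.mul bP_isL).ext' (bP_isL.mul aP_isL) (by decide +kernel)
theorem tP_aP : tP * aP * tP = aP ^ 2 :=
  ((tP_isL.mul aP_isL).mul tP_isL).ext' (aP_isL.pow 2) (by decide +kernel)
theorem tP_bP : tP * bP * tP = bP :=
  ((tP_isL.mul bP_isL).mul tP_isL).ext' bP_isL (by decide +kernel)
theorem z2_pow5 : z2 ^ 5 = 1 := (z2_isL.pow 5).ext' IsL.one (by decide +kernel)
theorem z2_ne : z2 ≠ 1 := by
  intro h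
  have h1 := z2_isL.2
  rw [h] at h1
  have := lfun_injective' z2_isL.1 IsL.one.1 (h1.symm.trans IsL.one.2)
  revert this
  decide +kernel

/-! ### the elements in the group -/

noncomputable def xS : G0 := ⟨xP, xP_mem⟩
noncomputable def tS : G0 := ⟨tP, tP_mem⟩
noncomputable def aT : G0 := ⟨aP, aP_mem⟩
noncomputable def bT : G0 := ⟨bP, bP_mem⟩

theorem tS_sq : tS * tS = 1 := Subtype.ext tP_sq
theorem tS_inv : tS⁻¹ = tS := inv_eq_of_mul_eq_one_left tS_sq
theorem tS_xS : tS * xS * tS⁻¹ = xS ^ 3 := by rw [tS_inv]; exact Subtype.ext tP_xP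
theorem xS_pow8 : xS ^ 8 = 1 := Subtype.ext xP_pow8
theorem xS_pow4 : xS ^ 4 ≠ 1 := fun h => xP_pow4 (congrArg Subtype.val h)
theorem aT_pow3 : aT ^ 3 = 1 := Subtype.ext aP_pow3
theorem bT_pow3 : bT ^ 3 = 1 := Subtype.ext bP_pow3
theorem aT_ne : aT ≠ 1 := fun h => aP_ne (congrArg Subtype.val h)
theorem bT_ne : bT ≠ 1 := fun h => bP_ne (congrArg Subtype.val h)
theorem aT_bT : aT * bT = bT * aT := Subtype.ext aP_bP
theorem tS_aT : tS * aT * tS⁻¹ = aT⁻¹ := by
  rw [tS_inv]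
  have h1 : tS * aT * tS = aT ^ 2 := Subtype.ext tP_aP
  rw [h1]
  have h2 : aT ^ 2 * aT = 1 := by rw [← pow_succ]; exact aT_pow3
  exact (inv_eq_of_mul_eq_one_left h2).symm
theorem tS_bT : tS * bT * tS⁻¹ = bT := by rw [tS_inv]; exact Subtype.ext tP_bP

theorem xS_order : orderOf xS = 2 ^ 3 :=
  orderOf_eq_prime_pow (p := 2) (n := 2) (by norm_num; exact xS_pow4) (by norm_num; exact xS_pow8)

theorem xS_sq_order : orderOf (xS ^ 2) = 2 ^ 2 := by
  apply orderOf_eq_prime_pow (p := 2) (n := 1)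
  · rw [← pow_mul]; norm_num; exact xS_pow4
  · rw [← pow_mul]; norm_num; exact xS_pow8

theorem xS_sq_ne : xS ^ 2 ≠ 1 := by
  intro h
  apply xS_pow4
  have : xS ^ 4 = (xS ^ 2) ^ 2 := by rw [← pow_mul]
  rw [this, h, one_pow]

theorem tS_notMem : tS ∉ Subgroup.zpowers xS := by
  intro h
  obtain ⟨n, hn⟩ := Subgroup.mem_zpowers_iff.1 h
  have hc : Commute tS xS := by rw [← hn]; exact (Commute.refl xS).zpow_left n
  have h1 := tS_xS
  rw [hc.eq, mul_inv_cancel_right] at h1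
  apply xS_sq_ne
  have : xS ^ 3 = xS * xS ^ 2 := by rw [pow_succ']
  rw [this] at h1
  exact (mul_eq_left.1 h1.symm)

theorem index_Q2 : (Subgroup.closure ({xS, tS} : Set G0)).index = 495 := by
  have : Fact (Nat.Prime 2) := ⟨Nat.prime_two⟩
  have : Finite G0 := Nat.finite_of_card_ne_zero (by rw [G0_card]; norm_num)
  apply Cfsg.Agent.H9.StemSylow.index_closure_pair 2 xS tS 3 1 495 xS_order
  · rw [pow_one, pow_two]; exact tS_sq
  · rw [tS_xS]; exact pow_mem (Subgroup.mem_zpowers xS) 3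
  · have : tS⁻¹ * xS * tS = tS * xS * tS⁻¹ := by rw [tS_inv]
    rw [this, tS_xS]; exact pow_mem (Subgroup.mem_zpowers xS) 3
  · exact tS_notMem
  · rw [G0_card]; norm_num
  · norm_num

theorem aT_order : orderOf aT = 3 ^ 1 := by
  rw [pow_one]
  exact orderOf_eq_prime aT_pow3 aT_ne

theorem bT_notMem : bT ∉ Subgroup.zpowers aT := by
  intro h
  obtain ⟨n, hn⟩ := Subgroup.mem_zpowers_iff.1 h
  have h1 : tS * bT * tS⁻¹ = bT⁻¹ := by
    rw [← hn, ← conj_zpow, tS_aT, inv_zpow]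
  rw [tS_bT] at h1
  -- bT = bT⁻¹, bT^3 = 1
  apply bT_ne
  have h2 : bT * bT = 1 := by
    nth_rewrite 2 [h1]
    exact mul_inv_cancel bT
  have h3 : bT ^ 3 = bT * (bT * bT) := by rw [pow_succ, pow_two]; group
  rw [← bT_pow3, h3, h2, mul_one]

theorem index_Q3 : (Subgroup.closure ({aT, bT} : Set G0)).index = 880 := by
  have : Fact (Nat.Prime 3) := ⟨Nat.prime_three⟩
  have : Finite G0 := Nat.finite_of_card_ne_zero (by rw [G0_card]; norm_num)
  apply Cfsg.Agent.H9.StemSylow.index_closure_pair 3 aT bT 1 1 880 aT_order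
  · rw [pow_one]; exact bT_pow3
  · have : bT * aT * bT⁻¹ = aT := by rw [← aT_bT]; group
    rw [this]; exact Subgroup.mem_zpowers aT
  · have : bT⁻¹ * aT * bT = aT := by rw [mul_assoc, aT_bT]; group
    rw [this]; exact Subgroup.mem_zpowers aT
  · exact bT_notMem
  · rw [G0_card]; norm_num
  · norm_num

theorem zG_order : orderOf M11Out.zG = 5 := by
  have : Fact (Nat.Prime 5) := ⟨by norm_num⟩
  apply orderOf_eq_prime
  · exact Subtype.ext z2_pow5
  · intro h
    exact z2_ne (congrArg Subtype.val h)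

theorem index_Q5 : (Subgroup.zpowers M11Out.zG).index = 1584 := by
  have h := Subgroup.card_mul_index (Subgroup.zpowers M11Out.zG)
  rw [Nat.card_zpowers, zG_order, G0_card] at h
  omega

theorem index_Q11 : (Subgroup.zpowers M11Out.yG).index = 720 := by
  have h := Subgroup.card_mul_index (Subgroup.zpowers M11Out.yG)
  rw [Nat.card_zpowers, M11Out.yG_order, G0_card] at h
  omega

/-- every finite stem extension of `G0` is an isomorphism -/
theorem ker_eq_bot {Γ : Type*} [Group Γ] [Finite Γ] (σ : Γ →* G0) (hsurj : Function.Surjective σ)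
    (hcen : σ.ker ≤ Subgroup.center Γ) (hder : σ.ker ≤ commutator Γ) : σ.ker = ⊥ := by
  rw [eq_bot_iff]
  intro z hz
  rw [Subgroup.mem_bot]
  have h2 := Cfsg.Agent.H9.StemSylow.ker_pow_eq_one_of_sd σ hsurj hcen hder xS tS tS_xS
    (by rw [pow_two]; exact tS_sq)
    (fun n hn => by
      have := (orderOf_dvd_iff_zpow_eq_one (x := xS ^ 2) (i := n)).2 hn
      rw [xS_sq_order] at this
      exact_mod_cast this) z hz
  rw [index_Q2] at h2
  have h3 := Cfsg.Agent.H9.StemSylow.ker_pow_eq_one_of_c3c3 σ hsurj hcen hder aT bT tS aT_bT aT_pow3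
    tS_aT tS_bT z hz
  rw [index_Q3] at h3
  have h5 := Cfsg.Agent.H9.StemSylow.ker_pow_eq_one_of_cyclic σ hsurj hcen hder M11Out.zG z hz
  rw [index_Q5] at h5
  have h11 := Cfsg.Agent.H9.StemSylow.ker_pow_eq_one_of_cyclic σ hsurj hcen hder M11Out.yG z hz
  rw [index_Q11] at h11
  have d1 : orderOf z ∣ Nat.gcd 495 880 := Nat.dvd_gcd (orderOf_dvd_of_pow_eq_one h2)
    (orderOf_dvd_of_pow_eq_one h3)
  have d2 : orderOf z ∣ Nat.gcd (Nat.gcd 495 880) 1584 := Nat.dvd_gcd d1 (orderOf_dvd_of_pow_eq_one h5)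
  have d3 : orderOf z ∣ Nat.gcd (Nat.gcd (Nat.gcd 495 880) 1584) 720 :=
    Nat.dvd_gcd d2 (orderOf_dvd_of_pow_eq_one h11)
  have e : Nat.gcd (Nat.gcd (Nat.gcd 495 880) 1584) 720 = 1 := by norm_num
  rw [e, Nat.dvd_one] at d3
  exact orderOf_eq_one_iff.1 d3

end Cfsg.Agent.H9.M11Mult
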