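import Cfsg.Agent.H9.M22BlkDataB
import Cfsg.Agent.Lib.Helper6.GolayM22Two

/-!
# The involution class and the involution centralizer of `M22`
-/

set_option autoImplicit false

namespace Cfsg.Agent.H9.M22Blk

open Cfsg Cfsg.Agent.Lib.Helper6.Golay Cfsg.Agent.Lib.Helper6.Golay.M12Out Cfsg.Agent.H9.NatPerm
open Cfsg.Agent.Lib.Helper6.PermChain

theorem exists_M24_of_chk {c : ℕ} {l : List ℕ} (h : chkL l = true) (hd : dec24 c = l) :
    ∃ g ∈ M24, IsC g c := by
  obtain ⟨g, hg, hgl⟩ := exists_of_chk h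
  refine ⟨g, hg, ?_⟩
  unfold IsC
  rw [hd]
  exact hgl

theorem pt23 : pt 23 = (none : GolayPt) := rfl

theorem pt0 : pt 0 = (some 0 : GolayPt) := rfl

theorem mem_M22_of_isC {g : Equiv.Perm GolayPt} {c : ℕ} (hg : g ∈ M24) (hc : IsC g c)
    (hf : (Nat.beq (aget c 23) 23 && Nat.beq (aget c 0) 0) = true) : g ∈ Spor.M22 := by
  simp only [Bool.and_eq_true, Nat.beq_eq] at hf
  rw [mem_SporM22]
  refine ⟨hg, ?_, ?_⟩
  · rw [← pt23, hc.apply (by norm_num), hf.1]
  · rw [← pt0, hc.apply (by norm_num), hf.2]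

theorem exists_M22_of_chk {c : ℕ} {l : List ℕ} (h : chkL l = true) (hd : dec24 c = l)
    (hf : (Nat.beq (aget c 23) 23 && Nat.beq (aget c 0) 0) = true) : ∃ g ∈ Spor.M22, IsC g c := by
  obtain ⟨g, hg, hc⟩ := exists_M24_of_chk h hd
  exact ⟨g, mem_M22_of_isC hg hc hf, hc⟩

theorem fix_of_mem_M22 {g : Equiv.Perm GolayPt} {c : ℕ} (hg : g ∈ Spor.M22) (hc : IsC g c) :
    (Nat.beq (aget c 23) 23 && Nat.beq (aget c 0) 0) = true := by
  simp only [Bool.and_eq_true, Nat.beq_eq]
  rw [mem_SporM22] at hg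
  obtain ⟨hM, h1, h2⟩ := hg
  have a1 : aget c 23 < 24 := by
    have := getD_lt hc.1 (by norm_num : 23 < 24)
    rwa [getD_dec24 c (by norm_num)] at this
  have a2 : aget c 0 < 24 := by
    have := getD_lt hc.1 (by norm_num : 0 < 24)
    rwa [getD_dec24 c (by norm_num)] at this
  constructor
  · rw [← pt23, hc.apply (by norm_num)] at h1
    exact pt_injOn a1 (by norm_num) h1
  · rw [← pt0, hc.apply (by norm_num)] at h2
    exact pt_injOn a2 (by norm_num) h2

/-! ### the generators -/

theorem dec_all : dec24 ga = gaL ∧ dec24 gb = gbL ∧ dec24 zc = zL ∧ dec24 u0 = u0L ∧ dec24 u1 = u1L ∧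
    dec24 u2 = u2L ∧ dec24 u3 = u3L ∧ dec24 u4 = u4L ∧ dec24 u5 = u5L := by
  have := dec_lists
  simp only [List.cons.injEq, and_true] at this
  exact this

theorem chk_of_mem {l : List ℕ} (h : l ∈ [gaL, gbL, zL, u0L, u1L, u2L, u3L, u4L, u5L]) :
    chkL l = true := List.all_eq_true.mp chk_lists l h

theorem fix_of_mem {c : ℕ} (h : c ∈ [ga, gb, zc, u0, u1, u2, u3, u4, u5]) :
    (Nat.beq (aget c 23) 23 && Nat.beq (aget c 0) 0) = true := List.all_eq_true.mp fix_lists c h

theorem exists_ga : ∃ g ∈ Spor.M22, IsC g ga :=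
  exists_M22_of_chk (chk_of_mem (by simp)) dec_all.1 (fix_of_mem (by simp))

theorem exists_gb : ∃ g ∈ Spor.M22, IsC g gb :=
  exists_M22_of_chk (chk_of_mem (by simp)) dec_all.2.1 (fix_of_mem (by simp))

theorem exists_z : ∃ g ∈ Spor.M22, IsC g zc :=
  exists_M22_of_chk (chk_of_mem (by simp)) dec_all.2.2.1 (fix_of_mem (by simp))

/-- the involution -/
noncomputable def z : Equiv.Perm GolayPt := Classical.choose exists_z

theorem z_mem : z ∈ Spor.M22 := (Classical.choose_spec exists_z).1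

theorem z_isC : IsC z zc := (Classical.choose_spec exists_z).2

theorem zc_sq : pmul zc zc = idc := by decide +kernel

theorem zc_ne : Nat.beq zc idc = false := by decide +kernel

theorem z_sq : z * z = 1 := by
  have := z_isC.mul z_isC
  rw [zc_sq] at this
  exact this.ext isC_one

theorem z_ne : z ≠ 1 := by
  intro h
  have h1 := z_isC
  rw [h] at h1
  have := h1.code_eq isC_one (by decide) idc_lt
  have h2 := zc_ne
  rw [this] at h2
  have : Nat.beq idc idc = true := by rw [Nat.beq_eq]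
  rw [this] at h2
  exact absurd h2 (by simp)

theorem hgen : ∀ k, ∃ g ∈ Spor.M22, IsC g (gen k) := by
  intro k
  unfold gen
  split
  · exact exists_ga
  · exact exists_gb

/-- the class of the involution, enumerated -/
theorem classData : SetData (conjSet Spor.M22 z) A 1155 where
  valid := by
    intro j hj
    exact (good_iff _).mp (good_of_conjAll z_isC gen hgen A P K 1155 A_zero conj_ok j hj)
  inj := inj_of_sortAll sort_ok

theorem exists_u {c : ℕ} {l : List ℕ} (hl : l ∈ [gaL, gbL, zL, u0L, u1L, u2L, u3L, u4L, u5L])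
    (hd : dec24 c = l) (hc : c ∈ [ga, gb, zc, u0, u1, u2, u3, u4, u5])
    (hcomm : c ∈ [u0, u1, u2, u3, u4, u5]) :
    ∃ g ∈ centSub Spor.M22 z, IsC g c := by
  obtain ⟨g, hg, hgc⟩ := exists_M22_of_chk (chk_of_mem hl) hd (fix_of_mem hc)
  refine ⟨g, ?_, hgc⟩
  rw [mem_centSub]
  refine ⟨hg, ?_⟩
  have h1 := List.all_eq_true.mp comm_lists c hcomm
  simp only [Nat.beq_eq] at h1
  have h2 := hgc.mul z_isC
  have h3 := z_isC.mul hgc
  rw [h1] at h2
  exact h2.ext h3

theorem hugen : ∀ k, ∃ g ∈ centSub Spor.M22 z, IsC g (ugen k) := by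
  intro k
  unfold ugen
  split
  · exact exists_u (l := u0L) (by simp) dec_all.2.2.2.1 (by simp) (by simp)
  · exact exists_u (l := u1L) (by simp) dec_all.2.2.2.2.1 (by simp) (by simp)
  · exact exists_u (l := u2L) (by simp) dec_all.2.2.2.2.2.1 (by simp) (by simp)
  · exact exists_u (l := u3L) (by simp) dec_all.2.2.2.2.2.2.1 (by simp) (by simp)
  · exact exists_u (l := u4L) (by simp) dec_all.2.2.2.2.2.2.2.1 (by simp) (by simp)
  · exact exists_u (l := u5L) (by simp) dec_all.2.2.2.2.2.2.2.2 (by simp) (by simp)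

/-- the centralizer of the involution, enumerated -/
theorem centData : SetData (centSub Spor.M22 z : Set (Equiv.Perm GolayPt)) C 384 where
  valid := valid_of_mulAll ugen hugen C CP CK 384 C_zero mul_ok
  inj := inj_of_sortAll csort_ok

theorem M22_eq_fixL : Spor.M22 = fixL M24 [none, some 0] := by
  ext g
  rw [mem_SporM22, mem_fixL]
  constructor
  · rintro ⟨h1, h2, h3⟩
    refine ⟨h1, ?_⟩
    intro x hx
    simp only [List.mem_cons, List.not_mem_nil, or_false] at hx
    rcases hx with rfl | rfl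
    · exact h2
    · exact h3
  · rintro ⟨h1, h2⟩
    exact ⟨h1, h2 _ (by simp), h2 _ (by simp)⟩

theorem card_M22 : Nat.card ↥Spor.M22 = 1155 * 384 := by
  rw [M22_eq_fixL, card_fixL_pair (by simp)]

theorem card_conjSet_z : Nat.card (conjSet Spor.M22 z) = 1155 :=
  (card_exact z_mem classData centData card_M22).1

theorem card_centSub_z : Nat.card (centSub Spor.M22 z) = 384 :=
  (card_exact z_mem classData centData card_M22).2

end Cfsg.Agent.H9.M22Blk
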