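import Mathlib
import Cfsg.Prelude.Def_Characters
import Cfsg.Prelude.Def_Blocks
import Cfsg.Agent.Lib.helper3.BlockInd
import Cfsg.Agent.Lib.helper3.Irr11
import Cfsg.Agent.S0958

/-!
# Blocks whose defect groups contain a `p`-subgroup `P` with `C_G(P)` of one block are principal
-/

set_option autoImplicit false

namespace Cfsg.Agent.H9.OneBlock

open Cfsg Cfsg.Agent.Lib.helper3.Block Cfsg.Agent.Lib.helper3.LocalM
open Cfsg.Agent.Lib.helper3.Irr Cfsg.Agent.Lib.helper3.Central

variable {M : Ideal AlgInt}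

section count

variable {G : Type*} [Group G] [Fintype G]

/-- the conjugation action of a subgroup on a conjugacy class -/
@[instance_reducible]
def conjClassAction (P : Subgroup G) (g : G) : MulAction P {y : G // IsConj g y} where
  smul q y := ⟨(q : G) * y.1 * (q : G)⁻¹, by
    obtain ⟨c, hc⟩ := isConj_iff.mp y.2
    rw [isConj_iff]
    refine ⟨(q : G) * c, ?_⟩
    rw [← hc]
    group⟩
  one_smul y := by
    apply Subtype.ext
    show ((1 : P) : G) * y.1 * ((1 : P) : G)⁻¹ = y.1
    simp
  mul_smul q r y := by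
    apply Subtype.ext
    show ((q * r : P) : G) * y.1 * ((q * r : P) : G)⁻¹ = (q : G) * ((r : G) * y.1 * (r : G)⁻¹) * (q : G)⁻¹
    push_cast
    group

/-- the part of a class centralizing a `p`-subgroup has the size of the class modulo `p` -/
theorem card_class_centralizer_modEq (p : ℕ) [Fact p.Prime] (P : Subgroup G) (hP : IsPGroup p P)
    (g : G) :
    Nat.card {y : G // IsConj g y} ≡
      Nat.card {y : G // IsConj g y ∧ y ∈ Subgroup.centralizer (P : Set G)} [MOD p] := by
  classical
  let _inst : MulAction P {y : G // IsConj g y} := conjClassAction P g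
  have h1 := hP.card_modEq_card_fixedPoints {y : G // IsConj g y}
  have e : (MulAction.fixedPoints P {y : G // IsConj g y})
      ≃ {y : G // IsConj g y ∧ y ∈ Subgroup.centralizer (P : Set G)} :=
    { toFun := fun y => ⟨y.1.1, y.1.2, by
        rw [Subgroup.mem_centralizer_iff]
        intro q hq
        have := y.2 ⟨q, hq⟩
        have h2 : q * y.1.1 * q⁻¹ = y.1.1 := congrArg Subtype.val this
        calc q * y.1.1 = (q * y.1.1 * q⁻¹) * q := by group
          _ = y.1.1 * q := by rw [h2]⟩
      invFun := fun y => ⟨⟨y.1, y.2.1⟩, by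
        intro q
        apply Subtype.ext
        show (q : G) * y.1 * (q : G)⁻¹ = y.1
        have := (Subgroup.mem_centralizer_iff.mp y.2.2) q q.2
        rw [this]
        group⟩
      left_inv := fun y => rfl
      right_inv := fun y => rfl }
  rw [Nat.card_congr e] at h1
  exact h1

end count

variable {G : Type*} [Group G] [Fintype G]

/-- If `C_G(P)` has a single `p`-block for an abelian `p`-subgroup `P`, then every block of `G` one
of whose defect groups contains a conjugate of `P` is the principal block. -/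
theorem sameBlock_one_of_centralizer {p : ℕ} [hp : Fact p.Prime] (hM : IsPModular p M)
    (P : Subgroup G) (hP : IsPGroup p P) (hPC : P ≤ Subgroup.centralizer (P : Set G))
    (hH : ∀ ξ ξ' : IrrCharacter ↥(Subgroup.centralizer (P : Set G)),
      SameBlock M (ξ : ↥(Subgroup.centralizer (P : Set G)) → ℂ)
        (ξ' : ↥(Subgroup.centralizer (P : Set G)) → ℂ))
    (B : Set (IrrCharacter G)) (hB : IsPBlock M B) (D : Subgroup G) (hD : IsDefectGroup p M B D)
    (x : G) (hx : P.map (MulAut.conj x).toMonoidHom ≤ D) (χ : IrrCharacter G) (hχ : χ ∈ B) :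
    SameBlock M (χ : G → ℂ) (fun _ : G => (1 : ℂ)) := by
  classical
  have hMp := isPrime_of_isPModular hM
  have hMtop : M ≠ ⊤ := hM.2.1.ne_top
  obtain ⟨b, hb⟩ := (Cfsg.Agent.S0958.result p M hM P (Subgroup.centralizer (P : Set G)) hP
    (sup_le hPC le_rfl) (Subgroup.centralizer_le_normalizer _) B hB).mpr ⟨D, hD, x, hx⟩
  obtain ⟨hbb, -, hind⟩ := hb
  obtain ⟨ξ₀, hξ₀⟩ := hbb
  -- the trivial character of the centralizer lies in `b`
  obtain ⟨one, hone⟩ : ∃ one : IrrCharacter ↥(Subgroup.centralizer (P : Set G)),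
      (one : ↥(Subgroup.centralizer (P : Set G)) → ℂ) = fun _ => (1 : ℂ) :=
    ⟨⟨fun _ => 1, isIrrCharacter_one⟩, rfl⟩
  have honeb : one ∈ b := by
    rw [hξ₀]
    exact hH ξ₀ one
  intro g
  have h1 := hind one honeb χ hχ g
  rw [inducedCentralChar_eq_sum, hone] at h1
  rw [centralChar_one_fun]
  -- count
  have hcnt : (∑ h : ↥(Subgroup.centralizer (P : Set G)),
      if IsConj g (h : G) then (1 : ℂ) / 1 else 0)
      = (Nat.card {y : G // IsConj g y ∧ y ∈ Subgroup.centralizer (P : Set G)} : ℂ) := by
    rw [Nat.card_eq_fintype_card, Fintype.card_subtype]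
    rw [Finset.sum_ite, Finset.sum_const_zero, add_zero, Finset.sum_const, nsmul_eq_mul]
    simp only [div_one, mul_one]
    congr 1
    apply Finset.card_bij (fun (h : ↥(Subgroup.centralizer (P : Set G))) _ => (h : G))
    · intro h hh
      simp only [Finset.mem_filter, Finset.mem_univ, true_and] at hh ⊢
      exact ⟨hh, h.2⟩
    · intro a _ b _ hab
      exact Subtype.ext hab
    · intro y hy
      simp only [Finset.mem_filter, Finset.mem_univ, true_and] at hy
      refine ⟨⟨y, hy.2⟩, ?_, rfl⟩
      simp only [Finset.mem_filter, Finset.mem_univ, true_and]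
      exact hy.1
  rw [hcnt] at h1
  have hidx : ((Subgroup.centralizer ({g} : Set G)).index : ℂ)
      = (Nat.card {y : G // IsConj g y} : ℂ) := by
    rw [← card_class_eq_index, Nat.card_eq_fintype_card, Fintype.card_subtype]
  rw [hidx]
  have hmod := card_class_centralizer_modEq p P hP g
  -- difference of congruent naturals lies in the local ideal
  have hdiff : MemLocalIdeal M ((Nat.card {y : G // IsConj g y ∧
      y ∈ Subgroup.centralizer (P : Set G)} : ℂ) - (Nat.card {y : G // IsConj g y} : ℂ)) := by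
    obtain ⟨a, ha⟩ : ∃ a, a = Nat.card {y : G // IsConj g y} := ⟨_, rfl⟩
    obtain ⟨c, hc⟩ : ∃ c, c = Nat.card {y : G // IsConj g y ∧
      y ∈ Subgroup.centralizer (P : Set G)} := ⟨_, rfl⟩
    rw [← ha, ← hc] at hmod ⊢
    have hdvd : (p : ℤ) ∣ (c : ℤ) - (a : ℤ) := (Nat.modEq_iff_dvd.mp hmod)
    obtain ⟨t, ht⟩ := hdvd
    have : ((c : ℂ) - (a : ℂ)) = (((p : AlgInt) * (t : AlgInt) : AlgInt) : ℂ) := by
      have h2 : ((c : ℤ) - (a : ℤ) : ℂ) = ((p : ℤ) * t : ℤ) := by exact_mod_cast congrArg (Int.cast : ℤ → ℂ) ht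
      push_cast at h2 ⊢
      exact h2
    rw [this]
    exact memLocalIdeal_of_mem (M.mul_mem_right _ hM.2.2) hMtop
  have h3 := memLocalIdeal_sub hdiff h1
  convert h3 using 1
  ring

end Cfsg.Agent.H9.OneBlock
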