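import Cfsg.Agent.H9.M22BlkA
import Cfsg.Agent.H9.OneBlockB

/-!
# The involutions of `M22` and their centralizers
-/

set_option autoImplicit false

namespace Cfsg.Agent.H9.M22Blk

open Cfsg Cfsg.Agent.Lib.Helper6.Golay Cfsg.Agent.Lib.Helper6.Golay.M12Out Cfsg.Agent.H9.NatPerm
open Cfsg.Agent.Lib.Helper6.PermChain

/-- an involution commutes with some member of every class of odd size -/
theorem exists_conj_commute_of_odd_class {G : Type*} [Group G] [Fintype G] (z t : G)
    (ht : t * t = 1) (hodd : ¬ 2 ∣ Nat.card {x : G // IsConj z x}) :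
    ∃ y : G, IsConj z y ∧ t * y = y * t := by
  have hP : IsPGroup 2 (Subgroup.zpowers t) := by
    intro x
    refine ⟨1, ?_⟩
    obtain ⟨x, hx⟩ := x
    obtain ⟨k, rfl⟩ := Subgroup.mem_zpowers_iff.mp hx
    apply Subtype.ext
    show (t ^ k) ^ 2 ^ 1 = 1
    rw [pow_one, ← zpow_natCast, ← zpow_mul, mul_comm, zpow_mul, zpow_natCast, pow_two, ht, one_zpow]
  have h1 := Cfsg.Agent.H9.OneBlock.card_class_centralizer_modEq 2 (Subgroup.zpowers t) hP z
  have h2 : Nat.card {y : G // IsConj z y ∧ y ∈ Subgroup.centralizer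
      ((Subgroup.zpowers t : Subgroup G) : Set G)} ≠ 0 := by
    intro h0
    rw [h0] at h1
    exact hodd (Nat.modEq_zero_iff_dvd.mp h1)
  have h3 : Nonempty {y : G // IsConj z y ∧ y ∈ Subgroup.centralizer
      ((Subgroup.zpowers t : Subgroup G) : Set G)} := by
    by_contra hne
    rw [not_nonempty_iff] at hne
    exact h2 Nat.card_of_isEmpty
  obtain ⟨y, hy1, hy2⟩ := h3
  refine ⟨y, hy1, ?_⟩
  exact (Subgroup.mem_centralizer_iff.mp hy2) t (Subgroup.mem_zpowers t)

/-- the group -/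
abbrev G := ↥Spor.M22

noncomputable instance : Fintype G := Fintype.ofFinite _

/-- the involution as an element of the group -/
noncomputable def zH : G := ⟨z, z_mem⟩

theorem zH_sq : zH * zH = 1 := Subtype.ext z_sq

theorem zH_ne : zH ≠ 1 := fun h => z_ne (congrArg Subtype.val h)

theorem card_class_zH : Nat.card {x : G // IsConj zH x} = 1155 := by
  rw [← card_conjSet_z, card_conjSet z_mem]
  rfl

/-- **every involution of `M22` is conjugate to `z`** -/
theorem invol_conj (t : G) (ht1 : t ≠ 1) (ht2 : t * t = 1) : ∃ x : G, x * zH * x⁻¹ = t := by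
  obtain ⟨y, hy, hty⟩ := exists_conj_commute_of_odd_class zH t ht2 (by
    rw [card_class_zH]; norm_num)
  obtain ⟨g, hg⟩ := isConj_iff.mp hy
  -- `t' = g⁻¹ t g` commutes with `zH`
  obtain ⟨t', ht'⟩ : ∃ t', t' = g⁻¹ * t * g := ⟨_, rfl⟩
  have htt' : t = g * t' * g⁻¹ := by rw [ht']; group
  have hcomm : t' * zH = zH * t' := by
    rw [ht']
    have e1 : g⁻¹ * t * g * zH = g⁻¹ * (t * (g * zH * g⁻¹)) * g := by group
    have e2 : zH * (g⁻¹ * t * g) = g⁻¹ * ((g * zH * g⁻¹) * t) * g := by group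
    rw [e1, e2, hg, hty]
  have ht'sq : t' * t' = 1 := by
    rw [ht']
    have e1 : g⁻¹ * t * g * (g⁻¹ * t * g) = g⁻¹ * (t * t) * g := by group
    rw [e1, ht2]
    group
  have ht'ne : t' ≠ 1 := by
    intro h
    apply ht1
    rw [htt', h]
    group
  have hmem : (t' : Equiv.Perm GolayPt) ∈ centSub Spor.M22 z := by
    rw [mem_centSub]
    exact ⟨t'.2, congrArg Subtype.val hcomm⟩
  obtain ⟨j, hj, hjc⟩ := centData.exists_index (le_of_eq card_centSub_z) _ hmem
  have h1 := allB_spec _ _ inv_ok j hj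
  simp only [force_eq, Bool.or_eq_true, Bool.not_eq_true', Nat.beq_eq] at h1
  have hsqc : pmul (arr 120 C j) (arr 120 C j) = idc := by
    have h2 := hjc.mul hjc
    have h3 : (t' : Equiv.Perm GolayPt) * (t' : Equiv.Perm GolayPt) = 1 :=
      congrArg Subtype.val ht'sq
    rw [h3] at h2
    exact h2.code_eq isC_one (pmul_lt _ _) idc_lt
  have hnec : arr 120 C j ≠ idc := by
    intro h
    rw [h] at hjc
    apply ht'ne
    apply Subtype.ext
    exact hjc.ext isC_one
  have h4 : arr 120 C j = arr 120 A (arr 16 Ix j) := by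
    rcases h1 with (h1 | h1) | h1
    · rw [hsqc] at h1
      have : Nat.beq idc idc = true := by rw [Nat.beq_eq]
      rw [this] at h1
      exact absurd h1 (by simp)
    · exact absurd h1 hnec
    · exact h1
  have hix : arr 16 Ix j < 1155 := by
    have := allB_spec _ _ ix_ok j hj
    simpa using this
  obtain ⟨y', hy', hy'c⟩ := classData.valid _ hix
  rw [← h4] at hy'c
  have h5 : (t' : Equiv.Perm GolayPt) = y' := hjc.ext hy'c
  obtain ⟨h, hh, hyh⟩ := hy'
  refine ⟨g * ⟨h, hh⟩, ?_⟩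
  rw [htt']
  have h6 : t' = ⟨h, hh⟩ * zH * (⟨h, hh⟩ : G)⁻¹ := by
    apply Subtype.ext
    rw [h5, hyh]
    rfl
  rw [h6]
  group

/-! ### the centralizer -/

/-- the centralizer of the involution -/
abbrev Cz : Subgroup G := Subgroup.centralizer ((Subgroup.zpowers zH : Subgroup G) : Set G)

theorem mem_Cz {c : G} : c ∈ Cz ↔ c * zH = zH * c := by
  rw [Subgroup.mem_centralizer_iff]
  constructor
  · intro h
    exact (h zH (Subgroup.mem_zpowers zH)).symm
  · intro h x hx
    obtain ⟨k, rfl⟩ := Subgroup.mem_zpowers_iff.mp hx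
    have : Commute c zH := h
    exact (this.zpow_right k).eq.symm

theorem coe_mem_centSub (c : ↥Cz) : ((c : G) : Equiv.Perm GolayPt) ∈ centSub Spor.M22 z := by
  rw [mem_centSub]
  exact ⟨(c : G).2, congrArg Subtype.val (mem_Cz.mp c.2)⟩

/-- an element of the centralizer, from a permutation -/
def toCz (y : Equiv.Perm GolayPt) (hy : y ∈ centSub Spor.M22 z) : ↥Cz :=
  ⟨⟨y, (mem_centSub.mp hy).1⟩, mem_Cz.mpr (Subtype.ext (mem_centSub.mp hy).2)⟩

theorem exists_code (c : ↥Cz) : ∃ j < 384, IsC ((c : G) : Equiv.Perm GolayPt) (arr 120 C j) :=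
  centData.exists_index (le_of_eq card_centSub_z) _ (coe_mem_centSub c)

/-- the permutations coded by the first sixteen entries -/
def VS : Set (Equiv.Perm GolayPt) := {y | ∃ i < 16, IsC y (arr 120 C i)}

theorem VS_mul {a b : Equiv.Perm GolayPt} (ha : a ∈ VS) (hb : b ∈ VS) : a * b ∈ VS := by
  obtain ⟨i, hi, hai⟩ := ha
  obtain ⟨j, hj, hbj⟩ := hb
  obtain ⟨k, hk, hkk⟩ := anyB_spec _ _ (allB_spec _ _ (allB_spec _ _ v_closed i hi) j hj)
  simp only [Nat.beq_eq] at hkk
  refine ⟨k, hk, ?_⟩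
  rw [← hkk]
  exact hai.mul hbj

theorem VS_sq {a : Equiv.Perm GolayPt} (ha : a ∈ VS) : a * a = 1 := by
  obtain ⟨i, hi, hai⟩ := ha
  have h1 := allB_spec _ _ v_sq i hi
  simp only [force_eq, Nat.beq_eq] at h1
  have h2 := hai.mul hai
  rw [h1] at h2
  exact h2.ext isC_one

theorem VS_one : (1 : Equiv.Perm GolayPt) ∈ VS := ⟨0, by norm_num, by rw [C_zero]; exact isC_one⟩

/-- the normal subgroup of order sixteen of the centralizer -/
def R : Subgroup ↥Cz where
  carrier := {c | ((c : G) : Equiv.Perm GolayPt) ∈ VS}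
  mul_mem' := by
    intro a b ha hb
    exact VS_mul ha hb
  one_mem' := VS_one
  inv_mem' := by
    intro a ha
    have h1 : ((a : G) : Equiv.Perm GolayPt) * ((a : G) : Equiv.Perm GolayPt) = 1 := VS_sq ha
    have h2 : ((a⁻¹ : ↥Cz) : G) = (a : G) := by
      apply Subtype.ext
      show ((a : G) : Equiv.Perm GolayPt)⁻¹ = ((a : G) : Equiv.Perm GolayPt)
      exact inv_eq_of_mul_eq_one_left h1
    show (((a⁻¹ : ↥Cz) : G) : Equiv.Perm GolayPt) ∈ VS
    rw [h2]
    exact ha

theorem mem_R {c : ↥Cz} : c ∈ R ↔ ((c : G) : Equiv.Perm GolayPt) ∈ VS := Iff.rfl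

instance R_normal : R.Normal := by
  constructor
  intro v hv n
  rw [mem_R] at hv ⊢
  obtain ⟨i, hi, hvi⟩ := hv
  obtain ⟨j, hj, hnj⟩ := exists_code n
  have h0 := allB_spec _ _ v_normal j hj
  rw [force_eq] at h0
  have h1 := allB_spec _ _ h0 i hi
  simp only [force_eq, Bool.and_eq_true, Nat.blt_eq, Nat.beq_eq] at h1
  obtain ⟨hk, hkk⟩ := h1
  obtain ⟨yk, -, hyk⟩ := centData.valid _ (lt_trans hk (by norm_num : 16 < 384))
  have h2 := hnj.mul hvi
  have h3 := hyk.mul hnj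
  rw [hkk] at h2
  have h4 : ((n : G) : Equiv.Perm GolayPt) * ((v : G) : Equiv.Perm GolayPt)
      = yk * ((n : G) : Equiv.Perm GolayPt) := h2.ext h3
  have h5 : (((n * v * n⁻¹ : ↥Cz) : G) : Equiv.Perm GolayPt) = yk := by
    show ((n : G) : Equiv.Perm GolayPt) * ((v : G) : Equiv.Perm GolayPt)
      * ((n : G) : Equiv.Perm GolayPt)⁻¹ = yk
    rw [h4]
    group
  rw [h5]
  exact ⟨_, hk, hyk⟩

theorem R_isPGroup : IsPGroup 2 R := by
  intro v
  refine ⟨1, ?_⟩
  apply Subtype.ext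
  apply Subtype.ext
  apply Subtype.ext
  show (((v : ↥Cz) : G) : Equiv.Perm GolayPt) ^ 2 ^ 1 = 1
  rw [pow_one, pow_two]
  exact VS_sq v.2

theorem R_cent : Subgroup.centralizer (R : Set ↥Cz) ≤ R := by
  intro c hc
  rw [mem_R]
  obtain ⟨j, hj, hcj⟩ := exists_code c
  have h1 := allB_spec _ _ v_cent j hj
  simp only [force_eq, Bool.or_eq_true, Bool.and_eq_true, Nat.blt_eq, Bool.not_eq_true',
    ] at h1
  rcases h1 with h1 | ⟨h1, h2⟩
  · exact ⟨j, h1, hcj⟩
  · exfalso
    obtain ⟨yv, hyv, hyvc⟩ := centData.valid _ (lt_trans h1 (by norm_num : 16 < 384))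
    have hvR : toCz yv hyv ∈ R := ⟨_, h1, hyvc⟩
    have h3 := (Subgroup.mem_centralizer_iff.mp hc) (toCz yv hyv) hvR
    have h4 : yv * ((c : G) : Equiv.Perm GolayPt) = ((c : G) : Equiv.Perm GolayPt) * yv :=
      congrArg (fun t : ↥Cz => ((t : G) : Equiv.Perm GolayPt)) h3
    have h5 := hyvc.mul hcj
    have h6 := hcj.mul hyvc
    rw [h4] at h5
    have h7 := h6.code_eq h5 (pmul_lt _ _) (pmul_lt _ _)
    rw [h7] at h2
    have : Nat.beq (pmul (arr 120 C (arr 8 Wt j)) (arr 120 C j))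
      (pmul (arr 120 C (arr 8 Wt j)) (arr 120 C j)) = true := by rw [Nat.beq_eq]
    rw [this] at h2
    exact absurd h2 (by simp)

/-- **the structure of the centralizers of involutions of `M22`** -/
theorem hinv (t : G) (ht1 : t ≠ 1) (ht2 : t * t = 1) : ∃ (r x : G), x * r * x⁻¹ = t ∧
    ∃ R : Subgroup ↥(Subgroup.centralizer ((Subgroup.zpowers r : Subgroup G) : Set G)),
      R.Normal ∧ IsPGroup 2 R ∧ Subgroup.centralizer (R : Set _) ≤ R := by
  obtain ⟨x, hx⟩ := invol_conj t ht1 ht2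
  exact ⟨zH, x, hx, R, R_normal, R_isPGroup, R_cent⟩

end Cfsg.Agent.H9.M22Blk
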