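import Mathlib

/-!
# Conjugating `p`-elements into a subgroup of Sylow order
-/

set_option autoImplicit false

namespace Cfsg.Agent.H9.SylowConj

theorem exists_conj_mem_of_card_sylow {G : Type*} [Group G] [Finite G] {p : ℕ} [Fact p.Prime]
    (K : Subgroup G) (hK : Nat.card K = p ^ (Nat.card G).factorization p) (e : G)
    (he : ∃ k : ℕ, orderOf e = p ^ k) : ∃ g : G, g * e * g⁻¹ ∈ K := by
  obtain ⟨k, hk⟩ := he
  have hP : IsPGroup p (Subgroup.zpowers e) := IsPGroup.of_card (n := k) (by rw [Nat.card_zpowers, hk])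
  obtain ⟨Q, hQ⟩ := hP.exists_le_sylow
  obtain ⟨g, hg⟩ := MulAction.exists_smul_eq G Q (Sylow.ofCard K hK)
  refine ⟨g, ?_⟩
  have h1 : e ∈ (Q : Subgroup G) := hQ (Subgroup.mem_zpowers e)
  have h2 : g * e * g⁻¹ ∈ ((g • Q : Sylow p G) : Subgroup G) := by
    rw [Sylow.coe_subgroup_smul]
    exact Subgroup.smul_mem_pointwise_smul e (MulAut.conj g) _ h1
  rw [hg] at h2
  exact h2

/-- an element whose order is divisible by the prime `q` and such that the `q`-part of the order of
the group is `q`, is conjugate to an element commuting with a nontrivial element of a given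
subgroup of order `q` -/
theorem exists_conj_pow_mem {G : Type*} [Group G] [Finite G] {q : ℕ} [Fact q.Prime]
    (K : Subgroup G) (hK : Nat.card K = q ^ (Nat.card G).factorization q) (e : G)
    (hq : q ∣ orderOf e) :
    ∃ g : G, (g * e * g⁻¹) ^ (orderOf e / q) ∈ K ∧ (g * e * g⁻¹) ^ (orderOf e / q) ≠ 1 := by
  have hq1 : (Fact.out : q.Prime).one_lt = (Fact.out : q.Prime).one_lt := rfl
  have hqp : q.Prime := Fact.out
  have hn0 : orderOf e ≠ 0 := (orderOf_pos e).ne'
  have ho : orderOf (e ^ (orderOf e / q)) = q := by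
    rw [orderOf_pow' e (by
      intro h
      have := Nat.div_eq_zero_iff.mp h
      rcases this with h1 | h1
      · exact hqp.ne_zero h1
      · exact absurd (Nat.le_of_dvd (orderOf_pos e) hq) (by omega))]
    rw [Nat.gcd_eq_right (Nat.div_dvd_of_dvd hq)]
    exact Nat.div_div_self hq hn0
  obtain ⟨g, hg⟩ := exists_conj_mem_of_card_sylow K hK (e ^ (orderOf e / q)) ⟨1, by rw [ho, pow_one]⟩
  refine ⟨g, ?_, ?_⟩
  · rw [conj_pow]
    exact hg
  · rw [conj_pow]
    intro h
    have h1 : e ^ (orderOf e / q) = 1 := by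
      have : e ^ (orderOf e / q) = g⁻¹ * (g * e ^ (orderOf e / q) * g⁻¹) * g := by group
      rw [this, h]
      group
    rw [h1, orderOf_one] at ho
    exact hqp.one_lt.ne ho

end Cfsg.Agent.H9.SylowConj
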