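import Cfsg.Agent.H9.M22BlkB
import Cfsg.Agent.H9.SylowConj

/-!
# The elements of odd order of `M22`
-/

set_option autoImplicit false

namespace Cfsg.Agent.H9.M22Blk

open Cfsg Cfsg.Agent.Lib.Helper6.Golay Cfsg.Agent.Lib.Helper6.Golay.M12Out Cfsg.Agent.H9.NatPerm
open Cfsg.Agent.Lib.Helper6.PermChain

theorem factorization_pow_mul {p k m : ℕ} (hp : p.Prime) (hm : ¬ p ∣ m) (hm0 : m ≠ 0) :
    (p ^ k * m).factorization p = k := by
  rw [Nat.factorization_mul (pow_ne_zero k hp.ne_zero) hm0, Finsupp.add_apply,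
    Nat.Prime.factorization_pow hp, Finsupp.single_eq_same,
    Nat.factorization_eq_zero_of_not_dvd hm, add_zero]

theorem hT5 : ∀ l ∈ T5, ∃ j < 48, dec24 (arr 120 T5c j) = l := by
  intro l hl
  rw [T5_codes, List.mem_map] at hl
  obtain ⟨j, hj, rfl⟩ := hl
  exact ⟨j, List.mem_range.mp hj, rfl⟩

theorem M22_le_M24 : Spor.M22 ≤ M24 := fun _ hg => (mem_SporM22.mp hg).1

/-- the generic step: an element of `M22` of prime order `q ≥ 5`, self-centralizing -/
theorem odd_step (q : ℕ) [hq : Fact q.Prime] (r : G) (rc RP : ℕ) (hrc : IsC (r : Equiv.Perm GolayPt) rc)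
    (hRP0 : arr 120 RP 0 = idc)
    (hRP : allB (fun i => Nat.beq (arr 120 RP (i + 1)) (pmul rc (arr 120 RP i))) (q - 1) = true)
    (htop : pmul rc (arr 120 RP (q - 1)) = idc) (hne : Nat.beq rc idc = false)
    (hrlt : rc < 32 ^ 24)
    (hfac : (Nat.card G).factorization q = 1)
    (hcent : ∀ c : G, c * r = r * c → ∃ i < q, IsC (c : Equiv.Perm GolayPt) (arr 120 RP i))
    (e : G) (he1 : e ≠ 1) (hdvd : q ∣ orderOf e) :
    ∃ h : G, ∃ i, 1 ≤ i ∧ i < q ∧ IsC ((h * e * h⁻¹ : G) : Equiv.Perm GolayPt) (arr 120 RP i) := by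
  have hqp : q.Prime := hq.out
  have hpow := isC_pow_of_table hrc RP q hRP0 hRP
  -- the order of `r`
  have hr1 : r ≠ 1 := by
    intro h
    rw [h] at hrc
    have := hrc.code_eq isC_one hrlt idc_lt
    rw [this] at hne
    have : Nat.beq idc idc = true := by rw [Nat.beq_eq]
    rw [this] at hne
    exact absurd hne (by simp)
  have hrq : r ^ q = 1 := by
    apply Subtype.ext
    have h1 := hrc.mul (hpow (q - 1) (by have := hqp.two_le; omega))
    rw [htop, ← pow_succ', show q - 1 + 1 = q by have := hqp.two_le; omega] at h1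
    exact h1.ext isC_one
  have hord : orderOf r = q := orderOf_eq_prime hrq hr1
  have hK : Nat.card (Subgroup.zpowers r) = q ^ (Nat.card G).factorization q := by
    rw [hfac, pow_one, Nat.card_zpowers, hord]
  obtain ⟨g, hg1, hg2⟩ := Cfsg.Agent.H9.SylowConj.exists_conj_pow_mem (Subgroup.zpowers r) hK e hdvd
  obtain ⟨e', he'⟩ : ∃ e', e' = g * e * g⁻¹ := ⟨_, rfl⟩
  rw [← he'] at hg1 hg2
  obtain ⟨w, hw⟩ : ∃ w, w = e' ^ (orderOf e / q) := ⟨_, rfl⟩
  rw [← hw] at hg1 hg2
  -- `r` is a power of `w`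
  have hle : Subgroup.zpowers w ≤ Subgroup.zpowers r := by
    rw [Subgroup.zpowers_le]
    exact hg1
  have hwq : orderOf w = q := by
    have h1 : orderOf w ∣ q := by
      have := Subgroup.card_dvd_of_le hle
      rwa [Nat.card_zpowers, Nat.card_zpowers, hord] at this
    rcases (Nat.dvd_prime hqp).mp h1 with h2 | h2
    · exact absurd (orderOf_eq_one_iff.mp h2) hg2
    · exact h2
  have heq : Subgroup.zpowers w = Subgroup.zpowers r := by
    apply Subgroup.eq_of_le_of_card_ge hle
    rw [Nat.card_zpowers, Nat.card_zpowers, hwq, hord]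
  have hrw : r ∈ Subgroup.zpowers w := by
    rw [heq]
    exact Subgroup.mem_zpowers r
  obtain ⟨k, hk⟩ := Subgroup.mem_zpowers_iff.mp hrw
  have hcomm : e' * r = r * e' := by
    rw [← hk]
    have h1 : Commute e' w := by
      rw [hw]
      exact (Commute.refl e').pow_right _
    exact (h1.zpow_right k).eq
  obtain ⟨i, hi, hic⟩ := hcent e' hcomm
  refine ⟨g, i, ?_, hi, ?_⟩
  · rcases Nat.eq_zero_or_pos i with h0 | h0
    · exfalso
      subst h0
      rw [hRP0] at hic
      have h1 : (e' : Equiv.Perm GolayPt) = 1 := hic.ext isC_one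
      apply he1
      have h2 : e' = 1 := Subtype.ext h1
      rw [he'] at h2
      have : e = g⁻¹ * (g * e * g⁻¹) * g := by group
      rw [this, h2]
      group
    · exact h0
  · rw [← he']
    exact hic

end Cfsg.Agent.H9.M22Blk
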