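import Cfsg.Agent.H9.M22BlkC

/-!
# The elements of odd order of `M22`: classification up to conjugacy
-/

set_option autoImplicit false

namespace Cfsg.Agent.H9.M22Blk

open Cfsg Cfsg.Agent.Lib.Helper6.Golay Cfsg.Agent.Lib.Helper6.Golay.M12Out Cfsg.Agent.H9.NatPerm
open Cfsg.Agent.Lib.Helper6.PermChain

theorem exists_of_chk_lists {cs : List ℕ} {ls : List (List ℕ)} (h1 : ls.all chkL = true)
    (h2 : cs.map dec24 = ls) : ∀ c ∈ cs, ∃ g ∈ M24, IsC g c := by
  intro c hc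
  have h3 : dec24 c ∈ ls := by
    rw [← h2]
    exact List.mem_map_of_mem hc
  exact exists_M24_of_chk (List.all_eq_true.mp h1 _ h3) rfl

/-- the centralizer in `M22` of an element of prime order at least five, from the data -/
theorem cent_M22 (r : G) (rc p RP kc nu U0 KU nres Res : ℕ)
    (hrc : IsC (r : Equiv.Perm GolayPt) rc)
    (hRP0 : arr 120 RP 0 = idc)
    (hRP : allB (fun i => Nat.beq (arr 120 RP (i + 1)) (pmul rc (arr 120 RP i))) (p - 1) = true)
    (hp5 : 5 ≤ p)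
    (hκ : ∃ κ ∈ M24, IsC κ kc)
    (hκa : allB (fun j => Nat.beq (aget kc (aget (arr 120 RP j) 1)) (base5 j)) 5 = true)
    (hKU : ∀ u < nu, ∃ k ∈ M24, IsC k (arr 120 KU u))
    (hKUb : allB (fun u => allB (fun j => Nat.beq (aget (arr 120 KU u) (base5 j))
      (aget (arr 120 RP j) (arr 8 U0 u))) 5) nu = true)
    (ha0m : Nat.beq (aget rc 1) 1 = false)
    (hU0 : allB (fun u => Nat.blt (arr 8 U0 u) 24) nu = true)
    (hcov : allB (fun q => Nat.beq (aget rc q) q || anyB (fun i => anyB (fun u =>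
      Nat.beq (aget (arr 120 RP i) (arr 8 U0 u)) q) nu) p) 24 = true)
    (hmain : allB (fun u => allB (fun l =>
      force (pmul (pmul (arr 120 KU u) (arr 120 T5c l)) kc) fun c0 =>
        !(Nat.beq (pmul c0 rc) (pmul rc c0)) || allB (fun i => anyB (fun j =>
          Nat.beq (pmul (arr 120 RP i) c0) (arr 120 Res j)) nres) p) 48) nu = true)
    (hfix : allB (fun j => force (arr 120 Res j) fun c =>
      !(Nat.beq (aget c 23) 23 && Nat.beq (aget c 0) 0) ||
        anyB (fun i => Nat.beq c (arr 120 RP i)) p) nres = true) :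
    ∀ c : G, c * r = r * c → ∃ i < p, IsC (c : Equiv.Perm GolayPt) (arr 120 RP i) := by
  intro c hcr
  have ha0 : aget rc 1 ≠ 1 := by
    intro h
    rw [h] at ha0m
    have : Nat.beq 1 1 = true := rfl
    rw [this] at ha0m
    exact absurd ha0m (by simp)
  obtain ⟨j, hj, hjc⟩ := cent_of_T5 (M22_le_M24 r.2) rc hrc p RP 1 kc nu U0 KU T5c nres Res hRP0 hRP
    hp5 hκ hκa hKU hKUb (by norm_num) ha0 hU0 hcov hT5 hmain c.1 (M22_le_M24 c.2)
    (congrArg Subtype.val hcr)
  have h1 := allB_spec _ _ hfix j hj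
  rw [force_eq] at h1
  have h2 := fix_of_mem_M22 c.2 hjc
  rw [h2] at h1
  simp only [Bool.not_true, Bool.false_or] at h1
  obtain ⟨i, hi, hii⟩ := anyB_spec _ _ h1
  simp only [Nat.beq_eq] at hii
  refine ⟨i, hi, ?_⟩
  rw [← hii]
  exact hjc

/-! ### the three primes -/

theorem ex5 : ∀ c ∈ [r5c, k5c, arr 120 KU5 0, arr 120 KU5 1, arr 120 KU5 2, arr 120 KU5 3],
    ∃ g ∈ M24, IsC g c := exists_of_chk_lists chk5 dec5

theorem ex7 : ∀ c ∈ [r7c, k7c, arr 120 KU7 0, arr 120 KU7 1, arr 120 KU7 2],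
    ∃ g ∈ M24, IsC g c := exists_of_chk_lists chk7 dec7

theorem ex11 : ∀ c ∈ [r11c, k11c, arr 120 KU11 0, arr 120 KU11 1],
    ∃ g ∈ M24, IsC g c := exists_of_chk_lists chk11 dec11

theorem exists_r5 : ∃ g ∈ Spor.M22, IsC g r5c := by
  obtain ⟨g, hg, hc⟩ := ex5 r5c (by simp)
  exact ⟨g, mem_M22_of_isC hg hc rfix5, hc⟩

theorem exists_r7 : ∃ g ∈ Spor.M22, IsC g r7c := by
  obtain ⟨g, hg, hc⟩ := ex7 r7c (by simp)
  exact ⟨g, mem_M22_of_isC hg hc rfix7, hc⟩

theorem exists_r11 : ∃ g ∈ Spor.M22, IsC g r11c := by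
  obtain ⟨g, hg, hc⟩ := ex11 r11c (by simp)
  exact ⟨g, mem_M22_of_isC hg hc rfix11, hc⟩

noncomputable def r5 : G := ⟨Classical.choose exists_r5, (Classical.choose_spec exists_r5).1⟩
noncomputable def r7 : G := ⟨Classical.choose exists_r7, (Classical.choose_spec exists_r7).1⟩
noncomputable def r11 : G := ⟨Classical.choose exists_r11, (Classical.choose_spec exists_r11).1⟩

theorem r5_isC : IsC (r5 : Equiv.Perm GolayPt) r5c := (Classical.choose_spec exists_r5).2
theorem r7_isC : IsC (r7 : Equiv.Perm GolayPt) r7c := (Classical.choose_spec exists_r7).2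
theorem r11_isC : IsC (r11 : Equiv.Perm GolayPt) r11c := (Classical.choose_spec exists_r11).2

theorem cent5 : ∀ c : G, c * r5 = r5 * c → ∃ i < 5, IsC (c : Equiv.Perm GolayPt) (arr 120 RP5 i) :=
  cent_M22 r5 r5c 5 RP5 k5c 4 U0_5 KU5 60 Res5 r5_isC RP5_zero RP5_ok (by norm_num)
    (ex5 k5c (by simp)) kappa5_ok (by
      intro u hu
      interval_cases u
      · exact ex5 _ (by simp)
      · exact ex5 _ (by simp)
      · exact ex5 _ (by simp)
      · exact ex5 _ (by simp)) KU5_ok a0_5_ok U0_5_ok cov5 main5 res5_fix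

theorem cent7 : ∀ c : G, c * r7 = r7 * c → ∃ i < 7, IsC (c : Equiv.Perm GolayPt) (arr 120 RP7 i) :=
  cent_M22 r7 r7c 7 RP7 k7c 3 U0_7 KU7 42 Res7 r7_isC RP7_zero RP7_ok (by norm_num)
    (ex7 k7c (by simp)) kappa7_ok (by
      intro u hu
      interval_cases u
      · exact ex7 _ (by simp)
      · exact ex7 _ (by simp)
      · exact ex7 _ (by simp)) KU7_ok a0_7_ok U0_7_ok cov7 main7 res7_fix

theorem cent11 : ∀ c : G, c * r11 = r11 * c →
    ∃ i < 11, IsC (c : Equiv.Perm GolayPt) (arr 120 RP11 i) :=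
  cent_M22 r11 r11c 11 RP11 k11c 2 U0_11 KU11 11 Res11 r11_isC RP11_zero RP11_ok (by norm_num)
    (ex11 k11c (by simp)) kappa11_ok (by
      intro u hu
      interval_cases u
      · exact ex11 _ (by simp)
      · exact ex11 _ (by simp)) KU11_ok a0_11_ok U0_11_ok cov11 main11 res11_fix

theorem card_G : Nat.card G = 443520 := card_M22

theorem fac5 : (Nat.card G).factorization 5 = 1 := by
  rw [card_G, show 443520 = 5 ^ 1 * 88704 by norm_num]
  exact factorization_pow_mul (by norm_num) (by norm_num) (by norm_num)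

theorem fac7 : (Nat.card G).factorization 7 = 1 := by
  rw [card_G, show 443520 = 7 ^ 1 * 63360 by norm_num]
  exact factorization_pow_mul (by norm_num) (by norm_num) (by norm_num)

theorem fac11 : (Nat.card G).factorization 11 = 1 := by
  rw [card_G, show 443520 = 11 ^ 1 * 40320 by norm_num]
  exact factorization_pow_mul (by norm_num) (by norm_num) (by norm_num)

theorem fac3 : (Nat.card G).factorization 3 = 2 := by
  rw [card_G, show 443520 = 3 ^ 2 * 49280 by norm_num]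
  exact factorization_pow_mul (by norm_num) (by norm_num) (by norm_num)

instance : Fact (Nat.Prime 5) := ⟨by norm_num⟩
instance : Fact (Nat.Prime 7) := ⟨by norm_num⟩
instance : Fact (Nat.Prime 11) := ⟨by norm_num⟩

theorem step5 (e : G) (he1 : e ≠ 1) (hdvd : 5 ∣ orderOf e) :
    ∃ h : G, ∃ i, 1 ≤ i ∧ i < 5 ∧ IsC ((h * e * h⁻¹ : G) : Equiv.Perm GolayPt) (arr 120 RP5 i) :=
  odd_step 5 r5 r5c RP5 r5_isC RP5_zero RP5_ok RP5_top r5_ne (by decide) fac5 cent5 e he1 hdvd

theorem step7 (e : G) (he1 : e ≠ 1) (hdvd : 7 ∣ orderOf e) :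
    ∃ h : G, ∃ i, 1 ≤ i ∧ i < 7 ∧ IsC ((h * e * h⁻¹ : G) : Equiv.Perm GolayPt) (arr 120 RP7 i) :=
  odd_step 7 r7 r7c RP7 r7_isC RP7_zero RP7_ok RP7_top r7_ne (by decide) fac7 cent7 e he1 hdvd

theorem step11 (e : G) (he1 : e ≠ 1) (hdvd : 11 ∣ orderOf e) :
    ∃ h : G, ∃ i, 1 ≤ i ∧ i < 11 ∧
      IsC ((h * e * h⁻¹ : G) : Equiv.Perm GolayPt) (arr 120 RP11 i) :=
  odd_step 11 r11 r11c RP11 r11_isC RP11_zero RP11_ok RP11_top r11_ne (by decide) fac11 cent11 e he1 hdvd

end Cfsg.Agent.H9.M22Blk
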