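import Mathlib
import Cfsg.Prelude.Def_Characters
import Cfsg.Prelude.Def_Blocks
import Cfsg.Agent.Lib.helper3.BlockNil2

/-!
# Groups with a self-centralizing normal `p`-subgroup have a single `p`-block
-/

set_option autoImplicit false

namespace Cfsg.Agent.H9.OneBlock

open Cfsg Cfsg.Agent.Lib.helper3.Block Cfsg.Agent.Lib.helper3.LocalM

variable {M : Ideal AlgInt}

/-- If `R` is a normal `p`-subgroup of `H` containing its centralizer, all irreducible characters of
`H` lie in a single `p`-block. -/
theorem sameBlock_of_constrained {H : Type*} [Group H] [Fintype H] {p : ℕ} (hM : IsPModular p M)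
    (R : Subgroup H) [hRn : R.Normal] (hR : IsPGroup p R)
    (hC : Subgroup.centralizer (R : Set H) ≤ R) (ξ ξ' : IrrCharacter H) :
    SameBlock M (ξ : H → ℂ) (ξ' : H → ℂ) := by
  classical
  haveI hMp := isPrime_of_isPModular hM
  intro h
  by_cases hh : h ∈ Subgroup.centralizer (R : Set H)
  · have hhR : h ∈ R := hC hh
    have h1 := memLocalIdeal_centralChar_sub_index hM R hR h hhR ξ
    have h2 := memLocalIdeal_centralChar_sub_index hM R hR h hhR ξ'
    have h3 := memLocalIdeal_sub h1 h2
    convert h3 using 1
    ring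
  · have hno : ∀ x : H, IsConj h x → x ∉ Subgroup.centralizer (R : Set H) := by
      intro x hx hxc
      apply hh
      obtain ⟨c, hc⟩ := isConj_iff.mp hx
      have hcn : (Subgroup.centralizer (R : Set H)).Normal := inferInstance
      have : c⁻¹ * x * c⁻¹⁻¹ ∈ Subgroup.centralizer (R : Set H) := hcn.conj_mem x hxc c⁻¹
      rw [← hc] at this
      have e : c⁻¹ * (c * h * c⁻¹) * c⁻¹⁻¹ = h := by group
      rwa [e] at this
    have h1 := memLocalIdeal_centralChar_of_not_centralizer hM R hR h hno ξ
    have h2 := memLocalIdeal_centralChar_of_not_centralizer hM R hR h hno ξ'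
    exact memLocalIdeal_sub h1 h2

end Cfsg.Agent.H9.OneBlock
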