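import Mathlib
import Cfsg.Prelude.Def_Characters
import Cfsg.Prelude.Def_Blocks
import Cfsg.Agent.Lib.helper3.BlockInd
import Cfsg.Agent.Lib.helper3.DefectZero
import Cfsg.Agent.Lib.helper3.DefectOrder
import Cfsg.Agent.Lib.helper3.GalPow
import Cfsg.Agent.Lib.helper3.AlgInt

/-!
# A parity certificate excluding `2`-blocks of defect zero
-/

set_option autoImplicit false

namespace Cfsg.Agent.H9.OneBlock

open Cfsg Cfsg.Agent.Lib.helper3.Block Cfsg.Agent.Lib.helper3.LocalM
open Cfsg.Agent.Lib.helper3.Irr Cfsg.Agent.Lib.helper3.Central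

section cert

variable {G : Type*} [Group G] [Fintype G]

open Classical in
/-- the class-counting function of the certificate -/
noncomputable def certCount (z : G) (W : G → Prop) (e : G) : ℕ :=
  (Finset.univ.filter (fun x : G => IsConj z x ∧ W (e * x))).card

theorem certCount_conj (z : G) (W : G → Prop) (hWcl : ∀ g h : G, W (h * g * h⁻¹) ↔ W g)
    (e h : G) : certCount z W (h * e * h⁻¹) = certCount z W e := by
  classical
  unfold certCount
  apply Finset.card_bij (fun (x : G) _ => h⁻¹ * x * h)
  · intro x hx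
    simp only [Finset.mem_filter, Finset.mem_univ, true_and] at hx ⊢
    refine ⟨?_, ?_⟩
    · obtain ⟨c, hc⟩ := isConj_iff.mp hx.1
      rw [isConj_iff]
      refine ⟨h⁻¹ * c, ?_⟩
      rw [← hc]
      group
    · have := (hWcl (e * (h⁻¹ * x * h)) h).mpr
      rw [← hWcl _ h]
      have e1 : h * (e * (h⁻¹ * x * h)) * h⁻¹ = h * e * h⁻¹ * x := by group
      rw [e1]
      exact hx.2
  · intro a _ b _ hab
    have : h * (h⁻¹ * a * h) * h⁻¹ = h * (h⁻¹ * b * h) * h⁻¹ := by rw [hab]
    simpa [mul_assoc] using this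
  · intro y hy
    simp only [Finset.mem_filter, Finset.mem_univ, true_and] at hy
    refine ⟨h * y * h⁻¹, ?_, by group⟩
    simp only [Finset.mem_filter, Finset.mem_univ, true_and]
    refine ⟨?_, ?_⟩
    · obtain ⟨c, hc⟩ := isConj_iff.mp hy.1
      rw [isConj_iff]
      refine ⟨h * c, ?_⟩
      rw [← hc]
      group
    · rw [← hWcl _ h] at hy
      have e1 : h * (e * y) * h⁻¹ = h * e * h⁻¹ * (h * y * h⁻¹) := by group
      rw [← e1]
      exact hy.2

open Classical in
/-- The parity certificate: an irreducible character vanishing on all elements of even order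
cannot exist if some involution class of odd size meets every coset-like set `W e⁻¹`, `e ≠ 1` of
odd order, in an even number of elements. -/
theorem false_of_parity_certificate {χ : G → ℂ} (hχ : IsIrrCharacter G χ)
    (hvan : ∀ x : G, 2 ∣ orderOf x → χ x = 0)
    (z : G) (hz1 : z ≠ 1) (hz2 : z * z = 1) (W : G → Prop)
    (hWcl : ∀ g h : G, W (h * g * h⁻¹) ↔ W g) (hzW : W z)
    (hcl : ¬ 2 ∣ (Finset.univ.filter (fun x : G => IsConj z x)).card)
    (hcert : ∀ e : G, e ≠ 1 → ¬ 2 ∣ orderOf e → 2 ∣ certCount z W e) : False := by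
  classical
  have hχ' := hχ
  obtain ⟨n, ρ, hirr, rfl⟩ := hχ
  have _inst : ρ.IsIrreducible := hirr
  have hn : ρ.character 1 = (Module.finrank ℂ (Fin n → ℂ) : ℂ) := Representation.char_one ρ
  have hV := finrank_ne_zero_of_irreducible ρ
  have hn0 : (Module.finrank ℂ (Fin n → ℂ) : ℂ) ≠ 0 := by exact_mod_cast hV
  have hz : 2 ∣ orderOf z := by
    rw [orderOf_eq_prime (by rw [pow_two]; exact hz2) hz1]
  have hχz : ρ.character z = 0 := hvan z hz
  have hsq : ∀ x : G, IsConj z x → x * x = 1 := by
    intro x hx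
    obtain ⟨c, hc⟩ := isConj_iff.mp hx
    rw [← hc]
    calc c * z * c⁻¹ * (c * z * c⁻¹) = c * (z * z) * c⁻¹ := by group
      _ = 1 := by rw [hz2]; group
  -- Step 1
  have h1 : ∀ w : G, ∑ y : G, ρ.character (w * (y * z * y⁻¹)) = 0 := by
    intro w
    have := Cfsg.Agent.Lib.helper3.GalPow.sum_irr_conj_mul hχ' w z
    rw [hχz, mul_zero] at this
    exact (mul_eq_zero.mp this).resolve_left (by rw [hn]; exact hn0)
  have h2 : ∑ y : G, ∑ w : G, (if W w then ρ.character (w * (y⁻¹ * z * y)) else 0) = 0 := by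
    rw [Finset.sum_comm]
    apply Finset.sum_eq_zero
    intro w _
    by_cases hw : W w
    · simp only [if_pos hw]
      rw [← h1 w]
      exact Fintype.sum_equiv (Equiv.inv G) _ _ (fun y => by simp)
    · simp only [if_neg hw]
      exact Finset.sum_const_zero
  rw [sum_conj_eq (fun x => ∑ w : G, if W w then ρ.character (w * x) else 0) z] at h2
  have hC0 : (Nat.card (Subgroup.centralizer ({z} : Set G)) : ℂ) ≠ 0 := by
    have : Nat.card (Subgroup.centralizer ({z} : Set G)) ≠ 0 := Nat.card_pos.ne'
    exact_mod_cast this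
  have h3 : ∑ x : G, (if IsConj z x then
      ∑ w : G, (if W w then ρ.character (w * x) else 0) else 0) = 0 :=
    (mul_eq_zero.mp h2).resolve_left hC0
  have h4 : ∀ x : G, IsConj z x → ∑ w : G, (if W w then ρ.character (w * x) else 0)
      = ∑ e : G, if W (e * x) then ρ.character e else 0 := by
    intro x hx
    apply Fintype.sum_equiv (Equiv.mulRight x)
    intro w
    have e1 : w * x * x = w := by rw [mul_assoc, hsq x hx, mul_one]
    simp only [Equiv.coe_mulRight, e1]
  have h5 : ∑ e : G, ρ.character e * (certCount z W e : ℂ) = 0 := by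
    rw [← h3]
    have h6 : ∑ x : G, (if IsConj z x then
        ∑ w : G, (if W w then ρ.character (w * x) else 0) else 0)
        = ∑ x : G, ∑ e : G, if (IsConj z x ∧ W (e * x)) then ρ.character e else 0 := by
      apply Finset.sum_congr rfl
      intro x _
      by_cases hx : IsConj z x
      · rw [if_pos hx, h4 x hx]
        apply Finset.sum_congr rfl
        intro e _
        by_cases hw : W (e * x)
        · rw [if_pos hw, if_pos ⟨hx, hw⟩]
        · rw [if_neg hw, if_neg (fun h => hw h.2)]
      · rw [if_neg hx]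
        symm
        apply Finset.sum_eq_zero
        intro e _
        rw [if_neg (fun h => hx h.1)]
    rw [h6, Finset.sum_comm]
    apply Finset.sum_congr rfl
    intro e _
    unfold certCount
    rw [Finset.card_filter]
    push_cast
    rw [Finset.mul_sum]
    apply Finset.sum_congr rfl
    intro x _
    split_ifs <;> simp
  -- Step 3: isolate `e = 1`
  have hc1 : certCount z W 1 = (Finset.univ.filter (fun x : G => IsConj z x)).card := by
    unfold certCount
    congr 1
    ext x
    simp only [Finset.mem_filter, Finset.mem_univ, true_and, one_mul, and_iff_left_iff_imp]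
    intro hx
    obtain ⟨c, hc⟩ := isConj_iff.mp hx
    rw [← hc, hWcl]
    exact hzW
  obtain ⟨N, hN⟩ : ∃ N, N = (Finset.univ.filter (fun x : G => IsConj z x)).card := ⟨_, rfl⟩
  rw [← hN] at hcl hc1
  let F : G → ℂ := fun e => if e = 1 then 0 else if 2 ∣ orderOf e then 0 else
    ((certCount z W e / 2 : ℕ) : ℂ)
  have hF : ∀ e : G, ρ.character e * (certCount z W e : ℂ)
      = (if e = 1 then ρ.character 1 * (N : ℂ) else 0) + 2 * (ρ.character e * F e) := by
    intro e
    by_cases he : e = 1
    · subst he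
      simp only [F, if_true, mul_zero, add_zero, hc1]
    · by_cases ho : 2 ∣ orderOf e
      · simp only [F, if_neg he, if_pos ho, hvan e ho, zero_mul, mul_zero, add_zero]
      · simp only [F, if_neg he, if_neg ho, zero_add]
        obtain ⟨k, hk⟩ := hcert e he ho
        rw [hk, Nat.mul_div_cancel_left k (by norm_num)]
        push_cast
        ring
  rw [Finset.sum_congr rfl (fun e _ => hF e), Finset.sum_add_distrib, Finset.sum_ite_eq'] at h5
  simp only [Finset.mem_univ, if_true] at h5
  rw [← Finset.mul_sum] at h5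
  have hFcl : ∀ g h : G, F (h * g * h⁻¹) = F g := by
    intro g h
    have e1 : (h * g * h⁻¹ = 1) ↔ g = 1 := by
      constructor
      · intro hh
        have : g = h⁻¹ * (h * g * h⁻¹) * h := by group
        rw [this, hh]
        group
      · rintro rfl
        group
    have e2 : orderOf (h * g * h⁻¹) = orderOf g := by
      have := orderOf_injective (MulAut.conj h).toMonoidHom (MulAut.conj h).injective g
      simpa using this
    simp only [F, e1, e2, certCount_conj z W hWcl g h]
  have hFint : ∀ g : G, IsIntegral ℤ (F g) := by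
    intro g
    simp only [F]
    split_ifs
    · exact isIntegral_zero
    · exact isIntegral_zero
    · exact isIntegral_natCast _
  have hint := Cfsg.Agent.Lib.helper3.BrauerInd.isIntegral_sum_class_div ρ F hFcl hFint
  have hval : (∑ g : G, ρ.character g * F g) / (Module.finrank ℂ (Fin n → ℂ) : ℂ)
      = ((-(N : ℚ) / 2 : ℚ) : ℂ) := by
    rw [hn] at h5
    rw [div_eq_iff hn0]
    push_cast
    linear_combination (1 / 2 : ℂ) * h5
  rw [hval] at hint
  obtain ⟨k, hk⟩ := Cfsg.Agent.Lib.helper3.AlgInt.exists_int_of_isIntegral_ratCast hint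
  apply hcl
  have h7 : (N : ℚ) = -2 * (k : ℚ) := by rw [hk]; ring
  have h8 : (N : ℤ) = -2 * k := by exact_mod_cast h7
  have h9 : (2 : ℤ) ∣ (N : ℤ) := ⟨-k, by rw [h8]; ring⟩
  exact_mod_cast h9

end cert

variable {G : Type*} [Group G] [Fintype G] {M : Ideal AlgInt}

/-- Under the parity certificate, the centralizer of a defect class of a `2`-block has even
order. -/
theorem even_centralizer_of_isDefectClass (hM : IsPModular 2 M)
    (B : Set (IrrCharacter G)) (hB : IsPBlock M B) (g : G) (hg : IsDefectClass M B g)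
    (z : G) (hz1 : z ≠ 1) (hz2 : z * z = 1) (W : G → Prop)
    (hWcl : ∀ g h : G, W (h * g * h⁻¹) ↔ W g) (hzW : W z)
    (hcl : ¬ 2 ∣ Nat.card {x : G // IsConj z x})
    (hcert : ∀ e : G, e ≠ 1 → ¬ 2 ∣ orderOf e → 2 ∣ Nat.card {x : G // IsConj z x ∧ W (e * x)}) :
    2 ∣ Nat.card (Subgroup.centralizer ({g} : Set G)) := by
  classical
  by_contra hodd
  have hMtop : M ≠ ⊤ := hM.2.1.ne_top
  have h1 := factorization_centralizer_of_isDefectClass hM B hB g hg
  rw [Nat.factorization_eq_zero_of_not_dvd hodd] at h1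
  obtain ⟨χ₀, hBeq⟩ := hB
  have hχ₀ : χ₀ ∈ B := by
    rw [hBeq]
    exact sameBlock_refl hMtop _
  obtain ⟨a, ha⟩ : ∃ a, a = (Nat.card G).factorization 2 := ⟨_, rfl⟩
  have h2 : a ≤ (charDegree (χ₀ : G → ℂ)).factorization 2 := by
    unfold blockDefect at h1
    rw [← ha] at h1
    have h3 : sInf ((fun χ : IrrCharacter G => (charDegree (χ : G → ℂ)).factorization 2) '' B)
        ≤ (charDegree (χ₀ : G → ℂ)).factorization 2 := Nat.sInf_le ⟨χ₀, hχ₀, rfl⟩
    omega
  obtain ⟨χ, hχ⟩ := χ₀
  have hχ' := hχ
  obtain ⟨n, ρ, hirr, rfl⟩ := hχ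
  have _inst : ρ.IsIrreducible := hirr
  have hn : ρ.character 1 = (Module.finrank ℂ (Fin n → ℂ) : ℂ) := Representation.char_one ρ
  have hV : Module.finrank ℂ (Fin n → ℂ) ≠ 0 := by
    have := finrank_ne_zero_of_irreducible ρ
    exact_mod_cast this
  have hdeg : charDegree ρ.character = Module.finrank ℂ (Fin n → ℂ) := charDegree_eq hn
  simp only [hdeg] at h2
  have hdvd : 2 ^ a ∣ Module.finrank ℂ (Fin n → ℂ) :=
    (Nat.Prime.pow_dvd_iff_le_factorization Nat.prime_two hV).mpr h2
  have hG0 : Nat.card G ≠ 0 := Nat.card_pos.ne'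
  have hn' : ¬ 2 ^ (a + 1) ∣ Nat.card G := by
    rw [ha]
    exact Nat.pow_succ_factorization_not_dvd hG0 Nat.prime_two
  have hvan : ∀ x : G, 2 ∣ orderOf x → ρ.character x = 0 := fun x hx =>
    Cfsg.Agent.Lib.helper3.BrauerInd.character_eq_zero_of_defect_zero ρ 2 a hn' hdvd x hx
  refine false_of_parity_certificate hχ' hvan z hz1 hz2 W hWcl hzW ?_ ?_
  · rw [Nat.card_eq_fintype_card, Fintype.card_subtype] at hcl
    exact hcl
  · intro e he ho
    have := hcert e he ho
    rw [Nat.card_eq_fintype_card, Fintype.card_subtype] at this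
    exact this

end Cfsg.Agent.H9.OneBlock
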