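import Mathlib
import Cfsg.Prelude.Def_Characters
import Cfsg.Prelude.Def_Blocks
import Cfsg.Agent.H9.OneBlockA
import Cfsg.Agent.H9.OneBlockB
import Cfsg.Agent.H9.OneBlockC
import Cfsg.Agent.Lib.helper3.BlockIdem2

/-!
# A criterion for a finite group to have a single `2`-block
-/

set_option autoImplicit false

namespace Cfsg.Agent.H9.OneBlock

open Cfsg Cfsg.Agent.Lib.helper3.Block Cfsg.Agent.Lib.helper3.LocalM
open Cfsg.Agent.Lib.helper3.Irr Cfsg.Agent.Lib.helper3.Central

variable {G : Type*} [Group G] [Fintype G] {M : Ideal AlgInt}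

/-- every character lies in the principal block, under the certificates -/
theorem sameBlock_one_of_certificates (hM : IsPModular 2 M)
    (z : G) (hz1 : z ≠ 1) (hz2 : z * z = 1) (W : G → Prop)
    (hWcl : ∀ g h : G, W (h * g * h⁻¹) ↔ W g) (hzW : W z)
    (hcl : ¬ 2 ∣ Nat.card {x : G // IsConj z x})
    (hcert : ∀ e : G, e ≠ 1 → ¬ 2 ∣ orderOf e → 2 ∣ Nat.card {x : G // IsConj z x ∧ W (e * x)})
    (hinv : ∀ t : G, t ≠ 1 → t * t = 1 → ∃ (r x : G), x * r * x⁻¹ = t ∧
      ∃ R : Subgroup ↥(Subgroup.centralizer ((Subgroup.zpowers r : Subgroup G) : Set G)),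
        R.Normal ∧ IsPGroup 2 R ∧ Subgroup.centralizer (R : Set _) ≤ R)
    (χ : IrrCharacter G) : SameBlock M (χ : G → ℂ) (fun _ : G => (1 : ℂ)) := by
  classical
  have hMp := isPrime_of_isPModular hM
  have hMtop : M ≠ ⊤ := hM.2.1.ne_top
  have hB : IsPBlock M (blockOf M (χ : G → ℂ)) := ⟨χ, rfl⟩
  have hχB : χ ∈ blockOf M (χ : G → ℂ) := sameBlock_refl hMtop _
  obtain ⟨g, hg⟩ := exists_defectClass hM _ hB
  have heven := even_centralizer_of_isDefectClass hM _ hB g hg z hz1 hz2 W hWcl hzW hcl hcert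
  obtain ⟨P₂⟩ : Nonempty (Sylow 2 ↥(Subgroup.centralizer ({g} : Set G))) := inferInstance
  have hD : IsDefectGroup 2 M (blockOf M (χ : G → ℂ))
      ((P₂ : Subgroup ↥(Subgroup.centralizer ({g} : Set G))).map
        (Subgroup.centralizer ({g} : Set G)).subtype) := ⟨g, hg, P₂, rfl⟩
  -- an involution in `P₂`
  have hP₂ : 2 ∣ Nat.card (P₂ : Subgroup ↥(Subgroup.centralizer ({g} : Set G))) := by
    rw [Sylow.card_eq_multiplicity]
    have hC0 : Nat.card ↥(Subgroup.centralizer ({g} : Set G)) ≠ 0 := Nat.card_pos.ne'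
    have : 1 ≤ (Nat.card ↥(Subgroup.centralizer ({g} : Set G))).factorization 2 :=
      (Nat.Prime.dvd_iff_one_le_factorization Nat.prime_two hC0).mp heven
    exact dvd_pow_self 2 (by omega)
  obtain ⟨u, hu⟩ := exists_prime_orderOf_dvd_card' 2 hP₂
  obtain ⟨t, ht⟩ : ∃ t : G, t = ((u : ↥(Subgroup.centralizer ({g} : Set G))) : G) := ⟨_, rfl⟩
  have hu1 : u ≠ 1 := by
    intro h
    rw [h, orderOf_one] at hu
    omega
  have hu2 : u * u = 1 := by
    have := pow_orderOf_eq_one u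
    rw [hu, pow_two] at this
    exact this
  have ht1 : t ≠ 1 := by
    intro h
    apply hu1
    apply Subtype.ext
    apply Subtype.ext
    rw [← ht, h]
    rfl
  have ht2 : t * t = 1 := by
    rw [ht]
    have := congrArg (fun v : ↥(P₂ : Subgroup ↥(Subgroup.centralizer ({g} : Set G))) =>
      ((v : ↥(Subgroup.centralizer ({g} : Set G))) : G)) hu2
    simpa using this
  have htD : t ∈ (P₂ : Subgroup ↥(Subgroup.centralizer ({g} : Set G))).map
      (Subgroup.centralizer ({g} : Set G)).subtype := by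
    rw [ht]
    exact Subgroup.mem_map.mpr ⟨(u : ↥(Subgroup.centralizer ({g} : Set G))), u.2, rfl⟩
  obtain ⟨r, x, hxr, R, hRn, hRp, hRc⟩ := hinv t ht1 ht2
  have hr2 : r * r = 1 := by
    have : r = x⁻¹ * t * x := by rw [← hxr]; group
    rw [this]
    calc x⁻¹ * t * x * (x⁻¹ * t * x) = x⁻¹ * (t * t) * x := by group
      _ = 1 := by rw [ht2]; group
  -- `P = ⟨r⟩`
  have hPp : IsPGroup 2 (Subgroup.zpowers r) := by
    rw [IsPGroup.iff_card]
    by_cases hr1 : r = 1
    · refine ⟨0, ?_⟩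
      rw [hr1, Subgroup.zpowers_one_eq_bot, Subgroup.card_bot, pow_zero]
    · refine ⟨1, ?_⟩
      rw [Nat.card_zpowers, orderOf_eq_prime (by rw [pow_two]; exact hr2) hr1, pow_one]
  have hPC : Subgroup.zpowers r ≤ Subgroup.centralizer ((Subgroup.zpowers r : Subgroup G) : Set G) := by
    rw [Subgroup.zpowers_le]
    rw [Subgroup.mem_centralizer_iff]
    intro y hy
    obtain ⟨k, rfl⟩ := Subgroup.mem_zpowers_iff.mp hy
    exact (Commute.zpow_left (Commute.refl r) k).eq
  have hH : ∀ ξ ξ' : IrrCharacter ↥(Subgroup.centralizer ((Subgroup.zpowers r : Subgroup G) : Set G)),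
      SameBlock M (ξ : ↥(Subgroup.centralizer ((Subgroup.zpowers r : Subgroup G) : Set G)) → ℂ)
        (ξ' : ↥(Subgroup.centralizer ((Subgroup.zpowers r : Subgroup G) : Set G)) → ℂ) := by
    intro ξ ξ'
    have _instR : R.Normal := hRn
    exact sameBlock_of_constrained hM R hRp hRc ξ ξ'
  have hx : (Subgroup.zpowers r).map (MulAut.conj x).toMonoidHom
      ≤ (P₂ : Subgroup ↥(Subgroup.centralizer ({g} : Set G))).map
        (Subgroup.centralizer ({g} : Set G)).subtype := by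
    rw [MonoidHom.map_zpowers, Subgroup.zpowers_le]
    have : (MulAut.conj x).toMonoidHom r = t := by
      rw [← hxr]
      rfl
    rw [this]
    exact htD
  exact sameBlock_one_of_centralizer hM (Subgroup.zpowers r) hPp hPC hH _ hB _ hD x hx χ hχB

/-- **Single block criterion.** -/
theorem sameBlock_of_certificates (hM : IsPModular 2 M)
    (z : G) (hz1 : z ≠ 1) (hz2 : z * z = 1) (W : G → Prop)
    (hWcl : ∀ g h : G, W (h * g * h⁻¹) ↔ W g) (hzW : W z)
    (hcl : ¬ 2 ∣ Nat.card {x : G // IsConj z x})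
    (hcert : ∀ e : G, e ≠ 1 → ¬ 2 ∣ orderOf e → 2 ∣ Nat.card {x : G // IsConj z x ∧ W (e * x)})
    (hinv : ∀ t : G, t ≠ 1 → t * t = 1 → ∃ (r x : G), x * r * x⁻¹ = t ∧
      ∃ R : Subgroup ↥(Subgroup.centralizer ((Subgroup.zpowers r : Subgroup G) : Set G)),
        R.Normal ∧ IsPGroup 2 R ∧ Subgroup.centralizer (R : Set _) ≤ R)
    (χ ψ : IrrCharacter G) : SameBlock M (χ : G → ℂ) (ψ : G → ℂ) := by
  have hMp := isPrime_of_isPModular hM
  exact sameBlock_trans
    (sameBlock_one_of_certificates hM z hz1 hz2 W hWcl hzW hcl hcert hinv χ)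
    (sameBlock_symm (sameBlock_one_of_certificates hM z hz1 hz2 W hWcl hzW hcl hcert hinv ψ))

end Cfsg.Agent.H9.OneBlock
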