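import Cfsg.Agent.H9.M22BlkD
import Cfsg.Agent.H9.OneBlockD

/-!
# `M22` has a single `2`-block
-/

set_option autoImplicit false

namespace Cfsg.Agent.H9.M22Blk

open Cfsg Cfsg.Agent.Lib.Helper6.Golay Cfsg.Agent.Lib.Helper6.Golay.M12Out Cfsg.Agent.H9.NatPerm
open Cfsg.Agent.Lib.Helper6.PermChain

/-! ### the Sylow `3`-subgroup -/

theorem hgen3 : ∀ k, ∃ g ∈ Spor.M22, IsC g (gen3 k) := by
  have h1 : ∀ c ∈ [x3c, y3c], ∃ g ∈ M24, IsC g c := exists_of_chk_lists chk3 dec3
  intro k
  unfold gen3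
  split
  · obtain ⟨g, hg, hc⟩ := h1 x3c (by simp)
    exact ⟨g, mem_M22_of_isC hg hc (List.all_eq_true.mp fix3 _ (by simp)), hc⟩
  · obtain ⟨g, hg, hc⟩ := h1 y3c (by simp)
    exact ⟨g, mem_M22_of_isC hg hc (List.all_eq_true.mp fix3 _ (by simp)), hc⟩

theorem s3_valid : ∀ j < 9, ∃ y ∈ Spor.M22, IsC y (arr 120 S3 j) :=
  valid_of_mulAll gen3 hgen3 S3 S3P S3K 9 S3_zero S3_mul_ok

theorem s3_inj : ∀ i < 9, ∀ i' < 9, arr 120 S3 i = arr 120 S3 i' → i = i' := inj_of_sortAll S3_sort_ok

/-- the elements coded by the list -/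
def S3set : Set G := {x | ∃ i < 9, IsC (x : Equiv.Perm GolayPt) (arr 120 S3 i)}

theorem S3set_mul {a b : G} (ha : a ∈ S3set) (hb : b ∈ S3set) : a * b ∈ S3set := by
  obtain ⟨i, hi, hai⟩ := ha
  obtain ⟨j, hj, hbj⟩ := hb
  obtain ⟨k, hk, hkk⟩ := anyB_spec _ _ (allB_spec _ _ (allB_spec _ _ S3_closed i hi) j hj)
  simp only [Nat.beq_eq] at hkk
  refine ⟨k, hk, ?_⟩
  rw [← hkk]
  exact hai.mul hbj

theorem S3set_one : (1 : G) ∈ S3set := ⟨0, by norm_num, by rw [S3_zero]; exact isC_one⟩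

theorem S3set_pow {a : G} (ha : a ∈ S3set) : ∀ n : ℕ, a ^ n ∈ S3set
  | 0 => by rw [pow_zero]; exact S3set_one
  | n + 1 => by rw [pow_succ]; exact S3set_mul (S3set_pow ha n) ha

/-- the Sylow `3`-subgroup -/
def K3 : Subgroup G where
  carrier := S3set
  mul_mem' := S3set_mul
  one_mem' := S3set_one
  inv_mem' := by
    intro a ha
    have h1 : a⁻¹ = a ^ (orderOf a - 1) := by
      apply inv_eq_of_mul_eq_one_right
      rw [← pow_succ', show orderOf a - 1 + 1 = orderOf a by have := orderOf_pos a; omega]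
      exact pow_orderOf_eq_one a
    rw [h1]
    exact S3set_pow ha _

theorem card_K3 : Nat.card K3 = 9 := by
  have e : Fin 9 ≃ K3 :=
    Equiv.ofBijective (fun i => (⟨⟨Classical.choose (s3_valid i i.2),
        (Classical.choose_spec (s3_valid i i.2)).1⟩, ⟨i, i.2,
        (Classical.choose_spec (s3_valid i i.2)).2⟩⟩ : K3)) (by
      constructor
      · intro i j hij
        apply Fin.ext
        apply s3_inj i i.2 j j.2
        have h1 := (Classical.choose_spec (s3_valid i i.2)).2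
        have h2 := (Classical.choose_spec (s3_valid j j.2)).2
        have h3 : Classical.choose (s3_valid i i.2) = Classical.choose (s3_valid j j.2) :=
          congrArg (fun t : K3 => ((t : G) : Equiv.Perm GolayPt)) hij
        rw [h3] at h1
        exact h1.code_eq h2 (arr120_lt _ _) (arr120_lt _ _)
      · intro x
        obtain ⟨i, hi, hxi⟩ := x.2
        refine ⟨⟨i, hi⟩, ?_⟩
        apply Subtype.ext
        apply Subtype.ext
        exact ((Classical.choose_spec (s3_valid i hi)).2).ext hxi)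
  rw [← Nat.card_congr e]
  simp

instance : Fact (Nat.Prime 3) := ⟨by norm_num⟩

theorem step3 (e : G) (he1 : e ≠ 1) (hord : ∃ k : ℕ, orderOf e = 3 ^ k) :
    ∃ h : G, ∃ i, 1 ≤ i ∧ i < 9 ∧ IsC ((h * e * h⁻¹ : G) : Equiv.Perm GolayPt) (arr 120 S3 i) := by
  obtain ⟨g, hg⟩ := Cfsg.Agent.H9.SylowConj.exists_conj_mem_of_card_sylow K3
    (by rw [card_K3, fac3]; norm_num) e hord
  obtain ⟨i, hi, hic⟩ := hg
  refine ⟨g, i, ?_, hi, hic⟩
  rcases Nat.eq_zero_or_pos i with h0 | h0
  · exfalso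
    subst h0
    rw [S3_zero] at hic
    have h1 : ((g * e * g⁻¹ : G) : Equiv.Perm GolayPt) = 1 := hic.ext isC_one
    have h2 : g * e * g⁻¹ = 1 := Subtype.ext h1
    apply he1
    have : e = g⁻¹ * (g * e * g⁻¹) * g := by group
    rw [this, h2]
    group
  · exact h0

/-! ### classification of the elements of odd order -/

theorem layout : (∀ i < 4, arr 120 RP5 (i + 1) = arr 120 E i) ∧
    (∀ i < 6, arr 120 RP7 (i + 1) = arr 120 E (4 + i)) ∧
    (∀ i < 10, arr 120 RP11 (i + 1) = arr 120 E (10 + i)) ∧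
    (∀ i < 8, arr 120 S3 (i + 1) = arr 120 E (20 + i)) := by
  have h := E_layout
  simp only [Bool.and_eq_true] at h
  obtain ⟨⟨⟨h1, h2⟩, h3⟩, h4⟩ := h
  refine ⟨?_, ?_, ?_, ?_⟩
  · intro i hi
    have := allB_spec _ _ h1 i hi
    simpa using this
  · intro i hi
    have := allB_spec _ _ h2 i hi
    simpa using this
  · intro i hi
    have := allB_spec _ _ h3 i hi
    simpa using this
  · intro i hi
    have := allB_spec _ _ h4 i hi
    simpa using this

theorem odd_conj (e : G) (he1 : e ≠ 1) (hodd : ¬ 2 ∣ orderOf e) :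
    ∃ h : G, ∃ j < 28, IsC ((h * e * h⁻¹ : G) : Equiv.Perm GolayPt) (arr 120 E j) := by
  obtain ⟨l5, l7, l11, l3⟩ := layout
  by_cases h11 : 11 ∣ orderOf e
  · obtain ⟨h, i, hi1, hi2, hic⟩ := step11 e he1 h11
    refine ⟨h, 10 + (i - 1), by omega, ?_⟩
    rw [← l11 (i - 1) (by omega), show i - 1 + 1 = i by omega]
    exact hic
  by_cases h7 : 7 ∣ orderOf e
  · obtain ⟨h, i, hi1, hi2, hic⟩ := step7 e he1 h7
    refine ⟨h, 4 + (i - 1), by omega, ?_⟩
    rw [← l7 (i - 1) (by omega), show i - 1 + 1 = i by omega]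
    exact hic
  by_cases h5 : 5 ∣ orderOf e
  · obtain ⟨h, i, hi1, hi2, hic⟩ := step5 e he1 h5
    refine ⟨h, i - 1, by omega, ?_⟩
    rw [← l5 (i - 1) (by omega), show i - 1 + 1 = i by omega]
    exact hic
  -- the order divides `9`
  have hdvd : orderOf e ∣ 443520 := by
    rw [← card_G]
    exact orderOf_dvd_natCard e
  have hc2 : Nat.Coprime (orderOf e) 128 := by
    rw [show 128 = 2 ^ 7 by norm_num]
    apply Nat.Coprime.pow_right
    rw [Nat.coprime_comm]
    exact (Nat.Prime.coprime_iff_not_dvd Nat.prime_two).mpr hodd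
  have hc385 : Nat.Coprime (orderOf e) 385 := by
    rw [show 385 = 5 * (7 * 11) by norm_num]
    apply Nat.Coprime.mul_right
    · rw [Nat.coprime_comm]
      exact (Nat.Prime.coprime_iff_not_dvd (by norm_num)).mpr h5
    apply Nat.Coprime.mul_right
    · rw [Nat.coprime_comm]
      exact (Nat.Prime.coprime_iff_not_dvd (by norm_num)).mpr h7
    · rw [Nat.coprime_comm]
      exact (Nat.Prime.coprime_iff_not_dvd (by norm_num)).mpr h11
  have h9 : orderOf e ∣ 9 := by
    rw [show 443520 = 128 * (385 * 9) by norm_num] at hdvd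
    exact hc385.dvd_of_dvd_mul_left (hc2.dvd_of_dvd_mul_left hdvd)
  have hpow : ∃ k : ℕ, orderOf e = 3 ^ k := by
    have h9' : orderOf e ∣ 3 ^ 2 := by
      rw [show (3 : ℕ) ^ 2 = 9 by norm_num]; exact h9
    obtain ⟨k, -, hk⟩ := (Nat.dvd_prime_pow (show Nat.Prime 3 by norm_num)).mp h9'
    exact ⟨k, hk⟩
  obtain ⟨h, i, hi1, hi2, hic⟩ := step3 e he1 hpow
  refine ⟨h, 20 + (i - 1), by omega, ?_⟩
  rw [← l3 (i - 1) (by omega), show i - 1 + 1 = i by omega]
  exact hic

theorem parity (j : ℕ) (hj : j < 28) : cntTwo (arr 120 E j) A 1155 0 % 2 = 0 := by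
  rcases Nat.lt_or_ge j 7 with h | h
  · have := allB_spec _ _ parity0 j h
    simpa using this
  rcases Nat.lt_or_ge j 14 with h' | h'
  · have := allB_spec _ _ parity1 (j - 7) (by omega)
    rw [show 7 + (j - 7) = j by omega] at this
    simpa using this
  rcases Nat.lt_or_ge j 21 with h'' | h''
  · have := allB_spec _ _ parity2 (j - 14) (by omega)
    rw [show 14 + (j - 14) = j by omega] at this
    simpa using this
  · have := allB_spec _ _ parity3 (j - 21) (by omega)
    rw [show 21 + (j - 21) = j by omega] at this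
    simpa using this

/-- conjugation invariance of the counting function -/
theorem card_cert_conj {X : Type*} [Group X] (z e h : X) :
    Nat.card {x : X // IsConj z x ∧ (e * x) ^ 8 = 1}
      = Nat.card {x : X // IsConj z x ∧ (h * e * h⁻¹ * x) ^ 8 = 1} := by
  apply Nat.card_congr
  exact
    { toFun := fun x => ⟨h * x.1 * h⁻¹, by
          obtain ⟨c, hc⟩ := isConj_iff.mp x.2.1
          rw [isConj_iff]
          refine ⟨h * c, ?_⟩
          rw [← hc]
          group, by
          have e1 : h * e * h⁻¹ * (h * x.1 * h⁻¹) = h * (e * x.1) * h⁻¹ := by group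
          rw [e1, conj_pow, x.2.2]
          group⟩
      invFun := fun x => ⟨h⁻¹ * x.1 * h, by
          obtain ⟨c, hc⟩ := isConj_iff.mp x.2.1
          rw [isConj_iff]
          refine ⟨h⁻¹ * c, ?_⟩
          rw [← hc]
          group, by
          have e1 : e * (h⁻¹ * x.1 * h) = h⁻¹ * (h * e * h⁻¹ * x.1) * h⁻¹⁻¹ := by group
          rw [e1, conj_pow, x.2.2]
          group⟩
      left_inv := by
        intro x
        apply Subtype.ext
        show h⁻¹ * (h * x.1 * h⁻¹) * h = x.1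
        group
      right_inv := by
        intro x
        apply Subtype.ext
        show h * (h⁻¹ * x.1 * h) * h⁻¹ = x.1
        group }

theorem hcert (e : G) (he1 : e ≠ 1) (hodd : ¬ 2 ∣ orderOf e) :
    2 ∣ Nat.card {x : G // IsConj zH x ∧ (e * x) ^ 8 = 1} := by
  obtain ⟨h, j, hj, hic⟩ := odd_conj e he1 hodd
  rw [card_cert_conj zH e h]
  have h1 := card_cert_eq z_mem classData (le_of_eq card_conjSet_z) (h * e * h⁻¹) (arr 120 E j) hic
  have h2 : Nat.card {x : G // IsConj zH x ∧ (h * e * h⁻¹ * x) ^ 8 = 1}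
      = cntTwo (arr 120 E j) A 1155 0 := h1
  rw [h2]
  exact Nat.dvd_of_mod_eq_zero (parity j hj)

/-- **`M22` has a single `2`-block.** -/
theorem single_block (M : Ideal AlgInt) (hM : IsPModular 2 M) (χ ψ : IrrCharacter G) :
    SameBlock M (χ : G → ℂ) (ψ : G → ℂ) := by
  refine Cfsg.Agent.H9.OneBlock.sameBlock_of_certificates hM zH zH_ne zH_sq (fun g => g ^ 8 = 1)
    ?_ ?_ ?_ hcert hinv χ ψ
  · intro g h
    rw [conj_pow]
    constructor
    · intro h1
      have : g ^ 8 = h⁻¹ * (h * g ^ 8 * h⁻¹) * h := by group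
      rw [this, h1]
      group
    · intro h1
      rw [h1]
      group
  · show zH ^ 8 = 1
    have : zH ^ 8 = (zH * zH) ^ 4 := by
      simp only [pow_succ, pow_zero, one_mul, mul_assoc]
    rw [this, zH_sq, one_pow]
  · rw [card_class_zH]
    norm_num

end Cfsg.Agent.H9.M22Blk
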