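import Cfsg.Agent.H9.FusM23Grp
import Cfsg.Agent.H9.SylowConj

/-!
# Generating `M23`: a criterion through straight line programs
-/

set_option autoImplicit false
set_option maxRecDepth 1000000

namespace Cfsg.Agent.H9.M23Gen

open Cfsg Cfsg.Agent.Lib.Helper6.Golay Cfsg.Agent.Lib.Helper6.Golay.M12Out Cfsg.Agent.H9.NatPerm
open Cfsg.Agent.H9.FusGrp Cfsg.Agent.H9.M23Grp

/-- the check of the `i`-th entry of a straight line program: `W[i] = W[a] * W[b]`, `a, b < i` -/
def prodChk (W WA WB i : ℕ) : Bool :=
  force (arr 8 WA i) fun a => force (arr 8 WB i) fun b =>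
    match Nat.blt a i with
    | false => false
    | true => match Nat.blt b i with
      | false => false
      | true => Nat.beq (arr 120 W i) (pmul (arr 120 W a) (arr 120 W b))

theorem mem_of_prodChk {K : Subgroup (Equiv.Perm GolayPt)} (W WA WB n : ℕ)
    (h0 : ∃ g ∈ K, IsC g (arr 120 W 0)) (h1 : ∃ g ∈ K, IsC g (arr 120 W 1))
    (h : allB (fun i => prodChk W WA WB (i + 2)) (n - 2) = true) :
    ∀ i < n, ∃ g ∈ K, IsC g (arr 120 W i) := by
  intro i
  induction i using Nat.strong_induction_on with
  | _ i ih =>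
    intro hi
    rcases Nat.lt_or_ge i 2 with h2 | h2
    · interval_cases i
      · exact h0
      · exact h1
    · have hc := allB_spec _ _ h (i - 2) (by omega)
      rw [show i - 2 + 2 = i by omega] at hc
      unfold prodChk at hc
      simp only [force_eq] at hc
      cases ha : Nat.blt (arr 8 WA i) i with
      | false => rw [ha] at hc; exact absurd hc (by simp)
      | true =>
        rw [ha] at hc
        cases hb : Nat.blt (arr 8 WB i) i with
        | false => rw [hb] at hc; exact absurd hc (by simp)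
        | true =>
          rw [hb] at hc
          simp only [Nat.beq_eq] at hc
          rw [Nat.blt_eq] at ha hb
          obtain ⟨x, hx, hxc⟩ := ih _ ha (by omega)
          obtain ⟨y, hy, hyc⟩ := ih _ hb (by omega)
          refine ⟨x * y, K.mul_mem hx hy, ?_⟩
          rw [hc]
          exact hxc.mul hyc

/-- powers of a code -/
def ppow (c : ℕ) : ℕ → ℕ
  | 0 => idc
  | n + 1 => pmul (ppow c n) c

theorem isC_ppow {g : Equiv.Perm GolayPt} {c : ℕ} (h : IsC g c) : ∀ n, IsC (g ^ n) (ppow c n)
  | 0 => by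
    rw [pow_zero]
    exact isC_one
  | n + 1 => by
    rw [pow_succ]
    exact (isC_ppow h n).mul h

theorem orderOf_of_ppow {g : Equiv.Perm GolayPt} {c p : ℕ} (hp : p.Prime) (h : IsC g c)
    (hlt : c < 32 ^ 24) (h1 : ppow c p = idc) (h2 : Nat.beq c idc = false) : orderOf g = p := by
  have := Fact.mk hp
  apply orderOf_eq_prime
  · have := isC_ppow h p
    rw [h1] at this
    exact this.ext isC_one
  · exact ne_one_of_isC h hlt h2

/-! ### the involution and the generators of its centralizer as words in the generators -/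

noncomputable def ZW : ℕ := 0xba6b49144f3118d581c381c3642a71bca06ad9eb191899b54e8d0a23a020bd62380973711920a50a01acfa1cadbc00e8be61511952c8e868c4b352c9bd005b3eac9c24a485a819c4b890cebd87302d89442543288d715f53c441bc0613ad0aa452c9c8ad239f515806b9c941d5536c530032c530568709f2b88807d60951d8d94cc50d9681c5d4bbc2a2213229d8273626a02b0b0d73b92850c24e31d8f588719a90905aadb8666a25cb89d84abec36961250102b82754248c705f112da32da12a1d46ba0ae9c982185e0544ed35524b520bbccc32904a685e8802875ba4cad931b84d1a91a0459421bdc7a2e4c4ccb0bbd8d105ca81e83ad9283440459653b9d93586161954e6d2284980493c55bad23612cd41547139f1acc3034814bc922010eab2dc8a36b19bc30614c3b82764c1548add2320b5188877b02dba47199e86aadc00c9856da0a13c88bcdb51a8c12adc9201ec444f4b0a12b89a48292e34c059050c8bcf41aed5bc2266d1d264c02b1568a914978ce1b8e363d040740ac0caa822d496cde6b9c8e8a401440a37b27535a825b552bb48f5246501d88904d5b4e828c16ebaac0208b2a9d8d5a20673d239c681b91d5b0e4b31d8aa3630080457cd28bd8267157481d844aa714547203c4dbbab4285463d9ac5c4887c26918242b95e7aa4cb459ae930041502a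80e71bd9f18250c70d663b6840082a996b2bc00e7a98720d76a98b49452814c2db8c0d12886b4cec72e342c9280c1f5bb0521a5046cceb35696005ea845c5bac6163d4894cf5216cd141c98d0c0bd06433ea752cb20204d859c964e21b9a0a1a4e06acb48ca62091f5b31c8b8c2d8541112ca67519342927259f2bc10209e2e9aca379acc936a051134b910f49c658c0d3a3a4c6daa00ad42ba5b1400b4640c454d7213ce3b06aeba04c68e8a940c9a902b744057d8f3bc05378e444d95461a2b0b8053a1b5bbc291148c5d9506d111acc7271c06bccefa920b439b60b0490525130caab818252cb21b9a725686b260143e33baac360644339a089df4989654a215b8aab0c98d8d94f040e8324a49b874bb266b1491a39aa8010fa8c3212567bbaa01c9ea60a11a34c849ca40da6b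
def ZWA : ℕ := 0x333231302f2e2d2c2b2a292827262502232221201f1e1d1c1b1a191817160614131211100f0e0d0c0b0a0908070602040301000000
def ZWB : ℕ := 0x101010001020100010101000101020502010001010100010001000101010001020102050500010101000101020101040101000000

theorem zw_ok : allB (fun i => prodChk ZW ZWA ZWB (i + 2)) 51 = true := by decide +kernel

theorem zw_vals : arr 120 ZW 0 = ga ∧ arr 120 ZW 1 = gb ∧ arr 120 ZW 21 = zc ∧
    arr 120 ZW 36 = u0 ∧ arr 120 ZW 52 = u1 := by decide +kernel

/-- **a subgroup of `M23` containing the two generators is `M23`** -/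
theorem eq_M23_of_gens (K : Subgroup (Equiv.Perm GolayPt)) (hle : K ≤ Spor.M23)
    (ha : ∃ g ∈ K, IsC g ga) (hb : ∃ g ∈ K, IsC g gb) : K = Spor.M23 := by
  obtain ⟨e0, e1, e2, e3, e4⟩ := zw_vals
  have hW := mem_of_prodChk (K := K) ZW ZWA ZWB 53 (by rw [e0]; exact ha) (by rw [e1]; exact hb) zw_ok
  have hzK : M23Grp.z ∈ K := by
    obtain ⟨g, hg, hgc⟩ := hW 21 (by norm_num)
    rw [e2] at hgc
    rw [z_isC.ext hgc]
    exact hg
  have hgenK : ∀ k, ∃ g ∈ K, IsC g (gen k) := by
    intro k
    unfold gen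
    split
    · exact ha
    · exact hb
  have hcls : SetData (conjSet K M23Grp.z) A 3795 :=
    { valid := by
        intro j hj
        exact (good_iff _).mp (good_of_conjAll z_isC gen hgenK A P M23Grp.K 3795 A_zero conj_ok j hj)
      inj := inj_of_sortAll sort_ok }
  have hu : ∀ c ∈ [u0, u1], (∃ g ∈ K, IsC g c) → ∃ g ∈ centSub K M23Grp.z, IsC g c := by
    rintro c hc ⟨g, hg, hgc⟩
    refine ⟨g, ?_, hgc⟩
    rw [mem_centSub]
    refine ⟨hg, ?_⟩
    have h1 := List.all_eq_true.mp comm_lists c hc
    simp only [Nat.beq_eq] at h1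
    exact comm_of_isC z_isC hgc h1
  have hugenK : ∀ k, ∃ g ∈ centSub K M23Grp.z, IsC g (ugen k) := by
    intro k
    unfold ugen
    split
    · apply hu u0 (by simp)
      have := hW 36 (by norm_num)
      rwa [e3] at this
    · apply hu u1 (by simp)
      have := hW 52 (by norm_num)
      rwa [e4] at this
  have hcen : SetData (centSub K M23Grp.z : Set (Equiv.Perm GolayPt)) C 2688 :=
    { valid := valid_of_mulAll ugen hugenK C CP CK 2688 C_zero mul_ok
      inj := inj_of_sortAll csort_ok }
  have h1 := hcls.le_card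
  have h2 : 2688 ≤ Nat.card (centSub K M23Grp.z) := hcen.le_card
  have h3 := card_class_mul_card_centralizer (⟨M23Grp.z, hzK⟩ : ↥K)
  rw [← card_conjSet hzK, ← card_centSub hzK] at h3
  apply Subgroup.eq_of_le_of_card_ge hle
  rw [card_H, ← h3]
  exact Nat.mul_le_mul h1 h2

end Cfsg.Agent.H9.M23Gen
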