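import Cfsg.Agent.H9.M23GenA

/-!
# Tools for the `(p, q, r)`-generation of `M23`: enumerations read through functions, invariant
sets of points, conjugating `p`-elements into centralizers
-/

set_option autoImplicit false

namespace Cfsg.Agent.H9.M23Pqr

open Cfsg Cfsg.Agent.Lib.Helper6.Golay Cfsg.Agent.Lib.Helper6.Golay.M12Out Cfsg.Agent.H9.NatPerm
open Cfsg.Agent.H9.FusGrp
open scoped Pointwise

/-! ### `p`-elements and classes of size prime to `p` -/

section fixed

variable {G : Type*} [Group G] [Finite G]

/-- the conjugation action of a subgroup on a conjugacy class -/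
@[instance_reducible]
def classAction (P : Subgroup G) (g : G) : MulAction P {y : G // IsConj g y} where
  smul q y := ⟨(q : G) * y.1 * (q : G)⁻¹, by
    obtain ⟨c, hc⟩ := isConj_iff.mp y.2
    rw [isConj_iff]
    refine ⟨(q : G) * c, ?_⟩
    rw [← hc]
    group⟩
  one_smul y := by
    apply Subtype.ext
    show ((1 : P) : G) * y.1 * ((1 : P) : G)⁻¹ = y.1
    simp
  mul_smul q r y := by
    apply Subtype.ext
    show ((q * r : P) : G) * y.1 * ((q * r : P) : G)⁻¹
      = (q : G) * ((r : G) * y.1 * (r : G)⁻¹) * (q : G)⁻¹
    push_cast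
    group

/-- a `p`-element commutes with some member of every class of size prime to `p` -/
theorem exists_conj_commute_of_coprime_class (p : ℕ) [Fact p.Prime] (y e : G)
    (he : ∃ k : ℕ, orderOf e = p ^ k) (hc : ¬ p ∣ Nat.card {x : G // IsConj y x}) :
    ∃ x : G, IsConj y x ∧ e * x = x * e := by
  obtain ⟨k, hk⟩ := he
  have hP : IsPGroup p (Subgroup.zpowers e) :=
    IsPGroup.of_card (n := k) (by rw [Nat.card_zpowers, hk])
  let _inst : MulAction (Subgroup.zpowers e) {x : G // IsConj y x} := classAction _ y
  obtain ⟨x, hx⟩ := hP.nonempty_fixed_point_of_prime_not_dvd_card {x : G // IsConj y x} hc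
  refine ⟨x.1, x.2, ?_⟩
  have h1 := hx ⟨e, Subgroup.mem_zpowers e⟩
  have h2 : e * x.1 * e⁻¹ = x.1 := congrArg Subtype.val h1
  calc e * x.1 = (e * x.1 * e⁻¹) * e := by group
    _ = x.1 * e := by rw [h2]

end fixed

/-! ### enumerations read through a function -/

/-- the values `f 0, …, f (m - 1)` are distinct codes of elements of `X` -/
structure SetDataF (X : Set (Equiv.Perm GolayPt)) (f : ℕ → ℕ) (m : ℕ) : Prop where
  valid : ∀ j < m, ∃ y ∈ X, IsC y (f j)
  lt : ∀ j < m, f j < 32 ^ 24
  inj : ∀ j < m, ∀ j' < m, f j = f j' → j = j'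

namespace SetDataF

variable {X : Set (Equiv.Perm GolayPt)} {f : ℕ → ℕ} {m : ℕ}

/-- the element with the `j`-th code -/
noncomputable def elt (h : SetDataF X f m) (j : Fin m) : X :=
  ⟨Classical.choose (h.valid j j.2), (Classical.choose_spec (h.valid j j.2)).1⟩

theorem elt_isC (h : SetDataF X f m) (j : Fin m) : IsC (h.elt j).1 (f j) :=
  (Classical.choose_spec (h.valid j j.2)).2

theorem elt_injective (h : SetDataF X f m) : Function.Injective h.elt := by
  intro j j' hjj
  apply Fin.ext
  apply h.inj j j.2 j' j'.2
  have h1 := h.elt_isC j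
  have h2 := h.elt_isC j'
  rw [hjj] at h1
  exact h1.code_eq h2 (h.lt j j.2) (h.lt j' j'.2)

theorem le_card (h : SetDataF X f m) : m ≤ Nat.card X := by
  have := Nat.card_le_card_of_injective h.elt h.elt_injective
  simpa using this

theorem elt_bijective (h : SetDataF X f m) (hc : Nat.card X ≤ m) : Function.Bijective h.elt :=
  h.elt_injective.bijective_of_nat_card_le (by simpa using hc)

theorem exists_index (h : SetDataF X f m) (hc : Nat.card X ≤ m) (y : Equiv.Perm GolayPt)
    (hy : y ∈ X) : ∃ j < m, IsC y (f j) := by
  obtain ⟨j, hj⟩ := (h.elt_bijective hc).2 ⟨y, hy⟩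
  refine ⟨j, j.2, ?_⟩
  have := h.elt_isC j
  rw [hj] at this
  exact this

end SetDataF

/-- exactness of the enumerations of a class and of a centralizer from the order of the group -/
theorem card_exactF {H : Subgroup (Equiv.Perm GolayPt)} {z : Equiv.Perm GolayPt} (hz : z ∈ H)
    {f : ℕ → ℕ} {n C m : ℕ} (hA : SetDataF (conjSet H z) f n)
    (hC : SetData (centSub H z : Set (Equiv.Perm GolayPt)) C m) (hcard : Nat.card ↥H = n * m) :
    Nat.card (conjSet H z) = n ∧ Nat.card (centSub H z) = m := by
  have h1 := hA.le_card
  have h2 := hC.le_card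
  have h3 := card_class_mul_card_centralizer (⟨z, hz⟩ : ↥H)
  rw [← card_conjSet hz, ← card_centSub hz, hcard] at h3
  have h2' : m ≤ Nat.card (centSub H z) := h2
  have hn : 0 < n := by
    rcases Nat.eq_zero_or_pos n with h | h
    · subst h
      have : Nat.card ↥H ≠ 0 := Nat.card_pos.ne'
      rw [hcard] at this
      simp at this
    · exact h
  have hm : 0 < m := by
    rcases Nat.eq_zero_or_pos m with h | h
    · subst h
      have : Nat.card ↥H ≠ 0 := Nat.card_pos.ne'
      rw [hcard] at this
      simp at this
    · exact h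
  constructor
  · by_contra hne
    have hlt : n < Nat.card (conjSet H z) := lt_of_le_of_ne h1 (Ne.symm hne)
    have : n * m < Nat.card (conjSet H z) * Nat.card (centSub H z) :=
      Nat.mul_lt_mul_of_lt_of_le hlt h2' (lt_of_lt_of_le hm h2')
    omega
  · by_contra hne
    have hlt : m < Nat.card (centSub H z) := lt_of_le_of_ne h2' (Ne.symm hne)
    have : n * m < Nat.card (conjSet H z) * Nat.card (centSub H z) :=
      Nat.mul_lt_mul_of_le_of_lt h1 hlt (lt_of_lt_of_le hn h1)
    omega

/-! ### records -/

/-- the mask of a code -/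
def M120 : ℕ := 1329227995784915872903807060280344575

/-- the code of a record -/
def rcode (r : ℕ) : ℕ := Nat.land r M120

theorem rcode_lt (r : ℕ) : rcode r < 32 ^ 24 := by
  have h : M120 = 2 ^ 120 - 1 := by norm_num [M120]
  have h2 : (32 : ℕ) ^ 24 = 2 ^ 120 := by norm_num
  show r &&& M120 < _
  rw [h, h2, Nat.and_two_pow_sub_one_eq_mod]
  exact Nat.mod_lt _ (by positivity)

/-- an array in blocks of `256` entries of width `w` -/
def blkAcc (w : ℕ) (blk : ℕ → ℕ) (i : ℕ) : ℕ :=
  force (Nat.shiftRight i 8) fun b => arr w (blk b) (Nat.land i 255)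

/-- the check of the `i`-th record of a class: code, parent, generator -/
def conjChkR (gen : ℕ → ℕ) (rec : ℕ → ℕ) (i : ℕ) : Bool :=
  force (rec i) fun r => force (Nat.land r M120) fun x =>
    force (Nat.land (Nat.shiftRight r 120) 65535) fun p =>
    force (gen (Nat.land (Nat.shiftRight r 136) 255)) fun g =>
    force (Nat.land (rec p) M120) fun y =>
      match Nat.blt p i with
      | false => false
      | true => match wfc x with
        | false => false
        | true => Nat.beq (pmul g y) (pmul x g)

theorem good_of_conjAllR {H : Subgroup (Equiv.Perm GolayPt)} {z : Equiv.Perm GolayPt} {zc : ℕ}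
    (hz : IsC z zc) (gen : ℕ → ℕ) (hgen : ∀ k, ∃ g ∈ H, IsC g (gen k)) (rec : ℕ → ℕ) (n : ℕ)
    (h0 : rcode (rec 0) = zc) (hall : allB (fun i => conjChkR gen rec (i + 1)) (n - 1) = true) :
    ∀ i < n, Good H z (rcode (rec i)) := by
  intro i
  induction i using Nat.strong_induction_on with
  | _ i ih =>
    intro hi
    rcases Nat.eq_zero_or_pos i with h | h
    · subst h
      rw [h0]
      exact ⟨z, hz, 1, H.one_mem, by group⟩
    · have hc := allB_spec _ _ hall (i - 1) (by omega)
      rw [show i - 1 + 1 = i by omega] at hc
      unfold conjChkR at hc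
      simp only [force_eq] at hc
      cases hp : Nat.blt (Nat.land (Nat.shiftRight (rec i) 120) 65535) i with
      | false => rw [hp] at hc; exact absurd hc (by simp)
      | true =>
        rw [hp] at hc
        cases hw : wfc (Nat.land (rec i) M120) with
        | false => rw [hw] at hc; exact absurd hc (by simp)
        | true =>
          rw [hw] at hc
          simp only [Nat.beq_eq] at hc
          rw [Nat.blt_eq] at hp
          obtain ⟨y, hy, k, hk, hyk⟩ := ih _ hp (by omega)
          obtain ⟨g, hg, hgc⟩ := hgen (Nat.land (Nat.shiftRight (rec i) 136) 255)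
          refine ⟨g * y * g⁻¹, isC_conj hgc hy hw hc, g * k, H.mul_mem hg hk, ?_⟩
          rw [hyk]
          group

/-- the check of the `j`-th record of the sorted copy: code, index -/
def sortChkR (rec srec : ℕ → ℕ) (n j : ℕ) : Bool :=
  force (srec j) fun r => force (Nat.land r M120) fun s =>
    force (Nat.land (Nat.shiftRight r 120) 65535) fun i =>
      match Nat.blt i n with
      | false => false
      | true => match Nat.beq s (Nat.land (rec i) M120) with
        | false => false
        | true => match Nat.beq (j + 1) n with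
          | true => true
          | false => Nat.blt s (Nat.land (srec (j + 1)) M120)

theorem inj_of_sortAllR {rec srec : ℕ → ℕ} {n : ℕ}
    (h : allB (fun j => sortChkR rec srec n j) n = true) :
    ∀ i < n, ∀ i' < n, rcode (rec i) = rcode (rec i') → i = i' := by
  have hs := allB_spec _ _ h
  have key : ∀ j < n, Nat.land (Nat.shiftRight (srec j) 120) 65535 < n ∧
      rcode (srec j) = rcode (rec (Nat.land (Nat.shiftRight (srec j) 120) 65535)) ∧
      (j + 1 < n → rcode (srec j) < rcode (srec (j + 1))) := by
    intro j hj
    have hc := hs j hj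
    unfold sortChkR at hc
    simp only [force_eq] at hc
    cases h1 : Nat.blt (Nat.land (Nat.shiftRight (srec j) 120) 65535) n with
    | false => rw [h1] at hc; exact absurd hc (by simp)
    | true =>
      rw [h1] at hc
      cases h2 : Nat.beq (Nat.land (srec j) M120)
          (Nat.land (rec (Nat.land (Nat.shiftRight (srec j) 120) 65535)) M120) with
      | false => rw [h2] at hc; exact absurd hc (by simp)
      | true =>
        rw [h2] at hc
        rw [Nat.blt_eq] at h1
        rw [Nat.beq_eq] at h2
        refine ⟨h1, h2, ?_⟩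
        intro h4
        cases h3 : Nat.beq (j + 1) n with
        | true =>
          rw [Nat.beq_eq] at h3
          omega
        | false =>
          rw [h3] at hc
          simp only [Nat.blt_eq] at hc
          exact hc
  have hmono : ∀ d j, j + d < n → 0 < d → rcode (srec j) < rcode (srec (j + d)) := by
    intro d
    induction d with
    | zero => intro j _ h; omega
    | succ d ih =>
      intro j hj _
      rcases Nat.eq_zero_or_pos d with hd | hd
      · subst hd
        exact (key j (by omega)).2.2 (by omega)
      · have h1 := ih j (by omega) hd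
        have h2 := (key (j + d) (by omega)).2.2 (by omega)
        exact lt_trans h1 h2
  have hSinj : ∀ j < n, ∀ j' < n, rcode (srec j) = rcode (srec j') → j = j' := by
    intro j hj j' hj' he
    rcases Nat.lt_trichotomy j j' with h1 | h1 | h1
    · have := hmono (j' - j) j (by omega) (by omega)
      rw [show j + (j' - j) = j' by omega] at this
      omega
    · exact h1
    · have := hmono (j - j') j' (by omega) (by omega)
      rw [show j' + (j - j') = j by omega] at this
      omega
  let f : Fin n → Fin n := fun j => ⟨Nat.land (Nat.shiftRight (srec j) 120) 65535, (key j j.2).1⟩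
  have hf : Function.Injective f := by
    intro j j' hjj
    have h1 : Nat.land (Nat.shiftRight (srec j) 120) 65535
        = Nat.land (Nat.shiftRight (srec j') 120) 65535 := congrArg Fin.val hjj
    apply Fin.ext
    apply hSinj j j.2 j' j'.2
    rw [(key j j.2).2.1, (key j' j'.2).2.1, h1]
  have hfs : Function.Surjective f := Finite.injective_iff_surjective.mp hf
  intro i hi i' hi' he
  obtain ⟨j, hj⟩ := hfs ⟨i, hi⟩
  obtain ⟨j', hj'⟩ := hfs ⟨i', hi'⟩
  have h1 : Nat.land (Nat.shiftRight (srec j) 120) 65535 = i := congrArg Fin.val hj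
  have h2 : Nat.land (Nat.shiftRight (srec j') 120) 65535 = i' := congrArg Fin.val hj'
  have h3 : rcode (srec j) = rcode (srec j') := by
    rw [(key j j.2).2.1, (key j' j'.2).2.1, h1, h2, he]
  have h4 := hSinj j j.2 j' j'.2 h3
  rw [← h1, ← h2, h4]

/-! ### invariant sets of points -/

/-- a bit of a mask -/
def tb (m i : ℕ) : ℕ := Nat.land (Nat.shiftRight m i) 1

theorem tb_eq (m i : ℕ) : tb m i = m / 2 ^ i % 2 := by
  show (m >>> i) &&& 1 = _
  rw [Nat.and_one_is_mod, Nat.shiftRight_eq_div_pow]

theorem testBit_eq_tb (m i : ℕ) : m.testBit i = decide (tb m i = 1) := by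
  rw [tb_eq, Nat.testBit_eq_decide_div_mod_eq]

/-- the mask is invariant under the coded permutation -/
def minv (c m : ℕ) : Bool := allB (fun i => Nat.beq (tb m i) (tb m (aget c i))) 24

theorem smul_fs_of_minv {g : Equiv.Perm GolayPt} {c m : ℕ} (hc : IsC g c) (hf : minv c m = true) :
    g • fs m = fs m := by
  apply smul_eq_of_forall
  intro p
  have hi : idx p < 24 := idx_lt p
  have h1 := allB_spec _ _ hf (idx p) hi
  rw [Nat.beq_eq] at h1
  have h2 : aget c (idx p) < 24 := by
    have := getD_lt hc.1 hi
    rwa [getD_dec24 c hi] at this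
  rw [mem_fs, mem_fs]
  have h3 : g p = pt (aget c (idx p)) := by
    conv_lhs => rw [← pt_idx p]
    exact hc.apply hi
  rw [h3, idx_pt _ h2, testBit_eq_tb, testBit_eq_tb, h1]

/-- the code of the translation `i ↦ i + 1` -/
def t23c : ℕ := 956302485175575353788796878166559809

theorem t23_step : allB (fun i => Nat.beq (aget t23c i) (Nat.succ i)) 22 = true := by decide +kernel

/-- a set of residues invariant under the translation is empty or everything -/
theorem mask_of_translation {t : Equiv.Perm GolayPt} (ht : IsC t t23c) {m : ℕ}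
    (hm : m < 2 ^ 23 - 1) (h : t • fs m = fs m) : m = 0 := by
  have hmem : ∀ p, p ∈ fs m ↔ t p ∈ fs m := by
    intro p
    conv_rhs => rw [← h]
    rw [← Equiv.Perm.smul_def, Finset.smul_mem_smul_finset_iff]
  have hstep : ∀ i < 22, m.testBit i = m.testBit (i + 1) := by
    intro i hi
    have h1 := hmem (pt i)
    rw [ht.apply (by omega), mem_fs, mem_fs, idx_pt _ (by omega)] at h1
    have h2 := allB_spec _ _ t23_step i hi
    rw [Nat.beq_eq] at h2
    rw [h2, idx_pt _ (by omega)] at h1
    exact Bool.eq_iff_iff.mpr h1
  have hall : ∀ k < 23, m.testBit k = m.testBit 0 := by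
    intro k
    induction k with
    | zero => intro _; rfl
    | succ k ih =>
      intro hk
      rw [← hstep k (by omega)]
      exact ih (by omega)
  have hhigh : ∀ k, 23 ≤ k → m.testBit k = false := by
    intro k hk
    apply Nat.testBit_lt_two_pow
    calc m < 2 ^ 23 := by omega
      _ ≤ 2 ^ k := Nat.pow_le_pow_right (by norm_num) hk
  cases h0 : m.testBit 0 with
  | false =>
    apply Nat.eq_of_testBit_eq
    intro k
    rw [Nat.zero_testBit]
    rcases Nat.lt_or_ge k 23 with hk | hk
    · rw [hall k hk, h0]
    · exact hhigh k hk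
  | true =>
    exfalso
    have : m = 2 ^ 23 - 1 := by
      apply Nat.eq_of_testBit_eq
      intro k
      rw [Nat.testBit_two_pow_sub_one]
      rcases Nat.lt_or_ge k 23 with hk | hk
      · rw [hall k hk, h0]
        simp [hk]
      · rw [hhigh k hk]
        simp
        omega
    omega

end Cfsg.Agent.H9.M23Pqr
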