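import Cfsg.Agent.H9.M23PqrData1
import Cfsg.Agent.H9.M23PqrData2

/-!
# The class of an element of order three of `M23`: the checks of the records
-/

set_option autoImplicit false
set_option maxRecDepth 1000000

namespace Cfsg.Agent.H9.M23Pqr

open Cfsg Cfsg.Agent.Lib.Helper6.Golay Cfsg.Agent.Lib.Helper6.Golay.M12Out Cfsg.Agent.H9.NatPerm
open Cfsg.Agent.H9.FusGrp Cfsg.Agent.H9.M23Grp Cfsg.Agent.H9.M23Gen

/-- the element of order three -/
def y3c : ℕ := 957098533451042813242270497959428689

/-- the records of the class of the element of order three -/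
def rec3 (i : ℕ) : ℕ := blkAcc 168 blk3 i

/-- the records of the sorted copy -/
def srec3 (i : ℕ) : ℕ := blkAcc 136 sblk3 i

theorem rec3_zero : rcode (rec3 0) = y3c := by decide +kernel

theorem conj3_ok : allB (fun i => conjChkR gen rec3 (i + 1)) 56671 = true := by decide +kernel

theorem sort3_ok : allB (fun j => sortChkR rec3 srec3 56672 j) 56672 = true := by decide +kernel

end Cfsg.Agent.H9.M23Pqr
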