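import Cfsg.Agent.H9.M23PqrB2
import Cfsg.Agent.H9.M23GenB

/-!
# The `(p, q, r)`-generations of `M23`
-/

set_option autoImplicit false

namespace Cfsg.Agent.H9.M23Pqr

open Cfsg Cfsg.Agent.Lib.Helper6.Golay Cfsg.Agent.H9.NatPerm
open Cfsg.Agent.H9.FusGrp Cfsg.Agent.H9.M23Grp Cfsg.Agent.H9.M23Gen
open scoped Pointwise

/-- the group -/
abbrev G23 := ↥Spor.M23

theorem ex_all : ∀ c ∈ [y3c, y5c, v0, v1, k52, k53, k54, t23c], ∃ g ∈ Spor.M23, IsC g c :=
  exists_mem_of_lists (fun hg hc hf => mem_M23_of_isC hg hc hf) chk_lists dec_lists sub_lists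

/-- the element of order three -/
noncomputable def y3 : Equiv.Perm GolayPt := Classical.choose (ex_all y3c (by simp))

theorem y3_mem : y3 ∈ Spor.M23 := (Classical.choose_spec (ex_all y3c (by simp))).1

theorem y3_isC : IsC y3 y3c := (Classical.choose_spec (ex_all y3c (by simp))).2

/-- the element of order five -/
noncomputable def y5 : Equiv.Perm GolayPt := Classical.choose (ex_all y5c (by simp))

theorem y5_mem : y5 ∈ Spor.M23 := (Classical.choose_spec (ex_all y5c (by simp))).1

theorem y5_isC : IsC y5 y5c := (Classical.choose_spec (ex_all y5c (by simp))).2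

/-- the translation -/
noncomputable def t23 : Equiv.Perm GolayPt := Classical.choose (ex_all t23c (by simp))

theorem t23_mem : t23 ∈ Spor.M23 := (Classical.choose_spec (ex_all t23c (by simp))).1

theorem t23_isC : IsC t23 t23c := (Classical.choose_spec (ex_all t23c (by simp))).2

theorem hvgen : ∀ k, ∃ g ∈ centSub Spor.M23 y3, IsC g (vgen k) := by
  have key : ∀ c ∈ [v0, v1], ∃ g ∈ centSub Spor.M23 y3, IsC g c := by
    intro c hc
    obtain ⟨g, hg, hgc⟩ := ex_all c (by
      simp only [List.mem_cons, List.not_mem_nil, or_false] at hc ⊢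
      tauto)
    refine ⟨g, ?_, hgc⟩
    rw [mem_centSub]
    refine ⟨hg, ?_⟩
    have h1 := List.all_eq_true.mp comm3_lists c hc
    simp only [Nat.beq_eq] at h1
    exact comm_of_isC y3_isC hgc h1
  intro k
  unfold vgen
  split
  · exact key v0 (by simp)
  · exact key v1 (by simp)

/-- the class of the element of order three, enumerated -/
theorem classData3 : SetDataF (conjSet Spor.M23 y3) (fun i => rcode (rec3 i)) 56672 where
  valid := fun j hj =>
    (good_iff _).mp (good_of_conjAllR y3_isC gen hgen rec3 56672 rec3_zero conj3_ok j hj)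
  lt := fun j _ => rcode_lt _
  inj := inj_of_sortAllR sort3_ok

/-- the centralizer of the element of order three, enumerated -/
theorem centData3 : SetData (centSub Spor.M23 y3 : Set (Equiv.Perm GolayPt)) C3 180 where
  valid := valid_of_mulAll vgen hvgen C3 C3P C3K 180 C3_zero mul3_ok
  inj := inj_of_sortAll csort3_ok

theorem card3 : Nat.card (conjSet Spor.M23 y3) = 56672 ∧ Nat.card (centSub Spor.M23 y3) = 180 :=
  card_exactF y3_mem classData3 centData3 (by rw [card_SporM23])

theorem card2 : Nat.card (conjSet Spor.M23 M23Grp.z) = 3795 ∧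
    Nat.card (centSub Spor.M23 M23Grp.z) = 2688 :=
  card_exact z_mem classData centData card_H

instance : Finite G23 := Nat.finite_of_card_ne_zero (by rw [card_SporM23]; norm_num)

/-! ### conjugating elements of prime order into a class -/

theorem orderOf_conj_perm (g e : Equiv.Perm GolayPt) : orderOf (g * e * g⁻¹) = orderOf e := by
  have : g * e * g⁻¹ = MulAut.conj g e := rfl
  rw [this, MulEquiv.orderOf_eq]

/-- an element of prime order `p` lies in a class of size prime to `p` as soon as the elements of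
order `p` of the centralizer do -/
theorem mem_conjSet_of_prime_order {H : Subgroup (Equiv.Perm GolayPt)} [Finite ↥H]
    {y : Equiv.Perm GolayPt} (hy : y ∈ H) (p : ℕ) [Fact p.Prime]
    (hcls : ¬ p ∣ Nat.card (conjSet H y))
    (hcent : ∀ c ∈ centSub H y, orderOf c = p → c ∈ conjSet H y)
    (e : Equiv.Perm GolayPt) (he : e ∈ H) (ho : orderOf e = p) : e ∈ conjSet H y := by
  rw [card_conjSet hy] at hcls
  obtain ⟨x, hx, hex⟩ := exists_conj_commute_of_coprime_class p (⟨y, hy⟩ : ↥H) ⟨e, he⟩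
    ⟨1, by rw [pow_one, ← ho]; exact Subgroup.orderOf_mk e he⟩ hcls
  obtain ⟨g, hg⟩ := isConj_iff.mp hx
  have hg' : (g : Equiv.Perm GolayPt) * y * (g : Equiv.Perm GolayPt)⁻¹ = x := by
    have := congrArg Subtype.val hg
    exact this
  have hex' : e * (x : Equiv.Perm GolayPt) = x * e := congrArg Subtype.val hex
  -- the conjugate of `e` centralizing `y`
  have hmem : (g : Equiv.Perm GolayPt)⁻¹ * e * g ∈ centSub H y := by
    rw [mem_centSub]
    refine ⟨H.mul_mem (H.mul_mem (H.inv_mem g.2) he) g.2, ?_⟩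
    have e1 : (g : Equiv.Perm GolayPt)⁻¹ * e * g * y
        = (g : Equiv.Perm GolayPt)⁻¹ * (e * (g * y * (g : Equiv.Perm GolayPt)⁻¹)) * g := by group
    have e2 : y * ((g : Equiv.Perm GolayPt)⁻¹ * e * g)
        = (g : Equiv.Perm GolayPt)⁻¹ * ((g * y * (g : Equiv.Perm GolayPt)⁻¹) * e) * g := by group
    rw [e1, e2, hg', hex']
  have hord : orderOf ((g : Equiv.Perm GolayPt)⁻¹ * e * g) = p := by
    have := orderOf_conj_perm (g : Equiv.Perm GolayPt)⁻¹ e
    rw [inv_inv] at this
    rw [this, ho]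
  obtain ⟨h, hh, hhe⟩ := hcent _ hmem hord
  refine ⟨g * h, H.mul_mem g.2 hh, ?_⟩
  have : e = g * ((g : Equiv.Perm GolayPt)⁻¹ * e * g) * (g : Equiv.Perm GolayPt)⁻¹ := by group
  rw [this, hhe]
  group

/-- **the involutions of `M23` are conjugate** -/
theorem invol_mem (e : Equiv.Perm GolayPt) (he : e ∈ Spor.M23) (ho : orderOf e = 2) :
    e ∈ conjSet Spor.M23 M23Grp.z := by
  have : Fact (Nat.Prime 2) := ⟨by norm_num⟩
  apply mem_conjSet_of_prime_order z_mem 2 (by rw [card2.1]; norm_num) _ e he ho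
  intro c hc hoc
  obtain ⟨j, hj, hjc⟩ := centData.exists_index (le_of_eq card2.2) c hc
  have h1 := allB_spec _ _ inv2_ok j hj
  simp only [force_eq, Bool.or_eq_true, Bool.not_eq_true', Bool.and_eq_true, Nat.beq_eq,
    Nat.blt_eq] at h1
  have hc2 : c * c = 1 := by
    rw [← pow_two, ← hoc]
    exact pow_orderOf_eq_one c
  have hc1 : c ≠ 1 := by
    intro h
    rw [h, orderOf_one] at hoc
    omega
  have hsqc : pmul (arr 120 C j) (arr 120 C j) = idc := by
    have h2 := hjc.mul hjc
    rw [hc2] at h2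
    exact h2.code_eq isC_one (pmul_lt _ _) idc_lt
  have hnec : arr 120 C j ≠ idc := by
    intro h
    rw [h] at hjc
    exact hc1 (hjc.ext isC_one)
  rcases h1 with (h1 | h1) | h1
  · rw [hsqc] at h1
    have : Nat.beq idc idc = true := by rw [Nat.beq_eq]
    rw [this] at h1
    exact absurd h1 (by simp)
  · exact absurd h1 hnec
  · obtain ⟨hix, heq⟩ := h1
    obtain ⟨y', hy', hy'c⟩ := classData.valid _ hix
    rw [← heq] at hy'c
    rw [hjc.ext hy'c]
    exact hy'

theorem isThree_of_order {c : Equiv.Perm GolayPt} {cc : ℕ} (hc : IsC c cc) (hlt : cc < 32 ^ 24)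
    (ho : orderOf c = 3) : isThree cc = true := by
  unfold isThree
  rw [Bool.and_eq_true, Nat.beq_eq, Bool.not_eq_true', ]
  constructor
  · have h2 := (hc.mul hc).mul hc
    have : c * c * c = 1 := by
      rw [← pow_orderOf_eq_one c, ho, pow_succ, pow_succ, pow_one]
    rw [this] at h2
    exact h2.code_eq isC_one (pmul_lt _ _) idc_lt
  · cases h : Nat.beq cc idc with
    | false => rfl
    | true =>
      rw [Nat.beq_eq] at h
      rw [h] at hc
      have : c = 1 := hc.ext isC_one
      rw [this, orderOf_one] at ho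
      omega

/-- **the elements of order three of `M23` are conjugate** -/
theorem three_mem (e : Equiv.Perm GolayPt) (he : e ∈ Spor.M23) (ho : orderOf e = 3) :
    e ∈ conjSet Spor.M23 y3 := by
  have : Fact (Nat.Prime 3) := ⟨by norm_num⟩
  apply mem_conjSet_of_prime_order y3_mem 3 (by rw [card3.1]; norm_num) _ e he ho
  intro c hc hoc
  obtain ⟨j, hj, hjc⟩ := centData3.exists_index (le_of_eq card3.2) c hc
  have h1 := allB_spec _ _ inv3_ok j hj
  simp only [force_eq, Bool.or_eq_true, Bool.not_eq_true', Bool.and_eq_true, Nat.beq_eq,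
    Nat.blt_eq] at h1
  rcases h1 with h1 | h1
  · rw [isThree_of_order hjc (arr120_lt _ _) hoc] at h1
    exact absurd h1 (by simp)
  · obtain ⟨hix, heq⟩ := h1
    obtain ⟨y', hy', hy'c⟩ := classData3.valid _ hix
    rw [← heq] at hy'c
    rw [hjc.ext hy'c]
    exact hy'

/-! ### the elements of order five -/

/-- the element of order five in the group -/
noncomputable def y5H : G23 := ⟨y5, y5_mem⟩

theorem orderOf_y5H : orderOf y5H = 5 := by
  rw [y5H, Subgroup.orderOf_mk]
  exact orderOf_of_ppow (by norm_num) y5_isC (by decide) y5_pow.1 y5_pow.2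

theorem conj5 : ∀ k ∈ [2, 3, 4], ∃ κ : G23, κ * y5H * κ⁻¹ = y5H ^ k := by
  obtain ⟨e2, e3, e4⟩ := conj5_ok
  have key : ∀ (kc k : ℕ), (∃ g ∈ Spor.M23, IsC g kc) → pmul kc y5c = pmul (ppow y5c k) kc →
      ∃ κ : G23, κ * y5H * κ⁻¹ = y5H ^ k := by
    rintro kc k ⟨g, hg, hgc⟩ h
    refine ⟨⟨g, hg⟩, ?_⟩
    apply Subtype.ext
    show g * y5 * g⁻¹ = ((y5H ^ k : G23) : Equiv.Perm GolayPt)
    rw [Subgroup.coe_pow]
    exact isC_of_conj_code hgc y5_isC (isC_ppow y5_isC k) h
  intro k hk
  simp only [List.mem_cons, List.not_mem_nil, or_false] at hk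
  rcases hk with rfl | rfl | rfl
  · exact key k52 2 (ex_all k52 (by simp)) e2
  · exact key k53 3 (ex_all k53 (by simp)) e3
  · exact key k54 4 (ex_all k54 (by simp)) e4

/-- **the elements of order five of `M23` are conjugate** -/
theorem five_conj (e : G23) (ho : orderOf e = 5) : ∃ g : G23, g * e * g⁻¹ = y5H := by
  have : Fact (Nat.Prime 5) := ⟨by norm_num⟩
  have hfac : (Nat.card G23).factorization 5 = 1 := by
    have h : Nat.card G23 = 5 ^ 1 * 2040192 := by
      rw [card_SporM23]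
      norm_num
    rw [h, fac_pow_mul (by norm_num) (by norm_num) (by norm_num)]
  obtain ⟨g, hg⟩ := Cfsg.Agent.H9.SylowConj.exists_conj_mem_of_card_sylow
    (Subgroup.zpowers y5H) (by rw [Nat.card_zpowers, orderOf_y5H, hfac, pow_one]) e
    ⟨1, by rw [ho, pow_one]⟩
  rw [mem_zpowers_iff_mem_range_orderOf, orderOf_y5H] at hg
  simp only [Finset.mem_image, Finset.mem_range] at hg
  obtain ⟨k, hk, hke⟩ := hg
  have hne : g * e * g⁻¹ ≠ 1 := by
    intro h
    have : e = 1 := by
      have : e = g⁻¹ * (g * e * g⁻¹) * g := by group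
      rw [this, h]
      group
    rw [this, orderOf_one] at ho
    omega
  interval_cases k
  · rw [pow_zero] at hke
    exact absurd hke.symm hne
  · exact ⟨g, by rw [← hke, pow_one]⟩
  · obtain ⟨κ, hκ⟩ := conj5 2 (by simp)
    refine ⟨κ⁻¹ * g, ?_⟩
    have : κ⁻¹ * g * e * (κ⁻¹ * g)⁻¹ = κ⁻¹ * (g * e * g⁻¹) * κ := by group
    rw [this, ← hke, ← hκ]
    group
  · obtain ⟨κ, hκ⟩ := conj5 3 (by simp)
    refine ⟨κ⁻¹ * g, ?_⟩
    have : κ⁻¹ * g * e * (κ⁻¹ * g)⁻¹ = κ⁻¹ * (g * e * g⁻¹) * κ := by group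
    rw [this, ← hke, ← hκ]
    group
  · obtain ⟨κ, hκ⟩ := conj5 4 (by simp)
    refine ⟨κ⁻¹ * g, ?_⟩
    have : κ⁻¹ * g * e * (κ⁻¹ * g)⁻¹ = κ⁻¹ * (g * e * g⁻¹) * κ := by group
    rw [this, ← hke, ← hκ]
    group

/-! ### invariant sets of points -/

theorem closure_ne_top_of_mask {x y : G23} {xc yc m : ℕ} (hx : IsC (x : Equiv.Perm GolayPt) xc)
    (hy : IsC (y : Equiv.Perm GolayPt) yc) (hm : mrange m = true) (hxm : minv xc m = true)
    (hym : minv yc m = true) : Subgroup.closure ({x, y} : Set G23) ≠ ⊤ := by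
  intro htop
  unfold mrange at hm
  rw [Bool.and_eq_true, Nat.blt_eq, Nat.blt_eq] at hm
  have hinv : ∀ g ∈ Subgroup.closure ({x, y} : Set G23),
      (g : Equiv.Perm GolayPt) • fs m = fs m := by
    intro g hg
    induction hg using Subgroup.closure_induction with
    | mem g hg =>
      rcases hg with rfl | rfl
      · exact smul_fs_of_minv hx hxm
      · exact smul_fs_of_minv hy hym
    | one => exact one_smul _ _
    | mul a b _ _ ha hb =>
      rw [Subgroup.coe_mul, mul_smul, hb, ha]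
    | inv a _ ha =>
      rw [Subgroup.coe_inv, inv_smul_eq_iff, ha]
  have h1 := hinv ⟨t23, t23_mem⟩ (by rw [htop]; trivial)
  have h2 := mask_of_translation t23_isC (by norm_num; exact hm.2) h1
  omega

theorem closure_conj_top {G : Type*} [Group G] (g x y : G)
    (h : Subgroup.closure ({x, y} : Set G) = ⊤) :
    Subgroup.closure ({g * x * g⁻¹, g * y * g⁻¹} : Set G) = ⊤ := by
  have h1 := MonoidHom.map_closure (MulAut.conj g).toMonoidHom ({x, y} : Set G)
  rw [h, Set.image_pair] at h1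
  rw [← Subgroup.map_top_of_surjective (MulAut.conj g).toMonoidHom (MulAut.conj g).surjective]
  exact h1.symm

theorem orderOf_conj' {G : Type*} [Group G] (g e : G) : orderOf (g * e * g⁻¹) = orderOf e := by
  have : g * e * g⁻¹ = MulAut.conj g e := rfl
  rw [this, MulEquiv.orderOf_eq]

/-- an involution of `M23` has its code in the list -/
theorem invol_index (x : G23) (hx : orderOf x = 2) :
    ∃ i < 3795, IsC (x : Equiv.Perm GolayPt) (arr 120 A i) :=
  classData.exists_index (le_of_eq card2.1) _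
    (invol_mem x.1 x.2 (by rw [← hx]; exact (Subgroup.orderOf_coe x)))

theorem three_index (x : G23) (hx : orderOf x = 3) :
    ∃ i < 56672, IsC (x : Equiv.Perm GolayPt) (rcode (rec3 i)) :=
  classData3.exists_index (le_of_eq card3.1) _
    (three_mem x.1 x.2 (by rw [← hx]; exact (Subgroup.orderOf_coe x)))

/-- the element of order three in the group -/
noncomputable def y3H : G23 := ⟨y3, y3_mem⟩

theorem three_conj (e : G23) (ho : orderOf e = 3) : ∃ g : G23, g * e * g⁻¹ = y3H := by
  obtain ⟨h, hh, he⟩ := three_mem e.1 e.2 (by rw [← ho]; exact (Subgroup.orderOf_coe e))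
  refine ⟨(⟨h, hh⟩ : G23)⁻¹, ?_⟩
  apply Subtype.ext
  show h⁻¹ * (e : Equiv.Perm GolayPt) * h⁻¹⁻¹ = y3
  rw [he]
  group

/-! ### the three families without generating triples -/

theorem no_gen_2_3 (x y : G23) (hx : orderOf x = 2) (hy : orderOf y = 3) :
    Subgroup.closure ({x, y} : Set G23) ≠ ⊤ := by
  intro htop
  obtain ⟨g, hg⟩ := three_conj y hy
  have h1 := closure_conj_top g x y htop
  rw [hg] at h1
  obtain ⟨i, hi, hic⟩ := invol_index (g * x * g⁻¹) (by rw [orderOf_conj', hx])
  have h2 := allB_spec _ _ mask23_ok i hi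
  simp only [force_eq, Bool.and_eq_true] at h2
  exact closure_ne_top_of_mask hic y3_isC h2.1.1 h2.1.2 h2.2 h1

theorem mul3_eq_pow {G : Type*} [Monoid G] (w : G) : w * w * w = w ^ 3 := by
  rw [pow_succ, pow_succ, pow_one]

theorem mul5_eq_pow {G : Type*} [Monoid G] (w : G) : w * w * w * (w * w) = w ^ 5 := by
  rw [show (5 : ℕ) = 3 + 2 from rfl, pow_add, ← mul3_eq_pow, pow_two]

theorem mul7_eq_pow {G : Type*} [Monoid G] (w : G) : w * w * w * (w * w) * (w * w) = w ^ 7 := by
  rw [show (7 : ℕ) = 5 + 2 from rfl, pow_add, ← mul5_eq_pow, pow_two]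

theorem pow_ne_of_no57 {w : Equiv.Perm GolayPt} {wc : ℕ} (hw : IsC w wc) (h : no57 wc = true) :
    w ^ 5 ≠ 1 ∧ w ^ 7 ≠ 1 := by
  unfold no57 at h
  simp only [force_eq, Bool.and_eq_true, Bool.not_eq_true', ] at h
  have h2 := hw.mul hw
  have h3 := h2.mul hw
  have h5 := h3.mul h2
  have h7 := h5.mul h2
  constructor
  · intro e
    have : w * w * w * (w * w) = 1 := by rw [mul5_eq_pow, e]
    rw [this] at h5
    have := h5.code_eq isC_one (pmul_lt _ _) idc_lt
    rw [this] at h
    have h' : Nat.beq idc idc = true := by rw [Nat.beq_eq]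
    rw [h'] at h
    exact absurd h.1 (by simp)
  · intro e
    have : w * w * w * (w * w) * (w * w) = 1 := by rw [mul7_eq_pow, e]
    rw [this] at h7
    have := h7.code_eq isC_one (pmul_lt _ _) idc_lt
    rw [this] at h
    have h' : Nat.beq idc idc = true := by rw [Nat.beq_eq]
    rw [h'] at h
    exact absurd h.2 (by simp)

theorem pow_ne_of_no357 {w : Equiv.Perm GolayPt} {wc : ℕ} (hw : IsC w wc) (h : no357 wc = true) :
    w ^ 3 ≠ 1 ∧ w ^ 5 ≠ 1 ∧ w ^ 7 ≠ 1 := by
  unfold no357 at h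
  simp only [force_eq, Bool.and_eq_true, Bool.not_eq_true', ] at h
  have h2 := hw.mul hw
  have h3 := h2.mul hw
  have h5 := h3.mul h2
  have h7 := h5.mul h2
  have h' : Nat.beq idc idc = true := by rw [Nat.beq_eq]
  refine ⟨?_, ?_, ?_⟩
  · intro e
    have : w * w * w = 1 := by rw [mul3_eq_pow, e]
    rw [this] at h3
    have := h3.code_eq isC_one (pmul_lt _ _) idc_lt
    rw [this, h'] at h
    exact absurd h.1.1 (by simp)
  · intro e
    have : w * w * w * (w * w) = 1 := by rw [mul5_eq_pow, e]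
    rw [this] at h5
    have := h5.code_eq isC_one (pmul_lt _ _) idc_lt
    rw [this, h'] at h
    exact absurd h.1.2 (by simp)
  · intro e
    have : w * w * w * (w * w) * (w * w) = 1 := by rw [mul7_eq_pow, e]
    rw [this] at h7
    have := h7.code_eq isC_one (pmul_lt _ _) idc_lt
    rw [this, h'] at h
    exact absurd h.2 (by simp)

theorem conj_mul_pow {G : Type*} [Group G] (g x y : G) (n : ℕ) (h : (x * y) ^ n = 1) :
    (g * x * g⁻¹ * (g * y * g⁻¹)) ^ n = 1 := by
  have : g * x * g⁻¹ * (g * y * g⁻¹) = g * (x * y) * g⁻¹ := by group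
  rw [this, conj_pow, h]
  group

theorem no_gen_2_5 (x y : G23) (hx : orderOf x = 2) (hy : orderOf y = 5)
    (hr : (x * y) ^ 5 = 1 ∨ (x * y) ^ 7 = 1) : Subgroup.closure ({x, y} : Set G23) ≠ ⊤ := by
  intro htop
  obtain ⟨g, hg⟩ := five_conj y hy
  have h1 := closure_conj_top g x y htop
  obtain ⟨i, hi, hic⟩ := invol_index (g * x * g⁻¹) (by rw [orderOf_conj', hx])
  have h2 := allB_spec _ _ mask25_ok i hi
  simp only [force_eq] at h2
  have hr' : (g * x * g⁻¹ * y5H) ^ 5 = 1 ∨ (g * x * g⁻¹ * y5H) ^ 7 = 1 := by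
    rw [← hg]
    rcases hr with h | h
    · exact Or.inl (conj_mul_pow g x y 5 h)
    · exact Or.inr (conj_mul_pow g x y 7 h)
  rw [hg] at h1
  cases hm : Nat.beq (arr 24 MK5 i) 0 with
  | true =>
    rw [hm] at h2
    have hw : IsC ((g * x * g⁻¹ * y5H : G23) : Equiv.Perm GolayPt) (pmul (arr 120 A i) y5c) :=
      hic.mul y5_isC
    obtain ⟨n5, n7⟩ := pow_ne_of_no57 hw h2
    rcases hr' with h | h
    · apply n5
      rw [← Subgroup.coe_pow, h]
      rfl
    · apply n7
      rw [← Subgroup.coe_pow, h]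
      rfl
  | false =>
    rw [hm] at h2
    simp only [Bool.and_eq_true] at h2
    exact closure_ne_top_of_mask hic y5_isC h2.1.1 h2.1.2 h2.2 h1

theorem no_gen_3_3 (x y : G23) (hx : orderOf x = 3) (hy : orderOf y = 3)
    (hr : (x * y) ^ 3 = 1 ∨ (x * y) ^ 5 = 1 ∨ (x * y) ^ 7 = 1) :
    Subgroup.closure ({x, y} : Set G23) ≠ ⊤ := by
  intro htop
  obtain ⟨g, hg⟩ := three_conj x hx
  have h1 := closure_conj_top g x y htop
  obtain ⟨i, hi, hic⟩ := three_index (g * y * g⁻¹) (by rw [orderOf_conj', hy])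
  have h2 := allB_spec _ _ mask33_ok i hi
  unfold chk33 at h2
  simp only [force_eq] at h2
  have hr' : (y3H * (g * y * g⁻¹)) ^ 3 = 1 ∨ (y3H * (g * y * g⁻¹)) ^ 5 = 1 ∨
      (y3H * (g * y * g⁻¹)) ^ 7 = 1 := by
    rw [← hg]
    rcases hr with h | h | h
    · exact Or.inl (conj_mul_pow g x y 3 h)
    · exact Or.inr (Or.inl (conj_mul_pow g x y 5 h))
    · exact Or.inr (Or.inr (conj_mul_pow g x y 7 h))
  rw [hg] at h1
  have hic' : IsC ((g * y * g⁻¹ : G23) : Equiv.Perm GolayPt) (Nat.land (rec3 i) M120) := hic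
  cases hm : Nat.beq (Nat.land (Nat.shiftRight (rec3 i) 144) 16777215) 0 with
  | true =>
    rw [hm] at h2
    have hw : IsC ((y3H * (g * y * g⁻¹) : G23) : Equiv.Perm GolayPt)
        (pmul y3c (Nat.land (rec3 i) M120)) := y3_isC.mul hic'
    obtain ⟨n3, n5, n7⟩ := pow_ne_of_no357 hw h2
    rcases hr' with h | h | h
    · apply n3
      rw [← Subgroup.coe_pow, h]
      rfl
    · apply n5
      rw [← Subgroup.coe_pow, h]
      rfl
    · apply n7
      rw [← Subgroup.coe_pow, h]
      rfl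
  | false =>
    rw [hm] at h2
    simp only [Bool.and_eq_true] at h2
    have h3 : Subgroup.closure ({g * y * g⁻¹, y3H} : Set G23) = ⊤ := by
      rw [Set.pair_comm]
      exact h1
    exact closure_ne_top_of_mask hic' y3_isC h2.1.1 h2.2 h2.1.2 h3

end Cfsg.Agent.H9.M23Pqr
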