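import Cfsg.Agent.H9.M23PqrC

/-!
# The `(p, q, r)`-generations of `M23`: the statement
-/

set_option autoImplicit false

namespace Cfsg.Agent.H9.M23Pqr

open Cfsg Cfsg.Agent.Lib.Helper6.Golay Cfsg.Agent.H9.NatPerm
open Cfsg.Agent.H9.FusGrp Cfsg.Agent.H9.M23Gen

theorem pow_eq_one_of_triple {x y z : G23} {r : ℕ} (hz : orderOf z = r) (h : x * y * z = 1) :
    (x * y) ^ r = 1 := by
  have : x * y = z⁻¹ := eq_inv_of_mul_eq_one_left h
  rw [this, ← hz, ← orderOf_inv z]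
  exact pow_orderOf_eq_one _

theorem neg_2_3 (r : ℕ) : ¬ ∃ x y z : G23, orderOf x = 2 ∧ orderOf y = 3 ∧ orderOf z = r ∧
    x * y * z = 1 ∧ Subgroup.closure {x, y} = ⊤ := by
  rintro ⟨x, y, z, hx, hy, -, -, hcl⟩
  exact no_gen_2_3 x y hx hy hcl

theorem neg_2_5 (r : ℕ) (hr : r = 5 ∨ r = 7) : ¬ ∃ x y z : G23, orderOf x = 2 ∧ orderOf y = 5 ∧
    orderOf z = r ∧ x * y * z = 1 ∧ Subgroup.closure {x, y} = ⊤ := by
  rintro ⟨x, y, z, hx, hy, hz, hxyz, hcl⟩
  have h := pow_eq_one_of_triple hz hxyz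
  apply no_gen_2_5 x y hx hy _ hcl
  rcases hr with rfl | rfl
  · exact Or.inl h
  · exact Or.inr h

theorem neg_3_3 (r : ℕ) (hr : r = 3 ∨ r = 5 ∨ r = 7) : ¬ ∃ x y z : G23, orderOf x = 3 ∧
    orderOf y = 3 ∧ orderOf z = r ∧ x * y * z = 1 ∧ Subgroup.closure {x, y} = ⊤ := by
  rintro ⟨x, y, z, hx, hy, hz, hxyz, hcl⟩
  have h := pow_eq_one_of_triple hz hxyz
  apply no_gen_3_3 x y hx hy _ hcl
  rcases hr with rfl | rfl | rfl
  · exact Or.inl h
  · exact Or.inr (Or.inl h)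
  · exact Or.inr (Or.inr h)

theorem prime_dvd_cases {p : ℕ} (hp : p.Prime) (h : p ∣ 10200960) :
    p = 2 ∨ p = 3 ∨ p = 5 ∨ p = 7 ∨ p = 11 ∨ p = 23 := by
  have e : 10200960 = 2 ^ 7 * 3 ^ 2 * 5 * 7 * 11 * 23 := by norm_num
  rw [e] at h
  have key : ∀ {q : ℕ}, q.Prime → p ∣ q → p = q := fun hq hd =>
    (Nat.prime_dvd_prime_iff_eq hp hq).mp hd
  rcases (Nat.Prime.dvd_mul hp).mp h with h | h
  · rcases (Nat.Prime.dvd_mul hp).mp h with h | h
    · rcases (Nat.Prime.dvd_mul hp).mp h with h | h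
      · rcases (Nat.Prime.dvd_mul hp).mp h with h | h
        · rcases (Nat.Prime.dvd_mul hp).mp h with h | h
          · exact Or.inl (key (by norm_num) (hp.dvd_of_dvd_pow h))
          · exact Or.inr (Or.inl (key (by norm_num) (hp.dvd_of_dvd_pow h)))
        · exact Or.inr (Or.inr (Or.inl (key (by norm_num) h)))
      · exact Or.inr (Or.inr (Or.inr (Or.inl (key (by norm_num) h))))
    · exact Or.inr (Or.inr (Or.inr (Or.inr (Or.inl (key (by norm_num) h)))))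
  · exact Or.inr (Or.inr (Or.inr (Or.inr (Or.inr (key (by norm_num) h)))))

/-- **the `(p, q, r)`-generations of `M23`** -/
theorem main (p q r : ℕ) (hp : p.Prime) (hq : q.Prime) (hr : r.Prime) (hpq : p ≤ q) (hqr : q ≤ r)
    (hp2 : ¬ (p = 2 ∧ q = 2)) (hdvd : p ∣ 10200960 ∧ q ∣ 10200960 ∧ r ∣ 10200960) :
    (∃ x y z : ↥Spor.M23, orderOf x = p ∧ orderOf y = q ∧ orderOf z = r ∧ x * y * z = 1 ∧
        Subgroup.closure {x, y} = ⊤) ↔
      ¬ ((p = 2 ∧ q = 3) ∨ (p = 2 ∧ q = 5 ∧ r = 5) ∨ (p = 2 ∧ q = 5 ∧ r = 7) ∨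
        (p = 3 ∧ q = 3 ∧ r ≤ 7)) := by
  obtain rfl | rfl | rfl | rfl | rfl | rfl := prime_dvd_cases hp hdvd.1 <;>
  obtain rfl | rfl | rfl | rfl | rfl | rfl := prime_dvd_cases hq hdvd.2.1 <;>
  obtain rfl | rfl | rfl | rfl | rfl | rfl := prime_dvd_cases hr hdvd.2.2 <;>
  first
    | (exfalso; omega)
    | (exfalso; exact hp2 ⟨rfl, rfl⟩)
    | exact ⟨fun _ => by decide, fun _ => gen_2_5_11⟩
    | exact ⟨fun _ => by decide, fun _ => gen_2_5_23⟩
    | exact ⟨fun _ => by decide, fun _ => gen_2_7_7⟩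
    | exact ⟨fun _ => by decide, fun _ => gen_2_7_11⟩
    | exact ⟨fun _ => by decide, fun _ => gen_2_7_23⟩
    | exact ⟨fun _ => by decide, fun _ => gen_2_11_11⟩
    | exact ⟨fun _ => by decide, fun _ => gen_2_11_23⟩
    | exact ⟨fun _ => by decide, fun _ => gen_2_23_23⟩
    | exact ⟨fun _ => by decide, fun _ => gen_3_3_11⟩
    | exact ⟨fun _ => by decide, fun _ => gen_3_3_23⟩
    | exact ⟨fun _ => by decide, fun _ => gen_3_5_5⟩
    | exact ⟨fun _ => by decide, fun _ => gen_3_5_7⟩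
    | exact ⟨fun _ => by decide, fun _ => gen_3_5_11⟩
    | exact ⟨fun _ => by decide, fun _ => gen_3_5_23⟩
    | exact ⟨fun _ => by decide, fun _ => gen_3_7_7⟩
    | exact ⟨fun _ => by decide, fun _ => gen_3_7_11⟩
    | exact ⟨fun _ => by decide, fun _ => gen_3_7_23⟩
    | exact ⟨fun _ => by decide, fun _ => gen_3_11_11⟩
    | exact ⟨fun _ => by decide, fun _ => gen_3_11_23⟩
    | exact ⟨fun _ => by decide, fun _ => gen_3_23_23⟩
    | exact ⟨fun _ => by decide, fun _ => gen_5_5_5⟩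
    | exact ⟨fun _ => by decide, fun _ => gen_5_5_7⟩
    | exact ⟨fun _ => by decide, fun _ => gen_5_5_11⟩
    | exact ⟨fun _ => by decide, fun _ => gen_5_5_23⟩
    | exact ⟨fun _ => by decide, fun _ => gen_5_7_7⟩
    | exact ⟨fun _ => by decide, fun _ => gen_5_7_11⟩
    | exact ⟨fun _ => by decide, fun _ => gen_5_7_23⟩
    | exact ⟨fun _ => by decide, fun _ => gen_5_11_11⟩
    | exact ⟨fun _ => by decide, fun _ => gen_5_11_23⟩
    | exact ⟨fun _ => by decide, fun _ => gen_5_23_23⟩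
    | exact ⟨fun _ => by decide, fun _ => gen_7_7_7⟩
    | exact ⟨fun _ => by decide, fun _ => gen_7_7_11⟩
    | exact ⟨fun _ => by decide, fun _ => gen_7_7_23⟩
    | exact ⟨fun _ => by decide, fun _ => gen_7_11_11⟩
    | exact ⟨fun _ => by decide, fun _ => gen_7_11_23⟩
    | exact ⟨fun _ => by decide, fun _ => gen_7_23_23⟩
    | exact ⟨fun _ => by decide, fun _ => gen_11_11_11⟩
    | exact ⟨fun _ => by decide, fun _ => gen_11_11_23⟩
    | exact ⟨fun _ => by decide, fun _ => gen_11_23_23⟩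
    | exact ⟨fun _ => by decide, fun _ => gen_23_23_23⟩
    | exact ⟨fun h => absurd h (neg_2_3 _), fun h => absurd (by decide) h⟩
    | exact ⟨fun h => absurd h (neg_2_5 _ (by decide)), fun h => absurd (by decide) h⟩
    | exact ⟨fun h => absurd h (neg_3_3 _ (by decide)), fun h => absurd (by decide) h⟩

end Cfsg.Agent.H9.M23Pqr
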