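import Cfsg.Agent.H9.M24BlkDataC
import Cfsg.Agent.H9.M24BlkDataD
import Cfsg.Agent.H9.M22BlkE
import Cfsg.Agent.Lib.Helper6.GolayNF2
import Cfsg.Agent.Lib.Helper6.GolayCent2B2
import Cfsg.Agent.Lib.Helper6.GolayBSGS

/-!
# The involutions of `M24` and their centralizers
-/

set_option autoImplicit false

namespace Cfsg.Agent.H9.M24Blk

open Cfsg Cfsg.Agent.Lib.Helper6.Golay Cfsg.Agent.Lib.Helper6.Golay.M12Out Cfsg.Agent.H9.NatPerm
open Cfsg.Agent.Lib.Helper6.PermChain

/-! ### the involutions with fixed points -/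

theorem exA : ∀ c ∈ [ga, gb, zAc], ∃ g ∈ M24, IsC g c :=
  M22Blk.exists_of_chk_lists chk_lists dec_lists

/-- the involution with fixed points -/
noncomputable def zA : Equiv.Perm GolayPt := Classical.choose (exA zAc (by simp))

theorem zA_mem : zA ∈ M24 := (Classical.choose_spec (exA zAc (by simp))).1

theorem zA_isC : IsC zA zAc := (Classical.choose_spec (exA zAc (by simp))).2

theorem sq_of_code {g : Equiv.Perm GolayPt} {c : ℕ} (hc : IsC g c) (h : pmul c c = idc) :
    g * g = 1 := by
  have := hc.mul hc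
  rw [h] at this
  exact this.ext isC_one

theorem ne_of_code {g : Equiv.Perm GolayPt} {c : ℕ} (hc : IsC g c) (hlt : c < 32 ^ 24)
    (h : Nat.beq c idc = false) : g ≠ 1 := by
  intro h1
  rw [h1] at hc
  have h2 := hc.code_eq isC_one hlt idc_lt
  rw [h2] at h
  have : Nat.beq idc idc = true := by rw [Nat.beq_eq]
  rw [this] at h
  exact absurd h (by simp)

theorem zA_sq : zA * zA = 1 := sq_of_code zA_isC zAc_sq

theorem zA_ne : zA ≠ 1 := ne_of_code zA_isC (by decide) zAc_ne

theorem hgen : ∀ k, ∃ g ∈ M24, IsC g (gen k) := by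
  intro k
  unfold gen
  split
  · exact exA ga (by simp)
  · exact exA gb (by simp)

/-- the class of the involution, enumerated -/
theorem classData : SetData (conjSet M24 zA) A 11385 where
  valid := by
    intro j hj
    exact (good_iff _).mp (good_of_conjAll zA_isC gen hgen A P K 11385 A_zero
      (conjAll_of_conjAll2 conj_ok) j hj)
  inj := inj_of_sortAll (sortAll_of_sortAll2 sort_ok)

theorem exC : ∀ c ∈ [u0, u1, u2, u3, u4, u5], ∃ g ∈ M24, IsC g c :=
  M22Blk.exists_of_chk_lists chkC_lists decC_lists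

theorem cent_of_comm {z g : Equiv.Perm GolayPt} {zc c : ℕ} (hz : IsC z zc) (hg : g ∈ M24)
    (hc : IsC g c) (h : Nat.beq (pmul c zc) (pmul zc c) = true) : g ∈ centSub M24 z := by
  rw [mem_centSub]
  refine ⟨hg, ?_⟩
  rw [Nat.beq_eq] at h
  have h2 := hc.mul hz
  have h3 := hz.mul hc
  rw [h] at h2
  exact h2.ext h3

theorem exCu {c : ℕ} (hc : c ∈ [u0, u1, u2, u3, u4, u5]) : ∃ g ∈ centSub M24 zA, IsC g c := by
  obtain ⟨g, hg, hgc⟩ := exC c hc
  exact ⟨g, cent_of_comm zA_isC hg hgc (List.all_eq_true.mp commC_lists c hc), hgc⟩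

theorem hugen : ∀ k, ∃ g ∈ centSub M24 zA, IsC g (ugen k) := by
  intro k
  unfold ugen
  split
  · exact exCu (by simp)
  · exact exCu (by simp)
  · exact exCu (by simp)
  · exact exCu (by simp)
  · exact exCu (by simp)
  · exact exCu (by simp)

/-- the centralizer of the involution, enumerated -/
theorem centData : SetData (centSub M24 zA : Set (Equiv.Perm GolayPt)) C 21504 where
  valid := valid_of_mulAll ugen hugen C CP CK 21504 C_zero (mulAll_of_mulAll2 mul_ok)
  inj := inj_of_sortAll (sortAll_of_sortAll2 csort_ok)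

theorem card_M24' : Nat.card ↥M24 = 11385 * 21504 := by
  rw [card_M24]

theorem card_conjSet_zA : Nat.card (conjSet M24 zA) = 11385 :=
  (card_exact zA_mem classData centData card_M24').1

theorem card_centSub_zA : Nat.card (centSub M24 zA) = 21504 :=
  (card_exact zA_mem classData centData card_M24').2

theorem hnormA : ∀ k, normChk (ugen k) C 16 = true := by
  intro k
  unfold ugen
  split
  · exact allB_spec _ _ v_norm 0 (by norm_num)
  · exact allB_spec _ _ v_norm 1 (by norm_num)
  · exact allB_spec _ _ v_norm 2 (by norm_num)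
  · exact allB_spec _ _ v_norm 3 (by norm_num)
  · exact allB_spec _ _ v_norm 4 (by norm_num)
  · exact allB_spec _ _ v_norm 5 (by norm_num)

/-- the group -/
abbrev G := ↥M24

noncomputable instance : Fintype G := Fintype.ofFinite _

/-- the structure of the centralizer of an involution with fixed points -/
theorem exists_RA : ∃ R : Subgroup ↥(CzG zA_mem), R.Normal ∧ IsPGroup 2 R ∧
    Subgroup.centralizer (R : Set _) ≤ R :=
  exists_normal_two_subgroup zA_mem ugen C CP CK 21504 16 Wt hugen C_zero (mulAll_of_mulAll2 mul_ok)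
    (inj_of_sortAll (sortAll_of_sortAll2 csort_ok)) (le_of_eq card_centSub_zA) (by norm_num) (by norm_num) v_closed v_sq
    hnormA v_cent

/-! ### the fixed point free involutions -/

theorem exD : ∀ c ∈ [zBc, w0, w1, w2, w3, w4, w5, w6, w7], ∃ g ∈ M24, IsC g c :=
  M22Blk.exists_of_chk_lists chkD_lists decD_lists

/-- the fixed point free involution -/
noncomputable def zB : Equiv.Perm GolayPt := Classical.choose (exD zBc (by simp))

theorem zB_mem : zB ∈ M24 := (Classical.choose_spec (exD zBc (by simp))).1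

theorem zB_isC : IsC zB zBc := (Classical.choose_spec (exD zBc (by simp))).2

theorem zB_sq : zB * zB = 1 := sq_of_code zB_isC zBc_sq

theorem zB_ne : zB ≠ 1 := ne_of_code zB_isC (by decide) zBc_ne

theorem zB_fpf : ∀ p : GolayPt, zB p ≠ p := by
  intro p hp
  have h1 := isC_apply_idx zB_isC p
  rw [hp] at h1
  have h2 : idx p < 24 := idx_lt p
  have h3 := allB_spec _ _ zBc_fpf (idx p) h2
  have h4 : aget zBc (idx p) = idx p := by
    have h5 : pt (idx p) = pt (aget zBc (idx p)) := by rw [pt_idx]; exact h1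
    exact (pt_injOn h2 (aget_lt24 zB_isC h2) h5).symm
  rw [h4] at h3
  have : Nat.beq (idx p) (idx p) = true := by rw [Nat.beq_eq]
  rw [this] at h3
  exact absurd h3 (by simp)

theorem exDw {c : ℕ} (hc : c ∈ [w0, w1, w2, w3, w4, w5, w6, w7]) :
    ∃ g ∈ centSub M24 zB, IsC g c := by
  obtain ⟨g, hg, hgc⟩ := exD c (List.mem_cons_of_mem _ hc)
  exact ⟨g, cent_of_comm zB_isC hg hgc (List.all_eq_true.mp commD_lists c hc), hgc⟩

theorem hwgen : ∀ k, ∃ g ∈ centSub M24 zB, IsC g (wgen k) := by
  intro k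
  unfold wgen
  split
  · exact exDw (by simp)
  · exact exDw (by simp)
  · exact exDw (by simp)
  · exact exDw (by simp)
  · exact exDw (by simp)
  · exact exDw (by simp)
  · exact exDw (by simp)
  · exact exDw (by simp)

theorem centSub_eq_centM (t : Equiv.Perm GolayPt) : centSub M24 t = centM t := by
  ext c
  rw [mem_centSub, mem_centM]

theorem card_centSub_zB : Nat.card (centSub M24 zB) = 7680 := by
  rw [centSub_eq_centM]
  have h2 : orderOf zB = 2 := by
    apply orderOf_eq_prime
    · rw [pow_two]; exact zB_sq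
    · exact zB_ne
  exact (centM_main zB_mem h2 zB_fpf).1

theorem hnormB : ∀ k, normChk (wgen k) D 64 = true := by
  intro k
  unfold wgen
  split
  · exact allB_spec _ _ q_norm 0 (by norm_num)
  · exact allB_spec _ _ q_norm 1 (by norm_num)
  · exact allB_spec _ _ q_norm 2 (by norm_num)
  · exact allB_spec _ _ q_norm 3 (by norm_num)
  · exact allB_spec _ _ q_norm 4 (by norm_num)
  · exact allB_spec _ _ q_norm 5 (by norm_num)
  · exact allB_spec _ _ q_norm 6 (by norm_num)
  · exact allB_spec _ _ q_norm 7 (by norm_num)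

/-- the structure of the centralizer of a fixed point free involution -/
theorem exists_RB : ∃ R : Subgroup ↥(CzG zB_mem), R.Normal ∧ IsPGroup 2 R ∧
    Subgroup.centralizer (R : Set _) ≤ R :=
  exists_normal_two_subgroup zB_mem wgen D DP DK 7680 64 DWt hwgen D_zero (mulAll_of_mulAll2 dmul_ok)
    (inj_of_sortAll (sortAll_of_sortAll2 dsort_ok)) (le_of_eq card_centSub_zB) (by norm_num) (by norm_num) q_closed q_sq
    hnormB q_cent

/-! ### every involution -/

/-- the involution with fixed points as an element of the group -/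
noncomputable def zH : G := ⟨zA, zA_mem⟩

theorem zH_sq : zH * zH = 1 := Subtype.ext zA_sq

theorem zH_ne : zH ≠ 1 := fun h => zA_ne (congrArg Subtype.val h)

theorem card_class_zH : Nat.card {x : G // IsConj zH x} = 11385 := by
  rw [← card_conjSet_zA, card_conjSet zA_mem]
  rfl

theorem zA_fixed : ∃ p : GolayPt, zA p = p := by
  obtain ⟨f, hf, hfix⟩ : ∃ f, f < 24 ∧ aget zAc f = f := ⟨_, by norm_num, zAc_fix⟩
  refine ⟨pt f, ?_⟩
  rw [zA_isC.apply hf, hfix]

/-- **the structure of the centralizers of involutions of `M24`** -/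
theorem hinv (t : G) (ht1 : t ≠ 1) (ht2 : t * t = 1) : ∃ (r x : G), x * r * x⁻¹ = t ∧
    ∃ R : Subgroup ↥(Subgroup.centralizer ((Subgroup.zpowers r : Subgroup G) : Set G)),
      R.Normal ∧ IsPGroup 2 R ∧ Subgroup.centralizer (R : Set _) ≤ R := by
  have h2 : (t : Equiv.Perm GolayPt) * (t : Equiv.Perm GolayPt) = 1 := congrArg Subtype.val ht2
  have h1 : (t : Equiv.Perm GolayPt) ≠ 1 := fun h => ht1 (Subtype.ext h)
  by_cases hfix : ∃ p : GolayPt, (t : Equiv.Perm GolayPt) p = p
  · obtain ⟨p, hp⟩ := hfix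
    obtain ⟨q, hq⟩ := zA_fixed
    have c1 := invol_fix_conj t.2 h2 h1 hp
    have c2 := invol_fix_conj zA_mem zA_sq zA_ne hq
    obtain ⟨k, hk, hkt⟩ := c2.exists_conj c1
    obtain ⟨R, hR⟩ := exists_RA
    exact ⟨zH, ⟨k, hk⟩, Subtype.ext hkt, R, hR⟩
  · have hfpf : ∀ p : GolayPt, (t : Equiv.Perm GolayPt) p ≠ p := by
      intro p hp
      exact hfix ⟨p, hp⟩
    have c1 := invol_fpf_conj t.2 h2 hfpf
    have c2 := invol_fpf_conj zB_mem zB_sq zB_fpf
    obtain ⟨k, hk, hkt⟩ := c2.exists_conj c1
    obtain ⟨R, hR⟩ := exists_RB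
    exact ⟨⟨zB, zB_mem⟩, ⟨k, hk⟩, Subtype.ext hkt, R, hR⟩

end Cfsg.Agent.H9.M24Blk
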