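import Cfsg.Agent.H9.M24BlkA
import Cfsg.Agent.H9.M24BlkDataB
import Cfsg.Agent.H9.SylowConj

/-!
# The elements of odd order of `M24`, up to conjugacy
-/

set_option autoImplicit false

namespace Cfsg.Agent.H9.M24Blk

open Cfsg Cfsg.Agent.Lib.Helper6.Golay Cfsg.Agent.Lib.Helper6.Golay.M12Out Cfsg.Agent.H9.NatPerm
open Cfsg.Agent.Lib.Helper6.PermChain

theorem ne_of_beq_false {a b : ℕ} (h : Nat.beq a b = false) : a ≠ b := by
  intro hab
  rw [hab] at h
  have : Nat.beq b b = true := by rw [Nat.beq_eq]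
  rw [this] at h
  exact absurd h (by simp)

/-- the generic step: an element of odd order divisible by `q` is conjugate to the square of an
element of the centralizer of `r`, where `r` has order `q` and `q ∥ |G|` -/
theorem odd_step (q : ℕ) [hq : Fact q.Prime] (r : G) (rc RP : ℕ)
    (hrc : IsC (r : Equiv.Perm GolayPt) rc)
    (hRP0 : arr 120 RP 0 = idc)
    (hRP : allB (fun i => Nat.beq (arr 120 RP (i + 1)) (pmul rc (arr 120 RP i))) (q - 1) = true)
    (htop : pmul rc (arr 120 RP (q - 1)) = idc) (hne : Nat.beq rc idc = false)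
    (hrlt : rc < 32 ^ 24)
    (hfac : (Nat.card G).factorization q = 1) (nres Res : ℕ)
    (hcent : ∀ c : G, c * r = r * c → ∃ j < nres, IsC (c : Equiv.Perm GolayPt) (arr 120 Res j))
    (e : G) (he1 : e ≠ 1) (hodd : ¬ 2 ∣ orderOf e) (hdvd : q ∣ orderOf e) :
    ∃ h : G, h * e * h⁻¹ ≠ 1 ∧ ∃ j < nres,
      IsC ((h * e * h⁻¹ : G) : Equiv.Perm GolayPt) (pmul (arr 120 Res j) (arr 120 Res j)) := by
  have hqp : q.Prime := hq.out
  have hpow := isC_pow_of_table hrc RP q hRP0 hRP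
  have hr1 : r ≠ 1 := by
    intro h
    rw [h] at hrc
    exact ne_of_beq_false hne (hrc.code_eq isC_one hrlt idc_lt)
  have hrq : r ^ q = 1 := by
    apply Subtype.ext
    have h1 := hrc.mul (hpow (q - 1) (by have := hqp.two_le; omega))
    rw [htop, ← pow_succ', show q - 1 + 1 = q by have := hqp.two_le; omega] at h1
    exact h1.ext isC_one
  have hord : orderOf r = q := orderOf_eq_prime hrq hr1
  have hK : Nat.card (Subgroup.zpowers r) = q ^ (Nat.card G).factorization q := by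
    rw [hfac, pow_one, Nat.card_zpowers, hord]
  obtain ⟨g, hg1, hg2⟩ := Cfsg.Agent.H9.SylowConj.exists_conj_pow_mem (Subgroup.zpowers r) hK e hdvd
  obtain ⟨e', he'⟩ : ∃ e', e' = g * e * g⁻¹ := ⟨_, rfl⟩
  rw [← he'] at hg1 hg2
  obtain ⟨w, hw⟩ : ∃ w, w = e' ^ (orderOf e / q) := ⟨_, rfl⟩
  rw [← hw] at hg1 hg2
  have hle : Subgroup.zpowers w ≤ Subgroup.zpowers r := by
    rw [Subgroup.zpowers_le]
    exact hg1
  have hwq : orderOf w = q := by
    have h1 : orderOf w ∣ q := by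
      have := Subgroup.card_dvd_of_le hle
      rwa [Nat.card_zpowers, Nat.card_zpowers, hord] at this
    rcases (Nat.dvd_prime hqp).mp h1 with h2 | h2
    · exact absurd (orderOf_eq_one_iff.mp h2) hg2
    · exact h2
  have heq : Subgroup.zpowers w = Subgroup.zpowers r := by
    apply Subgroup.eq_of_le_of_card_ge hle
    rw [Nat.card_zpowers, Nat.card_zpowers, hwq, hord]
  have hrw : r ∈ Subgroup.zpowers w := by
    rw [heq]
    exact Subgroup.mem_zpowers r
  obtain ⟨k, hk⟩ := Subgroup.mem_zpowers_iff.mp hrw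
  have hcomm : Commute e' r := by
    rw [← hk]
    have h1 : Commute e' w := by
      rw [hw]
      exact (Commute.refl e').pow_right _
    exact h1.zpow_right k
  -- `e'` is a square of one of its powers
  have he'n : e' ^ orderOf e = 1 := by
    rw [he', conj_pow, pow_orderOf_eq_one]
    group
  obtain ⟨m, hm⟩ : ∃ m, orderOf e + 1 = 2 * m := by
    have : orderOf e % 2 = 1 := by
      rcases Nat.mod_two_eq_zero_or_one (orderOf e) with h | h
      · exact absurd (Nat.dvd_of_mod_eq_zero h) hodd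
      · exact h
    exact ⟨(orderOf e + 1) / 2, by omega⟩
  have hsq : e' ^ m * e' ^ m = e' := by
    rw [← pow_add, ← two_mul, ← hm, pow_succ, he'n, one_mul]
  have hcs : e' ^ m * r = r * e' ^ m := (hcomm.pow_left m).eq
  obtain ⟨j, hj, hjc⟩ := hcent (e' ^ m) hcs
  have he'1 : e' ≠ 1 := by
    intro h
    apply he1
    rw [he'] at h
    have : e = g⁻¹ * (g * e * g⁻¹) * g := by group
    rw [this, h]
    group
  refine ⟨g, ?_, j, hj, ?_⟩
  · rw [← he']
    exact he'1
  · rw [← he']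
    have h1 := hjc.mul hjc
    have h2 : ((e' ^ m : G) : Equiv.Perm GolayPt) * ((e' ^ m : G) : Equiv.Perm GolayPt)
        = (e' : Equiv.Perm GolayPt) := congrArg Subtype.val hsq
    rw [h2] at h1
    exact h1

/-- the table of squares leads into the list `E` -/
theorem step_of_table (nres Res Sq : ℕ)
    (htab : allB (fun j => force (arr 120 Res j) fun c => force (pmul c c) fun c2 =>
      match Nat.beq c2 idc with
      | true => true
      | false => force (arr 8 Sq j) fun k =>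
        match Nat.blt k 122 with
        | false => false
        | true => Nat.beq c2 (arr 120 E k)) nres = true)
    {x : G} (hx : x ≠ 1) {j : ℕ} (hj : j < nres)
    (hc : IsC (x : Equiv.Perm GolayPt) (pmul (arr 120 Res j) (arr 120 Res j))) :
    ∃ k < 122, IsC (x : Equiv.Perm GolayPt) (arr 120 E k) := by
  have h := allB_spec _ _ htab j hj
  simp only [force_eq] at h
  have hb : Nat.beq (pmul (arr 120 Res j) (arr 120 Res j)) idc = false := by
    cases hb : Nat.beq (pmul (arr 120 Res j) (arr 120 Res j)) idc with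
    | false => rfl
    | true =>
      exfalso
      rw [Nat.beq_eq] at hb
      rw [hb] at hc
      exact hx (Subtype.ext (hc.ext isC_one))
  rw [hb] at h
  have hk : Nat.blt (arr 8 Sq j) 122 = true := by
    revert h
    cases Nat.blt (arr 8 Sq j) 122 <;> simp
  rw [hk] at h
  simp only [Nat.beq_eq] at h
  rw [Nat.blt_eq] at hk
  refine ⟨_, hk, ?_⟩
  rw [← h]
  exact hc

/-! ### the four primes -/

/-- the element of order five -/
noncomputable def r5 : G := ⟨(M22Blk.r5 : Equiv.Perm GolayPt), M22Blk.M22_le_M24 M22Blk.r5.2⟩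

/-- the element of order seven -/
noncomputable def r7 : G := ⟨(M22Blk.r7 : Equiv.Perm GolayPt), M22Blk.M22_le_M24 M22Blk.r7.2⟩

/-- the element of order eleven -/
noncomputable def r11 : G := ⟨(M22Blk.r11 : Equiv.Perm GolayPt), M22Blk.M22_le_M24 M22Blk.r11.2⟩

theorem ex23 : ∀ c ∈ [r23c, k23c, arr 120 KU23 0], ∃ g ∈ M24, IsC g c :=
  M22Blk.exists_of_chk_lists chk23 dec23

/-- the element of order twenty-three -/
noncomputable def r23 : G :=
  ⟨Classical.choose (ex23 r23c (by simp)), (Classical.choose_spec (ex23 r23c (by simp))).1⟩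

theorem r23_isC : IsC (r23 : Equiv.Perm GolayPt) r23c :=
  (Classical.choose_spec (ex23 r23c (by simp))).2

theorem cent5 : ∀ c : G, c * r5 = r5 * c →
    ∃ j < 60, IsC (c : Equiv.Perm GolayPt) (arr 120 M22Blk.Res5 j) := by
  intro c hc
  exact cent_of_T5 r5.2 M22Blk.r5c M22Blk.r5_isC 5 M22Blk.RP5 1 M22Blk.k5c 4 M22Blk.U0_5 M22Blk.KU5
    M22Blk.T5c 60 M22Blk.Res5 M22Blk.RP5_zero M22Blk.RP5_ok (by norm_num)
    (M22Blk.ex5 _ (by simp)) M22Blk.kappa5_ok (by
      intro u hu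
      interval_cases u
      · exact M22Blk.ex5 _ (by simp)
      · exact M22Blk.ex5 _ (by simp)
      · exact M22Blk.ex5 _ (by simp)
      · exact M22Blk.ex5 _ (by simp)) M22Blk.KU5_ok (by norm_num)
    (ne_of_beq_false M22Blk.a0_5_ok) M22Blk.U0_5_ok M22Blk.cov5 M22Blk.hT5 M22Blk.main5 c.1 c.2
    (congrArg Subtype.val hc)

theorem cent7 : ∀ c : G, c * r7 = r7 * c →
    ∃ j < 42, IsC (c : Equiv.Perm GolayPt) (arr 120 M22Blk.Res7 j) := by
  intro c hc
  exact cent_of_T5 r7.2 M22Blk.r7c M22Blk.r7_isC 7 M22Blk.RP7 1 M22Blk.k7c 3 M22Blk.U0_7 M22Blk.KU7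
    M22Blk.T5c 42 M22Blk.Res7 M22Blk.RP7_zero M22Blk.RP7_ok (by norm_num)
    (M22Blk.ex7 _ (by simp)) M22Blk.kappa7_ok (by
      intro u hu
      interval_cases u
      · exact M22Blk.ex7 _ (by simp)
      · exact M22Blk.ex7 _ (by simp)
      · exact M22Blk.ex7 _ (by simp)) M22Blk.KU7_ok (by norm_num)
    (ne_of_beq_false M22Blk.a0_7_ok) M22Blk.U0_7_ok M22Blk.cov7 M22Blk.hT5 M22Blk.main7 c.1 c.2
    (congrArg Subtype.val hc)

theorem cent11 : ∀ c : G, c * r11 = r11 * c →
    ∃ j < 11, IsC (c : Equiv.Perm GolayPt) (arr 120 M22Blk.Res11 j) := by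
  intro c hc
  exact cent_of_T5 r11.2 M22Blk.r11c M22Blk.r11_isC 11 M22Blk.RP11 1 M22Blk.k11c 2 M22Blk.U0_11
    M22Blk.KU11 M22Blk.T5c 11 M22Blk.Res11 M22Blk.RP11_zero M22Blk.RP11_ok (by norm_num)
    (M22Blk.ex11 _ (by simp)) M22Blk.kappa11_ok (by
      intro u hu
      interval_cases u
      · exact M22Blk.ex11 _ (by simp)
      · exact M22Blk.ex11 _ (by simp)) M22Blk.KU11_ok (by norm_num)
    (ne_of_beq_false M22Blk.a0_11_ok) M22Blk.U0_11_ok M22Blk.cov11 M22Blk.hT5 M22Blk.main11 c.1 c.2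
    (congrArg Subtype.val hc)

theorem cent23 : ∀ c : G, c * r23 = r23 * c →
    ∃ j < 23, IsC (c : Equiv.Perm GolayPt) (arr 120 Res23 j) := by
  intro c hc
  exact cent_of_T5 r23.2 r23c r23_isC 23 RP23 0 k23c 1 U0_23 KU23
    M22Blk.T5c 23 Res23 RP23_zero RP23_ok (by norm_num)
    (ex23 _ (by simp)) kappa23_ok (by
      intro u hu
      interval_cases u
      exact ex23 _ (by simp)) KU23_ok (by norm_num)
    (ne_of_beq_false a0_23_ok) U0_23_ok cov23 M22Blk.hT5 main23 c.1 c.2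
    (congrArg Subtype.val hc)

theorem card_G : Nat.card G = 244823040 := card_M24

theorem fac5 : (Nat.card G).factorization 5 = 1 := by
  rw [card_G, show 244823040 = 5 ^ 1 * 48964608 by norm_num]
  exact M22Blk.factorization_pow_mul (by norm_num) (by norm_num) (by norm_num)

theorem fac7 : (Nat.card G).factorization 7 = 1 := by
  rw [card_G, show 244823040 = 7 ^ 1 * 34974720 by norm_num]
  exact M22Blk.factorization_pow_mul (by norm_num) (by norm_num) (by norm_num)

theorem fac11 : (Nat.card G).factorization 11 = 1 := by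
  rw [card_G, show 244823040 = 11 ^ 1 * 22256640 by norm_num]
  exact M22Blk.factorization_pow_mul (by norm_num) (by norm_num) (by norm_num)

theorem fac23 : (Nat.card G).factorization 23 = 1 := by
  rw [card_G, show 244823040 = 23 ^ 1 * 10644480 by norm_num]
  exact M22Blk.factorization_pow_mul (by norm_num) (by norm_num) (by norm_num)

theorem fac3 : (Nat.card G).factorization 3 = 3 := by
  rw [card_G, show 244823040 = 3 ^ 3 * 9067520 by norm_num]
  exact M22Blk.factorization_pow_mul (by norm_num) (by norm_num) (by norm_num)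

instance : Fact (Nat.Prime 23) := ⟨by norm_num⟩

theorem step5 (e : G) (he1 : e ≠ 1) (hodd : ¬ 2 ∣ orderOf e) (hdvd : 5 ∣ orderOf e) :
    ∃ h : G, ∃ k < 122, IsC ((h * e * h⁻¹ : G) : Equiv.Perm GolayPt) (arr 120 E k) := by
  obtain ⟨h, hne, j, hj, hc⟩ := odd_step 5 r5 M22Blk.r5c M22Blk.RP5 M22Blk.r5_isC M22Blk.RP5_zero
    M22Blk.RP5_ok M22Blk.RP5_top M22Blk.r5_ne (by decide) fac5 60 M22Blk.Res5 cent5 e he1 hodd hdvd
  exact ⟨h, step_of_table 60 M22Blk.Res5 Sq5 sq5_ok hne hj hc⟩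

theorem step7 (e : G) (he1 : e ≠ 1) (hodd : ¬ 2 ∣ orderOf e) (hdvd : 7 ∣ orderOf e) :
    ∃ h : G, ∃ k < 122, IsC ((h * e * h⁻¹ : G) : Equiv.Perm GolayPt) (arr 120 E k) := by
  obtain ⟨h, hne, j, hj, hc⟩ := odd_step 7 r7 M22Blk.r7c M22Blk.RP7 M22Blk.r7_isC M22Blk.RP7_zero
    M22Blk.RP7_ok M22Blk.RP7_top M22Blk.r7_ne (by decide) fac7 42 M22Blk.Res7 cent7 e he1 hodd hdvd
  exact ⟨h, step_of_table 42 M22Blk.Res7 Sq7 sq7_ok hne hj hc⟩

theorem step11 (e : G) (he1 : e ≠ 1) (hodd : ¬ 2 ∣ orderOf e) (hdvd : 11 ∣ orderOf e) :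
    ∃ h : G, ∃ k < 122, IsC ((h * e * h⁻¹ : G) : Equiv.Perm GolayPt) (arr 120 E k) := by
  obtain ⟨h, hne, j, hj, hc⟩ := odd_step 11 r11 M22Blk.r11c M22Blk.RP11 M22Blk.r11_isC
    M22Blk.RP11_zero M22Blk.RP11_ok M22Blk.RP11_top M22Blk.r11_ne (by decide) fac11 11 M22Blk.Res11
    cent11 e he1 hodd hdvd
  exact ⟨h, step_of_table 11 M22Blk.Res11 Sq11 sq11_ok hne hj hc⟩

theorem step23 (e : G) (he1 : e ≠ 1) (hodd : ¬ 2 ∣ orderOf e) (hdvd : 23 ∣ orderOf e) :
    ∃ h : G, ∃ k < 122, IsC ((h * e * h⁻¹ : G) : Equiv.Perm GolayPt) (arr 120 E k) := by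
  obtain ⟨h, hne, j, hj, hc⟩ := odd_step 23 r23 r23c RP23 r23_isC RP23_zero RP23_ok RP23_top r23_ne
    (by decide) fac23 23 Res23 cent23 e he1 hodd hdvd
  exact ⟨h, step_of_table 23 Res23 Sq23 sq23_ok hne hj hc⟩

end Cfsg.Agent.H9.M24Blk
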