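import Cfsg.Agent.H9.M24BlkDataA
import Cfsg.Agent.H9.M24BlkDataB

/-!
# Parity certificates for `M24`, part 3 (generated)
-/

set_option autoImplicit false
set_option maxRecDepth 1000000

namespace Cfsg.Agent.H9.M24Blk

open Cfsg Cfsg.Agent.Lib.Helper6.Golay Cfsg.Agent.Lib.Helper6.Golay.M12Out Cfsg.Agent.H9.NatPerm

theorem parity12 : (force A fun a => allB (fun j => force (arr 120 E (Nat.add 96 j)) fun e =>
    Nat.beq (cntTwoQ2 e a 11385 0 % 2) 0) 8) = true := by decide +kernel

theorem parity13 : (force A fun a => allB (fun j => force (arr 120 E (Nat.add 104 j)) fun e =>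
    Nat.beq (cntTwoQ2 e a 11385 0 % 2) 0) 8) = true := by decide +kernel

theorem parity14 : (force A fun a => allB (fun j => force (arr 120 E (Nat.add 112 j)) fun e =>
    Nat.beq (cntTwoQ2 e a 11385 0 % 2) 0) 8) = true := by decide +kernel

theorem parity15 : (force A fun a => allB (fun j => force (arr 120 E (Nat.add 120 j)) fun e =>
    Nat.beq (cntTwoQ2 e a 11385 0 % 2) 0) 2) = true := by decide +kernel

end Cfsg.Agent.H9.M24Blk
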