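import Cfsg.Agent.H9.M24BlkB
import Cfsg.Agent.H9.M24BlkPar0
import Cfsg.Agent.H9.M24BlkPar1
import Cfsg.Agent.H9.M24BlkPar2
import Cfsg.Agent.H9.M24BlkPar3

/-!
# `M24` has a single `2`-block
-/

set_option autoImplicit false

namespace Cfsg.Agent.H9.M24Blk

open Cfsg Cfsg.Agent.Lib.Helper6.Golay Cfsg.Agent.Lib.Helper6.Golay.M12Out Cfsg.Agent.H9.NatPerm
open Cfsg.Agent.Lib.Helper6.PermChain

/-! ### the Sylow `3`-subgroup -/

theorem hgen3 : ∀ k, ∃ g ∈ M24, IsC g (gen3 k) := by
  have h1 : ∀ c ∈ [sxc, syc, swc], ∃ g ∈ M24, IsC g c := M22Blk.exists_of_chk_lists chk3 dec3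
  intro k
  unfold gen3
  split
  · exact h1 sxc (by simp)
  · exact h1 syc (by simp)
  · exact h1 swc (by simp)

theorem s3_valid : ∀ j < 27, ∃ y ∈ M24, IsC y (arr 120 S3 j) :=
  valid_of_mulAll gen3 hgen3 S3 S3P S3K 27 S3_zero S3_mul_ok

theorem s3_inj : ∀ i < 27, ∀ i' < 27, arr 120 S3 i = arr 120 S3 i' → i = i' :=
  inj_of_sortAll S3_sort_ok

/-- the elements coded by the list -/
def S3set : Set G := {x | (x : Equiv.Perm GolayPt) ∈ prefixSet S3 27}

theorem S3set_mul {a b : G} (ha : a ∈ S3set) (hb : b ∈ S3set) : a * b ∈ S3set :=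
  prefixSet_mul S3_closed ha hb

theorem S3set_one : (1 : G) ∈ S3set := prefixSet_one S3_zero (by norm_num)

theorem S3set_pow {a : G} (ha : a ∈ S3set) : ∀ n : ℕ, a ^ n ∈ S3set
  | 0 => by rw [pow_zero]; exact S3set_one
  | n + 1 => by rw [pow_succ]; exact S3set_mul (S3set_pow ha n) ha

/-- the Sylow `3`-subgroup -/
def K3 : Subgroup G where
  carrier := S3set
  mul_mem' := S3set_mul
  one_mem' := S3set_one
  inv_mem' := by
    intro a ha
    have h1 : a⁻¹ = a ^ (orderOf a - 1) := by
      apply inv_eq_of_mul_eq_one_right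
      rw [← pow_succ', show orderOf a - 1 + 1 = orderOf a by have := orderOf_pos a; omega]
      exact pow_orderOf_eq_one a
    rw [h1]
    exact S3set_pow ha _

theorem card_K3 : Nat.card K3 = 27 := by
  have e : Fin 27 ≃ K3 :=
    Equiv.ofBijective (fun i => (⟨⟨Classical.choose (s3_valid i i.2),
        (Classical.choose_spec (s3_valid i i.2)).1⟩, ⟨i, i.2,
        (Classical.choose_spec (s3_valid i i.2)).2⟩⟩ : K3)) (by
      constructor
      · intro i j hij
        apply Fin.ext
        apply s3_inj i i.2 j j.2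
        have h1 := (Classical.choose_spec (s3_valid i i.2)).2
        have h2 := (Classical.choose_spec (s3_valid j j.2)).2
        have h3 : Classical.choose (s3_valid i i.2) = Classical.choose (s3_valid j j.2) :=
          congrArg (fun t : K3 => ((t : G) : Equiv.Perm GolayPt)) hij
        rw [h3] at h1
        exact h1.code_eq h2 (arr120_lt _ _) (arr120_lt _ _)
      · intro x
        obtain ⟨i, hi, hxi⟩ := x.2
        refine ⟨⟨i, hi⟩, ?_⟩
        apply Subtype.ext
        apply Subtype.ext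
        exact ((Classical.choose_spec (s3_valid i hi)).2).ext hxi)
  rw [← Nat.card_congr e]
  simp

theorem step3 (e : G) (he1 : e ≠ 1) (hord : ∃ k : ℕ, orderOf e = 3 ^ k) :
    ∃ h : G, ∃ k < 122, IsC ((h * e * h⁻¹ : G) : Equiv.Perm GolayPt) (arr 120 E k) := by
  obtain ⟨g, hg⟩ := Cfsg.Agent.H9.SylowConj.exists_conj_mem_of_card_sylow K3
    (by rw [card_K3, fac3]; norm_num) e hord
  obtain ⟨i, hi, hic⟩ := hg
  have hne : g * e * g⁻¹ ≠ 1 := by
    intro h2
    apply he1
    have : e = g⁻¹ * (g * e * g⁻¹) * g := by group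
    rw [this, h2]
    group
  have hi0 : Nat.beq i 0 = false := by
    cases hb : Nat.beq i 0 with
    | false => rfl
    | true =>
      exfalso
      rw [Nat.beq_eq] at hb
      subst hb
      rw [S3_zero] at hic
      exact hne (Subtype.ext (hic.ext isC_one))
  have h := allB_spec _ _ s3i_ok i hi
  rw [hi0] at h
  simp only [force_eq] at h
  have hk : Nat.blt (arr 8 S3I i) 122 = true := by
    revert h
    cases Nat.blt (arr 8 S3I i) 122 <;> simp
  rw [hk] at h
  simp only [Nat.beq_eq] at h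
  rw [Nat.blt_eq] at hk
  refine ⟨g, _, hk, ?_⟩
  rw [← h]
  exact hic

/-! ### classification of the elements of odd order -/

theorem odd_conj (e : G) (he1 : e ≠ 1) (hodd : ¬ 2 ∣ orderOf e) :
    ∃ h : G, ∃ j < 122, IsC ((h * e * h⁻¹ : G) : Equiv.Perm GolayPt) (arr 120 E j) := by
  by_cases h23 : 23 ∣ orderOf e
  · exact step23 e he1 hodd h23
  by_cases h11 : 11 ∣ orderOf e
  · exact step11 e he1 hodd h11
  by_cases h7 : 7 ∣ orderOf e
  · exact step7 e he1 hodd h7
  by_cases h5 : 5 ∣ orderOf e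
  · exact step5 e he1 hodd h5
  -- the order divides `27`
  have hdvd : orderOf e ∣ 244823040 := by
    rw [← card_G]
    exact orderOf_dvd_natCard e
  have hc2 : Nat.Coprime (orderOf e) 1024 := by
    rw [show 1024 = 2 ^ 10 by norm_num]
    apply Nat.Coprime.pow_right
    rw [Nat.coprime_comm]
    exact (Nat.Prime.coprime_iff_not_dvd Nat.prime_two).mpr hodd
  have hc : Nat.Coprime (orderOf e) 8855 := by
    rw [show 8855 = 5 * (7 * (11 * 23)) by norm_num]
    apply Nat.Coprime.mul_right
    · rw [Nat.coprime_comm]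
      exact (Nat.Prime.coprime_iff_not_dvd (by norm_num)).mpr h5
    apply Nat.Coprime.mul_right
    · rw [Nat.coprime_comm]
      exact (Nat.Prime.coprime_iff_not_dvd (by norm_num)).mpr h7
    apply Nat.Coprime.mul_right
    · rw [Nat.coprime_comm]
      exact (Nat.Prime.coprime_iff_not_dvd (by norm_num)).mpr h11
    · rw [Nat.coprime_comm]
      exact (Nat.Prime.coprime_iff_not_dvd (by norm_num)).mpr h23
  have h27 : orderOf e ∣ 27 := by
    rw [show 244823040 = 1024 * (8855 * 27) by norm_num] at hdvd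
    exact hc.dvd_of_dvd_mul_left (hc2.dvd_of_dvd_mul_left hdvd)
  have hpow : ∃ k : ℕ, orderOf e = 3 ^ k := by
    have h27' : orderOf e ∣ 3 ^ 3 := by
      rw [show (3 : ℕ) ^ 3 = 27 by norm_num]; exact h27
    obtain ⟨k, -, hk⟩ := (Nat.dvd_prime_pow (show Nat.Prime 3 by norm_num)).mp h27'
    exact ⟨k, hk⟩
  exact step3 e he1 hpow

theorem parity_aux {off cnt : ℕ}
    (h : (force A fun a => allB (fun j => force (arr 120 E (Nat.add off j)) fun e =>
      Nat.beq (cntTwoQ2 e a 11385 0 % 2) 0) cnt) = true) (j : ℕ) (h1 : off ≤ j)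
    (h2 : j < off + cnt) : cntTwoQ (arr 120 E j) A 11385 0 % 2 = 0 := by
  rw [force_eq] at h
  have h3 := allB_spec _ _ h (j - off) (by omega)
  simp only [force_eq, Nat.beq_eq, cntTwoQ2_eq] at h3
  have e : Nat.add off (j - off) = j := by
    show off + (j - off) = j
    omega
  rw [e] at h3
  exact h3

theorem parity (j : ℕ) (hj : j < 122) : cntTwoQ (arr 120 E j) A 11385 0 % 2 = 0 := by
  rcases Nat.lt_or_ge j 8 with h0 | h0
  · exact parity_aux parity0 j (by omega) (by omega)
  rcases Nat.lt_or_ge j 16 with h1 | h1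
  · exact parity_aux parity1 j (by omega) (by omega)
  rcases Nat.lt_or_ge j 24 with h2 | h2
  · exact parity_aux parity2 j (by omega) (by omega)
  rcases Nat.lt_or_ge j 32 with h3 | h3
  · exact parity_aux parity3 j (by omega) (by omega)
  rcases Nat.lt_or_ge j 40 with h4 | h4
  · exact parity_aux parity4 j (by omega) (by omega)
  rcases Nat.lt_or_ge j 48 with h5 | h5
  · exact parity_aux parity5 j (by omega) (by omega)
  rcases Nat.lt_or_ge j 56 with h6 | h6
  · exact parity_aux parity6 j (by omega) (by omega)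
  rcases Nat.lt_or_ge j 64 with h7 | h7
  · exact parity_aux parity7 j (by omega) (by omega)
  rcases Nat.lt_or_ge j 72 with h8 | h8
  · exact parity_aux parity8 j (by omega) (by omega)
  rcases Nat.lt_or_ge j 80 with h9 | h9
  · exact parity_aux parity9 j (by omega) (by omega)
  rcases Nat.lt_or_ge j 88 with h10 | h10
  · exact parity_aux parity10 j (by omega) (by omega)
  rcases Nat.lt_or_ge j 96 with h11 | h11
  · exact parity_aux parity11 j (by omega) (by omega)
  rcases Nat.lt_or_ge j 104 with h12 | h12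
  · exact parity_aux parity12 j (by omega) (by omega)
  rcases Nat.lt_or_ge j 112 with h13 | h13
  · exact parity_aux parity13 j (by omega) (by omega)
  rcases Nat.lt_or_ge j 120 with h14 | h14
  · exact parity_aux parity14 j (by omega) (by omega)
  exact parity_aux parity15 j (by omega) (by omega)

theorem hcert (e : G) (he1 : e ≠ 1) (hodd : ¬ 2 ∣ orderOf e) :
    2 ∣ Nat.card {x : G // IsConj zH x ∧ (e * x) ^ 8 = 1} := by
  obtain ⟨h, j, hj, hic⟩ := odd_conj e he1 hodd
  rw [M22Blk.card_cert_conj zH e h]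
  have h1 := card_cert_eqQ zA_mem classData (le_of_eq card_conjSet_zA) (h * e * h⁻¹) (arr 120 E j) hic
  have h2 : Nat.card {x : G // IsConj zH x ∧ (h * e * h⁻¹ * x) ^ 8 = 1}
      = cntTwoQ (arr 120 E j) A 11385 0 := h1
  rw [h2]
  exact Nat.dvd_of_mod_eq_zero (parity j hj)

/-- **`M24` has a single `2`-block.** -/
theorem single_block (M : Ideal AlgInt) (hM : IsPModular 2 M) (χ ψ : IrrCharacter G) :
    SameBlock M (χ : G → ℂ) (ψ : G → ℂ) := by
  refine Cfsg.Agent.H9.OneBlock.sameBlock_of_certificates hM zH zH_ne zH_sq (fun g => g ^ 8 = 1)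
    ?_ ?_ ?_ hcert hinv χ ψ
  · intro g h
    rw [conj_pow]
    constructor
    · intro h1
      have : g ^ 8 = h⁻¹ * (h * g ^ 8 * h⁻¹) * h := by group
      rw [this, h1]
      group
    · intro h1
      rw [h1]
      group
  · show zH ^ 8 = 1
    have : zH ^ 8 = (zH * zH) ^ 4 := by
      simp only [pow_succ, pow_zero, one_mul, mul_assoc]
    rw [this, zH_sq, one_pow]
  · rw [card_class_zH]
    norm_num

end Cfsg.Agent.H9.M24Blk
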