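import Cfsg.Agent.Lib.Helper6.GolayOctadSplit
import Cfsg.Agent.Lib.Helper6.M12Out1

set_option autoImplicit false
set_option maxRecDepth 100000

/-!
The stabilizer of the reference octad of `M₂₄` acts faithfully on the `5`-dimensional space of code words
vanishing on the octad: an injective homomorphism to `GL₅(2)`, in explicit coordinates.
-/

namespace Cfsg.Agent.H9.M24Cent

open Cfsg Cfsg.Agent.Lib.Helper6.Golay Cfsg.Agent.Lib.Helper6.Golay.M12Out
open scoped Pointwise

/-- masks of the basis words: the complement of the octad, and four octads disjoint from it -/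
def wm : Fin 5 → ℕ := ![8241104, 4038912, 3704512, 7612992, 6656640]

/-- the basis words -/
def wv (j : Fin 5) : GolayPt → ZMod 2 := dec (wm j)

/-- indices of the points of the coordinate functionals -/
def cp : Fin 5 → ℕ := ![4, 8, 10, 11, 12]

/-- the coordinate functionals -/
def cfL (i : Fin 5) : (GolayPt → ZMod 2) →ₗ[ZMod 2] ZMod 2 :=
  if i = 0 then (LinearMap.proj (pt 4) : (GolayPt → ZMod 2) →ₗ[ZMod 2] ZMod 2)
  else (LinearMap.proj (pt (cp i)) : (GolayPt → ZMod 2) →ₗ[ZMod 2] ZMod 2) +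
    (LinearMap.proj (pt 4) : (GolayPt → ZMod 2) →ₗ[ZMod 2] ZMod 2)

theorem cfL_apply (i : Fin 5) (f : GolayPt → ZMod 2) :
    cfL i f = if i = 0 then f (pt 4) else f (pt (cp i)) + f (pt 4) := by
  unfold cfL
  split <;> rfl

/-- the bit of a mask, as an element of the field -/
def bit (n k : ℕ) : ZMod 2 := if n.testBit k then 1 else 0

theorem dec_pt (n k : ℕ) (hk : k < 24) : dec n (pt k) = bit n k := by
  rw [dec_apply, idx_pt k hk]; rfl

/-- the coordinates of a mask -/
def cfm (i : Fin 5) (n : ℕ) : ZMod 2 := if i = 0 then bit n 4 else bit n (cp i) + bit n 4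

theorem cp_lt (i : Fin 5) : cp i < 24 := by revert i; decide

theorem cfL_dec (i : Fin 5) (n : ℕ) : cfL i (dec n) = cfm i n := by
  rw [cfL_apply, cfm, dec_pt n 4 (by norm_num), dec_pt n (cp i) (cp_lt i)]

/-- the word selected by the coordinates of a mask -/
def xorsel (n : ℕ) : ℕ :=
  (if cfm 0 n = 1 then wm 0 else 0) ^^^ ((if cfm 1 n = 1 then wm 1 else 0) ^^^
    ((if cfm 2 n = 1 then wm 2 else 0) ^^^ ((if cfm 3 n = 1 then wm 3 else 0) ^^^
      (if cfm 4 n = 1 then wm 4 else 0))))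

theorem expand_chk : allBelow (fun m => (combo m &&& octad0 != 0) || (combo m == xorsel (combo m))) 4096 =
    true := by decide +kernel

theorem smul_dec_ite (c : ZMod 2) (n : ℕ) : c • dec n = dec (if c = 1 then n else 0) := by
  have hc : c = 0 ∨ c = 1 := by revert c; decide
  rcases hc with rfl | rfl
  · rw [zero_smul, if_neg (by decide), dec_zero]
  · rw [one_smul, if_pos rfl]

/-- the words of the space: code words vanishing on the octad -/
def InW (w : GolayPt → ZMod 2) : Prop := w ∈ golayCode ∧ ∀ p ∈ fs octad0, w p = 0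

/-- **expansion in the basis** -/
theorem expand {w : GolayPt → ZMod 2} (hw : InW w) : w = ∑ j, cfL j w • wv j := by
  obtain ⟨hc, hv⟩ := hw
  obtain ⟨m, hm, rfl⟩ := (mem_golayCode_iff w).1 hc
  have hand : combo m &&& octad0 = 0 := by
    have h1 : fs (combo m &&& octad0) = fs 0 := by
      rw [fs_and, fs_zero, Finset.eq_empty_iff_forall_notMem]
      intro p hp
      rw [Finset.mem_inter] at hp
      have h2 := hv p hp.2
      rw [dec_apply, if_pos (mem_fs.1 hp.1)] at h2
      exact one_ne_zero h2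
    have hlt : combo m &&& octad0 < 2 ^ 24 :=
      lt_of_le_of_lt Nat.and_le_left (combo_lt m hm)
    exact fs_injOn hlt (by norm_num) h1
  have h3 := allBelow_spec _ _ expand_chk m hm
  simp only [Bool.or_eq_true, bne_iff_ne, ne_eq, beq_iff_eq] at h3
  rcases h3 with h3 | h3
  · exact absurd hand h3
  · simp only [Fin.sum_univ_five, cfL_dec, wv, smul_dec_ite]
    rw [← dec_xor, ← dec_xor, ← dec_xor, ← dec_xor]
    have : xorsel (combo m) = (((if cfm 0 (combo m) = 1 then wm 0 else 0) ^^^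
        (if cfm 1 (combo m) = 1 then wm 1 else 0)) ^^^ (if cfm 2 (combo m) = 1 then wm 2 else 0) ^^^
        (if cfm 3 (combo m) = 1 then wm 3 else 0)) ^^^ (if cfm 4 (combo m) = 1 then wm 4 else 0) := by
      unfold xorsel
      simp only [Nat.xor_assoc]
    rw [← this, ← h3]

theorem wm_inCode : ∀ j : Fin 5, inCode (wm j) = true := by decide +kernel

theorem wm_lt : ∀ j : Fin 5, wm j < 2 ^ 24 := by decide

theorem wm_and : ∀ j : Fin 5, wm j &&& octad0 = 0 := by decide

theorem wv_inW (j : Fin 5) : InW (wv j) := by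
  refine ⟨(dec_mem_golayCode_iff (wm j) (wm_lt j)).2 (wm_inCode j), ?_⟩
  intro p hp
  unfold wv
  rw [dec_apply, if_neg]
  intro h
  have : p ∈ fs (wm j &&& octad0) := by
    rw [fs_and, Finset.mem_inter]
    exact ⟨mem_fs.2 h, hp⟩
  rw [wm_and j, fs_zero] at this
  exact absurd this (Finset.notMem_empty p)

theorem cfL_wv : ∀ i j : Fin 5, cfL i (wv j) = if i = j then 1 else 0 := by
  intro i j
  unfold wv
  rw [cfL_dec]
  revert i j
  decide

/-- the octad stabilizer preserves the space -/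
theorem inW_comp {g : Equiv.Perm GolayPt} (hg : g ∈ stabP (fs octad0)) {w : GolayPt → ZMod 2}
    (hw : InW w) : InW (w ∘ ⇑g⁻¹) := by
  obtain ⟨hgM, hgo⟩ := mem_stabP.1 hg
  refine ⟨forall_of_mem_M24 g hgM w hw.1, ?_⟩
  intro p hp
  apply hw.2
  have := (mem_of_smul_eq hgo (p := g⁻¹ p)).1 (by simpa using hp)
  exact this

/-- precomposition with `g⁻¹` followed by a coordinate -/
noncomputable def cfG (g : Equiv.Perm GolayPt) (i : Fin 5) : (GolayPt → ZMod 2) →ₗ[ZMod 2] ZMod 2 :=
  (cfL i).comp (LinearMap.funLeft (ZMod 2) (ZMod 2) ⇑g⁻¹)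

theorem cfG_apply (g : Equiv.Perm GolayPt) (i : Fin 5) (f : GolayPt → ZMod 2) :
    cfG g i f = cfL i (f ∘ ⇑g⁻¹) := rfl

/-- the matrix of an element -/
noncomputable def mat (g : Equiv.Perm GolayPt) : Matrix (Fin 5) (Fin 5) (ZMod 2) :=
  fun i j => cfG g i (wv j)

theorem wv_comp {g : Equiv.Perm GolayPt} (hg : g ∈ stabP (fs octad0)) (j : Fin 5) :
    wv j ∘ ⇑g⁻¹ = ∑ k, mat g k j • wv k :=
  expand (inW_comp hg (wv_inW j))

theorem mat_mul {g h : Equiv.Perm GolayPt} (hh : h ∈ stabP (fs octad0)) :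
    mat (g * h) = mat g * mat h := by
  ext i j
  rw [Matrix.mul_apply]
  show cfL i (wv j ∘ ⇑(g * h)⁻¹) = _
  have e1 : wv j ∘ ⇑(g * h)⁻¹ = (wv j ∘ ⇑h⁻¹) ∘ ⇑g⁻¹ := by
    rw [mul_inv_rev]
    rfl
  rw [e1, wv_comp hh j, ← cfG_apply, map_sum]
  apply Finset.sum_congr rfl
  intro k _
  rw [map_smul, smul_eq_mul, mul_comm]
  rfl

theorem mat_one : mat 1 = 1 := by
  ext i j
  show cfL i (wv j ∘ ⇑(1 : Equiv.Perm GolayPt)⁻¹) = _
  rw [inv_one, Equiv.Perm.coe_one, Function.comp_id, cfL_wv, Matrix.one_apply]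

/-- the homomorphism to `GL₅(2)` -/
noncomputable def toGL : ↥(stabP (fs octad0)) →* GL (Fin 5) (ZMod 2) where
  toFun g := ⟨mat g.1, mat g.1⁻¹, by
      rw [← mat_mul (Subgroup.inv_mem _ g.2), mul_inv_cancel, mat_one], by
      rw [← mat_mul g.2, inv_mul_cancel, mat_one]⟩
  map_one' := Units.ext mat_one
  map_mul' g h := Units.ext (mat_mul h.2)

theorem toGL_val (g : ↥(stabP (fs octad0))) :
    ((toGL g : GL (Fin 5) (ZMod 2)) : Matrix (Fin 5) (Fin 5) (ZMod 2)) = mat g.1 := rfl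

theorem sig_inj : ∀ x y : GolayPt, (∀ j : Fin 5, wv j x = wv j y) → wv 0 x = 1 → x = y := by
  unfold wv dec
  decide +kernel

theorem wv0_eq_one : ∀ x : GolayPt, x ∉ fs octad0 → wv 0 x = 1 := by
  unfold wv dec fs
  decide +kernel

theorem mem_wm1 : ∀ x : GolayPt, x ∈ fs (wm 1) → x ∉ fs octad0 := by
  unfold fs
  decide +kernel

theorem wm1_octad : fs (wm 1) ∈ octads := fs_mem_octads (wm_inCode 1) (by decide +kernel)

theorem pt4_notMem : pt 4 ∉ fs (wm 1) ∧ pt 4 ∉ fs octad0 := by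
  unfold fs
  decide +kernel

/-- the homomorphism is injective -/
theorem toGL_injective : Function.Injective toGL := by
  rw [injective_iff_map_eq_one]
  intro g hg
  have hmat : mat g.1 = 1 := by rw [← toGL_val, hg]; rfl
  have hfix : ∀ j : Fin 5, wv j ∘ ⇑g.1⁻¹ = wv j := by
    intro j
    rw [wv_comp g.2 j, hmat]
    simp only [Matrix.one_apply, ite_smul, one_smul, zero_smul, Finset.sum_ite_eq', Finset.mem_univ, if_true]
  have hout : ∀ x : GolayPt, x ∉ fs octad0 → g.1⁻¹ x = x := by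
    intro x hx
    symm
    apply sig_inj x (g.1⁻¹ x) _ (wv0_eq_one x hx)
    intro j
    exact (congrFun (hfix j) x).symm
  have hgM : g.1 ∈ Cfsg.M24 := (mem_stabP.1 g.2).1
  have hmem : g.1⁻¹ ∈ fixP (fs (wm 1)) :=
    mem_fixP.2 ⟨Subgroup.inv_mem _ hgM, fun y hy => hout y (mem_wm1 y hy)⟩
  have := fixP_inf wm1_octad pt4_notMem.1 _ hmem (hout _ pt4_notMem.2)
  apply Subtype.ext
  show g.1 = 1
  rw [← inv_inv g.1, this, inv_one]

end Cfsg.Agent.H9.M24Cent
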