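import Mathlib
import Cfsg.Prelude.Def_ClassicalGeometry

set_option autoImplicit false

/-!
Transvection matrices (`Cfsg.IsTransvection`): decomposition `T x = x + φ x • a`, transitivity of `GL` on the data
`(a, φ)` and determinant adjustment.
-/

namespace Cfsg.Agent.H9.TvConj

open Module

variable {F : Type*} [Field F]

/-- a transvection matrix is `x ↦ x + φ x • a`. -/
theorem exists_decomp {n : ℕ} (T : Matrix (Fin n) (Fin n) F) (hT : Cfsg.IsTransvection T) :
    ∃ (a : Fin n → F) (φ : Module.Dual F (Fin n → F)), a ≠ 0 ∧ φ ≠ 0 ∧ φ a = 0 ∧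
      ∀ x, T.mulVec x = x + φ x • a := by
  obtain ⟨h1, h2⟩ := hT
  set M := T - 1 with hM
  have hr : finrank F (LinearMap.range M.mulVecLin) = 1 := h1
  obtain ⟨⟨a, ha⟩, ha0, hspan⟩ := finrank_eq_one_iff'.1 hr
  have ha0' : a ≠ 0 := fun h => ha0 (Subtype.ext h)
  obtain ⟨i, hi⟩ : ∃ i, a i ≠ 0 := by
    by_contra hcon
    push Not at hcon
    exact ha0' (funext hcon)
  let ψ : Module.Dual F (Fin n → F) := (a i)⁻¹ • LinearMap.proj i
  have hψa : ψ a = 1 := by
    simp [ψ, hi]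
  let φ : Module.Dual F (Fin n → F) := ψ ∘ₗ M.mulVecLin
  have hMx : ∀ x, M.mulVec x = φ x • a := by
    intro x
    obtain ⟨c, hc⟩ := hspan ⟨M.mulVec x, ⟨x, rfl⟩⟩
    have hc' : c • a = M.mulVec x := congrArg Subtype.val hc
    have : φ x = c := by
      change ψ (M.mulVec x) = c
      rw [← hc', map_smul, hψa, smul_eq_mul, mul_one]
    rw [this, hc']
  obtain ⟨y, hy⟩ := ha
  have hy' : M.mulVec y = a := hy
  have hφy : φ y = 1 := by
    change ψ (M.mulVec y) = 1
    rw [hy', hψa]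
  refine ⟨a, φ, ha0', ?_, ?_, ?_⟩
  · intro h0
    rw [h0] at hφy
    simp at hφy
  · have h3 : M.mulVec (M.mulVec y) = 0 := by
      rw [Matrix.mulVec_mulVec, h2, Matrix.zero_mulVec]
    rw [hy', hMx a] at h3
    exact (smul_eq_zero.1 h3).resolve_right ha0'
  · intro x
    have : T = 1 + M := by rw [hM]; abel
    rw [this, Matrix.add_mulVec, Matrix.one_mulVec, hMx]

variable {V : Type*} [AddCommGroup V] [Module F V] [FiniteDimensional F V]

/-- `GL(V)` is transitive on the data `(a, φ)` of transvections. -/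
theorem exists_equiv_data (a a' : V) (φ φ' : Module.Dual F V) (ha : a ≠ 0) (ha' : a' ≠ 0) (hφ : φ ≠ 0)
    (hφ' : φ' ≠ 0) (hφa : φ a = 0) (hφa' : φ' a' = 0) :
    ∃ g : V ≃ₗ[F] V, g a = a' ∧ ∀ x, φ' (g x) = φ x := by
  have hk := Module.Dual.finrank_ker_add_one_of_ne_zero hφ
  have hk' := Module.Dual.finrank_ker_add_one_of_ne_zero hφ'
  have hkk : finrank F (LinearMap.ker φ) = finrank F (LinearMap.ker φ') := by omega
  let e : LinearMap.ker φ ≃ₗ[F] LinearMap.ker φ' := LinearEquiv.ofFinrankEq _ _ hkk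
  let aW : LinearMap.ker φ := ⟨a, hφa⟩
  let aW' : LinearMap.ker φ' := ⟨a', hφa'⟩
  have haW : aW ≠ 0 := fun h => ha (congrArg Subtype.val h)
  have haW' : aW' ≠ 0 := fun h => ha' (congrArg Subtype.val h)
  have heaW : e aW ≠ 0 := fun h => haW (e.map_eq_zero_iff.1 h)
  -- move `e aW` to `aW'` inside `ker φ'`
  let f₁ : (F ∙ e aW) ≃ₗ[F] (F ∙ aW') :=
    (LinearEquiv.toSpanNonzeroSingleton F _ (e aW) heaW).symm ≪≫ₗ
      (LinearEquiv.toSpanNonzeroSingleton F _ aW' haW')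
  obtain ⟨h, hh⟩ := Submodule.exists_linearEquiv_restrict_eq f₁
  have hh1 : h (e aW) = aW' := by
    have h1 := hh ⟨e aW, Submodule.mem_span_singleton_self _⟩
    rw [← h1]
    have h2 : (LinearEquiv.toSpanNonzeroSingleton F _ (e aW) heaW).symm
        ⟨e aW, Submodule.mem_span_singleton_self _⟩ = 1 := by
      rw [LinearEquiv.symm_apply_eq, LinearEquiv.toSpanNonzeroSingleton_one]
    simp only [f₁, LinearEquiv.trans_apply, h2, LinearEquiv.toSpanNonzeroSingleton_one]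
  let f₀ : LinearMap.ker φ ≃ₗ[F] LinearMap.ker φ' := e ≪≫ₗ h
  obtain ⟨g₀, hg₀⟩ := Submodule.exists_linearEquiv_restrict_eq f₀
  have hg₀a : g₀ a = a' := by
    have := hg₀ aW
    rw [← this]
    simp only [f₀, LinearEquiv.trans_apply, hh1]
    rfl
  have hg₀k : ∀ x, φ x = 0 → φ' (g₀ x) = 0 := by
    intro x hx
    have := hg₀ ⟨x, hx⟩
    rw [← this]
    exact (f₀ ⟨x, hx⟩).2
  -- a vector with `φ b₁ = 1`
  obtain ⟨b₀, hb₀⟩ : ∃ b₀, φ b₀ ≠ 0 := by
    by_contra hcon
    push Not at hcon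
    exact hφ (LinearMap.ext hcon)
  set b₁ := (φ b₀)⁻¹ • b₀ with hb₁
  have hφb₁ : φ b₁ = 1 := by rw [hb₁, map_smul, smul_eq_mul, inv_mul_cancel₀ hb₀]
  set c := φ' (g₀ b₁) with hc
  have hcx : ∀ x, φ' (g₀ x) = φ x * c := by
    intro x
    have h1 : φ (x - φ x • b₁) = 0 := by rw [map_sub, map_smul, hφb₁, smul_eq_mul, mul_one, sub_self]
    have h2 := hg₀k _ h1
    rw [map_sub, map_sub, map_smul, map_smul, smul_eq_mul, sub_eq_zero] at h2
    rw [h2]
  have hc0 : c ≠ 0 := by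
    intro h0
    apply hφ'
    apply LinearMap.ext
    intro y
    obtain ⟨x, rfl⟩ := g₀.surjective y
    rw [hcx, h0, mul_zero, LinearMap.zero_apply]
  have hunit : IsUnit (1 + ((c⁻¹ - 1) • φ) b₁) := by
    rw [LinearMap.smul_apply, hφb₁, smul_eq_mul, mul_one]
    have : (1 : F) + (c⁻¹ - 1) = c⁻¹ := by ring
    rw [this]
    exact (inv_ne_zero hc0).isUnit
  let d : V ≃ₗ[F] V := LinearEquiv.dilatransvection hunit
  have hd : ∀ x, d x = x + ((c⁻¹ - 1) * φ x) • b₁ := by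
    intro x
    simp only [d, LinearEquiv.dilatransvection.apply, LinearMap.smul_apply, smul_eq_mul]
  refine ⟨d ≪≫ₗ g₀, ?_, ?_⟩
  · rw [LinearEquiv.trans_apply, hd, hφa, mul_zero, zero_smul, add_zero, hg₀a]
  · intro x
    rw [LinearEquiv.trans_apply, hcx, hd, map_add, map_smul, hφb₁, smul_eq_mul, mul_one]
    field_simp
    ring

/-- determinant adjustment: when `dim V ≥ 3` the stabiliser of the data `(a, φ)` has all determinants. -/
theorem exists_equiv_det (hdim : 3 ≤ finrank F V) (a : V) (φ : Module.Dual F V) (hφ : φ ≠ 0)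
    (hφa : φ a = 0) (δ : F) (hδ : δ ≠ 0) :
    ∃ z : V ≃ₗ[F] V, z a = a ∧ (∀ x, φ (z x) = φ x) ∧ LinearMap.det (z : V →ₗ[F] V) = δ := by
  have hk := Module.Dual.finrank_ker_add_one_of_ne_zero hφ
  -- a vector of `ker φ` outside the line of `a`
  obtain ⟨w, hw, hwa⟩ : ∃ w, φ w = 0 ∧ w ∉ (F ∙ a) := by
    by_contra hcon
    push Not at hcon
    have hle : LinearMap.ker φ ≤ (F ∙ a) := fun w hw => hcon w hw
    have h1 := Submodule.finrank_mono hle
    have h2 : finrank F (F ∙ a) ≤ 1 := by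
      by_cases ha : a = 0
      · rw [ha, Submodule.span_zero_singleton, finrank_bot]; exact Nat.zero_le 1
      · rw [finrank_span_singleton ha]
    omega
  obtain ⟨ψ₀, hψ₀w, hψ₀a⟩ := Submodule.exists_dual_map_eq_bot_of_notMem hwa inferInstance
  have hψ₀a' : ψ₀ a = 0 := by
    have : ψ₀ a ∈ Submodule.map ψ₀ (F ∙ a) := ⟨a, Submodule.mem_span_singleton_self a, rfl⟩
    rw [hψ₀a] at this
    exact this
  set ψ : Module.Dual F V := (ψ₀ w)⁻¹ • ψ₀ with hψ
  have hψw : ψ w = 1 := by rw [hψ, LinearMap.smul_apply, smul_eq_mul, inv_mul_cancel₀ hψ₀w]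
  have hψa : ψ a = 0 := by rw [hψ, LinearMap.smul_apply, hψ₀a', smul_zero]
  have hunit : IsUnit (1 + ((δ - 1) • ψ) w) := by
    rw [LinearMap.smul_apply, hψw, smul_eq_mul, mul_one]
    have : (1 : F) + (δ - 1) = δ := by ring
    rw [this]
    exact hδ.isUnit
  refine ⟨LinearEquiv.dilatransvection hunit, ?_, ?_, ?_⟩
  · rw [LinearEquiv.dilatransvection.apply, LinearMap.smul_apply, hψa, smul_zero, zero_smul, add_zero]
  · intro x
    rw [LinearEquiv.dilatransvection.apply, map_add, map_smul, hw, smul_zero, add_zero]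
  · rw [LinearEquiv.dilatransvection.coe_toLinearMap, LinearMap.transvection.det, LinearMap.smul_apply, hψw,
      smul_eq_mul, mul_one]
    ring

end Cfsg.Agent.H9.TvConj
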