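import Mathlib
import Cfsg.Prelude.Def_ClassicalGeometry
import Cfsg.Agent.H9.TvConj

set_option autoImplicit false

/-!
Counting transvections of `GL_n(q)` and the order of the centraliser of a transvection.
-/

namespace Cfsg.Agent.H9.TvCount

open Module Matrix

variable {F : Type*} [Field F] {n : ℕ}

/-- the matrix `1 + a rᵀ`. -/
def tvm (a r : Fin n → F) : Matrix (Fin n) (Fin n) F := 1 + Matrix.vecMulVec a r

theorem tvm_mulVec (a r x : Fin n → F) : (tvm a r).mulVec x = x + (r ⬝ᵥ x) • a := by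
  unfold tvm
  rw [Matrix.add_mulVec, Matrix.one_mulVec, Matrix.vecMulVec_mulVec, op_smul_eq_smul]

theorem tvm_sub_one (a r : Fin n → F) : tvm a r - 1 = Matrix.vecMulVec a r := by
  unfold tvm; abel

theorem tvm_isTransvection {a r : Fin n → F} (ha : a ≠ 0) (hr : r ≠ 0) (h : r ⬝ᵥ a = 0) :
    Cfsg.IsTransvection (tvm a r) := by
  refine ⟨?_, ?_⟩
  · rw [tvm_sub_one]
    apply le_antisymm (Matrix.rank_vecMulVec_le a r)
    rw [Nat.one_le_iff_ne_zero]
    intro h0
    have h1 : finrank F (LinearMap.range (Matrix.vecMulVec a r).mulVecLin) = 0 := h0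
    rw [Submodule.finrank_eq_zero, LinearMap.range_eq_bot] at h1
    have h2 : Matrix.vecMulVec a r = 0 := by
      apply Matrix.toLin'.injective
      rw [map_zero]
      exact h1
    rw [Matrix.vecMulVec_eq_zero] at h2
    rcases h2 with h2 | h2
    · exact ha h2
    · exact hr h2
  · rw [tvm_sub_one, Matrix.vecMulVec_mul_vecMulVec, h, zero_smul]
    ext i j
    simp [Matrix.vecMulVec_apply]

theorem det_tvm (a r : Fin n → F) : (tvm a r).det = 1 + r ⬝ᵥ a := by
  unfold tvm
  rw [Matrix.vecMulVec_eq Unit, Matrix.det_one_add_replicateCol_mul_replicateRow]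

/-- every transvection matrix is some `tvm a r`. -/
theorem exists_tvm (T : Matrix (Fin n) (Fin n) F) (hT : Cfsg.IsTransvection T) :
    ∃ a r : Fin n → F, a ≠ 0 ∧ r ≠ 0 ∧ r ⬝ᵥ a = 0 ∧ T = tvm a r := by
  obtain ⟨a, φ, ha, hφ, hφa, hTx⟩ := Cfsg.Agent.H9.TvConj.exists_decomp T hT
  let r : Fin n → F := fun i => φ (Pi.single i 1)
  have hr : ∀ x : Fin n → F, φ x = r ⬝ᵥ x := by
    intro x
    conv_lhs => rw [← (Pi.basisFun F (Fin n)).sum_repr x]
    rw [map_sum]
    simp only [Pi.basisFun_repr, Pi.basisFun_apply, map_smul, smul_eq_mul, dotProduct, r]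
    exact Finset.sum_congr rfl fun i _ => mul_comm _ _
  refine ⟨a, r, ha, ?_, ?_, ?_⟩
  · intro h0
    apply hφ
    apply LinearMap.ext
    intro x
    rw [hr, h0, zero_dotProduct, LinearMap.zero_apply]
  · rw [← hr, hφa]
  · apply Matrix.toLin'.injective
    apply LinearMap.ext
    intro x
    rw [Matrix.toLin'_apply, Matrix.toLin'_apply, hTx, tvm_mulVec, hr]

/-- when two `tvm`'s agree the data differ by a scalar. -/
theorem tvm_eq_iff {a r a' r' : Fin n → F} (ha : a ≠ 0) (hr : r ≠ 0) :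
    tvm a r = tvm a' r' ↔ ∃ c : F, c ≠ 0 ∧ a' = c • a ∧ r = c • r' := by
  constructor
  · intro h
    have h1 : Matrix.vecMulVec a r = Matrix.vecMulVec a' r' := by
      rw [← tvm_sub_one, ← tvm_sub_one, h]
    obtain ⟨j, hj⟩ : ∃ j, r j ≠ 0 := Function.ne_iff.mp hr
    obtain ⟨i, hi⟩ : ∃ i, a i ≠ 0 := Function.ne_iff.mp ha
    have hent : ∀ k l, a k * r l = a' k * r' l := fun k l => by
      have := congrFun (congrFun h1 k) l
      simpa [Matrix.vecMulVec_apply] using this
    have hij : a' i * r' j ≠ 0 := by rw [← hent]; exact mul_ne_zero hi hj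
    have hr'j : r' j ≠ 0 := right_ne_zero_of_mul hij
    have ha' : a' = (r j / r' j) • a := by
      funext k
      have := hent k j
      rw [Pi.smul_apply, smul_eq_mul]
      field_simp
      linear_combination -this
    refine ⟨r j / r' j, div_ne_zero hj hr'j, ha', ?_⟩
    funext l
    have := hent i l
    rw [ha', Pi.smul_apply, smul_eq_mul] at this
    rw [Pi.smul_apply, smul_eq_mul]
    have h6 : a i * r l = a i * (r j / r' j * r' l) := by rw [this]; ring
    exact mul_left_cancel₀ hi h6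
  · rintro ⟨c, hc, rfl, rfl⟩
    unfold tvm
    congr 1
    ext k l
    simp only [Matrix.vecMulVec_apply, Pi.smul_apply, smul_eq_mul]
    ring

/-- any two transvection matrices are conjugate in `GL`. -/
theorem exists_conj (T T' : Matrix (Fin n) (Fin n) F) (hT : Cfsg.IsTransvection T)
    (hT' : Cfsg.IsTransvection T') : ∃ G : GL (Fin n) F, (G : Matrix (Fin n) (Fin n) F) * T = T' * G := by
  obtain ⟨a, φ, ha, hφ, hφa, hS⟩ := Cfsg.Agent.H9.TvConj.exists_decomp T hT
  obtain ⟨a', φ', ha', hφ', hφa', hS'⟩ := Cfsg.Agent.H9.TvConj.exists_decomp T' hT'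
  obtain ⟨g, hga, hgφ⟩ := Cfsg.Agent.H9.TvConj.exists_equiv_data a a' φ φ' ha ha' hφ hφ' hφa hφa'
  set G : Matrix (Fin n) (Fin n) F := LinearMap.toMatrix' (g : (Fin n → F) →ₗ[F] (Fin n → F)) with hG
  have hGx : ∀ x, G.mulVec x = g x := by
    intro x
    rw [hG, ← Matrix.toLin'_apply, Matrix.toLin'_toMatrix']
    rfl
  have hGu : IsUnit G := by
    rw [Matrix.isUnit_iff_isUnit_det, hG, LinearMap.det_toMatrix']
    exact LinearEquiv.isUnit_det' g
  refine ⟨hGu.unit, ?_⟩
  rw [IsUnit.unit_spec]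
  apply Matrix.toLin'.injective
  apply LinearMap.ext
  intro x
  rw [Matrix.toLin'_apply, Matrix.toLin'_apply, ← Matrix.mulVec_mulVec, ← Matrix.mulVec_mulVec, hS, hS', hGx, hGx,
    map_add, map_smul, hga, hgφ]

theorem isConj_of_isTransvection (y t : GL (Fin n) F) (hy : Cfsg.IsTransvection (y : Matrix (Fin n) (Fin n) F))
    (ht : Cfsg.IsTransvection (t : Matrix (Fin n) (Fin n) F)) : IsConj y t := by
  obtain ⟨G, hG⟩ := exists_conj _ _ hy ht
  rw [isConj_iff]
  refine ⟨G, ?_⟩
  rw [mul_inv_eq_iff_eq_mul]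
  apply Units.ext
  rw [Units.val_mul, Units.val_mul]
  exact hG

theorem isTransvection_of_isConj (y t : GL (Fin n) F) (h : IsConj y t)
    (hy : Cfsg.IsTransvection (y : Matrix (Fin n) (Fin n) F)) :
    Cfsg.IsTransvection (t : Matrix (Fin n) (Fin n) F) := by
  rw [isConj_iff] at h
  obtain ⟨c, rfl⟩ := h
  obtain ⟨h1, h2⟩ := hy
  have hkey : ((c * y * c⁻¹ : GL (Fin n) F) : Matrix (Fin n) (Fin n) F) - 1 =
      (c : Matrix (Fin n) (Fin n) F) * ((y : Matrix (Fin n) (Fin n) F) - 1) *
        ((c⁻¹ : GL (Fin n) F) : Matrix (Fin n) (Fin n) F) := by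
    rw [Units.val_mul, Units.val_mul, mul_sub, sub_mul, mul_one, ← Units.val_mul c c⁻¹, mul_inv_cancel,
      Units.val_one]
  have hc : IsUnit (c : Matrix (Fin n) (Fin n) F).det := Matrix.isUnits_det_units c
  have hc' : IsUnit ((c⁻¹ : GL (Fin n) F) : Matrix (Fin n) (Fin n) F).det := Matrix.isUnits_det_units c⁻¹
  refine ⟨?_, ?_⟩
  · rw [hkey, Matrix.rank_mul_eq_left_of_isUnit_det _ _ hc', Matrix.rank_mul_eq_right_of_isUnit_det _ _ hc, h1]
  · rw [hkey]
    have : (c : Matrix (Fin n) (Fin n) F) * ((y : Matrix (Fin n) (Fin n) F) - 1) *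
        ((c⁻¹ : GL (Fin n) F) : Matrix (Fin n) (Fin n) F) *
        ((c : Matrix (Fin n) (Fin n) F) * ((y : Matrix (Fin n) (Fin n) F) - 1) *
        ((c⁻¹ : GL (Fin n) F) : Matrix (Fin n) (Fin n) F)) =
        (c : Matrix (Fin n) (Fin n) F) * (((y : Matrix (Fin n) (Fin n) F) - 1) *
        ((((c⁻¹ : GL (Fin n) F) : Matrix (Fin n) (Fin n) F)) * (c : Matrix (Fin n) (Fin n) F)) *
        ((y : Matrix (Fin n) (Fin n) F) - 1)) * ((c⁻¹ : GL (Fin n) F) : Matrix (Fin n) (Fin n) F) := by
      simp only [Matrix.mul_assoc]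
    rw [this, ← Units.val_mul, inv_mul_cancel, Units.val_one, mul_one, h2, mul_zero, zero_mul]

/-- class equation for a transvection: (number of transvections) * |C(t)| = |GL|. -/
theorem card_transvections_mul_card_centralizer [Finite F] (t : GL (Fin n) F)
    (ht : Cfsg.IsTransvection (t : Matrix (Fin n) (Fin n) F)) :
    Nat.card {y : GL (Fin n) F // Cfsg.IsTransvection (y : Matrix (Fin n) (Fin n) F)} *
      Nat.card (Subgroup.centralizer ({t} : Set (GL (Fin n) F))) = Nat.card (GL (Fin n) F) := by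
  have : Finite (GL (Fin n) F) := Finite.of_injective (fun g : GL (Fin n) F => (g : Matrix (Fin n) (Fin n) F))
    Units.val_injective
  have h0 : Nat.card {y : GL (Fin n) F // Cfsg.IsTransvection (y : Matrix (Fin n) (Fin n) F)} =
      Nat.card {y : GL (Fin n) F // IsConj y t} := by
    apply Nat.card_congr
    exact Equiv.subtypeEquivRight fun y =>
      ⟨fun hy => isConj_of_isTransvection y t hy ht,
        fun hy => isTransvection_of_isConj t y hy.symm ht⟩
  have h1 : Nat.card {y : GL (Fin n) F // IsConj y t} = (MulAction.orbit (ConjAct (GL (Fin n) F)) t).ncard := by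
    rw [← Nat.card_coe_set_eq]
    apply Nat.card_congr
    exact Equiv.subtypeEquivRight (fun y => ConjAct.mem_orbit_conjAct.symm)
  rw [h0, h1, ← MulAction.index_stabilizer, Subgroup.nat_card_centralizer_nat_card_stabilizer, mul_comm]
  exact Subgroup.card_mul_index _

/-- the data `(a, r)` of transvections. -/
abbrev Data (F : Type*) [Field F] (n : ℕ) : Type _ :=
  {p : (Fin n → F) × (Fin n → F) // p.1 ≠ 0 ∧ p.2 ≠ 0 ∧ p.2 ⬝ᵥ p.1 = 0}

/-- the functional `x ↦ r ⬝ᵥ x`. -/
def dotL (r : Fin n → F) : (Fin n → F) →ₗ[F] F where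
  toFun x := r ⬝ᵥ x
  map_add' := dotProduct_add r
  map_smul' c x := by simp [dotProduct_smul]

theorem dotL_ne_zero {r : Fin n → F} (hr : r ≠ 0) : dotL r ≠ 0 := by
  obtain ⟨i, hi⟩ := Function.ne_iff.mp hr
  intro h0
  have := congrArg (fun φ : (Fin n → F) →ₗ[F] F => φ (Pi.single i 1)) h0
  simp [dotL] at this
  exact hi this

theorem card_data [Fintype F] (hn : 1 ≤ n) :
    Nat.card (Data F n) = (Fintype.card F ^ n - 1) * (Fintype.card F ^ (n - 1) - 1) := by
  classical
  let f : Data F n → {r : Fin n → F // r ≠ 0} := fun p => ⟨p.1.2, p.2.2.1⟩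
  have hfib : ∀ r : {r : Fin n → F // r ≠ 0}, Nat.card {p : Data F n // f p = r} =
      Fintype.card F ^ (n - 1) - 1 := by
    intro r
    have e : {p : Data F n // f p = r} ≃ {a : LinearMap.ker (dotL r.1) // a ≠ 0} :=
      { toFun := fun p => ⟨⟨p.1.1.1, by
            rw [LinearMap.mem_ker]
            have h1 : p.1.1.2 = r.1 := congrArg Subtype.val p.2
            change r.1 ⬝ᵥ p.1.1.1 = 0
            rw [← h1]
            exact p.1.2.2.2⟩, fun h0 => p.1.2.1 (congrArg Subtype.val h0)⟩
        invFun := fun a => ⟨⟨(a.1.1, r.1), fun h0 => a.2 (Subtype.ext h0), r.2, a.1.2⟩, rfl⟩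
        left_inv := by
          rintro ⟨⟨⟨a, r'⟩, h⟩, hp⟩
          have h1 : r' = r.1 := congrArg Subtype.val hp
          subst h1
          rfl
        right_inv := by
          rintro ⟨⟨a, ha⟩, h⟩
          rfl }
    rw [Nat.card_congr e]
    have h1 : finrank F (LinearMap.ker (dotL r.1)) = n - 1 := by
      have := Module.Dual.finrank_ker_add_one_of_ne_zero (dotL_ne_zero r.2)
      rw [finrank_fintype_fun_eq_card, Fintype.card_fin] at this
      omega
    have h2 : Nat.card (LinearMap.ker (dotL r.1)) = Fintype.card F ^ (n - 1) := by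
      rw [Module.natCard_eq_pow_finrank (K := F), h1, Nat.card_eq_fintype_card]
    rw [Nat.card_eq_fintype_card, Fintype.card_subtype_compl, Fintype.card_subtype_eq,
      ← Nat.card_eq_fintype_card, h2]
  rw [← Nat.card_congr (Equiv.sigmaFiberEquiv f), Nat.card_sigma]
  simp only [hfib, Finset.sum_const, Finset.card_univ, smul_eq_mul]
  congr 1
  rw [Fintype.card_subtype_compl, Fintype.card_subtype_eq, Fintype.card_fun, Fintype.card_fin]

/-- the transvection in `GL` attached to a datum. -/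
noncomputable def tvGL (p : Data F n) : GL (Fin n) F :=
  Matrix.GeneralLinearGroup.mk'' (tvm p.1.1 p.1.2) (by rw [det_tvm, p.2.2.2, add_zero]; exact isUnit_one)

theorem tvGL_val (p : Data F n) : ((tvGL p : GL (Fin n) F) : Matrix (Fin n) (Fin n) F) = tvm p.1.1 p.1.2 := rfl

/-- the number of data is `q - 1` times the number of transvections. -/
theorem card_data_eq [Fintype F] :
    Nat.card (Data F n) =
      Nat.card {y : GL (Fin n) F // Cfsg.IsTransvection (y : Matrix (Fin n) (Fin n) F)} *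
        (Fintype.card F - 1) := by
  classical
  have : Finite (GL (Fin n) F) := Finite.of_injective (fun g : GL (Fin n) F => (g : Matrix (Fin n) (Fin n) F))
    Units.val_injective
  let f : Data F n → {y : GL (Fin n) F // Cfsg.IsTransvection (y : Matrix (Fin n) (Fin n) F)} :=
    fun p => ⟨tvGL p, by rw [tvGL_val]; exact tvm_isTransvection p.2.1 p.2.2.1 p.2.2.2⟩
  have hfib : ∀ y : {y : GL (Fin n) F // Cfsg.IsTransvection (y : Matrix (Fin n) (Fin n) F)},
      Nat.card {p : Data F n // f p = y} = Fintype.card F - 1 := by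
    intro y
    obtain ⟨a, r, ha, hr, har, hy⟩ := exists_tvm _ y.2
    have e : Fˣ ≃ {p : Data F n // f p = y} := by
      refine Equiv.ofBijective (fun c => ⟨⟨((c : F) • a, ((c⁻¹ : Fˣ) : F) • r),
        smul_ne_zero c.ne_zero ha, smul_ne_zero (c⁻¹).ne_zero hr, by
          rw [smul_dotProduct, dotProduct_smul, har, smul_zero, smul_zero]⟩, ?_⟩) ⟨?_, ?_⟩
      · apply Subtype.ext
        apply Units.ext
        change tvm ((c : F) • a) (((c⁻¹ : Fˣ) : F) • r) = (y : GL (Fin n) F)
        rw [hy, eq_comm, tvm_eq_iff ha hr]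
        refine ⟨c, c.ne_zero, rfl, ?_⟩
        rw [smul_smul, ← Units.val_mul, mul_inv_cancel, Units.val_one, one_smul]
      · intro c c' h
        have h1 : (c : F) • a = (c' : F) • a := congrArg (fun p => p.1.1.1) h
        obtain ⟨i, hi⟩ := Function.ne_iff.mp ha
        have h2 := congrFun h1 i
        simp only [Pi.smul_apply, smul_eq_mul] at h2
        exact Units.ext (mul_right_cancel₀ hi h2)
      · rintro ⟨⟨⟨a', r'⟩, ha', hr', har'⟩, hp⟩
        have h1 : tvm a' r' = tvm a r := by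
          rw [← hy]
          exact congrArg (fun z => ((z.1 : GL (Fin n) F) : Matrix (Fin n) (Fin n) F)) hp
        obtain ⟨c, hc, hca, hcr⟩ := (tvm_eq_iff ha hr).1 h1.symm
        refine ⟨Units.mk0 c hc, ?_⟩
        apply Subtype.ext
        apply Subtype.ext
        simp only
        rw [Prod.mk.injEq]
        refine ⟨hca.symm, ?_⟩
        rw [hcr, smul_smul, Units.val_inv_eq_inv_val, Units.val_mk0, inv_mul_cancel₀ hc, one_smul]
    rw [← Nat.card_congr e, Nat.card_units, Nat.card_eq_fintype_card]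
  rw [← Nat.card_congr (Equiv.sigmaFiberEquiv f), Nat.card_sigma]
  simp only [hfib, Finset.sum_const, Finset.card_univ, smul_eq_mul, Nat.card_eq_fintype_card]

end Cfsg.Agent.H9.TvCount
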