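import Cfsg.Agent.H9.M24CentA
import Cfsg.Agent.S0445

set_option autoImplicit false
set_option maxRecDepth 100000

/-!
The centralizer in `M₂₄` of an involution fixing an octad pointwise is isomorphic to the centralizer of a
transvection in `SL₅(2)`.
-/

namespace Cfsg.Agent.H9.M24Cent

open Cfsg Cfsg.Agent.Lib.Helper6.Golay Cfsg.Agent.Lib.Helper6.Golay.M12Out
open scoped Pointwise

/-- the involution, as a list -/
def zL : List ℕ := [0, 1, 2, 3, 8, 5, 20, 15, 4, 21, 19, 13, 16, 11, 14, 7, 12, 17, 22, 10, 6, 9, 18, 23]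

theorem zL_chk : chkL zL = true := by decide +kernel

/-- the involution -/
noncomputable def zP : Equiv.Perm GolayPt := Classical.choose (exists_of_chk zL_chk)

theorem zP_mem : zP ∈ Cfsg.M24 := (Classical.choose_spec (exists_of_chk zL_chk)).1
theorem zP_isL : IsL zP zL := (Classical.choose_spec (exists_of_chk zL_chk)).2

theorem zP_sq : zP * zP = 1 := (zP_isL.mul zP_isL).ext' IsL.one (by decide +kernel)

theorem zP_inv : zP⁻¹ = zP := inv_eq_of_mul_eq_one_left zP_sq

theorem zP_apply (p : GolayPt) : zP p = pt (zL.getD (idx p) 0) := by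
  have := zP_isL.apply (idx_lt p)
  rwa [pt_idx] at this

theorem zL_fix : ∀ p : GolayPt, p ∈ fs octad0 → pt (zL.getD (idx p) 0) = p := by
  unfold fs
  decide +kernel

theorem zL_move : ∀ p : GolayPt, p ∉ fs octad0 → pt (zL.getD (idx p) 0) ≠ p := by
  unfold fs
  decide +kernel

theorem zP_fix {p : GolayPt} : zP p = p ↔ p ∈ fs octad0 := by
  rw [zP_apply]
  constructor
  · intro h
    by_contra hp
    exact zL_move p hp h
  · exact zL_fix p

theorem zP_ne : zP ≠ 1 := by
  intro h
  have h1 : zP (pt 4) = pt 4 := by rw [h]; rfl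
  rw [zP_fix] at h1
  exact pt4_notMem.2 h1

theorem zP_mem_fixP : zP ∈ fixP (fs octad0) := mem_fixP.2 ⟨zP_mem, fun _ hy => zP_fix.2 hy⟩

theorem zP_mem_stabP : zP ∈ stabP (fs octad0) := fixP_le_stabP _ zP_mem_fixP

/-- the matrix of a listed element -/
theorem mat_of_isL {g : Equiv.Perm GolayPt} {l : List ℕ} (hg : IsL g⁻¹ l) (i j : Fin 5) :
    mat g i j = if i = 0 then bit (wm j) (l.getD 4 0)
      else bit (wm j) (l.getD (cp i) 0) + bit (wm j) (l.getD 4 0) := by
  show cfL i (wv j ∘ ⇑g⁻¹) = _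
  have hlt : ∀ k, k < 24 → l.getD k 0 < 24 := fun k hk => getD_lt hg.1 hk
  rw [cfL_apply, Function.comp_apply, Function.comp_apply, hg.apply (by norm_num : 4 < 24),
    hg.apply (cp_lt i)]
  unfold wv
  rw [dec_pt _ _ (hlt 4 (by norm_num)), dec_pt _ _ (hlt _ (cp_lt i))]

theorem zL_mat : ∀ i j : Fin 5, (if i = 0 then bit (wm j) (zL.getD 4 0)
      else bit (wm j) (zL.getD (cp i) 0) + bit (wm j) (zL.getD 4 0)) =
    (if i = j then 1 else 0) + (if (0 : Fin 5) = i ∧ (1 : Fin 5) = j then 1 else 0) := by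
  decide +kernel

theorem mat_zP : mat zP = Matrix.transvection (0 : Fin 5) 1 (1 : ZMod 2) := by
  ext i j
  have h : IsL zP⁻¹ zL := by rw [zP_inv]; exact zP_isL
  rw [mat_of_isL h, zL_mat, Matrix.transvection, Matrix.add_apply, Matrix.one_apply, Matrix.single_apply]

/-! ### the centralizer -/

/-- the involution in the group -/
noncomputable def zG : ↥Cfsg.M24 := ⟨zP, zP_mem⟩

theorem orderOf_zG : orderOf zG = 2 := by
  apply orderOf_eq_prime
  · apply Subtype.ext
    rw [pow_two]
    exact zP_sq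
  · intro h
    exact zP_ne (congrArg Subtype.val h)

/-- the centralizer lies in the octad stabilizer -/
theorem mem_stabP_of_comm {g : Equiv.Perm GolayPt} (hg : g ∈ Cfsg.M24) (hc : g * zP = zP * g) :
    g ∈ stabP (fs octad0) := by
  rw [mem_stabP]
  refine ⟨hg, ?_⟩
  apply Finset.eq_of_subset_of_card_le
  · intro x hx
    rw [Finset.mem_smul_finset] at hx
    obtain ⟨y, hy, rfl⟩ := hx
    rw [Equiv.Perm.smul_def, ← zP_fix]
    have := congrArg (fun f : Equiv.Perm GolayPt => f y) hc
    simp only [Equiv.Perm.mul_apply] at this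
    rw [← this, zP_fix.2 hy]
  · rw [Finset.card_smul_finset]

theorem det_mat {g : Equiv.Perm GolayPt} (hg : g ∈ stabP (fs octad0)) : (mat g).det = 1 :=
  Cfsg.Agent.S0445.det_eq_one (toGL ⟨g, hg⟩)

/-- the homomorphism to the special linear group -/
noncomputable def toSL : ↥(stabP (fs octad0)) →* Matrix.SpecialLinearGroup (Fin 5) (ZMod 2) where
  toFun g := ⟨mat g.1, det_mat g.2⟩
  map_one' := Subtype.ext mat_one
  map_mul' _ h := Subtype.ext (mat_mul h.2)

theorem toSL_injective : Function.Injective toSL := by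
  intro g h hgh
  apply toGL_injective
  apply Units.ext
  exact congrArg Subtype.val hgh

variable (s : Matrix.SpecialLinearGroup (Fin 5) (ZMod 2))
  (hs : (s : Matrix (Fin 5) (Fin 5) (ZMod 2)) = Matrix.transvection 0 1 1)

include hs in
theorem toSL_zP : toSL ⟨zP, zP_mem_stabP⟩ = s := by
  apply Subtype.ext
  show mat zP = _
  rw [mat_zP, hs]

/-- the map between the centralizers -/
noncomputable def centHom : ↥(Subgroup.centralizer ({zG} : Set ↥Cfsg.M24)) →*
    ↥(Subgroup.centralizer ({s} : Set (Matrix.SpecialLinearGroup (Fin 5) (ZMod 2)))) where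
  toFun g := ⟨toSL ⟨g.1.1, mem_stabP_of_comm g.1.2 (by
      have := Subgroup.mem_centralizer_iff.1 g.2 zG rfl
      exact (congrArg Subtype.val this).symm)⟩, by
    rw [Subgroup.mem_centralizer_iff]
    intro t ht
    rw [Set.mem_singleton_iff] at ht
    subst ht
    rw [← toSL_zP t hs, ← map_mul, ← map_mul]
    congr 1
    apply Subtype.ext
    have := Subgroup.mem_centralizer_iff.1 g.2 zG rfl
    exact congrArg (fun x : ↥Cfsg.M24 => x.1) this⟩
  map_one' := by
    apply Subtype.ext
    exact map_one toSL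
  map_mul' g h := by
    apply Subtype.ext
    exact map_mul toSL ⟨g.1.1, _⟩ ⟨h.1.1, _⟩

theorem centHom_injective : Function.Injective (centHom s hs) := by
  intro g h hgh
  have h1 : toSL ⟨g.1.1, _⟩ = toSL ⟨h.1.1, _⟩ := congrArg Subtype.val hgh
  have h2 := toSL_injective h1
  apply Subtype.ext
  apply Subtype.ext
  exact congrArg (fun x : ↥(stabP (fs octad0)) => x.1) h2

end Cfsg.Agent.H9.M24Cent
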