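import Cfsg.Agent.H9.M24CentB

set_option autoImplicit false

/-!
The centralizer in `M₂₄` of an involution fixing an octad pointwise has order at least `21504`, hence is
isomorphic to the centralizer of a transvection in `SL₅(2)`.
-/

namespace Cfsg.Agent.H9.M24Cent

open Cfsg Cfsg.Agent.Lib.Helper6.Golay Cfsg.Agent.Lib.Helper6.Golay.M12Out
open scoped Pointwise

/-- the involution in the octad stabilizer -/
noncomputable def zH : ↥(stabP (fs octad0)) := ⟨zP, zP_mem_stabP⟩

instance : Finite ↥(stabP (fs octad0)) := Nat.finite_of_card_ne_zero (by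
  rw [card_stabP_octad octad0_mem]; norm_num)

theorem orbit_ncard_le : (MulAction.orbit (ConjAct ↥(stabP (fs octad0))) zH).ncard ≤ 15 := by
  have hsub : (Subtype.val '' (MulAction.orbit (ConjAct ↥(stabP (fs octad0))) zH) :
      Set (Equiv.Perm GolayPt)) ⊆ ((fixP (fs octad0) : Set (Equiv.Perm GolayPt)) \ {1}) := by
    rintro _ ⟨y, hy, rfl⟩
    rw [ConjAct.mem_orbit_conjAct, isConj_iff] at hy
    obtain ⟨c0, hc0⟩ := hy
    obtain ⟨c, hc⟩ : ∃ c : ↥(stabP (fs octad0)), y = c * zH * c⁻¹ := ⟨c0⁻¹, by rw [← hc0]; group⟩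
    have hy1 : y.1 = c.1 * zP * c.1⁻¹ := by rw [hc]; rfl
    obtain ⟨hcM, hco⟩ := mem_stabP.1 c.2
    refine ⟨?_, ?_⟩
    · have h1 : y.1 ∈ fixP (c.1 • fs octad0) := by
        rw [conj_mem_fixP hcM, hy1]
        have : c.1⁻¹ * (c.1 * zP * c.1⁻¹) * c.1 = zP := by group
        rw [this]
        exact zP_mem_fixP
      rw [hco] at h1
      exact h1
    · rw [Set.mem_singleton_iff, hy1]
      intro h
      apply zP_ne
      have : zP = c.1⁻¹ * (c.1 * zP * c.1⁻¹) * c.1 := by group
      rw [this, h]
      group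
  have hfin : ((fixP (fs octad0) : Set (Equiv.Perm GolayPt)) \ {1}).Finite := Set.toFinite _
  have h1 := Set.ncard_le_ncard hsub hfin
  rw [Set.ncard_image_of_injective _ Subtype.val_injective,
    Set.ncard_sdiff_singleton_of_mem (Subgroup.one_mem _)] at h1
  have h2 : ((fixP (fs octad0) : Set (Equiv.Perm GolayPt))).ncard = 16 := by
    rw [← Nat.card_coe_set_eq]
    exact (fixOctad octad0_mem).1
  rw [h2] at h1
  exact h1

theorem card_centralizer_zH :
    21504 ≤ Nat.card (Subgroup.centralizer ({zH} : Set ↥(stabP (fs octad0)))) := by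
  have h1 := Subgroup.card_mul_index (MulAction.stabilizer (ConjAct ↥(stabP (fs octad0))) zH)
  rw [MulAction.index_stabilizer, ← Subgroup.nat_card_centralizer_nat_card_stabilizer] at h1
  have h2 : Nat.card (ConjAct ↥(stabP (fs octad0))) = 322560 := card_stabP_octad octad0_mem
  rw [h2] at h1
  have h3 := orbit_ncard_le
  nlinarith

theorem card_centralizer_zG :
    21504 ≤ Nat.card (Subgroup.centralizer ({zG} : Set ↥Cfsg.M24)) := by
  have : Finite ↥Cfsg.M24 := Nat.finite_of_card_ne_zero (by rw [card_M24]; norm_num)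
  refine le_trans card_centralizer_zH ?_
  refine Nat.card_le_card_of_injective
    (fun h : ↥(Subgroup.centralizer ({zH} : Set ↥(stabP (fs octad0)))) =>
      (⟨⟨h.1.1, (mem_stabP.1 h.1.2).1⟩, by
        rw [Subgroup.mem_centralizer_iff]
        intro t ht
        rw [Set.mem_singleton_iff] at ht
        subst ht
        apply Subtype.ext
        have := Subgroup.mem_centralizer_iff.1 h.2 zH rfl
        exact congrArg (fun x : ↥(stabP (fs octad0)) => x.1) this⟩ :
        ↥(Subgroup.centralizer ({zG} : Set ↥Cfsg.M24)))) ?_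
  intro a b hab
  apply Subtype.ext
  apply Subtype.ext
  exact congrArg (fun x : ↥(Subgroup.centralizer ({zG} : Set ↥Cfsg.M24)) => x.1.1) hab

/-- **The centralizer of a `2`-central involution of `M₂₄` is isomorphic to the centralizer of a transvection
of `SL₅(2)`.** -/
theorem exists_equiv (s : Matrix.SpecialLinearGroup (Fin 5) (ZMod 2))
    (hs : (s : Matrix (Fin 5) (Fin 5) (ZMod 2)) = Matrix.transvection 0 1 1) :
    ∃ z : ↥Cfsg.M24, orderOf z = 2 ∧ Nonempty (↥(Subgroup.centralizer ({z} : Set ↥Cfsg.M24)) ≃*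
      ↥(Subgroup.centralizer ({s} : Set (Matrix.SpecialLinearGroup (Fin 5) (ZMod 2))))) := by
  refine ⟨zG, orderOf_zG, ?_⟩
  have hcard := Cfsg.Agent.S0445.result s hs
  have : Finite ↥(Subgroup.centralizer ({s} : Set (Matrix.SpecialLinearGroup (Fin 5) (ZMod 2)))) :=
    Nat.finite_of_card_ne_zero (by rw [hcard]; norm_num)
  have hinj := centHom_injective s hs
  have hle := Nat.card_le_card_of_injective _ hinj
  have hge := card_centralizer_zG
  have : Finite ↥(Subgroup.centralizer ({zG} : Set ↥Cfsg.M24)) := Finite.of_injective _ hinj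
  have hbij : Function.Bijective (centHom s hs) := by
    rw [Nat.bijective_iff_injective_and_card]
    exact ⟨hinj, by omega⟩
  exact ⟨MulEquiv.ofBijective (centHom s hs) hbij⟩

end Cfsg.Agent.H9.M24Cent
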