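import Cfsg.Agent.S5421
import Cfsg.Agent.H2.Equivariant
import Cfsg.Agent.H9.Cores
import Cfsg.Agent.Lib.Helper6.GolayOctadSplit
import Cfsg.Agent.Lib.Helper6.GolayOctadFix

/-!
# Largeness of `O_2(C(z))` in `M24` for an octad-type involution `z`
-/

set_option autoImplicit false

namespace Cfsg.Agent.H9.M24OctadLarge

open Cfsg
open Cfsg.Agent.Lib.Helper6.Golay
open scoped Pointwise

/-- generic: a `p`-subgroup of `C` normalized by `C` lies in `O_p(C)` (as subgroups of the ambient group) -/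
theorem le_pCore_map {G : Type*} [Group G] {p : ℕ} (C U : Subgroup G) (hUC : U ≤ C)
    (hU : IsPGroup p U) (hn : ∀ c ∈ C, ∀ u ∈ U, c * u * c⁻¹ ∈ U) :
    U ≤ (pCore p ↥C).map C.subtype := by
  have hN : (U.subgroupOf C).Normal := by
    constructor
    intro n hn' g
    rw [Subgroup.mem_subgroupOf] at hn' ⊢
    exact hn g.1 g.2 n.1 hn'
  have hP : IsPGroup p (U.subgroupOf C) :=
    hU.of_equiv (Subgroup.subgroupOfEquivOfLe hUC).symm
  have := le_pCore (U.subgroupOf C) hP
  intro u hu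
  exact ⟨⟨u, hUC hu⟩, this (Subgroup.mem_subgroupOf.mpr hu), rfl⟩

/-- the fixed point set of a permutation -/
abbrev fixSet (g : Equiv.Perm GolayPt) : Finset GolayPt :=
  Finset.univ.filter fun p : GolayPt => g p = p

theorem smul_eq_of_maps {o : Finset GolayPt} {g : Equiv.Perm GolayPt} (h : ∀ y ∈ o, g y ∈ o) :
    g • o = o := by
  apply Finset.eq_of_subset_of_card_le
  · intro x hx
    rw [Finset.mem_smul_finset] at hx
    obtain ⟨y, hy, rfl⟩ := hx
    exact h y hy
  · rw [Finset.card_smul_finset]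

/-- a nonidentity element of the pointwise stabilizer of an octad fixes no further point -/
theorem stab_of_comm {o : Finset GolayPt} (ho : o ∈ octads) {b g : Equiv.Perm GolayPt}
    (hb : b ∈ fixP o) (hb1 : b ≠ 1) (hg : g ∈ M24) (hgb : g * b = b * g) : g ∈ stabP o := by
  rw [mem_stabP]
  refine ⟨hg, smul_eq_of_maps ?_⟩
  intro y hy
  by_contra hgy
  apply hb1
  apply fixP_inf ho hgy b hb
  have h1 : (b * g) y = (g * b) y := by rw [hgb]
  rw [Equiv.Perm.mul_apply, Equiv.Perm.mul_apply, (mem_fixP.mp hb).2 y hy] at h1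
  exact h1

theorem conj_fixP {o : Finset GolayPt} {n u : Equiv.Perm GolayPt} (hn : n ∈ stabP o)
    (hu : u ∈ fixP o) : n * u * n⁻¹ ∈ fixP o := by
  have hn' := mem_stabP.mp hn
  have h1 : n⁻¹ • o = o := by rw [inv_smul_eq_iff, hn'.2]
  have h2 := (conj_mem_fixP (t := n⁻¹) (M24.inv_mem hn'.1) (s := o) (g := u)).mp (by rw [h1]; exact hu)
  rwa [inv_inv] at h2

/-- `U`: the pointwise stabilizer of `o` as a subgroup of `↥M24` -/
abbrev UU (o : Finset GolayPt) : Subgroup ↥M24 := (fixP o).subgroupOf M24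

theorem card_UU {o : Finset GolayPt} (ho : o ∈ octads) : Nat.card (UU o) = 16 := by
  have h := (fixOctad ho).1
  rw [← h]
  exact Nat.card_congr (Subgroup.subgroupOfEquivOfLe (inf_le_left : fixP o ≤ M24)).toEquiv

theorem sq_UU {o : Finset GolayPt} (ho : o ∈ octads) : ∀ u ∈ UU o, u * u = 1 := by
  intro u hu
  apply Subtype.ext
  exact (fixOctad ho).2 u.1 (Subgroup.mem_subgroupOf.mp hu)

theorem comm_UU {o : Finset GolayPt} (ho : o ∈ octads) : ∀ u ∈ UU o, ∀ v ∈ UU o, u * v = v * u := by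
  intro u hu v hv
  have h1 := sq_UU ho u hu
  have h2 := sq_UU ho v hv
  have h3 := sq_UU ho (u * v) ((UU o).mul_mem hu hv)
  have hu' : u⁻¹ = u := inv_eq_of_mul_eq_one_left h1
  have hv' : v⁻¹ = v := inv_eq_of_mul_eq_one_left h2
  have : u * v = (u * v)⁻¹ := (inv_eq_of_mul_eq_one_left h3).symm
  rw [this, mul_inv_rev, hu', hv']

theorem isPGroup_UU {o : Finset GolayPt} (ho : o ∈ octads) : IsPGroup 2 (UU o) := by
  intro u
  refine ⟨1, ?_⟩
  apply Subtype.ext
  rw [pow_one, pow_two]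
  exact sq_UU ho u.1 u.2

theorem UU_le_pCore {o : Finset GolayPt} (ho : o ∈ octads) {b : ↥M24} (hb : b ∈ UU o) (hb1 : b ≠ 1) :
    UU o ≤ (pCore 2 ↥(Subgroup.centralizer ({b} : Set ↥M24))).map
      (Subgroup.centralizer ({b} : Set ↥M24)).subtype := by
  apply le_pCore_map _ _ _ (isPGroup_UU ho)
  · intro c hc u hu
    have hc' : c * b = b * c := Subgroup.mem_centralizer_singleton_iff.mp hc
    have hb1' : (b : Equiv.Perm GolayPt) ≠ 1 := fun h => hb1 (Subtype.ext h)
    have hcs : (c : Equiv.Perm GolayPt) ∈ stabP o :=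
      stab_of_comm ho (Subgroup.mem_subgroupOf.mp hb) hb1' c.2 (congrArg Subtype.val hc')
    rw [Subgroup.mem_subgroupOf]
    exact conj_fixP hcs (Subgroup.mem_subgroupOf.mp hu)
  · intro u hu
    rw [Subgroup.mem_centralizer_singleton_iff]
    exact comm_UU ho u hu b hb

theorem exists_third {o : Finset GolayPt} (ho : o ∈ octads) (z : ↥M24) :
    ∃ b ∈ UU o, b ≠ 1 ∧ b ≠ z := by
  by_contra h
  have h : ∀ b ∈ UU o, b ≠ 1 → b = z := by
    intro b hb hb1
    by_contra hbz
    exact h ⟨b, hb, hb1, hbz⟩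
  have hsub : ((UU o : Subgroup ↥M24) : Set ↥M24) ⊆ {1, z} := by
    intro b hb
    by_cases hb1 : b = 1
    · left; exact hb1
    · right; exact h b hb hb1
  have h1 : ((UU o : Subgroup ↥M24) : Set ↥M24).ncard ≤ ({1, z} : Set ↥M24).ncard :=
    Set.ncard_le_ncard hsub (Set.toFinite _)
  have h2 : ({1, z} : Set ↥M24).ncard ≤ 2 := by
    have := Set.ncard_insert_le (1 : ↥M24) ({z} : Set ↥M24)
    rw [Set.ncard_singleton] at this
    exact this
  have h3 : ((UU o : Subgroup ↥M24) : Set ↥M24).ncard = 16 := by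
    rw [← card_UU ho]
    rfl
  omega

/-- **Largeness** of `O_2(C(z))` in `M24`, given the intrinsic structure. -/
theorem isLarge (z : ↥M24) (hz : orderOf z = 2)
    (hfix : fixSet (z : Equiv.Perm GolayPt) ∈ octads) (Q : Subgroup ↥M24)
    (hQ : Q = (pCore 2 ↥(Subgroup.centralizer ({z} : Set ↥M24))).map
      (Subgroup.centralizer ({z} : Set ↥M24)).subtype)
    (h1 : IsExtraspecial 2 ↥Q)
    (h4 : ∀ x ∈ Subgroup.centralizer ({z} : Set ↥M24), x ∈ Subgroup.centralizer (Q : Set ↥M24) → x ∈ Q) :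
    IsLargeExtraspecial Q := by
  have ho := hfix
  have hz1 : z ≠ 1 := by
    intro h; rw [h, orderOf_one] at hz; omega
  have hzU : z ∈ UU (fixSet (z : Equiv.Perm GolayPt)) := by
    rw [Subgroup.mem_subgroupOf, mem_fixP]
    refine ⟨z.2, ?_⟩
    intro y hy
    exact (Finset.mem_filter.mp hy).2
  have hUQ : UU (fixSet (z : Equiv.Perm GolayPt)) ≤ Q := by
    rw [hQ]; exact UU_le_pCore ho hzU hz1
  have hzQ : z ∈ Q := hUQ hzU
  have hQC : Q ≤ Subgroup.centralizer ({z} : Set ↥M24) := by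
    rw [hQ]; exact Subgroup.map_subtype_le _
  -- the centre of Q
  have hzc : (⟨z, hzQ⟩ : ↥Q) ∈ Subgroup.center ↥Q := by
    rw [Subgroup.mem_center_iff]
    intro q
    apply Subtype.ext
    exact Subgroup.mem_centralizer_singleton_iff.mp (hQC q.2)
  have hcen : ∀ x, x ∈ (Subgroup.center ↥Q).map Q.subtype ↔ x = 1 ∨ x = z := by
    obtain ⟨w, hw1, hwu⟩ := (Nat.card_eq_two_iff' (1 : Subgroup.center ↥Q)).mp h1.2
    have hzw : (⟨⟨z, hzQ⟩, hzc⟩ : Subgroup.center ↥Q) = w := by
      apply hwu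
      intro h
      apply hz1
      exact congrArg (fun u : Subgroup.center ↥Q => ((u : ↥Q) : ↥M24)) h
    intro x
    constructor
    · rintro ⟨y, hy, rfl⟩
      by_cases hy1 : (⟨y, hy⟩ : Subgroup.center ↥Q) = 1
      · left
        exact congrArg (fun u : Subgroup.center ↥Q => ((u : ↥Q) : ↥M24)) hy1
      · right
        have := hwu _ hy1
        rw [← hzw] at this
        exact congrArg (fun u : Subgroup.center ↥Q => ((u : ↥Q) : ↥M24)) this
    · rintro (rfl | rfl)
      · exact Subgroup.one_mem _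
      · exact ⟨⟨x, hzQ⟩, hzc, rfl⟩
  have hL2 : Subgroup.centralizer (Q : Set ↥M24) = (Subgroup.center ↥Q).map Q.subtype := by
    ext x
    constructor
    · intro hx
      have hxz : x ∈ Subgroup.centralizer ({z} : Set ↥M24) := by
        rw [Subgroup.mem_centralizer_singleton_iff]
        rw [Subgroup.mem_centralizer_iff] at hx
        exact (hx z hzQ).symm
      have hxQ := h4 x hxz hx
      refine ⟨⟨x, hxQ⟩, ?_, rfl⟩
      rw [SetLike.mem_coe, Subgroup.mem_center_iff]
      intro q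
      apply Subtype.ext
      rw [Subgroup.mem_centralizer_iff] at hx
      exact hx q.1 q.2
    · rintro ⟨y, hy, rfl⟩
      rw [Subgroup.mem_centralizer_iff]
      intro q hq
      rw [SetLike.mem_coe, Subgroup.mem_center_iff] at hy
      exact congrArg Subtype.val (hy ⟨q, hq⟩)
  have hL3 : Subgroup.centralizer (((Subgroup.center ↥Q).map Q.subtype : Subgroup ↥M24) : Set ↥M24) ≤
      Subgroup.normalizer (Q : Set ↥M24) := by
    intro g hg
    have hgz : g ∈ Subgroup.centralizer ({z} : Set ↥M24) := by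
      rw [Subgroup.mem_centralizer_singleton_iff]
      rw [Subgroup.mem_centralizer_iff] at hg
      exact (hg z ((hcen z).mpr (Or.inr rfl))).symm
    rw [hQ]
    exact H2.normalizer_le_normalizer_pCore 2 _ (Subgroup.le_normalizer hgz)
  obtain ⟨b, hbU, hb1, hbz⟩ := exists_third ho z
  have hbb : b * b = 1 := sq_UU ho b hbU
  refine S5421.result Q h1 hL2 hL3 b (hUQ hbU) ?_ ?_ ?_
  · rw [hcen]
    rintro (h | h)
    · exact hb1 h
    · exact hbz h
  · apply orderOf_eq_prime
    · rw [pow_two]; exact hbb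
    · exact hb1
  · intro x hx
    rw [hcen] at hx
    rcases hx with rfl | rfl
    · exact Subgroup.one_mem _
    · exact UU_le_pCore ho hbU hb1 hzU

end Cfsg.Agent.H9.M24OctadLarge
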