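import Cfsg.Agent.H9.M24CentC
import Cfsg.Agent.H9.M24OctadLarge

set_option autoImplicit false

/-!
All involutions of `M₂₄` whose fixed points form an octad are conjugate to the reference involution `zG`.
-/

namespace Cfsg.Agent.H9.M24Cent

open Cfsg Cfsg.Agent.Lib.Helper6.Golay Cfsg.Agent.Lib.Helper6.Golay.M12Out
open Cfsg.Agent.H9.M24OctadLarge
open scoped Pointwise

/-- the reference transvection -/
noncomputable def sT : Matrix.SpecialLinearGroup (Fin 5) (ZMod 2) :=
  ⟨Matrix.transvection 0 1 1, Matrix.det_transvection_of_ne 0 1 (by decide) 1⟩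

theorem sT_val : (sT : Matrix (Fin 5) (Fin 5) (ZMod 2)) = Matrix.transvection 0 1 1 := rfl

theorem card_centralizer_zG_le :
    Nat.card (Subgroup.centralizer ({zG} : Set ↥Cfsg.M24)) ≤ 21504 := by
  have hcard := Cfsg.Agent.S0445.result sT sT_val
  have : Finite ↥(Subgroup.centralizer ({sT} : Set (Matrix.SpecialLinearGroup (Fin 5) (ZMod 2)))) :=
    Nat.finite_of_card_ne_zero (by rw [hcard]; norm_num)
  have hle := Nat.card_le_card_of_injective _ (centHom_injective sT sT_val)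
  rw [hcard] at hle
  exact hle

theorem card_centralizer_zH_le :
    Nat.card (Subgroup.centralizer ({zH} : Set ↥(stabP (fs octad0)))) ≤ 21504 := by
  have : Finite ↥Cfsg.M24 := Nat.finite_of_card_ne_zero (by rw [card_M24]; norm_num)
  refine le_trans ?_ card_centralizer_zG_le
  refine Nat.card_le_card_of_injective
    (fun h : ↥(Subgroup.centralizer ({zH} : Set ↥(stabP (fs octad0)))) =>
      (⟨⟨h.1.1, (mem_stabP.1 h.1.2).1⟩, by
        rw [Subgroup.mem_centralizer_iff]
        intro t ht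
        rw [Set.mem_singleton_iff] at ht
        subst ht
        apply Subtype.ext
        have := Subgroup.mem_centralizer_iff.1 h.2 zH rfl
        exact congrArg (fun x : ↥(stabP (fs octad0)) => x.1) this⟩ :
        ↥(Subgroup.centralizer ({zG} : Set ↥Cfsg.M24)))) ?_
  intro a b hab
  apply Subtype.ext
  apply Subtype.ext
  exact congrArg (fun x : ↥(Subgroup.centralizer ({zG} : Set ↥Cfsg.M24)) => x.1.1) hab

theorem orbit_ncard_ge : 15 ≤ (MulAction.orbit (ConjAct ↥(stabP (fs octad0))) zH).ncard := by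
  have h1 := Subgroup.card_mul_index (MulAction.stabilizer (ConjAct ↥(stabP (fs octad0))) zH)
  rw [MulAction.index_stabilizer, ← Subgroup.nat_card_centralizer_nat_card_stabilizer] at h1
  have h2 : Nat.card (ConjAct ↥(stabP (fs octad0))) = 322560 := card_stabP_octad octad0_mem
  rw [h2] at h1
  have h3 := card_centralizer_zH_le
  by_contra hlt
  have hlt' : (MulAction.orbit (ConjAct ↥(stabP (fs octad0))) zH).ncard ≤ 14 := by omega
  have := Nat.mul_le_mul h3 hlt'
  omega

theorem orbit_image_sub : (Subtype.val '' (MulAction.orbit (ConjAct ↥(stabP (fs octad0))) zH) :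
      Set (Equiv.Perm GolayPt)) ⊆ ((fixP (fs octad0) : Set (Equiv.Perm GolayPt)) \ {1}) := by
  rintro _ ⟨y, hy, rfl⟩
  rw [ConjAct.mem_orbit_conjAct, isConj_iff] at hy
  obtain ⟨c0, hc0⟩ := hy
  obtain ⟨c, hc⟩ : ∃ c : ↥(stabP (fs octad0)), y = c * zH * c⁻¹ := ⟨c0⁻¹, by rw [← hc0]; group⟩
  have hy1 : y.1 = c.1 * zP * c.1⁻¹ := by rw [hc]; rfl
  obtain ⟨hcM, hco⟩ := mem_stabP.1 c.2
  refine ⟨?_, ?_⟩
  · have h1 : y.1 ∈ fixP (c.1 • fs octad0) := by
      rw [conj_mem_fixP hcM, hy1]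
      have : c.1⁻¹ * (c.1 * zP * c.1⁻¹) * c.1 = zP := by group
      rw [this]
      exact zP_mem_fixP
    rw [hco] at h1
    exact h1
  · rw [Set.mem_singleton_iff, hy1]
    intro h
    apply zP_ne
    have : zP = c.1⁻¹ * (c.1 * zP * c.1⁻¹) * c.1 := by group
    rw [this, h]
    group

theorem orbit_image_eq : (Subtype.val '' (MulAction.orbit (ConjAct ↥(stabP (fs octad0))) zH) :
      Set (Equiv.Perm GolayPt)) = ((fixP (fs octad0) : Set (Equiv.Perm GolayPt)) \ {1}) := by
  have hfin : ((fixP (fs octad0) : Set (Equiv.Perm GolayPt)) \ {1}).Finite := Set.toFinite _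
  apply Set.eq_of_subset_of_ncard_le orbit_image_sub ?_ hfin
  rw [Set.ncard_image_of_injective _ Subtype.val_injective,
    Set.ncard_sdiff_singleton_of_mem (Subgroup.one_mem _)]
  have h2 : ((fixP (fs octad0) : Set (Equiv.Perm GolayPt))).ncard = 16 := by
    rw [← Nat.card_coe_set_eq]
    exact (fixOctad octad0_mem).1
  rw [h2]
  exact orbit_ncard_ge

/-- every nonidentity element of the pointwise stabilizer of the reference octad is conjugate to `zP`
under the octad stabilizer -/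
theorem exists_conj_of_mem_fixP {u : Equiv.Perm GolayPt} (hu : u ∈ fixP (fs octad0)) (hu1 : u ≠ 1) :
    ∃ c ∈ stabP (fs octad0), u = c * zP * c⁻¹ := by
  have hmem : u ∈ ((fixP (fs octad0) : Set (Equiv.Perm GolayPt)) \ {1}) := ⟨hu, hu1⟩
  rw [← orbit_image_eq] at hmem
  obtain ⟨y, hy, rfl⟩ := hmem
  rw [ConjAct.mem_orbit_conjAct, isConj_iff] at hy
  obtain ⟨c0, hc0⟩ := hy
  refine ⟨c0⁻¹.1, c0⁻¹.2, ?_⟩
  have h1 : y = c0⁻¹ * zH * c0⁻¹⁻¹ := by rw [← hc0]; group
  exact congrArg (fun x : ↥(stabP (fs octad0)) => x.1) h1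

/-- **conjugacy**: an involution of `M₂₄` whose fixed points form an octad is conjugate to `zG` -/
theorem exists_conj (z : ↥Cfsg.M24) (hz : orderOf z = 2)
    (hfix : fixSet (z : Equiv.Perm GolayPt) ∈ octads) : ∃ g : ↥Cfsg.M24, z = g * zG * g⁻¹ := by
  have hz1 : (z : Equiv.Perm GolayPt) ≠ 1 := by
    intro h
    have : z = 1 := Subtype.ext h
    rw [this, orderOf_one] at hz; omega
  have hzU : (z : Equiv.Perm GolayPt) ∈ fixP (fixSet (z : Equiv.Perm GolayPt)) := by
    rw [mem_fixP]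
    refine ⟨z.2, ?_⟩
    intro y hy
    exact (Finset.mem_filter.mp hy).2
  obtain ⟨t, ht, hto⟩ := exists_M24_octad hfix octad0_mem
  have h1 : t * (z : Equiv.Perm GolayPt) * t⁻¹ ∈ fixP (fs octad0) := by
    rw [← hto, conj_mem_fixP ht]
    have : t⁻¹ * (t * (z : Equiv.Perm GolayPt) * t⁻¹) * t = z := by group
    rw [this]
    exact hzU
  have h2 : t * (z : Equiv.Perm GolayPt) * t⁻¹ ≠ 1 := by
    intro h
    apply hz1
    have : (z : Equiv.Perm GolayPt) = t⁻¹ * (t * (z : Equiv.Perm GolayPt) * t⁻¹) * t := by group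
    rw [this, h]; group
  obtain ⟨c, hc, hcz⟩ := exists_conj_of_mem_fixP h1 h2
  have hcM : c ∈ Cfsg.M24 := (mem_stabP.1 hc).1
  refine ⟨⟨t, ht⟩⁻¹ * ⟨c, hcM⟩, ?_⟩
  apply Subtype.ext
  show (z : Equiv.Perm GolayPt) = (t⁻¹ * c) * zP * (t⁻¹ * c)⁻¹
  have : (z : Equiv.Perm GolayPt) = t⁻¹ * (t * (z : Equiv.Perm GolayPt) * t⁻¹) * t := by group
  rw [this, hcz]
  group

end Cfsg.Agent.H9.M24Cent
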