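import Cfsg.Agent.H9.M24OctadConj
import Cfsg.Agent.H9.CentStruct

set_option autoImplicit false

/-!
The structure of the centralizer of an octad-type involution of `M₂₄`, given the structure of the centralizer
of a transvection in `SL₅(2)`.
-/

namespace Cfsg.Agent.H9.M24Cent

open Cfsg Cfsg.Agent.Lib.Helper6.Golay
open Cfsg.Agent.H9.M24OctadLarge Cfsg.Agent.H9.CentStruct

/-- centralizers of conjugate elements are isomorphic -/
def centEquivConj {G : Type*} [Group G] (g a : G) :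
    ↥(Subgroup.centralizer ({g * a * g⁻¹} : Set G)) ≃* ↥(Subgroup.centralizer ({a} : Set G)) where
  toFun x := ⟨g⁻¹ * x.1 * g, by
    have hx := Subgroup.mem_centralizer_singleton_iff.mp x.2
    rw [Subgroup.mem_centralizer_singleton_iff]
    calc g⁻¹ * x.1 * g * a = g⁻¹ * (x.1 * (g * a * g⁻¹)) * g := by group
      _ = g⁻¹ * ((g * a * g⁻¹) * x.1) * g := by rw [hx]
      _ = a * (g⁻¹ * x.1 * g) := by group⟩
  invFun y := ⟨g * y.1 * g⁻¹, by
    have hy := Subgroup.mem_centralizer_singleton_iff.mp y.2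
    rw [Subgroup.mem_centralizer_singleton_iff]
    calc g * y.1 * g⁻¹ * (g * a * g⁻¹) = g * (y.1 * a) * g⁻¹ := by group
      _ = g * (a * y.1) * g⁻¹ := by rw [hy]
      _ = g * a * g⁻¹ * (g * y.1 * g⁻¹) := by group⟩
  left_inv x := by
    apply Subtype.ext
    show g * (g⁻¹ * x.1 * g) * g⁻¹ = x.1
    group
  right_inv y := by
    apply Subtype.ext
    show g⁻¹ * (g * y.1 * g⁻¹) * g = y.1
    group
  map_mul' x y := by
    apply Subtype.ext
    show g⁻¹ * (x.1 * y.1) * g = (g⁻¹ * x.1 * g) * (g⁻¹ * y.1 * g)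
    group

/-- the intrinsic structure of the centralizer of any octad-type involution -/
theorem cs_of_cs {k : ℕ} {X : Type*} [Group X]
    (hcs : CS ↥(Subgroup.centralizer ({sT} : Set (Matrix.SpecialLinearGroup (Fin 5) (ZMod 2)))) k X)
    (z : ↥Cfsg.M24) (hz : orderOf z = 2) (hfix : fixSet (z : Equiv.Perm GolayPt) ∈ octads) :
    CS ↥(Subgroup.centralizer ({z} : Set ↥Cfsg.M24)) k X := by
  obtain ⟨g, rfl⟩ := exists_conj z hz hfix
  have hcard := Cfsg.Agent.S0445.result sT sT_val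
  have : Finite ↥(Subgroup.centralizer ({sT} : Set (Matrix.SpecialLinearGroup (Fin 5) (ZMod 2)))) :=
    Nat.finite_of_card_ne_zero (by rw [hcard]; norm_num)
  have hinj := centHom_injective sT sT_val
  have hle := Nat.card_le_card_of_injective _ hinj
  have hge := card_centralizer_zG
  have : Finite ↥(Subgroup.centralizer ({zG} : Set ↥Cfsg.M24)) := Finite.of_injective _ hinj
  have hbij : Function.Bijective (centHom sT sT_val) := by
    rw [Nat.bijective_iff_injective_and_card]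
    exact ⟨hinj, by omega⟩
  have e1 : ↥(Subgroup.centralizer ({zG} : Set ↥Cfsg.M24)) ≃*
      ↥(Subgroup.centralizer ({sT} : Set (Matrix.SpecialLinearGroup (Fin 5) (ZMod 2)))) :=
    MulEquiv.ofBijective (centHom sT sT_val) hbij
  exact CS.of_equiv ((centEquivConj g zG).trans e1).symm hcs

/-- **S5425 modulo the structure of the transvection centralizer in `SL₅(2)`** -/
theorem main_of_cs {X : Type*} [Group X]
    (hcs : CS ↥(Subgroup.centralizer ({sT} : Set (Matrix.SpecialLinearGroup (Fin 5) (ZMod 2)))) 3 X)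
    (z : ↥Cfsg.M24) (hz : orderOf z = 2) (hfix : fixSet (z : Equiv.Perm GolayPt) ∈ octads)
    (Q : Subgroup ↥Cfsg.M24)
    (hQ : Q = (Cfsg.pCore 2 ↥(Subgroup.centralizer ({z} : Set ↥Cfsg.M24))).map
      (Subgroup.centralizer ({z} : Set ↥Cfsg.M24)).subtype) :
    Cfsg.IsExtraspecial 2 ↥Q ∧ Nat.card ↥Q = 2 ^ 7 ∧
    (∃ E : Subgroup ↥Cfsg.M24, E ≤ Q ∧ Cfsg.IsElementaryAbelian 2 E ∧ Nat.card ↥E = 2 ^ 4) ∧
    Cfsg.IsLargeExtraspecial Q ∧
    ∃ K : Subgroup ↥Cfsg.M24, K ≤ Subgroup.centralizer ({z} : Set ↥Cfsg.M24) ∧ Q ⊓ K = ⊥ ∧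
      Q ⊔ K = Subgroup.centralizer ({z} : Set ↥Cfsg.M24) ∧ Nonempty (↥K ≃* X) := by
  have h := cs_of_cs hcs z hz hfix
  obtain ⟨h1, h2, h3, h4, h5⟩ := CS.to_subgroup _ h Q hQ
  exact ⟨h1, h2, h3, isLarge z hz hfix Q hQ h1 h4, h5⟩

end Cfsg.Agent.H9.M24Cent
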