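import Cfsg.Agent.H9.UniTri

set_option autoImplicit false

/-!
The triangular subgroup of `GL₄(2)` has order `64`; hence every subgroup of order `64` in a group isomorphic to
`GL₄(2)` (for instance the alternating group of degree `8`) is self-normalizing.
-/

namespace Cfsg.Agent.H9.UniTri

open Matrix

/-- positions above the diagonal -/
abbrev UpIdx := {p : Fin 4 × Fin 4 // p.1 < p.2}

theorem card_upIdx : Fintype.card UpIdx = 6 := by decide

/-- the entries above the diagonal -/
def upEntries (g : tri 4) : UpIdx → ZMod 2 := fun p =>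
  ((g : GL (Fin 4) (ZMod 2)) : Matrix (Fin 4) (Fin 4) (ZMod 2)) p.1.1 p.1.2

theorem upEntries_injective : Function.Injective upEntries := by
  intro g h hgh
  apply Subtype.ext
  apply Units.ext
  ext i j
  rcases lt_trichotomy i j with hij | hij | hij
  · exact congrFun hgh ⟨(i, j), hij⟩
  · subst hij
    rw [diag_eq_one g.2, diag_eq_one h.2]
  · rw [mem_tri.1 g.2 i j hij, mem_tri.1 h.2 i j hij]

/-- the matrix with given entries above the diagonal -/
def ofUp (f : UpIdx → ZMod 2) : Matrix (Fin 4) (Fin 4) (ZMod 2) := fun i j =>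
  if i = j then 1 else if h : i < j then f ⟨(i, j), h⟩ else 0

theorem ofUp_tri (f : UpIdx → ZMod 2) : (ofUp f).BlockTriangular id := by
  intro i j hij
  have hij' : j < i := hij
  unfold ofUp
  rw [if_neg hij'.ne', dif_neg (not_lt.2 hij'.le)]

theorem ofUp_det (f : UpIdx → ZMod 2) : (ofUp f).det = 1 := by
  rw [Matrix.det_of_isUpperTriangular (ofUp_tri f)]
  apply Finset.prod_eq_one
  intro i _
  unfold ofUp
  rw [if_pos rfl]

theorem upEntries_surjective : Function.Surjective upEntries := by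
  intro f
  have hdet : (ofUp f).det ≠ 0 := by rw [ofUp_det]; exact one_ne_zero
  refine ⟨⟨GeneralLinearGroup.mkOfDetNeZero (ofUp f) hdet, ?_⟩, ?_⟩
  · exact ofUp_tri f
  · funext p
    show ofUp f p.1.1 p.1.2 = f p
    unfold ofUp
    rw [if_neg p.2.ne, dif_pos p.2]

theorem card_tri4 : Nat.card (tri 4) = 64 := by
  rw [Nat.card_congr (Equiv.ofBijective upEntries ⟨upEntries_injective, upEntries_surjective⟩),
    Nat.card_eq_fintype_card, Fintype.card_fun, card_upIdx, ZMod.card]
  norm_num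

theorem card_GL4 : Nat.card (GL (Fin 4) (ZMod 2)) = 20160 := by
  rw [Matrix.card_GL_field]
  simp [Fin.prod_univ_succ]

/-- In a finite group, an element mapping a subgroup into itself by conjugation normalizes it. -/
theorem mem_normalizer_of_conj_le {G : Type*} [Group G] [Finite G] (Q : Subgroup G) (g : G)
    (h : ∀ x ∈ Q, g * x * g⁻¹ ∈ Q) : g ∈ Subgroup.normalizer (Q : Set G) := by
  rw [Subgroup.mem_normalizer_iff]
  intro x
  refine ⟨h x, fun hx => ?_⟩
  -- conjugation by `g` is an injective self-map of the finite set `Q`, hence surjective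
  have hinj : Function.Injective (fun q : Q => (⟨g * q.1 * g⁻¹, h q.1 q.2⟩ : Q)) := by
    intro a b hab
    have := congrArg Subtype.val hab
    simp only [mul_left_inj, mul_right_inj] at this
    exact Subtype.ext this
  obtain ⟨q, hq⟩ := (Finite.injective_iff_surjective.1 hinj) ⟨g * x * g⁻¹, hx⟩
  have := congrArg Subtype.val hq
  simp only [mul_left_inj, mul_right_inj] at this
  rw [← this]
  exact q.2

/-- every subgroup of order `64` of `GL₄(2)` is self-normalizing -/
theorem self_normalizing_GL4 (Q : Subgroup (GL (Fin 4) (ZMod 2))) (hQ : Nat.card Q = 64)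
    (g : GL (Fin 4) (ZMod 2)) (h : ∀ x ∈ Q, g * x * g⁻¹ ∈ Q) : g ∈ Q := by
  have : Fact (Nat.Prime 2) := ⟨Nat.prime_two⟩
  have hidx : ∀ R : Subgroup (GL (Fin 4) (ZMod 2)), Nat.card R = 64 → ¬ 2 ∣ R.index := by
    intro R hR
    have h1 := Subgroup.card_mul_index R
    rw [hR, card_GL4] at h1
    have : R.index = 315 := by omega
    rw [this]
    norm_num
  have hp : ∀ R : Subgroup (GL (Fin 4) (ZMod 2)), Nat.card R = 64 → IsPGroup 2 R := by
    intro R hR
    exact IsPGroup.of_card (n := 6) (by rw [hR]; norm_num)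
  obtain ⟨P, hP⟩ : ∃ P : Sylow 2 (GL (Fin 4) (ZMod 2)), (P : Subgroup _) = Q :=
    ⟨(hp Q hQ).toSylow (hidx Q hQ), rfl⟩
  obtain ⟨P0, hP0⟩ : ∃ P : Sylow 2 (GL (Fin 4) (ZMod 2)), (P : Subgroup _) = tri 4 :=
    ⟨(hp _ card_tri4).toSylow (hidx _ card_tri4), rfl⟩
  obtain ⟨c, hc⟩ := MulAction.exists_smul_eq (GL (Fin 4) (ZMod 2)) P0 P
  have hgN := mem_normalizer_of_conj_le Q g h
  -- transport to `tri 4`
  have hQc : Q = (tri 4).map (MulAut.conj c).toMonoidHom := by
    rw [← hP, ← hc, Sylow.coe_subgroup_smul, hP0]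
    rfl
  have hmem : ∀ y, y ∈ Q ↔ c⁻¹ * y * c ∈ tri 4 := by
    intro y
    rw [hQc, Subgroup.mem_map]
    constructor
    · rintro ⟨u, hu, rfl⟩
      show c⁻¹ * (c * u * c⁻¹) * c ∈ tri 4
      have : c⁻¹ * (c * u * c⁻¹) * c = u := by group
      rw [this]; exact hu
    · intro hy
      refine ⟨c⁻¹ * y * c, hy, ?_⟩
      show c * (c⁻¹ * y * c) * c⁻¹ = y
      group
  rw [hmem]
  rw [← normalizer_tri, Subgroup.mem_normalizer_iff]
  intro u
  have e1 : c⁻¹ * g * c * u * (c⁻¹ * g * c)⁻¹ = c⁻¹ * (g * (c * u * c⁻¹) * g⁻¹) * c := by group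
  rw [e1, ← hmem]
  have e2 : u = c⁻¹ * (c * u * c⁻¹) * c := by group
  rw [show (u ∈ tri 4) ↔ (c⁻¹ * (c * u * c⁻¹) * c ∈ tri 4) by rw [← e2], ← hmem]
  exact (Subgroup.mem_normalizer_iff.1 hgN (c * u * c⁻¹))

/-- every subgroup of order `64` of a group isomorphic to `GL₄(2)` is self-normalizing -/
theorem self_normalizing_of_equiv {A : Type*} [Group A] (e : A ≃* GL (Fin 4) (ZMod 2))
    (Q : Subgroup A) (hQ : Nat.card Q = 64) (g : A) (h : ∀ x ∈ Q, g * x * g⁻¹ ∈ Q) : g ∈ Q := by
  have hQ' : Nat.card (Q.map e.toMonoidHom) = 64 := by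
    rw [← hQ]
    exact Nat.card_congr (Q.equivMapOfInjective e.toMonoidHom e.injective).symm.toEquiv
  have := self_normalizing_GL4 (Q.map e.toMonoidHom) hQ' (e g) (by
    rintro _ ⟨x, hx, rfl⟩
    refine ⟨g * x * g⁻¹, h x hx, ?_⟩
    simp)
  obtain ⟨q, hq, hqe⟩ := this
  have : q = g := e.injective hqe
  rw [← this]; exact hq

end Cfsg.Agent.H9.UniTri
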