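import Cfsg.Agent.Lib.Helper6.GolayOctadMax
import Cfsg.Agent.Lib.Helper6.GolayOctadA8
import Cfsg.Agent.Lib.Helper4.Sylow
import Cfsg.Agent.H9.A7GL4B
import Cfsg.Agent.H9.UniTri4

set_option autoImplicit false

/-!
The Sylow `2`-subgroups of `M₂₄` are self-normalizing.

A Sylow `2`-subgroup `S` fixes exactly one octad `o` (the orbits of the stabilizer of `o` on the other octads
have even lengths `30`, `448`, `280`), so its normalizer lies in the stabilizer `2⁴ : A₈` of `o`; there, modulo
the normal subgroup `2⁴`, the image of `S` is a subgroup of order `64` of `A₈ ≅ GL₄(2)`, which is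
self-normalizing.
-/

namespace Cfsg.Agent.H9.M24Sylow2

open Cfsg Cfsg.Agent.Lib.Helper6.Golay
open scoped Pointwise

/-- the abstract last step -/
theorem mem_of_normalizes {H A : Type*} [Group H] [Group A] [Finite H] (ρ : H →* A)
    (hρ : Function.Surjective ρ) (e : A ≃* GL (Fin 4) (ZMod 2)) (hker : Nat.card ρ.ker = 16)
    (hH : Nat.card H = 322560) (P : Subgroup H) (hP : Nat.card P = 1024) (g : H)
    (hg : ∀ x ∈ P, g * x * g⁻¹ ∈ P) : g ∈ P := by
  have : Fact (Nat.Prime 2) := ⟨Nat.prime_two⟩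
  have hA : Nat.card A = 20160 := by
    rw [Nat.card_congr e.toEquiv, Cfsg.Agent.H9.UniTri.card_GL4]
  have hPidx : P.index = 315 := by
    have h1 := Subgroup.card_mul_index P
    rw [hP, hH] at h1
    omega
  have hPp : IsPGroup 2 P := IsPGroup.of_card (n := 10) (by rw [hP]; norm_num)
  have hKp : IsPGroup 2 ρ.ker := IsPGroup.of_card (n := 4) (by rw [hker]; norm_num)
  -- the kernel lies in `P`
  have hKP : ρ.ker ≤ P := by
    have hsup : IsPGroup 2 (ρ.ker ⊔ P : Subgroup H) := IsPGroup.to_sup_of_normal_left hKp hPp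
    have hmax := (hPp.toSylow (by rw [hPidx]; norm_num)).is_maximal' hsup le_sup_right
    have : ρ.ker ≤ ρ.ker ⊔ P := le_sup_left
    rw [hmax] at this
    exact this
  have hcomap : (P.map ρ).comap ρ = P := by
    rw [Subgroup.comap_map_eq, sup_eq_left.2 hKP]
  have hQidx : (P.map ρ).index = 315 := by
    rw [← Subgroup.index_comap_of_surjective (P.map ρ) hρ, hcomap, hPidx]
  have hQ : Nat.card (P.map ρ) = 64 := by
    have h1 := Subgroup.card_mul_index (P.map ρ)
    rw [hQidx, hA] at h1
    omega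
  have hmem := Cfsg.Agent.H9.UniTri.self_normalizing_of_equiv e (P.map ρ) hQ (ρ g) (by
    rintro _ ⟨x, hx, rfl⟩
    refine ⟨g * x * g⁻¹, hg x hx, ?_⟩
    rw [map_mul, map_mul, map_inv])
  have : g ∈ (P.map ρ).comap ρ := hmem
  rwa [hcomap] at this

/-- the group -/
abbrev G := ↥Cfsg.M24

theorem card_G : Nat.card G = 2 ^ 10 * 239085 := by
  rw [card_M24]
  norm_num

theorem card_sylow (S : Sylow 2 G) : Nat.card (S : Subgroup G) = 1024 := by
  have : Fact (Nat.Prime 2) := ⟨Nat.prime_two⟩
  have := Cfsg.Agent.Lib.Helper4.Sylow.card_sylow_of_card_eq card_G (by norm_num) S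
  rw [this]
  norm_num

/-- a Sylow `2`-subgroup fixes an octad -/
theorem exists_octad (S : Sylow 2 G) :
    ∃ o ∈ octads, ∀ s ∈ (S : Subgroup G), (s : Equiv.Perm GolayPt) • o = o := by
  have : Fact (Nat.Prime 2) := ⟨Nat.prime_two⟩
  have hS : IsPGroup 2 (S : Subgroup G) := S.isPGroup'
  have hcard : Nat.card ↥(MulAction.orbit G (fs octad0)) = 759 := by
    rw [orbit_M24_octad octad0_mem, Nat.card_coe_set_eq, ncard_octads]
  obtain ⟨a, ha⟩ := hS.nonempty_fixed_point_of_prime_not_dvd_card
    ↥(MulAction.orbit G (fs octad0)) (by rw [hcard]; norm_num)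
  have ha1 : a.1 ∈ octads := by
    have h1 : a.1 ∈ MulAction.orbit G (fs octad0) := a.2
    have h2 : MulAction.orbit G (fs octad0) = octads := orbit_M24_octad octad0_mem
    exact h2 ▸ h1
  refine ⟨a.1, ha1, fun s hs => ?_⟩
  have := ha ⟨s, hs⟩
  exact congrArg Subtype.val this

/-- the stabilizer of `o` in the group -/
abbrev stab (o : Finset GolayPt) : Subgroup G := MulAction.stabilizer G o

theorem mem_stab {o : Finset GolayPt} {g : G} : g ∈ stab o ↔ (g : Equiv.Perm GolayPt) • o = o :=
  MulAction.mem_stabilizer_iff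

/-- the orbit of an octad under the stabilizer of another one has even length -/
theorem even_orbit {o o' : Finset GolayPt} (ho : o ∈ octads) (ho' : o' ∈ octads) (hne : o' ≠ o) :
    Even (MulAction.orbit (stab o) o').ncard := by
  have horb : ∀ k, (o ∩ o').card = k →
      MulAction.orbit (stab o) o' = {x : Finset GolayPt | x ∈ octads ∧ (o ∩ x).card = k} := by
    intro k hk
    ext x
    constructor
    · rintro ⟨h, rfl⟩
      have hh : (h.1 : Equiv.Perm GolayPt) • o = o := mem_stab.1 h.2
      refine ⟨smul_mem_octads h.1.2 ho', ?_⟩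
      show (o ∩ (h.1 : Equiv.Perm GolayPt) • o').card = k
      rw [← hk]
      nth_rewrite 1 [← hh]
      exact smul_inter_card _ _ _
    · rintro ⟨hx, hxk⟩
      obtain ⟨g, hg, hgo, hgx⟩ := exists_stab_octad_map ho ho' hx (hk.trans hxk.symm)
      exact ⟨⟨⟨g, hg⟩, mem_stab.2 hgo⟩, hgx⟩
  rcases card_octad_inter_octad ho ho' with hk | hk | hk | hk
  · rw [horb 0 hk, ncard_octad_inter_octad ho 0, cntOct0]; decide
  · rw [horb 2 hk, ncard_octad_inter_octad ho 2, cntOct2]; decide
  · rw [horb 4 hk, ncard_octad_inter_octad ho 4, cntOct4]; decide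
  · exfalso
    apply hne
    have e1 : o ∩ o' = o' :=
      Finset.eq_of_subset_of_card_le Finset.inter_subset_right (by rw [hk, ho'.2])
    have e2 : o ∩ o' = o :=
      Finset.eq_of_subset_of_card_le Finset.inter_subset_left (by rw [hk, ho.2])
    rw [← e1, e2]

/-- the octad fixed by a Sylow `2`-subgroup is unique -/
theorem octad_unique (S : Sylow 2 G) {o o' : Finset GolayPt} (ho : o ∈ octads) (ho' : o' ∈ octads)
    (hSo : ∀ s ∈ (S : Subgroup G), (s : Equiv.Perm GolayPt) • o = o)
    (hSo' : ∀ s ∈ (S : Subgroup G), (s : Equiv.Perm GolayPt) • o' = o') : o' = o := by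
  by_contra hne
  have heven := even_orbit ho ho' hne
  rw [← MulAction.index_stabilizer] at heven
  have hle : (S : Subgroup G) ≤ stab o := fun s hs => mem_stab.2 (hSo s hs)
  have hle2 : (S : Subgroup G).subgroupOf (stab o) ≤ MulAction.stabilizer (stab o) o' := by
    intro x hx
    rw [MulAction.mem_stabilizer_iff]
    exact hSo' x.1 hx
  have hdvd := Subgroup.index_dvd_of_le hle2
  have hcardS : Nat.card ((S : Subgroup G).subgroupOf (stab o)) = 1024 := by
    rw [← card_sylow S]
    exact Nat.card_congr (Subgroup.subgroupOfEquivOfLe hle).toEquiv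
  have hidx : ((S : Subgroup G).subgroupOf (stab o)).index = 315 := by
    have h1 := Subgroup.card_mul_index ((S : Subgroup G).subgroupOf (stab o))
    rw [hcardS, card_stabilizer_octad ho] at h1
    omega
  rw [hidx] at hdvd
  obtain ⟨m, hm⟩ := heven
  rw [hm] at hdvd
  have : (2 : ℕ) ∣ 315 := Dvd.dvd.trans ⟨m, by ring⟩ hdvd
  omega

/-- **The Sylow `2`-subgroups of `M₂₄` are self-normalizing.** -/
theorem normalizer_sylow (S : Sylow 2 G) :
    Subgroup.normalizer ((S : Subgroup G) : Set G) = (S : Subgroup G) := by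
  apply le_antisymm _ Subgroup.le_normalizer
  intro g hg
  obtain ⟨o, ho, hSo⟩ := exists_octad S
  -- `g` fixes `o`
  have hgo : (g : Equiv.Perm GolayPt) • o = o := by
    apply octad_unique S ho (smul_mem_octads g.2 ho) hSo
    intro s hs
    have h1 : g⁻¹ * s * g ∈ (S : Subgroup G) := by
      have hg' : g⁻¹ ∈ Subgroup.normalizer ((S : Subgroup G) : Set G) := Subgroup.inv_mem _ hg
      have := (Subgroup.mem_normalizer_iff.1 hg' s).1 hs
      rwa [inv_inv] at this
    have h2 := hSo _ h1
    have h3 : ((g⁻¹ * s * g : G) : Equiv.Perm GolayPt) =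
        (g : Equiv.Perm GolayPt)⁻¹ * (s : Equiv.Perm GolayPt) * (g : Equiv.Perm GolayPt) := rfl
    rw [h3, mul_smul, mul_smul, inv_smul_eq_iff] at h2
    exact h2
  -- pass to the stabilizer of `o` as a subgroup of the symmetric group
  let ι : ↥(stabP o) →* G := Subgroup.inclusion (inf_le_left : stabP o ≤ Cfsg.M24)
  have hιinj : Function.Injective ι := Subgroup.inclusion_injective _
  have hcardP : Nat.card ((S : Subgroup G).comap ι) = 1024 := by
    rw [← card_sylow S]
    refine Nat.card_congr ⟨fun x => ⟨ι x.1, x.2⟩,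
      fun s => ⟨⟨s.1.1, mem_stabP.2 ⟨s.1.2, hSo s.1 s.2⟩⟩, ?_⟩, fun x => rfl, fun s => rfl⟩
    show ι ⟨s.1.1, _⟩ ∈ (S : Subgroup G)
    exact s.2
  have hrange : (restrictHom o).range = alternatingGroup ↥o := range_restrictHom ho
  have hcardo : Fintype.card ↥o = Fintype.card (Fin 8) := by
    rw [Fintype.card_coe, ho.2, Fintype.card_fin]
  obtain ⟨e8⟩ := Cfsg.Agent.H9.A7GL4.exists_mulEquiv_GL_A8
  let e : ↥(restrictHom o).range ≃* GL (Fin 4) (ZMod 2) :=
    ((MulEquiv.subgroupCongr hrange).trans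
      (Equiv.altCongrHom (Fintype.equivOfCardEq hcardo))).trans e8.symm
  have : Finite ↥(stabP o) := Finite.of_injective ι hιinj
  have key := mem_of_normalizes (restrictHom o).rangeRestrict
    (restrictHom o).rangeRestrict_surjective e
    (by rw [MonoidHom.ker_rangeRestrict, card_ker_restrictHom ho]) (card_stabP_octad ho)
    ((S : Subgroup G).comap ι) hcardP ⟨g.1, mem_stabP.2 ⟨g.2, hgo⟩⟩ (by
      intro x hx
      rw [Subgroup.mem_comap] at hx ⊢
      rw [map_mul, map_mul, map_inv]
      exact (Subgroup.mem_normalizer_iff.1 hg _).1 hx)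
  exact key

end Cfsg.Agent.H9.M24Sylow2
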