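import Mathlib
import Cfsg.Prelude.Def_AxialAlgebras

set_option autoImplicit false

/-! helper9: commuting Majorana involutions generate a 2A or 2B algebra. -/

namespace Cfsg.Agent.H9.Majorana

open Cfsg.Axial

variable {V : Type*} [AddCommGroup V] [Module ℝ V]

lemma mem_eigen {mul : V →ₗ[ℝ] V →ₗ[ℝ] V} {a x : V} {c : ℝ} :
    x ∈ eigen mul a c ↔ mul a x = c • x := Module.End.mem_eigenspace_iff

lemma eigen_le_eigenSum (mul : V →ₗ[ℝ] V →ₗ[ℝ] V) (a : V) (S : Set ℝ) {c : ℝ} (hc : c ∈ S) :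
    eigen mul a c ≤ eigenSum mul a S :=
  le_iSup₂ (f := fun c _ => eigen mul a c) c hc

lemma law_zero_zero : monsterLaw (1 / 4 : ℝ) (1 / 32) 0 0 = {0} := by
  unfold monsterLaw
  norm_num

lemma law_zero_alpha : monsterLaw (1 / 4 : ℝ) (1 / 32) 0 (1 / 4) = {1 / 4} := by
  unfold monsterLaw
  norm_num

lemma law_alpha_alpha : monsterLaw (1 / 4 : ℝ) (1 / 32) (1 / 4) (1 / 4) = {1, 0} := by
  unfold monsterLaw
  norm_num

lemma eigenSum_singleton (mul : V →ₗ[ℝ] V →ₗ[ℝ] V) (a : V) (c : ℝ) :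
    eigenSum mul a {c} = eigen mul a c := by
  unfold eigenSum
  rw [iSup_singleton]

lemma eigenSum_pair (mul : V →ₗ[ℝ] V →ₗ[ℝ] V) (a : V) (c d : ℝ) :
    eigenSum mul a {c, d} = eigen mul a c ⊔ eigen mul a d := by
  unfold eigenSum
  rw [iSup_insert, iSup_singleton]

lemma eigenSum_spectrum (mul : V →ₗ[ℝ] V →ₗ[ℝ] V) (a : V) :
    eigenSum mul a majoranaSpectrum =
      eigen mul a 1 ⊔ (eigen mul a 0 ⊔ (eigen mul a (1 / 4) ⊔ eigen mul a (1 / 32))) := by
  unfold eigenSum majoranaSpectrum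
  rw [iSup_insert, iSup_insert, iSup_insert, iSup_singleton]


lemma eigen_map (mul : V →ₗ[ℝ] V →ₗ[ℝ] V) (σ : V ≃ₗ[ℝ] V)
    (hσ : ∀ u v, σ (mul u v) = mul (σ u) (σ v)) (a : V) (c : ℝ) :
    eigen mul (σ a) c = (eigen mul a c).map (σ : V →ₗ[ℝ] V) := by
  ext x
  rw [Submodule.mem_map, mem_eigen]
  constructor
  · intro h
    refine ⟨σ.symm x, ?_, by simp⟩
    rw [mem_eigen]
    apply σ.injective
    rw [hσ, map_smul, LinearEquiv.apply_symm_apply, h]
  · rintro ⟨y, hy, rfl⟩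
    rw [mem_eigen] at hy
    show mul (σ a) (σ y) = c • σ y
    rw [← hσ, hy, map_smul]

lemma eigenSum_map (mul : V →ₗ[ℝ] V →ₗ[ℝ] V) (σ : V ≃ₗ[ℝ] V)
    (hσ : ∀ u v, σ (mul u v) = mul (σ u) (σ v)) (a : V) (T : Set ℝ) :
    eigenSum mul (σ a) T = (eigenSum mul a T).map (σ : V →ₗ[ℝ] V) := by
  unfold eigenSum
  simp_rw [Submodule.map_iSup, eigen_map mul σ hσ]

lemma pair_map (mul : V →ₗ[ℝ] V →ₗ[ℝ] V) (B : LinearMap.BilinForm ℝ V) (σ μ : V ≃ₗ[ℝ] V) (a : V)
    (hσ : ∀ u v, σ (mul u v) = mul (σ u) (σ v)) (hcomm : σ * μ = μ * σ)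
    (h : IsMajoranaPair mul B μ a) : IsMajoranaPair mul B μ (σ a) := by
  obtain ⟨h1, h2, ⟨⟨ha0, haa, hsum, hfus⟩, hprim⟩, hm1, hm2⟩ := h
  have hc : ∀ v, μ (σ v) = σ (μ v) := by
    intro v
    have := congrArg (fun f : V ≃ₗ[ℝ] V => f v) hcomm
    simp only [LinearEquiv.mul_apply] at this
    exact this.symm
  refine ⟨h1, h2, ⟨⟨?_, ?_, ?_, ?_⟩, ?_⟩, ?_, ?_⟩
  · intro h0
    apply ha0
    apply σ.injective
    rw [h0, map_zero]
  · rw [← hσ, haa]
  · rw [eigenSum_map mul σ hσ, hsum, Submodule.map_top]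
    exact LinearEquiv.range σ
  · intro c hc' d hd u hu v hv
    rw [eigen_map mul σ hσ] at hu hv
    obtain ⟨u', hu', rfl⟩ := hu
    obtain ⟨v', hv', rfl⟩ := hv
    rw [eigenSum_map mul σ hσ]
    refine ⟨mul u' v', hfus c hc' d hd u' hu' v' hv', ?_⟩
    exact hσ u' v'
  · rw [eigen_map mul σ hσ, hprim, Submodule.map_span, Set.image_singleton]
    rfl
  · intro v hv
    rw [eigenSum_map mul σ hσ] at hv
    obtain ⟨v', hv', rfl⟩ := hv
    show μ (σ v') = σ v'
    rw [hc, show μ v' = v' from hm1 v' hv']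
  · intro v hv
    rw [eigen_map mul σ hσ] at hv
    obtain ⟨v', hv', rfl⟩ := hv
    show μ (σ v') = -(σ v')
    rw [hc, show μ v' = -v' from hm2 v' hv', map_neg]


lemma side (mul : V →ₗ[ℝ] V →ₗ[ℝ] V) (B : LinearMap.BilinForm ℝ V)
    (hV : IsMajoranaAmbient mul B) (μ : V ≃ₗ[ℝ] V) (a b : V) (h : IsMajoranaPair mul B μ a)
    (hn : B a a = 1) (hfix : μ b = b) (hbb : mul b b = b) :
    mul a (mul a b) = (3 * B a b / 4) • a + (1 / 4 : ℝ) • mul a b ∧
    mul (b + (3 * B a b) • a - (4 : ℝ) • mul a b) (mul a b - (B a b) • a) =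
      ((2 - B a b) / 4) • (mul a b - (B a b) • a) := by
  obtain ⟨hcommul, hsymm, hpos, hassoc, hnorton⟩ := hV
  obtain ⟨h1, h2, ⟨⟨ha0, haa, hsum, hfus⟩, hprim⟩, hm1, hm2⟩ := h
  have htop : b ∈ eigenSum mul a majoranaSpectrum := by rw [hsum]; trivial
  rw [eigenSum_spectrum] at htop
  obtain ⟨b1, hb1, r1, hr1, e1⟩ := Submodule.mem_sup.1 htop
  obtain ⟨b0, hb0, r2, hr2, e2⟩ := Submodule.mem_sup.1 hr1
  obtain ⟨bα, hbα, bβ, hbβ, e3⟩ := Submodule.mem_sup.1 hr2
  have hμ1 : μ b1 = b1 := hm1 b1 (eigen_le_eigenSum mul a _ (by simp) hb1)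
  have hμ0 : μ b0 = b0 := hm1 b0 (eigen_le_eigenSum mul a _ (by simp) hb0)
  have hμα : μ bα = bα := hm1 bα (eigen_le_eigenSum mul a _ (by simp) hbα)
  have hμβ : μ bβ = -bβ := hm2 bβ hbβ
  have hβ0 : bβ = 0 := by
    have h3 : μ b = b1 + (b0 + (bα + -bβ)) := by
      rw [← e1, ← e2, ← e3, map_add, map_add, map_add, hμ1, hμ0, hμα, hμβ]
    rw [hfix] at h3
    have h4 : (2 : ℝ) • bβ = 0 := by
      have h5 : b = b1 + (b0 + (bα + bβ)) := by rw [e3, e2, e1]
      have h6 : b1 + (b0 + (bα + bβ)) = b1 + (b0 + (bα + -bβ)) := by rw [← h5, ← h3]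
      have h7 : bβ = -bβ := add_left_cancel (add_left_cancel (add_left_cancel h6))
      rw [two_smul]
      nth_rewrite 2 [h7]
      exact add_neg_cancel bβ
    exact (smul_eq_zero.1 h4).resolve_left (by norm_num)
  rw [hprim] at hb1
  obtain ⟨t, ht⟩ := Submodule.mem_span_singleton.1 hb1
  have hb : b = t • a + (b0 + bα) := by
    rw [← e1, ← e2, ← e3, hβ0, add_zero, ht]
  have ha0' : mul a b0 = 0 := by
    have := mem_eigen.1 hb0
    rw [zero_smul] at this
    exact this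
  have haα' : mul a bα = (1 / 4 : ℝ) • bα := mem_eigen.1 hbα
  have hB0 : B a b0 = 0 := by
    have := hassoc a a b0
    rw [ha0', map_zero, haa] at this
    exact this.symm
  have hBα : B a bα = 0 := by
    have := hassoc a a bα
    rw [haα', map_smul, haa, smul_eq_mul] at this
    linarith
  have hBt : B a b = t := by
    rw [hb, map_add, map_add, map_smul, hn, hB0, hBα, smul_eq_mul]
    ring
  rw [hBt]
  have hc : mul a b = t • a + (1 / 4 : ℝ) • bα := by
    rw [hb, map_add, map_add, map_smul, haa, ha0', haα', zero_add]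
  have hac : mul a (mul a b) = t • a + (1 / 16 : ℝ) • bα := by
    rw [hc, map_add, map_smul, map_smul, haa, haα', smul_smul]
    norm_num
  refine ⟨?_, ?_⟩
  · rw [hac, hc]
    module
  · -- fusion
    have hS0 : (0 : ℝ) ∈ majoranaSpectrum := by unfold majoranaSpectrum; simp
    have hSα : (1 / 4 : ℝ) ∈ majoranaSpectrum := by unfold majoranaSpectrum; simp
    have hy0 : mul b0 b0 ∈ eigen mul a 0 := by
      have := hfus 0 hS0 0 hS0 b0 hb0 b0 hb0
      rw [law_zero_zero, eigenSum_singleton] at this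
      exact this
    have hyα : mul b0 bα ∈ eigen mul a (1 / 4) := by
      have := hfus 0 hS0 (1 / 4) hSα b0 hb0 bα hbα
      rw [law_zero_alpha, eigenSum_singleton] at this
      exact this
    have hw : mul bα bα ∈ eigen mul a 1 ⊔ eigen mul a 0 := by
      have := hfus (1 / 4) hSα (1 / 4) hSα bα hbα bα hbα
      rw [law_alpha_alpha, eigenSum_pair] at this
      exact this
    obtain ⟨w1, hw1, w0, hw0, ew⟩ := Submodule.mem_sup.1 hw
    have hexp : mul b b = (t * t) • a + (t / 2) • bα + mul b0 b0 + (2 : ℝ) • mul b0 bα + (w1 + w0) := by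
      conv_lhs => rw [hb]
      simp only [map_add, map_smul, LinearMap.add_apply, LinearMap.smul_apply]
      rw [hcommul b0 a, hcommul bα a, hcommul bα b0, haa, ha0', haα', ew]
      module
    have hD1 : bα - (t / 2) • bα - (2 : ℝ) • mul b0 bα ∈ eigen mul a (1 / 4) :=
      Submodule.sub_mem _ (Submodule.sub_mem _ hbα (Submodule.smul_mem _ _ hbα))
        (Submodule.smul_mem _ _ hyα)
    have hp : (t * t - t) • a + w1 ∈ eigen mul a 1 := by
      refine Submodule.add_mem _ (Submodule.smul_mem _ _ ?_) hw1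
      rw [mem_eigen, haa, one_smul]
    have hq : mul b0 b0 + w0 - b0 ∈ eigen mul a 0 :=
      Submodule.sub_mem _ (Submodule.add_mem _ hy0 hw0) hb0
    have hD2 : bα - (t / 2) • bα - (2 : ℝ) • mul b0 bα =
        ((t * t - t) • a + w1) + (mul b0 b0 + w0 - b0) := by
      have h3 := hbb
      rw [hexp] at h3
      rw [hb] at h3
      linear_combination (norm := module) (-1 : ℝ) • h3
    set D := bα - (t / 2) • bα - (2 : ℝ) • mul b0 bα with hD
    have e4 : mul a D = (1 / 4 : ℝ) • D := mem_eigen.1 hD1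
    have e5 : mul a D = (t * t - t) • a + w1 := by
      rw [hD2, map_add, mem_eigen.1 hp, mem_eigen.1 hq, one_smul, zero_smul, add_zero]
    have e6 : mul a (mul a D) = mul a D := by
      rw [e5, mem_eigen.1 hp, one_smul]
    have hD0 : D = 0 := by
      rw [e4, map_smul, e4, smul_smul] at e6
      have : ((1 / 4 * (1 / 4) : ℝ) - 1 / 4) • D = 0 := by
        rw [sub_smul, e6, sub_self]
      exact (smul_eq_zero.1 this).resolve_left (by norm_num)
    have hyα' : mul b0 bα = ((2 - t) / 4) • bα := by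
      have : (2 : ℝ) • mul b0 bα = bα - (t / 2) • bα := by
        rw [hD] at hD0
        exact (sub_eq_zero.1 hD0).symm
      have h3 : mul b0 bα = (1 / 2 : ℝ) • ((2 : ℝ) • mul b0 bα) := by
        rw [smul_smul]; norm_num
      rw [h3, this]
      module
    have e_b0 : b + (3 * t) • a - (4 : ℝ) • mul a b = b0 := by
      rw [hc]
      nth_rewrite 1 [hb]
      module
    have e_cα : mul a b - t • a = (1 / 4 : ℝ) • bα := by
      rw [hc]
      module
    rw [e_b0, e_cα, map_smul, hyα']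
    module


theorem main (mul : V →ₗ[ℝ] V →ₗ[ℝ] V) (B : LinearMap.BilinForm ℝ V)
    (hV : IsMajoranaAmbient mul B) (μ₀ μ₁ : V ≃ₗ[ℝ] V) (a b : V)
    (h₀ : IsMajoranaPair mul B μ₀ a) (h₁ : IsMajoranaPair mul B μ₁ b)
    (hu₀ : ∀ x : V, IsMajoranaPair mul B μ₀ x → x = a)
    (hu₁ : ∀ x : V, IsMajoranaPair mul B μ₁ x → x = b)
    (hn₀ : B a a = 1) (hn₁ : B b b = 1) (hc : μ₀ * μ₁ = μ₁ * μ₀) (hne : a ≠ b) :
    (B a b = 0 ∧ mul a b = 0) ∨
    (B a b = 1 / 8 ∧
      mul (a + b - (8 : ℝ) • mul a b) (a + b - (8 : ℝ) • mul a b) = a + b - (8 : ℝ) • mul a b ∧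
      mul a (a + b - (8 : ℝ) • mul a b) = (1 / 8 : ℝ) • (a + (a + b - (8 : ℝ) • mul a b) - b) ∧
      mul b (a + b - (8 : ℝ) • mul a b) = (1 / 8 : ℝ) • (b + (a + b - (8 : ℝ) • mul a b) - a)) := by
  have hfix01 : μ₀ b = b := hu₁ _ (pair_map mul B μ₀ μ₁ b h₀.1 hc h₁)
  have hfix10 : μ₁ a = a := hu₀ _ (pair_map mul B μ₁ μ₀ a h₁.1 hc.symm h₀)
  have haa : mul a a = a := h₀.2.2.1.1.2.1
  have hbb : mul b b = b := h₁.2.2.1.1.2.1
  obtain ⟨h1a, h2a⟩ := side mul B hV μ₀ a b h₀ hn₀ hfix01 hbb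
  obtain ⟨h1b, h2b⟩ := side mul B hV μ₁ b a h₁ hn₁ hfix10 haa
  obtain ⟨hcommul, hsymm, hpos, hassoc, hnorton⟩ := hV
  have hba : mul b a = mul a b := hcommul b a
  have hca : mul (mul a b) a = mul a (mul a b) := hcommul _ _
  have hcb : mul (mul a b) b = mul b (mul a b) := hcommul _ _
  rw [hba, hsymm b a] at h1b h2b
  have hnort := hnorton a b
  rw [haa, hbb] at hnort
  generalize B a b = t at *
  have Ea : (4 : ℝ) • mul (mul a b) (mul a b) =
      (3 * t / 4) • b + ((4 * t - 1) / 4) • mul a b + ((8 * t * t + 2 * t) / 4) • a := by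
    have h := h2a
    simp only [map_add, map_sub, map_smul, LinearMap.add_apply, LinearMap.sub_apply,
      LinearMap.smul_apply] at h
    simp only [hba, hca, haa, h1a, h1b] at h
    linear_combination (norm := module) (-1 : ℝ) • h
  have Eb : (4 : ℝ) • mul (mul a b) (mul a b) =
      (3 * t / 4) • a + ((4 * t - 1) / 4) • mul a b + ((8 * t * t + 2 * t) / 4) • b := by
    have h := h2b
    simp only [map_add, map_sub, map_smul, LinearMap.add_apply, LinearMap.sub_apply,
      LinearMap.smul_apply] at h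
    simp only [hba, hcb, hbb, h1a, h1b] at h
    linear_combination (norm := module) (-1 : ℝ) • h
  have hkey : (8 * t * t - t) • (a - b) = 0 := by
    linear_combination (norm := module) (4 : ℝ) • Eb - (4 : ℝ) • Ea
  rcases smul_eq_zero.1 hkey with ht | hab
  · have ht' : t = 0 ∨ t = 1 / 8 := by
      have : t * (8 * t - 1) = 0 := by linarith
      rcases mul_eq_zero.1 this with h | h
      · left; exact h
      · right; linarith
    rcases ht' with ht' | ht'
    · left
      refine ⟨ht', ?_⟩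
      by_contra hne0
      have := hpos _ hne0
      rw [ht'] at hnort
      linarith
    · right
      subst ht'
      refine ⟨rfl, ?_, ?_, ?_⟩
      · simp only [map_add, map_sub, map_smul, LinearMap.add_apply, LinearMap.sub_apply,
          LinearMap.smul_apply]
        simp only [hba, hca, hcb, haa, hbb, h1a, h1b]
        linear_combination (norm := module) (16 : ℝ) • Ea
      · simp only [map_add, map_sub, map_smul, LinearMap.add_apply, LinearMap.sub_apply,
          LinearMap.smul_apply]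
        simp only [haa, h1a]
        module
      · simp only [map_add, map_sub, map_smul, LinearMap.add_apply, LinearMap.sub_apply,
          LinearMap.smul_apply]
        simp only [hba, hbb, h1b]
        module
  · exact absurd (sub_eq_zero.1 hab) hne

end Cfsg.Agent.H9.Majorana
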