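import Mathlib

set_option autoImplicit false

namespace Cfsg.Agent.H9.Minus4

universe u

/-- the quadratic algebra `F[θ]/(θ² - aθ + b)`, with elements `re + θ·im` -/
@[ext]
structure QE (F : Type u) (a b : F) : Type u where
  re : F
  im : F

namespace QE

variable {F : Type u} [Field F] {a b : F}

instance : Zero (QE F a b) := ⟨⟨0, 0⟩⟩
instance : One (QE F a b) := ⟨⟨1, 0⟩⟩
instance : Add (QE F a b) := ⟨fun z w => ⟨z.re + w.re, z.im + w.im⟩⟩
instance : Neg (QE F a b) := ⟨fun z => ⟨-z.re, -z.im⟩⟩
instance : Sub (QE F a b) := ⟨fun z w => ⟨z.re - w.re, z.im - w.im⟩⟩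
instance : Mul (QE F a b) :=
  ⟨fun z w => ⟨z.re * w.re - b * z.im * w.im, z.re * w.im + z.im * w.re + a * z.im * w.im⟩⟩

@[simp] theorem zero_re : (0 : QE F a b).re = 0 := rfl
@[simp] theorem zero_im : (0 : QE F a b).im = 0 := rfl
@[simp] theorem one_re : (1 : QE F a b).re = 1 := rfl
@[simp] theorem one_im : (1 : QE F a b).im = 0 := rfl
@[simp] theorem add_re (z w : QE F a b) : (z + w).re = z.re + w.re := rfl
@[simp] theorem add_im (z w : QE F a b) : (z + w).im = z.im + w.im := rfl
@[simp] theorem neg_re (z : QE F a b) : (-z).re = -z.re := rfl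
@[simp] theorem neg_im (z : QE F a b) : (-z).im = -z.im := rfl
@[simp] theorem sub_re (z w : QE F a b) : (z - w).re = z.re - w.re := rfl
@[simp] theorem sub_im (z w : QE F a b) : (z - w).im = z.im - w.im := rfl
@[simp] theorem mul_re (z w : QE F a b) : (z * w).re = z.re * w.re - b * z.im * w.im := rfl
@[simp] theorem mul_im (z w : QE F a b) :
    (z * w).im = z.re * w.im + z.im * w.re + a * z.im * w.im := rfl

instance : CommRing (QE F a b) where
  add_assoc x y z := by ext <;> simp <;> ring
  zero_add x := by ext <;> simp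
  add_zero x := by ext <;> simp
  add_comm x y := by ext <;> simp <;> ring
  neg_add_cancel x := by ext <;> simp
  sub_eq_add_neg x y := by ext <;> simp <;> ring
  mul_assoc x y z := by ext <;> simp <;> ring
  one_mul x := by ext <;> simp
  mul_one x := by ext <;> simp
  left_distrib x y z := by ext <;> simp <;> ring
  right_distrib x y z := by ext <;> simp <;> ring
  mul_comm x y := by ext <;> simp <;> ring
  zero_mul x := by ext <;> simp
  mul_zero x := by ext <;> simp
  nsmul := nsmulRec
  zsmul := zsmulRec

/-- the embedding of `F` -/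
def of (x : F) : QE F a b := ⟨x, 0⟩

@[simp] theorem of_re (x : F) : (of x : QE F a b).re = x := rfl
@[simp] theorem of_im (x : F) : (of x : QE F a b).im = 0 := rfl

/-- conjugation -/
def conj (z : QE F a b) : QE F a b := ⟨z.re + a * z.im, -z.im⟩

@[simp] theorem conj_re (z : QE F a b) : (conj z).re = z.re + a * z.im := rfl
@[simp] theorem conj_im (z : QE F a b) : (conj z).im = -z.im := rfl

/-- the norm form -/
def nrm (z : QE F a b) : F := z.re ^ 2 + a * z.re * z.im + b * z.im ^ 2

theorem mul_conj (z : QE F a b) : z * conj z = of (nrm z) := by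
  ext <;> simp [nrm] <;> ring

theorem conj_mul (z w : QE F a b) : conj (z * w) = conj z * conj w := by
  ext <;> simp <;> ring

theorem conj_add (z w : QE F a b) : conj (z + w) = conj z + conj w := by
  ext <;> simp <;> ring

theorem conj_conj (z : QE F a b) : conj (conj z) = z := by
  ext <;> simp

theorem nrm_mul (z w : QE F a b) : nrm (z * w) = nrm z * nrm w := by
  simp [nrm]; ring

theorem of_mul (x y : F) : (of (x * y) : QE F a b) = of x * of y := by
  ext <;> simp

theorem of_add (x y : F) : (of (x + y) : QE F a b) = of x + of y := by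
  ext <;> simp

theorem of_one : (of 1 : QE F a b) = 1 := rfl

theorem of_zero : (of 0 : QE F a b) = 0 := rfl

theorem of_injective : Function.Injective (of : F → QE F a b) := by
  intro x y h
  exact congrArg QE.re h

theorem conj_of (x : F) : conj (of x : QE F a b) = of x := by
  ext <;> simp

/-- anisotropy of the norm form -/
def Aniso (a b : F) : Prop := ∀ z₁ z₂ : F, z₁ ^ 2 + a * z₁ * z₂ + b * z₂ ^ 2 = 0 → z₁ = 0 ∧ z₂ = 0

theorem eq_zero_of_nrm (hab : Aniso a b) (z : QE F a b) (h : nrm z = 0) : z = 0 := by
  obtain ⟨h1, h2⟩ := hab z.re z.im h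
  ext
  · exact h1
  · exact h2

theorem isDomain (hab : Aniso a b) : IsDomain (QE F a b) := by
  have : Nontrivial (QE F a b) := ⟨⟨0, 1, fun h => by
    have := congrArg QE.re h
    simp at this⟩⟩
  have : NoZeroDivisors (QE F a b) := ⟨fun {z w} h => by
    have h1 : nrm z * nrm w = 0 := by
      rw [← nrm_mul, h]
      simp [nrm]
    rcases mul_eq_zero.1 h1 with h2 | h2
    · exact Or.inl (eq_zero_of_nrm hab z h2)
    · exact Or.inr (eq_zero_of_nrm hab w h2)⟩
  exact NoZeroDivisors.to_isDomain _

/-- the underlying equivalence with pairs -/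
def equivProd : QE F a b ≃ F × F where
  toFun z := (z.re, z.im)
  invFun p := ⟨p.1, p.2⟩
  left_inv _ := rfl
  right_inv _ := rfl

noncomputable instance [Fintype F] : Fintype (QE F a b) := Fintype.ofEquiv _ equivProd.symm

omit [Field F] in
theorem card_eq [Fintype F] : Fintype.card (QE F a b) = Fintype.card F ^ 2 := by
  rw [Fintype.card_congr equivProd, Fintype.card_prod, pow_two]

/-- the field structure -/
@[reducible] noncomputable def field [Fintype F] (hab : Aniso a b) : Field (QE F a b) :=
  letI := Classical.decEq (QE F a b)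
  letI := isDomain hab
  Fintype.fieldOfDomain (QE F a b)

example [Fintype F] (hab : Aniso a b) : (field hab).toCommRing = (inferInstance : CommRing (QE F a b)) := rfl

end QE

end Cfsg.Agent.H9.Minus4
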