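import Mathlib
import Cfsg.Agent.H9.Minus4
import Cfsg.Prelude.Def_ClassicalGeometry

set_option autoImplicit false

namespace Cfsg.Agent.H9.Minus4

open Matrix QE

universe u
variable {F : Type u} [Field F] {a b : F}

/-- the index type -/
abbrev I4 : Type := (Fin 1 ⊕ Fin 1) ⊕ Fin 2

/-- the quadratic form -/
def Q4 (a b : F) (v : I4 → F) : F :=
  v (.inl (.inl 0)) * v (.inl (.inr 0)) +
    (v (.inr 0) ^ 2 + a * v (.inr 0) * v (.inr 1) + b * v (.inr 1) ^ 2)

theorem quadFormMinus_eq (v : I4 → F) : Cfsg.quadFormMinus 1 F a b v = Q4 a b v := by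
  simp [Cfsg.quadFormMinus, Q4]

/-- the hermitian matrix of a vector -/
def phi (v : I4 → F) : Matrix (Fin 2) (Fin 2) (QE F a b) :=
  !![of (v (.inl (.inl 0))), ⟨v (.inr 0), v (.inr 1)⟩;
     conj ⟨v (.inr 0), v (.inr 1)⟩, of (-(v (.inl (.inr 0))))]

/-- conjugate transpose -/
def dag (A : Matrix (Fin 2) (Fin 2) (QE F a b)) : Matrix (Fin 2) (Fin 2) (QE F a b) :=
  Matrix.of fun i j => conj (A j i)

/-- coordinates of a matrix -/
def psi (H : Matrix (Fin 2) (Fin 2) (QE F a b)) : I4 → F
  | .inl (.inl _) => (H 0 0).re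
  | .inl (.inr _) => -(H 1 1).re
  | .inr j => if j = 0 then (H 0 1).re else (H 0 1).im

theorem psi_phi (v : I4 → F) : psi (phi v : Matrix (Fin 2) (Fin 2) (QE F a b)) = v := by
  funext i
  rcases i with (i | i) | i
  · have : i = 0 := Subsingleton.elim _ _
    subst this
    simp [psi, phi]
  · have : i = 0 := Subsingleton.elim _ _
    subst this
    simp [psi, phi]
  · fin_cases i <;> simp [psi, phi]

theorem det_phi (v : I4 → F) :
    (phi v : Matrix (Fin 2) (Fin 2) (QE F a b)).det = of (-(Q4 a b v)) := by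
  rw [Matrix.det_fin_two]
  ext <;> simp [phi, Q4] <;> ring

/-- hermitian closure: the twisted conjugate of `phi v` is again of the form `phi` -/
theorem phi_psi (A : Matrix (Fin 2) (Fin 2) (QE F a b)) (v : I4 → F) :
    phi (psi (A * phi v * dag A)) = A * phi v * dag A := by
  ext i j
  · fin_cases i <;> fin_cases j <;>
      simp [phi, psi, dag, Matrix.mul_apply, Fin.sum_univ_two] <;> ring
  · fin_cases i <;> fin_cases j <;>
      simp [phi, psi, dag, Matrix.mul_apply, Fin.sum_univ_two] <;> ring



theorem phi_injective : Function.Injective (phi : (I4 → F) → Matrix (Fin 2) (Fin 2) (QE F a b)) := by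
  intro u v h
  rw [← psi_phi (a := a) (b := b) u, ← psi_phi (a := a) (b := b) v, h]

theorem phi_add (u v : I4 → F) :
    (phi (u + v) : Matrix (Fin 2) (Fin 2) (QE F a b)) = phi u + phi v := by
  ext i j
  · fin_cases i <;> fin_cases j <;> simp [phi] <;> ring
  · fin_cases i <;> fin_cases j <;> simp [phi] <;> ring

theorem phi_smul (c : F) (v : I4 → F) :
    (phi (c • v) : Matrix (Fin 2) (Fin 2) (QE F a b)) = (of c : QE F a b) • phi v := by
  ext i j
  · fin_cases i <;> fin_cases j <;> simp [phi] <;> ring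
  · fin_cases i <;> fin_cases j <;> simp [phi]

theorem dag_mul (A B : Matrix (Fin 2) (Fin 2) (QE F a b)) : dag (A * B) = dag B * dag A := by
  ext i j
  · fin_cases i <;> fin_cases j <;> simp [dag, Matrix.mul_apply, Fin.sum_univ_two] <;> ring
  · fin_cases i <;> fin_cases j <;> simp [dag, Matrix.mul_apply, Fin.sum_univ_two] <;> ring

theorem dag_one : dag (1 : Matrix (Fin 2) (Fin 2) (QE F a b)) = 1 := by
  ext i j
  · fin_cases i <;> fin_cases j <;> simp [dag]
  · fin_cases i <;> fin_cases j <;> simp [dag]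

theorem det_dag (A : Matrix (Fin 2) (Fin 2) (QE F a b)) : (dag A).det = conj A.det := by
  rw [Matrix.det_fin_two, Matrix.det_fin_two]
  ext <;> simp [dag] <;> ring

/-- the action on vectors -/
def act (A : Matrix (Fin 2) (Fin 2) (QE F a b)) (v : I4 → F) : I4 → F :=
  psi (A * phi v * dag A)

theorem phi_act (A : Matrix (Fin 2) (Fin 2) (QE F a b)) (v : I4 → F) :
    phi (act A v) = A * phi v * dag A := phi_psi A v

theorem act_add (A : Matrix (Fin 2) (Fin 2) (QE F a b)) (u v : I4 → F) :
    act A (u + v) = act A u + act A v := by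
  apply phi_injective (a := a) (b := b)
  rw [phi_act, phi_add, phi_add, phi_act, phi_act, Matrix.mul_add, Matrix.add_mul]

theorem act_smul (A : Matrix (Fin 2) (Fin 2) (QE F a b)) (c : F) (v : I4 → F) :
    act A (c • v) = c • act A v := by
  apply phi_injective (a := a) (b := b)
  rw [phi_act, phi_smul, phi_smul, phi_act, Matrix.mul_smul, Matrix.smul_mul]

theorem act_mul (A B : Matrix (Fin 2) (Fin 2) (QE F a b)) (v : I4 → F) :
    act (A * B) v = act A (act B v) := by
  apply phi_injective (a := a) (b := b)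
  rw [phi_act, phi_act, phi_act, dag_mul]
  simp only [Matrix.mul_assoc]

theorem act_one (v : I4 → F) : act (1 : Matrix (Fin 2) (Fin 2) (QE F a b)) v = v := by
  apply phi_injective (a := a) (b := b)
  rw [phi_act, dag_one, one_mul, mul_one]

theorem Q4_act (A : Matrix (Fin 2) (Fin 2) (QE F a b)) (hA : A.det = 1) (v : I4 → F) :
    Q4 a b (act A v) = Q4 a b v := by
  have h := det_phi (a := a) (b := b) (act A v)
  rw [phi_act, Matrix.det_mul, Matrix.det_mul, det_dag, hA, det_phi] at h
  have h' : (of (-(Q4 a b v)) : QE F a b) = of (-(Q4 a b (act A v))) := by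
    rw [← h]
    have : conj (1 : QE F a b) = 1 := by ext <;> simp
    rw [this, one_mul, mul_one]
  have := of_injective h'
  exact (neg_injective this).symm

/-- the action as a linear map -/
def Lin (A : Matrix (Fin 2) (Fin 2) (QE F a b)) : (I4 → F) →ₗ[F] (I4 → F) where
  toFun := act A
  map_add' := act_add A
  map_smul' c v := by simp [act_smul]

theorem Lin_apply (A : Matrix (Fin 2) (Fin 2) (QE F a b)) (v : I4 → F) : Lin A v = act A v := rfl

/-- the action as a monoid hom to matrices -/
noncomputable def Rm : Matrix.SpecialLinearGroup (Fin 2) (QE F a b) →* Matrix I4 I4 F where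
  toFun A := LinearMap.toMatrix' (Lin A.1)
  map_one' := by
    have : Lin (1 : Matrix.SpecialLinearGroup (Fin 2) (QE F a b)).1 = LinearMap.id := by
      refine LinearMap.ext fun v => ?_
      simp only [Matrix.SpecialLinearGroup.coe_one, Lin_apply, act_one, LinearMap.id_apply]
    rw [this, LinearMap.toMatrix'_id]
  map_mul' A B := by
    have : Lin (A * B).1 = (Lin A.1).comp (Lin B.1) := by
      refine LinearMap.ext fun v => ?_
      simp only [Matrix.SpecialLinearGroup.coe_mul, Lin_apply, act_mul, LinearMap.comp_apply]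
    rw [this, LinearMap.toMatrix'_comp]

theorem Rm_mulVec (A : Matrix.SpecialLinearGroup (Fin 2) (QE F a b)) (v : I4 → F) :
    Rm A *ᵥ v = act A.1 v := by
  change LinearMap.toMatrix' (Lin A.1) *ᵥ v = _
  rw [← Matrix.toLin'_apply, Matrix.toLin'_toMatrix', Lin_apply]

/-- into `GL₄` -/
noncomputable def R0 : Matrix.SpecialLinearGroup (Fin 2) (QE F a b) →* GL I4 F := Rm.toHomUnits

theorem R0_val (A : Matrix.SpecialLinearGroup (Fin 2) (QE F a b)) : (R0 A).1 = Rm A := rfl

theorem R0_mem (A : Matrix.SpecialLinearGroup (Fin 2) (QE F a b)) :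
    R0 A ∈ Cfsg.isometryGroup F (Cfsg.quadFormMinus 1 F a b) := by
  intro u _
  change Cfsg.quadFormMinus 1 F a b ((R0 A).1 *ᵥ u) = Cfsg.quadFormMinus 1 F a b u
  rw [quadFormMinus_eq, quadFormMinus_eq, R0_val, Rm_mulVec, Q4_act _ A.2]

/-- the representation in the orthogonal group -/
noncomputable def RO : Matrix.SpecialLinearGroup (Fin 2) (QE F a b) →*
    Cfsg.isometryGroup F (Cfsg.quadFormMinus 1 F a b) :=
  R0.codRestrict _ R0_mem

theorem RO_mulVec (A : Matrix.SpecialLinearGroup (Fin 2) (QE F a b)) (v : I4 → F) :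
    ((RO A).1 : GL I4 F).1 *ᵥ v = act A.1 v := Rm_mulVec A v

end Cfsg.Agent.H9.Minus4
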