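import Mathlib
import Cfsg.Agent.H9.Minus4b

set_option autoImplicit false

namespace Cfsg.Agent.H9.Minus4

open Matrix QE

universe u
variable {F : Type u} [Field F] {a b : F}

theorem phi_ex : (phi (Pi.single (.inl (.inl 0)) 1) : Matrix (Fin 2) (Fin 2) (QE F a b)) =
    !![1, 0; 0, 0] := by
  ext i j
  · fin_cases i <;> fin_cases j <;> simp [phi]
  · fin_cases i <;> fin_cases j <;> simp [phi]

theorem phi_ey : (phi (Pi.single (.inl (.inr 0)) 1) : Matrix (Fin 2) (Fin 2) (QE F a b)) =
    !![0, 0; 0, -1] := by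
  ext i j
  · fin_cases i <;> fin_cases j <;> simp [phi]
  · fin_cases i <;> fin_cases j <;> simp [phi]

theorem phi_e1 : (phi (Pi.single (.inr 0) 1) : Matrix (Fin 2) (Fin 2) (QE F a b)) =
    !![0, 1; 1, 0] := by
  ext i j
  · fin_cases i <;> fin_cases j <;> simp [phi]
  · fin_cases i <;> fin_cases j <;> simp [phi]

theorem conj_one : conj (1 : QE F a b) = 1 := by ext <;> simp

theorem conj_neg (z : QE F a b) : conj (-z) = -conj z := by ext <;> simp <;> ring

theorem conj_zero : conj (0 : QE F a b) = 0 := by ext <;> simp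

theorem mul_conj_eq_zero (hab : Aniso a b) (z : QE F a b) (h : z * conj z = 0) : z = 0 := by
  rw [mul_conj] at h
  have : nrm z = 0 := of_injective (h.trans of_zero.symm)
  exact eq_zero_of_nrm hab z this

/-- if `A` acts trivially then `A = ± 1` -/
theorem eq_pm_one_of_act (hab : Aniso a b) (A : Matrix (Fin 2) (Fin 2) (QE F a b)) (hdet : A.det = 1)
    (h : ∀ v, act A v = v) : A = 1 ∨ A = -1 := by
  have := isDomain hab
  have hx := phi_act A (Pi.single (.inl (.inl 0)) 1)
  have hy := phi_act A (Pi.single (.inl (.inr 0)) 1)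
  have h1 := phi_act A (Pi.single (.inr 0) 1)
  rw [h, phi_ex] at hx
  rw [h, phi_ey] at hy
  rw [h, phi_e1] at h1
  have hx00 := congrFun (congrFun hx 0) 0
  have hx11 := congrFun (congrFun hx 1) 1
  have hy00 := congrFun (congrFun hy 0) 0
  have hy11 := congrFun (congrFun hy 1) 1
  have h101 := congrFun (congrFun h1 0) 1
  simp [dag, Matrix.mul_apply, Fin.sum_univ_two] at hx00 hx11 hy00 hy11 h101
  have hcz : ∀ z : QE F a b, conj z = 0 → z = 0 := by
    intro z hz
    rw [← conj_conj z, hz, conj_zero]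
  have hc : A 1 0 = 0 := by
    rcases hx11 with h' | h'
    · exact h'
    · exact hcz _ h'
  have hb : A 0 1 = 0 := by
    rcases hy00 with h' | h'
    · exact h'
    · exact hcz _ h'
  rw [hb, hc] at h101
  simp [conj_zero] at h101
  rw [Matrix.det_fin_two, hb, hc] at hdet
  simp at hdet
  -- a * conj a = 1, a * d = 1, a * conj d = 1
  have ha0 : A 0 0 ≠ 0 := by
    intro h0
    rw [h0] at hdet
    simp at hdet
  have hd : conj (A 0 0) = A 1 1 := by
    apply mul_left_cancel₀ ha0
    rw [← hx00, hdet]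
  have hd' : conj (A 1 1) = A 0 0 := by rw [← hd, conj_conj]
  rw [hd'] at h101
  have hsq : (A 0 0 - 1) * (A 0 0 + 1) = 0 := by linear_combination -h101
  rcases mul_eq_zero.1 hsq with h' | h'
  · left
    have ha : A 0 0 = 1 := sub_eq_zero.1 h'
    have hd1 : A 1 1 = 1 := by rw [← hd, ha, conj_one]
    ext i j
    · fin_cases i <;> fin_cases j <;> simp [ha, hb, hc, hd1]
    · fin_cases i <;> fin_cases j <;> simp [ha, hb, hc, hd1]
  · right
    have ha : A 0 0 = -1 := eq_neg_of_add_eq_zero_left h'
    have hd1 : A 1 1 = -1 := by rw [← hd, ha, conj_neg, conj_one]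
    ext i j
    · fin_cases i <;> fin_cases j <;> simp [ha, hb, hc, hd1]
    · fin_cases i <;> fin_cases j <;> simp [ha, hb, hc, hd1]



theorem act_neg_one (v : I4 → F) : act (-1 : Matrix (Fin 2) (Fin 2) (QE F a b)) v = v := by
  apply phi_injective (a := a) (b := b)
  rw [phi_act]
  have : dag (-1 : Matrix (Fin 2) (Fin 2) (QE F a b)) = -1 := by
    ext i j
    · fin_cases i <;> fin_cases j <;> simp [dag]
    · fin_cases i <;> fin_cases j <;> simp [dag]
  rw [this]
  simp

local notation "OO" => Cfsg.isometryGroup F (Cfsg.quadFormMinus 1 F a b)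
local notation "SLE" => Matrix.SpecialLinearGroup (Fin 2) (QE F a b)

theorem RO_eq_one_iff (A : SLE) : (RO A : OO) = 1 ↔ ∀ v, act A.1 v = v := by
  constructor
  · intro h v
    rw [← RO_mulVec, h]
    simp
  · intro h
    apply Subtype.ext
    apply Units.ext
    change (R0 A).1 = 1
    rw [R0_val]
    apply Matrix.toLin'.injective
    refine LinearMap.ext fun v => ?_
    rw [Matrix.toLin'_apply, Rm_mulVec, h, Matrix.toLin'_one, LinearMap.id_apply]

theorem scalar_neg_one : (scalar (Fin 2)) (-1 : QE F a b) = -1 := by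
  ext i j <;> fin_cases i <;> fin_cases j <;> simp

theorem RO_ker (hab : Aniso a b) : (RO : SLE →* OO).ker = Subgroup.center SLE := by
  have := isDomain hab
  ext A
  rw [MonoidHom.mem_ker, RO_eq_one_iff, Matrix.SpecialLinearGroup.mem_center_iff]
  constructor
  · intro h
    rcases eq_pm_one_of_act hab A.1 A.2 h with h1 | h1
    · exact ⟨1, by simp, by rw [h1]; simp⟩
    · exact ⟨-1, by simp, by rw [h1, scalar_neg_one]⟩
  · rintro ⟨r, hr, hA⟩ v
    have hr2 : (r - 1) * (r + 1) = 0 := by
      simp only [Fintype.card_fin] at hr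
      linear_combination hr
    rcases mul_eq_zero.1 hr2 with h' | h'
    · have : r = 1 := sub_eq_zero.1 h'
      rw [← hA, this]
      simp [act_one]
    · have : r = -1 := eq_neg_of_add_eq_zero_left h'
      rw [← hA, this]
      rw [scalar_neg_one, act_neg_one]

end Cfsg.Agent.H9.Minus4
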