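import Mathlib
import Cfsg.Agent.H9.Minus4c
import Cfsg.Agent.H9.PerfIdx
import Cfsg.Agent.S0288
import Cfsg.Agent.Lib.Helper8.SUTransport
import Cfsg.Agent.Lib.Helper5.SLn
import Cfsg.Agent.H9.DicksonConcl
import Cfsg.Agent.H9.PSL2Tori
import Cfsg.Agent.H9.SubfieldPSL2

set_option autoImplicit false

namespace Cfsg.Agent.H9.Minus4

open Matrix QE
open scoped commutatorElement

universe u
variable {F : Type u} [Field F] {a b : F}

local notation "OO" => Cfsg.isometryGroup F (Cfsg.quadFormMinus 1 F a b)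

/-- swapping the hyperbolic pair -/
def swM : Matrix I4 I4 F := (Equiv.swap (Sum.inl (Sum.inl 0) : I4) (Sum.inl (Sum.inr 0))).permMatrix F

theorem swM_sq : (swM : Matrix I4 I4 F) * swM = 1 := by
  unfold swM
  rw [← Matrix.permMatrix_mul]
  simp

theorem det_swM : (swM : Matrix I4 I4 F).det = -1 := by
  unfold swM
  rw [Matrix.det_permutation, Equiv.Perm.sign_swap (by decide)]
  simp

theorem Q4_swM (v : I4 → F) : Q4 a b (swM *ᵥ v) = Q4 a b v := by
  unfold swM
  rw [Matrix.permMatrix_mulVec]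
  simp [Q4, Equiv.swap_apply_of_ne_of_ne]
  ring

/-- the swap as an isometry -/
def sw : OO := ⟨⟨swM, swM, swM_sq, swM_sq⟩, by
  intro u _
  change Cfsg.quadFormMinus 1 F a b (swM *ᵥ u) = Cfsg.quadFormMinus 1 F a b u
  rw [quadFormMinus_eq, quadFormMinus_eq, Q4_swM]⟩

theorem commutator_ne_top (h2 : (2 : F) ≠ 0) : commutator OO ≠ ⊤ := by
  intro h
  let d : OO →* Fˣ := Matrix.GeneralLinearGroup.det.comp (Subgroup.subtype _)
  have hle : commutator OO ≤ d.ker := Abelianization.commutator_subset_ker d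
  rw [h] at hle
  have hsw : (sw : OO) ∈ d.ker := hle (Subgroup.mem_top _)
  rw [MonoidHom.mem_ker] at hsw
  have h1 := congrArg Units.val hsw
  change (swM : Matrix I4 I4 F).det = 1 at h1
  rw [det_swM] at h1
  apply h2
  linear_combination -h1

end Cfsg.Agent.H9.Minus4
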