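import Mathlib
import Cfsg.Agent.H9.Minus4d

set_option autoImplicit false

namespace Cfsg.Agent.H9.Minus4

open Matrix QE
open scoped commutatorElement

universe u v
variable {F : Type u} [Field F] [Fintype F] {a b : F} {K : Type v} [Field K] [Fintype K]

local notation "OO" => Cfsg.isometryGroup F (Cfsg.quadFormMinus 1 F a b)
local notation "SLK" => Matrix.SpecialLinearGroup (Fin 2) K

theorem two_ne_zero_of_odd (hodd : Odd (Fintype.card F)) : (2 : F) ≠ 0 := by
  intro h
  have hchar : ringChar F = 2 := by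
    have : ringChar F ∣ 2 := by
      apply ringChar.dvd
      exact_mod_cast h
    rcases (Nat.dvd_prime Nat.prime_two).1 this with h1 | h1
    · exact absurd h1 (CharP.ringChar_ne_one)
    · exact h1
  exact (Nat.not_even_iff_odd.2 hodd) (Nat.even_iff.2 (FiniteField.even_card_of_char_two hchar))

theorem center_iff {G H : Type*} [Group G] [Group H] (e : G ≃* H) (x : G) :
    x ∈ Subgroup.center G ↔ e x ∈ Subgroup.center H := by
  rw [Subgroup.mem_center_iff, Subgroup.mem_center_iff]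
  constructor
  · intro h y
    obtain ⟨z, rfl⟩ := e.surjective y
    rw [← map_mul, ← map_mul, h z]
  · intro h y
    apply e.injective
    rw [map_mul, map_mul, h (e y)]

/-- the main structure theorem: a homomorphism from `SL₂(K)` onto `Ω₄⁻(q)` with central kernel -/
theorem exists_hom {q : ℕ} (hF : Fintype.card F = q) (hK : Fintype.card K = q ^ 2)
    (hab : Aniso a b) :
    ∃ φ : SLK →* OO, φ.ker = Subgroup.center SLK ∧
      φ.range = Cfsg.Omega F (Cfsg.quadFormMinus 1 F a b) := by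
  classical
  let _ : Field (QE F a b) := QE.field hab
  have hcard : Fintype.card K = Fintype.card (QE F a b) := by rw [hK, QE.card_eq, hF]
  let e : K ≃+* QE F a b := FiniteField.ringEquivOfCardEq hcard
  let se : SLK ≃* Matrix.SpecialLinearGroup (Fin 2) (QE F a b) :=
    Cfsg.Agent.Lib.Helper8.SUTransport.slEquiv e 2
  let φ : SLK →* OO := RO.comp se.toMonoidHom
  have hker : φ.ker = Subgroup.center SLK := by
    ext A
    rw [MonoidHom.mem_ker]
    change RO (se A) = 1 ↔ _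
    rw [← MonoidHom.mem_ker, RO_ker hab, ← center_iff se A]
  refine ⟨φ, hker, ?_⟩
  -- numerics
  have hq2 : 2 ≤ q := by rw [← hF]; exact Fintype.one_lt_card
  have hq4 : 4 ≤ Fintype.card K := by rw [hK]; nlinarith
  -- perfectness
  have hperfK : commutator SLK = ⊤ := by
    obtain ⟨x, hx⟩ := Cfsg.Agent.H9.PSL2Tori.exists_unit_sq_ne (F := K) hq4
    exact Cfsg.Agent.Lib.Helper5.SLn.commutator_eq_top (Or.inr ⟨x, x.ne_zero, hx⟩)
  have hperf : ⁅φ.range, φ.range⁆ = φ.range := by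
    rw [MonoidHom.range_eq_map, ← Subgroup.map_commutator, ← commutator_def, hperfK]
  -- cardinalities
  have hcO : Nat.card OO = 2 * q ^ 2 * (q ^ 2 + 1) * (q ^ 2 - 1) := by
    have := Cfsg.Agent.S0288.result (F := F) hF 2 (by norm_num) a b hab
    simpa using this
  have hcSL : Nat.card SLK = q ^ 2 * ((q ^ 2) ^ 2 - 1) := by
    rw [Cfsg.Agent.H9.SubfieldPSL2.card_SL2_all, hK]
  have hcZ : Nat.card (Subgroup.center SLK) = Nat.gcd 2 (q ^ 2 - 1) := by
    rw [Cfsg.Agent.H9.DicksonConcl.card_center, hK]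
  have hcr : Nat.card φ.range * Nat.gcd 2 (q ^ 2 - 1) = q ^ 2 * ((q ^ 2) ^ 2 - 1) := by
    have h := Subgroup.card_mul_index φ.ker
    rw [Subgroup.index_ker, hker, hcZ, hcSL] at h
    rw [← h, mul_comm]
  have hfac : (q ^ 2) ^ 2 - 1 = (q ^ 2 + 1) * (q ^ 2 - 1) := by
    have h1 : 1 ≤ q ^ 2 := Nat.one_le_pow _ _ (by omega)
    obtain ⟨n, hn⟩ : ∃ n, q ^ 2 = n + 1 := ⟨q ^ 2 - 1, by omega⟩
    rw [hn]
    have : (n + 1) ^ 2 = n * 2 + n ^ 2 + 1 := by ring
    rw [this, Nat.add_sub_cancel, Nat.add_sub_cancel]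
    ring
  have hidx : φ.range.index = 2 * Nat.gcd 2 (q ^ 2 - 1) := by
    have h := Subgroup.card_mul_index φ.range
    rw [hcO] at h
    have hpos : 0 < Nat.card φ.range := Nat.card_pos
    have hg : 0 < Nat.gcd 2 (q ^ 2 - 1) := Nat.gcd_pos_of_pos_left _ (by norm_num)
    have h2 : Nat.card φ.range * φ.range.index * Nat.gcd 2 (q ^ 2 - 1) =
        Nat.card φ.range * (2 * Nat.gcd 2 (q ^ 2 - 1)) * Nat.gcd 2 (q ^ 2 - 1) := by
      rw [h]
      have : Nat.card φ.range * (2 * Nat.gcd 2 (q ^ 2 - 1)) * Nat.gcd 2 (q ^ 2 - 1) =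
          2 * Nat.gcd 2 (q ^ 2 - 1) * (Nat.card φ.range * Nat.gcd 2 (q ^ 2 - 1)) := by ring
      rw [this, hcr, hfac]
      ring
    exact Nat.eq_of_mul_eq_mul_left hpos (Nat.eq_of_mul_eq_mul_right hg h2)
  have hg12 : Nat.gcd 2 (q ^ 2 - 1) = 1 ∨ Nat.gcd 2 (q ^ 2 - 1) = 2 :=
    (Nat.dvd_prime Nat.prime_two).1 (Nat.gcd_dvd_left _ _)
  have hidx' : φ.range.index = 2 ∨ φ.range.index = 4 := by
    rcases hg12 with h | h <;> rw [hidx, h]
    · left; rfl
    · right; rfl
  have hcomm := Cfsg.Agent.H9.PerfIdx.commutator_eq φ.range hperf hidx' (by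
    intro h4
    apply commutator_ne_top
    apply two_ne_zero_of_odd
    rw [hidx] at h4
    have hg2 : Nat.gcd 2 (q ^ 2 - 1) = 2 := by omega
    have hdvd : 2 ∣ q ^ 2 - 1 := by
      have := Nat.gcd_dvd_right 2 (q ^ 2 - 1)
      rwa [hg2] at this
    rw [hF]
    by_contra hne
    rw [Nat.not_odd_iff_even] at hne
    obtain ⟨k, hk⟩ := hne
    have : q ^ 2 = 4 * k ^ 2 := by rw [hk]; ring
    obtain ⟨m, hm⟩ := hdvd
    have h1 : 1 ≤ q ^ 2 := Nat.one_le_pow _ _ (by omega)
    omega)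
  exact hcomm.symm

end Cfsg.Agent.H9.Minus4
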