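import Mathlib
import Cfsg.Agent.H1.SchurSub
import Cfsg.Agent.H1.SchurCover
import Cfsg.Agent.S3979
import Cfsg.Agent.S3965
import Cfsg.Agent.S0495
import Cfsg.Agent.S0249
import Cfsg.Agent.S0243
import Cfsg.Agent.Lib.Lead.Simple168A
import Cfsg.Agent.Lib.Helper5.SLn

set_option autoImplicit false
set_option linter.style.haveILetI false

namespace Cfsg.Agent.H9.MultPSL32

open Cfsg Cfsg.Agent.H1

universe u v

/-- the multiplier of isomorphic groups: cardinality comparison (any two universes) -/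
lemma card_fcMult_le_of_mulEquiv {Q : Type u} {Q' : Type v} [Group Q] [Group Q'] [Finite Q]
    [Finite Q'] (e : Q ≃* Q') : Nat.card (fcMult Q) ≤ Nat.card (fcMult Q') := by
  obtain ⟨Γ, _, _, σ, hσ, ⟨eσ⟩⟩ := exists_schur_cover Q
  have hker : (e.toMonoidHom.comp σ).ker = σ.ker := by
    ext x
    simp [MonoidHom.mem_ker]
  have hτ : IsStemExtension (e.toMonoidHom.comp σ) := by
    obtain ⟨h1, h2, h3⟩ := hσ
    refine ⟨e.surjective.comp h1, ?_, ?_⟩
    · rw [hker]; exact h2
    · rw [hker]; exact h3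
  obtain ⟨f, hf⟩ := exists_surjective_mult_to_ker (e.toMonoidHom.comp σ) hτ
  calc Nat.card (fcMult Q) = Nat.card σ.ker := (Nat.card_congr eσ.toEquiv).symm
    _ = Nat.card (e.toMonoidHom.comp σ).ker := by rw [hker]
    _ ≤ Nat.card (fcMult Q') := Nat.card_le_card_of_surjective f hf

/-- the multiplier of a finite cyclic group is trivial -/
lemma fcMult_eq_one_of_isCyclic {Q : Type u} [Group Q] [Finite Q] [IsCyclic Q] (x : fcMult Q) :
    x = 1 := by
  obtain ⟨e⟩ := mult_equiv_of_hasSchurMultiplier (Cfsg.Agent.S3979.result (G := Q))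
  have h1 : e.symm x = 1 := Subsingleton.elim (α := Fin 1) _ _
  exact (MulEquiv.map_eq_one_iff e.symm).1 h1

/-- the multiplier of the dihedral group of order 8 has order 2 -/
lemma card_fcMult_dihedral4 : Nat.card (fcMult (DihedralGroup 4)) = 2 := by
  obtain ⟨e⟩ := mult_equiv_of_hasSchurMultiplier (Cfsg.Agent.S3965.result 4 (by decide))
  rw [← Nat.card_congr e.toEquiv]
  simp

/-- kernel of a finite stem extension of a simple group of order 168 has order at most 2 -/
theorem card_ker_le_two {G : Type u} [Group G] [Finite G] [IsSimpleGroup G] (h : Nat.card G = 168)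
    {Γ : Type v} [Group Γ] [Finite Γ] (σ : Γ →* G) (hσ : IsStemExtension σ) :
    Nat.card σ.ker ≤ 2 := by
  classical
  haveI : Fact (Nat.Prime 2) := ⟨by norm_num⟩
  haveI : Fact (Nat.Prime 3) := ⟨by norm_num⟩
  haveI : Fact (Nat.Prime 7) := ⟨by norm_num⟩
  -- Sylow 3
  have h3 : ∀ a : σ.ker, (a : Γ) ^ 56 = 1 := by
    intro a
    let P : Sylow 3 G := default
    have hc : Nat.card (P : Subgroup G) = 3 := Cfsg.Agent.Lead.Simple168.card3 h P
    have hi : (P : Subgroup G).index = 56 := by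
      have := (P : Subgroup G).card_mul_index
      rw [hc, h] at this
      omega
    haveI : IsCyclic (P : Subgroup G) := isCyclic_of_prime_card hc
    obtain ⟨hh, hhk⟩ := exists_injective_pow_to_mult (P : Subgroup G) σ hσ
    have := (hhk a).1 (fcMult_eq_one_of_isCyclic (hh a))
    rwa [hi] at this
  have h7 : ∀ a : σ.ker, (a : Γ) ^ 24 = 1 := by
    intro a
    let P : Sylow 7 G := default
    have hc : Nat.card (P : Subgroup G) = 7 := Cfsg.Agent.Lead.Simple168.card7 h P
    have hi : (P : Subgroup G).index = 24 := by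
      have := (P : Subgroup G).card_mul_index
      rw [hc, h] at this
      omega
    haveI : IsCyclic (P : Subgroup G) := isCyclic_of_prime_card hc
    obtain ⟨hh, hhk⟩ := exists_injective_pow_to_mult (P : Subgroup G) σ hσ
    have := (hhk a).1 (fcMult_eq_one_of_isCyclic (hh a))
    rwa [hi] at this
  have h8 : ∀ a : σ.ker, (a : Γ) ^ 8 = 1 := by
    intro a
    have h1 : orderOf (a : Γ) ∣ 56 := orderOf_dvd_of_pow_eq_one (h3 a)
    have h2 : orderOf (a : Γ) ∣ 24 := orderOf_dvd_of_pow_eq_one (h7 a)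
    have h4 : orderOf (a : Γ) ∣ Nat.gcd 56 24 := Nat.dvd_gcd h1 h2
    exact orderOf_dvd_iff_pow_eq_one.1 (by simpa using h4)
  -- Sylow 2
  let T : Sylow 2 G := default
  have hcT : Nat.card (T : Subgroup G) = 8 := Cfsg.Agent.Lead.Simple168.card2 h T
  have hiT : (T : Subgroup G).index = 21 := by
    have := (T : Subgroup G).card_mul_index
    rw [hcT, h] at this
    omega
  obtain ⟨eT⟩ := Cfsg.Agent.Lead.Simple168.dihedral h T
  have hM : Nat.card (fcMult (T : Subgroup G)) ≤ 2 := by
    have := card_fcMult_le_of_mulEquiv eT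
    rwa [card_fcMult_dihedral4] at this
  obtain ⟨hh, hhk⟩ := exists_injective_pow_to_mult (T : Subgroup G) σ hσ
  have hinj : Function.Injective hh := by
    rw [injective_iff_map_eq_one]
    intro a ha
    have h21 : (a : Γ) ^ 21 = 1 := by
      have := (hhk a).1 ha
      rwa [hiT] at this
    have h64 : (a : Γ) ^ 64 = 1 := by
      have : (a : Γ) ^ 64 = ((a : Γ) ^ 8) ^ 8 := by rw [← pow_mul]
      rw [this, h8 a, one_pow]
    have h63 : (a : Γ) ^ 63 = 1 := by
      have : (a : Γ) ^ 63 = ((a : Γ) ^ 21) ^ 3 := by rw [← pow_mul]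
      rw [this, h21, one_pow]
    have : (a : Γ) = 1 := by
      have h5 : (a : Γ) ^ 64 = (a : Γ) ^ 63 * a := pow_succ _ 63
      rw [h64, h63, one_mul] at h5
      exact h5.symm
    exact Subtype.ext this
  exact le_trans (Nat.card_le_card_of_injective hh hinj) hM

/-- the multiplier of a simple group of order 168 is nontrivial (seen from `SL₂(7)`) -/
theorem two_le_card_fcMult {G : Type u} [Group G] [Finite G] [IsSimpleGroup G]
    (h : Nat.card G = 168) : 2 ≤ Nat.card (fcMult G) := by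
  have h20 : (2 : ZMod 7) ≠ 0 := by decide
  have h22 : (2 : ZMod 7) ^ 2 ≠ 1 := by decide
  haveI : Fact (Nat.Prime 7) := ⟨by norm_num⟩
  obtain ⟨e⟩ := Cfsg.Agent.S0495.result h (F := ZMod 7) (by simp)
  let τ : Matrix.SpecialLinearGroup (Fin 2) (ZMod 7) →* G :=
    e.symm.toMonoidHom.comp
      (QuotientGroup.mk' (Subgroup.center (Matrix.SpecialLinearGroup (Fin 2) (ZMod 7))))
  have hker : τ.ker = Subgroup.center (Matrix.SpecialLinearGroup (Fin 2) (ZMod 7)) := by
    ext x
    simp [τ]
  have hperf : commutator (Matrix.SpecialLinearGroup (Fin 2) (ZMod 7)) = ⊤ :=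
    Cfsg.Agent.Lib.Helper5.SLn.commutator_eq_top (Or.inr ⟨2, h20, h22⟩)
  have hτ : IsStemExtension τ := by
    refine ⟨e.symm.surjective.comp (QuotientGroup.mk'_surjective _), ?_, ?_⟩
    · rw [hker]
    · rw [hperf]; exact le_top
  obtain ⟨f, hf⟩ := exists_surjective_mult_to_ker τ hτ
  have hc : Nat.card τ.ker = 2 := by
    rw [hker, Cfsg.Agent.S0243.card_center_sl 2 (by norm_num)]
    simp
  calc 2 = Nat.card τ.ker := hc.symm
    _ ≤ Nat.card (fcMult G) := Nat.card_le_card_of_surjective f hf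

/-- a simple group of order 168 has Schur multiplier cyclic of order 2 -/
theorem hasCyclicSchurMultiplier_two {G : Type u} [Group G] [Finite G] [IsSimpleGroup G]
    (h : Nat.card G = 168) : HasCyclicSchurMultiplier G 2 := by
  obtain ⟨Γ, hΓ, hΓf, σ, hσ, ⟨eσ⟩⟩ := exists_schur_cover G
  have hle : Nat.card (fcMult G) ≤ 2 := by
    rw [← Nat.card_congr eσ.toEquiv]
    exact card_ker_le_two h σ hσ
  have hcard : Nat.card (fcMult G) = 2 := le_antisymm hle (two_le_card_fcMult h)
  haveI : Fact (Nat.Prime 2) := ⟨Nat.prime_two⟩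
  have hcyc : IsCyclic (fcMult G) := isCyclic_of_prime_card hcard
  have e := zmodCyclicMulEquiv hcyc
  rw [hcard] at e
  refine ⟨⟨Γ, hΓ, hΓf, σ, hσ, ⟨eσ.trans e.symm⟩⟩, ?_⟩
  intro Δ _ _ τ hτ
  obtain ⟨f, hf⟩ := exists_surjective_mult_to_ker τ hτ
  exact ⟨f.comp e.toMonoidHom, hf.comp e.surjective⟩

end Cfsg.Agent.H9.MultPSL32
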