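import Mathlib

set_option autoImplicit false

namespace Cfsg.Agent.H9.MultSylow

/-- abstract splitting: `cor ∘ tr = n`-th power with `n` prime to `p` makes the `p`-part of `A`
a direct factor of `B` -/
theorem exists_summand {A B : Type*} [CommGroup A] [CommGroup B] [Finite A] (p n : ℕ)
    [Fact p.Prime] (hn : ¬ p ∣ n) (tr : A →* B) (cor : B →* A)
    (h : ∀ a, cor (tr a) = a ^ n) :
    ∃ C D : Subgroup B, C ⊓ D = ⊥ ∧ C ⊔ D = ⊤ ∧
      Nonempty (CommGroup.primaryComponent A p ≃* C) := by
  classical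
  have hp : p.Prime := Fact.out
  -- `|A| = p^a * m`
  obtain ⟨a, m, hm, hcard⟩ : ∃ a m : ℕ, ¬ p ∣ m ∧ Nat.card A = p ^ a * m := by
    have h0 : Nat.card A ≠ 0 := Nat.card_pos.ne'
    obtain ⟨a, m, hm, hc⟩ := Nat.exists_eq_pow_mul_and_not_dvd h0 p hp.ne_one
    exact ⟨a, m, hm, hc⟩
  -- projection onto the p-part: `x ↦ x ^ m`
  have hmem : ∀ x : A, x ^ m ∈ CommGroup.primaryComponent A p := by
    intro x
    rw [CommGroup.mem_primaryComponent]
    refine ⟨a, ?_⟩
    rw [← pow_mul, mul_comm, ← hcard]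
    exact pow_card_eq_one'
  let ρ : B →* CommGroup.primaryComponent A p :=
    { toFun := fun b => ⟨cor b ^ m, hmem _⟩
      map_one' := by
        apply Subtype.ext
        show cor 1 ^ m = 1
        rw [map_one, one_pow]
      map_mul' := fun x y => by
        apply Subtype.ext
        show cor (x * y) ^ m = cor x ^ m * cor y ^ m
        rw [map_mul, mul_pow] }
  let s : CommGroup.primaryComponent A p →* B := tr.comp (Subgroup.subtype _)
  have hρs : ∀ y : CommGroup.primaryComponent A p, ρ (s y) = y ^ (n * m) := by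
    intro y
    apply Subtype.ext
    show cor (tr (y : A)) ^ m = ((y ^ (n * m) : CommGroup.primaryComponent A p) : A)
    rw [h, ← pow_mul, Subgroup.coe_pow]
  have hcop : Nat.Coprime (n * m) p := by
    rw [Nat.coprime_comm, hp.coprime_iff_not_dvd, hp.dvd_mul]
    tauto
  have hνinj : ∀ y : CommGroup.primaryComponent A p, y ^ (n * m) = 1 → y = 1 := by
    intro y hy
    obtain ⟨k, hk⟩ := (CommGroup.mem_primaryComponent (G := A) (p := p)).1 y.2
    have h1 : orderOf (y : A) ∣ p ^ k := orderOf_dvd_of_pow_eq_one hk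
    have h2 : orderOf (y : A) ∣ n * m := by
      apply orderOf_dvd_of_pow_eq_one
      have := congrArg Subtype.val hy
      simpa using this
    have h3 : orderOf (y : A) ∣ Nat.gcd (p ^ k) (n * m) := Nat.dvd_gcd h1 h2
    have h4 : Nat.gcd (p ^ k) (n * m) = 1 :=
      Nat.Coprime.pow_left k (Nat.coprime_comm.1 hcop)
    rw [h4, Nat.dvd_one, orderOf_eq_one_iff] at h3
    exact Subtype.ext h3
  let ν : CommGroup.primaryComponent A p →* CommGroup.primaryComponent A p :=
    powMonoidHom (n * m)
  have hνi : Function.Injective ν := by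
    rw [injective_iff_map_eq_one]
    intro y hy
    exact hνinj y hy
  have hνs : Function.Surjective ν := Finite.surjective_of_injective hνi
  have hsinj : Function.Injective s := by
    rw [injective_iff_map_eq_one]
    intro y hy
    apply hνinj
    rw [← hρs, hy, map_one]
  refine ⟨s.range, ρ.ker, ?_, ?_, ⟨MonoidHom.ofInjective hsinj⟩⟩
  · rw [eq_bot_iff]
    rintro b ⟨⟨y, rfl⟩, hb⟩
    have hb' : ρ (s y) = 1 := hb
    rw [hρs] at hb'
    rw [hνinj y hb', map_one]
    exact Subgroup.mem_bot.2 rfl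
  · rw [eq_top_iff]
    intro b _
    obtain ⟨y, hy⟩ := hνs (ρ b)
    have hy' : y ^ (n * m) = ρ b := hy
    have hb : b = s y * ((s y)⁻¹ * b) := by group
    rw [hb]
    apply Subgroup.mul_mem_sup
    · exact ⟨y, rfl⟩
    · rw [MonoidHom.mem_ker, map_mul, map_inv, hρs, hy', inv_mul_cancel]

end Cfsg.Agent.H9.MultSylow
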