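import Mathlib
import Cfsg.Agent.H1.SchurCover
import Cfsg.Agent.H1.SchurProj

set_option autoImplicit false
set_option linter.style.haveILetI false

namespace Cfsg.Agent.H9.MultSylow

open Cfsg Cfsg.Agent.H1
open scoped commutatorElement

universe u

variable {G : Type u} [Group G] (U : Subgroup G)

/-- the canonical map `F → G` from the free group on `G` -/
abbrev piG (G : Type u) [Group G] : FreeGroup G →* G := FreeGroup.lift (id : G → G)

lemma piG_surjective : Function.Surjective (piG G) := fun g =>
  ⟨FreeGroup.of g, by simp [piG]⟩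

/-- the preimage `F_U` of `U` in the free group -/
abbrev FU : Subgroup (FreeGroup G) := U.comap (piG G)

/-- the relation subgroup inside `F_U` -/
def RU : Subgroup (FU U) := ((piG G).ker).subgroupOf (FU U)

instance RU_normal : (RU U).Normal := by
  unfold RU; infer_instance

lemma mem_RU (x : FU U) : x ∈ RU U ↔ piG G (x : FreeGroup G) = 1 := by
  unfold RU
  rw [Subgroup.mem_subgroupOf, MonoidHom.mem_ker]

/-- `[R, F_U]` inside `F_U` -/
def NU : Subgroup (FU U) := ⁅RU U, (⊤ : Subgroup (FU U))⁆

instance NU_normal : (NU U).Normal := by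
  unfold NU; infer_instance

lemma NU_le_RU : NU U ≤ RU U := Subgroup.commutator_le_left _ _

/-- the central extension `Y = F_U / [R, F_U]` of `U` -/
abbrev Y : Type u := (FU U) ⧸ (NU U)

/-- the projection `Y → U` -/
def eta : Y U →* U :=
  QuotientGroup.lift (NU U) ((piG G).subgroupComap U) (by
    intro x hx
    have h1 := (mem_RU U x).1 (NU_le_RU U hx)
    rw [MonoidHom.mem_ker]
    exact Subtype.ext h1)

lemma eta_mk (x : FU U) : ((eta U (QuotientGroup.mk x) : U) : G) = piG G (x : FreeGroup G) := rfl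

lemma eta_surjective : Function.Surjective (eta U) := by
  intro u
  refine ⟨QuotientGroup.mk ⟨FreeGroup.of (u : G), ?_⟩, ?_⟩
  · show piG G (FreeGroup.of (u : G)) ∈ U
    simp [piG]
  · apply Subtype.ext
    rw [eta_mk]
    simp [piG]

lemma mk_mem_eta_ker_iff (x : FU U) :
    (QuotientGroup.mk x : Y U) ∈ (eta U).ker ↔ x ∈ RU U := by
  rw [MonoidHom.mem_ker, mem_RU]
  constructor
  · intro h
    have := congrArg (fun u : U => (u : G)) h
    simpa [eta_mk] using this
  · intro h
    apply Subtype.ext
    rw [eta_mk, h]; rfl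

lemma eta_ker_le_center : (eta U).ker ≤ Subgroup.center (Y U) := by
  intro x hx
  obtain ⟨r, rfl⟩ := QuotientGroup.mk_surjective x
  rw [mk_mem_eta_ker_iff] at hx
  rw [Subgroup.mem_center_iff]
  intro y
  obtain ⟨f, rfl⟩ := QuotientGroup.mk_surjective y
  have h1 : ⁅r, f⁆ ∈ NU U := Subgroup.commutator_mem_commutator hx trivial
  have h2 : ((⁅r, f⁆ : FU U) : Y U) = 1 := (QuotientGroup.eq_one_iff _).2 h1
  have h3 : ⁅((r : FU U) : Y U), ((f : FU U) : Y U)⁆ = 1 := by
    rw [← h2]; rfl
  rw [commutatorElement_eq_one_iff_mul_comm] at h3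
  exact h3.symm

/-- the natural map `Y → F / [R, F]` -/
def iota : Y U →* FC G :=
  QuotientGroup.lift (NU U) ((QuotientGroup.mk' (fcKer G)).comp (FU U).subtype) (by
    intro x hx
    rw [MonoidHom.mem_ker]
    show ((x : FreeGroup G) : FC G) = 1
    rw [QuotientGroup.eq_one_iff]
    have h1 : (NU U).map (FU U).subtype ≤ fcKer G := by
      unfold NU fcKer
      rw [Subgroup.map_commutator]
      apply Subgroup.commutator_mono
      · rintro _ ⟨y, hy, rfl⟩
        exact MonoidHom.mem_ker.2 ((mem_RU U y).1 hy)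
      · exact le_top
    exact h1 ⟨x, hx, rfl⟩)

lemma iota_mk (x : FU U) : iota U (QuotientGroup.mk x) = ((x : FreeGroup G) : FC G) := rfl

lemma fcProj_iota (y : Y U) : fcProj G (iota U y) = (eta U y : G) := by
  obtain ⟨x, rfl⟩ := QuotientGroup.mk_surjective y
  rw [iota_mk, eta_mk, fcProj_mk]

end Cfsg.Agent.H9.MultSylow
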