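import Mathlib
import Cfsg.Agent.H9.MultSylowB

set_option autoImplicit false
set_option linter.style.haveILetI false

namespace Cfsg.Agent.H9.MultSylow

open Cfsg Cfsg.Agent.H1
open scoped commutatorElement

universe u

variable {G : Type u} [Group G] (U : Subgroup G)

/-- the kernel of `Y → U` is a commutative group -/
@[reducible] noncomputable def etaKerComm : CommGroup (eta U).ker :=
  { (inferInstance : Group (eta U).ker) with
    mul_comm := fun a b =>
      Subtype.ext (Subgroup.mem_center_iff.1 (eta_ker_le_center U b.2) a.1) }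

/-- the kernel of `F/[R,F] → G` is a commutative group -/
@[reducible] noncomputable def fcProjKerComm (G : Type u) [Group G] : CommGroup (fcProj G).ker :=
  { (inferInstance : Group (fcProj G).ker) with
    mul_comm := fun a b =>
      Subtype.ext (Subgroup.mem_center_iff.1 (fcProj_ker_le_center G b.2) a.1) }

attribute [local instance] etaKerComm fcProjKerComm

lemma conj_mem_FU (t : FreeGroup G) (r : (piG G).ker) :
    t⁻¹ * (r : FreeGroup G) * t ∈ FU U := by
  show piG G (t⁻¹ * (r : FreeGroup G) * t) ∈ U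
  rw [map_mul, map_mul, MonoidHom.mem_ker.1 r.2, map_inv, mul_one, inv_mul_cancel]
  exact one_mem _

lemma conj_mem_RU (t : FreeGroup G) (r : (piG G).ker) :
    (⟨t⁻¹ * (r : FreeGroup G) * t, conj_mem_FU U t r⟩ : FU U) ∈ RU U := by
  rw [mem_RU]
  show piG G (t⁻¹ * (r : FreeGroup G) * t) = 1
  rw [map_mul, map_mul, MonoidHom.mem_ker.1 r.2, map_inv, mul_one, inv_mul_cancel]

/-- one factor of the transfer: `r ↦ t⁻¹ r t` modulo `[R, F_U]` -/
noncomputable def cfac (t : FreeGroup G) : (piG G).ker →* (eta U).ker where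
  toFun r := ⟨QuotientGroup.mk ⟨t⁻¹ * (r : FreeGroup G) * t, conj_mem_FU U t r⟩,
    (mk_mem_eta_ker_iff U _).2 (conj_mem_RU U t r)⟩
  map_one' := by
    apply Subtype.ext
    show (QuotientGroup.mk ⟨t⁻¹ * ((1 : (piG G).ker) : FreeGroup G) * t, _⟩ : Y U) = 1
    have : (⟨t⁻¹ * ((1 : (piG G).ker) : FreeGroup G) * t, conj_mem_FU U t 1⟩ : FU U) = 1 := by
      apply Subtype.ext
      simp
    rw [this]; rfl
  map_mul' a b := by
    apply Subtype.ext
    show (QuotientGroup.mk ⟨t⁻¹ * ((a * b : (piG G).ker) : FreeGroup G) * t, _⟩ : Y U) =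
      QuotientGroup.mk ⟨t⁻¹ * (a : FreeGroup G) * t, conj_mem_FU U t a⟩ *
        QuotientGroup.mk ⟨t⁻¹ * (b : FreeGroup G) * t, conj_mem_FU U t b⟩
    rw [← QuotientGroup.mk_mul]
    congr 1
    apply Subtype.ext
    show t⁻¹ * ((a : FreeGroup G) * b) * t = (t⁻¹ * a * t) * (t⁻¹ * b * t)
    group

lemma cfac_coe (t : FreeGroup G) (r : (piG G).ker) :
    ((cfac U t r : (eta U).ker) : Y U) =
      QuotientGroup.mk ⟨t⁻¹ * (r : FreeGroup G) * t, conj_mem_FU U t r⟩ := rfl

lemma cfac_mul_right (t : FreeGroup G) (u : FU U) : cfac U (t * (u : FreeGroup G)) = cfac U t := by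
  apply MonoidHom.ext
  intro r
  apply Subtype.ext
  rw [cfac_coe, cfac_coe]
  have h1 : (⟨(t * (u : FreeGroup G))⁻¹ * (r : FreeGroup G) * (t * u), conj_mem_FU U _ r⟩ : FU U) =
      u⁻¹ * ⟨t⁻¹ * (r : FreeGroup G) * t, conj_mem_FU U t r⟩ * u := by
    apply Subtype.ext
    show (t * (u : FreeGroup G))⁻¹ * (r : FreeGroup G) * (t * u) =
      (u : FreeGroup G)⁻¹ * (t⁻¹ * (r : FreeGroup G) * t) * u
    group
  rw [h1, QuotientGroup.mk_mul, QuotientGroup.mk_mul, QuotientGroup.mk_inv]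
  have hc : (QuotientGroup.mk ⟨t⁻¹ * (r : FreeGroup G) * t, conj_mem_FU U t r⟩ : Y U) ∈
      Subgroup.center (Y U) :=
    eta_ker_le_center U ((mk_mem_eta_ker_iff U _).2 (conj_mem_RU U t r))
  rw [mul_assoc, ← Subgroup.mem_center_iff.1 hc, inv_mul_cancel_left]

lemma cfac_eq_of_mk_eq (t t' : FreeGroup G)
    (h : (t : FreeGroup G ⧸ FU U) = (t' : FreeGroup G ⧸ FU U)) : cfac U t = cfac U t' := by
  have h1 : t⁻¹ * t' ∈ FU U := QuotientGroup.eq.1 h
  have h2 : t' = t * ((⟨t⁻¹ * t', h1⟩ : FU U) : FreeGroup G) := by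
    show t' = t * (t⁻¹ * t')
    group
  rw [h2, cfac_mul_right]

lemma conj_mem_ker (y : FreeGroup G) (r : (piG G).ker) :
    y * (r : FreeGroup G) * y⁻¹ ∈ (piG G).ker := by
  rw [MonoidHom.mem_ker, map_mul, map_mul, MonoidHom.mem_ker.1 r.2, map_inv, mul_one,
    mul_inv_cancel]

lemma cfac_conj (t y : FreeGroup G) (r : (piG G).ker) :
    cfac U t ⟨y * (r : FreeGroup G) * y⁻¹, conj_mem_ker y r⟩ = cfac U (y⁻¹ * t) r := by
  apply Subtype.ext
  rw [cfac_coe, cfac_coe]
  congr 1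
  apply Subtype.ext
  show t⁻¹ * (y * (r : FreeGroup G) * y⁻¹) * t = (y⁻¹ * t)⁻¹ * (r : FreeGroup G) * (y⁻¹ * t)
  group

variable [(FU U).FiniteIndex]

/-- the transfer `R → R/[R,F_U]` -/
noncomputable def T : (piG G).ker →* (eta U).ker :=
  letI := (FU U).fintypeQuotientOfFiniteIndex
  ∏ q : FreeGroup G ⧸ FU U, cfac U q.out

lemma T_apply (r : (piG G).ker) :
    T U r = (letI := (FU U).fintypeQuotientOfFiniteIndex
      ∏ q : FreeGroup G ⧸ FU U, cfac U q.out r) := by
  letI := (FU U).fintypeQuotientOfFiniteIndex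
  unfold T
  rw [MonoidHom.finsetProd_apply]

lemma T_conj (y : FreeGroup G) (r : (piG G).ker) :
    T U ⟨y * (r : FreeGroup G) * y⁻¹, conj_mem_ker y r⟩ = T U r := by
  letI := (FU U).fintypeQuotientOfFiniteIndex
  rw [T_apply, T_apply]
  have h1 : ∀ q : FreeGroup G ⧸ FU U,
      cfac U q.out ⟨y * (r : FreeGroup G) * y⁻¹, conj_mem_ker y r⟩ =
        cfac U ((y⁻¹ • q).out) r := by
    intro q
    rw [cfac_conj]
    congr 1
    apply cfac_eq_of_mk_eq
    rw [QuotientGroup.out_eq']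
    show ((y⁻¹ * q.out : FreeGroup G) : FreeGroup G ⧸ FU U) = y⁻¹ • q
    conv_rhs => rw [← QuotientGroup.out_eq' q]
    rfl
  rw [Finset.prod_congr rfl (fun q _ => h1 q)]
  exact Fintype.prod_equiv (MulAction.toPerm y⁻¹) _ _ (fun q => rfl)

/-- `R → ker(F/[R,F] → G)` -/
noncomputable def rho (G : Type u) [Group G] : (piG G).ker →* (fcProj G).ker where
  toFun r := ⟨((r : FreeGroup G) : FC G), by
    rw [MonoidHom.mem_ker, fcProj_mk]; exact MonoidHom.mem_ker.1 r.2⟩
  map_one' := rfl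
  map_mul' _ _ := rfl

lemma rho_coe (r : (piG G).ker) : ((rho G r : (fcProj G).ker) : FC G) = ((r : FreeGroup G) : FC G) :=
  rfl

lemma rho_surjective : Function.Surjective (rho G) := by
  rintro ⟨x, hx⟩
  obtain ⟨r, rfl⟩ := QuotientGroup.mk_surjective x
  rw [MonoidHom.mem_ker, fcProj_mk] at hx
  exact ⟨⟨r, MonoidHom.mem_ker.2 hx⟩, rfl⟩

/-- `Y → F/[R,F]` on the kernels -/
noncomputable def iotaK : (eta U).ker →* (fcProj G).ker where
  toFun y := ⟨iota U (y : Y U), by
    rw [MonoidHom.mem_ker, fcProj_iota, MonoidHom.mem_ker.1 y.2]; rfl⟩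
  map_one' := by
    apply Subtype.ext
    show iota U ((1 : (eta U).ker) : Y U) = 1
    rw [Subgroup.coe_one, map_one]
  map_mul' a b := by
    apply Subtype.ext
    show iota U ((a * b : (eta U).ker) : Y U) = iota U a * iota U b
    rw [Subgroup.coe_mul, map_mul]

omit [(FU U).FiniteIndex] in
lemma iotaK_cfac (t : FreeGroup G) (r : (piG G).ker) : iotaK U (cfac U t r) = rho G r := by
  apply Subtype.ext
  show iota U ((cfac U t r : (eta U).ker) : Y U) = ((r : FreeGroup G) : FC G)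
  rw [cfac_coe, iota_mk]
  show ((t⁻¹ * (r : FreeGroup G) * t : FreeGroup G) : FC G) = _
  rw [QuotientGroup.mk_mul, QuotientGroup.mk_mul, QuotientGroup.mk_inv]
  have hc : ((r : FreeGroup G) : FC G) ∈ Subgroup.center (FC G) :=
    fcProj_ker_le_center G (rho G r).2
  rw [mul_assoc, ← Subgroup.mem_center_iff.1 hc, inv_mul_cancel_left]

lemma iotaK_T (r : (piG G).ker) : iotaK U (T U r) = rho G r ^ (FU U).index := by
  letI := (FU U).fintypeQuotientOfFiniteIndex
  rw [T_apply, map_prod]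
  rw [Finset.prod_congr rfl (fun q _ => iotaK_cfac U q.out r), Finset.prod_const, Finset.card_univ,
    Subgroup.index_eq_card, Nat.card_eq_fintype_card]

/-- the transfer kills `[R, F]` -/
lemma rho_ker_le_T_ker : (rho G).ker ≤ (T U).ker := by
  have h1 : fcKer G ≤ ((T U).ker).map (piG G).ker.subtype := by
    unfold fcKer
    rw [Subgroup.commutator_le]
    intro r hr y _
    have hr' : r ∈ (piG G).ker := hr
    have h2 : ⁅r, y⁆ = r * (y * r⁻¹ * y⁻¹) := by
      rw [commutatorElement_def]; group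
    refine ⟨⟨r, hr'⟩ * ⟨y * ((⟨r, hr'⟩⁻¹ : (piG G).ker) : FreeGroup G) * y⁻¹,
      conj_mem_ker y _⟩, ?_, ?_⟩
    · rw [SetLike.mem_coe, MonoidHom.mem_ker, map_mul, T_conj, ← map_mul, mul_inv_cancel, map_one]
    · show r * (y * r⁻¹ * y⁻¹) = ⁅r, y⁆
      rw [h2]
  intro r hr
  rw [MonoidHom.mem_ker] at hr
  have h3 : ((r : FreeGroup G) : FC G) = 1 := congrArg Subtype.val hr
  rw [QuotientGroup.eq_one_iff] at h3
  obtain ⟨r', hr', hrr⟩ := h1 h3
  have : r' = r := Subtype.ext hrr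
  rw [← this]; exact hr'

end Cfsg.Agent.H9.MultSylow
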