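import Mathlib
import Cfsg.Agent.H9.MultSylowC

set_option autoImplicit false
set_option linter.style.haveILetI false

namespace Cfsg.Agent.H9.MultSylow

open Cfsg Cfsg.Agent.H1
open scoped commutatorElement

universe u

variable {G : Type u} [Group G] (U : Subgroup G)

attribute [local instance] etaKerComm fcProjKerComm

/-- elements of `R` act trivially on `F / F_U` -/
lemma smul_eq_of_mem_ker (r : (piG G).ker) (q : FreeGroup G ⧸ FU U) :
    (r : FreeGroup G) • q = q := by
  obtain ⟨t, rfl⟩ := QuotientGroup.mk_surjective q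
  show ((r : FreeGroup G) * t : FreeGroup G ⧸ FU U) = t
  rw [eq_comm, QuotientGroup.eq]
  have : t⁻¹ * ((r : FreeGroup G) * t) = t⁻¹ * (r : FreeGroup G) * t := by group
  rw [this]
  exact conj_mem_FU U t r

variable [(FU U).FiniteIndex]

/-- the transfer maps `R ∩ [F,F]` into `[Y,Y]` -/
lemma T_mem_commutator (r : (piG G).ker) (hr : (r : FreeGroup G) ∈ commutator (FreeGroup G)) :
    ((T U r : (eta U).ker) : Y U) ∈ commutator (Y U) := by
  letI := (FU U).fintypeQuotientOfFiniteIndex
  let ϕ : FU U →* Abelianization (Y U) := Abelianization.of.comp (QuotientGroup.mk' (NU U))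
  have h1 : MonoidHom.transfer ϕ (r : FreeGroup G) =
      Abelianization.of ((T U r : (eta U).ker) : Y U) := by
    let S₀ : (FU U).LeftTransversal :=
      ⟨Set.range (Quotient.out : FreeGroup G ⧸ FU U → FreeGroup G),
        Subgroup.isComplement_range_left Quotient.out_eq'⟩
    rw [MonoidHom.transfer_def ϕ S₀, T_apply]
    have h2 : Abelianization.of (((∏ q : FreeGroup G ⧸ FU U, cfac U q.out r : (eta U).ker)) : Y U) =
        ∏ q : FreeGroup G ⧸ FU U, Abelianization.of ((cfac U q.out r : (eta U).ker) : Y U) :=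
      map_prod ((Abelianization.of : Y U →* Abelianization (Y U)).comp (eta U).ker.subtype) _ _
    rw [h2]
    unfold Subgroup.leftTransversals.diff
    apply Finset.prod_congr rfl
    intro q _
    show Abelianization.of (QuotientGroup.mk _ : Y U) = Abelianization.of (QuotientGroup.mk _ : Y U)
    congr 2
    apply Subtype.ext
    show ((S₀.2.leftQuotientEquiv q : FreeGroup G))⁻¹ *
        (((r : FreeGroup G) • S₀).2.leftQuotientEquiv q : FreeGroup G) =
      q.out⁻¹ * (r : FreeGroup G) * q.out
    rw [Subgroup.smul_apply_eq_smul_apply_inv_smul]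
    have h3 : (r : FreeGroup G)⁻¹ • q = q := by
      have := smul_eq_of_mem_ker U r q
      rw [← this, inv_smul_smul, this]
    rw [h3]
    have h4 : (S₀.2.leftQuotientEquiv q : FreeGroup G) = q.out :=
      Subgroup.IsComplement.leftQuotientEquiv_apply Quotient.out_eq' q
    rw [h4, smul_eq_mul, mul_assoc]
  have h5 : MonoidHom.transfer ϕ (r : FreeGroup G) = 1 := by
    have : (r : FreeGroup G) ∈ (MonoidHom.transfer ϕ).ker :=
      Abelianization.commutator_subset_ker _ hr
    exact MonoidHom.mem_ker.1 this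
  rw [h5] at h1
  exact (QuotientGroup.eq_one_iff _).1 h1.symm


omit [(FU U).FiniteIndex] in
/-- free groups are projective -/
lemma exists_lift_of_isFreeGroup {E : Type u} {A B : Type*} [Group E] [IsFreeGroup E] [Group A]
    [Group B] (ρ : A →* B) (hρ : Function.Surjective ρ) (φ : E →* B) :
    ∃ φ' : E →* A, ρ.comp φ' = φ := by
  choose s hs using hρ
  refine ⟨IsFreeGroup.lift (fun a => s (φ (IsFreeGroup.of a))), ?_⟩
  apply IsFreeGroup.ext_hom
  intro a
  rw [MonoidHom.comp_apply, IsFreeGroup.lift_of, hs]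

omit [(FU U).FiniteIndex] in
/-- a lift `Y → FC U` over `U` (Nielsen–Schreier) -/
lemma exists_psi : ∃ ψ : Y U →* FC U, ∀ y, fcProj U (ψ y) = eta U y := by
  obtain ⟨ψ₀, hψ₀⟩ := exists_lift_of_isFreeGroup (fcProj U) (fcProj_surjective U)
    ((piG G).subgroupComap U)
  have hψ₀' : ∀ x : FU U, fcProj U (ψ₀ x) = (piG G).subgroupComap U x :=
    fun x => DFunLike.congr_fun hψ₀ x
  have hN : NU U ≤ ψ₀.ker := by
    unfold NU
    rw [Subgroup.commutator_le]
    intro r hr f _
    rw [MonoidHom.mem_ker, map_commutatorElement]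
    apply comm_central_left
    apply fcProj_ker_le_center U
    rw [MonoidHom.mem_ker, hψ₀']
    apply Subtype.ext
    exact (mem_RU U r).1 hr
  refine ⟨QuotientGroup.lift (NU U) ψ₀ hN, ?_⟩
  intro y
  obtain ⟨x, rfl⟩ := QuotientGroup.mk_surjective y
  show fcProj U (ψ₀ x) = eta U (QuotientGroup.mk x)
  rw [hψ₀']; rfl

omit [(FU U).FiniteIndex] in
lemma map_mem_commutator {X X' : Type*} [Group X] [Group X'] (f : X →* X') {x : X}
    (hx : x ∈ commutator X) : f x ∈ commutator X' := by
  have h : (commutator X).map f ≤ commutator X' := by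
    rw [commutator_def, Subgroup.map_commutator, commutator_def]
    exact Subgroup.commutator_mono le_top le_top
  exact h ⟨x, hx, rfl⟩

/-- **transfer and corestriction on multipliers**: `cor ∘ tr` is the `|G:U|`-th power map -/
theorem exists_tr_cor [Finite G] : ∃ (tr : fcMult G →* fcMult U) (cor : fcMult U →* fcMult G),
    ∀ x, cor (tr x) = x ^ U.index := by
  classical
  obtain ⟨θ, hθ⟩ := fc_lift U (eta U) (eta_surjective U) (eta_ker_le_center U)
  have hθ' : ∀ z, eta U (θ z) = fcProj U z := fun z => DFunLike.congr_fun hθ z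
  obtain ⟨ψ, hψ⟩ := exists_psi U
  have hcomm : ∀ y ∈ commutator (Y U), θ (ψ y) = y := by
    have h1 := commutator_le_eqLocus_of_central (θ.comp ψ) (MonoidHom.id (Y U)) (fun y => by
      apply eta_ker_le_center U
      rw [MonoidHom.mem_ker, map_mul, map_inv, MonoidHom.id_apply, MonoidHom.comp_apply, hθ', hψ,
        inv_mul_cancel])
    intro y hy
    exact h1 hy
  -- the descended transfer
  let Tb : (fcProj G).ker →* (eta U).ker :=
    (rho G).liftOfRightInverse (Function.surjInv rho_surjective)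
      (Function.rightInverse_surjInv rho_surjective) ⟨T U, rho_ker_le_T_ker U⟩
  have hTb : ∀ r, Tb (rho G r) = T U r := fun r =>
    MonoidHom.liftOfRightInverse_comp_apply (rho G) _ _ ⟨T U, rho_ker_le_T_ker U⟩ r
  -- representatives of multiplier elements
  have hrep : ∀ x : fcMult G, ∃ r : (piG G).ker, (r : FreeGroup G) ∈ commutator (FreeGroup G) ∧
      rho G r = Subgroup.inclusion (fcMult_le_ker G) x := by
    intro x
    have h1 : (x : FC G) ∈ (commutator (FreeGroup G)).map (QuotientGroup.mk' (fcKer G)) := by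
      have h2 : (commutator (FreeGroup G)).map (QuotientGroup.mk' (fcKer G)) = commutator (FC G) := by
        rw [commutator_def, Subgroup.map_commutator,
          Subgroup.map_top_of_surjective _ (QuotientGroup.mk'_surjective _), commutator_def]
      rw [h2]
      exact fcMult_le_comm G x.2
    obtain ⟨r₀, hr₀, hr₀x⟩ := h1
    have h3 : r₀ ∈ (piG G).ker := by
      rw [MonoidHom.mem_ker]
      have h4 : fcProj G (x : FC G) = 1 := MonoidHom.mem_ker.1 (fcMult_le_ker G x.2)
      rw [← hr₀x] at h4
      exact h4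
    exact ⟨⟨r₀, h3⟩, hr₀, Subtype.ext hr₀x⟩
  let tr₁ : fcMult G →* FC U :=
    ((ψ.comp (eta U).ker.subtype).comp Tb).comp (Subgroup.inclusion (fcMult_le_ker G))
  have htr₁ : ∀ (x : fcMult G) (r : (piG G).ker),
      rho G r = Subgroup.inclusion (fcMult_le_ker G) x → tr₁ x = ψ ((T U r : (eta U).ker) : Y U) := by
    intro x r hr
    show ψ ((Tb (Subgroup.inclusion (fcMult_le_ker G) x) : (eta U).ker) : Y U) = _
    rw [← hr, hTb]
  have hmem₁ : ∀ x : fcMult G, tr₁ x ∈ fcMult U := by
    intro x
    obtain ⟨r, hr, hrx⟩ := hrep x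
    rw [htr₁ x r hrx]
    unfold fcMult
    rw [Subgroup.mem_inf]
    refine ⟨?_, map_mem_commutator ψ (T_mem_commutator U r hr)⟩
    rw [MonoidHom.mem_ker, hψ]
    exact MonoidHom.mem_ker.1 (T U r).2
  let cor₁ : fcMult U →* FC G := (iota U).comp (θ.comp (fcMult U).subtype)
  have hmem₂ : ∀ m : fcMult U, cor₁ m ∈ fcMult G := by
    intro m
    show iota U (θ (m : FC U)) ∈ fcMult G
    unfold fcMult
    rw [Subgroup.mem_inf]
    refine ⟨?_, map_mem_commutator (iota U) (map_mem_commutator θ (fcMult_le_comm U m.2))⟩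
    rw [MonoidHom.mem_ker, fcProj_iota, hθ', MonoidHom.mem_ker.1 (fcMult_le_ker U m.2)]
    rfl
  refine ⟨tr₁.codRestrict (fcMult U) hmem₁, cor₁.codRestrict (fcMult G) hmem₂, ?_⟩
  intro x
  obtain ⟨r, hr, hrx⟩ := hrep x
  apply Subtype.ext
  show iota U (θ (tr₁ x)) = ((x ^ U.index : fcMult G) : FC G)
  rw [htr₁ x r hrx, hcomm _ (T_mem_commutator U r hr)]
  have h1 : iota U ((T U r : (eta U).ker) : Y U) = ((iotaK U (T U r) : (fcProj G).ker) : FC G) := rfl
  rw [h1, iotaK_T, hrx, Subgroup.index_comap_of_surjective U piG_surjective]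
  rfl

end Cfsg.Agent.H9.MultSylow
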