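import Mathlib
import Cfsg.Agent.Lib.Helper6.GolayNF
import Cfsg.Agent.Lib.Helper6.M12Out1

/-!
# Permutations of the 24 points coded as natural numbers

A permutation is coded in base `32`: the digit at place `i` is the image of the point of index `i`.
Products are computed by an unrolled expression, which the kernel evaluates quickly.
-/

set_option autoImplicit false

namespace Cfsg.Agent.H9.NatPerm

open Cfsg Cfsg.Agent.Lib.Helper6.Golay Cfsg.Agent.Lib.Helper6.Golay.M12Out

/-- the digit of `c` at place `i` in base `32` -/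
def aget (c i : ℕ) : ℕ := Nat.land (Nat.shiftRight c (Nat.mul 5 i)) 31

theorem aget_eq (c i : ℕ) : aget c i = c / 32 ^ i % 32 := by
  show (c >>> (5 * i)) &&& 31 = _
  rw [Nat.shiftRight_eq_div_pow, pow_mul, show (31 : ℕ) = 2 ^ 5 - 1 by norm_num,
    Nat.and_two_pow_sub_one_eq_mod]
  norm_num

/-- the list of the first 24 digits -/
def dec24 (c : ℕ) : List ℕ := (List.range 24).map (aget c)

/-- the number with given digits -/
def enc (l : List ℕ) : ℕ := Nat.ofDigits 32 l

theorem aget_lt (c i : ℕ) : aget c i < 32 := by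
  rw [aget_eq]
  exact Nat.mod_lt _ (by norm_num)

theorem aget_succ (c i : ℕ) : aget c (i + 1) = aget (c / 32) i := by
  rw [aget_eq, aget_eq]
  rw [pow_succ', Nat.div_div_eq_div_mul]

theorem aget_enc : ∀ (l : List ℕ), (∀ x ∈ l, x < 32) → ∀ i : ℕ, aget (enc l) i = l.getD i 0
  | [], _, i => by simp [aget_eq, enc]
  | a :: l, hl, 0 => by
      have ha : a < 32 := hl a (by simp)
      simp only [aget_eq, enc, Nat.ofDigits_cons, pow_zero, Nat.div_one, List.getD_cons_zero]
      rw [Nat.add_mul_mod_self_left, Nat.mod_eq_of_lt ha]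
  | a :: l, hl, i + 1 => by
      have ha : a < 32 := hl a (by simp)
      rw [aget_succ, List.getD_cons_succ, ← aget_enc l (fun x hx => hl x (by simp [hx])) i]
      congr 1
      simp only [enc, Nat.ofDigits_cons]
      rw [Nat.add_mul_div_left _ _ (by norm_num : 0 < 32), Nat.div_eq_of_lt ha, zero_add]

theorem length_dec24 (c : ℕ) : (dec24 c).length = 24 := by simp [dec24]

theorem getD_dec24 (c : ℕ) {i : ℕ} (hi : i < 24) : (dec24 c).getD i 0 = aget c i := by
  unfold dec24
  rw [List.getD_eq_getElem _ _ (by simpa using hi)]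
  simp

theorem dec24_enc {l : List ℕ} (hlen : l.length = 24) (hl : ∀ x ∈ l, x < 32) :
    dec24 (enc l) = l := by
  apply List.ext_getElem (by rw [length_dec24, hlen])
  intro i h1 h2
  have hi : i < 24 := by rw [length_dec24] at h1; exact h1
  have := getD_dec24 (enc l) hi
  rw [List.getD_eq_getElem _ _ h1, aget_enc l hl, List.getD_eq_getElem _ _ h2] at this
  exact this

theorem enc_range_map : ∀ (n c : ℕ), c < 32 ^ n → enc ((List.range n).map (aget c)) = c
  | 0, c, h => by
      have : c = 0 := by simpa using h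
      subst this
      simp [enc]
  | n + 1, c, h => by
      rw [List.range_succ_eq_map, List.map_cons, List.map_map]
      have h1 : (aget c ∘ Nat.succ) = aget (c / 32) := by
        funext i
        exact aget_succ c i
      rw [h1]
      have h2 : c / 32 < 32 ^ n := by
        rw [Nat.div_lt_iff_lt_mul (by norm_num)]
        rw [pow_succ] at h
        exact h
      have ih := enc_range_map n (c / 32) h2
      unfold enc at ih ⊢
      rw [Nat.ofDigits_cons, ih]
      simp only [aget_eq, pow_zero, Nat.div_one]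
      exact Nat.mod_add_div c 32

theorem enc_dec24 {c : ℕ} (h : c < 32 ^ 24) : enc (dec24 c) = c := enc_range_map 24 c h

theorem dec24_injective {c c' : ℕ} (h : c < 32 ^ 24) (h' : c' < 32 ^ 24)
    (he : dec24 c = dec24 c') : c = c' := by
  rw [← enc_dec24 h, ← enc_dec24 h', he]

/-- product of coded permutations: `(a * b)(i) = a(b(i))` -/
def pmul (a b : ℕ) : ℕ :=
  Nat.add (Nat.land (Nat.shiftRight a (Nat.mul 5 (Nat.land (Nat.shiftRight b 0) 31))) 31) (Nat.mul 32 (Nat.add (Nat.land (Nat.shiftRight a (Nat.mul 5 (Nat.land (Nat.shiftRight b 5) 31))) 31) (Nat.mul 32 (Nat.add (Nat.land (Nat.shiftRight a (Nat.mul 5 (Nat.land (Nat.shiftRight b 10) 31))) 31) (Nat.mul 32 (Nat.add (Nat.land (Nat.shiftRight a (Nat.mul 5 (Nat.land (Nat.shiftRight b 15) 31))) 31) (Nat.mul 32 (Nat.add (Nat.land (Nat.shiftRight a (Nat.mul 5 (Nat.land (Nat.shiftRight b 20) 31))) 31) (Nat.mul 32 (Nat.add (Nat.land (Nat.shiftRight a (Nat.mul 5 (Nat.land (Nat.shiftRight b 25) 31))) 31) (Nat.mul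 32 (Nat.add (Nat.land (Nat.shiftRight a (Nat.mul 5 (Nat.land (Nat.shiftRight b 30) 31))) 31) (Nat.mul 32 (Nat.add (Nat.land (Nat.shiftRight a (Nat.mul 5 (Nat.land (Nat.shiftRight b 35) 31))) 31) (Nat.mul 32 (Nat.add (Nat.land (Nat.shiftRight a (Nat.mul 5 (Nat.land (Nat.shiftRight b 40) 31))) 31) (Nat.mul 32 (Nat.add (Nat.land (Nat.shiftRight a (Nat.mul 5 (Nat.land (Nat.shiftRight b 45) 31))) 31) (Nat.mul 32 (Nat.add (Nat.land (Nat.shiftRight a (Nat.mul 5 (Nat.land (Nat.shiftRight b 50) 31))) 31) (Nat.mul 32 (Nat.add (Nat.land (Nat.shiftRight a (Nat.mul 5 (Nat.land (Nat.shiftRight b 55) 31))) 31) (Nat.mul 32 (Nat.add (Nat.land (Nat.shiftRight a (Nat.mul 5 (Nat.land (Nat.shiftRight b 60) 31))) 31) (Nat.mul 32 (Nat.add (Nat.land (Nat.shiftRight a (Nat.mul 5 (Nat.land (Nat.shiftRight b 65) 31))) 31) (Nat.mul 32 (Nat.add (Nat.land (Nat.shiftRight a (Nat.mul 5 (Nat.land (Nat.shiftRight b 70) 31))) 31) (Nat.mul 32 (Nat.add (Nat.land (Nat.shiftRight a (Nat.mul 5 (Nat.land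 (Nat.shiftRight b 75) 31))) 31) (Nat.mul 32 (Nat.add (Nat.land (Nat.shiftRight a (Nat.mul 5 (Nat.land (Nat.shiftRight b 80) 31))) 31) (Nat.mul 32 (Nat.add (Nat.land (Nat.shiftRight a (Nat.mul 5 (Nat.land (Nat.shiftRight b 85) 31))) 31) (Nat.mul 32 (Nat.add (Nat.land (Nat.shiftRight a (Nat.mul 5 (Nat.land (Nat.shiftRight b 90) 31))) 31) (Nat.mul 32 (Nat.add (Nat.land (Nat.shiftRight a (Nat.mul 5 (Nat.land (Nat.shiftRight b 95) 31))) 31) (Nat.mul 32 (Nat.add (Nat.land (Nat.shiftRight a (Nat.mul 5 (Nat.land (Nat.shiftRight b 100) 31))) 31) (Nat.mul 32 (Nat.add (Nat.land (Nat.shiftRight a (Nat.mul 5 (Nat.land (Nat.shiftRight b 105) 31))) 31) (Nat.mul 32 (Nat.add (Nat.land (Nat.shiftRight a (Nat.mul 5 (Nat.land (Nat.shiftRight b 110) 31))) 31) (Nat.mul 32 ((Nat.land (Nat.shiftRight a (Nat.mul 5 (Nat.land (Nat.shiftRight b 115) 31))) 31)))))))))))))))))))))))))))))))))))))))))))))))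

theorem pmul_eq (a b : ℕ) :
    pmul a b = enc ((List.range 24).map (fun i => aget a (aget b i))) := by
  rfl

theorem pmul_lt (a b : ℕ) : pmul a b < 32 ^ 24 := by
  rw [pmul_eq]
  have := Nat.ofDigits_lt_base_pow_length (b := 32) (l := (List.range 24).map
    (fun i => aget a (aget b i))) (by norm_num) (by
      intro x hx
      rw [List.mem_map] at hx
      obtain ⟨i, -, rfl⟩ := hx
      exact aget_lt _ _)
  simpa [enc] using this

/-- well-formedness of a code -/
def wfc (c : ℕ) : Bool :=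
  Nat.blt c 1329227995784915872903807060280344576 &&
    Nat.blt (Nat.land (Nat.shiftRight c 0) 31) 24 &&
    Nat.blt (Nat.land (Nat.shiftRight c 5) 31) 24 &&
    Nat.blt (Nat.land (Nat.shiftRight c 10) 31) 24 &&
    Nat.blt (Nat.land (Nat.shiftRight c 15) 31) 24 &&
    Nat.blt (Nat.land (Nat.shiftRight c 20) 31) 24 &&
    Nat.blt (Nat.land (Nat.shiftRight c 25) 31) 24 &&
    Nat.blt (Nat.land (Nat.shiftRight c 30) 31) 24 &&
    Nat.blt (Nat.land (Nat.shiftRight c 35) 31) 24 &&
    Nat.blt (Nat.land (Nat.shiftRight c 40) 31) 24 &&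
    Nat.blt (Nat.land (Nat.shiftRight c 45) 31) 24 &&
    Nat.blt (Nat.land (Nat.shiftRight c 50) 31) 24 &&
    Nat.blt (Nat.land (Nat.shiftRight c 55) 31) 24 &&
    Nat.blt (Nat.land (Nat.shiftRight c 60) 31) 24 &&
    Nat.blt (Nat.land (Nat.shiftRight c 65) 31) 24 &&
    Nat.blt (Nat.land (Nat.shiftRight c 70) 31) 24 &&
    Nat.blt (Nat.land (Nat.shiftRight c 75) 31) 24 &&
    Nat.blt (Nat.land (Nat.shiftRight c 80) 31) 24 &&
    Nat.blt (Nat.land (Nat.shiftRight c 85) 31) 24 &&
    Nat.blt (Nat.land (Nat.shiftRight c 90) 31) 24 &&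
    Nat.blt (Nat.land (Nat.shiftRight c 95) 31) 24 &&
    Nat.blt (Nat.land (Nat.shiftRight c 100) 31) 24 &&
    Nat.blt (Nat.land (Nat.shiftRight c 105) 31) 24 &&
    Nat.blt (Nat.land (Nat.shiftRight c 110) 31) 24 &&
    Nat.blt (Nat.land (Nat.shiftRight c 115) 31) 24

theorem wf_dec24_of_lt {c : ℕ} (h : ∀ i < 24, aget c i < 24) : wf (dec24 c) = true := by
  rw [wf_iff]
  refine ⟨length_dec24 c, ?_⟩
  intro x hx
  unfold dec24 at hx
  rw [List.mem_map] at hx
  obtain ⟨i, hi, rfl⟩ := hx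
  exact h i (List.mem_range.mp hi)

set_option maxRecDepth 100000 in
theorem wfc_imp {c : ℕ} (h : wfc c = true) : c < 32 ^ 24 ∧ ∀ i < 24, aget c i < 24 := by
  unfold wfc at h
  simp only [Bool.and_eq_true, Nat.blt_eq] at h
  have h32 : (32 : ℕ) ^ 24 = 1329227995784915872903807060280344576 := by norm_num
  rw [h32]
  refine ⟨by tauto, ?_⟩
  intro i hi
  interval_cases i <;> tauto

theorem dec24_pmul (a : ℕ) {b : ℕ} (hb : wf (dec24 b) = true) :
    dec24 (pmul a b) = lmul (dec24 a) (dec24 b) := by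
  rw [pmul_eq, dec24_enc (by simp) (by
    intro x hx
    rw [List.mem_map] at hx
    obtain ⟨i, -, rfl⟩ := hx
    exact aget_lt _ _)]
  unfold lmul
  rw [show dec24 b = (List.range 24).map (aget b) from rfl, List.map_map]
  apply List.map_congr_left
  intro i hi
  have hi' : i < 24 := List.mem_range.mp hi
  simp only [Function.comp]
  have h1 : aget b i < 24 := by
    have := getD_lt hb hi'
    rwa [getD_dec24 b hi'] at this
  rw [getD_dec24 a h1]

/-- a permutation is described by a code -/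
def IsC (g : Equiv.Perm GolayPt) (c : ℕ) : Prop := IsL g (dec24 c)

theorem IsC.mul {a b : Equiv.Perm GolayPt} {ca cb : ℕ} (ha : IsC a ca) (hb : IsC b cb) :
    IsC (a * b) (pmul ca cb) := by
  unfold IsC
  rw [dec24_pmul ca hb.1]
  exact IsL.mul ha hb

theorem IsC.ext {a b : Equiv.Perm GolayPt} {c : ℕ} (ha : IsC a c) (hb : IsC b c) : a = b :=
  IsL.ext ha hb

theorem IsC.code_eq {a : Equiv.Perm GolayPt} {c c' : ℕ} (h : IsC a c) (h' : IsC a c')
    (hc : c < 32 ^ 24) (hc' : c' < 32 ^ 24) : c = c' := by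
  apply dec24_injective hc hc'
  apply lfun_injective h.1 h'.1
  rw [← h.2, ← h'.2]

theorem IsC.apply {a : Equiv.Perm GolayPt} {c : ℕ} (h : IsC a c) {i : ℕ} (hi : i < 24) :
    a (pt i) = pt (aget c i) := by
  rw [IsL.apply h hi, getD_dec24 c hi]

/-- the code of the identity -/
def idc : ℕ := 984818244535754528103549039458486304

theorem dec24_idc : dec24 idc = idl := by decide

theorem isC_one : IsC 1 idc := by
  unfold IsC
  rw [dec24_idc]
  exact IsL.one

theorem idc_lt : idc < 32 ^ 24 := by decide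

/-- an element of the array `A` of width `w` -/
def arr (w A i : ℕ) : ℕ :=
  Nat.land (Nat.shiftRight A (Nat.mul w i)) (Nat.sub (Nat.shiftLeft 1 w) 1)

theorem arr_lt (w A i : ℕ) : arr w A i < 2 ^ w := by
  show (A >>> (w * i)) &&& ((1 <<< w) - 1) < _
  rw [Nat.one_shiftLeft, Nat.and_two_pow_sub_one_eq_mod]
  exact Nat.mod_lt _ (by positivity)

theorem arr120_lt (A i : ℕ) : arr 120 A i < 32 ^ 24 := by
  have := arr_lt 120 A i
  norm_num at this ⊢
  exact this

/-- forcing evaluation of a natural number -/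
def force {α : Sort*} (x : ℕ) (f : ℕ → α) : α :=
  match x with
  | 0 => f 0
  | Nat.succ y => f (Nat.succ y)

theorem force_eq {α : Sort*} (x : ℕ) (f : ℕ → α) : force x f = f x := by
  cases x <;> rfl

end Cfsg.Agent.H9.NatPerm
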