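import Cfsg.Agent.H9.NatPermGroup

/-!
# Two-level access to long arrays

The kernel keeps every intermediate result of a reduction until the end of the declaration.  An entry
of a long array is therefore read in two steps: first the block of `64` entries (the block index is
forced, so that these large intermediate results are shared), then the entry of the block.
-/

set_option autoImplicit false

namespace Cfsg.Agent.H9.NatPerm

theorem arr_eq (w A i : ℕ) : arr w A i = A / 2 ^ (w * i) % 2 ^ w := by
  show (A >>> (w * i)) &&& ((1 <<< w) - 1) = _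
  rw [Nat.one_shiftLeft, Nat.and_two_pow_sub_one_eq_mod, Nat.shiftRight_eq_div_pow]

theorem arr_arr (w B C b k : ℕ) (hk : k < B) :
    arr w (arr (w * B) C b) k = arr w C (B * b + k) := by
  rw [arr_eq, arr_eq, arr_eq]
  have h1 : (2 : ℕ) ^ (w * B) = 2 ^ (w * k) * 2 ^ (w * B - w * k) := by
    rw [← pow_add, Nat.add_sub_cancel' (Nat.mul_le_mul_left w hk.le)]
  rw [h1, Nat.mod_mul_right_div_self]
  have h2 : (2 : ℕ) ^ w ∣ 2 ^ (w * B - w * k) := by
    apply pow_dvd_pow
    have h3 : w * (k + 1) ≤ w * B := Nat.mul_le_mul_left w hk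
    rw [Nat.mul_succ] at h3
    omega
  rw [Nat.mod_mod_of_dvd _ h2, Nat.div_div_eq_div_mul, ← pow_add]
  congr 3
  ring

/-- two-level access to an array of width `120`, in blocks of `64` entries -/
def arr2 (C i : ℕ) : ℕ :=
  force (Nat.div i 64) fun b =>
    Nat.land (Nat.shiftRight (Nat.land (Nat.shiftRight C (Nat.mul 7680 b))
      (Nat.sub (Nat.shiftLeft 1 7680) 1)) (Nat.mul 120 (Nat.sub i (Nat.mul 64 b))))
      (Nat.sub (Nat.shiftLeft 1 120) 1)

theorem arr2_eq (C i : ℕ) : arr2 C i = arr 120 C i := by
  have h : arr2 C i = arr 120 (arr (120 * 64) C (i / 64)) (i - 64 * (i / 64)) := by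
    unfold arr2
    rw [force_eq]
    rfl
  rw [h, arr_arr 120 64 C (i / 64) _ (by omega)]
  congr 1
  omega

end Cfsg.Agent.H9.NatPerm
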