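import Cfsg.Agent.H9.NatPermArr2

/-!
# A normal self-centralising elementary abelian `2`-subgroup of an enumerated centralizer

The centralizer of `z` in `H` is enumerated by a product certificate; its first `m` entries are
checked to form a subgroup of exponent two that the generators normalize and that contains its
centralizer.
-/

set_option autoImplicit false

namespace Cfsg.Agent.H9.NatPerm

open Cfsg Cfsg.Agent.Lib.Helper6.Golay Cfsg.Agent.Lib.Helper6.Golay.M12Out

/-- the first `m` entries are closed under products -/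
def closedChk (C m : ℕ) : Bool :=
  allB (fun i => force (arr 120 C i) fun a => allB (fun j => force (pmul a (arr 120 C j)) fun ab =>
    anyB (fun k => Nat.beq ab (arr 120 C k)) m) m) m

/-- the first `m` entries have square one -/
def sqChk (C m : ℕ) : Bool :=
  allB (fun i => force (arr 120 C i) fun c => Nat.beq (pmul c c) idc) m

/-- the coded permutation `u` and its inverse normalize the set of the first `m` entries -/
def normChk (u C m : ℕ) : Bool :=
  allB (fun i => force (arr 120 C i) fun v =>
    match force (pmul u v) fun uv => anyB (fun l => Nat.beq uv (pmul (arr 120 C l) u)) m with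
    | false => false
    | true => force (pmul v u) fun vu => anyB (fun l => Nat.beq vu (pmul u (arr 120 C l))) m) m

/-- every later entry fails to commute with one of the first `m` entries -/
def centChk (C Wt m n : ℕ) : Bool :=
  allB (fun j => match Nat.blt j m with
    | true => true
    | false => force (arr2 C j) fun c => force (arr 8 Wt j) fun i => force (arr2 C i) fun v =>
      match Nat.blt i m with
      | false => false
      | true => match Nat.beq (pmul c v) (pmul v c) with
        | true => false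
        | false => true) n

section

variable {H : Subgroup (Equiv.Perm GolayPt)} {z : Equiv.Perm GolayPt} (hz : z ∈ H)

/-- the centralizer of `z` in the group `H` -/
abbrev CzG : Subgroup ↥H :=
  Subgroup.centralizer ((Subgroup.zpowers (⟨z, hz⟩ : ↥H) : Subgroup ↥H) : Set ↥H)

theorem mem_CzG {c : ↥H} : c ∈ CzG hz ↔ c * (⟨z, hz⟩ : ↥H) = ⟨z, hz⟩ * c := by
  rw [Subgroup.mem_centralizer_iff]
  constructor
  · intro h
    exact (h _ (Subgroup.mem_zpowers _)).symm
  · intro h x hx
    obtain ⟨k, rfl⟩ := Subgroup.mem_zpowers_iff.mp hx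
    have : Commute c (⟨z, hz⟩ : ↥H) := h
    exact (this.zpow_right k).eq.symm

theorem coe_mem_centSub (c : ↥(CzG hz)) : ((c : ↥H) : Equiv.Perm GolayPt) ∈ centSub H z := by
  rw [mem_centSub]
  exact ⟨(c : ↥H).2, congrArg Subtype.val ((mem_CzG hz).mp c.2)⟩

/-- an element of the centralizer, from a permutation -/
def toCzG (y : Equiv.Perm GolayPt) (hy : y ∈ centSub H z) : ↥(CzG hz) :=
  ⟨⟨y, (mem_centSub.mp hy).1⟩, (mem_CzG hz).mpr (Subtype.ext (mem_centSub.mp hy).2)⟩

/-- the permutations coded by the first `m` entries -/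
def prefixSet (C m : ℕ) : Set (Equiv.Perm GolayPt) := {y | ∃ i < m, IsC y (arr 120 C i)}

theorem prefixSet_mul {C m : ℕ} (hcl : closedChk C m = true) {a b : Equiv.Perm GolayPt}
    (ha : a ∈ prefixSet C m) (hb : b ∈ prefixSet C m) : a * b ∈ prefixSet C m := by
  obtain ⟨i, hi, hai⟩ := ha
  obtain ⟨j, hj, hbj⟩ := hb
  unfold closedChk at hcl
  have h1 := allB_spec _ _ hcl i hi
  rw [force_eq] at h1
  have h2 := allB_spec _ _ h1 j hj
  rw [force_eq] at h2
  obtain ⟨k, hk, hkk⟩ := anyB_spec _ _ h2
  simp only [Nat.beq_eq] at hkk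
  refine ⟨k, hk, ?_⟩
  rw [← hkk]
  exact hai.mul hbj

theorem prefixSet_sq {C m : ℕ} (hsq : sqChk C m = true) {a : Equiv.Perm GolayPt}
    (ha : a ∈ prefixSet C m) : a * a = 1 := by
  obtain ⟨i, hi, hai⟩ := ha
  unfold sqChk at hsq
  have h1 := allB_spec _ _ hsq i hi
  simp only [force_eq, Nat.beq_eq] at h1
  have h2 := hai.mul hai
  rw [h1] at h2
  exact h2.ext isC_one

theorem prefixSet_one {C m : ℕ} (h0 : arr 120 C 0 = idc) (hm : 0 < m) :
    (1 : Equiv.Perm GolayPt) ∈ prefixSet C m := ⟨0, hm, by rw [h0]; exact isC_one⟩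

/-- a permutation whose code passes the check normalizes the set of the first entries -/
theorem mem_normalizer_of_normChk {u : Equiv.Perm GolayPt} {uc C m : ℕ} (hu : IsC u uc)
    (hval : ∀ i < m, ∃ y : Equiv.Perm GolayPt, IsC y (arr 120 C i))
    (h : normChk uc C m = true) : u ∈ Subgroup.normalizer (prefixSet C m) := by
  rw [Subgroup.mem_set_normalizer_iff]
  intro v
  unfold normChk at h
  constructor
  · rintro ⟨i, hi, hvi⟩
    have h1 := allB_spec _ _ h i hi
    rw [force_eq] at h1
    have h2 : (force (pmul uc (arr 120 C i)) fun uv =>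
        anyB (fun l => Nat.beq uv (pmul (arr 120 C l) uc)) m) = true := by
      revert h1
      cases (force (pmul uc (arr 120 C i)) fun uv =>
        anyB (fun l => Nat.beq uv (pmul (arr 120 C l) uc)) m) <;> simp
    rw [force_eq] at h2
    obtain ⟨l, hl, hll⟩ := anyB_spec _ _ h2
    simp only [Nat.beq_eq] at hll
    obtain ⟨y, hy⟩ := hval l hl
    refine ⟨l, hl, ?_⟩
    have e1 := hu.mul hvi
    have e2 := hy.mul hu
    rw [hll] at e1
    have e3 : u * v = y * u := e1.ext e2
    have e4 : u * v * u⁻¹ = y := by rw [e3]; group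
    rw [e4]
    exact hy
  · rintro ⟨i, hi, hvi⟩
    have h1 := allB_spec _ _ h i hi
    rw [force_eq] at h1
    have h2 : (force (pmul (arr 120 C i) uc) fun vu =>
        anyB (fun l => Nat.beq vu (pmul uc (arr 120 C l))) m) = true := by
      revert h1
      cases (force (pmul uc (arr 120 C i)) fun uv =>
        anyB (fun l => Nat.beq uv (pmul (arr 120 C l) uc)) m) <;> simp
    rw [force_eq] at h2
    obtain ⟨l, hl, hll⟩ := anyB_spec _ _ h2
    simp only [Nat.beq_eq] at hll
    obtain ⟨y, hy⟩ := hval l hl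
    refine ⟨l, hl, ?_⟩
    have e1 := hvi.mul hu
    have e2 := hu.mul hy
    rw [hll] at e1
    have e3 : u * v * u⁻¹ * u = u * y := e1.ext e2
    have e4 : v = y := by
      have : u * v = u * y := by
        rw [← e3]; group
      exact mul_left_cancel this
    rw [e4]
    exact hy

/-- **a normal self-centralising `2`-subgroup of the centralizer, from the certificates** -/
theorem exists_normal_two_subgroup (gen : ℕ → ℕ) (C CP CK n m Wt : ℕ)
    (hgen : ∀ k, ∃ g ∈ centSub H z, IsC g (gen k))
    (h0 : arr 120 C 0 = idc) (hmul : allB (fun j => mulChk gen C CP CK (j + 1)) (n - 1) = true)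
    (hinj : ∀ i < n, ∀ i' < n, arr 120 C i = arr 120 C i' → i = i')
    (hcard : Nat.card (centSub H z) ≤ n) (hm0 : 0 < m) (hmn : m ≤ n)
    (hclosed : closedChk C m = true) (hsq : sqChk C m = true)
    (hnorm : ∀ k, normChk (gen k) C m = true) (hcent : centChk C Wt m n = true) :
    ∃ R : Subgroup ↥(CzG hz), R.Normal ∧ IsPGroup 2 R ∧ Subgroup.centralizer (R : Set _) ≤ R := by
  have hvalid : ∀ j < n, ∃ y ∈ centSub H z, IsC y (arr 120 C j) :=
    valid_of_mulAll gen hgen C CP CK n h0 hmul
  have hdata : SetData (centSub H z : Set (Equiv.Perm GolayPt)) C n := ⟨hvalid, hinj⟩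
  have hval : ∀ i < m, ∃ y : Equiv.Perm GolayPt, IsC y (arr 120 C i) := by
    intro i hi
    obtain ⟨y, -, hy⟩ := hvalid i (lt_of_lt_of_le hi hmn)
    exact ⟨y, hy⟩
  -- every element of the centralizer normalizes the set of the first entries
  have hvalidN : ∀ j < n, ∃ y ∈ centSub H z ⊓ Subgroup.normalizer (prefixSet C m),
      IsC y (arr 120 C j) := by
    apply valid_of_mulAll gen _ C CP CK n h0 hmul
    intro k
    obtain ⟨g, hg, hgc⟩ := hgen k
    exact ⟨g, Subgroup.mem_inf.mpr ⟨hg, mem_normalizer_of_normChk hgc hval (hnorm k)⟩, hgc⟩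
  have exists_code : ∀ c : ↥(CzG hz), ∃ j < n, IsC ((c : ↥H) : Equiv.Perm GolayPt) (arr 120 C j) :=
    fun c => hdata.exists_index hcard _ (coe_mem_centSub hz c)
  have hnormal : ∀ c : ↥(CzG hz),
      ((c : ↥H) : Equiv.Perm GolayPt) ∈ Subgroup.normalizer (prefixSet C m) := by
    intro c
    obtain ⟨j, hj, hcj⟩ := exists_code c
    obtain ⟨y, hy, hyc⟩ := hvalidN j hj
    have : ((c : ↥H) : Equiv.Perm GolayPt) = y := hcj.ext hyc
    rw [this]
    exact (Subgroup.mem_inf.mp hy).2
  -- the subgroup
  let R : Subgroup ↥(CzG hz) :=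
    { carrier := {c | ((c : ↥H) : Equiv.Perm GolayPt) ∈ prefixSet C m}
      mul_mem' := by
        intro a b ha hb
        exact prefixSet_mul hclosed ha hb
      one_mem' := prefixSet_one h0 hm0
      inv_mem' := by
        intro a ha
        have h1 : ((a : ↥H) : Equiv.Perm GolayPt) * ((a : ↥H) : Equiv.Perm GolayPt) = 1 :=
          prefixSet_sq hsq ha
        have h2 : ((a⁻¹ : ↥(CzG hz)) : ↥H) = (a : ↥H) := by
          apply Subtype.ext
          show ((a : ↥H) : Equiv.Perm GolayPt)⁻¹ = ((a : ↥H) : Equiv.Perm GolayPt)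
          exact inv_eq_of_mul_eq_one_left h1
        show (((a⁻¹ : ↥(CzG hz)) : ↥H) : Equiv.Perm GolayPt) ∈ prefixSet C m
        rw [h2]
        exact ha }
  have mem_R : ∀ c : ↥(CzG hz), c ∈ R ↔ ((c : ↥H) : Equiv.Perm GolayPt) ∈ prefixSet C m :=
    fun _ => Iff.rfl
  refine ⟨R, ?_, ?_, ?_⟩
  · constructor
    intro v hv c
    rw [mem_R] at hv ⊢
    have h1 := (Subgroup.mem_set_normalizer_iff.mp (hnormal c)) _ |>.mp hv
    exact h1
  · intro v
    refine ⟨1, ?_⟩
    apply Subtype.ext
    apply Subtype.ext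
    apply Subtype.ext
    show (((v : ↥(CzG hz)) : ↥H) : Equiv.Perm GolayPt) ^ 2 ^ 1 = 1
    rw [pow_one, pow_two]
    exact prefixSet_sq hsq v.2
  · intro c hc
    rw [mem_R]
    obtain ⟨j, hj, hcj⟩ := exists_code c
    unfold centChk at hcent
    have h1 := allB_spec _ _ hcent j hj
    rcases Nat.lt_or_ge j m with hjm | hjm
    · exact ⟨j, hjm, hcj⟩
    · exfalso
      have hb : Nat.blt j m = false := by
        rw [← Bool.not_eq_true, Nat.blt_eq]
        omega
      simp only [hb, force_eq, arr2_eq] at h1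
      have hi : Nat.blt (arr 8 Wt j) m = true := by
        revert h1
        cases Nat.blt (arr 8 Wt j) m <;> simp
      simp only [hi] at h1
      have hne : Nat.beq (pmul (arr 120 C j) (arr 120 C (arr 8 Wt j)))
          (pmul (arr 120 C (arr 8 Wt j)) (arr 120 C j)) = false := by
        revert h1
        cases Nat.beq (pmul (arr 120 C j) (arr 120 C (arr 8 Wt j)))
          (pmul (arr 120 C (arr 8 Wt j)) (arr 120 C j)) <;> simp
      rw [Nat.blt_eq] at hi
      obtain ⟨yv, hyv, hyvc⟩ := hvalid _ (lt_of_lt_of_le hi hmn)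
      have hvR : toCzG hz yv hyv ∈ R := ⟨_, hi, hyvc⟩
      have h3 := (Subgroup.mem_centralizer_iff.mp hc) (toCzG hz yv hyv) hvR
      have h4 : yv * ((c : ↥H) : Equiv.Perm GolayPt) = ((c : ↥H) : Equiv.Perm GolayPt) * yv :=
        congrArg (fun t : ↥(CzG hz) => ((t : ↥H) : Equiv.Perm GolayPt)) h3
      have h5 := hyvc.mul hcj
      have h6 := hcj.mul hyvc
      rw [h4] at h5
      have h7 := h6.code_eq h5 (pmul_lt _ _) (pmul_lt _ _)
      rw [h7] at hne
      have : Nat.beq (pmul (arr 120 C (arr 8 Wt j)) (arr 120 C j))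
        (pmul (arr 120 C (arr 8 Wt j)) (arr 120 C j)) = true := by rw [Nat.beq_eq]
      rw [this] at hne
      exact absurd hne (by simp)

end

end Cfsg.Agent.H9.NatPerm
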