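import Cfsg.Agent.H9.NatPermQuick
import Cfsg.Agent.H9.NatPermNormal

/-!
# The checks of the certificates, with two-level access to long arrays
-/

set_option autoImplicit false

namespace Cfsg.Agent.H9.NatPerm

open Cfsg Cfsg.Agent.Lib.Helper6.Golay Cfsg.Agent.Lib.Helper6.Golay.M12Out

/-! ### the checks, reading the long arrays in two steps -/

/-- `mulChk` with two-level access -/
def mulChk2 (gen : ℕ → ℕ) (C P K j : ℕ) : Bool :=
  force (arr 16 P j) fun p => force (gen (arr 4 K j)) fun g =>
    Nat.blt p j && Nat.beq (pmul g (arr2 C p)) (arr2 C j)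

theorem mulChk2_eq (gen : ℕ → ℕ) (C P K j : ℕ) : mulChk2 gen C P K j = mulChk gen C P K j := by
  unfold mulChk2 mulChk
  simp only [arr2_eq]

theorem mulAll_of_mulAll2 {gen : ℕ → ℕ} {C P K n : ℕ}
    (h : allB (fun j => mulChk2 gen C P K (j + 1)) n = true) :
    allB (fun j => mulChk gen C P K (j + 1)) n = true := by
  simpa only [mulChk2_eq] using h

/-- `sortChk` with two-level access -/
def sortChk2 (A S Sg n j : ℕ) : Bool :=
  force (arr2 S j) fun s => force (arr 16 Sg j) fun i =>
    Nat.blt i n && Nat.beq s (arr2 A i) && (Nat.beq (j + 1) n || Nat.blt s (arr2 S (j + 1)))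

theorem sortChk2_eq (A S Sg n j : ℕ) : sortChk2 A S Sg n j = sortChk A S Sg n j := by
  unfold sortChk2 sortChk
  simp only [arr2_eq]

theorem sortAll_of_forall (A S Sg n : ℕ) : ∀ m, (∀ j < m, sortChk A S Sg n j = true) →
    sortAll A S Sg n m = true
  | 0, _ => rfl
  | m + 1, h => by
      unfold sortAll
      rw [h m (by omega)]
      exact sortAll_of_forall A S Sg n m (fun j hj => h j (by omega))

theorem sortAll_of_sortAll2 {A S Sg n : ℕ} (h : allB (fun j => sortChk2 A S Sg n j) n = true) :
    sortAll A S Sg n n = true := by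
  apply sortAll_of_forall
  intro j hj
  rw [← sortChk2_eq]
  exact allB_spec _ _ h j hj

/-- `conjChk` with two-level access -/
def conjChk2 (gen : ℕ → ℕ) (A P K i : ℕ) : Bool :=
  force (arr 16 P i) fun p => force (gen (arr 4 K i)) fun g => force (arr2 A i) fun x =>
    force (arr2 A p) fun y => Nat.blt p i && wfc x && Nat.beq (pmul g y) (pmul x g)

theorem conjChk2_eq (gen : ℕ → ℕ) (A P K i : ℕ) : conjChk2 gen A P K i = conjChk gen A P K i := by
  unfold conjChk2 conjChk
  simp only [arr2_eq]

theorem conjAll_of_forall (gen : ℕ → ℕ) (A P K : ℕ) : ∀ m,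
    (∀ i, 1 ≤ i → i ≤ m → conjChk gen A P K i = true) → conjAll gen A P K m = true
  | 0, _ => rfl
  | m + 1, h => by
      unfold conjAll
      rw [h (m + 1) (by omega) (by omega)]
      exact conjAll_of_forall gen A P K m (fun i h1 h2 => h i h1 (by omega))

theorem conjAll_of_conjAll2 {gen : ℕ → ℕ} {A P K m : ℕ}
    (h : allB (fun i => conjChk2 gen A P K (i + 1)) m = true) : conjAll gen A P K m = true := by
  apply conjAll_of_forall
  intro i h1 h2
  rw [← conjChk2_eq]
  have := allB_spec _ _ h (i - 1) (by omega)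
  rwa [show i - 1 + 1 = i by omega] at this

/-- `cntTwoQ` with two-level access -/
def cntTwoQ2 (e A : ℕ) : ℕ → ℕ → ℕ
  | 0, acc => acc
  | i + 1, acc => force (arr2 A i) fun x =>
      match quick e x with
      | false => cntTwoQ2 e A i acc
      | true => force (pmul e x) fun y =>
        match isTwo y with
        | true => force (acc + 1) (cntTwoQ2 e A i)
        | false => cntTwoQ2 e A i acc

theorem cntTwoQ2_eq (e A : ℕ) : ∀ n acc, cntTwoQ2 e A n acc = cntTwoQ e A n acc
  | 0, acc => rfl
  | n + 1, acc => by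
      unfold cntTwoQ2 cntTwoQ
      simp only [arr2_eq, force_eq]
      cases quick e (arr 120 A n) with
      | false => exact cntTwoQ2_eq e A n acc
      | true =>
        cases isTwo (pmul e (arr 120 A n)) with
        | true => exact cntTwoQ2_eq e A n (acc + 1)
        | false => exact cntTwoQ2_eq e A n acc

end Cfsg.Agent.H9.NatPerm
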