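import Cfsg.Agent.H9.NatPermList

/-!
# Centralizers in `M24` of elements with a cycle of length at least five, by the five point normal form
-/

set_option autoImplicit false

namespace Cfsg.Agent.H9.NatPerm

open Cfsg Cfsg.Agent.Lib.Helper6.Golay Cfsg.Agent.Lib.Helper6.Golay.M12Out

/-- the five base points -/
def base5 : ℕ → ℕ
  | 0 => 23
  | 1 => 0
  | 2 => 1
  | 3 => 2
  | _ => 3

theorem isC_pow_of_table {r : Equiv.Perm GolayPt} {rc : ℕ} (hrc : IsC r rc) (RP p : ℕ)
    (hRP0 : arr 120 RP 0 = idc)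
    (hRP : allB (fun i => Nat.beq (arr 120 RP (i + 1)) (pmul rc (arr 120 RP i))) (p - 1) = true) :
    ∀ i < p, IsC (r ^ i) (arr 120 RP i) := by
  intro i
  induction i with
  | zero =>
    intro _
    rw [hRP0, pow_zero]
    exact isC_one
  | succ i ih =>
    intro hi
    have h1 := allB_spec _ _ hRP i (by omega)
    simp only [Nat.beq_eq] at h1
    rw [h1, pow_succ']
    exact hrc.mul (ih (by omega))

theorem isC_apply_idx {g : Equiv.Perm GolayPt} {c : ℕ} (h : IsC g c) (x : GolayPt) :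
    g x = pt (aget c (idx x)) := by
  have := h.apply (idx_lt x)
  rwa [pt_idx] at this

theorem aget_lt24 {g : Equiv.Perm GolayPt} {c : ℕ} (h : IsC g c) {i : ℕ} (hi : i < 24) :
    aget c i < 24 := by
  have := getD_lt h.1 hi
  rwa [getD_dec24 c hi] at this

/-- **Centralizers by the five point normal form.** -/
theorem cent_of_T5 {r : Equiv.Perm GolayPt} (hr : r ∈ M24) (rc : ℕ) (hrc : IsC r rc)
    (p RP a0 kc nu U0 KU T5c nres Res : ℕ)
    (hRP0 : arr 120 RP 0 = idc)
    (hRP : allB (fun i => Nat.beq (arr 120 RP (i + 1)) (pmul rc (arr 120 RP i))) (p - 1) = true)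
    (hp5 : 5 ≤ p)
    (hκ : ∃ κ ∈ M24, IsC κ kc)
    (hκa : allB (fun j => Nat.beq (aget kc (aget (arr 120 RP j) a0)) (base5 j)) 5 = true)
    (hKU : ∀ u < nu, ∃ k ∈ M24, IsC k (arr 120 KU u))
    (hKUb : allB (fun u => allB (fun j => Nat.beq (aget (arr 120 KU u) (base5 j))
      (aget (arr 120 RP j) (arr 8 U0 u))) 5) nu = true)
    (ha0 : a0 < 24) (ha0m : aget rc a0 ≠ a0)
    (hU0 : allB (fun u => Nat.blt (arr 8 U0 u) 24) nu = true)
    (hcov : allB (fun q => Nat.beq (aget rc q) q || anyB (fun i => anyB (fun u =>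
      Nat.beq (aget (arr 120 RP i) (arr 8 U0 u)) q) nu) p) 24 = true)
    (hT5 : ∀ l ∈ T5, ∃ j < 48, dec24 (arr 120 T5c j) = l)
    (hmain : allB (fun u => allB (fun l =>
      force (pmul (pmul (arr 120 KU u) (arr 120 T5c l)) kc) fun c0 =>
        !(Nat.beq (pmul c0 rc) (pmul rc c0)) || allB (fun i => anyB (fun j =>
          Nat.beq (pmul (arr 120 RP i) c0) (arr 120 Res j)) nres) p) 48) nu = true) :
    ∀ c ∈ M24, c * r = r * c → ∃ j < nres, IsC c (arr 120 Res j) := by
  intro c hc hcr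
  have hpow := isC_pow_of_table hrc RP p hRP0 hRP
  obtain ⟨κ, hκM, hκc⟩ := hκ
  -- `c` commutes with the powers of `r`
  have hcomm : ∀ i : ℕ, c * r ^ i = r ^ i * c := by
    intro i
    induction i with
    | zero => simp
    | succ i ih =>
      rw [pow_succ, ← mul_assoc, ih, mul_assoc, hcr, mul_assoc]
  -- the image of the starting point
  obtain ⟨q, hq⟩ : ∃ q, q = idx (c (pt a0)) := ⟨_, rfl⟩
  have hq24 : q < 24 := by rw [hq]; exact idx_lt _
  have hcq : c (pt a0) = pt q := by rw [hq, pt_idx]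
  have hra : r (pt a0) ≠ pt a0 := by
    rw [hrc.apply ha0]
    intro h
    exact ha0m (pt_injOn (aget_lt24 hrc ha0) ha0 h)
  have hrq : aget rc q ≠ q := by
    intro h
    have h1 : r (pt q) = pt q := by rw [hrc.apply hq24, h]
    rw [← hcq] at h1
    have h2 : c (r (pt a0)) = c (pt a0) := by
      have := congrArg (fun f : Equiv.Perm GolayPt => f (pt a0)) hcr
      simp only [Equiv.Perm.mul_apply] at this
      rw [this, h1]
    exact hra (c.injective h2)
  have hcv := allB_spec _ _ hcov q hq24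
  simp only [Bool.or_eq_true, Nat.beq_eq] at hcv
  rcases hcv with hcv | hcv
  · exact absurd hcv hrq
  obtain ⟨i, hi, hcv⟩ := anyB_spec _ _ hcv
  obtain ⟨u, hu, hcv⟩ := anyB_spec _ _ hcv
  simp only [Nat.beq_eq] at hcv
  have hu24 : arr 8 U0 u < 24 := by
    have := allB_spec _ _ hU0 u hu
    simpa using this
  -- `c' = r^{-i} c`
  obtain ⟨c', hc'⟩ : ∃ c', c' = (r ^ i)⁻¹ * c := ⟨_, rfl⟩
  have hc'M : c' ∈ M24 := by
    rw [hc']
    exact M24.mul_mem (M24.inv_mem (M24.pow_mem hr i)) hc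
  have hcc' : c = r ^ i * c' := by rw [hc']; group
  have hc'comm : ∀ j : ℕ, c' * r ^ j = r ^ j * c' := by
    intro j
    rw [hc']
    have h1 : (r ^ i)⁻¹ * c * r ^ j = (r ^ i)⁻¹ * (c * r ^ j) := by group
    rw [h1, hcomm j]
    have h2 : (r ^ i)⁻¹ * r ^ j = r ^ j * (r ^ i)⁻¹ := by
      rw [← zpow_natCast, ← zpow_natCast, ← zpow_neg, ← zpow_add, ← zpow_add, add_comm]
    rw [← mul_assoc, h2, mul_assoc]
  have hc'a : c' (pt a0) = pt (arr 8 U0 u) := by
    have h1 : (r ^ i) (pt (arr 8 U0 u)) = pt q := by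
      rw [(hpow i hi).apply hu24, hcv]
    rw [hc', Equiv.Perm.mul_apply, hcq, ← h1, ← Equiv.Perm.mul_apply, inv_mul_cancel,
      Equiv.Perm.one_apply]
  -- images of the five points
  have hbase24 : ∀ j < 5, base5 j < 24 := by
    intro j hj
    interval_cases j <;> simp [base5]
  have hκj : ∀ j < 5, κ ((r ^ j) (pt a0)) = pt (base5 j) := by
    intro j hj
    have h1 := allB_spec _ _ hκa j hj
    simp only [Nat.beq_eq] at h1
    rw [(hpow j (by omega)).apply ha0, hκc.apply (aget_lt24 (hpow j (by omega)) ha0), h1]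
  obtain ⟨k, hkM, hkc⟩ := hKU u hu
  have hkj : ∀ j < 5, k (pt (base5 j)) = (r ^ j) (pt (arr 8 U0 u)) := by
    intro j hj
    have h1 := allB_spec _ _ (allB_spec _ _ hKUb u hu) j hj
    simp only [Nat.beq_eq] at h1
    rw [hkc.apply (hbase24 j hj), h1, (hpow j (by omega)).apply hu24]
  -- the normal form
  have hgM : c' * κ⁻¹ ∈ M24 := M24.mul_mem hc'M (M24.inv_mem hκM)
  have hrep : Rep M24 (dec24 (arr 120 KU u)) := ⟨hkc.1, k, hkM, hkc.2⟩
  have hgb : ∀ b ∈ [23, 0, 1, 2, 3], (c' * κ⁻¹) (pt b) = pt ((dec24 (arr 120 KU u)).getD b 0) := by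
    have key : ∀ j < 5, (c' * κ⁻¹) (pt (base5 j))
        = pt ((dec24 (arr 120 KU u)).getD (base5 j) 0) := by
      intro j hj
      rw [← IsL.apply hkc (hbase24 j hj), hkj j hj, Equiv.Perm.mul_apply]
      have h1 : κ⁻¹ (pt (base5 j)) = (r ^ j) (pt a0) := by
        rw [← hκj j hj, ← Equiv.Perm.mul_apply, inv_mul_cancel, Equiv.Perm.one_apply]
      rw [h1, ← Equiv.Perm.mul_apply, hc'comm j, Equiv.Perm.mul_apply, hc'a]
    intro b hb
    simp only [List.mem_cons, List.not_mem_nil, or_false] at hb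
    rcases hb with rfl | rfl | rfl | rfl | rfl
    · exact key 0 (by norm_num)
    · exact key 1 (by norm_num)
    · exact key 2 (by norm_num)
    · exact key 3 (by norm_num)
    · exact key 4 (by norm_num)
  obtain ⟨l, hl, hgl⟩ := coset_nf hrep hgM hgb
  obtain ⟨jl, hjl, hjll⟩ := hT5 l hl
  have hlwf : wf l = true := (rep_T5 l hl).1
  have hgC : IsC (c' * κ⁻¹) (pmul (arr 120 KU u) (arr 120 T5c jl)) := by
    unfold IsC
    rw [dec24_pmul _ (by rw [hjll]; exact hlwf), hjll]
    exact ⟨wf_lmul hkc.1 hlwf, hgl⟩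
  have hc'C : IsC c' (pmul (pmul (arr 120 KU u) (arr 120 T5c jl)) kc) := by
    have := hgC.mul hκc
    rwa [inv_mul_cancel_right] at this
  have hm := allB_spec _ _ (allB_spec _ _ hmain u hu) jl hjl
  simp only [force_eq, Bool.or_eq_true, Bool.not_eq_true', Nat.beq_eq] at hm
  rcases hm with hm | hm
  · exfalso
    have h1 := hc'C.mul hrc
    have h2 := hrc.mul hc'C
    have h3 := hc'comm 1
    rw [pow_one] at h3
    rw [h3] at h1
    have := h1.code_eq h2 (pmul_lt _ _) (pmul_lt _ _)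
    rw [this] at hm
    have : Nat.beq (pmul rc (pmul (pmul (arr 120 KU u) (arr 120 T5c jl)) kc))
      (pmul rc (pmul (pmul (arr 120 KU u) (arr 120 T5c jl)) kc)) = true := by
      rw [Nat.beq_eq]
    rw [this] at hm
    exact absurd hm (by simp)
  · obtain ⟨j, hj, hjj⟩ := anyB_spec _ _ (allB_spec _ _ hm i hi)
    simp only [Nat.beq_eq] at hjj
    refine ⟨j, hj, ?_⟩
    rw [← hjj, hcc']
    exact (hpow i hi).mul hc'C

end Cfsg.Agent.H9.NatPerm
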