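import Cfsg.Agent.H9.NatPerm

/-!
# Certified conjugacy classes of coded permutations
-/

set_option autoImplicit false

namespace Cfsg.Agent.H9.NatPerm

open Cfsg Cfsg.Agent.Lib.Helper6.Golay Cfsg.Agent.Lib.Helper6.Golay.M12Out

/-- `c` codes a conjugate of `z` under `H` -/
def Good (H : Subgroup (Equiv.Perm GolayPt)) (z : Equiv.Perm GolayPt) (c : ℕ) : Prop :=
  ∃ y, IsC y c ∧ ∃ g ∈ H, y = g * z * g⁻¹

/-- the check of the `i`-th entry of a conjugacy certificate -/
def conjChk (gen : ℕ → ℕ) (A P K i : ℕ) : Bool :=
  force (arr 16 P i) fun p => force (gen (arr 4 K i)) fun g => force (arr 120 A i) fun x =>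
    force (arr 120 A p) fun y => Nat.blt p i && wfc x && Nat.beq (pmul g y) (pmul x g)

/-- the check of the entries `1, …, m` -/
def conjAll (gen : ℕ → ℕ) (A P K : ℕ) : ℕ → Bool
  | 0 => true
  | i + 1 => match conjChk gen A P K (i + 1) with
    | true => conjAll gen A P K i
    | false => false

theorem conjAll_spec (gen : ℕ → ℕ) (A P K : ℕ) : ∀ m, conjAll gen A P K m = true →
    ∀ i, 1 ≤ i → i ≤ m → conjChk gen A P K i = true
  | 0, _, i, h1, h2 => by omega
  | m + 1, h, i, h1, h2 => by
      unfold conjAll at h
      cases hc : conjChk gen A P K (m + 1) with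
      | false => rw [hc] at h; exact absurd h (by simp)
      | true =>
        rw [hc] at h
        rcases Nat.lt_or_ge i (m + 1) with h3 | h3
        · exact conjAll_spec gen A P K m h i h1 (by omega)
        · have : i = m + 1 := by omega
          rw [this]; exact hc

theorem isC_conj {g y : Equiv.Perm GolayPt} {gc yc xc : ℕ} (hg : IsC g gc) (hy : IsC y yc)
    (hx : wfc xc = true) (h : pmul gc yc = pmul xc gc) : IsC (g * y * g⁻¹) xc := by
  have hxw : wf (dec24 xc) = true := wf_dec24_of_lt (wfc_imp hx).2
  refine ⟨hxw, ?_⟩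
  have h1 : lmul (dec24 gc) (dec24 yc) = lmul (dec24 xc) (dec24 gc) := by
    rw [← dec24_pmul gc hy.1, ← dec24_pmul xc hg.1, h]
  have h2 : lfun (dec24 gc) ∘ lfun (dec24 yc) = lfun (dec24 xc) ∘ lfun (dec24 gc) := by
    rw [← lfun_lmul _ hy.1, ← lfun_lmul _ hg.1, h1]
  funext q
  have h3 := congrFun h2 (g⁻¹ q)
  simp only [Function.comp] at h3
  rw [← hg.2, ← hy.2] at h3
  have h4 : g (g⁻¹ q) = q := by
    rw [← Equiv.Perm.mul_apply, mul_inv_cancel, Equiv.Perm.one_apply]
  rw [h4] at h3
  rw [← h3]
  rfl

theorem good_of_conjAll {H : Subgroup (Equiv.Perm GolayPt)} {z : Equiv.Perm GolayPt} {zc : ℕ}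
    (hz : IsC z zc) (gen : ℕ → ℕ) (hgen : ∀ k, ∃ g ∈ H, IsC g (gen k)) (A P K n : ℕ)
    (h0 : arr 120 A 0 = zc) (hall : conjAll gen A P K (n - 1) = true) :
    ∀ i < n, Good H z (arr 120 A i) := by
  intro i
  induction i using Nat.strong_induction_on with
  | _ i ih =>
    intro hi
    rcases Nat.eq_zero_or_pos i with h | h
    · subst h
      rw [h0]
      exact ⟨z, hz, 1, H.one_mem, by group⟩
    · have hc := conjAll_spec gen A P K (n - 1) hall i h (by omega)
      unfold conjChk at hc
      simp only [force_eq, Bool.and_eq_true, Nat.blt_eq, Nat.beq_eq] at hc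
      obtain ⟨⟨hp, hw⟩, heq⟩ := hc
      obtain ⟨y, hy, k, hk, hyk⟩ := ih _ hp (by omega)
      obtain ⟨g, hg, hgc⟩ := hgen (arr 4 K i)
      refine ⟨g * y * g⁻¹, isC_conj hgc hy hw heq, g * k, H.mul_mem hg hk, ?_⟩
      rw [hyk]
      group

/-! ### Injectivity through a sorted copy -/

/-- the check of the `j`-th entry of the sorted copy -/
def sortChk (A S Sg n j : ℕ) : Bool :=
  force (arr 120 S j) fun s => force (arr 16 Sg j) fun i =>
    Nat.blt i n && Nat.beq s (arr 120 A i) && (Nat.beq (j + 1) n || Nat.blt s (arr 120 S (j + 1)))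

/-- the check of the entries `0, …, m - 1` of the sorted copy -/
def sortAll (A S Sg n : ℕ) : ℕ → Bool
  | 0 => true
  | j + 1 => match sortChk A S Sg n j with
    | true => sortAll A S Sg n j
    | false => false

theorem sortAll_spec (A S Sg n : ℕ) : ∀ m, sortAll A S Sg n m = true →
    ∀ j, j < m → sortChk A S Sg n j = true
  | 0, _, j, h2 => by omega
  | m + 1, h, j, h2 => by
      unfold sortAll at h
      cases hc : sortChk A S Sg n m with
      | false => rw [hc] at h; exact absurd h (by simp)
      | true =>
        rw [hc] at h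
        rcases Nat.lt_or_ge j m with h3 | h3
        · exact sortAll_spec A S Sg n m h j h3
        · have : j = m := by omega
          rw [this]; exact hc

theorem inj_of_sortAll {A S Sg n : ℕ} (h : sortAll A S Sg n n = true) :
    ∀ i < n, ∀ i' < n, arr 120 A i = arr 120 A i' → i = i' := by
  have hs := sortAll_spec A S Sg n n h
  have key : ∀ j < n, arr 16 Sg j < n ∧ arr 120 S j = arr 120 A (arr 16 Sg j) ∧
      (j + 1 < n → arr 120 S j < arr 120 S (j + 1)) := by
    intro j hj
    have := hs j hj
    unfold sortChk at this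
    simp only [force_eq, Bool.and_eq_true, Bool.or_eq_true, Nat.blt_eq, Nat.beq_eq] at this
    obtain ⟨⟨h1, h2⟩, h3⟩ := this
    refine ⟨h1, h2, ?_⟩
    intro h4
    rcases h3 with h3 | h3
    · omega
    · exact h3
  -- `S` is strictly increasing on `[0, n)`
  have hmono : ∀ d j, j + d < n → 0 < d → arr 120 S j < arr 120 S (j + d) := by
    intro d
    induction d with
    | zero => intro j _ h; omega
    | succ d ih =>
      intro j hj _
      rcases Nat.eq_zero_or_pos d with hd | hd
      · subst hd
        exact (key j (by omega)).2.2 (by omega)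
      · have h1 := ih j (by omega) hd
        have h2 := (key (j + d) (by omega)).2.2 (by omega)
        exact lt_trans h1 h2
  have hSinj : ∀ j < n, ∀ j' < n, arr 120 S j = arr 120 S j' → j = j' := by
    intro j hj j' hj' he
    rcases Nat.lt_trichotomy j j' with h1 | h1 | h1
    · have := hmono (j' - j) j (by omega) (by omega)
      rw [show j + (j' - j) = j' by omega] at this
      omega
    · exact h1
    · have := hmono (j - j') j' (by omega) (by omega)
      rw [show j' + (j - j') = j by omega] at this
      omega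
  -- the index map is a bijection of `Fin n`
  let f : Fin n → Fin n := fun j => ⟨arr 16 Sg j, (key j j.2).1⟩
  have hf : Function.Injective f := by
    intro j j' hjj
    have h1 : arr 16 Sg j = arr 16 Sg j' := congrArg Fin.val hjj
    apply Fin.ext
    apply hSinj j j.2 j' j'.2
    rw [(key j j.2).2.1, (key j' j'.2).2.1, h1]
  have hfs : Function.Surjective f := Finite.injective_iff_surjective.mp hf
  intro i hi i' hi' he
  obtain ⟨j, hj⟩ := hfs ⟨i, hi⟩
  obtain ⟨j', hj'⟩ := hfs ⟨i', hi'⟩
  have h1 : arr 16 Sg j = i := congrArg Fin.val hj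
  have h2 : arr 16 Sg j' = i' := congrArg Fin.val hj'
  have h3 : arr 120 S j = arr 120 S j' := by
    rw [(key j j.2).2.1, (key j' j'.2).2.1, h1, h2, he]
  have h4 := hSinj j j.2 j' j'.2 h3
  rw [← h1, ← h2, h4]

/-! ### Counting `2`-elements in a translate of the class -/

/-- the coded permutation has order dividing `8` -/
def isTwo (c : ℕ) : Bool :=
  force (pmul c c) fun c2 => force (pmul c2 c2) fun c4 => Nat.beq (pmul c4 c4) idc

theorem isTwo_iff {a : Equiv.Perm GolayPt} {c : ℕ} (h : IsC a c) : isTwo c = true ↔ a ^ 8 = 1 := by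
  unfold isTwo
  simp only [force_eq, Nat.beq_eq]
  have h2 := h.mul h
  have h4 := h2.mul h2
  have h8 := h4.mul h4
  have e : a ^ 8 = a * a * (a * a) * (a * a * (a * a)) := by
    simp only [pow_succ, pow_zero, one_mul, mul_assoc]
  rw [e]
  constructor
  · intro hc
    rw [hc] at h8
    exact h8.ext isC_one
  · intro ha
    rw [ha] at h8
    exact h8.code_eq isC_one (pmul_lt _ _) idc_lt

/-- counting the entries `x` of the array with `e * x` of order dividing `8` -/
def cntTwo (e A : ℕ) : ℕ → ℕ → ℕ
  | 0, acc => acc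
  | i + 1, acc => force (arr 120 A i) fun x => force (pmul e x) fun y =>
      match isTwo y with
      | true => force (acc + 1) (cntTwo e A i)
      | false => cntTwo e A i acc

theorem cntTwo_eq (e A : ℕ) : ∀ n acc, cntTwo e A n acc =
    acc + ((Finset.range n).filter (fun i => isTwo (pmul e (arr 120 A i)) = true)).card
  | 0, acc => by simp [cntTwo]
  | n + 1, acc => by
      unfold cntTwo
      simp only [force_eq]
      rw [Finset.range_add_one, Finset.filter_insert]
      cases h : isTwo (pmul e (arr 120 A n)) with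
      | true =>
        simp only [if_true]
        rw [cntTwo_eq e A n (acc + 1), Finset.card_insert_of_notMem (by simp)]
        omega
      | false =>
        simp only [Bool.false_eq_true, if_false]
        exact cntTwo_eq e A n acc

end Cfsg.Agent.H9.NatPerm
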