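import Cfsg.Agent.H9.NatPermList

/-!
# Conjugacy classes and centralizers in subgroups of the permutations of the 24 points, enumerated
-/

set_option autoImplicit false

namespace Cfsg.Agent.H9.NatPerm

open Cfsg Cfsg.Agent.Lib.Helper6.Golay Cfsg.Agent.Lib.Helper6.Golay.M12Out

theorem card_class_mul_card_centralizer {G : Type*} [Group G] [Finite G] (g : G) :
    Nat.card {x : G // IsConj g x} * Nat.card (Subgroup.centralizer ({g} : Set G)) = Nat.card G := by
  have h1 := Subgroup.card_mul_index (MulAction.stabilizer (ConjAct G) g)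
  rw [MulAction.index_stabilizer, ← Subgroup.nat_card_centralizer_nat_card_stabilizer] at h1
  have h2 : (MulAction.orbit (ConjAct G) g).ncard = Nat.card {x : G // IsConj g x} := by
    rw [← Nat.card_coe_set_eq]
    apply Nat.card_congr
    apply Equiv.subtypeEquivRight
    intro x
    rw [ConjAct.mem_orbit_conjAct]
    exact isConj_comm
  rw [h2] at h1
  have h3 : Nat.card (ConjAct G) = Nat.card G := rfl
  rw [h3, mul_comm] at h1
  exact h1

variable (H : Subgroup (Equiv.Perm GolayPt)) (z : Equiv.Perm GolayPt)

/-- the conjugates of `z` under `H` -/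
def conjSet : Set (Equiv.Perm GolayPt) := {y | ∃ g ∈ H, y = g * z * g⁻¹}

/-- the centralizer of `z` in `H` -/
def centSub : Subgroup (Equiv.Perm GolayPt) := H ⊓ Subgroup.centralizer {z}

variable {H z}

theorem mem_centSub {c : Equiv.Perm GolayPt} : c ∈ centSub H z ↔ c ∈ H ∧ c * z = z * c := by
  unfold centSub
  rw [Subgroup.mem_inf, Subgroup.mem_centralizer_singleton_iff]

theorem good_iff (c : ℕ) : Good H z c ↔ ∃ y ∈ conjSet H z, IsC y c := by
  constructor
  · rintro ⟨y, hy, g, hg, rfl⟩
    exact ⟨_, ⟨g, hg, rfl⟩, hy⟩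
  · rintro ⟨y, ⟨g, hg, rfl⟩, hy⟩
    exact ⟨_, hy, g, hg, rfl⟩

theorem card_conjSet (hz : z ∈ H) :
    Nat.card (conjSet H z) = Nat.card {x : ↥H // IsConj (⟨z, hz⟩ : ↥H) x} := by
  apply Nat.card_congr
  exact
    { toFun := fun y => ⟨⟨y.1, by
          obtain ⟨g, hg, h⟩ := y.2
          rw [h]
          exact H.mul_mem (H.mul_mem hg hz) (H.inv_mem hg)⟩, by
          obtain ⟨g, hg, h⟩ := y.2
          rw [isConj_iff]
          refine ⟨⟨g, hg⟩, ?_⟩
          apply Subtype.ext
          exact h.symm⟩
      invFun := fun x => ⟨x.1.1, by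
          obtain ⟨c, hc⟩ := isConj_iff.mp x.2
          refine ⟨c.1, c.2, ?_⟩
          rw [← hc]
          rfl⟩
      left_inv := fun y => rfl
      right_inv := fun x => rfl }

theorem card_centSub (hz : z ∈ H) :
    Nat.card (centSub H z) = Nat.card (Subgroup.centralizer ({(⟨z, hz⟩ : ↥H)} : Set ↥H)) := by
  apply Nat.card_congr
  exact
    { toFun := fun c => ⟨⟨c.1, (mem_centSub.mp c.2).1⟩, by
          rw [Subgroup.mem_centralizer_singleton_iff]
          apply Subtype.ext
          exact (mem_centSub.mp c.2).2⟩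
      invFun := fun c => ⟨c.1.1, by
          rw [mem_centSub]
          refine ⟨c.1.2, ?_⟩
          have := Subgroup.mem_centralizer_singleton_iff.mp c.2
          exact congrArg Subtype.val this⟩
      left_inv := fun y => rfl
      right_inv := fun x => rfl }

/-- exactness of both enumerations from the order of the group -/
theorem card_exact (hz : z ∈ H) {A n C m : ℕ} (hA : SetData (conjSet H z) A n)
    (hC : SetData (centSub H z : Set (Equiv.Perm GolayPt)) C m) (hcard : Nat.card ↥H = n * m) :
    Nat.card (conjSet H z) = n ∧ Nat.card (centSub H z) = m := by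
  have h1 := hA.le_card
  have h2 := hC.le_card
  have h3 := card_class_mul_card_centralizer (⟨z, hz⟩ : ↥H)
  rw [← card_conjSet hz, ← card_centSub hz, hcard] at h3
  have h2' : m ≤ Nat.card (centSub H z) := h2
  have hn : 0 < n := by
    rcases Nat.eq_zero_or_pos n with h | h
    · subst h
      have : Nat.card ↥H ≠ 0 := Nat.card_pos.ne'
      rw [hcard] at this
      simp at this
    · exact h
  have hm : 0 < m := by
    rcases Nat.eq_zero_or_pos m with h | h
    · subst h
      have : Nat.card ↥H ≠ 0 := Nat.card_pos.ne'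
      rw [hcard] at this
      simp at this
    · exact h
  constructor
  · by_contra hne
    have hlt : n < Nat.card (conjSet H z) := lt_of_le_of_ne h1 (Ne.symm hne)
    have : n * m < Nat.card (conjSet H z) * Nat.card (centSub H z) :=
      Nat.mul_lt_mul_of_lt_of_le hlt h2' (lt_of_lt_of_le hm h2')
    omega
  · by_contra hne
    have hlt : m < Nat.card (centSub H z) := lt_of_le_of_ne h2' (Ne.symm hne)
    have : n * m < Nat.card (conjSet H z) * Nat.card (centSub H z) :=
      Nat.mul_lt_mul_of_le_of_lt h1 hlt (lt_of_lt_of_le hn h1)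
    omega

/-- the counting function of the parity certificate, computed on codes -/
theorem card_cert_eq (hz : z ∈ H) {A n : ℕ} (hA : SetData (conjSet H z) A n)
    (hn : Nat.card (conjSet H z) ≤ n) (e : ↥H) (ec : ℕ) (he : IsC e.1 ec) :
    Nat.card {x : ↥H // IsConj (⟨z, hz⟩ : ↥H) x ∧ (e * x) ^ 8 = 1} = cntTwo ec A n 0 := by
  rw [cntTwo_eq, zero_add]
  rw [← hA.card_filter hn (fun y => (e.1 * y) ^ 8 = 1) (fun c => isTwo (pmul ec c))
    (fun y c hy _ => (isTwo_iff (he.mul hy)).symm)]
  apply Nat.card_congr
  exact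
    { toFun := fun x => ⟨x.1.1, by
          obtain ⟨c, hc⟩ := isConj_iff.mp x.2.1
          refine ⟨c.1, c.2, ?_⟩
          rw [← hc]
          rfl, by
          have := congrArg (fun t : ↥H => (t : Equiv.Perm GolayPt)) x.2.2
          simpa using this⟩
      invFun := fun y => ⟨⟨y.1, by
          obtain ⟨g, hg, h⟩ := y.2.1
          rw [h]
          exact H.mul_mem (H.mul_mem hg hz) (H.inv_mem hg)⟩, by
          obtain ⟨g, hg, h⟩ := y.2.1
          rw [isConj_iff]
          refine ⟨⟨g, hg⟩, ?_⟩
          apply Subtype.ext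
          exact h.symm, by
          apply Subtype.ext
          have := y.2.2
          simpa using this⟩
      left_inv := fun y => rfl
      right_inv := fun x => rfl }

end Cfsg.Agent.H9.NatPerm
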