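import Cfsg.Agent.H9.NatPermClass

/-!
# Certified lists of coded permutations: enumeration of finite sets of permutations
-/

set_option autoImplicit false

namespace Cfsg.Agent.H9.NatPerm

open Cfsg Cfsg.Agent.Lib.Helper6.Golay Cfsg.Agent.Lib.Helper6.Golay.M12Out

/-- bounded universal check -/
def allB (f : ℕ → Bool) : ℕ → Bool
  | 0 => true
  | i + 1 => match f i with
    | true => allB f i
    | false => false

theorem allB_spec (f : ℕ → Bool) : ∀ n, allB f n = true → ∀ i < n, f i = true
  | 0, _, i, h2 => by omega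
  | n + 1, h, i, h2 => by
      unfold allB at h
      cases hc : f n with
      | false => rw [hc] at h; exact absurd h (by simp)
      | true =>
        rw [hc] at h
        rcases Nat.lt_or_ge i n with h3 | h3
        · exact allB_spec f n h i h3
        · have : i = n := by omega
          rw [this]; exact hc

/-- bounded existential check -/
def anyB (f : ℕ → Bool) : ℕ → Bool
  | 0 => false
  | i + 1 => match f i with
    | true => true
    | false => anyB f i

theorem anyB_spec (f : ℕ → Bool) : ∀ n, anyB f n = true → ∃ i < n, f i = true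
  | 0, h => by simp [anyB] at h
  | n + 1, h => by
      unfold anyB at h
      cases hc : f n with
      | true => exact ⟨n, by omega, hc⟩
      | false =>
        rw [hc] at h
        obtain ⟨i, hi, hfi⟩ := anyB_spec f n h
        exact ⟨i, by omega, hfi⟩

/-! ### product certificates -/

/-- the check of the `j`-th entry of a product certificate: `C[j] = g_k * C[p]`, `p < j` -/
def mulChk (gen : ℕ → ℕ) (C P K j : ℕ) : Bool :=
  force (arr 16 P j) fun p => force (gen (arr 4 K j)) fun g =>
    Nat.blt p j && Nat.beq (pmul g (arr 120 C p)) (arr 120 C j)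

theorem valid_of_mulAll {K : Subgroup (Equiv.Perm GolayPt)} (gen : ℕ → ℕ)
    (hgen : ∀ k, ∃ g ∈ K, IsC g (gen k)) (C P Kk m : ℕ) (h0 : arr 120 C 0 = idc)
    (hall : allB (fun j => mulChk gen C P Kk (j + 1)) (m - 1) = true) :
    ∀ j < m, ∃ y ∈ K, IsC y (arr 120 C j) := by
  intro j
  induction j using Nat.strong_induction_on with
  | _ j ih =>
    intro hj
    rcases Nat.eq_zero_or_pos j with h | h
    · subst h
      rw [h0]
      exact ⟨1, K.one_mem, isC_one⟩
    · have hc := allB_spec _ _ hall (j - 1) (by omega)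
      rw [show j - 1 + 1 = j by omega] at hc
      unfold mulChk at hc
      simp only [force_eq, Bool.and_eq_true, Nat.blt_eq, Nat.beq_eq] at hc
      obtain ⟨hp, heq⟩ := hc
      obtain ⟨y, hy, hyc⟩ := ih _ hp (by omega)
      obtain ⟨g, hg, hgc⟩ := hgen (arr 4 Kk j)
      refine ⟨g * y, K.mul_mem hg hy, ?_⟩
      rw [← heq]
      exact hgc.mul hyc

/-! ### enumerated sets -/

/-- the entries `C[0], …, C[m-1]` are distinct codes of elements of `X` -/
structure SetData (X : Set (Equiv.Perm GolayPt)) (C m : ℕ) : Prop where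
  valid : ∀ j < m, ∃ y ∈ X, IsC y (arr 120 C j)
  inj : ∀ j < m, ∀ j' < m, arr 120 C j = arr 120 C j' → j = j'

namespace SetData

variable {X : Set (Equiv.Perm GolayPt)} {C m : ℕ}

/-- the element with the `j`-th code -/
noncomputable def elt (h : SetData X C m) (j : Fin m) : X :=
  ⟨Classical.choose (h.valid j j.2), (Classical.choose_spec (h.valid j j.2)).1⟩

theorem elt_isC (h : SetData X C m) (j : Fin m) : IsC (h.elt j).1 (arr 120 C j) :=
  (Classical.choose_spec (h.valid j j.2)).2

theorem elt_injective (h : SetData X C m) : Function.Injective h.elt := by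
  intro j j' hjj
  apply Fin.ext
  apply h.inj j j.2 j' j'.2
  have h1 := h.elt_isC j
  have h2 := h.elt_isC j'
  rw [hjj] at h1
  exact h1.code_eq h2 (arr120_lt _ _) (arr120_lt _ _)

theorem le_card (h : SetData X C m) : m ≤ Nat.card X := by
  have := Nat.card_le_card_of_injective h.elt h.elt_injective
  simpa using this

theorem elt_bijective (h : SetData X C m) (hc : Nat.card X ≤ m) : Function.Bijective h.elt :=
  h.elt_injective.bijective_of_nat_card_le (by simpa using hc)

theorem exists_index (h : SetData X C m) (hc : Nat.card X ≤ m) (y : Equiv.Perm GolayPt)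
    (hy : y ∈ X) : ∃ j < m, IsC y (arr 120 C j) := by
  obtain ⟨j, hj⟩ := (h.elt_bijective hc).2 ⟨y, hy⟩
  refine ⟨j, j.2, ?_⟩
  have := h.elt_isC j
  rw [hj] at this
  exact this

/-- counting the elements of `X` with a property decided on codes -/
theorem card_filter (h : SetData X C m) (hc : Nat.card X ≤ m) (Q : Equiv.Perm GolayPt → Prop)
    (qb : ℕ → Bool)
    (hQ : ∀ (y : Equiv.Perm GolayPt) (c : ℕ), IsC y c → c < 32 ^ 24 → (Q y ↔ qb c = true)) :
    Nat.card {y : Equiv.Perm GolayPt // y ∈ X ∧ Q y}
      = ((Finset.range m).filter (fun j => qb (arr 120 C j) = true)).card := by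
  classical
  have e1 : {y : Equiv.Perm GolayPt // y ∈ X ∧ Q y} ≃ {j : Fin m // qb (arr 120 C j) = true} :=
    { toFun := fun y => ⟨(Equiv.ofBijective _ (h.elt_bijective hc)).symm ⟨y.1, y.2.1⟩, by
        have h1 := h.elt_isC ((Equiv.ofBijective _ (h.elt_bijective hc)).symm ⟨y.1, y.2.1⟩)
        have h2 : h.elt ((Equiv.ofBijective _ (h.elt_bijective hc)).symm ⟨y.1, y.2.1⟩)
            = ⟨y.1, y.2.1⟩ := (Equiv.ofBijective _ (h.elt_bijective hc)).apply_symm_apply _
        rw [h2] at h1
        exact (hQ y.1 _ h1 (arr120_lt _ _)).mp y.2.2⟩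
      invFun := fun j => ⟨(h.elt j.1).1, (h.elt j.1).2,
        (hQ _ _ (h.elt_isC j.1) (arr120_lt _ _)).mpr j.2⟩
      left_inv := by
        intro y
        apply Subtype.ext
        have h2 : h.elt ((Equiv.ofBijective _ (h.elt_bijective hc)).symm ⟨y.1, y.2.1⟩)
            = ⟨y.1, y.2.1⟩ := (Equiv.ofBijective _ (h.elt_bijective hc)).apply_symm_apply _
        exact congrArg (fun t : X => (t : Equiv.Perm GolayPt)) h2
      right_inv := by
        intro j
        apply Subtype.ext
        show (Equiv.ofBijective _ (h.elt_bijective hc)).symm ⟨(h.elt j.1).1, (h.elt j.1).2⟩ = j.1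
        exact (Equiv.ofBijective _ (h.elt_bijective hc)).symm_apply_apply j.1 }
  rw [Nat.card_congr e1, Nat.card_eq_fintype_card, Fintype.card_subtype]
  rw [← Finset.card_map Fin.valEmbedding]
  congr 1
  ext j
  simp only [Finset.mem_map, Finset.mem_filter, Finset.mem_univ, true_and, Fin.valEmbedding_apply,
    Finset.mem_range]
  constructor
  · rintro ⟨i, hi, rfl⟩
    exact ⟨i.2, hi⟩
  · rintro ⟨hj, hq⟩
    exact ⟨⟨j, hj⟩, hq, rfl⟩

end SetData

end Cfsg.Agent.H9.NatPerm
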