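import Cfsg.Agent.H9.NatPermGroup
import Cfsg.Agent.H9.NatPermCent

/-!
# A faster count of the `2`-elements in a translate of a class

Before the three squarings a cheap necessary condition is tested: two points have to return after
eight steps.
-/

set_option autoImplicit false

namespace Cfsg.Agent.H9.NatPerm

open Cfsg Cfsg.Agent.Lib.Helper6.Golay Cfsg.Agent.Lib.Helper6.Golay.M12Out

/-- the image of the point of index `i` under the product of the coded permutations -/
def img (e x i : ℕ) : ℕ := aget e (aget x i)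

theorem img_spec {a b : Equiv.Perm GolayPt} {e x : ℕ} (ha : IsC a e) (hb : IsC b x) {i : ℕ}
    (hi : i < 24) : (a * b) (pt i) = pt (img e x i) ∧ img e x i < 24 := by
  have h1 : aget x i < 24 := aget_lt24 hb hi
  refine ⟨?_, aget_lt24 ha h1⟩
  rw [Equiv.Perm.mul_apply, hb.apply hi, ha.apply h1]
  rfl

theorem img_iter {a b : Equiv.Perm GolayPt} {e x : ℕ} (ha : IsC a e) (hb : IsC b x) :
    ∀ (n : ℕ) {i : ℕ}, i < 24 →
      ((a * b) ^ n) (pt i) = pt ((img e x)^[n] i) ∧ (img e x)^[n] i < 24
  | 0, i, hi => by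
      simp only [pow_zero, Equiv.Perm.one_apply, Function.iterate_zero, id_eq]
      exact ⟨trivial, hi⟩
  | n + 1, i, hi => by
      obtain ⟨h1, h2⟩ := img_iter ha hb n hi
      obtain ⟨h3, h4⟩ := img_spec ha hb h2
      rw [Function.iterate_succ_apply', pow_succ', Equiv.Perm.mul_apply, h1]
      exact ⟨h3, h4⟩

/-- a necessary condition for `(e * x) ^ 8 = 1`: two points return after eight steps
(unrolled for the kernel) -/
def quick (e x : ℕ) : Bool :=
  match Nat.beq (Nat.land (Nat.shiftRight e (Nat.mul 5 (Nat.land (Nat.shiftRight x (Nat.mul 5 (Nat.land (Nat.shiftRight e (Nat.mul 5 (Nat.land (Nat.shiftRight x (Nat.mul 5 (Nat.land (Nat.shiftRight e (Nat.mul 5 (Nat.land (Nat.shiftRight x (Nat.mul 5 (Nat.land (Nat.shiftRight e (Nat.mul 5 (Nat.land (Nat.shiftRight x (Nat.mul 5 (Nat.land (Nat.shiftRight e (Nat.mul 5 (Nat.land (Nat.shiftRight x (Nat.mul 5 (Nat.land (Nat.shiftRight e (Nat.mul 5 (Nat.land (Nat.shiftRight x (Nat.mul 5 (Nat.land (Nat.shiftRight e (Nat.mul 5 (Nat.land (Nat.shiftRight x (Nat.mul 5 (Nat.land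 (Nat.shiftRight e (Nat.mul 5 (Nat.land (Nat.shiftRight x (Nat.mul 5 0)) 31))) 31))) 31))) 31))) 31))) 31))) 31))) 31))) 31))) 31))) 31))) 31))) 31))) 31))) 31))) 31) 0 with
  | false => false
  | true => Nat.beq (Nat.land (Nat.shiftRight e (Nat.mul 5 (Nat.land (Nat.shiftRight x (Nat.mul 5 (Nat.land (Nat.shiftRight e (Nat.mul 5 (Nat.land (Nat.shiftRight x (Nat.mul 5 (Nat.land (Nat.shiftRight e (Nat.mul 5 (Nat.land (Nat.shiftRight x (Nat.mul 5 (Nat.land (Nat.shiftRight e (Nat.mul 5 (Nat.land (Nat.shiftRight x (Nat.mul 5 (Nat.land (Nat.shiftRight e (Nat.mul 5 (Nat.land (Nat.shiftRight x (Nat.mul 5 (Nat.land (Nat.shiftRight e (Nat.mul 5 (Nat.land (Nat.shiftRight x (Nat.mul 5 (Nat.land (Nat.shiftRight e (Nat.mul 5 (Nat.land (Nat.shiftRight x (Nat.mul 5 (Nat.land (Nat.shiftRight e (Nat.mul 5 (Nat.land (Nat.shiftRight x (Nat.mul 5 1)) 31))) 31))) 31))) 31))) 31))) 31))) 31))) 31))) 31))) 31))) 31))) 31))) 31))) 31))) 31))) 31) 1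

theorem quick_eq (e x : ℕ) : quick e x =
    (match Nat.beq (img e x (img e x (img e x (img e x (img e x (img e x (img e x
      (img e x 0)))))))) 0 with
    | false => false
    | true => Nat.beq (img e x (img e x (img e x (img e x (img e x (img e x (img e x
      (img e x 1)))))))) 1) := rfl

theorem quick_of_pow {a b : Equiv.Perm GolayPt} {e x : ℕ} (ha : IsC a e) (hb : IsC b x)
    (h : (a * b) ^ 8 = 1) : quick e x = true := by
  have key : ∀ i < 24, (img e x)^[8] i = i := by
    intro i hi
    obtain ⟨h1, h2⟩ := img_iter ha hb 8 hi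
    rw [h, Equiv.Perm.one_apply] at h1
    exact (pt_injOn hi h2 h1).symm
  have h0 : img e x (img e x (img e x (img e x (img e x (img e x (img e x
      (img e x 0))))))) = 0 := key 0 (by norm_num)
  have h1 : img e x (img e x (img e x (img e x (img e x (img e x (img e x
      (img e x 1))))))) = 1 := key 1 (by norm_num)
  rw [quick_eq, h0, h1]
  rfl

/-- counting the entries `x` of the array with `e * x` of order dividing `8`, with the quick test -/
def cntTwoQ (e A : ℕ) : ℕ → ℕ → ℕ
  | 0, acc => acc
  | i + 1, acc => force (arr 120 A i) fun x =>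
      match quick e x with
      | false => cntTwoQ e A i acc
      | true => force (pmul e x) fun y =>
        match isTwo y with
        | true => force (acc + 1) (cntTwoQ e A i)
        | false => cntTwoQ e A i acc

theorem cntTwoQ_eq (e A : ℕ) : ∀ n acc, cntTwoQ e A n acc =
    acc + ((Finset.range n).filter (fun i => (quick e (arr 120 A i) &&
      isTwo (pmul e (arr 120 A i))) = true)).card
  | 0, acc => by simp [cntTwoQ]
  | n + 1, acc => by
      unfold cntTwoQ
      simp only [force_eq]
      rw [Finset.range_add_one, Finset.filter_insert]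
      cases hq : quick e (arr 120 A n) with
      | false =>
        simp only [Bool.false_and, Bool.false_eq_true, if_false]
        exact cntTwoQ_eq e A n acc
      | true =>
        cases h : isTwo (pmul e (arr 120 A n)) with
        | true =>
          simp only [Bool.and_self, if_true]
          rw [cntTwoQ_eq e A n (acc + 1), Finset.card_insert_of_notMem (by simp)]
          omega
        | false =>
          simp only [Bool.and_false, Bool.false_eq_true, if_false]
          exact cntTwoQ_eq e A n acc

variable {H : Subgroup (Equiv.Perm GolayPt)} {z : Equiv.Perm GolayPt}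

/-- the counting function of the parity certificate, computed on codes with the quick test -/
theorem card_cert_eqQ (hz : z ∈ H) {A n : ℕ} (hA : SetData (conjSet H z) A n)
    (hn : Nat.card (conjSet H z) ≤ n) (e : ↥H) (ec : ℕ) (he : IsC e.1 ec) :
    Nat.card {x : ↥H // IsConj (⟨z, hz⟩ : ↥H) x ∧ (e * x) ^ 8 = 1} = cntTwoQ ec A n 0 := by
  have h1 := card_cert_eq hz hA hn e ec he
  have h2 := cntTwo_eq ec A n 0
  have h3 := cntTwoQ_eq ec A n 0
  rw [zero_add] at h2 h3
  refine h1.trans (h2.trans (Eq.trans ?_ h3.symm))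
  refine congrArg Finset.card (Finset.filter_congr ?_)
  intro j hj
  have hj' : j < n := Finset.mem_range.mp hj
  obtain ⟨y, -, hy⟩ := hA.valid j hj'
  rw [Bool.and_eq_true]
  constructor
  · intro h
    exact ⟨quick_of_pow he hy ((isTwo_iff (he.mul hy)).mp h), h⟩
  · intro h
    exact h.2

end Cfsg.Agent.H9.NatPerm
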