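import Cfsg.Agent.H9.NatPermBig

/-!
# A subgroup given by coded generators and a certified list of its elements
-/

set_option autoImplicit false

namespace Cfsg.Agent.H9.NatPerm

open Cfsg Cfsg.Agent.Lib.Helper6.Golay Cfsg.Agent.Lib.Helper6.Golay.M12Out

/-- the subgroup generated by the coded generators -/
def genGroup (sg : ℕ → ℕ) : Subgroup (Equiv.Perm GolayPt) :=
  Subgroup.closure {g | ∃ k, IsC g (sg k)}

theorem genGroup_le {sg : ℕ → ℕ} {H : Subgroup (Equiv.Perm GolayPt)}
    (hsg : ∀ k, ∃ g ∈ H, IsC g (sg k)) : genGroup sg ≤ H := by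
  unfold genGroup
  rw [Subgroup.closure_le]
  rintro g ⟨k, hk⟩
  obtain ⟨g', hg', hk'⟩ := hsg k
  rw [hk.ext hk']
  exact hg'

theorem gen_mem_genGroup {sg : ℕ → ℕ} {g : Equiv.Perm GolayPt} {k : ℕ} (h : IsC g (sg k)) :
    g ∈ genGroup sg := Subgroup.subset_closure ⟨k, h⟩

/-- left multiplication by the coded permutation `g` maps the list into itself; the table of the
indices of the products starts at `off` -/
def lmulChk (g L LT off n : ℕ) : Bool :=
  allB (fun i => force (arr 16 LT (Nat.add off i)) fun t =>
    match Nat.blt t n with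
    | false => false
    | true => Nat.beq (pmul g (arr 120 L i)) (arr 120 L t)) n

theorem lmulChk_spec {g L LT off n : ℕ} (h : lmulChk g L LT off n = true) {i : ℕ} (hi : i < n) :
    ∃ t < n, pmul g (arr 120 L i) = arr 120 L t := by
  unfold lmulChk at h
  have h1 := allB_spec _ _ h i hi
  rw [force_eq] at h1
  have hb : Nat.blt (arr 16 LT (Nat.add off i)) n = true := by
    revert h1
    cases Nat.blt (arr 16 LT (Nat.add off i)) n <;> simp
  rw [hb] at h1
  simp only [Nat.beq_eq] at h1
  rw [Nat.blt_eq] at hb
  exact ⟨_, hb, h1⟩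

section

variable {sg : ℕ → ℕ} {L LP LK LT n : ℕ}

/-- every element of the generated subgroup is in the list -/
theorem exists_index_of_mem_genGroup (h0 : arr 120 L 0 = idc) (hn : 0 < n)
    (hL : ∀ k, ∃ off, lmulChk (sg k) L LT off n = true) :
    ∀ x ∈ genGroup sg, ∃ i < n, IsC x (arr 120 L i) := by
  intro x hx
  have hx' : x ∈ Submonoid.closure {g : Equiv.Perm GolayPt | ∃ k, IsC g (sg k)} := by
    rw [← Subgroup.closure_toSubmonoid_of_finite]
    exact hx
  induction hx' using Submonoid.closure_induction_left with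
  | one => exact ⟨0, hn, by rw [h0]; exact isC_one⟩
  | mul_left g hg y _ ih =>
    obtain ⟨k, hk⟩ := hg
    obtain ⟨i, hi, hyi⟩ := ih (by
      rw [show genGroup sg = Subgroup.closure {g : Equiv.Perm GolayPt | ∃ k, IsC g (sg k)} from rfl,
        ← Subgroup.mem_toSubmonoid, Subgroup.closure_toSubmonoid_of_finite]
      assumption)
    obtain ⟨off, hoff⟩ := hL k
    obtain ⟨t, ht, htt⟩ := lmulChk_spec hoff hi
    refine ⟨t, ht, ?_⟩
    rw [← htt]
    exact hk.mul hyi

/-- every entry of the list is in the generated subgroup -/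
theorem mem_genGroup_of_index (hex : ∀ k, ∃ g : Equiv.Perm GolayPt, IsC g (sg k))
    (h0 : arr 120 L 0 = idc) (hmul : allB (fun j => mulChk sg L LP LK (j + 1)) (n - 1) = true) :
    ∀ i < n, ∃ y ∈ genGroup sg, IsC y (arr 120 L i) := by
  apply valid_of_mulAll sg _ L LP LK n h0 hmul
  intro k
  obtain ⟨g, hg⟩ := hex k
  exact ⟨g, gen_mem_genGroup hg, hg⟩

/-- the list enumerates the generated subgroup -/
theorem genGroup_setData (hex : ∀ k, ∃ g : Equiv.Perm GolayPt, IsC g (sg k))
    (h0 : arr 120 L 0 = idc) (hmul : allB (fun j => mulChk sg L LP LK (j + 1)) (n - 1) = true)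
    (hinj : ∀ i < n, ∀ i' < n, arr 120 L i = arr 120 L i' → i = i') :
    SetData (genGroup sg : Set (Equiv.Perm GolayPt)) L n :=
  ⟨mem_genGroup_of_index hex h0 hmul, hinj⟩

theorem card_of_setData_of_index {X : Set (Equiv.Perm GolayPt)} {C m : ℕ} (h : SetData X C m)
    (hall : ∀ y ∈ X, ∃ j < m, IsC y (arr 120 C j)) : Nat.card X = m := by
  apply le_antisymm _ h.le_card
  have hsurj : Function.Surjective h.elt := by
    intro y
    obtain ⟨j, hj, hyj⟩ := hall y.1 y.2
    refine ⟨⟨j, hj⟩, ?_⟩
    apply Subtype.ext
    exact (h.elt_isC ⟨j, hj⟩).ext hyj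
  have := Nat.card_le_card_of_surjective h.elt hsurj
  simpa using this

theorem card_genGroup (hex : ∀ k, ∃ g : Equiv.Perm GolayPt, IsC g (sg k))
    (h0 : arr 120 L 0 = idc) (hn : 0 < n)
    (hmul : allB (fun j => mulChk sg L LP LK (j + 1)) (n - 1) = true)
    (hinj : ∀ i < n, ∀ i' < n, arr 120 L i = arr 120 L i' → i = i')
    (hL : ∀ k, ∃ off, lmulChk (sg k) L LT off n = true) : Nat.card (genGroup sg) = n :=
  card_of_setData_of_index (genGroup_setData hex h0 hmul hinj)
    (exists_index_of_mem_genGroup h0 hn hL)

end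

/-! ### the centre -/

/-- every entry other than the first and the one of index `iz` fails to commute with a generator -/
def centerChk (sg : ℕ → ℕ) (L CW iz n : ℕ) : Bool :=
  allB (fun i => match Nat.beq i 0 with
    | true => true
    | false => match Nat.beq i iz with
      | true => true
      | false => force (arr 120 L i) fun x => force (sg (arr 8 CW i)) fun g =>
        match Nat.beq (pmul x g) (pmul g x) with
        | true => false
        | false => true) n

theorem center_of_centerChk {sg : ℕ → ℕ} {L LT CW iz n : ℕ}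
    (hex : ∀ k, ∃ g : Equiv.Perm GolayPt, IsC g (sg k)) (h0 : arr 120 L 0 = idc) (hn : 0 < n)
    (hL : ∀ k, ∃ off, lmulChk (sg k) L LT off n = true)
    (hc : centerChk sg L CW iz n = true) :
    ∀ x ∈ genGroup sg, (∀ y ∈ genGroup sg, x * y = y * x) → x = 1 ∨ IsC x (arr 120 L iz) := by
  intro x hx hcomm
  obtain ⟨i, hi, hxi⟩ := exists_index_of_mem_genGroup h0 hn hL x hx
  unfold centerChk at hc
  have h1 := allB_spec _ _ hc i hi
  cases hb0 : Nat.beq i 0 with
  | true =>
    left
    rw [Nat.beq_eq] at hb0
    rw [hb0, h0] at hxi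
    exact hxi.ext isC_one
  | false =>
    rw [hb0] at h1
    cases hbz : Nat.beq i iz with
    | true =>
      right
      rw [Nat.beq_eq] at hbz
      rw [← hbz]
      exact hxi
    | false =>
      exfalso
      rw [hbz] at h1
      simp only [force_eq] at h1
      obtain ⟨g, hg⟩ := hex (arr 8 CW i)
      have h2 := hcomm g (gen_mem_genGroup hg)
      have h3 := hxi.mul hg
      have h4 := hg.mul hxi
      rw [h2] at h3
      have h5 := h3.code_eq h4 (pmul_lt _ _) (pmul_lt _ _)
      rw [h5] at h1
      have : Nat.beq (pmul (sg (arr 8 CW i)) (arr 120 L i)) (pmul (sg (arr 8 CW i)) (arr 120 L i))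
        = true := by rw [Nat.beq_eq]
      rw [this] at h1
      exact absurd h1 (by simp)

/-! ### entries outside a sorted list -/

/-- `k` entries of the sorted list are smaller than `y` and the others are larger -/
def gapChk (LS n k y : ℕ) : Bool :=
  match (match Nat.beq k 0 with
    | true => true
    | false => Nat.blt (arr 120 LS (Nat.pred k)) y) with
  | false => false
  | true => match Nat.beq k n with
    | true => true
    | false => Nat.blt y (arr 120 LS k)

theorem sorted_facts {A S Sg n : ℕ} (h : sortAll A S Sg n n = true) :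
    (∀ i < n, ∃ j < n, arr 120 A i = arr 120 S j) ∧
      ∀ j j', j < j' → j' < n → arr 120 S j < arr 120 S j' := by
  have hs := sortAll_spec A S Sg n n h
  have key : ∀ j < n, arr 16 Sg j < n ∧ arr 120 S j = arr 120 A (arr 16 Sg j) ∧
      (j + 1 < n → arr 120 S j < arr 120 S (j + 1)) := by
    intro j hj
    have := hs j hj
    unfold sortChk at this
    simp only [force_eq, Bool.and_eq_true, Bool.or_eq_true, Nat.blt_eq, Nat.beq_eq] at this
    obtain ⟨⟨h1, h2⟩, h3⟩ := this
    refine ⟨h1, h2, ?_⟩
    intro h4
    rcases h3 with h3 | h3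
    · omega
    · exact h3
  have hmono : ∀ d j, j + d < n → 0 < d → arr 120 S j < arr 120 S (j + d) := by
    intro d
    induction d with
    | zero => intro j _ h; omega
    | succ d ih =>
      intro j hj _
      rcases Nat.eq_zero_or_pos d with hd | hd
      · subst hd
        exact (key j (by omega)).2.2 (by omega)
      · have h1 := ih j (by omega) hd
        have h2 := (key (j + d) (by omega)).2.2 (by omega)
        exact lt_trans h1 h2
  have hmono' : ∀ j j', j < j' → j' < n → arr 120 S j < arr 120 S j' := by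
    intro j j' h1 h2
    have := hmono (j' - j) j (by omega) (by omega)
    rwa [show j + (j' - j) = j' by omega] at this
  refine ⟨?_, hmono'⟩
  have hSinj : ∀ j < n, ∀ j' < n, arr 120 S j = arr 120 S j' → j = j' := by
    intro j hj j' hj' he
    rcases Nat.lt_trichotomy j j' with h1 | h1 | h1
    · have := hmono' j j' h1 hj'
      omega
    · exact h1
    · have := hmono' j' j h1 hj
      omega
  let f : Fin n → Fin n := fun j => ⟨arr 16 Sg j, (key j j.2).1⟩
  have hf : Function.Injective f := by
    intro j j' hjj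
    have h1 : arr 16 Sg j = arr 16 Sg j' := congrArg Fin.val hjj
    apply Fin.ext
    apply hSinj j j.2 j' j'.2
    rw [(key j j.2).2.1, (key j' j'.2).2.1, h1]
  have hfs : Function.Surjective f := Finite.injective_iff_surjective.mp hf
  intro i hi
  obtain ⟨j, hj⟩ := hfs ⟨i, hi⟩
  have h1 : arr 16 Sg j = i := congrArg Fin.val hj
  refine ⟨j, j.2, ?_⟩
  rw [(key j j.2).2.1, h1]

theorem not_mem_of_gapChk {A S Sg n k y : ℕ} (h : sortAll A S Sg n n = true) (hk : k ≤ n)
    (hg : gapChk S n k y = true) : ∀ i < n, arr 120 A i ≠ y := by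
  obtain ⟨hex, hmono⟩ := sorted_facts h
  intro i hi he
  obtain ⟨j, hj, hij⟩ := hex i hi
  rw [hij] at he
  unfold gapChk at hg
  have h1 : (match Nat.beq k 0 with
    | true => true
    | false => Nat.blt (arr 120 S (Nat.pred k)) y) = true := by
    revert hg
    cases (match Nat.beq k 0 with
      | true => true
      | false => Nat.blt (arr 120 S (Nat.pred k)) y) <;> simp
  rw [h1] at hg
  rcases Nat.lt_or_ge j k with hjk | hjk
  · -- `S[j] ≤ S[k-1] < y`
    have hk0 : Nat.beq k 0 = false := by
      cases hb : Nat.beq k 0 with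
      | false => rfl
      | true =>
        rw [Nat.beq_eq] at hb
        omega
    rw [hk0] at h1
    rw [Nat.blt_eq] at h1
    have h2 : arr 120 S j ≤ arr 120 S (Nat.pred k) := by
      rcases Nat.lt_or_ge j (Nat.pred k) with h3 | h3
      · exact le_of_lt (hmono j _ h3 (by
          have : Nat.pred k < k := Nat.pred_lt (by omega)
          omega))
      · have : j = Nat.pred k := by
          have : Nat.pred k = k - 1 := rfl
          omega
        rw [this]
    omega
  · -- `y < S[k] ≤ S[j]`
    have hkn : Nat.beq k n = false := by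
      cases hb : Nat.beq k n with
      | false => rfl
      | true =>
        rw [Nat.beq_eq] at hb
        omega
    rw [hkn] at hg
    rw [Nat.blt_eq] at hg
    have h2 : arr 120 S k ≤ arr 120 S j := by
      rcases Nat.lt_or_ge k j with h3 | h3
      · exact le_of_lt (hmono k j h3 hj)
      · have : j = k := by omega
        rw [this]
    omega

end Cfsg.Agent.H9.NatPerm
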