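import Cfsg.Agent.H9.NatPermSylow

/-!
# The normalizer of a listed Sylow subgroup, and strongly closed subgroups
-/

set_option autoImplicit false

namespace Cfsg.Agent.H9.NatPerm

open Cfsg Cfsg.Agent.Lib.Helper6.Golay Cfsg.Agent.Lib.Helper6.Golay.M12Out

/-! ### the normalizer -/

/-- every entry of the list `C` (the centralizer of the central involution) is in the list `L`,
or conjugates a generator out of it -/
def normWitChk (sg : ℕ → ℕ) (C L LS NA NW NV n m : ℕ) : Bool :=
  allB (fun j => force (arr2 C j) fun c => force (arr 16 NA j) fun a =>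
    match Nat.beq (arr 8 NW j) 255 with
    | true => (match Nat.blt a n with
      | false => false
      | true => Nat.beq (arr 120 L a) c)
    | false => force (sg (arr 8 NW j)) fun g => force (arr2 C (arr 16 NV j)) fun ci =>
        match Nat.beq (pmul c ci) idc with
        | false => false
        | true => match Nat.blt a (Nat.succ n) with
          | false => false
          | true => match Nat.blt (arr 16 NV j) m with
            | false => false
            | true => gapChk LS n a (pmul (pmul c g) ci)) m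

section

variable {H : Subgroup (Equiv.Perm GolayPt)} {z : Equiv.Perm GolayPt}
variable {sg : ℕ → ℕ} {L LP LK LT LS LSg CW iz n C NA NW NV m : ℕ}

/-- **the listed subgroup is its own normalizer** -/
theorem normalizer_le_of_cert (hsg : ∀ k, ∃ g ∈ H, IsC g (sg k))
    (h0 : arr 120 L 0 = idc) (hn : 0 < n)
    (hmul : allB (fun j => mulChk sg L LP LK (j + 1)) (n - 1) = true)
    (hsort : sortAll L LS LSg n n = true)
    (hL : ∀ k, ∃ off, lmulChk (sg k) L LT off n = true)
    (hc : centerChk sg L CW iz n = true)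
    (hz : IsC z (arr 120 L iz)) (hizn : iz < n) (hz1 : z ≠ 1)
    (hzc : ∀ k, Nat.beq (pmul (sg k) (arr 120 L iz)) (pmul (arr 120 L iz) (sg k)) = true)
    (hC : SetData (centSub H z : Set (Equiv.Perm GolayPt)) C m)
    (hCcard : Nat.card (centSub H z) ≤ m)
    (hw : normWitChk sg C L LS NA NW NV n m = true) :
    ∀ ν ∈ H, (∀ x, x ∈ genGroup sg ↔ ν * x * ν⁻¹ ∈ genGroup sg) → ν ∈ genGroup sg := by
  have hex : ∀ k, ∃ g : Equiv.Perm GolayPt, IsC g (sg k) := fun k => by
    obtain ⟨g, -, hg⟩ := hsg k
    exact ⟨g, hg⟩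
  have hLmem := mem_genGroup_of_index hex h0 hmul
  have hidx := exists_index_of_mem_genGroup h0 hn hL
  -- `z` lies in the subgroup and is central in it
  have hzS : z ∈ genGroup sg := by
    obtain ⟨y, hy, hyc⟩ := hLmem iz hizn
    rw [hz.ext hyc]
    exact hy
  have hzcent : ∀ y ∈ genGroup sg, z * y = y * z := by
    intro y hy
    have hle : genGroup sg ≤ Subgroup.centralizer {z} := by
      unfold genGroup
      rw [Subgroup.closure_le]
      rintro g ⟨k, hk⟩
      rw [SetLike.mem_coe, Subgroup.mem_centralizer_singleton_iff]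
      have h1 := hzc k
      rw [Nat.beq_eq] at h1
      have h2 := hk.mul hz
      have h3 := hz.mul hk
      rw [h1] at h2
      exact h2.ext h3
    have := Subgroup.mem_centralizer_singleton_iff.mp (hle hy)
    exact this.symm
  intro ν hν hnorm
  -- `ν` centralizes `z`
  have h1 : ν * z * ν⁻¹ ∈ genGroup sg := (hnorm z).mp hzS
  have h2 : ∀ y ∈ genGroup sg, ν * z * ν⁻¹ * y = y * (ν * z * ν⁻¹) := by
    intro y hy
    have hy' : ν⁻¹ * y * ν ∈ genGroup sg := by
      rw [hnorm]
      have : ν * (ν⁻¹ * y * ν) * ν⁻¹ = y := by group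
      rw [this]
      exact hy
    have h3 := hzcent _ hy'
    have e1 : ν * z * ν⁻¹ * y = ν * (z * (ν⁻¹ * y * ν)) * ν⁻¹ := by group
    have e2 : y * (ν * z * ν⁻¹) = ν * ((ν⁻¹ * y * ν) * z) * ν⁻¹ := by group
    rw [e1, e2, h3]
  have h3 : ν * z * ν⁻¹ = z := by
    rcases center_of_centerChk hex h0 hn hL hc _ h1 h2 with h4 | h4
    · exfalso
      apply hz1
      have : z = ν⁻¹ * (ν * z * ν⁻¹) * ν := by group
      rw [this, h4]
      group
    · exact h4.ext hz
  have hνc : ν ∈ centSub H z := by
    rw [mem_centSub]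
    refine ⟨hν, ?_⟩
    have : ν * z = ν * z * ν⁻¹ * ν := by group
    rw [this, h3]
  obtain ⟨j, hj, hνj⟩ := hC.exists_index hCcard ν hνc
  unfold normWitChk at hw
  have h4 := allB_spec _ _ hw j hj
  simp only [force_eq, arr2_eq] at h4
  cases hb : Nat.beq (arr 8 NW j) 255 with
  | true =>
    rw [hb] at h4
    have hb1 : Nat.blt (arr 16 NA j) n = true := by
      revert h4
      cases Nat.blt (arr 16 NA j) n <;> simp
    rw [hb1] at h4
    simp only [Nat.beq_eq] at h4
    rw [Nat.blt_eq] at hb1
    obtain ⟨y, hy, hyc⟩ := hLmem _ hb1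
    rw [h4] at hyc
    rw [hνj.ext hyc]
    exact hy
  | false =>
    exfalso
    rw [hb] at h4
    have hb1 : Nat.beq (pmul (arr 120 C j) (arr 120 C (arr 16 NV j))) idc = true := by
      revert h4
      cases Nat.beq (pmul (arr 120 C j) (arr 120 C (arr 16 NV j))) idc <;> simp
    rw [hb1] at h4
    have hb2 : Nat.blt (arr 16 NA j) (Nat.succ n) = true := by
      revert h4
      cases Nat.blt (arr 16 NA j) (Nat.succ n) <;> simp
    rw [hb2] at h4
    have hb3 : Nat.blt (arr 16 NV j) m = true := by
      revert h4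
      cases Nat.blt (arr 16 NV j) m <;> simp
    rw [hb3] at h4
    simp only [Nat.beq_eq] at hb1
    rw [Nat.blt_eq] at hb2 hb3
    -- the inverse of `ν`
    obtain ⟨u, -, huc⟩ := hC.valid _ hb3
    have hνu : ν * u = 1 := by
      have := hνj.mul huc
      rw [hb1] at this
      exact this.ext isC_one
    have hu : u = ν⁻¹ := eq_inv_of_mul_eq_one_right hνu
    obtain ⟨g, hg⟩ := hex (arr 8 NW j)
    have h5 : ν * g * ν⁻¹ ∈ genGroup sg := (hnorm g).mp (gen_mem_genGroup hg)
    obtain ⟨i, hi, hii⟩ := hidx _ h5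
    have h6 := (hνj.mul hg).mul huc
    rw [hu] at h6
    have h7 := hii.code_eq h6 (arr120_lt _ _) (pmul_lt _ _)
    exact not_mem_of_gapChk hsort (by omega) h4 i hi h7

end

/-! ### strongly closed subgroups -/

/-- the check of the `i`-th entry of a derivation: a product of two earlier entries, or a conjugate of
an earlier entry lying in the list `L` -/
def derivChk (kg : ℕ → ℕ) (L Dv DT DA DB DL n i : ℕ) : Bool :=
  force (arr 120 Dv i) fun d => force (arr 16 DA i) fun a => force (arr 16 DB i) fun b =>
    match Nat.blt a i with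
    | false => false
    | true => match Nat.beq (arr 4 DT i) 0 with
      | true => (match Nat.blt b i with
        | false => false
        | true => Nat.beq (pmul (arr 120 Dv a) (arr 120 Dv b)) d)
      | false => force (kg b) fun κ => force (arr 16 DL i) fun l =>
        match Nat.blt l n with
        | false => false
        | true => match Nat.beq (arr 120 L l) d with
          | false => false
          | true => Nat.beq (pmul κ (arr 120 Dv a)) (pmul d κ)

theorem isC_of_conj_code {κ x w : Equiv.Perm GolayPt} {kc xc wc : ℕ} (hκ : IsC κ kc) (hx : IsC x xc)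
    (hw : IsC w wc) (h : pmul kc xc = pmul wc kc) : κ * x * κ⁻¹ = w := by
  have h1 := hκ.mul hx
  have h2 := hw.mul hκ
  rw [h] at h1
  have h3 : κ * x = w * κ := h1.ext h2
  rw [h3]
  group

section

variable {H : Subgroup (Equiv.Perm GolayPt)} {sg kg : ℕ → ℕ} {L Dv DT DA DB DL n nd : ℕ}

theorem deriv_mem (hkg : ∀ b, ∃ κ ∈ H, IsC κ (kg b)) (T : Subgroup (Equiv.Perm GolayPt))
    (hT : ∀ x ∈ T, ∀ κ ∈ H, κ * x * κ⁻¹ ∈ genGroup sg → κ * x * κ⁻¹ ∈ T)
    (hz : ∃ y ∈ T, IsC y (arr 120 Dv 0))
    (hder : allB (fun i => derivChk kg L Dv DT DA DB DL n (i + 1)) (nd - 1) = true)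
    (hLmem : ∀ i < n, ∃ y ∈ genGroup sg, IsC y (arr 120 L i)) :
    ∀ i < nd, ∃ y ∈ T, IsC y (arr 120 Dv i) := by
  intro i
  induction i using Nat.strong_induction_on with
  | _ i ih =>
    intro hi
    rcases Nat.eq_zero_or_pos i with h | h
    · subst h
      exact hz
    · have hc := allB_spec _ _ hder (i - 1) (by omega)
      rw [show i - 1 + 1 = i by omega] at hc
      unfold derivChk at hc
      simp only [force_eq] at hc
      have ha : Nat.blt (arr 16 DA i) i = true := by
        revert hc
        cases Nat.blt (arr 16 DA i) i <;> simp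
      rw [ha] at hc
      rw [Nat.blt_eq] at ha
      obtain ⟨ya, hya, hyac⟩ := ih _ ha (by omega)
      cases ht : Nat.beq (arr 4 DT i) 0 with
      | true =>
        rw [ht] at hc
        have hb : Nat.blt (arr 16 DB i) i = true := by
          revert hc
          cases Nat.blt (arr 16 DB i) i <;> simp
        rw [hb] at hc
        rw [Nat.blt_eq] at hb
        simp only [Nat.beq_eq] at hc
        obtain ⟨yb, hyb, hybc⟩ := ih _ hb (by omega)
        refine ⟨ya * yb, T.mul_mem hya hyb, ?_⟩
        rw [← hc]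
        exact hyac.mul hybc
      | false =>
        rw [ht] at hc
        have hl : Nat.blt (arr 16 DL i) n = true := by
          revert hc
          cases Nat.blt (arr 16 DL i) n <;> simp
        rw [hl] at hc
        have he : Nat.beq (arr 120 L (arr 16 DL i)) (arr 120 Dv i) = true := by
          revert hc
          cases Nat.beq (arr 120 L (arr 16 DL i)) (arr 120 Dv i) <;> simp
        rw [he] at hc
        simp only [Nat.beq_eq] at hc he
        rw [Nat.blt_eq] at hl
        obtain ⟨w, hw, hwc⟩ := hLmem _ hl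
        rw [he] at hwc
        obtain ⟨κ, hκ, hκc⟩ := hkg (arr 16 DB i)
        have h1 : κ * ya * κ⁻¹ = w := isC_of_conj_code hκc hyac hwc hc
        refine ⟨w, ?_, hwc⟩
        rw [← h1]
        apply hT _ hya _ hκ
        rw [h1]
        exact hw

/-- a subgroup closed under the conjugations ending in the listed subgroup, and containing the first
entry of the derivation, contains the listed subgroup -/
theorem genGroup_le_of_deriv (hkg : ∀ b, ∃ κ ∈ H, IsC κ (kg b)) (T : Subgroup (Equiv.Perm GolayPt))
    (hT : ∀ x ∈ T, ∀ κ ∈ H, κ * x * κ⁻¹ ∈ genGroup sg → κ * x * κ⁻¹ ∈ T)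
    (hz : ∃ y ∈ T, IsC y (arr 120 Dv 0))
    (hder : allB (fun i => derivChk kg L Dv DT DA DB DL n (i + 1)) (nd - 1) = true)
    (hLmem : ∀ i < n, ∃ y ∈ genGroup sg, IsC y (arr 120 L i))
    (hD : ∀ k, anyB (fun i => Nat.beq (arr 120 Dv i) (sg k)) nd = true) :
    genGroup sg ≤ T := by
  have hmem := deriv_mem hkg T hT hz hder hLmem
  unfold genGroup
  rw [Subgroup.closure_le]
  rintro g ⟨k, hk⟩
  obtain ⟨i, hi, hii⟩ := anyB_spec _ _ (hD k)
  rw [Nat.beq_eq] at hii
  obtain ⟨y, hy, hyc⟩ := hmem i hi
  rw [hii] at hyc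
  rw [SetLike.mem_coe, hk.ext hyc]
  exact hy

end

end Cfsg.Agent.H9.NatPerm
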