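import Mathlib
import Cfsg.Prelude.Def_GeometricClasses

set_option autoImplicit false
set_option linter.unusedSectionVars false
open Cfsg

/-!
Quadratic forms `Q : (ι → F) → F` given as functions (`IsNondegenerateQuadraticForm`), generic
index type and arbitrary characteristic: polar form, the associated bilinear form, the action of
`GL ι F`, isometries, singular vectors over finite fields (Chevalley–Warning).
-/

namespace Cfsg.Agent.H9.Orth

open Matrix

section Basics

variable {ι : Type} [Fintype ι] [DecidableEq ι] {F : Type*} [Field F] {Q : (ι → F) → F}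

/-- the polar form -/
abbrev pol (Q : (ι → F) → F) (x y : ι → F) : F := QuadraticMap.polar Q x y

lemma pol_comm (x y : ι → F) : pol Q x y = pol Q y x := QuadraticMap.polar_comm Q x y

lemma Q_add (Q : (ι → F) → F) (x y : ι → F) : Q (x + y) = Q x + Q y + pol Q x y := by
  rw [pol, QuadraticMap.polar]; ring

variable (hQ : Cfsg.Geo.IsNondegenerateQuadraticForm Q)

include hQ

lemma pol_add_left (x y v : ι → F) : pol Q (x + y) v = pol Q x v + pol Q y v :=
  hQ.polar_bilinear.add_left x y v

lemma pol_add_right (v x y : ι → F) : pol Q v (x + y) = pol Q v x + pol Q v y :=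
  hQ.polar_bilinear.add_right v x y

lemma pol_smul_left (c : F) (x v : ι → F) : pol Q (c • x) v = c * pol Q x v :=
  hQ.polar_bilinear.smul_left c x v

lemma pol_smul_right (c : F) (v x : ι → F) : pol Q v (c • x) = c * pol Q v x :=
  hQ.polar_bilinear.smul_right c v x

lemma pol_zero_left (v : ι → F) : pol Q 0 v = 0 := by
  have := pol_smul_left hQ 0 0 v
  rwa [zero_smul, zero_mul] at this

lemma pol_zero_right (v : ι → F) : pol Q v 0 = 0 := by
  rw [pol_comm, pol_zero_left hQ]

lemma pol_neg_left (x v : ι → F) : pol Q (-x) v = - pol Q x v := by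
  have := pol_smul_left hQ (-1) x v
  rwa [neg_one_smul, neg_one_mul] at this

lemma pol_neg_right (v x : ι → F) : pol Q v (-x) = - pol Q v x := by
  rw [pol_comm, pol_neg_left hQ, pol_comm]

lemma pol_sub_left (x y v : ι → F) : pol Q (x - y) v = pol Q x v - pol Q y v := by
  rw [sub_eq_add_neg, pol_add_left hQ, pol_neg_left hQ, sub_eq_add_neg]

lemma pol_sub_right (v x y : ι → F) : pol Q v (x - y) = pol Q v x - pol Q v y := by
  rw [sub_eq_add_neg, pol_add_right hQ, pol_neg_right hQ, sub_eq_add_neg]

lemma Q_smul (c : F) (x : ι → F) : Q (c • x) = c ^ 2 * Q x := hQ.smul c x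

lemma Q_zero : Q 0 = 0 := by
  have := hQ.smul 0 0
  rw [zero_smul] at this
  rw [this]; ring

lemma Q_neg (x : ι → F) : Q (-x) = Q x := by
  have := hQ.smul (-1) x
  rw [neg_one_smul] at this
  rw [this]; ring

lemma pol_self (x : ι → F) : pol Q x x = 2 * Q x := by
  have h1 : x + x = (2 : F) • x := by rw [two_smul]
  have h2 := Q_add Q x x
  rw [h1, hQ.smul] at h2
  linear_combination (-1 : F) * h2

lemma Q_add_smul (x w : ι → F) (c : F) :
    Q (x + c • w) = Q x + c ^ 2 * Q w + c * pol Q x w := by
  rw [Q_add Q, hQ.smul, pol_smul_right hQ]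

lemma Q_sub (x y : ι → F) : Q (x - y) = Q x + Q y - pol Q x y := by
  rw [sub_eq_add_neg, Q_add Q, Q_neg hQ, pol_neg_right hQ]; ring

lemma ne_zero_of_Q_ne (x : ι → F) (hx : Q x ≠ 0) : x ≠ 0 := by
  rintro rfl
  exact hx (Q_zero hQ)

/-- the polar form as a Mathlib bilinear form -/
def BF : LinearMap.BilinForm F (ι → F) :=
  LinearMap.mk₂ F (pol Q) (pol_add_left hQ) (fun c x v => by rw [pol_smul_left hQ]; rfl)
    (pol_add_right hQ) (fun c v x => by rw [pol_smul_right hQ]; rfl)

@[simp] lemma BF_apply (x y : ι → F) : BF hQ x y = pol Q x y := rfl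

lemma BF_isSymm : (BF hQ).IsSymm := ⟨fun x y => by
  rw [BF_apply, BF_apply, pol_comm]⟩

lemma BF_isRefl : (BF hQ).IsRefl := (BF_isSymm hQ).isRefl

lemma BF_nondegenerate : (BF hQ).Nondegenerate := by
  constructor
  · intro x hx
    by_contra hne
    obtain ⟨-, ⟨y, hy⟩⟩ := hQ.nondegenerate x hne
    exact hy (hx y)
  · intro y hy
    by_contra hne
    obtain ⟨⟨x, hx⟩, -⟩ := hQ.nondegenerate y hne
    exact hx (hy x)

/-- the orthogonal complement of a subspace -/
abbrev perp (W : Submodule F (ι → F)) : Submodule F (ι → F) := (BF hQ).orthogonal W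

lemma mem_perp (W : Submodule F (ι → F)) (x : ι → F) :
    x ∈ perp hQ W ↔ ∀ w ∈ W, pol Q w x = 0 := by
  rw [perp, LinearMap.BilinForm.mem_orthogonal_iff]
  rfl

lemma mem_perp' (W : Submodule F (ι → F)) (x : ι → F) :
    x ∈ perp hQ W ↔ ∀ w ∈ W, pol Q x w = 0 := by
  rw [mem_perp]
  constructor
  · intro h w hw; rw [pol_comm]; exact h w hw
  · intro h w hw; rw [pol_comm]; exact h w hw

lemma finrank_perp (W : Submodule F (ι → F)) :
    Module.finrank F (perp hQ W) = Fintype.card ι - Module.finrank F W := by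
  rw [perp, LinearMap.BilinForm.finrank_orthogonal (BF_nondegenerate hQ),
    Module.finrank_fintype_fun_eq_card]

lemma finrank_add_finrank_perp (W : Submodule F (ι → F)) :
    Module.finrank F W + Module.finrank F (perp hQ W) = Fintype.card ι := by
  have h1 := finrank_perp hQ W
  have h2 : Module.finrank F W ≤ Fintype.card ι := by
    have := W.finrank_le
    rwa [Module.finrank_fintype_fun_eq_card] at this
  omega

lemma perp_perp (W : Submodule F (ι → F)) : perp hQ (perp hQ W) = W :=
  LinearMap.BilinForm.orthogonal_orthogonal (BF_nondegenerate hQ) (BF_isRefl hQ) W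

lemma perp_anti {W W' : Submodule F (ι → F)} (h : W ≤ W') : perp hQ W' ≤ perp hQ W :=
  LinearMap.BilinForm.orthogonal_le h

lemma le_perp_comm {W W' : Submodule F (ι → F)} (h : W ≤ perp hQ W') : W' ≤ perp hQ W := by
  intro x hx
  rw [mem_perp]
  intro w hw
  have := (mem_perp' hQ W' w).1 (h hw) x hx
  exact this

/-- the perp of a span of one vector -/
lemma mem_perp_span_singleton (u x : ι → F) :
    x ∈ perp hQ (Submodule.span F {u}) ↔ pol Q u x = 0 := by
  rw [mem_perp]
  constructor
  · intro h
    exact h u (Submodule.mem_span_singleton_self u)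
  · intro h w hw
    obtain ⟨c, rfl⟩ := Submodule.mem_span_singleton.1 hw
    rw [pol_smul_left hQ, h, mul_zero]

end Basics

section Action

variable {ι : Type} [Fintype ι] [DecidableEq ι] {F : Type*} [Field F]

/-- the action of `GL ι F` on column vectors -/
abbrev act (g : GL ι F) (x : ι → F) : ι → F := (g : Matrix ι ι F) *ᵥ x

lemma act_mul (g h : GL ι F) (x : ι → F) : act (g * h) x = act g (act h x) := by
  rw [act, act, act, Units.val_mul, Matrix.mulVec_mulVec]

lemma act_one (x : ι → F) : act (1 : GL ι F) x = x := by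
  rw [act, Units.val_one, Matrix.one_mulVec]

lemma act_inv_act (g : GL ι F) (x : ι → F) : act g⁻¹ (act g x) = x := by
  rw [← act_mul, inv_mul_cancel, act_one]

lemma act_act_inv (g : GL ι F) (x : ι → F) : act g (act g⁻¹ x) = x := by
  rw [← act_mul, mul_inv_cancel, act_one]

lemma act_add (g : GL ι F) (x y : ι → F) : act g (x + y) = act g x + act g y :=
  Matrix.mulVec_add _ _ _

lemma act_smul (g : GL ι F) (c : F) (x : ι → F) : act g (c • x) = c • act g x :=
  Matrix.mulVec_smul _ _ _

lemma act_neg (g : GL ι F) (x : ι → F) : act g (-x) = - act g x :=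
  Matrix.mulVec_neg _ _

lemma act_sub (g : GL ι F) (x y : ι → F) : act g (x - y) = act g x - act g y :=
  Matrix.mulVec_sub _ _ _

lemma act_zero (g : GL ι F) : act g (0 : ι → F) = 0 := Matrix.mulVec_zero _

lemma act_injective (g : GL ι F) : Function.Injective (act g) := by
  intro x y h
  have := congrArg (act g⁻¹) h
  rwa [act_inv_act, act_inv_act] at this

lemma act_eq_zero_iff (g : GL ι F) (x : ι → F) : act g x = 0 ↔ x = 0 := by
  constructor
  · intro h
    apply act_injective g
    rw [h, act_zero]
  · rintro rfl; exact act_zero g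

lemma gl_ext (g h : GL ι F) (H : ∀ x, act g x = act h x) : g = h := by
  apply Units.ext
  apply Matrix.toLin'.injective
  apply LinearMap.ext
  intro x
  rw [Matrix.toLin'_apply, Matrix.toLin'_apply]
  exact H x

/-- a linear equivalence as an element of `GL` -/
noncomputable def ofLin (e : (ι → F) ≃ₗ[F] (ι → F)) : GL ι F :=
  ⟨LinearMap.toMatrix' e.toLinearMap, LinearMap.toMatrix' e.symm.toLinearMap,
    by rw [← LinearMap.toMatrix'_comp]; simp,
    by rw [← LinearMap.toMatrix'_comp]; simp⟩

lemma act_ofLin (e : (ι → F) ≃ₗ[F] (ι → F)) (x : ι → F) : act (ofLin e) x = e x := by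
  show (LinearMap.toMatrix' e.toLinearMap) *ᵥ x = e x
  rw [← Matrix.toLin'_apply, Matrix.toLin'_toMatrix']
  rfl

end Action

section Iso

variable {ι : Type} [Fintype ι] [DecidableEq ι] {F : Type*} [Field F] {Q : (ι → F) → F}

lemma mem_isometryGroup_iff (g : GL ι F) :
    g ∈ Cfsg.isometryGroup F Q ↔ ∀ x, Q (act g x) = Q x := by
  unfold Cfsg.isometryGroup Cfsg.preserving
  constructor
  · intro h u
    exact h u u
  · intro h u _
    exact h u

lemma pol_act (g : GL ι F) (hg : g ∈ Cfsg.isometryGroup F Q) (x y : ι → F) :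
    pol Q (act g x) (act g y) = pol Q x y := by
  rw [mem_isometryGroup_iff] at hg
  rw [pol, QuadraticMap.polar, ← act_add, hg, hg, hg]
  rfl

lemma Q_act (g : GL ι F) (hg : g ∈ Cfsg.isometryGroup F Q) (x : ι → F) :
    Q (act g x) = Q x := (mem_isometryGroup_iff g).1 hg x

lemma pol_act_inv (g : GL ι F) (hg : g ∈ Cfsg.isometryGroup F Q) (x y : ι → F) :
    pol Q (act g⁻¹ x) y = pol Q x (act g y) := by
  rw [← pol_act g hg, act_act_inv]

end Iso

end Cfsg.Agent.H9.Orth
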