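import Mathlib
import Cfsg.Agent.H9.OrthA

set_option autoImplicit false
set_option linter.unusedSectionVars false
open Cfsg

/-!
Singular vectors over finite fields in arbitrary characteristic (Chevalley–Warning) and
hyperbolic pairs.
-/

namespace Cfsg.Agent.H9.Orth

open Matrix

section CW

variable {ι : Type} [Fintype ι] [DecidableEq ι] {F : Type*} [Field F] {Q : (ι → F) → F}
variable (hQ : Cfsg.Geo.IsNondegenerateQuadraticForm Q)

include hQ

/-- the value of `Q` on a combination of three vectors -/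
lemma Q_comb3 (v : Fin 3 → (ι → F)) (a : Fin 3 → F) :
    Q (a 0 • v 0 + a 1 • v 1 + a 2 • v 2) =
      a 0 ^ 2 * Q (v 0) + a 1 ^ 2 * Q (v 1) + a 2 ^ 2 * Q (v 2) +
        a 0 * a 1 * pol Q (v 0) (v 1) + a 0 * a 2 * pol Q (v 0) (v 2) +
          a 1 * a 2 * pol Q (v 1) (v 2) := by
  rw [Q_add Q, Q_add Q, hQ.smul, hQ.smul, hQ.smul]
  simp only [pol_add_left hQ, pol_smul_left hQ, pol_smul_right hQ]
  ring

variable [Fintype F]

/-- a subspace of dimension at least three contains a nonzero singular vector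
(any characteristic) -/
lemma exists_singular_of_finrank (E : Submodule F (ι → F))
    (hE : 3 ≤ Module.finrank F E) : ∃ e ∈ E, e ≠ 0 ∧ Q e = 0 := by
  classical
  obtain ⟨w, hw⟩ := exists_linearIndependent_of_le_finrank hE
  set v : Fin 3 → (ι → F) := fun i => (w i : ι → F) with hv
  have hvE : ∀ i, v i ∈ E := fun i => (w i).2
  have hvi : LinearIndependent F v := by
    have := hw.map' E.subtype (Submodule.ker_subtype E)
    exact this
  obtain ⟨p, hp⟩ := CharP.exists F
  haveI := hp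
  haveI : Fact p.Prime := ⟨CharP.char_is_prime F p⟩
  -- the polynomial
  set P : MvPolynomial (Fin 3) F :=
    MvPolynomial.C (Q (v 0)) * MvPolynomial.X 0 * MvPolynomial.X 0 +
    MvPolynomial.C (Q (v 1)) * MvPolynomial.X 1 * MvPolynomial.X 1 +
    MvPolynomial.C (Q (v 2)) * MvPolynomial.X 2 * MvPolynomial.X 2 +
    MvPolynomial.C (pol Q (v 0) (v 1)) * MvPolynomial.X 0 * MvPolynomial.X 1 +
    MvPolynomial.C (pol Q (v 0) (v 2)) * MvPolynomial.X 0 * MvPolynomial.X 2 +
    MvPolynomial.C (pol Q (v 1) (v 2)) * MvPolynomial.X 1 * MvPolynomial.X 2 with hP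
  have hterm : ∀ (c : F) (i j : Fin 3),
      (MvPolynomial.C c * MvPolynomial.X i * MvPolynomial.X j :
        MvPolynomial (Fin 3) F).totalDegree ≤ 2 := by
    intro c i j
    refine (MvPolynomial.totalDegree_mul _ _).trans ?_
    have h1 : (MvPolynomial.C c * MvPolynomial.X i : MvPolynomial (Fin 3) F).totalDegree ≤ 1 := by
      refine (MvPolynomial.totalDegree_mul _ _).trans ?_
      rw [MvPolynomial.totalDegree_C, MvPolynomial.totalDegree_X]
    have h2 : (MvPolynomial.X j : MvPolynomial (Fin 3) F).totalDegree = 1 :=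
      MvPolynomial.totalDegree_X j
    omega
  have hdeg : P.totalDegree < Fintype.card (Fin 3) := by
    rw [Fintype.card_fin]
    have hadd : ∀ A B : MvPolynomial (Fin 3) F, A.totalDegree ≤ 2 → B.totalDegree ≤ 2 →
        (A + B).totalDegree ≤ 2 := fun A B hA hB =>
      (MvPolynomial.totalDegree_add A B).trans (max_le hA hB)
    have : P.totalDegree ≤ 2 := by
      rw [hP]
      exact hadd _ _ (hadd _ _ (hadd _ _ (hadd _ _ (hadd _ _ (hterm _ _ _) (hterm _ _ _))
        (hterm _ _ _)) (hterm _ _ _)) (hterm _ _ _)) (hterm _ _ _)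
    omega
  have hdvd := char_dvd_card_solutions p hdeg
  have heval : ∀ a : Fin 3 → F, MvPolynomial.eval a P = Q (a 0 • v 0 + a 1 • v 1 + a 2 • v 2) := by
    intro a
    rw [Q_comb3 hQ, hP]
    simp only [map_add, map_mul, MvPolynomial.eval_C, MvPolynomial.eval_X]
    ring
  -- there is a nonzero solution
  have hcard : 1 < Fintype.card {x : Fin 3 → F // MvPolynomial.eval x P = 0} := by
    have hpos : 0 < Fintype.card {x : Fin 3 → F // MvPolynomial.eval x P = 0} := by
      apply Fintype.card_pos_iff.2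
      refine ⟨⟨0, ?_⟩⟩
      rw [heval]
      simp [Q_zero hQ]
    have := Nat.le_of_dvd hpos hdvd
    have h2 := (Fact.out : p.Prime).two_le
    omega
  obtain ⟨⟨a, ha⟩, ⟨b, hb⟩, hab⟩ := Fintype.one_lt_card_iff.1 hcard
  have hne : ∃ c : Fin 3 → F, c ≠ 0 ∧ MvPolynomial.eval c P = 0 := by
    by_cases ha0 : a = 0
    · refine ⟨b, fun hb0 => hab ?_, hb⟩
      rw [Subtype.mk.injEq, ha0, hb0]
    · exact ⟨a, ha0, ha⟩
  obtain ⟨c, hc0, hc⟩ := hne
  refine ⟨c 0 • v 0 + c 1 • v 1 + c 2 • v 2,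
    E.add_mem (E.add_mem (E.smul_mem _ (hvE 0)) (E.smul_mem _ (hvE 1))) (E.smul_mem _ (hvE 2)),
    ?_, ?_⟩
  · intro h0
    have h1 : ∑ i, c i • v i = 0 := by
      rw [Fin.sum_univ_three]; exact h0
    have := Fintype.linearIndependent_iff.1 hvi c h1
    apply hc0
    funext i
    exact this i
  · rw [← heval]; exact hc

/-- a large subspace contains a singular vector outside a given small subspace -/
lemma exists_singular_notMem (E R : Submodule F (ι → F))
    (h : Module.finrank F R + 3 ≤ Module.finrank F E) : ∃ e ∈ E, e ∉ R ∧ Q e = 0 := by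
  obtain ⟨C, hC⟩ := Submodule.exists_isCompl R
  have h1 := Submodule.finrank_sup_add_finrank_inf_eq E C
  have h3 : Module.finrank F R + Module.finrank F C = Fintype.card ι := by
    have := Submodule.finrank_add_eq_of_isCompl hC
    rwa [Module.finrank_fintype_fun_eq_card] at this
  have h4 : Module.finrank F (E ⊔ C : Submodule F (ι → F)) ≤ Fintype.card ι := by
    have := (E ⊔ C).finrank_le
    rwa [Module.finrank_fintype_fun_eq_card] at this
  obtain ⟨e, heEC, he0, hqe⟩ := exists_singular_of_finrank hQ (E ⊓ C) (by omega)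
  refine ⟨e, heEC.1, fun heR => he0 ?_, hqe⟩
  have : e ∈ R ⊓ C := ⟨heR, heEC.2⟩
  rwa [hC.inf_eq_bot, Submodule.mem_bot] at this

end CW

section Hyp

variable {ι : Type} [Fintype ι] [DecidableEq ι] {F : Type*} [Field F] {Q : (ι → F) → F}
variable (hQ : Cfsg.Geo.IsNondegenerateQuadraticForm Q)

include hQ

/-- separating a vector from a subspace by the form -/
lemma exists_pol_eq_one (U : Submodule F (ι → F)) (z : ι → F) (hz : z ∉ U) :
    ∃ y, pol Q y z = 1 ∧ ∀ d ∈ U, pol Q y d = 0 := by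
  have h1 : ¬ (∀ y ∈ perp hQ U, pol Q y z = 0) := by
    intro h
    apply hz
    rw [← perp_perp hQ U, mem_perp]
    exact h
  push Not at h1
  obtain ⟨y, hy, hyz⟩ := h1
  refine ⟨(pol Q y z)⁻¹ • y, ?_, ?_⟩
  · rw [pol_smul_left hQ, inv_mul_cancel₀ hyz]
  · intro d hd
    rw [pol_smul_left hQ, (mem_perp' hQ U y).1 hy d hd, mul_zero]

/-- a hyperbolic partner perpendicular to a given subspace -/
lemma exists_partner (U : Submodule F (ι → F)) (e : ι → F) (he : Q e = 0)
    (heU : e ∈ perp hQ U) (heU' : e ∉ U) :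
    ∃ f, Q f = 0 ∧ pol Q e f = 1 ∧ f ∈ perp hQ U := by
  obtain ⟨y, hy1, hy2⟩ := exists_pol_eq_one hQ U e heU'
  refine ⟨y + (-Q y) • e, ?_, ?_, ?_⟩
  · rw [Q_add_smul hQ, he, hy1]; ring
  · rw [pol_add_right hQ, pol_smul_right hQ, pol_self hQ, he, pol_comm e y, hy1]; ring
  · rw [mem_perp']
    intro d hd
    rw [pol_add_left hQ, pol_smul_left hQ, hy2 d hd, (mem_perp' hQ U e).1 heU d hd]; ring

variable [Fintype F]

/-- a hyperbolic pair inside the perp of a subspace `R` with `R ⊓ R^⊥ = ⊥` -/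
lemma exists_hyperbolic_pair (R : Submodule F (ι → F)) (hR : R ⊓ perp hQ R = ⊥)
    (h : 3 ≤ Module.finrank F (perp hQ R)) :
    ∃ e f : ι → F, e ∈ perp hQ R ∧ f ∈ perp hQ R ∧ Q e = 0 ∧ Q f = 0 ∧ pol Q e f = 1 := by
  obtain ⟨e, he, he0, hqe⟩ := exists_singular_of_finrank hQ (perp hQ R) h
  have heR : e ∉ R := by
    intro h'
    have : e ∈ R ⊓ perp hQ R := ⟨h', he⟩
    rw [hR, Submodule.mem_bot] at this
    exact he0 this
  obtain ⟨f, hf, hef, hfR⟩ := exists_partner hQ R e hqe he heR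
  exact ⟨e, f, he, hfR, hqe, hf, hef⟩

end Hyp

end Cfsg.Agent.H9.Orth
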