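import Mathlib
import Cfsg.Agent.H9.OrthB

set_option autoImplicit false
set_option linter.unusedSectionVars false
open Cfsg

/-!
Siegel transformations `ρ_{u,w}` for a singular vector `u` and `w ⊥ u`, in any characteristic.
-/

namespace Cfsg.Agent.H9.Orth

open Matrix
open scoped commutatorElement

section Siegel

variable {ι : Type} [Fintype ι] [DecidableEq ι] {F : Type*} [Field F] {Q : (ι → F) → F}
variable (hQ : Cfsg.Geo.IsNondegenerateQuadraticForm Q)

include hQ

/-- the Siegel map `x ↦ x + (B(x,w) - Q(w) B(x,u)) u - B(x,u) w` as a linear map -/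
def sgL (u w : ι → F) : (ι → F) →ₗ[F] (ι → F) where
  toFun x := x + (pol Q x w - Q w * pol Q x u) • u - pol Q x u • w
  map_add' x y := by
    simp only [pol_add_left hQ]
    module
  map_smul' c x := by
    simp only [pol_smul_left hQ, RingHom.id_apply]
    module

lemma sgL_apply (u w x : ι → F) :
    sgL hQ u w x = x + (pol Q x w - Q w * pol Q x u) • u - pol Q x u • w := rfl

lemma sgL_sgL (u w w' : ι → F) (hu : Q u = 0) (huw : pol Q u w = 0) (huw' : pol Q u w' = 0)
    (x : ι → F) : sgL hQ u w (sgL hQ u w' x) = sgL hQ u (w + w') x := by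
  simp only [sgL_apply, pol_add_left hQ, pol_sub_left hQ, pol_smul_left hQ, pol_add_right hQ,
    Q_add Q w w']
  rw [pol_self hQ, hu, huw, pol_comm w' u, huw', pol_comm w' w]
  module

lemma sgL_zero (u x : ι → F) : sgL hQ u 0 x = x := by
  rw [sgL_apply, pol_zero_right hQ, Q_zero hQ]
  module

/-- the Siegel map as a linear equivalence -/
def sgE (u w : ι → F) (hu : Q u = 0) (huw : pol Q u w = 0) : (ι → F) ≃ₗ[F] (ι → F) :=
  LinearEquiv.ofLinearMap (sgL hQ u w) (sgL hQ u (-w))
    (by
      apply LinearMap.ext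
      intro x
      rw [LinearMap.comp_apply, sgL_sgL hQ u w (-w) hu huw (by rw [pol_neg_right hQ, huw, neg_zero]),
        add_neg_cancel, sgL_zero]
      rfl)
    (by
      apply LinearMap.ext
      intro x
      rw [LinearMap.comp_apply, sgL_sgL hQ u (-w) w hu (by rw [pol_neg_right hQ, huw, neg_zero]) huw,
        neg_add_cancel, sgL_zero]
      rfl)

open Classical in
/-- the Siegel transformation as an element of `GL` (trivial unless `Q u = 0` and `u ⊥ w`) -/
noncomputable def sg (u w : ι → F) : GL ι F :=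
  if h : Q u = 0 ∧ pol Q u w = 0 then ofLin (sgE hQ u w h.1 h.2) else 1

lemma act_sg (u w : ι → F) (hu : Q u = 0) (huw : pol Q u w = 0) (x : ι → F) :
    act (sg hQ u w) x = x + (pol Q x w - Q w * pol Q x u) • u - pol Q x u • w := by
  rw [sg, dif_pos ⟨hu, huw⟩, act_ofLin]
  rfl

lemma sg_of_not (u w : ι → F) (h : ¬ (Q u = 0 ∧ pol Q u w = 0)) : sg hQ u w = 1 := by
  rw [sg, dif_neg h]

lemma Q_act_sg (u w x : ι → F) : Q (act (sg hQ u w) x) = Q x := by
  by_cases h : Q u = 0 ∧ pol Q u w = 0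
  · obtain ⟨hu, huw⟩ := h
    rw [act_sg hQ u w hu huw, sub_eq_add_neg, ← neg_smul, add_assoc, Q_add Q, Q_add Q, hQ.smul,
      hQ.smul, hu]
    simp only [pol_add_right hQ, pol_smul_left hQ, pol_smul_right hQ]
    rw [huw]
    ring
  · rw [sg_of_not hQ u w h, act_one]

lemma sg_mem (u w : ι → F) : sg hQ u w ∈ Cfsg.isometryGroup F Q := by
  rw [mem_isometryGroup_iff]
  exact Q_act_sg hQ u w

lemma sg_mul (u w w' : ι → F) (huw : pol Q u w = 0) (huw' : pol Q u w' = 0) :
    sg hQ u w * sg hQ u w' = sg hQ u (w + w') := by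
  by_cases hu : Q u = 0
  · apply gl_ext
    intro x
    have h3 : pol Q u (w + w') = 0 := by rw [pol_add_right hQ, huw, huw', add_zero]
    rw [act_mul, act_sg hQ u w hu huw, act_sg hQ u w' hu huw', act_sg hQ u (w + w') hu h3]
    have := sgL_sgL hQ u w w' hu huw huw' x
    simp only [sgL_apply] at this
    exact this
  · rw [sg_of_not hQ u w (fun h => hu h.1), sg_of_not hQ u w' (fun h => hu h.1),
      sg_of_not hQ u (w + w') (fun h => hu h.1), one_mul]

lemma sg_zero (u : ι → F) : sg hQ u 0 = 1 := by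
  by_cases hu : Q u = 0
  · apply gl_ext
    intro x
    rw [act_sg hQ u 0 hu (pol_zero_right hQ u), act_one]
    exact sgL_zero hQ u x
  · exact sg_of_not hQ u 0 (fun h => hu h.1)

lemma sg_inv (u w : ι → F) (huw : pol Q u w = 0) : (sg hQ u w)⁻¹ = sg hQ u (-w) := by
  rw [inv_eq_iff_mul_eq_one, sg_mul hQ u w (-w) huw (by rw [pol_neg_right hQ, huw, neg_zero]),
    add_neg_cancel, sg_zero]

lemma sg_self (u : ι → F) (c : F) : sg hQ u (c • u) = 1 := by
  by_cases hu : Q u = 0
  · have h1 : pol Q u (c • u) = 0 := by rw [pol_smul_right hQ, pol_self hQ, hu]; ring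
    apply gl_ext
    intro x
    rw [act_sg hQ u (c • u) hu h1, act_one, hQ.smul, hu, pol_smul_right hQ]
    module
  · exact sg_of_not hQ u _ (fun h => hu h.1)

/-- conjugation of a Siegel transformation by an isometry -/
lemma conj_sg (g : GL ι F) (hg : g ∈ Cfsg.isometryGroup F Q) (u w : ι → F) :
    g * sg hQ u w * g⁻¹ = sg hQ (act g u) (act g w) := by
  by_cases h : Q u = 0 ∧ pol Q u w = 0
  · obtain ⟨hu, huw⟩ := h
    have hu' : Q (act g u) = 0 := by rw [Q_act g hg, hu]
    have huw' : pol Q (act g u) (act g w) = 0 := by rw [pol_act g hg, huw]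
    apply gl_ext
    intro x
    rw [act_mul, act_mul, act_sg hQ u w hu huw, act_sg hQ _ _ hu' huw', act_sub, act_add,
      act_smul, act_smul, act_act_inv, pol_act_inv g hg, pol_act_inv g hg, Q_act g hg]
  · have h' : ¬ (Q (act g u) = 0 ∧ pol Q (act g u) (act g w) = 0) := by
      rw [Q_act g hg, pol_act g hg]; exact h
    rw [sg_of_not hQ u w h, sg_of_not hQ _ _ h', mul_one, mul_inv_cancel]

lemma sg_smul_left (c : F) (u w : ι → F) : sg hQ (c • u) w = sg hQ u (c • w) := by
  by_cases hc : c = 0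
  · subst hc
    rw [zero_smul, zero_smul, sg_zero]
    apply gl_ext
    intro x
    rw [act_sg hQ 0 w (Q_zero hQ) (pol_zero_left hQ w), act_one, pol_zero_right hQ]
    module
  by_cases h : Q u = 0 ∧ pol Q u w = 0
  · obtain ⟨hu, huw⟩ := h
    have hu' : Q (c • u) = 0 := by rw [hQ.smul, hu, mul_zero]
    have h1 : pol Q (c • u) w = 0 := by rw [pol_smul_left hQ, huw, mul_zero]
    have h2 : pol Q u (c • w) = 0 := by rw [pol_smul_right hQ, huw, mul_zero]
    apply gl_ext
    intro x
    rw [act_sg hQ _ _ hu' h1, act_sg hQ _ _ hu h2, hQ.smul, pol_smul_right hQ, pol_smul_right hQ]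
    module
  · have h' : ¬ (Q (c • u) = 0 ∧ pol Q (c • u) w = 0) := by
      rw [hQ.smul, pol_smul_left hQ]
      intro h''
      apply h
      constructor
      · rcases mul_eq_zero.1 h''.1 with h3 | h3
        · exact absurd ((pow_eq_zero_iff two_ne_zero).1 h3) hc
        · exact h3
      · rcases mul_eq_zero.1 h''.2 with h3 | h3
        · exact absurd h3 hc
        · exact h3
    have h'' : ¬ (Q u = 0 ∧ pol Q u (c • w) = 0) := by
      rw [pol_smul_right hQ]
      intro h3
      apply h
      refine ⟨h3.1, ?_⟩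
      rcases mul_eq_zero.1 h3.2 with h4 | h4
      · exact absurd h4 hc
      · exact h4
    rw [sg_of_not hQ _ _ h', sg_of_not hQ _ _ h'']

/-- for singular `w`, `ρ_{u,w}` is additive in `u` (mutually orthogonal singular vectors) -/
lemma sg_add_left (a b w : ι → F) (ha : Q a = 0) (hb : Q b = 0) (hw : Q w = 0)
    (hab : pol Q a b = 0) (haw : pol Q a w = 0) (hbw : pol Q b w = 0) :
    sg hQ (a + b) w = sg hQ a w * sg hQ b w := by
  have hab' : Q (a + b) = 0 := by rw [Q_add Q, ha, hb, hab]; ring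
  have h1 : pol Q (a + b) w = 0 := by rw [pol_add_left hQ, haw, hbw, add_zero]
  apply gl_ext
  intro x
  rw [act_mul, act_sg hQ _ _ hab' h1, act_sg hQ _ _ ha haw, act_sg hQ _ _ hb hbw, hw]
  simp only [pol_add_left hQ, pol_sub_left hQ, pol_smul_left hQ, pol_add_right hQ]
  rw [hbw, pol_comm b a, hab, pol_comm w a, haw, pol_self hQ, hw]
  module

/-- for singular `w`, `ρ_{u,w} = ρ_{w,u}⁻¹` -/
lemma sg_symm (u w : ι → F) (hu : Q u = 0) (hw : Q w = 0) (huw : pol Q u w = 0) :
    sg hQ u w = (sg hQ w u)⁻¹ := by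
  have hwu : pol Q w u = 0 := by rw [pol_comm, huw]
  rw [sg_inv hQ w u hwu]
  apply gl_ext
  intro x
  rw [act_sg hQ _ _ hu huw, act_sg hQ _ _ hw (by rw [pol_neg_right hQ, hwu, neg_zero]), hw,
    Q_neg hQ, hu, pol_neg_right hQ]
  module

/-- the Chevalley commutator relation: a long root element is a commutator -/
lemma sg_eq_comm (u w e f : ι → F) (hu : Q u = 0) (hw : Q w = 0) (he : Q e = 0) (hf : Q f = 0)
    (huw : pol Q u w = 0) (hue : pol Q u e = 0) (huf : pol Q u f = 0) (hwe : pol Q w e = 0)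
    (hwf : pol Q w f = 0) (hef : pol Q e f = 1) :
    sg hQ u w = ⁅sg hQ u f, sg hQ e w⁆ := by
  have hew : pol Q e w = 0 := by rw [pol_comm, hwe]
  have heu : pol Q e u = 0 := by rw [pol_comm, hue]
  have h1 : act (sg hQ u f) e = e + u := by
    rw [act_sg hQ u f hu huf, hef, hf, heu]
    module
  have h2 : act (sg hQ u f) w = w := by
    rw [act_sg hQ u f hu huf, hwf, pol_comm w u, huw]
    module
  have h3 := conj_sg hQ (sg hQ u f) (sg_mem hQ u f) e w
  rw [h1, h2, sg_add_left hQ e u w he hu hw heu hew huw] at h3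
  rw [commutatorElement_def, h3]
  -- `ρ_{e,w}` and `ρ_{u,w}` commute
  have h4 : sg hQ e w * sg hQ u w = sg hQ u w * sg hQ e w := by
    rw [← sg_add_left hQ e u w he hu hw heu hew huw, add_comm,
      sg_add_left hQ u e w hu he hw hue huw hew]
  rw [h4, mul_inv_cancel_right]

end Siegel

end Cfsg.Agent.H9.Orth
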