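import Mathlib
import Cfsg.Agent.H9.OrthC

set_option autoImplicit false
set_option linter.unusedSectionVars false
set_option linter.style.haveILetI false
open Cfsg

/-!
The group `NN` generated by the long root elements (Siegel transformations `ρ_{u,w}` with `u, w`
singular and orthogonal): normality, perfectness, root groups, transitivity.
-/

namespace Cfsg.Agent.H9.Orth

open Matrix
open scoped commutatorElement

section NNdef

variable {ι : Type} [Fintype ι] [DecidableEq ι] {F : Type*} [Field F] {Q : (ι → F) → F}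
variable (hQ : Cfsg.Geo.IsNondegenerateQuadraticForm Q)

include hQ

/-- the subgroup generated by the long root elements -/
def NN : Subgroup (GL ι F) :=
  Subgroup.closure {g | ∃ u w, Q u = 0 ∧ Q w = 0 ∧ pol Q u w = 0 ∧ g = sg hQ u w}

lemma sg_mem_NN (u w : ι → F) (hu : Q u = 0) (hw : Q w = 0) (huw : pol Q u w = 0) :
    sg hQ u w ∈ NN hQ :=
  Subgroup.subset_closure ⟨u, w, hu, hw, huw, rfl⟩

lemma NN_le_iso : NN hQ ≤ Cfsg.isometryGroup F Q := by
  rw [NN, Subgroup.closure_le]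
  rintro g ⟨u, w, -, -, -, rfl⟩
  exact sg_mem hQ u w

lemma conj_mem_NN (g : GL ι F) (hg : g ∈ Cfsg.isometryGroup F Q) (n : GL ι F) (hn : n ∈ NN hQ) :
    g * n * g⁻¹ ∈ NN hQ := by
  have h : NN hQ ≤ (NN hQ).comap (MulAut.conj g).toMonoidHom := by
    rw [NN, Subgroup.closure_le]
    rintro n ⟨u, w, hu, hw, huw, rfl⟩
    show g * sg hQ u w * g⁻¹ ∈ NN hQ
    rw [conj_sg hQ g hg]
    exact sg_mem_NN hQ _ _ (by rw [Q_act g hg, hu]) (by rw [Q_act g hg, hw])
      (by rw [pol_act g hg, huw])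
  exact h hn

variable [Fintype F]

/-- a hyperbolic pair perpendicular to a small subspace -/
lemma exists_hyperbolic_perp (U : Submodule F (ι → F))
    (h : 2 * Module.finrank F U + 3 ≤ Fintype.card ι) :
    ∃ e f : ι → F, e ∈ perp hQ U ∧ f ∈ perp hQ U ∧ Q e = 0 ∧ Q f = 0 ∧ pol Q e f = 1 := by
  have h1 := finrank_perp hQ U
  obtain ⟨e, he, heU, hqe⟩ := exists_singular_notMem hQ (perp hQ U) U (by omega)
  obtain ⟨f, hf, hef, hfU⟩ := exists_partner hQ U e hqe he heU
  exact ⟨e, f, he, hfU, hqe, hf, hef⟩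

omit hQ in
lemma finrank_span_singleton_le (x : ι → F) :
    Module.finrank F (Submodule.span F {x}) ≤ 1 := by
  have := finrank_span_le_card (R := F) ({x} : Set (ι → F))
  simpa using this

omit hQ in
lemma finrank_span_pair_le (x y : ι → F) :
    Module.finrank F (Submodule.span F {x, y}) ≤ 2 := by
  rw [Submodule.span_insert]
  have h1 := Submodule.finrank_add_le_finrank_add_finrank (Submodule.span F {x})
    (Submodule.span F {y})
  have h2 := finrank_span_singleton_le (F := F) x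
  have h3 := finrank_span_singleton_le (F := F) y
  omega

omit [Fintype F] in
lemma mem_perp_span_pair (u w x : ι → F) :
    x ∈ perp hQ (Submodule.span F {u, w}) ↔ pol Q u x = 0 ∧ pol Q w x = 0 := by
  rw [mem_perp]
  constructor
  · intro h
    exact ⟨h u (Submodule.subset_span (by simp)), h w (Submodule.subset_span (by simp))⟩
  · rintro ⟨h1, h2⟩ y hy
    obtain ⟨a, b, rfl⟩ := Submodule.mem_span_pair.1 hy
    rw [pol_add_left hQ, pol_smul_left hQ, pol_smul_left hQ, h1, h2]; ring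

/-- a hyperbolic pair perpendicular to one vector -/
lemma exists_hyperbolic_perp1 (hn : 5 ≤ Fintype.card ι) (x : ι → F) :
    ∃ e f : ι → F, pol Q x e = 0 ∧ pol Q x f = 0 ∧ Q e = 0 ∧ Q f = 0 ∧ pol Q e f = 1 := by
  have := finrank_span_singleton_le (F := F) x
  obtain ⟨e, f, he, hf, hqe, hqf, hef⟩ := exists_hyperbolic_perp hQ (Submodule.span F {x})
    (by omega)
  rw [mem_perp_span_singleton] at he hf
  exact ⟨e, f, he, hf, hqe, hqf, hef⟩

/-- a hyperbolic pair perpendicular to two vectors -/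
lemma exists_hyperbolic_perp2 (hn : 7 ≤ Fintype.card ι) (x y : ι → F) :
    ∃ e f : ι → F, pol Q x e = 0 ∧ pol Q x f = 0 ∧ pol Q y e = 0 ∧ pol Q y f = 0 ∧
      Q e = 0 ∧ Q f = 0 ∧ pol Q e f = 1 := by
  have := finrank_span_pair_le (F := F) x y
  obtain ⟨e, f, he, hf, hqe, hqf, hef⟩ := exists_hyperbolic_perp hQ (Submodule.span F {x, y})
    (by omega)
  rw [mem_perp_span_pair] at he hf
  exact ⟨e, f, he.1, hf.1, he.2, hf.2, hqe, hqf, hef⟩

/-- `NN` is perfect: every generator is a commutator of generators -/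
lemma NN_le_commutator (hn : 7 ≤ Fintype.card ι) : NN hQ ≤ ⁅NN hQ, NN hQ⁆ := by
  rw [NN, Subgroup.closure_le]
  rintro g ⟨u, w, hu, hw, huw, rfl⟩
  obtain ⟨e, f, hue, huf, hwe, hwf, he, hf, hef⟩ := exists_hyperbolic_perp2 hQ hn u w
  rw [sg_eq_comm hQ u w e f hu hw he hf huw hue huf hwe hwf hef]
  exact Subgroup.commutator_mem_commutator (sg_mem_NN hQ u f hu hf huf)
    (sg_mem_NN hQ e w he hw (by rw [pol_comm, hwe]))

/-- every vector perpendicular to `x` is a sum of singular vectors perpendicular to `x` -/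
lemma sum_singular (x e f w : ι → F) (hxe : pol Q x e = 0) (hxf : pol Q x f = 0) (he : Q e = 0)
    (hf : Q f = 0) (hef : pol Q e f = 1) (hxw : pol Q x w = 0) :
    ∃ s : Fin 5 → (ι → F), (∀ i, Q (s i) = 0) ∧ (∀ i, pol Q x (s i) = 0) ∧ w = ∑ i, s i := by
  set α := pol Q w f with hα
  set β := pol Q w e with hβ
  set z := w - α • e - β • f with hz
  have hze : pol Q z e = 0 := by
    rw [hz, pol_sub_left hQ, pol_sub_left hQ, pol_smul_left hQ, pol_smul_left hQ, pol_self hQ, he,
      pol_comm f e, hef]; ring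
  have hzf : pol Q z f = 0 := by
    rw [hz, pol_sub_left hQ, pol_sub_left hQ, pol_smul_left hQ, pol_smul_left hQ, pol_self hQ, hf,
      hef]; ring
  have hxz : pol Q x z = 0 := by
    rw [hz, pol_sub_right hQ, pol_sub_right hQ, pol_smul_right hQ, pol_smul_right hQ, hxw, hxe,
      hxf]; ring
  refine ⟨![α • e, β • f, z + e + (-Q z) • f, -e, Q z • f], ?_, ?_, ?_⟩
  · intro i
    fin_cases i
    · show Q (α • e) = 0
      rw [hQ.smul, he, mul_zero]
    · show Q (β • f) = 0
      rw [hQ.smul, hf, mul_zero]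
    · show Q (z + e + (-Q z) • f) = 0
      rw [Q_add_smul hQ, Q_add Q, he, hf, pol_add_left hQ, hze, hzf, hef]; ring
    · show Q (-e) = 0
      rw [Q_neg hQ, he]
    · show Q (Q z • f) = 0
      rw [hQ.smul, hf, mul_zero]
  · intro i
    fin_cases i
    · show pol Q x (α • e) = 0
      rw [pol_smul_right hQ, hxe, mul_zero]
    · show pol Q x (β • f) = 0
      rw [pol_smul_right hQ, hxf, mul_zero]
    · show pol Q x (z + e + (-Q z) • f) = 0
      rw [pol_add_right hQ, pol_add_right hQ, pol_smul_right hQ, hxz, hxe, hxf]; ring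
    · show pol Q x (-e) = 0
      rw [pol_neg_right hQ, hxe, neg_zero]
    · show pol Q x (Q z • f) = 0
      rw [pol_smul_right hQ, hxf, mul_zero]
  · rw [Fin.sum_univ_five]
    show w = α • e + β • f + (z + e + (-Q z) • f) + -e + Q z • f
    rw [hz]
    module

/-- a singular vector perpendicular to `x` and not perpendicular to `y ∉ ⟨x⟩` -/
lemma exists_singular_pol_ne (hn : 5 ≤ Fintype.card ι) (x y : ι → F)
    (hy : y ∉ Submodule.span F {x}) : ∃ d, Q d = 0 ∧ pol Q x d = 0 ∧ pol Q y d ≠ 0 := by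
  obtain ⟨e, f, hxe, hxf, he, hf, hef⟩ := exists_hyperbolic_perp1 hQ hn x
  by_contra hcon
  push Not at hcon
  apply hy
  rw [← perp_perp hQ (Submodule.span F {x}), mem_perp]
  intro w hw
  rw [mem_perp_span_singleton] at hw
  obtain ⟨s, hs1, hs2, hs3⟩ := sum_singular hQ x e f w hxe hxf he hf hef hw
  rw [hs3, pol_comm]
  have : pol Q y (∑ i, s i) = ∑ i, pol Q y (s i) := by
    rw [Fin.sum_univ_five, Fin.sum_univ_five]
    simp only [pol_add_right hQ]
  rw [this]
  apply Finset.sum_eq_zero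
  intro i _
  exact hcon (s i) (hs1 i) (hs2 i)

/-- the root group at a singular vector lies in `NN` -/
lemma sg_mem_NN' (hn : 5 ≤ Fintype.card ι) (u w : ι → F) (huw : pol Q u w = 0) :
    sg hQ u w ∈ NN hQ := by
  by_cases hu : Q u = 0
  · obtain ⟨e, f, hxe, hxf, he, hf, hef⟩ := exists_hyperbolic_perp1 hQ hn u
    obtain ⟨s, hs1, hs2, hs3⟩ := sum_singular hQ u e f w hxe hxf he hf hef huw
    rw [hs3, Fin.sum_univ_five]
    have key : ∀ a b : ι → F, pol Q u a = 0 → pol Q u b = 0 → sg hQ u a ∈ NN hQ →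
        sg hQ u b ∈ NN hQ → sg hQ u (a + b) ∈ NN hQ := by
      intro a b ha hb h1 h2
      rw [← sg_mul hQ u a b ha hb]
      exact (NN hQ).mul_mem h1 h2
    have hm : ∀ i, sg hQ u (s i) ∈ NN hQ := fun i => sg_mem_NN hQ u (s i) hu (hs1 i) (hs2 i)
    have hp : ∀ a b : ι → F, pol Q u a = 0 → pol Q u b = 0 → pol Q u (a + b) = 0 := by
      intro a b ha hb
      rw [pol_add_right hQ, ha, hb, add_zero]
    exact key _ _ (hp _ _ (hp _ _ (hp _ _ (hs2 0) (hs2 1)) (hs2 2)) (hs2 3)) (hs2 4)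
      (key _ _ (hp _ _ (hp _ _ (hs2 0) (hs2 1)) (hs2 2)) (hs2 3)
        (key _ _ (hp _ _ (hs2 0) (hs2 1)) (hs2 2) (key _ _ (hs2 0) (hs2 1) (hm 0) (hm 1)) (hm 2))
        (hm 3)) (hm 4)
  · rw [sg_of_not hQ u w (fun h => hu h.1)]
    exact (NN hQ).one_mem

end NNdef

end Cfsg.Agent.H9.Orth
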