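import Mathlib
import Cfsg.Agent.H9.OrthD

set_option autoImplicit false
set_option linter.unusedSectionVars false
set_option linter.style.haveILetI false
open Cfsg

/-!
Transitivity properties of the group `NN` generated by long root elements.
-/

namespace Cfsg.Agent.H9.Orth

open Matrix
open scoped commutatorElement

section Trans

variable {ι : Type} [Fintype ι] [DecidableEq ι] {F : Type*} [Field F] {Q : (ι → F) → F}
variable (hQ : Cfsg.Geo.IsNondegenerateQuadraticForm Q)

include hQ

/-- a long root element moving `x` to `y`, for orthogonal independent singular vectors -/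
lemma exists_NN_orth (x y : ι → F) (hx0 : x ≠ 0) (hx : Q x = 0) (hy : Q y = 0)
    (hxy : pol Q x y = 0) (hind : y ∉ Submodule.span F {x}) :
    ∃ g ∈ NN hQ, act g x = y := by
  set a := y - x with ha
  have hqa : Q a = 0 := by rw [ha, Q_sub hQ, hx, hy, pol_comm, hxy]; ring
  have hax : pol Q a x = 0 := by
    rw [ha, pol_sub_left hQ, pol_self hQ, hx, pol_comm, hxy]; ring
  have hx1 : x ∈ perp hQ (Submodule.span F {a}) := by
    rw [mem_perp_span_singleton]; exact hax
  have hx2 : x ∉ Submodule.span F {a} := by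
    intro h
    obtain ⟨c, hc⟩ := Submodule.mem_span_singleton.1 h
    by_cases hc0 : c = 0
    · rw [hc0, zero_smul] at hc
      exact hx0 hc.symm
    · apply hind
      rw [Submodule.mem_span_singleton]
      refine ⟨1 + c⁻¹, ?_⟩
      have : y = a + x := by rw [ha]; abel
      rw [this, ← hc, smul_smul, add_mul, one_mul, inv_mul_cancel₀ hc0, add_smul, one_smul,
        add_comm]
  obtain ⟨u, hu, hxu, hua⟩ := exists_partner hQ (Submodule.span F {a}) x hx hx1 hx2
  rw [mem_perp_span_singleton] at hua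
  refine ⟨sg hQ a u, sg_mem_NN hQ a u hqa hu hua, ?_⟩
  rw [act_sg hQ a u hqa hua, hxu, pol_comm x a, hax, ha]
  module

variable [Fintype F]

/-- `NN` is transitive on nonzero singular vectors -/
lemma NN_trans_singular (hn : 7 ≤ Fintype.card ι) (x y : ι → F) (hx0 : x ≠ 0) (hy0 : y ≠ 0)
    (hx : Q x = 0) (hy : Q y = 0) : ∃ g ∈ NN hQ, act g x = y := by
  obtain ⟨e, f, hxe, hxf, hye, hyf, he, hf, hef⟩ := exists_hyperbolic_perp2 hQ hn x y
  have he0 : e ≠ 0 := by
    rintro rfl
    rw [pol_zero_left hQ] at hef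
    exact zero_ne_one hef
  have h1 : e ∉ Submodule.span F {x} := by
    intro h
    obtain ⟨c, rfl⟩ := Submodule.mem_span_singleton.1 h
    rw [pol_smul_left hQ, hxf, mul_zero] at hef
    exact zero_ne_one hef
  have h2 : y ∉ Submodule.span F {e} := by
    intro h
    obtain ⟨c, hc⟩ := Submodule.mem_span_singleton.1 h
    have : pol Q y f = c := by rw [← hc, pol_smul_left hQ, hef, mul_one]
    rw [hyf] at this
    rw [← this, zero_smul] at hc
    exact hy0 hc.symm
  obtain ⟨g1, hg1, hg1x⟩ := exists_NN_orth hQ x e hx0 hx he hxe h1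
  obtain ⟨g2, hg2, hg2e⟩ := exists_NN_orth hQ e y he0 he hy (by rw [pol_comm, hye]) h2
  exact ⟨g2 * g1, (NN hQ).mul_mem hg2 hg1, by rw [act_mul, hg1x, hg2e]⟩

omit [Fintype F] in
/-- the root group at `e` is transitive on the hyperbolic partners of `e` -/
lemma act_sg_partner (e f f' : ι → F) (he : Q e = 0) (hf : Q f = 0) (hf' : Q f' = 0)
    (hef : pol Q e f = 1) (hef' : pol Q e f' = 1) :
    pol Q e (f - f') = 0 ∧ act (sg hQ e (f - f')) f = f' := by
  have h1 : pol Q e (f - f') = 0 := by rw [pol_sub_right hQ, hef, hef', sub_self]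
  refine ⟨h1, ?_⟩
  rw [act_sg hQ e (f - f') he h1, pol_sub_right hQ, pol_self hQ, hf, Q_sub hQ, hf, hf',
    pol_comm f e, hef]
  module

/-- a single step on the quadric `Q = a` -/
lemma NN_step (hn : 5 ≤ Fintype.card ι) (x d : ι → F) (hd : Q d = 0) (hxd : pol Q x d = 0)
    (hx : Q x ≠ 0) : ∃ g ∈ NN hQ, act g x = x + d := by
  by_cases hd0 : d = 0
  · exact ⟨1, (NN hQ).one_mem, by rw [act_one, hd0, add_zero]⟩
  have hxs : x ∉ Submodule.span F {d} := by
    intro h
    obtain ⟨c, rfl⟩ := Submodule.mem_span_singleton.1 h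
    rw [hQ.smul, hd, mul_zero] at hx
    exact hx rfl
  obtain ⟨v, hv, hdv, hxv⟩ := exists_singular_pol_ne hQ hn d x hxs
  have h1 : pol Q d ((pol Q x v)⁻¹ • v) = 0 := by rw [pol_smul_right hQ, hdv, mul_zero]
  refine ⟨sg hQ d ((pol Q x v)⁻¹ • v),
    sg_mem_NN hQ _ _ hd (by rw [hQ.smul, hv, mul_zero]) h1, ?_⟩
  rw [act_sg hQ _ _ hd h1, hxd, pol_smul_right hQ, inv_mul_cancel₀ hxv]
  module

/-- two steps on the quadric `Q = a` for independent vectors -/
lemma NN_two_step (hn : 5 ≤ Fintype.card ι) (x y : ι → F) (hx : Q x ≠ 0) (hxy : Q y = Q x)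
    (hind : y ∉ Submodule.span F {x}) : ∃ g ∈ NN hQ, act g x = y := by
  obtain ⟨d, hd, hxd, hyd⟩ := exists_singular_pol_ne hQ hn x y hind
  set b := Q (y - x) with hb
  set d' := (b * (pol Q y d)⁻¹) • d with hd'
  have hqd' : Q d' = 0 := by rw [hd', hQ.smul, hd, mul_zero]
  have hxd' : pol Q x d' = 0 := by rw [hd', pol_smul_right hQ, hxd, mul_zero]
  have hyd' : pol Q y d' = b := by
    rw [hd', pol_smul_right hQ, mul_assoc, inv_mul_cancel₀ hyd, mul_one]
  set z := x + d' with hz
  have hqz : Q z = Q x := by rw [hz, Q_add Q, hqd', hxd']; ring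
  obtain ⟨g1, hg1, hg1x⟩ := NN_step hQ hn x d' hqd' hxd' hx
  have hyz : Q (y - z) = 0 := by
    have e1 : y - z = (y - x) - d' := by rw [hz]; abel
    rw [e1, Q_sub hQ, ← hb, hqd', pol_sub_left hQ, hyd', hxd']; ring
  have hzyz : pol Q z (y - z) = 0 := by
    have e1 : y = z + (y - z) := by abel
    have e2 := Q_add Q z (y - z)
    rw [← e1, hyz, hxy, hqz] at e2
    linear_combination -e2
  obtain ⟨g2, hg2, hg2z⟩ := NN_step hQ hn z (y - z) hyz hzyz (by rw [hqz]; exact hx)
  refine ⟨g2 * g1, (NN hQ).mul_mem hg2 hg1, ?_⟩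
  rw [act_mul, hg1x, ← hz, hg2z]
  abel

/-- `NN` is transitive on the vectors of a given nonzero norm -/
lemma NN_trans_norm (hn : 5 ≤ Fintype.card ι) (x y : ι → F) (hx : Q x ≠ 0) (hxy : Q y = Q x) :
    ∃ g ∈ NN hQ, act g x = y := by
  by_cases hind : y ∈ Submodule.span F {x}
  · obtain ⟨c, hc⟩ := Submodule.mem_span_singleton.1 hind
    obtain ⟨e, f, hxe, hxf, he, hf, hef⟩ := exists_hyperbolic_perp1 hQ hn x
    have he0 : e ≠ 0 := by
      rintro rfl
      rw [pol_zero_left hQ] at hef
      exact zero_ne_one hef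
    have hes : e ∉ Submodule.span F {x} := by
      intro h
      obtain ⟨c', rfl⟩ := Submodule.mem_span_singleton.1 h
      rw [pol_smul_left hQ, hxf, mul_zero] at hef
      exact zero_ne_one hef
    have hy0 : y ≠ 0 := by
      apply ne_zero_of_Q_ne hQ
      rw [hxy]; exact hx
    set z := x + e with hz
    have hqz : Q z = Q x := by rw [hz, Q_add Q, he, hxe]; ring
    have h1 : z ∉ Submodule.span F {x} := by
      intro h
      apply hes
      have : e = z - x := by rw [hz]; abel
      rw [this]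
      exact Submodule.sub_mem _ h (Submodule.mem_span_singleton_self x)
    have h2 : y ∉ Submodule.span F {z} := by
      intro h
      obtain ⟨c', hc'⟩ := Submodule.mem_span_singleton.1 h
      have hc'0 : c' ≠ 0 := by
        rintro rfl
        rw [zero_smul] at hc'
        exact hy0 hc'.symm
      apply hes
      rw [Submodule.mem_span_singleton]
      refine ⟨c'⁻¹ * (c - c'), ?_⟩
      have e1 : c' • e = (c - c') • x := by
        have : c' • z = c • x := by rw [hc', hc]
        rw [hz, smul_add] at this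
        rw [sub_smul, ← this]; abel
      rw [mul_smul, ← e1, smul_smul, inv_mul_cancel₀ hc'0, one_smul]
    obtain ⟨g1, hg1, hg1x⟩ := NN_two_step hQ hn x z hx hqz h1
    obtain ⟨g2, hg2, hg2z⟩ := NN_two_step hQ hn z y (by rw [hqz]; exact hx) (by rw [hqz, hxy]) h2
    exact ⟨g2 * g1, (NN hQ).mul_mem hg2 hg1, by rw [act_mul, hg1x, hg2z]⟩
  · exact NN_two_step hQ hn x y hx hxy hind

/-- every value is represented on the perp of a vector -/
lemma exists_perp_norm (hn : 5 ≤ Fintype.card ι) (x : ι → F) (c : F) :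
    ∃ y, pol Q x y = 0 ∧ Q y = c := by
  obtain ⟨e, f, hxe, hxf, he, hf, hef⟩ := exists_hyperbolic_perp1 hQ hn x
  refine ⟨e + c • f, ?_, ?_⟩
  · rw [pol_add_right hQ, pol_smul_right hQ, hxe, hxf]; ring
  · rw [Q_add_smul hQ, he, hf, hef]; ring

end Trans

end Cfsg.Agent.H9.Orth
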