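import Mathlib
import Cfsg.Agent.H9.OrthE

set_option autoImplicit false
set_option linter.unusedSectionVars false
set_option linter.style.haveILetI false
open Cfsg

/-!
Reflections (orthogonal transvections in characteristic two) and the generation of the isometry
group by reflections and Siegel transformations, in any characteristic.
-/

namespace Cfsg.Agent.H9.Orth

open Matrix
open scoped commutatorElement

section Refl

variable {ι : Type} [Fintype ι] [DecidableEq ι] {F : Type*} [Field F] {Q : (ι → F) → F}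
variable (hQ : Cfsg.Geo.IsNondegenerateQuadraticForm Q)

include hQ

/-- the reflection `y ↦ y - Q(x)⁻¹ B(y,x) x` as a linear map -/
def rfL (x : ι → F) : (ι → F) →ₗ[F] (ι → F) where
  toFun y := y - ((Q x)⁻¹ * pol Q y x) • x
  map_add' y z := by
    simp only [pol_add_left hQ]
    module
  map_smul' c y := by
    simp only [pol_smul_left hQ, RingHom.id_apply]
    module

lemma rfL_apply (x y : ι → F) : rfL hQ x y = y - ((Q x)⁻¹ * pol Q y x) • x := rfl

lemma rfL_rfL (x : ι → F) (hx : Q x ≠ 0) (y : ι → F) : rfL hQ x (rfL hQ x y) = y := by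
  simp only [rfL_apply, pol_sub_left hQ, pol_smul_left hQ]
  rw [pol_self hQ]
  have : (Q x)⁻¹ * (pol Q y x - (Q x)⁻¹ * pol Q y x * (2 * Q x)) = - ((Q x)⁻¹ * pol Q y x) := by
    field_simp
    ring
  rw [this]
  module

/-- the reflection as a linear equivalence -/
def rfE (x : ι → F) (hx : Q x ≠ 0) : (ι → F) ≃ₗ[F] (ι → F) :=
  LinearEquiv.ofLinearMap (rfL hQ x) (rfL hQ x)
    (by apply LinearMap.ext; intro y; exact rfL_rfL hQ x hx y)
    (by apply LinearMap.ext; intro y; exact rfL_rfL hQ x hx y)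

open Classical in
/-- the reflection as an element of `GL` (trivial if `Q x = 0`) -/
noncomputable def rf (x : ι → F) : GL ι F :=
  if h : Q x ≠ 0 then ofLin (rfE hQ x h) else 1

lemma act_rf (x : ι → F) (hx : Q x ≠ 0) (y : ι → F) :
    act (rf hQ x) y = y - ((Q x)⁻¹ * pol Q y x) • x := by
  rw [rf, dif_pos hx, act_ofLin]
  rfl

lemma rf_of_not (x : ι → F) (hx : ¬ Q x ≠ 0) : rf hQ x = 1 := by
  rw [rf, dif_neg hx]

lemma Q_act_rf (x y : ι → F) : Q (act (rf hQ x) y) = Q y := by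
  by_cases hx : Q x ≠ 0
  · rw [act_rf hQ x hx, sub_eq_add_neg, ← neg_smul, Q_add_smul hQ]
    field_simp
    ring
  · rw [rf_of_not hQ x hx, act_one]

lemma rf_mem (x : ι → F) : rf hQ x ∈ Cfsg.isometryGroup F Q := by
  rw [mem_isometryGroup_iff]
  exact Q_act_rf hQ x

lemma rf_mul_self (x : ι → F) : rf hQ x * rf hQ x = 1 := by
  by_cases hx : Q x ≠ 0
  · apply gl_ext
    intro y
    rw [act_mul, act_one, act_rf hQ x hx, act_rf hQ x hx]
    exact rfL_rfL hQ x hx y
  · rw [rf_of_not hQ x hx, one_mul]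

lemma rf_inv (x : ι → F) : (rf hQ x)⁻¹ = rf hQ x :=
  inv_eq_of_mul_eq_one_left (rf_mul_self hQ x)

lemma conj_rf (g : GL ι F) (hg : g ∈ Cfsg.isometryGroup F Q) (x : ι → F) :
    g * rf hQ x * g⁻¹ = rf hQ (act g x) := by
  by_cases hx : Q x ≠ 0
  · have hx' : Q (act g x) ≠ 0 := by rw [Q_act g hg]; exact hx
    apply gl_ext
    intro y
    rw [act_mul, act_mul, act_rf hQ x hx, act_rf hQ _ hx', act_sub, act_smul, act_act_inv,
      pol_act_inv g hg, Q_act g hg]
  · have hx' : ¬ Q (act g x) ≠ 0 := by rw [Q_act g hg]; exact hx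
    rw [rf_of_not hQ x hx, rf_of_not hQ _ hx', mul_one, mul_inv_cancel]

/-- the reflection in `x - y` interchanges two vectors of the same norm -/
lemma act_rf_sub (x y : ι → F) (hxy : Q x = Q y) (h : Q (x - y) ≠ 0) :
    act (rf hQ (x - y)) x = y := by
  rw [act_rf hQ _ h, pol_sub_right hQ, pol_self hQ]
  have h1 : Q (x - y) = 2 * Q x - pol Q x y := by rw [Q_sub hQ, ← hxy]; ring
  have h2 : (Q (x - y))⁻¹ * (2 * Q x - pol Q x y) = 1 := by
    rw [← h1, inv_mul_cancel₀ h]
  rw [h2]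
  module

lemma act_rf_sub' (x y : ι → F) (hxy : Q x = Q y) (h : Q (x - y) ≠ 0) :
    act (rf hQ (x - y)) y = x := by
  have := act_rf_sub hQ x y hxy h
  have h2 := congrArg (act (rf hQ (x - y))) this
  rw [← act_mul, rf_mul_self, act_one] at h2
  exact h2.symm

lemma act_rf_perp (x y : ι → F) (h : pol Q y x = 0) : act (rf hQ x) y = y := by
  by_cases hx : Q x ≠ 0
  · rw [act_rf hQ x hx, h]
    module
  · rw [rf_of_not hQ x hx, act_one]

/-- reflections in orthogonal vectors commute -/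
lemma rf_comm (x y : ι → F) (h : pol Q x y = 0) : rf hQ x * rf hQ y = rf hQ y * rf hQ x := by
  have h1 := conj_rf hQ (rf hQ x) (rf_mem hQ x) y
  rw [act_rf_perp hQ x y (by rw [pol_comm, h]), rf_inv] at h1
  calc rf hQ x * rf hQ y = rf hQ x * rf hQ y * rf hQ x * rf hQ x := by
        rw [mul_assoc (rf hQ x * rf hQ y), rf_mul_self, mul_one]
    _ = rf hQ y * rf hQ x := by rw [h1]

/-- the subgroup generated by the reflections -/
def RR : Subgroup (GL ι F) := Subgroup.closure {g | ∃ x, g = rf hQ x}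

lemma rf_mem_RR (x : ι → F) : rf hQ x ∈ RR hQ := Subgroup.subset_closure ⟨x, rfl⟩

lemma RR_le_iso : RR hQ ≤ Cfsg.isometryGroup F Q := by
  rw [RR, Subgroup.closure_le]
  rintro g ⟨x, rfl⟩
  exact rf_mem hQ x

/-- the subgroup generated by reflections and long root elements -/
def GG : Subgroup (GL ι F) := NN hQ ⊔ RR hQ

lemma GG_le_iso : GG hQ ≤ Cfsg.isometryGroup F Q :=
  sup_le (NN_le_iso hQ) (RR_le_iso hQ)

/-- the submodule of vectors fixed by `g` -/
def fixS (g : GL ι F) : Submodule F (ι → F) where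
  carrier := {v | act g v = v}
  add_mem' {a b} ha hb := by
    show act g (a + b) = a + b
    rw [act_add, ha, hb]
  zero_mem' := act_zero g
  smul_mem' c a ha := by
    show act g (c • a) = c • a
    rw [act_smul, ha]

omit hQ in
lemma mem_fixS (g : GL ι F) (v : ι → F) : v ∈ fixS g ↔ act g v = v := Iff.rfl

omit hQ in
lemma fixS_mul (g h : GL ι F) (U : Submodule F (ι → F)) (hg : U ≤ fixS g) (hh : U ≤ fixS h) :
    U ≤ fixS (g * h) := by
  intro u hu
  rw [mem_fixS, act_mul, (mem_fixS h u).1 (hh hu), (mem_fixS g u).1 (hg hu)]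

lemma rf_fix (U : Submodule F (ι → F)) (x : ι → F) (hx : x ∈ perp hQ U) : U ≤ fixS (rf hQ x) := by
  intro u hu
  rw [mem_fixS]
  exact act_rf_perp hQ x u ((mem_perp hQ U x).1 hx u hu)

lemma sg_fix (U : Submodule F (ι → F)) (e w : ι → F) (he : e ∈ perp hQ U) (hw : w ∈ perp hQ U) :
    U ≤ fixS (sg hQ e w) := by
  intro u hu
  rw [mem_fixS]
  by_cases h : Q e = 0 ∧ pol Q e w = 0
  · rw [act_sg hQ e w h.1 h.2, (mem_perp hQ U e).1 he u hu, (mem_perp hQ U w).1 hw u hu]
    module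
  · rw [sg_of_not hQ e w h, act_one]

/-- an isometry fixing `U` pointwise preserves the perp of `U` -/
lemma act_mem_perp (U : Submodule F (ι → F)) (g : GL ι F) (hg : g ∈ Cfsg.isometryGroup F Q)
    (hU : U ≤ fixS g) (v : ι → F) (hv : v ∈ perp hQ U) : act g v ∈ perp hQ U := by
  rw [mem_perp] at hv ⊢
  intro u hu
  have := pol_act g hg u v
  rw [(mem_fixS g u).1 (hU hu)] at this
  rw [this]
  exact hv u hu

/-- the orthogonal sum of two nondegenerate subspaces is nondegenerate -/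
lemma sup_nondeg (U T : Submodule F (ι → F)) (hU : U ⊓ perp hQ U = ⊥) (hT : T ≤ perp hQ U)
    (hTn : T ⊓ perp hQ T = ⊥) : (U ⊔ T) ⊓ perp hQ (U ⊔ T) = ⊥ := by
  rw [eq_bot_iff]
  intro v hv
  obtain ⟨hv1, hv2⟩ := Submodule.mem_inf.1 hv
  clear hv
  obtain ⟨u, hu, t, ht, rfl⟩ := Submodule.mem_sup.1 hv1
  have ht0 : t = 0 := by
    have : t ∈ T ⊓ perp hQ T := by
      refine Submodule.mem_inf.2 ⟨ht, ?_⟩
      rw [mem_perp]
      intro t' ht'
      have h1 := (mem_perp hQ _ _).1 hv2 t' (Submodule.mem_sup_right ht')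
      rw [pol_add_right hQ, (mem_perp' hQ U t').1 (hT ht') u hu, zero_add] at h1
      exact h1
    rw [hTn, Submodule.mem_bot] at this
    exact this
  subst ht0
  rw [add_zero] at hv2 ⊢
  have : u ∈ U ⊓ perp hQ U := ⟨hu, perp_anti hQ le_sup_left hv2⟩
  rw [hU] at this
  exact this

lemma finrank_perp_sup_lt (U T : Submodule F (ι → F)) (hU : U ⊓ perp hQ U = ⊥)
    (hT : T ≤ perp hQ U) (hT0 : T ≠ ⊥) :
    Module.finrank F (perp hQ (U ⊔ T)) < Module.finrank F (perp hQ U) := by
  have h1 := finrank_add_finrank_perp hQ U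
  have h2 := finrank_add_finrank_perp hQ (U ⊔ T)
  have h3 : U < U ⊔ T := by
    refine lt_of_le_of_ne le_sup_left ?_
    intro h
    apply hT0
    rw [eq_bot_iff]
    intro t ht
    have : t ∈ U ⊓ perp hQ U := ⟨by rw [h]; exact Submodule.mem_sup_right ht, hT ht⟩
    rw [hU] at this
    exact this
  have h4 := Submodule.finrank_lt_finrank_of_lt h3
  omega

/-- a hyperbolic plane is nondegenerate -/
lemma hyp_nondeg (e f : ι → F) (he : Q e = 0) (hf : Q f = 0) (hef : pol Q e f = 1) :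
    Submodule.span F {e, f} ⊓ perp hQ (Submodule.span F {e, f}) = ⊥ := by
  rw [eq_bot_iff]
  intro v hv
  obtain ⟨hv1, hv2⟩ := Submodule.mem_inf.1 hv
  clear hv
  obtain ⟨a, b, rfl⟩ := Submodule.mem_span_pair.1 hv1
  rw [mem_perp_span_pair] at hv2
  obtain ⟨h1, h2⟩ := hv2
  rw [pol_add_right hQ, pol_smul_right hQ, pol_smul_right hQ, pol_self hQ, he, hef] at h1
  rw [pol_add_right hQ, pol_smul_right hQ, pol_smul_right hQ, pol_self hQ, hf, pol_comm f e,
    hef] at h2
  have hb : b = 0 := by linear_combination h1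
  have ha : a = 0 := by linear_combination h2
  rw [ha, hb, zero_smul, zero_smul, add_zero]
  exact Submodule.zero_mem _

/-- moving a singular vector to another one by reflections fixing `U` pointwise -/
lemma move_singular (U : Submodule F (ι → F)) (hU : U ⊓ perp hQ U = ⊥) (e y : ι → F)
    (he : e ∈ perp hQ U) (hy : y ∈ perp hQ U) (he0 : e ≠ 0) (hy0 : y ≠ 0) (hqe : Q e = 0)
    (hqy : Q y = 0) : ∃ h ∈ RR hQ, U ≤ fixS h ∧ act h y = e := by
  -- the basic case
  have basic : ∀ a b : ι → F, a ∈ perp hQ U → b ∈ perp hQ U → Q a = 0 → Q b = 0 →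
      pol Q a b ≠ 0 → ∃ h ∈ RR hQ, U ≤ fixS h ∧ act h b = a := by
    intro a b ha hb hqa hqb hab
    have h1 : Q (a - b) ≠ 0 := by
      rw [Q_sub hQ, hqa, hqb]
      intro h
      apply hab
      linear_combination -h
    exact ⟨rf hQ (a - b), rf_mem_RR hQ _, rf_fix hQ U _ (Submodule.sub_mem _ ha hb),
      act_rf_sub' hQ a b (by rw [hqa, hqb]) h1⟩
  by_cases hey : pol Q e y ≠ 0
  · exact basic e y he hy hqe hqy hey
  push Not at hey
  have heU : e ∉ U := by
    intro h
    have : e ∈ U ⊓ perp hQ U := ⟨h, he⟩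
    rw [hU] at this
    exact he0 this
  obtain ⟨f, hf, hef, hfU⟩ := exists_partner hQ U e hqe he heU
  -- find a singular `z` with `B(e,z) ≠ 0 ≠ B(y,z)`
  have hz : ∃ z ∈ perp hQ U, Q z = 0 ∧ pol Q e z ≠ 0 ∧ pol Q z y ≠ 0 := by
    by_cases hyf : pol Q f y ≠ 0
    · exact ⟨f, hfU, hf, by rw [hef]; exact one_ne_zero, hyf⟩
    push Not at hyf
    set U' := U ⊔ Submodule.span F {e, f} with hU'
    have hsp : Submodule.span F {e, f} ≤ perp hQ U := by
      rw [Submodule.span_le]
      rintro v (rfl | rfl)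
      · exact he
      · exact hfU
    have hU'n : U' ⊓ perp hQ U' = ⊥ :=
      sup_nondeg hQ U _ hU hsp (hyp_nondeg hQ e f hqe hf hef)
    have hyU' : y ∈ perp hQ U' := by
      rw [mem_perp]
      intro v hv
      obtain ⟨u, hu, t, ht, rfl⟩ := Submodule.mem_sup.1 hv
      obtain ⟨a, b, rfl⟩ := Submodule.mem_span_pair.1 ht
      rw [pol_add_left hQ, pol_add_left hQ, pol_smul_left hQ, pol_smul_left hQ, hey, hyf,
        (mem_perp hQ U y).1 hy u hu]
      ring
    have hyU'' : y ∉ U' := by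
      intro h
      have : y ∈ U' ⊓ perp hQ U' := ⟨h, hyU'⟩
      rw [hU'n] at this
      exact hy0 this
    obtain ⟨f2, hf2, hyf2, hf2U⟩ := exists_partner hQ U' y hqy hyU' hyU''
    have hf2U0 : f2 ∈ perp hQ U := perp_anti hQ le_sup_left hf2U
    have hf2e : pol Q e f2 = 0 :=
      (mem_perp hQ U' f2).1 hf2U e (Submodule.mem_sup_right (Submodule.subset_span (by simp)))
    have hf2f : pol Q f f2 = 0 :=
      (mem_perp hQ U' f2).1 hf2U f (Submodule.mem_sup_right (Submodule.subset_span (by simp)))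
    refine ⟨f + f2, Submodule.add_mem _ hfU hf2U0, ?_, ?_, ?_⟩
    · rw [Q_add Q, hf, hf2, hf2f]; ring
    · rw [pol_add_right hQ, hef, hf2e, add_zero]; exact one_ne_zero
    · rw [pol_add_left hQ, hyf, pol_comm f2 y, hyf2, zero_add]; exact one_ne_zero
  obtain ⟨z, hzU, hqz, hez, hzy⟩ := hz
  obtain ⟨h1, hh1, hh1U, hh1y⟩ := basic z y hzU hy hqz hqy hzy
  obtain ⟨h2, hh2, hh2U, hh2z⟩ := basic e z he hzU hqe hqz hez
  exact ⟨h2 * h1, (RR hQ).mul_mem hh2 hh1, fixS_mul h2 h1 U hh2U hh1U,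
    by rw [act_mul, hh1y, hh2z]⟩

end Refl

end Cfsg.Agent.H9.Orth
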