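import Mathlib
import Cfsg.Agent.H9.OrthF

set_option autoImplicit false
set_option linter.unusedSectionVars false
set_option linter.style.haveILetI false
open Cfsg

/-!
The isometry group is generated by reflections and Siegel transformations (any characteristic),
and `Ω = ⟨long root elements⟩`.
-/

namespace Cfsg.Agent.H9.Orth

open Matrix
open scoped commutatorElement

section GroupLemma

/-- commutators of elements of `I` lie in the normal subgroup `N` as soon as this holds for a
generating set -/
lemma comm_mem_of_gens {G : Type*} [Group G] (N I : Subgroup G)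
    (hnorm : ∀ g ∈ I, ∀ n ∈ N, g * n * g⁻¹ ∈ N) (S : Set G) (hS : S ⊆ I)
    (hgen : I ≤ Subgroup.closure S) (hcomm : ∀ s ∈ S, ∀ t ∈ S, ⁅s, t⁆ ∈ N) :
    ∀ a ∈ I, ∀ b ∈ I, ⁅a, b⁆ ∈ N := by
  have hcl : Subgroup.closure S ≤ I := (Subgroup.closure_le I).2 hS
  have hA : ∀ s ∈ S, ∀ b ∈ Subgroup.closure S, ⁅s, b⁆ ∈ N := by
    intro s hs b hb
    induction hb using Subgroup.closure_induction with
    | mem t ht => exact hcomm s hs t ht
    | one => rw [commutatorElement_one_right]; exact N.one_mem
    | mul b1 b2 hb1 hb2 h1 h2 =>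
      have : ⁅s, b1 * b2⁆ = ⁅s, b1⁆ * (b1 * ⁅s, b2⁆ * b1⁻¹) := by
        simp only [commutatorElement_def]; group
      rw [this]
      exact N.mul_mem h1 (hnorm b1 (hcl hb1) _ h2)
    | inv b hb h =>
      have : ⁅s, b⁻¹⁆ = b⁻¹ * ⁅s, b⁆⁻¹ * b⁻¹⁻¹ := by
        simp only [commutatorElement_def]; group
      rw [this]
      exact hnorm b⁻¹ (I.inv_mem (hcl hb)) _ (N.inv_mem h)
  intro a ha b hb
  have ha' := hgen ha
  have hb' := hgen hb
  induction ha' using Subgroup.closure_induction with
  | mem s hs => exact hA s hs b hb'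
  | one => rw [commutatorElement_one_left]; exact N.one_mem
  | mul a1 a2 ha1 ha2 h1 h2 =>
    have : ⁅a1 * a2, b⁆ = a1 * ⁅a2, b⁆ * a1⁻¹ * ⁅a1, b⁆ := by
      simp only [commutatorElement_def]; group
    rw [this]
    exact N.mul_mem (hnorm a1 (hcl ha1) _ (h2 (hcl ha2))) (h1 (hcl ha1))
  | inv a ha1 h =>
    have : ⁅a⁻¹, b⁆ = a⁻¹ * ⁅a, b⁆⁻¹ * a⁻¹⁻¹ := by
      simp only [commutatorElement_def]; group
    rw [this]
    exact hnorm a⁻¹ (I.inv_mem (hcl ha1)) _ (N.inv_mem (h (hcl ha1)))

end GroupLemma

section Gen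

variable {ι : Type} [Fintype ι] [DecidableEq ι] {F : Type*} [Field F] {Q : (ι → F) → F}
variable (hQ : Cfsg.Geo.IsNondegenerateQuadraticForm Q)

include hQ

/-- a plane spanned by a symplectic pair is nondegenerate -/
lemma pair_nondeg (e f : ι → F) (he : pol Q e e = 0) (hf : pol Q f f = 0) (hef : pol Q e f = 1) :
    Submodule.span F {e, f} ⊓ perp hQ (Submodule.span F {e, f}) = ⊥ := by
  rw [eq_bot_iff]
  intro v hv
  obtain ⟨hv1, hv2⟩ := Submodule.mem_inf.1 hv
  clear hv
  obtain ⟨a, b, rfl⟩ := Submodule.mem_span_pair.1 hv1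
  rw [mem_perp_span_pair] at hv2
  obtain ⟨h1, h2⟩ := hv2
  rw [pol_add_right hQ, pol_smul_right hQ, pol_smul_right hQ, he, hef] at h1
  rw [pol_add_right hQ, pol_smul_right hQ, pol_smul_right hQ, hf, pol_comm f e, hef] at h2
  have hb : b = 0 := by linear_combination h1
  have ha : a = 0 := by linear_combination h2
  rw [ha, hb, zero_smul, zero_smul, add_zero]
  exact Submodule.zero_mem _

/-- a nonsingular line is nondegenerate in odd characteristic -/
lemma line_nondeg (x : ι → F) (hx : Q x ≠ 0) (h2 : (2 : F) ≠ 0) :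
    Submodule.span F {x} ⊓ perp hQ (Submodule.span F {x}) = ⊥ := by
  rw [eq_bot_iff]
  intro v hv
  obtain ⟨hv1, hv2⟩ := Submodule.mem_inf.1 hv
  clear hv
  obtain ⟨a, rfl⟩ := Submodule.mem_span_singleton.1 hv1
  rw [mem_perp_span_singleton, pol_smul_right hQ, pol_self hQ] at hv2
  have ha : a = 0 := by
    rcases mul_eq_zero.1 hv2 with h | h
    · exact h
    · exact absurd h (mul_ne_zero h2 hx)
  rw [ha, zero_smul]
  exact Submodule.zero_mem _

variable [Fintype F]

/-- an isometry fixing pointwise a nondegenerate subspace is a product of reflections and Siegel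
transformations -/
theorem mem_GG_of_fix (hn : 5 ≤ Fintype.card ι) :
    ∀ k : ℕ, ∀ U : Submodule F (ι → F), U ⊓ perp hQ U = ⊥ →
      Module.finrank F (perp hQ U) = k → ∀ g ∈ Cfsg.isometryGroup F Q, U ≤ fixS g →
        g ∈ GG hQ := by
  intro k
  induction k using Nat.strong_induction_on with
  | _ k ih =>
  intro U hU hk g hg hfix
  have hNG : NN hQ ≤ GG hQ := le_sup_left
  have hRG : RR hQ ≤ GG hQ := le_sup_right
  by_cases hs : ∃ e ∈ perp hQ U, e ≠ 0 ∧ Q e = 0
  · obtain ⟨e, he, he0, hqe⟩ := hs
    have hy : act g e ∈ perp hQ U := act_mem_perp hQ U g hg hfix e he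
    have hy0 : act g e ≠ 0 := fun h => he0 ((act_eq_zero_iff g e).1 h)
    have hqy : Q (act g e) = 0 := by rw [Q_act g hg, hqe]
    obtain ⟨h1, hh1, hh1U, hh1y⟩ := move_singular hQ U hU e (act g e) he hy he0 hy0 hqe hqy
    have hg1 : h1 * g ∈ Cfsg.isometryGroup F Q := mul_mem (RR_le_iso hQ hh1) hg
    have hg1U : U ≤ fixS (h1 * g) := fixS_mul h1 g U hh1U hfix
    have hg1e : act (h1 * g) e = e := by rw [act_mul, hh1y]
    have heU : e ∉ U := by
      intro h
      have : e ∈ U ⊓ perp hQ U := ⟨h, he⟩
      rw [hU] at this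
      exact he0 this
    obtain ⟨f, hf, hef, hfU⟩ := exists_partner hQ U e hqe he heU
    have hf'U : act (h1 * g) f ∈ perp hQ U := act_mem_perp hQ U _ hg1 hg1U f hfU
    have hqf' : Q (act (h1 * g) f) = 0 := by rw [Q_act _ hg1, hf]
    have hef' : pol Q e (act (h1 * g) f) = 1 := by
      have := pol_act (h1 * g) hg1 e f
      rw [hg1e] at this
      rw [this, hef]
    obtain ⟨h3, h4⟩ := act_sg_partner hQ e (act (h1 * g) f) f hqe hqf' hf hef' hef
    have hh2 : sg hQ e (act (h1 * g) f - f) ∈ NN hQ := sg_mem_NN' hQ hn e _ h3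
    have hh2U : U ≤ fixS (sg hQ e (act (h1 * g) f - f)) :=
      sg_fix hQ U e _ he (Submodule.sub_mem _ hf'U hfU)
    have hh2e : act (sg hQ e (act (h1 * g) f - f)) e = e := by
      rw [act_sg hQ e _ hqe h3, h3, pol_self hQ, hqe]
      module
    set h2 := sg hQ e (act (h1 * g) f - f) with hh2def
    have hsp : Submodule.span F {e, f} ≤ perp hQ U := by
      rw [Submodule.span_le]
      rintro v (rfl | rfl)
      · exact he
      · exact hfU
    have hg2 : U ⊔ Submodule.span F {e, f} ≤ fixS (h2 * (h1 * g)) := by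
      apply sup_le (fixS_mul h2 _ U hh2U hg1U)
      rw [Submodule.span_le]
      rintro v (rfl | rfl)
      · show act (h2 * (h1 * g)) v = v
        rw [act_mul, hg1e, hh2e]
      · show act (h2 * (h1 * g)) v = v
        rw [act_mul, h4]
    have hsp0 : Submodule.span F {e, f} ≠ ⊥ := by
      intro h
      apply he0
      have : e ∈ Submodule.span F {e, f} := Submodule.subset_span (by simp)
      rw [h] at this
      exact this
    have hlt := finrank_perp_sup_lt hQ U _ hU hsp hsp0
    have hmem := ih _ (by rw [← hk]; exact hlt) (U ⊔ Submodule.span F {e, f})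
      (sup_nondeg hQ U _ hU hsp (pair_nondeg hQ e f (by rw [pol_self hQ, hqe, mul_zero])
        (by rw [pol_self hQ, hf, mul_zero]) hef)) rfl (h2 * (h1 * g))
      (mul_mem (NN_le_iso hQ hh2) hg1) hg2
    have : g = h1⁻¹ * (h2⁻¹ * (h2 * (h1 * g))) := by group
    rw [this]
    exact mul_mem (inv_mem (hRG hh1)) (mul_mem (inv_mem (hNG hh2)) hmem)
  · push Not at hs
    by_cases hbot : perp hQ U = ⊥
    · have hU' : U = ⊤ := by
        rw [← perp_perp hQ U, hbot, perp, LinearMap.BilinForm.orthogonal_bot]
      have : g = 1 := by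
        apply gl_ext
        intro x
        rw [act_one]
        exact hfix (by rw [hU']; trivial)
      rw [this]
      exact one_mem _
    · obtain ⟨x, hx, hx0⟩ := Submodule.exists_mem_ne_zero_of_ne_bot hbot
      have hqx : Q x ≠ 0 := hs x hx hx0
      have hxU : x ∉ U := by
        intro h
        have : x ∈ U ⊓ perp hQ U := ⟨h, hx⟩
        rw [hU] at this
        exact hx0 this
      -- first make `g` fix `x`
      have step1 : ∃ h ∈ RR hQ, U ≤ fixS h ∧ act (h * g) x = x := by
        by_cases hgx : act g x = x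
        · refine ⟨1, one_mem _, ?_, by rw [one_mul]; exact hgx⟩
          intro u _
          exact act_one u
        · have h1 : act g x - x ∈ perp hQ U :=
            Submodule.sub_mem _ (act_mem_perp hQ U g hg hfix x hx) hx
          have h2 : Q (act g x - x) ≠ 0 := hs _ h1 (sub_ne_zero.2 hgx)
          refine ⟨rf hQ (act g x - x), rf_mem_RR hQ _, rf_fix hQ U _ h1, ?_⟩
          rw [act_mul]
          exact act_rf_sub hQ (act g x) x (Q_act g hg x) h2
      obtain ⟨h1, hh1, hh1U, hh1x⟩ := step1
      have hg1 : h1 * g ∈ Cfsg.isometryGroup F Q := mul_mem (RR_le_iso hQ hh1) hg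
      have hg1U : U ≤ fixS (h1 * g) := fixS_mul h1 g U hh1U hfix
      by_cases h2 : (2 : F) = 0
      · -- characteristic two
        obtain ⟨x', hx'1, hx'U⟩ := exists_pol_eq_one hQ U x hxU
        have hx'U' : x' ∈ perp hQ U := by
          rw [mem_perp']; exact hx'U
        have hgx' : act (h1 * g) x' ∈ perp hQ U := act_mem_perp hQ U _ hg1 hg1U x' hx'U'
        have hv : act (h1 * g) x' - x' ∈ perp hQ U := Submodule.sub_mem _ hgx' hx'U'
        have hxv : pol Q (act (h1 * g) x' - x') x = 0 := by
          have := pol_act (h1 * g) hg1 x' x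
          rw [hh1x] at this
          rw [pol_sub_left hQ, this, sub_self]
        have step2 : ∃ h ∈ RR hQ, U ≤ fixS h ∧ act h x = x ∧ act (h * (h1 * g)) x' = x' := by
          by_cases hv0 : act (h1 * g) x' - x' = 0
          · refine ⟨1, one_mem _, ?_, act_one x, ?_⟩
            · intro u _
              exact act_one u
            · rw [one_mul]; exact sub_eq_zero.1 hv0
          · have hqv : Q (act (h1 * g) x' - x') ≠ 0 := hs _ hv hv0
            refine ⟨rf hQ (act (h1 * g) x' - x'), rf_mem_RR hQ _, rf_fix hQ U _ hv,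
              act_rf_perp hQ _ x (by rw [pol_comm]; exact hxv), ?_⟩
            rw [act_mul]
            exact act_rf_sub hQ _ x' (Q_act _ hg1 x') hqv
        obtain ⟨h3, hh3, hh3U, hh3x, hh3x'⟩ := step2
        have hsp : Submodule.span F {x, x'} ≤ perp hQ U := by
          rw [Submodule.span_le]
          rintro v (rfl | rfl)
          · exact hx
          · exact hx'U'
        have hg2 : U ⊔ Submodule.span F {x, x'} ≤ fixS (h3 * (h1 * g)) := by
          apply sup_le (fixS_mul h3 _ U hh3U hg1U)
          rw [Submodule.span_le]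
          rintro v (rfl | rfl)
          · show act (h3 * (h1 * g)) v = v
            rw [act_mul, hh1x, hh3x]
          · exact hh3x'
        have hsp0 : Submodule.span F {x, x'} ≠ ⊥ := by
          intro h
          apply hx0
          have : x ∈ Submodule.span F {x, x'} := Submodule.subset_span (by simp)
          rw [h] at this
          exact this
        have hlt := finrank_perp_sup_lt hQ U _ hU hsp hsp0
        have hmem := ih _ (by rw [← hk]; exact hlt) (U ⊔ Submodule.span F {x, x'})
          (sup_nondeg hQ U _ hU hsp (pair_nondeg hQ x x' (by rw [pol_self hQ, h2, zero_mul])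
            (by rw [pol_self hQ, h2, zero_mul]) (by rw [pol_comm]; exact hx'1))) rfl
          (h3 * (h1 * g)) (mul_mem (RR_le_iso hQ hh3) hg1) hg2
        have : g = h1⁻¹ * (h3⁻¹ * (h3 * (h1 * g))) := by group
        rw [this]
        exact mul_mem (inv_mem (hRG hh1)) (mul_mem (inv_mem (hRG hh3)) hmem)
      · -- odd characteristic
        have hsp : Submodule.span F {x} ≤ perp hQ U := by
          rw [Submodule.span_le]
          rintro v rfl
          exact hx
        have hg2 : U ⊔ Submodule.span F {x} ≤ fixS (h1 * g) := by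
          apply sup_le hg1U
          rw [Submodule.span_le]
          rintro v rfl
          exact hh1x
        have hsp0 : Submodule.span F {x} ≠ ⊥ := by
          intro h
          apply hx0
          have : x ∈ Submodule.span F {x} := Submodule.mem_span_singleton_self x
          rw [h] at this
          exact this
        have hlt := finrank_perp_sup_lt hQ U _ hU hsp hsp0
        have hmem := ih _ (by rw [← hk]; exact hlt) (U ⊔ Submodule.span F {x})
          (sup_nondeg hQ U _ hU hsp (line_nondeg hQ x hqx h2)) rfl (h1 * g) hg1 hg2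
        have : g = h1⁻¹ * (h1 * g) := by group
        rw [this]
        exact mul_mem (inv_mem (hRG hh1)) hmem

/-- the isometry group is generated by reflections and long root elements -/
theorem iso_le_GG (hn : 5 ≤ Fintype.card ι) : Cfsg.isometryGroup F Q ≤ GG hQ := by
  intro g hg
  refine mem_GG_of_fix hQ hn _ ⊥ (by rw [bot_inf_eq]) rfl g hg ?_
  intro u hu
  rw [Submodule.mem_bot] at hu
  rw [hu]
  exact act_zero g

/-- the commutator of two reflections lies in `NN` -/
lemma comm_rf_mem_NN (hn : 5 ≤ Fintype.card ι) (x y : ι → F) : ⁅rf hQ x, rf hQ y⁆ ∈ NN hQ := by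
  by_cases hy : Q y ≠ 0
  · obtain ⟨y', hxy', hqy'⟩ := exists_perp_norm hQ hn x (Q y)
    obtain ⟨g, hg, hgy⟩ := NN_trans_norm hQ hn y' y (by rw [hqy']; exact hy) hqy'.symm
    have hgi := NN_le_iso hQ hg
    have h1 := conj_rf hQ g hgi y'
    rw [hgy] at h1
    have hc := rf_comm hQ x y' hxy'
    have hx := rf_mem hQ x
    have hy'i := rf_mem hQ y'
    rw [← h1]
    have e : ⁅rf hQ x, g * rf hQ y' * g⁻¹⁆ =
        (rf hQ x * g * (rf hQ x)⁻¹) *
          ((rf hQ x * rf hQ y') * g⁻¹ * (rf hQ x * rf hQ y')⁻¹) *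
            ((rf hQ x * rf hQ y') * (rf hQ y' * rf hQ x)⁻¹) *
              (rf hQ y' * g * (rf hQ y')⁻¹) * g⁻¹ := by
      simp only [commutatorElement_def]; group
    rw [e, hc, mul_inv_cancel, mul_one]
    exact mul_mem (mul_mem (mul_mem (conj_mem_NN hQ _ hx g hg)
      (conj_mem_NN hQ _ (mul_mem hy'i hx) _ (inv_mem hg))) (conj_mem_NN hQ _ hy'i g hg))
      (inv_mem hg)
  · rw [rf_of_not hQ y hy, commutatorElement_one_right]
    exact one_mem _

/-- the commutator subgroup of the isometry group lies in `NN` -/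
theorem commutator_le_NN (hn : 5 ≤ Fintype.card ι) :
    ⁅Cfsg.isometryGroup F Q, Cfsg.isometryGroup F Q⁆ ≤ NN hQ := by
  rw [Subgroup.commutator_le]
  apply comm_mem_of_gens (NN hQ) (Cfsg.isometryGroup F Q) (fun g hg n hn' => conj_mem_NN hQ g hg n hn')
    ((NN hQ : Set (GL ι F)) ∪ {g | ∃ x, g = rf hQ x})
  · rintro g (hg | ⟨x, rfl⟩)
    · exact NN_le_iso hQ hg
    · exact rf_mem hQ x
  · refine (iso_le_GG hQ hn).trans ?_
    rw [GG, sup_le_iff]
    constructor
    · intro g hg
      exact Subgroup.subset_closure (Or.inl hg)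
    · rw [RR]
      apply Subgroup.closure_mono
      intro g hg
      exact Or.inr hg
  · rintro s hs t ht
    have hsi : s ∈ Cfsg.isometryGroup F Q := by
      rcases hs with hs | ⟨x, rfl⟩
      · exact NN_le_iso hQ hs
      · exact rf_mem hQ x
    have hti : t ∈ Cfsg.isometryGroup F Q := by
      rcases ht with ht | ⟨x, rfl⟩
      · exact NN_le_iso hQ ht
      · exact rf_mem hQ x
    rcases hs with hs | ⟨x, rfl⟩
    · have : ⁅s, t⁆ = s * (t * s⁻¹ * t⁻¹) := by simp only [commutatorElement_def]; group
      rw [this]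
      exact mul_mem hs (conj_mem_NN hQ t hti _ (inv_mem hs))
    · rcases ht with ht | ⟨y, rfl⟩
      · have : ⁅rf hQ x, t⁆ = (rf hQ x * t * (rf hQ x)⁻¹) * t⁻¹ := by
          simp only [commutatorElement_def]
        rw [this]
        exact mul_mem (conj_mem_NN hQ _ hsi t ht) (inv_mem ht)
      · exact comm_rf_mem_NN hQ hn x y

/-- `Ω` is the group generated by the long root elements -/
theorem omegaGL_eq_NN (hn : 7 ≤ Fintype.card ι) : Cfsg.Geo.omegaGL Q = NN hQ := by
  have h1 : Cfsg.Geo.omegaGL Q = ⁅Cfsg.isometryGroup F Q, Cfsg.isometryGroup F Q⁆ := by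
    rw [Cfsg.Geo.omegaGL, Cfsg.Omega]
    exact Subgroup.map_subtype_commutator _
  rw [h1]
  apply le_antisymm (commutator_le_NN hQ (by omega))
  exact (NN_le_commutator hQ hn).trans
    (Subgroup.commutator_mono (NN_le_iso hQ) (NN_le_iso hQ))

end Gen

end Cfsg.Agent.H9.Orth
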