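import Mathlib
import Cfsg.Agent.H9.OrthG

set_option autoImplicit false
set_option linter.unusedSectionVars false
set_option linter.style.haveILetI false
open Cfsg

/-!
Bridges: Mathlib's bundled quadratic forms, the frozen Siegel and reflection matrices.
-/

namespace Cfsg.Agent.H9.Orth

open Matrix
open scoped commutatorElement

section Bridge

variable {ι : Type} [Fintype ι] [DecidableEq ι] {F : Type*} [Field F]

lemma isNondeg_of_quadraticForm (Q : QuadraticForm F (ι → F))
    (hQ : (QuadraticMap.polarBilin Q).Nondegenerate) :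
    Cfsg.Geo.IsNondegenerateQuadraticForm (⇑Q) := by
  refine ⟨fun c v => ?_, ⟨?_, ?_, ?_, ?_⟩, fun v hv => ⟨?_, ?_⟩⟩
  · rw [QuadraticMap.map_smul, smul_eq_mul]; ring
  · intro x y v; exact QuadraticMap.polar_add_left Q x y v
  · intro c x v; rw [QuadraticMap.polar_smul_left, smul_eq_mul]
  · intro v x y; exact QuadraticMap.polar_add_right Q v x y
  · intro c v x; rw [QuadraticMap.polar_smul_right, smul_eq_mul]
  · by_contra hcon
    push Not at hcon
    exact hv (hQ.2 v hcon)
  · by_contra hcon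
    push Not at hcon
    exact hv (hQ.1 v hcon)

variable {Q : (ι → F) → F} (hQ : Cfsg.Geo.IsNondegenerateQuadraticForm Q)

include hQ

lemma polarVec_dot (v x : ι → F) : Cfsg.polarVec Q v ⬝ᵥ x = pol Q v x := by
  have h := LinearMap.pi_apply_eq_sum_univ (BF hQ v) x
  simp only [BF_apply, smul_eq_mul] at h
  rw [h]
  unfold Cfsg.polarVec dotProduct
  apply Finset.sum_congr rfl
  intro i _
  rw [mul_comm]
  have he : (Pi.single i (1 : F) : ι → F) = fun j => if i = j then 1 else 0 := by
    ext j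
    simp [Pi.single_apply, eq_comm]
  simp only [he]

lemma vecMulVec_polarVec_mulVec (w v x : ι → F) :
    (vecMulVec w (Cfsg.polarVec Q v)) *ᵥ x = pol Q v x • w := by
  rw [Matrix.vecMulVec_mulVec, op_smul_eq_smul, polarVec_dot hQ]

lemma reflectionMatrix_mulVec (v x : ι → F) :
    Cfsg.reflectionMatrix Q v *ᵥ x = x - ((Q v)⁻¹ * pol Q v x) • v := by
  unfold Cfsg.reflectionMatrix
  rw [Matrix.sub_mulVec, Matrix.one_mulVec, Matrix.smul_mulVec, vecMulVec_polarVec_mulVec hQ,
    smul_smul]

lemma siegelMatrix_mulVec (u v : ι → F) (c : F) (x : ι → F) :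
    Cfsg.siegelMatrix Q u v c *ᵥ x = x + c • (pol Q u x • v - pol Q v x • u) := by
  unfold Cfsg.siegelMatrix
  rw [Matrix.add_mulVec, Matrix.one_mulVec, Matrix.smul_mulVec, Matrix.sub_mulVec,
    vecMulVec_polarVec_mulVec hQ, vecMulVec_polarVec_mulVec hQ]

omit hQ in
lemma mat_ext (A B : Matrix ι ι F) (h : ∀ x, A *ᵥ x = B *ᵥ x) : A = B := by
  apply Matrix.toLin'.injective
  apply LinearMap.ext
  intro x
  rw [Matrix.toLin'_apply, Matrix.toLin'_apply]
  exact h x

/-- the frozen Siegel matrix is a long root element -/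
lemma siegelMatrix_eq_sg (u v : ι → F) (c : F) (hu : Q u = 0) (hv : Q v = 0)
    (huv : pol Q u v = 0) :
    Cfsg.siegelMatrix Q u v c = ((sg hQ u (-(c • v)) : GL ι F) : Matrix ι ι F) := by
  apply mat_ext
  intro x
  have h1 : pol Q u (-(c • v)) = 0 := by
    rw [pol_neg_right hQ, pol_smul_right hQ, huv]; ring
  have h2 := act_sg hQ u (-(c • v)) hu h1 x
  rw [act] at h2
  rw [siegelMatrix_mulVec hQ, h2, Q_neg hQ, hQ.smul, hv, pol_neg_right hQ, pol_smul_right hQ,
    pol_comm u x, pol_comm v x]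
  module

/-- the frozen reflection matrix is the reflection `rf` -/
lemma reflectionMatrix_eq_rf (v : ι → F) (hv : Q v ≠ 0) :
    Cfsg.reflectionMatrix Q v = ((rf hQ v : GL ι F) : Matrix ι ι F) := by
  apply mat_ext
  intro x
  have h2 := act_rf hQ v hv x
  rw [act] at h2
  rw [reflectionMatrix_mulVec hQ, h2, pol_comm]

/-- a long root element is a frozen Siegel matrix -/
lemma sg_eq_siegelMatrix (u w : ι → F) (hu : Q u = 0) (hw : Q w = 0) (huw : pol Q u w = 0) :
    ((sg hQ u w : GL ι F) : Matrix ι ι F) = Cfsg.siegelMatrix Q u w (-1) := by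
  rw [siegelMatrix_eq_sg hQ u w (-1) hu hw huw, neg_smul, one_smul, neg_neg]

end Bridge

end Cfsg.Agent.H9.Orth
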