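import Mathlib
import Cfsg.Agent.H9.OrthH

set_option autoImplicit false
set_option linter.unusedSectionVars false
set_option linter.style.haveILetI false
open Cfsg

/-!
Maximality in `Ω` of the stabilizer of a totally singular subspace (any characteristic).
-/

namespace Cfsg.Agent.H9.Orth

open Matrix
open scoped commutatorElement

section SSdef

variable {ι : Type} [Fintype ι] [DecidableEq ι] {F : Type*} [Field F] {Q : (ι → F) → F}
variable (hQ : Cfsg.Geo.IsNondegenerateQuadraticForm Q)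

include hQ

/-- the singular vectors whose full root group lies in `M` -/
def SS (M : Subgroup (GL ι F)) : Set (ι → F) :=
  {u | Q u = 0 ∧ ∀ w, pol Q u w = 0 → sg hQ u w ∈ M}

lemma SS_smul (M : Subgroup (GL ι F)) (c : F) (u : ι → F) (hu : u ∈ SS hQ M) :
    c • u ∈ SS hQ M := by
  refine ⟨by rw [hQ.smul, hu.1, mul_zero], fun w hw => ?_⟩
  rw [sg_smul_left]
  apply hu.2
  rw [pol_smul_right hQ, ← pol_smul_left hQ]
  exact hw

lemma SS_act (M : Subgroup (GL ι F)) (hM : M ≤ Cfsg.isometryGroup F Q) (g : GL ι F) (hg : g ∈ M)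
    (u : ι → F) (hu : u ∈ SS hQ M) : act g u ∈ SS hQ M := by
  have hgi := hM hg
  refine ⟨by rw [Q_act g hgi, hu.1], fun w hw => ?_⟩
  have h1 := conj_sg hQ g hgi u (act g⁻¹ w)
  rw [act_act_inv] at h1
  rw [← h1]
  refine mul_mem (mul_mem hg (hu.2 _ ?_)) (inv_mem hg)
  rw [← pol_act g hgi, act_act_inv]
  exact hw

/-- if `a, b ∈ SS` are not orthogonal then every singular vector not orthogonal to `a` is in `SS` -/
lemma SS_of_pol_ne (M : Subgroup (GL ι F)) (hM : M ≤ Cfsg.isometryGroup F Q) (a b t : ι → F)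
    (ha : a ∈ SS hQ M) (hb : b ∈ SS hQ M) (hab : pol Q a b ≠ 0) (ht : Q t = 0)
    (hta : pol Q a t ≠ 0) : t ∈ SS hQ M := by
  set a' := (pol Q a b)⁻¹ • a with ha'
  set t' := (pol Q a b * (pol Q a t)⁻¹) • t with ht'
  have h1 : pol Q a' b = 1 := by rw [ha', pol_smul_left hQ, inv_mul_cancel₀ hab]
  have h2 : pol Q a' t' = 1 := by
    rw [ha', ht', pol_smul_left hQ, pol_smul_right hQ]
    field_simp
  have hqa' : Q a' = 0 := by rw [ha', hQ.smul, ha.1, mul_zero]
  have hqt' : Q t' = 0 := by rw [ht', hQ.smul, ht, mul_zero]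
  obtain ⟨h3, h4⟩ := act_sg_partner hQ a' b t' hqa' hb.1 hqt' h1 h2
  have h5 : sg hQ a' (b - t') ∈ M := (SS_smul hQ M _ a ha).2 _ h3
  have h6 : t' ∈ SS hQ M := by
    rw [← h4]
    exact SS_act hQ M hM _ h5 b hb
  have h7 : t = (pol Q a b * (pol Q a t)⁻¹)⁻¹ • t' := by
    rw [ht', smul_smul, inv_mul_cancel₀ (mul_ne_zero hab (inv_ne_zero hta)), one_smul]
  rw [h7]
  exact SS_smul hQ M _ t' h6

lemma NN_le_of_SS (M : Subgroup (GL ι F)) (h : ∀ u, Q u = 0 → u ∈ SS hQ M) : NN hQ ≤ M := by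
  rw [NN, Subgroup.closure_le]
  rintro g ⟨u, w, hu, -, huw, rfl⟩
  exact (h u hu).2 w huw

omit hQ in
lemma mem_stab_iff (W : Submodule F (ι → F)) (g : GL ι F) :
    g ∈ Cfsg.Geo.subspaceStabilizer W ↔ ∀ v, v ∈ W ↔ act g v ∈ W := Iff.rfl

omit hQ in
lemma mem_stab_of (W : Submodule F (ι → F)) (g : GL ι F) (h1 : ∀ v ∈ W, act g v ∈ W)
    (h2 : ∀ v ∈ W, act g⁻¹ v ∈ W) : g ∈ Cfsg.Geo.subspaceStabilizer W := by
  rw [mem_stab_iff]
  intro v
  constructor
  · exact h1 v
  · intro hv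
    have := h2 _ hv
    rwa [act_inv_act] at this

omit hQ in
lemma polar_eq_zero_of_ts (W : Submodule F (ι → F)) (hW : Cfsg.Geo.IsTotallySingularQuad Q W)
    (x y : ι → F) (hx : x ∈ W) (hy : y ∈ W) : pol Q x y = 0 := by
  rw [pol, QuadraticMap.polar, hW _ (W.add_mem hx hy), hW x hx, hW y hy]; ring

/-- a root element centred in `W` stabilizes the totally singular subspace `W` -/
lemma sg_mem_stab (W : Submodule F (ι → F)) (hW : Cfsg.Geo.IsTotallySingularQuad Q W)
    (u w : ι → F) (hu : u ∈ W) (huw : pol Q u w = 0) :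
    sg hQ u w ∈ Cfsg.Geo.subspaceStabilizer W := by
  have key : ∀ w', pol Q u w' = 0 → ∀ v ∈ W, act (sg hQ u w') v ∈ W := by
    intro w' hw' v hv
    rw [act_sg hQ u w' (hW u hu) hw', polar_eq_zero_of_ts W hW v u hv hu, mul_zero, sub_zero,
      zero_smul, sub_zero]
    exact W.add_mem hv (W.smul_mem _ hu)
  apply mem_stab_of W _ (key w huw)
  rw [sg_inv hQ u w huw]
  exact key (-w) (by rw [pol_neg_right hQ, huw, neg_zero])

/-- a Siegel element with both vectors in the perp of `W` fixes `W` pointwise -/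
lemma sg_mem_stab' (W : Submodule F (ι → F)) (a b : ι → F) (ha : a ∈ perp hQ W)
    (hb : b ∈ perp hQ W) : sg hQ a b ∈ Cfsg.Geo.subspaceStabilizer W := by
  by_cases h : Q a = 0 ∧ pol Q a b = 0
  · have key : ∀ b', b' ∈ perp hQ W → ∀ v ∈ W, act (sg hQ a b') v ∈ W := by
      intro b' hb' v hv
      have := sg_fix hQ W a b' ha hb' hv
      rw [mem_fixS] at this
      rw [this]; exact hv
    apply mem_stab_of W _ (key b hb)
    rw [sg_inv hQ a b h.2]
    exact key (-b) (Submodule.neg_mem _ hb)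
  · rw [sg_of_not hQ a b h]
    exact one_mem _

variable [Fintype F]

/-- for two orthogonal nonzero singular vectors there is a singular vector orthogonal to
neither -/
lemma exists_singular_two (e y : ι → F) (he0 : e ≠ 0) (hy0 : y ≠ 0) (hqe : Q e = 0)
    (hqy : Q y = 0) (hey : pol Q e y = 0) :
    ∃ z, Q z = 0 ∧ pol Q e z ≠ 0 ∧ pol Q z y ≠ 0 := by
  have hbot : (⊥ : Submodule F (ι → F)) ⊓ perp hQ ⊥ = ⊥ := bot_inf_eq _
  have he : e ∈ perp hQ (⊥ : Submodule F (ι → F)) := by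
    rw [perp, LinearMap.BilinForm.orthogonal_bot]; trivial
  obtain ⟨f, hf, hef, -⟩ := exists_partner hQ ⊥ e hqe he (by rw [Submodule.mem_bot]; exact he0)
  by_cases hyf : pol Q f y ≠ 0
  · exact ⟨f, hf, by rw [hef]; exact one_ne_zero, hyf⟩
  push Not at hyf
  have hU'n := pair_nondeg hQ e f (by rw [pol_self hQ, hqe, mul_zero])
    (by rw [pol_self hQ, hf, mul_zero]) hef
  have hyU' : y ∈ perp hQ (Submodule.span F {e, f}) := by
    rw [mem_perp_span_pair]; exact ⟨hey, hyf⟩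
  have hyU'' : y ∉ Submodule.span F {e, f} := by
    intro h
    have : y ∈ Submodule.span F {e, f} ⊓ perp hQ (Submodule.span F {e, f}) := ⟨h, hyU'⟩
    rw [hU'n] at this
    exact hy0 this
  obtain ⟨f2, hf2, hyf2, hf2U⟩ := exists_partner hQ _ y hqy hyU' hyU''
  rw [mem_perp_span_pair] at hf2U
  refine ⟨f + f2, ?_, ?_, ?_⟩
  · rw [Q_add Q, hf, hf2, hf2U.2]; ring
  · rw [pol_add_right hQ, hef, hf2U.1, add_zero]; exact one_ne_zero
  · rw [pol_add_left hQ, hyf, pol_comm f2 y, hyf2, zero_add]; exact one_ne_zero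

end SSdef

end Cfsg.Agent.H9.Orth
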