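import Mathlib
import Cfsg.Agent.H9.OrthI

set_option autoImplicit false
set_option linter.unusedSectionVars false
set_option linter.style.haveILetI false
open Cfsg

/-!
Maximality in `Ω` of the stabilizer of a totally singular subspace: the main theorem.
-/

namespace Cfsg.Agent.H9.Orth

open Matrix
open scoped commutatorElement

section Parabolic

variable {ι : Type} [Fintype ι] [DecidableEq ι] {F : Type*} [Field F] [Fintype F]
variable {Q : (ι → F) → F}
variable (hQ : Cfsg.Geo.IsNondegenerateQuadraticForm Q)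

include hQ

/-- relative version of `SS_of_pol_ne` inside the perp of `W` -/
lemma SS_of_pol_ne' (hn : 5 ≤ Fintype.card ι) (W : Submodule F (ι → F)) (M : Subgroup (GL ι F))
    (hM : M ≤ Cfsg.isometryGroup F Q)
    (hPM : Cfsg.Geo.subspaceStabilizer W ⊓ NN hQ ≤ M) (a b t : ι → F)
    (ha : a ∈ perp hQ W) (hqa : Q a = 0) (hb : b ∈ SS hQ M) (hbW : b ∈ perp hQ W)
    (hab : pol Q a b ≠ 0) (ht : Q t = 0) (htW : t ∈ perp hQ W) (hta : pol Q a t ≠ 0) :
    t ∈ SS hQ M := by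
  set a' := (pol Q a b)⁻¹ • a with ha'
  set t' := (pol Q a b * (pol Q a t)⁻¹) • t with ht'
  have h1 : pol Q a' b = 1 := by rw [ha', pol_smul_left hQ, inv_mul_cancel₀ hab]
  have h2 : pol Q a' t' = 1 := by
    rw [ha', ht', pol_smul_left hQ, pol_smul_right hQ]
    field_simp
  have hqa' : Q a' = 0 := by rw [ha', hQ.smul, hqa, mul_zero]
  have hqt' : Q t' = 0 := by rw [ht', hQ.smul, ht, mul_zero]
  obtain ⟨h3, h4⟩ := act_sg_partner hQ a' b t' hqa' hb.1 hqt' h1 h2
  have ha'W : a' ∈ perp hQ W := Submodule.smul_mem _ _ ha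
  have ht'W : t' ∈ perp hQ W := Submodule.smul_mem _ _ htW
  have h5 : sg hQ a' (b - t') ∈ M :=
    hPM ⟨sg_mem_stab' hQ W a' (b - t') ha'W (Submodule.sub_mem _ hbW ht'W),
      sg_mem_NN' hQ hn a' (b - t') h3⟩
  have h6 : t' ∈ SS hQ M := by
    rw [← h4]
    exact SS_act hQ M hM _ h5 b hb
  have h7 : t = (pol Q a b * (pol Q a t)⁻¹)⁻¹ • t' := by
    rw [ht', smul_smul, inv_mul_cancel₀ (mul_ne_zero hab (inv_ne_zero hta)), one_smul]
  rw [h7]
  exact SS_smul hQ M _ t' h6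

/-- Claim A: an element of `SS` not perpendicular to `W` forces `NN ≤ M` -/
lemma NN_le_of_SS_not_perp (hn : 7 ≤ Fintype.card ι) (W : Submodule F (ι → F))
    (M : Subgroup (GL ι F)) (hM : M ≤ Cfsg.isometryGroup F Q)
    (hWSS : ∀ u ∈ W, u ∈ SS hQ M) (u w₀ : ι → F) (hu : u ∈ SS hQ M) (hw₀ : w₀ ∈ W)
    (huw : pol Q u w₀ ≠ 0) : NN hQ ≤ M := by
  have hw₀S := hWSS w₀ hw₀
  have hw₀0 : w₀ ≠ 0 := by
    rintro rfl
    exact huw (pol_zero_right hQ u)
  have hwu : pol Q w₀ u ≠ 0 := by rw [pol_comm]; exact huw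
  apply NN_le_of_SS hQ M
  intro x hx
  by_cases hx0 : x = 0
  · have := SS_smul hQ M 0 w₀ hw₀S
    rwa [zero_smul, ← hx0] at this
  have case1 : ∀ y, Q y = 0 → pol Q w₀ y ≠ 0 → y ∈ SS hQ M := fun y hy hwy =>
    SS_of_pol_ne hQ M hM w₀ u y hw₀S hu hwu hy hwy
  by_cases hxw : pol Q w₀ x ≠ 0
  · exact case1 x hx hxw
  push Not at hxw
  obtain ⟨z, hz, hwz, hzx⟩ := exists_singular_two hQ w₀ x hw₀0 hx0 hw₀S.1 hx hxw
  have hzS := case1 z hz hwz
  exact SS_of_pol_ne hQ M hM z w₀ x hzS hw₀S (by rw [pol_comm]; exact hwz) hx hzx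

/-- Claim B: an element of `SS` in `W^⊥ \ W` produces an element of `SS` outside `W^⊥` -/
lemma exists_SS_not_perp (hn : 7 ≤ Fintype.card ι) (W : Submodule F (ι → F))
    (hW : Cfsg.Geo.IsTotallySingularQuad Q W) (M : Subgroup (GL ι F))
    (hM : M ≤ Cfsg.isometryGroup F Q)
    (hPM : Cfsg.Geo.subspaceStabilizer W ⊓ NN hQ ≤ M) (w₀ : ι → F) (hw₀ : w₀ ∈ W)
    (hw₀0 : w₀ ≠ 0) (u₁ : ι → F) (hu₁ : u₁ ∈ SS hQ M) (hu₁W : u₁ ∈ perp hQ W) (hu₁W' : u₁ ∉ W)
    (hdim : 2 * (Module.finrank F W + 1) ≠ Fintype.card ι) :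
    ∃ u ∈ SS hQ M, pol Q u w₀ ≠ 0 := by
  obtain ⟨a, hqa, hua, haW⟩ := exists_partner hQ W u₁ hu₁.1 hu₁W hu₁W'
  have hau : pol Q a u₁ = 1 := by rw [pol_comm]; exact hua
  have hsp : Submodule.span F {u₁, a} ≤ perp hQ W := by
    rw [Submodule.span_le]
    rintro v (rfl | rfl)
    · exact hu₁W
    · exact haW
  -- a nonsingular vector perpendicular to `W`, `u₁`, `a`
  have hv : ∃ v ∈ perp hQ (W ⊔ Submodule.span F {u₁, a}), Q v ≠ 0 := by
    by_contra hcon
    push Not at hcon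
    set W2 := perp hQ (W ⊔ Submodule.span F {u₁, a}) with hW2
    have hts : Cfsg.Geo.IsTotallySingularQuad Q W2 := hcon
    have h1 : W2 ≤ W := by
      intro x hx
      have hx' : x ∈ perp hQ W2 := by
        rw [mem_perp]
        intro y hy
        exact polar_eq_zero_of_ts W2 hts y x hy hx
      rw [hW2, perp_perp] at hx'
      obtain ⟨w, hw, s, hs, rfl⟩ := Submodule.mem_sup.1 hx'
      obtain ⟨α, β, rfl⟩ := Submodule.mem_span_pair.1 hs
      have hxu := (mem_perp hQ _ _).1 hx u₁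
        (Submodule.mem_sup_right (Submodule.subset_span (by simp)))
      have hxa := (mem_perp hQ _ _).1 hx a
        (Submodule.mem_sup_right (Submodule.subset_span (by simp)))
      rw [pol_add_right hQ, pol_add_right hQ, pol_smul_right hQ, pol_smul_right hQ,
        pol_self hQ, hu₁.1, hua, (mem_perp' hQ W u₁).1 hu₁W w hw] at hxu
      rw [pol_add_right hQ, pol_add_right hQ, pol_smul_right hQ, pol_smul_right hQ,
        pol_self hQ, hqa, hau, (mem_perp' hQ W a).1 haW w hw] at hxa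
      have hβ : β = 0 := by linear_combination hxu
      have hα : α = 0 := by linear_combination hxa
      rw [hα, hβ, zero_smul, zero_smul, add_zero, add_zero]
      exact hw
    have h2 : W ≤ W2 := by
      intro w hw
      rw [hW2, mem_perp]
      intro y hy
      obtain ⟨w', hw', s, hs, rfl⟩ := Submodule.mem_sup.1 hy
      rw [pol_add_left hQ, polar_eq_zero_of_ts W hW w' w hw' hw,
        (mem_perp' hQ W s).1 (hsp hs) w hw, add_zero]
    have h3 : W2 = W := le_antisymm h1 h2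
    have h4 := finrank_add_finrank_perp hQ (W ⊔ Submodule.span F {u₁, a})
    rw [← hW2, h3] at h4
    -- the dimension of `W ⊔ ⟨u₁, a⟩`
    have h5 : W < W ⊔ Submodule.span F {u₁} := by
      refine lt_of_le_of_ne le_sup_left ?_
      intro h
      apply hu₁W'
      rw [h]
      exact Submodule.mem_sup_right (Submodule.mem_span_singleton_self u₁)
    have h6 : W ⊔ Submodule.span F {u₁} < W ⊔ Submodule.span F {u₁, a} := by
      refine lt_of_le_of_ne (sup_le_sup_left (Submodule.span_mono (by simp)) W) ?_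
      intro h
      have : a ∈ W ⊔ Submodule.span F {u₁} := by
        rw [h]
        exact Submodule.mem_sup_right (Submodule.subset_span (by simp))
      obtain ⟨w, hw, s, hs, hws⟩ := Submodule.mem_sup.1 this
      obtain ⟨c, rfl⟩ := Submodule.mem_span_singleton.1 hs
      have : pol Q u₁ a = 0 := by
        rw [← hws, pol_add_right hQ, pol_smul_right hQ, pol_self hQ, hu₁.1,
          (mem_perp' hQ W u₁).1 hu₁W w hw]
        ring
      rw [hua] at this
      exact one_ne_zero this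
    have h7 := Submodule.finrank_lt_finrank_of_lt h5
    have h8 := Submodule.finrank_lt_finrank_of_lt h6
    have h9 : Module.finrank F (W ⊔ Submodule.span F {u₁, a} : Submodule F (ι → F)) ≤
        Module.finrank F W + 2 := by
      have := Submodule.finrank_add_le_finrank_add_finrank W (Submodule.span F {u₁, a})
      have := finrank_span_pair_le (F := F) u₁ a
      omega
    apply hdim
    omega
  obtain ⟨v, hvW2, hqv⟩ := hv
  have hvW : v ∈ perp hQ W := perp_anti hQ le_sup_left hvW2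
  have hvu : pol Q u₁ v = 0 :=
    (mem_perp hQ _ _).1 hvW2 u₁ (Submodule.mem_sup_right (Submodule.subset_span (by simp)))
  have hva : pol Q a v = 0 :=
    (mem_perp hQ _ _).1 hvW2 a (Submodule.mem_sup_right (Submodule.subset_span (by simp)))
  -- the vector `t₀`
  set t₀ := u₁ + (-Q v) • a + v with ht₀
  have hqt₀ : Q t₀ = 0 := by
    rw [ht₀, Q_add Q, Q_add_smul hQ, hu₁.1, hqa, hua, pol_add_left hQ, pol_smul_left hQ, hvu, hva]
    ring
  have ht₀W : t₀ ∈ perp hQ W :=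
    Submodule.add_mem _ (Submodule.add_mem _ hu₁W (Submodule.smul_mem _ _ haW)) hvW
  have hat₀ : pol Q a t₀ = 1 := by
    rw [ht₀, pol_add_right hQ, pol_add_right hQ, pol_smul_right hQ, pol_self hQ, hqa, hau, hva]
    ring
  have hut₀ : pol Q u₁ t₀ = -Q v := by
    rw [ht₀, pol_add_right hQ, pol_add_right hQ, pol_smul_right hQ, pol_self hQ, hu₁.1, hua, hvu]
    ring
  have hn5 : 5 ≤ Fintype.card ι := by omega
  have ht₀S : t₀ ∈ SS hQ M :=
    SS_of_pol_ne' hQ hn5 W M hM hPM a u₁ t₀ haW hqa hu₁ hu₁W (by rw [hau]; exact one_ne_zero)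
      hqt₀ ht₀W (by rw [hat₀]; exact one_ne_zero)
  have haS : a ∈ SS hQ M :=
    SS_of_pol_ne' hQ hn5 W M hM hPM u₁ t₀ a hu₁W hu₁.1 ht₀S ht₀W
      (by rw [hut₀]; exact neg_ne_zero.2 hqv) hqa haW (by rw [hua]; exact one_ne_zero)
  -- a vector `z ⊥ u₁` not perpendicular to `w₀`
  have hw₀s : w₀ ∉ Submodule.span F {u₁} := by
    intro h
    obtain ⟨c, hc⟩ := Submodule.mem_span_singleton.1 h
    have hc0 : c ≠ 0 := by
      rintro rfl
      rw [zero_smul] at hc
      exact hw₀0 hc.symm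
    apply hu₁W'
    have : u₁ = c⁻¹ • w₀ := by rw [← hc, smul_smul, inv_mul_cancel₀ hc0, one_smul]
    rw [this]
    exact W.smul_mem _ hw₀
  obtain ⟨z, hzw, hzu⟩ := exists_pol_eq_one hQ (Submodule.span F {u₁}) w₀ hw₀s
  have hzu' : pol Q u₁ z = 0 := by
    rw [pol_comm]; exact hzu u₁ (Submodule.mem_span_singleton_self u₁)
  have hg2 : sg hQ u₁ z ∈ M := hu₁.2 z hzu'
  refine ⟨act (sg hQ u₁ z) a, SS_act hQ M hM _ hg2 a haS, ?_⟩
  rw [act_sg hQ u₁ z hu₁.1 hzu', pol_sub_left hQ, pol_add_left hQ, pol_smul_left hQ,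
    pol_smul_left hQ, hau, hzw, (mem_perp' hQ W a).1 haW w₀ hw₀,
    (mem_perp' hQ W u₁).1 hu₁W w₀ hw₀]
  simp

/-- **Maximality of parabolic subgroups of `Ω`**: the stabilizer in `Ω` of a nonzero totally
singular subspace `W` is maximal, provided `W` is not of codimension one in a totally singular
subspace of half the dimension of the space. -/
theorem parabolic_maximal (hn : 7 ≤ Fintype.card ι) (W : Submodule F (ι → F)) (hW0 : W ≠ ⊥)
    (hW : Cfsg.Geo.IsTotallySingularQuad Q W)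
    (hex : ∀ u ∈ perp hQ W, Q u = 0 → u ∉ W →
      2 * (Module.finrank F W + 1) ≠ Fintype.card ι) :
    Cfsg.Geo.IsMaximalIn (Cfsg.Geo.omegaGL Q)
      (Cfsg.Geo.subspaceStabilizer W ⊓ Cfsg.Geo.omegaGL Q) := by
  rw [omegaGL_eq_NN hQ hn]
  obtain ⟨w₀, hw₀, hw₀0⟩ := Submodule.exists_mem_ne_zero_of_ne_bot hW0
  have hbotperp : ∀ x : ι → F, x ∈ perp hQ (⊥ : Submodule F (ι → F)) := by
    intro x
    rw [perp, LinearMap.BilinForm.orthogonal_bot]; trivial
  refine ⟨lt_of_le_of_ne inf_le_right ?_, ?_⟩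
  · intro heq
    obtain ⟨f, hf, hwf, -⟩ := exists_partner hQ ⊥ w₀ (hW w₀ hw₀) (hbotperp w₀)
      (by rw [Submodule.mem_bot]; exact hw₀0)
    have hf0 : f ≠ 0 := by
      rintro rfl
      rw [pol_zero_right hQ] at hwf
      exact zero_ne_one hwf
    obtain ⟨g, hg, hgw⟩ := NN_trans_singular hQ hn w₀ f hw₀0 hf0 (hW w₀ hw₀) hf
    have hg' : g ∈ Cfsg.Geo.subspaceStabilizer W := by
      rw [← heq] at hg
      exact hg.1
    have hfW : f ∈ W := by
      rw [← hgw]
      exact ((mem_stab_iff W g).1 hg' w₀).1 hw₀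
    have := polar_eq_zero_of_ts W hW w₀ f hw₀ hfW
    rw [hwf] at this
    exact one_ne_zero this
  · intro M hPM hMN
    by_cases hMP : M ≤ Cfsg.Geo.subspaceStabilizer W ⊓ NN hQ
    · left; exact le_antisymm hMP hPM
    right
    apply le_antisymm hMN
    have hM : M ≤ Cfsg.isometryGroup F Q := hMN.trans (NN_le_iso hQ)
    have hWSS : ∀ u ∈ W, u ∈ SS hQ M := fun u hu =>
      ⟨hW u hu, fun w hw => hPM ⟨sg_mem_stab hQ W hW u w hu hw, sg_mem_NN' hQ (by omega) u w hw⟩⟩
    -- an element of `M` moving a vector of `W` outside `W`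
    have hmove : ∃ g ∈ M, ∃ w₁ ∈ W, act g w₁ ∉ W := by
      rw [SetLike.not_le_iff_exists] at hMP
      obtain ⟨g, hgM, hgP⟩ := hMP
      have hgS : g ∉ Cfsg.Geo.subspaceStabilizer W := fun h => hgP ⟨h, hMN hgM⟩
      rw [mem_stab_iff] at hgS
      push Not at hgS
      obtain ⟨v, hv⟩ := hgS
      rcases hv with ⟨hv1, hv2⟩ | ⟨hv1, hv2⟩
      · exact ⟨g, hgM, v, hv1, hv2⟩
      · refine ⟨g⁻¹, inv_mem hgM, act g v, hv2, ?_⟩
        rw [act_inv_act]; exact hv1
    obtain ⟨g, hgM, w₁, hw₁, hgw₁⟩ := hmove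
    have hu₁ : act g w₁ ∈ SS hQ M := SS_act hQ M hM g hgM w₁ (hWSS w₁ hw₁)
    by_cases hperp : act g w₁ ∈ perp hQ W
    · obtain ⟨u, hu, huw⟩ := exists_SS_not_perp hQ hn W hW M hM hPM w₀ hw₀ hw₀0 (act g w₁) hu₁
        hperp hgw₁ (hex _ hperp hu₁.1 hgw₁)
      exact NN_le_of_SS_not_perp hQ hn W M hM hWSS u w₀ hu hw₀ huw
    · rw [mem_perp'] at hperp
      push Not at hperp
      obtain ⟨w, hw, hne⟩ := hperp
      exact NN_le_of_SS_not_perp hQ hn W M hM hWSS (act g w₁) w hu₁ hw hne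

end Parabolic

end Cfsg.Agent.H9.Orth
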