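import Mathlib
import Cfsg.Agent.H9.OrthJ

set_option autoImplicit false
set_option linter.unusedSectionVars false
set_option linter.style.haveILetI false
open Cfsg

/-!
Pairs of complementary totally singular subspaces in an orthogonal space: the root elements
centred in one member (any characteristic).
-/

namespace Cfsg.Agent.H9.Orth

open Matrix
open scoped commutatorElement

section OLagA

variable {ι : Type} [Fintype ι] [DecidableEq ι] {F : Type*} [Field F] [Fintype F]
variable {Q : (ι → F) → F}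
variable (hQ : Cfsg.Geo.IsNondegenerateQuadraticForm Q)

include hQ

/-- in a subspace of dimension at least five, two linear conditions leave a vector outside a
given plane -/
lemma exists_perp_not_plane (Y : Submodule F (ι → F)) (hY : 5 ≤ Module.finrank F Y)
    (c d p q : ι → F) :
    ∃ y ∈ Y, pol Q y c = 0 ∧ pol Q y d = 0 ∧ ∀ α β : F, y ≠ α • p + β • q := by
  classical
  by_contra hcon
  push Not at hcon
  let φ : Y →ₗ[F] F × F :=
    (((BF hQ).flip c).domRestrict Y).prod (((BF hQ).flip d).domRestrict Y)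
  have hφ : ∀ y : Y, φ y = (pol Q (y : ι → F) c, pol Q (y : ι → F) d) := fun y => rfl
  let L : F × F →ₗ[F] (ι → F) :=
    { toFun := fun t => t.1 • p + t.2 • q
      map_add' := by
        intro s t
        simp only [Prod.fst_add, Prod.snd_add, add_smul]
        abel
      map_smul' := by
        intro a t
        simp only [Prod.smul_fst, Prod.smul_snd, smul_eq_mul, mul_smul, RingHom.id_apply, smul_add] }
  have hL : ∀ t : F × F, L t = t.1 • p + t.2 • q := fun t => rfl
  have h1 : Module.finrank F (LinearMap.range φ) + Module.finrank F (LinearMap.ker φ) =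
      Module.finrank F Y := LinearMap.finrank_range_add_finrank_ker φ
  have h2 : Module.finrank F (LinearMap.range φ) ≤ 2 := by
    have := Submodule.finrank_le (LinearMap.range φ)
    rw [Module.finrank_prod, Module.finrank_self] at this
    exact this
  have h3 : Module.finrank F (LinearMap.range L) ≤ 2 := by
    have := LinearMap.finrank_range_le L
    rw [Module.finrank_prod, Module.finrank_self] at this
    exact this
  have h4 : (LinearMap.ker φ).map Y.subtype ≤ LinearMap.range L := by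
    rintro y ⟨y', hy', rfl⟩
    have hy'2 : φ y' = 0 := hy'
    rw [hφ, Prod.mk_eq_zero] at hy'2
    obtain ⟨α, β, hαβ⟩ := hcon y'.1 y'.2 hy'2.1 hy'2.2
    exact ⟨(α, β), by rw [hL]; exact hαβ.symm⟩
  have h5 : Module.finrank F ((LinearMap.ker φ).map Y.subtype) = Module.finrank F (LinearMap.ker φ) :=
    Submodule.finrank_map_subtype_eq Y (LinearMap.ker φ)
  have h6 := Submodule.finrank_mono h4
  omega

omit hQ in
/-- a subspace mapped into the union of two subspaces is mapped into one of them -/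
lemma union_lemma (A B X : Submodule F (ι → F)) (g : GL ι F)
    (h : ∀ x ∈ X, act g x ∈ A ∨ act g x ∈ B) :
    (∀ x ∈ X, act g x ∈ A) ∨ (∀ x ∈ X, act g x ∈ B) := by
  by_contra hcon
  rw [not_or, not_forall, not_forall] at hcon
  obtain ⟨⟨x₁, h1⟩, ⟨x₂, h2⟩⟩ := hcon
  rw [Classical.not_imp] at h1 h2
  obtain ⟨hx₁, h1⟩ := h1
  obtain ⟨hx₂, h2⟩ := h2
  have h1B : act g x₁ ∈ B := (h x₁ hx₁).resolve_left h1
  have h2A : act g x₂ ∈ A := (h x₂ hx₂).resolve_right h2
  rcases h (x₁ + x₂) (X.add_mem hx₁ hx₂) with h3 | h3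
  · rw [act_add] at h3
    exact h1 ((Submodule.add_mem_iff_left A h2A).1 h3)
  · rw [act_add] at h3
    exact h2 ((Submodule.add_mem_iff_right B h1B).1 h3)

omit hQ in
lemma toLin'_inj (g : GL ι F) :
    Function.Injective (Matrix.toLin' (g : Matrix ι ι F)) := by
  intro x y hxy
  rw [Matrix.toLin'_apply, Matrix.toLin'_apply] at hxy
  exact act_injective g hxy

omit hQ in
lemma finrank_map_GL (g : GL ι F) (A : Submodule F (ι → F)) :
    Module.finrank F (A.map (Matrix.toLin' (g : Matrix ι ι F))) = Module.finrank F A :=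
  (LinearEquiv.finrank_eq (Submodule.equivMapOfInjective _ (toLin'_inj g) A)).symm

omit hQ in
lemma map_eq_of_forall (g : GL ι F) (A B : Submodule F (ι → F))
    (hAB : Module.finrank F A = Module.finrank F B) (h : ∀ x ∈ A, act g x ∈ B) :
    A.map (Matrix.toLin' (g : Matrix ι ι F)) = B := by
  apply Submodule.eq_of_le_of_finrank_eq
  · rintro _ ⟨x, hx, rfl⟩
    rw [Matrix.toLin'_apply]; exact h x hx
  · rw [finrank_map_GL, hAB]

variable (U W : Submodule F (ι → F))
variable (hU : Cfsg.Geo.IsTotallySingularQuad Q U)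
variable (hW : Cfsg.Geo.IsTotallySingularQuad Q W)
variable (hsum : ∀ v : ι → F, ∃ u ∈ U, ∃ w ∈ W, v = u + w)

include hU hsum in
/-- functionals on `U` are represented by vectors of `W` -/
lemma exists_dual (S : Submodule F (ι → F)) (x : ι → F) (hxU : x ∈ U) (hx : x ∉ S) :
    ∃ w ∈ W, (∀ s ∈ S, s ∈ U → pol Q s w = 0) ∧ pol Q x w = 1 := by
  obtain ⟨y, hyx, hyS⟩ := exists_pol_eq_one hQ S x hx
  obtain ⟨yU, hyU, yW, hyW, hy⟩ := hsum y
  have h1 : ∀ z ∈ U, pol Q z yW = pol Q z y := by
    intro z hz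
    rw [hy, pol_add_right hQ, polar_eq_zero_of_ts U hU z yU hz hyU, zero_add]
  refine ⟨yW, hyW, fun s hs hsU => ?_, ?_⟩
  · rw [h1 s hsU, pol_comm]; exact hyS s hs
  · rw [h1 x hxU, pol_comm]; exact hyx

variable (M : Subgroup (GL ι F))
variable (hMS : M ≤ Cfsg.isometryGroup F Q)
variable (hM : ∀ a ∈ U, ∀ b ∈ W, pol Q a b = 0 → sg hQ a b ∈ M)

include hU hW hsum hM in
/-- the first root element centred in `U` -/
lemma exists_sg_mem (hdim : 5 ≤ Module.finrank F U)
    (c d cU cW dU dW : ι → F) (hqc : Q c = 0) (hqd : Q d = 0)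
    (hcU : cU ∈ U) (hcW : cW ∈ W) (hc : c = cU + cW)
    (hdU : dU ∈ U) (hdW : dW ∈ W) (hd : d = dU + dW)
    (hcd : pol Q c d = 0) (hτ : sg hQ c d ∈ M) (hcU0 : cU ≠ 0)
    (hind : ∀ α : F, dU ≠ α • cU) :
    ∃ a ∈ U, a ≠ 0 ∧ cU ∉ Submodule.span F {a} ∧ sg hQ a cU ∈ M := by
  obtain ⟨a, haU, hac, had, hane⟩ := exists_perp_not_plane hQ U hdim c d cU dU
  have ha0 : a ≠ 0 := by
    intro h
    apply hane 0 0
    rw [h, zero_smul, zero_smul, add_zero]
  have hdS1 : dU ∉ Submodule.span F {a, cU} := by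
    rw [Submodule.mem_span_pair]
    rintro ⟨α, β, hαβ⟩
    by_cases hα : α = 0
    · rw [hα, zero_smul, zero_add] at hαβ
      exact hind β hαβ.symm
    · apply hane (-(α⁻¹ * β)) α⁻¹
      rw [← hαβ, smul_add, smul_smul, smul_smul, inv_mul_cancel₀ hα, one_smul, neg_smul]
      abel
  obtain ⟨b, hbW, hbS, hb1⟩ := exists_dual hQ U W hU hsum (Submodule.span F {a, cU}) dU hdU hdS1
  have hab : pol Q a b = 0 := hbS a (Submodule.subset_span (by simp)) haU
  have hcUb : pol Q cU b = 0 := hbS cU (Submodule.subset_span (by simp)) hcU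
  have hcS2 : cU ∉ Submodule.span F {a} := by
    rw [Submodule.mem_span_singleton]
    rintro ⟨α, hα⟩
    have hα0 : α ≠ 0 := by
      rintro rfl
      rw [zero_smul] at hα
      exact hcU0 hα.symm
    apply hane α⁻¹ 0
    rw [← hα, smul_smul, inv_mul_cancel₀ hα0, one_smul, zero_smul, add_zero]
  have hcb : pol Q c b = 0 := by
    rw [hc, pol_add_left hQ, hcUb, polar_eq_zero_of_ts W hW cW b hcW hbW, add_zero]
  have hdb : pol Q d b = 1 := by
    rw [hd, pol_add_left hQ, hb1, polar_eq_zero_of_ts W hW dW b hdW hbW, add_zero]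
  have hqa : Q a = 0 := hU a haU
  have hqb : Q b = 0 := hW b hbW
  have key := sg_eq_comm hQ a c d b hqa hqc hqd hqb hac had hab hcd hcb hdb
  have h1 : sg hQ a b ∈ M := hM a haU b hbW hab
  have h2 : sg hQ d c ∈ M := by
    have := sg_symm hQ c d hqc hqd hcd
    have h3 : sg hQ d c = (sg hQ c d)⁻¹ := by rw [this, inv_inv]
    rw [h3]
    exact inv_mem hτ
  have h3 : sg hQ a c ∈ M := by
    rw [key, commutatorElement_def]
    exact mul_mem (mul_mem (mul_mem h1 h2) (inv_mem h1)) (inv_mem h2)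
  have hacU : pol Q a cU = 0 := polar_eq_zero_of_ts U hU a cU haU hcU
  have hacW : pol Q a cW = 0 := by
    have := hac
    rw [hc, pol_add_right hQ, hacU, zero_add] at this
    exact this
  have h4 : sg hQ a cW ∈ M := hM a haU cW hcW hacW
  refine ⟨a, haU, ha0, hcS2, ?_⟩
  have h5 : sg hQ a c = sg hQ a cU * sg hQ a cW := by
    rw [sg_mul hQ a cU cW hacU hacW, hc]
  have h6 : sg hQ a cU = sg hQ a c * (sg hQ a cW)⁻¹ := by rw [h5]; group
  rw [h6]
  exact mul_mem h3 (inv_mem h4)

include hU hW hsum hM hMS in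
/-- one nontrivial root element centred at `a` inside `U` gives the whole root group of `a` -/
lemma mem_SS_of_sg_mem (hdim : 3 ≤ Module.finrank F U) (a c₀ : ι → F) (haU : a ∈ U)
    (hcU : c₀ ∈ U) (hind : c₀ ∉ Submodule.span F {a}) (hmem : sg hQ a c₀ ∈ M) :
    a ∈ SS hQ M := by
  have hqa : Q a = 0 := hU a haU
  -- the basic step
  have step : ∀ x ∈ U, sg hQ a x ∈ M → ∀ p ∈ U, ∀ w ∈ W, pol Q p w = 0 → pol Q a w = 0 →
      sg hQ a (pol Q x w • p) ∈ M := by
    intro x hxU hx p hpU w hwW hpw haw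
    have hh : sg hQ p w ∈ M := hM p hpU w hwW hpw
    have hhi := hMS hh
    have h1 := conj_sg hQ (sg hQ p w) hhi a x
    have hqp : Q p = 0 := hU p hpU
    have h2 : act (sg hQ p w) a = a := by
      rw [act_sg hQ p w hqp hpw, haw, polar_eq_zero_of_ts U hU a p haU hpU]
      module
    have h3 : act (sg hQ p w) x = x + pol Q x w • p := by
      rw [act_sg hQ p w hqp hpw, polar_eq_zero_of_ts U hU x p hxU hpU]
      module
    rw [h2, h3] at h1
    have hax : pol Q a x = 0 := polar_eq_zero_of_ts U hU a x haU hxU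
    have hap : pol Q a (pol Q x w • p) = 0 := by
      rw [pol_smul_right hQ, polar_eq_zero_of_ts U hU a p haU hpU, mul_zero]
    rw [← sg_mul hQ a x _ hax hap] at h1
    have h4 : sg hQ a (pol Q x w • p) = (sg hQ a x)⁻¹ * (sg hQ p w * sg hQ a x * (sg hQ p w)⁻¹) := by
      rw [h1]; group
    rw [h4]
    exact mul_mem (inv_mem hx) (mul_mem (mul_mem hh hx) (inv_mem hh))
  obtain ⟨w, hwW, hwS, hw1⟩ := exists_dual hQ U W hU hsum (Submodule.span F {a}) c₀ hcU hind
  have haw : pol Q a w = 0 := hwS a (Submodule.mem_span_singleton_self a) haU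
  -- the hyperplane `U ∩ w^⊥`
  have hyp : ∀ p ∈ U, pol Q p w = 0 → sg hQ a p ∈ M := by
    intro p hpU hpw
    have := step c₀ hcU hmem p hpU w hwW hpw haw
    rwa [hw1, one_smul] at this
  -- a vector of the hyperplane outside `⟨a⟩`
  have hp1 : ∃ p₁ ∈ U, pol Q p₁ w = 0 ∧ p₁ ∉ Submodule.span F {a} := by
    by_contra hcon
    push Not at hcon
    -- then `U ≤ ⟨a, c₀⟩`
    have hle : U ≤ Submodule.span F {a, c₀} := by
      intro x hxU
      have h1 : pol Q (x - pol Q x w • c₀) w = 0 := by
        rw [pol_sub_left hQ, pol_smul_left hQ, hw1]; ring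
      have h2 := hcon _ (U.sub_mem hxU (U.smul_mem _ hcU)) h1
      obtain ⟨α, hα⟩ := Submodule.mem_span_singleton.1 h2
      rw [Submodule.mem_span_pair]
      refine ⟨α, pol Q x w, ?_⟩
      rw [hα]; abel
    have := Submodule.finrank_mono hle
    have := finrank_span_pair_le (F := F) a c₀
    omega
  obtain ⟨p₁, hp₁U, hp₁w, hp₁a⟩ := hp1
  have hall : ∀ p ∈ U, sg hQ a p ∈ M := by
    intro p hpU
    by_cases hpw : pol Q p w = 0
    · exact hyp p hpU hpw
    · -- `p₁ ∉ ⟨a, p⟩`
      have hp₁S : p₁ ∉ Submodule.span F {a, p} := by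
        rw [Submodule.mem_span_pair]
        rintro ⟨α, β, hαβ⟩
        have h1 : pol Q p₁ w = β * pol Q p w := by
          rw [← hαβ, pol_add_left hQ, pol_smul_left hQ, pol_smul_left hQ, haw]; ring
        rw [hp₁w] at h1
        have hβ : β = 0 := by
          rcases mul_eq_zero.1 h1.symm with h | h
          · exact h
          · exact absurd h hpw
        apply hp₁a
        rw [← hαβ, hβ, zero_smul, add_zero]
        exact Submodule.smul_mem _ _ (Submodule.mem_span_singleton_self a)
      obtain ⟨w', hw'W, hw'S, hw'1⟩ := exists_dual hQ U W hU hsum (Submodule.span F {a, p}) p₁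
        hp₁U hp₁S
      have haw' : pol Q a w' = 0 := hw'S a (Submodule.subset_span (by simp)) haU
      have hpw' : pol Q p w' = 0 := hw'S p (Submodule.subset_span (by simp)) hpU
      have := step p₁ hp₁U (hyp p₁ hp₁U hp₁w) p hpU w' hw'W hpw' haw'
      rwa [hw'1, one_smul] at this
  refine ⟨hqa, fun y hay => ?_⟩
  obtain ⟨yU, hyU, yW, hyW, hy⟩ := hsum y
  have hayU : pol Q a yU = 0 := polar_eq_zero_of_ts U hU a yU haU hyU
  have hayW : pol Q a yW = 0 := by
    rw [hy, pol_add_right hQ, hayU, zero_add] at hay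
    exact hay
  rw [hy, ← sg_mul hQ a yU yW hayU hayW]
  exact mul_mem (hall yU hyU) (hM a haU yW hyW hayW)

include hU hsum hM hMS in
/-- propagation inside `U` -/
lemma forall_mem_SS (a : ι → F) (haU : a ∈ U) (ha0 : a ≠ 0) (ha : a ∈ SS hQ M) :
    ∀ a' ∈ U, a' ∈ SS hQ M := by
  intro a' ha'U
  by_cases h : ∃ α : F, a' = α • a
  · obtain ⟨α, rfl⟩ := h
    exact SS_smul hQ M α a ha
  · push Not at h
    have huU : a' - a ∈ U := U.sub_mem ha'U haU
    have haS : a ∉ Submodule.span F {a' - a} := by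
      rw [Submodule.mem_span_singleton]
      rintro ⟨α, hα⟩
      have hα0 : α ≠ 0 := by
        rintro rfl
        rw [zero_smul] at hα
        exact ha0 hα.symm
      apply h (α⁻¹ * (1 + α))
      have h1 : α • a' = (1 + α) • a := by
        rw [smul_sub] at hα
        rw [add_smul, one_smul]
        exact sub_eq_iff_eq_add.1 hα
      rw [← smul_smul, ← h1, smul_smul, inv_mul_cancel₀ hα0, one_smul]
    obtain ⟨w, hwW, hwS, hw1⟩ := exists_dual hQ U W hU hsum (Submodule.span F {a' - a}) a haU haS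
    have huw : pol Q (a' - a) w = 0 := hwS _ (Submodule.mem_span_singleton_self _) huU
    have hmem : sg hQ (a' - a) w ∈ M := hM _ huU w hwW huw
    have h1 := SS_act hQ M hMS _ hmem a ha
    rw [act_sg hQ _ _ (hU _ huU) huw, hw1, polar_eq_zero_of_ts U hU a _ haU huU] at h1
    have e : a + (1 - Q w * 0) • (a' - a) - (0 : F) • w = a' := by module
    rw [e] at h1
    exact h1

end OLagA

end Cfsg.Agent.H9.Orth
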