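import Mathlib
import Cfsg.Agent.H9.OLagA

set_option autoImplicit false
set_option linter.unusedSectionVars false
set_option linter.style.haveILetI false
open Cfsg

/-!
Pairs of complementary totally singular subspaces: dual bases and the swap.
-/

namespace Cfsg.Agent.H9.Orth

open Matrix
open scoped commutatorElement

section OLagB

variable {ι : Type} [Fintype ι] [DecidableEq ι] {F : Type*} [Field F] [Fintype F]
variable {Q : (ι → F) → F}
variable (hQ : Cfsg.Geo.IsNondegenerateQuadraticForm Q)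

include hQ

/-- the product of two reflections in vectors of the same norm lies in `NN` -/
lemma rf_mul_rf_mem_NN (hn : 5 ≤ Fintype.card ι) (x y : ι → F) (hxy : Q x = Q y) :
    rf hQ x * rf hQ y ∈ NN hQ := by
  by_cases hx : Q x ≠ 0
  · obtain ⟨g, hg, hgx⟩ := NN_trans_norm hQ hn x y hx hxy.symm
    have hgi := NN_le_iso hQ hg
    have h1 := conj_rf hQ g hgi x
    rw [hgx] at h1
    rw [← h1]
    have e : rf hQ x * (g * rf hQ x * g⁻¹) = (rf hQ x * g * (rf hQ x)⁻¹) * g⁻¹ := by
      rw [rf_inv]; group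
    rw [e]
    exact mul_mem (conj_mem_NN hQ _ (rf_mem hQ x) g hg) (inv_mem hg)
  · have hy : ¬ Q y ≠ 0 := by rw [← hxy]; exact hx
    rw [rf_of_not hQ x hx, rf_of_not hQ y hy, one_mul]
    exact one_mem _

variable (D : Fin 2 → Submodule F (ι → F)) {k : ℕ}
variable (hD : Cfsg.Geo.IsMDecomposition k D)
variable (hts : ∀ i, Cfsg.Geo.IsTotallySingularQuad Q (D i))

omit hQ in
include hD in
lemma exists_sum (v : ι → F) : ∃ u ∈ D 0, ∃ w ∈ D 1, v = u + w := by
  have h1 : D 0 ⊔ D 1 = ⊤ := by
    apply le_antisymm le_top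
    rw [← hD.iSup_eq_top]
    apply iSup_le
    intro i
    fin_cases i
    · exact le_sup_left
    · exact le_sup_right
  have h2 : v ∈ D 0 ⊔ D 1 := by rw [h1]; trivial
  obtain ⟨u, hu, w, hw, huw⟩ := Submodule.mem_sup.1 h2
  exact ⟨u, hu, w, hw, huw.symm⟩

omit hQ in
include hD in
lemma exists_sum' (v : ι → F) : ∃ w ∈ D 1, ∃ u ∈ D 0, v = w + u := by
  obtain ⟨u, hu, w, hw, h⟩ := exists_sum D hD v
  exact ⟨w, hw, u, hu, by rw [h, add_comm]⟩

omit hQ in
include hD in
lemma eq_zero_of_mem (x : ι → F) (h0 : x ∈ D 0) (h1 : x ∈ D 1) : x = 0 := by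
  have h := hD.indep.pairwiseDisjoint (show (0 : Fin 2) ≠ 1 by decide)
  exact (Submodule.disjoint_def.1 h) x h0 h1

omit hQ in
include hD in
lemma mem_dstab_of_forall (g : GL ι F) (σ : Equiv.Perm (Fin 2))
    (h : ∀ i, ∀ x ∈ D i, act g x ∈ D (σ i)) :
    g ∈ Cfsg.Geo.decompositionStabilizer D := by
  refine ⟨σ, fun i => ?_⟩
  apply map_eq_of_forall g
  · rw [hD.finrank_eq, hD.finrank_eq]
  · exact h i

include hD hts in
/-- the root elements attached to a pair from different members stabilise the decomposition -/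
lemma sg_mem_dstab (i j : Fin 2) (hij : i ≠ j) (a b : ι → F) (ha : a ∈ D i)
    (hb : b ∈ D j) (hab : pol Q a b = 0) :
    sg hQ a b ∈ Cfsg.Geo.decompositionStabilizer D := by
  apply mem_dstab_of_forall D hD _ 1
  intro l x hx
  rw [act_sg hQ a b (hts i a ha) hab, Equiv.Perm.one_apply]
  have hl : l = i ∨ l = j := by
    fin_cases i <;> fin_cases j <;> fin_cases l <;> simp_all
  rcases hl with rfl | rfl
  · rw [polar_eq_zero_of_ts (D l) (hts l) x a hx ha, mul_zero, sub_zero, zero_smul, sub_zero]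
    exact (D l).add_mem hx ((D l).smul_mem _ ha)
  · rw [polar_eq_zero_of_ts (D l) (hts l) x b hx hb, hts l b hb, zero_mul, sub_zero, zero_smul,
      add_zero]
    exact (D l).sub_mem hx ((D l).smul_mem _ hb)

include hD hts in
/-- dual bases of the two members -/
lemma exists_dual_bases : ∃ (bU : Module.Basis (Fin k) F (D 0)) (bW : Module.Basis (Fin k) F (D 1)),
    ∀ i j, pol Q (bU i : ι → F) (bW j : ι → F) = if i = j then 1 else 0 := by
  classical
  let bU : Module.Basis (Fin k) F (D 0) := Module.finBasisOfFinrankEq F (D 0) (hD.finrank_eq 0)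
  let Φ : D 1 →ₗ[F] (Fin k → F) :=
    LinearMap.pi (fun i => ((BF hQ) (bU i : ι → F)).domRestrict (D 1))
  have hΦ : ∀ (w : D 1) i, Φ w i = pol Q (bU i : ι → F) (w : ι → F) := fun w i => rfl
  have hinj : Function.Injective Φ := by
    rw [← LinearMap.ker_eq_bot, Submodule.eq_bot_iff]
    intro w hw
    rw [LinearMap.mem_ker] at hw
    have h1 : ∀ u : D 0, pol Q (u : ι → F) (w : ι → F) = 0 := by
      intro u
      have h2 : ((BF hQ).flip (w : ι → F)).domRestrict (D 0) = 0 := by
        apply bU.ext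
        intro i
        have := congrFun hw i
        rw [hΦ] at this
        exact this
      exact congrArg (fun f => f u) h2
    by_contra hw0
    have hw0' : (w : ι → F) ≠ 0 := fun h => hw0 (Subtype.ext h)
    obtain ⟨⟨y, hy⟩, -⟩ := hQ.nondegenerate (w : ι → F) hw0'
    obtain ⟨u, hu, w', hw', rfl⟩ := exists_sum D hD y
    apply hy
    show pol Q (u + w') (w : ι → F) = 0
    rw [pol_add_left hQ, h1 ⟨u, hu⟩, polar_eq_zero_of_ts (D 1) (hts 1) w' w hw' w.2, add_zero]
  have hdim : Module.finrank F (D 1) = Module.finrank F (Fin k → F) := by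
    rw [hD.finrank_eq, Module.finrank_fin_fun]
  let ΦE : D 1 ≃ₗ[F] (Fin k → F) := LinearMap.linearEquivOfInjective Φ hinj hdim
  have hΦE : ∀ w, ΦE w = Φ w := fun w => rfl
  let bW : Module.Basis (Fin k) F (D 1) := (Pi.basisFun F (Fin k)).map ΦE.symm
  refine ⟨bU, bW, fun i j => ?_⟩
  rw [← hΦ, ← hΦE]
  change ΦE (ΦE.symm (Pi.basisFun F (Fin k) j)) i = _
  rw [LinearEquiv.apply_symm_apply, Pi.basisFun_apply, Pi.single_apply]

/-- the product of the reflections in `e i - f i`, `i < m` -/
lemma exists_partial_swap (hn : 5 ≤ Fintype.card ι) (e f : Fin k → (ι → F))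
    (hqe : ∀ i, Q (e i) = 0) (hqf : ∀ i, Q (f i) = 0) (hee : ∀ i j, pol Q (e i) (e j) = 0)
    (hff : ∀ i j, pol Q (f i) (f j) = 0)
    (hef : ∀ i j, pol Q (e i) (f j) = if i = j then 1 else 0) :
    ∀ m : ℕ, m ≤ k → ∃ g : GL ι F, g ∈ Cfsg.isometryGroup F Q ∧
      (∀ i : Fin k, (i : ℕ) < m → act g (e i) = f i ∧ act g (f i) = e i) ∧
      (∀ i : Fin k, m ≤ (i : ℕ) → act g (e i) = e i ∧ act g (f i) = f i) ∧
      (Even m → g ∈ NN hQ) ∧ (Odd m → ∀ y, Q y = -1 → g * rf hQ y ∈ NN hQ) := by
  intro m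
  induction m with
  | zero =>
    intro _
    refine ⟨1, one_mem _, fun i hi => absurd hi (Nat.not_lt_zero _),
      fun i _ => ⟨act_one _, act_one _⟩, fun _ => one_mem _, fun h => ?_⟩
    exact absurd h (by decide)
  | succ m ih =>
    intro hm
    obtain ⟨g, hgi, hlt, hge, hev, hodd⟩ := ih (by omega)
    set i0 : Fin k := ⟨m, by omega⟩ with hi0
    set x := e i0 - f i0 with hx
    have hqx : Q x = -1 := by
      rw [hx, Q_sub hQ, hqe, hqf, hef, if_pos rfl]; ring
    have hqx0 : Q (e i0 - f i0) ≠ 0 := by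
      rw [← hx, hqx]; exact neg_ne_zero.2 one_ne_zero
    have hfix : ∀ i : Fin k, i ≠ i0 → act (rf hQ x) (e i) = e i ∧ act (rf hQ x) (f i) = f i := by
      intro i hi
      constructor
      · apply act_rf_perp
        rw [hx, pol_sub_right hQ, hee, hef, if_neg hi, sub_zero]
      · apply act_rf_perp
        rw [hx, pol_sub_right hQ, hff, pol_comm, hef, if_neg (Ne.symm hi), zero_sub, neg_zero]
    have hsw1 : act (rf hQ x) (e i0) = f i0 :=
      act_rf_sub hQ (e i0) (f i0) (by rw [hqe, hqf]) hqx0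
    have hsw2 : act (rf hQ x) (f i0) = e i0 :=
      act_rf_sub' hQ (e i0) (f i0) (by rw [hqe, hqf]) hqx0
    refine ⟨g * rf hQ x, mul_mem hgi (rf_mem hQ x), ?_, ?_, ?_, ?_⟩
    · intro i hi
      by_cases hii : i = i0
      · rw [hii, act_mul, act_mul, hsw1, hsw2]
        exact ⟨(hge i0 (le_refl _)).2, (hge i0 (le_refl _)).1⟩
      · have hi' : (i : ℕ) < m := by
          have : (i : ℕ) ≠ m := fun h => hii (Fin.ext h)
          omega
        rw [act_mul, act_mul, (hfix i hii).1, (hfix i hii).2]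
        exact hlt i hi'
    · intro i hi
      have hii : i ≠ i0 := by
        intro h
        rw [h] at hi
        simp only [hi0] at hi
        omega
      rw [act_mul, act_mul, (hfix i hii).1, (hfix i hii).2]
      exact hge i (by omega)
    · intro hev'
      have hodd' : Odd m := by
        rcases Nat.even_or_odd m with h | h
        · exact absurd hev' (by rw [Nat.even_add_one]; exact not_not.2 h)
        · exact h
      exact hodd hodd' x hqx
    · intro hodd' y hy
      have hev' : Even m := by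
        rcases Nat.even_or_odd m with h | h
        · exact h
        · exact absurd hodd' (by rw [Nat.odd_add_one]; exact not_not.2 h)
      rw [mul_assoc]
      exact mul_mem (hev hev') (rf_mul_rf_mem_NN hQ hn x y (by rw [hqx, hy]))

include hD hts in
/-- an element of `NN` interchanging the two members, when their dimension is even -/
lemma exists_swap (hn : 5 ≤ Fintype.card ι) (hk : Even k) : ∃ s : GL ι F, s ∈ NN hQ ∧
    (∀ x ∈ D 0, act s x ∈ D 1) ∧ (∀ x ∈ D 1, act s x ∈ D 0) := by
  classical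
  obtain ⟨bU, bW, hdual⟩ := exists_dual_bases hQ D hD hts
  obtain ⟨s, -, hlt, -, hev, -⟩ := exists_partial_swap hQ hn (fun i => (bU i : ι → F))
    (fun i => (bW i : ι → F)) (fun i => hts 0 _ (bU i).2) (fun i => hts 1 _ (bW i).2)
    (fun i j => polar_eq_zero_of_ts (D 0) (hts 0) _ _ (bU i).2 (bU j).2)
    (fun i j => polar_eq_zero_of_ts (D 1) (hts 1) _ _ (bW i).2 (bW j).2) hdual k (le_refl _)
  refine ⟨s, hev hk, ?_, ?_⟩
  · intro x hx
    have hx' : x = ∑ i, (bU.repr ⟨x, hx⟩ i) • (bU i : ι → F) := by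
      have h3 : ((∑ i, (bU.repr ⟨x, hx⟩) i • bU i : D 0) : ι → F) = x :=
        congrArg Subtype.val (bU.sum_repr ⟨x, hx⟩)
      refine h3.symm.trans ?_
      rw [Submodule.coe_sum]
      rfl
    rw [hx']
    show Matrix.mulVecLin (s : Matrix ι ι F) _ ∈ D 1
    rw [map_sum]
    refine Submodule.sum_mem _ (fun i _ => ?_)
    rw [map_smul]
    refine Submodule.smul_mem _ _ ?_
    show act s (bU i : ι → F) ∈ D 1
    rw [(hlt i i.2).1]
    exact (bW i).2
  · intro x hx
    have hx' : x = ∑ i, (bW.repr ⟨x, hx⟩ i) • (bW i : ι → F) := by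
      have h3 : ((∑ i, (bW.repr ⟨x, hx⟩) i • bW i : D 1) : ι → F) = x :=
        congrArg Subtype.val (bW.sum_repr ⟨x, hx⟩)
      refine h3.symm.trans ?_
      rw [Submodule.coe_sum]
      rfl
    rw [hx']
    show Matrix.mulVecLin (s : Matrix ι ι F) _ ∈ D 0
    rw [map_sum]
    refine Submodule.sum_mem _ (fun i _ => ?_)
    rw [map_smul]
    refine Submodule.smul_mem _ _ ?_
    show act s (bW i : ι → F) ∈ D 0
    rw [(hlt i i.2).2]
    exact (bU i).2

end OLagB

end Cfsg.Agent.H9.Orth
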