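import Mathlib
import Cfsg.Agent.H9.OrthJ

set_option autoImplicit false
set_option linter.unusedSectionVars false
set_option linter.style.haveILetI false
open Cfsg

/-!
Geometry relative to a nondegenerate subspace `A` (with `B = A^⊥`), and the irreducibility of the
isometry group of `A` on `A` (any characteristic).
-/

namespace Cfsg.Agent.H9.Orth

open Matrix
open scoped commutatorElement

section RelGeom

variable {ι : Type} [Fintype ι] [DecidableEq ι] {F : Type*} [Field F] [Fintype F]
variable {Q : (ι → F) → F}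
variable (hQ : Cfsg.Geo.IsNondegenerateQuadraticForm Q)

include hQ

lemma sup_perp_eq_top (A : Submodule F (ι → F)) (hA : A ⊓ perp hQ A = ⊥) :
    A ⊔ perp hQ A = ⊤ := by
  apply Submodule.eq_top_of_finrank_eq
  have h1 := Submodule.finrank_sup_add_finrank_inf_eq A (perp hQ A)
  rw [hA, finrank_bot, add_zero, finrank_add_finrank_perp hQ A] at h1
  rw [h1, Module.finrank_fintype_fun_eq_card]

lemma exists_decomp (A : Submodule F (ι → F)) (hA : A ⊓ perp hQ A = ⊥) (v : ι → F) :
    ∃ a ∈ A, ∃ b ∈ perp hQ A, v = a + b := by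
  have h2 : v ∈ A ⊔ perp hQ A := by rw [sup_perp_eq_top hQ A hA]; trivial
  obtain ⟨a, ha, b, hb, hab⟩ := Submodule.mem_sup.1 h2
  exact ⟨a, ha, b, hb, hab.symm⟩

lemma decomp_unique (A : Submodule F (ι → F)) (hA : A ⊓ perp hQ A = ⊥) (a a' b b' : ι → F)
    (ha : a ∈ A) (ha' : a' ∈ A) (hb : b ∈ perp hQ A) (hb' : b' ∈ perp hQ A)
    (h : a + b = a' + b') : a = a' ∧ b = b' := by
  have h1 : a - a' = b' - b := by
    have : a - a' + (a' + b) = b' - b + (a' + b) := by
      have e1 : a - a' + (a' + b) = a + b := by abel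
      have e2 : b' - b + (a' + b) = a' + b' := by abel
      rw [e1, e2, h]
    exact add_right_cancel this
  have h2 : a - a' ∈ A ⊓ perp hQ A :=
    Submodule.mem_inf.2 ⟨A.sub_mem ha ha', by rw [h1]; exact Submodule.sub_mem _ hb' hb⟩
  rw [hA, Submodule.mem_bot] at h2
  have h3 : b' - b = 0 := by rw [← h1, h2]
  exact ⟨sub_eq_zero.1 h2, (sub_eq_zero.1 h3).symm⟩

lemma inf_perp_mem_eq_zero (A : Submodule F (ι → F)) (hA : A ⊓ perp hQ A = ⊥) (x : ι → F)
    (h1 : x ∈ A) (h2 : x ∈ perp hQ A) : x = 0 := by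
  have : x ∈ A ⊓ perp hQ A := Submodule.mem_inf.2 ⟨h1, h2⟩
  rwa [hA, Submodule.mem_bot] at this

/-- two linear conditions cut the dimension by at most two -/
lemma finrank_inf_perp_pair (X : Submodule F (ι → F)) (p q : ι → F) :
    Module.finrank F X ≤ Module.finrank F (X ⊓ perp hQ (Submodule.span F {p, q}) :
      Submodule F (ι → F)) + 2 := by
  have h1 := Submodule.finrank_sup_add_finrank_inf_eq X (perp hQ (Submodule.span F {p, q}))
  have h2 := finrank_add_finrank_perp hQ (Submodule.span F {p, q})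
  have h3 := finrank_span_pair_le (F := F) p q
  have h4 : Module.finrank F (X ⊔ perp hQ (Submodule.span F {p, q}) : Submodule F (ι → F)) ≤
      Fintype.card ι := by
    have := (X ⊔ perp hQ (Submodule.span F {p, q})).finrank_le
    rwa [Module.finrank_fintype_fun_eq_card] at this
  omega

lemma finrank_inf_perp_singleton (X : Submodule F (ι → F)) (p : ι → F) :
    Module.finrank F X ≤ Module.finrank F (X ⊓ perp hQ (Submodule.span F {p}) :
      Submodule F (ι → F)) + 1 := by
  have h1 := Submodule.finrank_sup_add_finrank_inf_eq X (perp hQ (Submodule.span F {p}))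
  have h2 := finrank_add_finrank_perp hQ (Submodule.span F {p})
  have h3 := finrank_span_singleton_le (F := F) p
  have h4 : Module.finrank F (X ⊔ perp hQ (Submodule.span F {p}) : Submodule F (ι → F)) ≤
      Fintype.card ι := by
    have := (X ⊔ perp hQ (Submodule.span F {p})).finrank_le
    rwa [Module.finrank_fintype_fun_eq_card] at this
  omega

/-- a nonzero singular vector of `B` perpendicular to two given vectors -/
lemma exists_singular_perp_pair (B : Submodule F (ι → F)) (hb : 5 ≤ Module.finrank F B)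
    (p q : ι → F) : ∃ e ∈ B, e ≠ 0 ∧ Q e = 0 ∧ pol Q p e = 0 ∧ pol Q q e = 0 := by
  have h1 := finrank_inf_perp_pair hQ B p q
  obtain ⟨e, he, he0, hqe⟩ := exists_singular_of_finrank hQ
    (B ⊓ perp hQ (Submodule.span F {p, q})) (by omega)
  obtain ⟨heB, hep⟩ := Submodule.mem_inf.1 he
  rw [mem_perp_span_pair] at hep
  exact ⟨e, heB, he0, hqe, hep.1, hep.2⟩

/-- a hyperbolic partner inside `B = A^⊥` -/
lemma exists_partner_in (A : Submodule F (ι → F)) (hA : A ⊓ perp hQ A = ⊥) (e : ι → F)
    (heB : e ∈ perp hQ A) (he0 : e ≠ 0) (hqe : Q e = 0) :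
    ∃ f ∈ perp hQ A, Q f = 0 ∧ pol Q e f = 1 := by
  have heA : e ∉ A := fun h => he0 (inf_perp_mem_eq_zero hQ A hA e h heB)
  obtain ⟨f, hf, hef, hfB⟩ := exists_partner hQ A e hqe heB heA
  exact ⟨f, hfB, hf, hef⟩

/-- a hyperbolic pair of `B = A^⊥` perpendicular to a given hyperbolic pair of `B` -/
lemma exists_hyp_perp_hyp (A : Submodule F (ι → F)) (hA : A ⊓ perp hQ A = ⊥)
    (hb : 5 ≤ Module.finrank F (perp hQ A)) (u f : ι → F) (hu : u ∈ perp hQ A)
    (hf : f ∈ perp hQ A) (hqu : Q u = 0) (hqf : Q f = 0) (huf : pol Q u f = 1) :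
    ∃ e' f' : ι → F, e' ∈ perp hQ A ∧ f' ∈ perp hQ A ∧ Q e' = 0 ∧ Q f' = 0 ∧ pol Q e' f' = 1 ∧
      pol Q u e' = 0 ∧ pol Q f e' = 0 ∧ pol Q u f' = 0 ∧ pol Q f f' = 0 := by
  have hsp : Submodule.span F {u, f} ≤ perp hQ A := by
    rw [Submodule.span_le]
    rintro v (rfl | rfl)
    · exact hu
    · exact hf
  have hR := sup_nondeg hQ A _ hA hsp (hyp_nondeg hQ u f hqu hqf huf)
  have h1 := finrank_add_finrank_perp hQ (A ⊔ Submodule.span F {u, f})
  have h2 := finrank_add_finrank_perp hQ A
  have h3 := Submodule.finrank_add_le_finrank_add_finrank A (Submodule.span F {u, f})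
  have h4 := finrank_span_pair_le (F := F) u f
  obtain ⟨e', f', he', hf', hqe', hqf', hef'⟩ := exists_hyperbolic_pair hQ
    (A ⊔ Submodule.span F {u, f}) hR (by omega)
  have hle1 : perp hQ (A ⊔ Submodule.span F {u, f}) ≤ perp hQ A := perp_anti hQ le_sup_left
  have hle2 : perp hQ (A ⊔ Submodule.span F {u, f}) ≤ perp hQ (Submodule.span F {u, f}) :=
    perp_anti hQ le_sup_right
  have h5 := hle2 he'
  have h6 := hle2 hf'
  rw [mem_perp_span_pair] at h5 h6
  exact ⟨e', f', hle1 he', hle1 hf', hqe', hqf', hef', h5.1, h5.2, h6.1, h6.2⟩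

/-- a vector of `B = A^⊥` of prescribed norm perpendicular to a given hyperbolic pair of `B` -/
lemma exists_norm_perp_hyp (A : Submodule F (ι → F)) (hA : A ⊓ perp hQ A = ⊥)
    (hb : 5 ≤ Module.finrank F (perp hQ A)) (u f : ι → F) (hu : u ∈ perp hQ A)
    (hf : f ∈ perp hQ A) (hqu : Q u = 0) (hqf : Q f = 0) (huf : pol Q u f = 1) (c : F) :
    ∃ y ∈ perp hQ A, Q y = c ∧ pol Q u y = 0 ∧ pol Q f y = 0 := by
  obtain ⟨e', f', he', hf', hqe', hqf', hef', h1, h2, h3, h4⟩ :=
    exists_hyp_perp_hyp hQ A hA hb u f hu hf hqu hqf huf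
  refine ⟨e' + c • f', Submodule.add_mem _ he' (Submodule.smul_mem _ _ hf'), ?_, ?_, ?_⟩
  · rw [Q_add_smul hQ, hqe', hqf', hef']; ring
  · rw [pol_add_right hQ, pol_smul_right hQ, h1, h3]; ring
  · rw [pol_add_right hQ, pol_smul_right hQ, h2, h4]; ring

/-- every vector of `B = A^⊥` is a sum of singular vectors of `B` -/
lemma mem_of_singular_mem (A : Submodule F (ι → F)) (hA : A ⊓ perp hQ A = ⊥)
    (hb : 3 ≤ Module.finrank F (perp hQ A)) (S : Submodule F (ι → F))
    (hS : ∀ e ∈ perp hQ A, Q e = 0 → e ∈ S) : perp hQ A ≤ S := by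
  obtain ⟨e, f, he, hf, hqe, hqf, hef⟩ := exists_hyperbolic_pair hQ A hA hb
  intro y hy
  set z := y - pol Q y f • e - pol Q y e • f with hz
  have hzB : z ∈ perp hQ A :=
    Submodule.sub_mem _ (Submodule.sub_mem _ hy (Submodule.smul_mem _ _ he))
      (Submodule.smul_mem _ _ hf)
  have hze : pol Q z e = 0 := by
    rw [hz, pol_sub_left hQ, pol_sub_left hQ, pol_smul_left hQ, pol_smul_left hQ, pol_self hQ,
      hqe, pol_comm f e, hef]; ring
  have hzf : pol Q z f = 0 := by
    rw [hz, pol_sub_left hQ, pol_sub_left hQ, pol_smul_left hQ, pol_smul_left hQ, pol_self hQ,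
      hqf, hef]; ring
  have h1 : z + e + (-Q z) • f ∈ S := by
    apply hS
    · exact Submodule.add_mem _ (Submodule.add_mem _ hzB he) (Submodule.smul_mem _ _ hf)
    · rw [Q_add_smul hQ, Q_add Q, hqe, hqf, pol_add_left hQ, hze, hzf, hef]; ring
  have h2 : e ∈ S := hS e he hqe
  have h3 : f ∈ S := hS f hf hqf
  have e1 : y = (z + e + (-Q z) • f) + (pol Q y f - 1) • e + (pol Q y e + Q z) • f := by
    rw [hz]; module
  rw [e1]
  exact S.add_mem (S.add_mem h1 (S.smul_mem _ h2)) (S.smul_mem _ h3)

/-- nondegeneracy of `A` in elementwise form -/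
lemma exists_pol_ne_in (A : Submodule F (ι → F)) (hA : A ⊓ perp hQ A = ⊥) (x : ι → F)
    (hxA : x ∈ A) (hx0 : x ≠ 0) : ∃ z ∈ A, pol Q x z ≠ 0 := by
  by_contra hcon
  push Not at hcon
  apply hx0
  apply inf_perp_mem_eq_zero hQ A hA x hxA
  rw [mem_perp']
  exact hcon

/-- a hyperbolic partner inside the nondegenerate subspace `A` -/
lemma exists_partner_self (A : Submodule F (ι → F)) (hA : A ⊓ perp hQ A = ⊥) (e : ι → F)
    (heA : e ∈ A) (he0 : e ≠ 0) (hqe : Q e = 0) : ∃ f ∈ A, Q f = 0 ∧ pol Q e f = 1 := by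
  have h1 : e ∈ perp hQ (perp hQ A) := by rw [perp_perp]; exact heA
  have h2 : e ∉ perp hQ A := fun h => he0 (inf_perp_mem_eq_zero hQ A hA e heA h)
  obtain ⟨f, hf, hef, hfA⟩ := exists_partner hQ (perp hQ A) e hqe h1 h2
  rw [perp_perp] at hfA
  exact ⟨f, hfA, hf, hef⟩

/-- the isometry group of a nondegenerate space `A` acts irreducibly on `A`, except for the
hyperbolic planes over the fields with two and three elements -/
theorem irred_of (A : Submodule F (ι → F)) (hA : A ⊓ perp hQ A = ⊥)
    (hex : ¬ (Fintype.card F ≤ 3 ∧ Module.finrank F A = 2 ∧ ∃ e ∈ A, e ≠ 0 ∧ Q e = 0))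
    (T : Submodule F (ι → F)) (hTA : T ≤ A) (hT0 : T ≠ ⊥)
    (hrf : ∀ x ∈ A, Q x ≠ 0 → ∀ t ∈ T, act (rf hQ x) t ∈ T)
    (hsg : ∀ e ∈ A, ∀ w ∈ A, ∀ t ∈ T, act (sg hQ e w) t ∈ T) : T = A := by
  classical
  obtain ⟨t, htT, ht0⟩ := Submodule.exists_mem_ne_zero_of_ne_bot hT0
  have htA : t ∈ A := hTA htT
  by_cases h3 : 3 ≤ Module.finrank F A
  · -- the argument with Siegel transformations
    obtain ⟨e0, he0A, he00, hqe0⟩ := exists_singular_of_finrank hQ A h3
    obtain ⟨f0, hf0A, hqf0, hef0⟩ := exists_partner_self hQ A hA e0 he0A he00 hqe0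
    -- a singular vector of `A` not perpendicular to `t`
    have hes : ∃ e ∈ A, Q e = 0 ∧ pol Q t e ≠ 0 := by
      by_cases h1 : pol Q t e0 ≠ 0
      · exact ⟨e0, he0A, hqe0, h1⟩
      by_cases h2 : pol Q t f0 ≠ 0
      · exact ⟨f0, hf0A, hqf0, h2⟩
      push Not at h1 h2
      obtain ⟨z, hzA, hz⟩ := exists_pol_ne_in hQ A hA t htA ht0
      set z' := z - pol Q z f0 • e0 - pol Q z e0 • f0 with hz'
      have hz'A : z' ∈ A :=
        A.sub_mem (A.sub_mem hzA (A.smul_mem _ he0A)) (A.smul_mem _ hf0A)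
      have hz'e : pol Q z' e0 = 0 := by
        rw [hz', pol_sub_left hQ, pol_sub_left hQ, pol_smul_left hQ, pol_smul_left hQ,
          pol_self hQ, hqe0, pol_comm f0 e0, hef0]; ring
      have hz'f : pol Q z' f0 = 0 := by
        rw [hz', pol_sub_left hQ, pol_sub_left hQ, pol_smul_left hQ, pol_smul_left hQ,
          pol_self hQ, hqf0, hef0]; ring
      have htz' : pol Q t z' = pol Q t z := by
        rw [hz', pol_sub_right hQ, pol_sub_right hQ, pol_smul_right hQ, pol_smul_right hQ, h1,
          h2]; ring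
      refine ⟨z' + e0 + (-Q z') • f0, A.add_mem (A.add_mem hz'A he0A) (A.smul_mem _ hf0A), ?_, ?_⟩
      · rw [Q_add_smul hQ, Q_add Q, hqe0, hqf0, pol_add_left hQ, hz'e, hz'f, hef0]; ring
      · rw [pol_add_right hQ, pol_add_right hQ, pol_smul_right hQ, h1, h2, htz']
        simpa using hz
    obtain ⟨e, heA, hqe, hte⟩ := hes
    have he0 : e ≠ 0 := by
      rintro rfl
      exact hte (pol_zero_right hQ t)
    obtain ⟨f, hfA, hqf, hef⟩ := exists_partner_self hQ A hA e heA he0 hqe
    set c := pol Q t e with hc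
    -- the basic vectors of `T`
    have hv : ∀ w ∈ A, pol Q e w = 0 → (pol Q t w - Q w * c) • e - c • w ∈ T := by
      intro w hwA hew
      have h1 := hsg e heA w hwA t htT
      rw [act_sg hQ e w hqe hew] at h1
      have h2 := T.sub_mem h1 htT
      have e1 : t + (pol Q t w - Q w * pol Q t e) • e - pol Q t e • w - t =
          (pol Q t w - Q w * c) • e - c • w := by
        rw [hc]; module
      rwa [e1] at h2
    -- two non-orthogonal vectors of `A ∩ e^⊥`
    have hw1 : ∃ w1 ∈ A, w1 ≠ 0 ∧ pol Q e w1 = 0 ∧ pol Q f w1 = 0 := by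
      have h1 := finrank_inf_perp_pair hQ A e f
      have h2 : 0 < Module.finrank F (A ⊓ perp hQ (Submodule.span F {e, f}) :
          Submodule F (ι → F)) := by omega
      obtain ⟨w1, hw10⟩ := (Module.finrank_pos_iff_exists_ne_zero (R := F)).1 h2
      have hw10' : (w1 : ι → F) ≠ 0 := fun h => hw10 (Subtype.ext h)
      obtain ⟨hw1A, hw1p⟩ := Submodule.mem_inf.1 w1.2
      rw [mem_perp_span_pair] at hw1p
      exact ⟨w1, hw1A, hw10', hw1p.1, hw1p.2⟩
    obtain ⟨w1, hw1A, hw10, hew1, hfw1⟩ := hw1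
    obtain ⟨w2', hw2'A, hw12'⟩ := exists_pol_ne_in hQ A hA w1 hw1A hw10
    set w2 := w2' - pol Q e w2' • f with hw2
    have hw2A : w2 ∈ A := A.sub_mem hw2'A (A.smul_mem _ hfA)
    have hew2 : pol Q e w2 = 0 := by
      rw [hw2, pol_sub_right hQ, pol_smul_right hQ, hef]; ring
    have hw12 : pol Q w1 w2 ≠ 0 := by
      rw [hw2, pol_sub_right hQ, pol_smul_right hQ, pol_comm w1 f, hfw1, mul_zero, sub_zero]
      exact hw12'
    have heT : e ∈ T := by
      have h1 := hv w1 hw1A hew1
      have h2 := hv w2 hw2A hew2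
      have h3 := hv (w1 + w2) (A.add_mem hw1A hw2A) (by rw [pol_add_right hQ, hew1, hew2, add_zero])
      have h4 := T.sub_mem (T.add_mem h1 h2) h3
      have e1 : (pol Q t w1 - Q w1 * c) • e - c • w1 + ((pol Q t w2 - Q w2 * c) • e - c • w2) -
          ((pol Q t (w1 + w2) - Q (w1 + w2) * c) • e - c • (w1 + w2)) =
          (c * pol Q w1 w2) • e := by
        rw [pol_add_right hQ, Q_add Q]; module
      rw [e1] at h4
      have h5 := T.smul_mem (c * pol Q w1 w2)⁻¹ h4
      rwa [smul_smul, inv_mul_cancel₀ (mul_ne_zero hte hw12), one_smul] at h5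
    have hperp : ∀ w ∈ A, pol Q e w = 0 → w ∈ T := by
      intro w hwA hew
      have h1 := hv w hwA hew
      have h2 := T.sub_mem (T.smul_mem (pol Q t w - Q w * c) heT) h1
      have e1 : (pol Q t w - Q w * c) • e - ((pol Q t w - Q w * c) • e - c • w) = c • w := by
        module
      rw [e1] at h2
      have h3 := T.smul_mem c⁻¹ h2
      rwa [smul_smul, inv_mul_cancel₀ hte, one_smul] at h3
    apply le_antisymm hTA
    intro y hyA
    have h1 : y - (pol Q e y * c⁻¹) • t ∈ T := by
      apply hperp _ (A.sub_mem hyA (A.smul_mem _ htA))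
      rw [pol_sub_right hQ, pol_smul_right hQ, pol_comm e t, ← hc]
      field_simp
      ring
    have h2 := T.add_mem h1 (T.smul_mem (pol Q e y * c⁻¹) htT)
    rwa [sub_add_cancel] at h2
  · -- small dimension: the argument with reflections
    push Not at h3
    by_cases h1 : Module.finrank F A ≤ 1
    · apply Submodule.eq_of_le_of_finrank_le hTA
      have : 0 < Module.finrank F T := by
        rw [Module.finrank_pos_iff_exists_ne_zero (R := F)]
        exact ⟨⟨t, htT⟩, fun h => ht0 (congrArg Subtype.val h)⟩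
      omega
    push Not at h1
    have h2 : Module.finrank F A = 2 := by omega
    by_contra hne
    have hlt : T < A := lt_of_le_of_ne hTA hne
    -- reflections
    have claim1 : ∀ x ∈ A, Q x ≠ 0 → x ∈ T ∨ pol Q t x = 0 := by
      intro x hxA hqx
      by_cases hp : pol Q t x = 0
      · exact Or.inr hp
      left
      have h4 := hrf x hxA hqx t htT
      rw [act_rf hQ x hqx] at h4
      have h5 := T.sub_mem htT h4
      rw [sub_sub_cancel] at h5
      have h6 := T.smul_mem ((Q x)⁻¹ * pol Q t x)⁻¹ h5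
      rwa [smul_smul, inv_mul_cancel₀ (mul_ne_zero (inv_ne_zero hqx) hp), one_smul] at h6
    obtain ⟨z0, hz0A, hz0T⟩ := SetLike.exists_of_lt hlt
    have hz : ∃ z ∈ A, z ∉ T ∧ pol Q t z ≠ 0 := by
      by_contra hcon
      push Not at hcon
      obtain ⟨y, hyA, hy⟩ := exists_pol_ne_in hQ A hA t htA ht0
      apply hy
      by_cases hyT : y ∈ T
      · have h4 : y + z0 ∉ T := fun h => hz0T ((Submodule.add_mem_iff_right T hyT).1 h)
        have h5 := hcon (y + z0) (A.add_mem hyA hz0A) h4
        rw [pol_add_right hQ, hcon z0 hz0A hz0T, add_zero] at h5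
        exact h5
      · exact hcon y hyA hyT
    obtain ⟨z, hzA, hzT, hp⟩ := hz
    have hzc : ∀ c : F, z + c • t ∉ T := fun c h =>
      hzT ((Submodule.add_mem_iff_left T (T.smul_mem c htT)).1 h)
    have hzc0 : ∀ c : F, z + c • t ≠ 0 := fun c h => hzc c (by rw [h]; exact T.zero_mem)
    have hzcA : ∀ c : F, z + c • t ∈ A := fun c => A.add_mem hzA (A.smul_mem c htA)
    have key : ∀ c : F, pol Q t z + c * (2 * Q t) ≠ 0 → Q z + c ^ 2 * Q t + c * pol Q t z = 0 := by
      intro c hc
      by_contra hq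
      have hq' : Q (z + c • t) ≠ 0 := by
        rw [Q_add_smul hQ, pol_comm z t]; exact hq
      rcases claim1 _ (hzcA c) hq' with h | h
      · exact hzc c h
      · rw [pol_add_right hQ, pol_smul_right hQ, pol_self hQ] at h
        exact hc h
    have hcard : ∀ c : F, Q z + c ^ 2 * Q t + c * pol Q t z = 0 → 4 ≤ Fintype.card F := by
      intro c hc
      by_contra hlt4
      apply hex
      refine ⟨by omega, h2, z + c • t, hzcA c, hzc0 c, ?_⟩
      rw [Q_add_smul hQ, pol_comm z t]; exact hc
    by_cases h2t : 2 * Q t = 0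
    · have key' : ∀ c : F, Q z + c ^ 2 * Q t + c * pol Q t z = 0 := by
        intro c
        apply key
        rw [h2t, mul_zero, add_zero]; exact hp
      have h4 := hcard 0 (key' 0)
      have hqz : Q z = 0 := by have := key' 0; simpa using this
      have hqt : Q t + pol Q t z = 0 := by have := key' 1; rw [hqz] at this; simpa using this
      have hall : ∀ c : F, c ≠ 0 → c = 1 := by
        intro c hc0
        have h5 := key' c
        rw [hqz, zero_add] at h5
        have h6 : c * (c * Q t + pol Q t z) = 0 := by linear_combination h5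
        have h7 : c * Q t + pol Q t z = 0 := by
          rcases mul_eq_zero.1 h6 with h | h
          · exact absurd h hc0
          · exact h
        have h8 : (c - 1) * Q t = 0 := by linear_combination h7 - hqt
        rcases mul_eq_zero.1 h8 with h | h
        · exact sub_eq_zero.1 h
        · exfalso
          apply hp
          rw [h, zero_add] at hqt
          exact hqt
      have h5 : (2 : ℕ) < (Finset.univ : Finset F).card := by rw [Finset.card_univ]; omega
      obtain ⟨a, b, d, -, -, -, hab, had, hbd⟩ := Finset.two_lt_card_iff.1 h5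
      by_cases ha : a = 0
      · have hb : b = 1 := hall b (fun h => hab (ha.trans h.symm))
        have hd : d = 1 := hall d (fun h => had (ha.trans h.symm))
        exact hbd (hb.trans hd.symm)
      · have ha1 := hall a ha
        by_cases hb : b = 0
        · have hd : d = 1 := hall d (fun h => hbd (hb.trans h.symm))
          exact had (ha1.trans hd.symm)
        · exact hab (ha1.trans (hall b hb).symm)
    · set c0 := -(pol Q t z) / (2 * Q t) with hc0
      have key' : ∀ c : F, c ≠ c0 → Q z + c ^ 2 * Q t + c * pol Q t z = 0 := by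
        intro c hc
        apply key
        intro h
        apply hc
        rw [hc0, eq_div_iff h2t]
        linear_combination h
      have h4 : 4 ≤ Fintype.card F :=
        hcard (c0 + 1) (key' (c0 + 1) (by intro h; simp at h))
      have h5 : (2 : ℕ) < ((Finset.univ : Finset F).erase c0).card := by
        rw [Finset.card_erase_of_mem (Finset.mem_univ _), Finset.card_univ]; omega
      obtain ⟨c1, c2, c3, h1m, h2m, h3m, h12, h13, h23⟩ := Finset.two_lt_card_iff.1 h5
      have e1 := key' c1 (Finset.ne_of_mem_erase h1m)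
      have e2 := key' c2 (Finset.ne_of_mem_erase h2m)
      have e3 := key' c3 (Finset.ne_of_mem_erase h3m)
      have f1 : (c1 - c2) * ((c1 + c2) * Q t + pol Q t z) = 0 := by linear_combination e1 - e2
      have f2 : (c1 - c3) * ((c1 + c3) * Q t + pol Q t z) = 0 := by linear_combination e1 - e3
      have g1 : (c1 + c2) * Q t + pol Q t z = 0 := by
        rcases mul_eq_zero.1 f1 with h | h
        · exact absurd (sub_eq_zero.1 h) h12
        · exact h
      have g2 : (c1 + c3) * Q t + pol Q t z = 0 := by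
        rcases mul_eq_zero.1 f2 with h | h
        · exact absurd (sub_eq_zero.1 h) h13
        · exact h
      have g3 : (c2 - c3) * Q t = 0 := by linear_combination g1 - g2
      rcases mul_eq_zero.1 g3 with h | h
      · exact h23 (sub_eq_zero.1 h)
      · apply h2t
        rw [h, mul_zero]

end RelGeom

end Cfsg.Agent.H9.Orth
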