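import Mathlib
import Cfsg.Agent.H9.OrthR
import Cfsg.Agent.H9.OLagB

set_option autoImplicit false
set_option linter.unusedSectionVars false
set_option linter.style.haveILetI false
open Cfsg

/-!
Maximality in `Ω` of the stabilizer of a nondegenerate subspace: the general position argument.
-/

namespace Cfsg.Agent.H9.Orth

open Matrix
open scoped commutatorElement

section NondegStabA

variable {ι : Type} [Fintype ι] [DecidableEq ι] {F : Type*} [Field F] [Fintype F]
variable {Q : (ι → F) → F}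
variable (hQ : Cfsg.Geo.IsNondegenerateQuadraticForm Q)

include hQ

omit hQ in
/-- an element fixing `A` pointwise stabilizes `A` -/
lemma mem_stab_of_fix (A : Submodule F (ι → F)) (g : GL ι F) (h : ∀ a ∈ A, act g a = a) :
    g ∈ Cfsg.Geo.subspaceStabilizer A := by
  apply mem_stab_of A g
  · intro v hv; rw [h v hv]; exact hv
  · intro v hv
    have : act g⁻¹ v = act g⁻¹ (act g v) := by rw [h v hv]
    rw [this, act_inv_act]; exact hv

/-- a Siegel transformation fixes the vectors perpendicular to its two defining vectors -/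
lemma act_sg_perp (e w r : ι → F) (h1 : pol Q r e = 0) (h2 : pol Q r w = 0) :
    act (sg hQ e w) r = r := by
  by_cases h : Q e = 0 ∧ pol Q e w = 0
  · rw [act_sg hQ e w h.1 h.2, h1, h2]; module
  · rw [sg_of_not hQ e w h, act_one]

variable (A : Submodule F (ι → F)) (hA : A ⊓ perp hQ A = ⊥)
variable (M : Subgroup (GL ι F)) (hMi : M ≤ Cfsg.isometryGroup F Q)

include hA in
/-- membership in `A ⊔ ⟨e⟩` for `e ∈ A^⊥` is detected on the `A^⊥`-component -/
lemma comp_mem_span_of_mem_sup (e vA vB : ι → F) (he : e ∈ perp hQ A) (hvA : vA ∈ A)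
    (hvB : vB ∈ perp hQ A) (h : vA + vB ∈ A ⊔ Submodule.span F {e}) :
    vB ∈ Submodule.span F {e} := by
  obtain ⟨a, ha, s, hs, has⟩ := Submodule.mem_sup.1 h
  obtain ⟨c, rfl⟩ := Submodule.mem_span_singleton.1 hs
  have := decomp_unique hQ A hA a vA (c • e) vB ha hvA (Submodule.smul_mem _ c he) hvB has
  rw [← this.2]
  exact Submodule.smul_mem _ c (Submodule.mem_span_singleton_self e)

include hA hMi in
/-- general position: a conjugate moving `A` but fixing a singular vector of `A^⊥` -/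
lemma exists_good_conj_aux (hb : 7 ≤ Module.finrank F (perp hQ A))
    (hAB : ∀ g ∈ Cfsg.isometryGroup F Q, ¬ ∀ y ∈ perp hQ A, act g y ∈ A)
    (hF1 : ∀ u w : ι → F, u ∈ perp hQ A → w ∈ perp hQ A → sg hQ u w ∈ M)
    (g : GL ι F) (hgM : g ∈ M) (x0 : ι → F) (hx0 : x0 ∈ A) (hx : act g⁻¹ x0 ∉ A) :
    ∃ g' ∈ M, g' ∉ Cfsg.Geo.subspaceStabilizer A ∧
      ∃ p ∈ perp hQ A, p ≠ 0 ∧ Q p = 0 ∧ act g' p ∈ perp hQ A := by
  have hgi := hMi hgM
  set S : Submodule F (ι → F) := A.comap (Matrix.mulVecLin (g : Matrix ι ι F)) with hS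
  have hSmem : ∀ v, v ∈ S ↔ act g v ∈ A := fun v => Iff.rfl
  -- the claim
  have claim : ∃ e w : ι → F, e ∈ perp hQ A ∧ w ∈ perp hQ A ∧ ∃ v, v ∈ S ∧
      act (sg hQ e w) v ∉ S := by
    by_contra hcon
    push Not at hcon
    -- step a
    have stepa : ∀ v ∈ S, ∀ e ∈ perp hQ A, Q e = 0 → pol Q v e = 0 →
        v ∉ A ⊔ Submodule.span F {e} → e ∈ S := by
      intro v hv e he hqe hve hvn
      obtain ⟨y, hyv, hyU⟩ := exists_pol_eq_one hQ (A ⊔ Submodule.span F {e}) v hvn
      have hyB : y ∈ perp hQ A := by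
        rw [mem_perp']
        intro d hd
        exact hyU d (Submodule.mem_sup_left hd)
      have hey : pol Q e y = 0 := by
        rw [pol_comm]
        exact hyU e (Submodule.mem_sup_right (Submodule.mem_span_singleton_self e))
      have h1 := hcon e y he hyB v hv
      rw [act_sg hQ e y hqe hey, hve, pol_comm v y, hyv] at h1
      have h2 := S.sub_mem h1 hv
      have e1 : v + (1 - Q y * 0) • e - (0 : F) • y - v = e := by module
      rwa [e1] at h2
    set x := act g⁻¹ x0 with hxdef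
    have hxS : x ∈ S := by
      rw [hSmem, hxdef, act_act_inv]; exact hx0
    obtain ⟨xA, hxA, xB, hxB, hxAB⟩ := exists_decomp hQ A hA x
    have hxB0 : xB ≠ 0 := by
      rintro rfl
      rw [add_zero] at hxAB
      rw [hxAB] at hx
      exact hx hxA
    -- the first singular vector
    have hE := finrank_inf_perp_singleton hQ (perp hQ A) x
    have hR := finrank_span_singleton_le (F := F) xB
    obtain ⟨e1, he1E, he1R, hqe1⟩ := exists_singular_notMem hQ
      (perp hQ A ⊓ perp hQ (Submodule.span F {x})) (Submodule.span F {xB}) (by omega)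
    obtain ⟨he1B, he1x⟩ := Submodule.mem_inf.1 he1E
    rw [mem_perp_span_singleton] at he1x
    have he10 : e1 ≠ 0 := by
      rintro rfl
      exact he1R (Submodule.zero_mem _)
    have he1S : e1 ∈ S := by
      apply stepa x hxS e1 he1B hqe1 he1x
      intro h
      rw [hxAB] at h
      have h2 := comp_mem_span_of_mem_sup hQ A hA e1 xA xB he1B hxA hxB h
      obtain ⟨c, hc⟩ := Submodule.mem_span_singleton.1 h2
      have hc0 : c ≠ 0 := by
        rintro rfl
        rw [zero_smul] at hc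
        exact hxB0 hc.symm
      apply he1R
      have : e1 = c⁻¹ • xB := by rw [← hc, smul_smul, inv_mul_cancel₀ hc0, one_smul]
      rw [this]
      exact Submodule.smul_mem _ _ (Submodule.mem_span_singleton_self xB)
    -- propagation
    have stepc : ∀ e' ∈ perp hQ A, e' ∈ S → ∀ e ∈ perp hQ A, Q e = 0 → pol Q e' e = 0 →
        e' ∉ Submodule.span F {e} → e ∈ S := by
      intro e' he'B he'S e he hqe hee' hne
      apply stepa e' he'S e he hqe hee'
      intro h
      have h2 : (0 : ι → F) + e' ∈ A ⊔ Submodule.span F {e} := by rw [zero_add]; exact h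
      exact hne (comp_mem_span_of_mem_sup hQ A hA e 0 e' he A.zero_mem he'B h2)
    have hall : ∀ e ∈ perp hQ A, Q e = 0 → e ∈ S := by
      intro e he hqe
      by_cases h1 : pol Q e1 e = 0
      · by_cases h2 : e1 ∈ Submodule.span F {e}
        · obtain ⟨c, hc⟩ := Submodule.mem_span_singleton.1 h2
          have hc0 : c ≠ 0 := by
            rintro rfl
            rw [zero_smul] at hc
            exact he10 hc.symm
          have : e = c⁻¹ • e1 := by rw [← hc, smul_smul, inv_mul_cancel₀ hc0, one_smul]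
          rw [this]
          exact S.smul_mem _ he1S
        · exact stepc e1 he1B he1S e he hqe h1 h2
      · obtain ⟨e2, he2B, he20, hqe2, h12, h2e⟩ :=
          exists_singular_perp_pair hQ (perp hQ A) (by omega) e1 e
        have he2S : e2 ∈ S := by
          apply stepc e1 he1B he1S e2 he2B hqe2 h12
          intro h
          obtain ⟨c, hc⟩ := Submodule.mem_span_singleton.1 h
          apply h1
          rw [← hc, pol_smul_left hQ, pol_comm e2 e, h2e, mul_zero]
        apply stepc e2 he2B he2S e he hqe (by rw [pol_comm]; exact h2e)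
        intro h
        obtain ⟨c, hc⟩ := Submodule.mem_span_singleton.1 h
        have hc0 : c = 0 := by
          have h3 : pol Q e1 e2 = c * pol Q e1 e := by
            rw [← hc, pol_smul_right hQ]
          rw [h12] at h3
          rcases mul_eq_zero.1 h3.symm with h4 | h4
          · exact h4
          · exact absurd h4 h1
        rw [hc0, zero_smul] at hc
        exact he20 hc.symm
    have hBS : perp hQ A ≤ S := mem_of_singular_mem hQ A hA (by omega) S hall
    exact hAB g hgi (fun y hy => (hSmem y).1 (hBS hy))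
  obtain ⟨e, w, heB, hwB, v, hvS, hvn⟩ := claim
  refine ⟨g * sg hQ e w * g⁻¹, mul_mem (mul_mem hgM (hF1 e w heB hwB)) (inv_mem hgM), ?_, ?_⟩
  · intro hstab
    have h1 := ((mem_stab_iff A _).1 hstab (act g v)).1 ((hSmem v).1 hvS)
    rw [act_mul, act_mul, act_inv_act] at h1
    exact hvn ((hSmem _).2 h1)
  · obtain ⟨p, hpB, hp0, hqp, hp1, hp2⟩ :=
      exists_singular_perp_pair hQ (perp hQ A) (by omega) (act g e) (act g w)
    refine ⟨p, hpB, hp0, hqp, ?_⟩
    have h1 : pol Q (act g⁻¹ p) e = 0 := by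
      rw [pol_act_inv g hgi, pol_comm]; exact hp1
    have h2 : pol Q (act g⁻¹ p) w = 0 := by
      rw [pol_act_inv g hgi, pol_comm]; exact hp2
    rw [act_mul, act_mul, act_sg_perp hQ e w _ h1 h2, act_act_inv]
    exact hpB

include hA hMi in
lemma exists_good_conj (hb : 7 ≤ Module.finrank F (perp hQ A))
    (hAB : ∀ g ∈ Cfsg.isometryGroup F Q, ¬ ∀ y ∈ perp hQ A, act g y ∈ A)
    (hF1 : ∀ u w : ι → F, u ∈ perp hQ A → w ∈ perp hQ A → sg hQ u w ∈ M)
    (g0 : GL ι F) (hg0M : g0 ∈ M) (hg0 : g0 ∉ Cfsg.Geo.subspaceStabilizer A) :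
    ∃ g' ∈ M, g' ∉ Cfsg.Geo.subspaceStabilizer A ∧
      ∃ p ∈ perp hQ A, p ≠ 0 ∧ Q p = 0 ∧ act g' p ∈ perp hQ A := by
  by_cases h1 : ∀ v ∈ A, act g0⁻¹ v ∈ A
  · have h2 : ¬ ∀ v ∈ A, act g0 v ∈ A := fun h => hg0 (mem_stab_of A g0 h h1)
    push Not at h2
    obtain ⟨x0, hx0, hx⟩ := h2
    have hx' : act (g0⁻¹)⁻¹ x0 ∉ A := by rw [inv_inv]; exact hx
    exact exists_good_conj_aux hQ A hA M hMi hb hAB hF1 g0⁻¹ (inv_mem hg0M) x0 hx0 hx'
  · push Not at h1
    obtain ⟨x0, hx0, hx⟩ := h1
    exact exists_good_conj_aux hQ A hA M hMi hb hAB hF1 g0 hg0M x0 hx0 hx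

include hA hMi in
/-- a singular vector of `A^⊥` mapped into `A^⊥` together with a perpendicular vector of `A^⊥`
mapped outside -/
lemma exists_good_pair (hb : 7 ≤ Module.finrank F (perp hQ A))
    (g' : GL ι F) (hg'M : g' ∈ M) (hg' : g' ∉ Cfsg.Geo.subspaceStabilizer A)
    (p : ι → F) (hpB : p ∈ perp hQ A) (hp0 : p ≠ 0) (hqp : Q p = 0)
    (hgp : act g' p ∈ perp hQ A) :
    ∃ g'' ∈ M, ∃ p' w0 : ι → F, p' ∈ perp hQ A ∧ w0 ∈ perp hQ A ∧ p' ≠ 0 ∧ Q p' = 0 ∧
      pol Q p' w0 = 0 ∧ act g'' p' ∈ perp hQ A ∧ act g'' w0 ∉ perp hQ A := by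
  -- the oriented version
  have oriented : ∀ g ∈ M, ∀ p : ι → F, p ∈ perp hQ A → p ≠ 0 → Q p = 0 →
      act g p ∈ perp hQ A → (∃ y ∈ perp hQ A, act g y ∉ perp hQ A) →
      ∃ p' w0 : ι → F, p' ∈ perp hQ A ∧ w0 ∈ perp hQ A ∧ p' ≠ 0 ∧ Q p' = 0 ∧
        pol Q p' w0 = 0 ∧ act g p' ∈ perp hQ A ∧ act g w0 ∉ perp hQ A := by
    intro g hgM p hpB hp0 hqp hgp hy
    obtain ⟨y, hyB, hgy⟩ := hy
    by_cases h : ∃ w0 ∈ perp hQ A, pol Q p w0 = 0 ∧ act g w0 ∉ perp hQ A
    · obtain ⟨w0, hw0B, hpw0, hgw0⟩ := h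
      exact ⟨p, w0, hpB, hw0B, hp0, hqp, hpw0, hgp, hgw0⟩
    push Not at h
    have hE := finrank_inf_perp_singleton hQ (perp hQ A) p
    have hR := finrank_span_singleton_le (F := F) p
    obtain ⟨p2, hp2E, hp2R, hqp2⟩ := exists_singular_notMem hQ
      (perp hQ A ⊓ perp hQ (Submodule.span F {p})) (Submodule.span F {p}) (by omega)
    obtain ⟨hp2B, hpp2⟩ := Submodule.mem_inf.1 hp2E
    rw [mem_perp_span_singleton] at hpp2
    have hp20 : p2 ≠ 0 := by
      rintro rfl
      exact hp2R (Submodule.zero_mem _)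
    have hgp2 : act g p2 ∈ perp hQ A := h p2 hp2B hpp2
    by_contra hcon
    push Not at hcon
    have hcon' : ∀ w0 ∈ perp hQ A, pol Q p2 w0 = 0 → act g w0 ∈ perp hQ A := by
      intro w0 hw0B hw0
      by_contra hn
      exact hn (hcon p2 w0 hp2B hw0B hp20 hqp2 hw0 hgp2)
    -- separate `p` from `A ⊔ ⟨p2⟩`
    have hpn : p ∉ A ⊔ Submodule.span F {p2} := by
      intro hmem
      have h2 : (0 : ι → F) + p ∈ A ⊔ Submodule.span F {p2} := by rw [zero_add]; exact hmem
      have h3 := comp_mem_span_of_mem_sup hQ A hA p2 0 p hp2B A.zero_mem hpB h2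
      obtain ⟨c, hc⟩ := Submodule.mem_span_singleton.1 h3
      have hc0 : c ≠ 0 := by
        rintro rfl
        rw [zero_smul] at hc
        exact hp0 hc.symm
      apply hp2R
      have : p2 = c⁻¹ • p := by rw [← hc, smul_smul, inv_mul_cancel₀ hc0, one_smul]
      rw [this]
      exact Submodule.smul_mem _ _ (Submodule.mem_span_singleton_self p)
    obtain ⟨z, hzp, hzU⟩ := exists_pol_eq_one hQ (A ⊔ Submodule.span F {p2}) p hpn
    have hzB : z ∈ perp hQ A := by
      rw [mem_perp']
      intro d hd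
      exact hzU d (Submodule.mem_sup_left hd)
    have hzp2 : pol Q p2 z = 0 := by
      rw [pol_comm]
      exact hzU p2 (Submodule.mem_sup_right (Submodule.mem_span_singleton_self p2))
    have h1 : act g (pol Q p y • z) ∈ perp hQ A :=
      hcon' _ (Submodule.smul_mem _ _ hzB) (by rw [pol_smul_right hQ, hzp2, mul_zero])
    have h2 : act g (y - pol Q p y • z) ∈ perp hQ A := by
      apply h _ (Submodule.sub_mem _ hyB (Submodule.smul_mem _ _ hzB))
      rw [pol_sub_right hQ, pol_smul_right hQ, pol_comm p z, hzp]; ring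
    apply hgy
    have : y = (y - pol Q p y • z) + pol Q p y • z := by abel
    rw [this, act_add]
    exact Submodule.add_mem _ h2 h1
  -- orientation
  have hg'i := hMi hg'M
  by_cases h1 : ∃ y ∈ perp hQ A, act g' y ∉ perp hQ A
  · obtain ⟨p', w0, h⟩ := oriented g' hg'M p hpB hp0 hqp hgp h1
    exact ⟨g', hg'M, p', w0, h⟩
  · push Not at h1
    have h2 : ∃ y ∈ perp hQ A, act g'⁻¹ y ∉ perp hQ A := by
      by_contra hcon
      push Not at hcon
      apply hg'
      apply mem_stab_of A g'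
      · intro v hv
        have : act g' v ∈ perp hQ (perp hQ A) := by
          rw [mem_perp]
          intro y hy
          rw [← pol_act_inv g' hg'i]
          exact (mem_perp hQ A _).1 (hcon y hy) v hv |> fun h => by rw [pol_comm]; exact h
        rwa [perp_perp] at this
      · intro v hv
        have : act g'⁻¹ v ∈ perp hQ (perp hQ A) := by
          rw [mem_perp]
          intro y hy
          rw [pol_comm, pol_act_inv g' hg'i]
          exact (mem_perp' hQ A _).1 (h1 y hy) v hv |> fun h => by rw [pol_comm]; exact h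
        rwa [perp_perp] at this
    have h3 : act g'⁻¹ (act g' p) ∈ perp hQ A := by rw [act_inv_act]; exact hpB
    have h4 : act g' p ≠ 0 := fun h => hp0 ((act_eq_zero_iff g' p).1 h)
    obtain ⟨p', w0, h⟩ := oriented g'⁻¹ (inv_mem hg'M) (act g' p) hgp h4
      (by rw [Q_act g' hg'i, hqp]) h3 h2
    exact ⟨g'⁻¹, inv_mem hg'M, p', w0, h⟩

end NondegStabA

end Cfsg.Agent.H9.Orth
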