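import Mathlib
import Cfsg.Agent.H9.OrthS

set_option autoImplicit false
set_option linter.unusedSectionVars false
set_option linter.style.haveILetI false
open Cfsg

/-!
Maximality in `Ω` of the stabilizer of a nondegenerate subspace: the main theorem.
-/

namespace Cfsg.Agent.H9.Orth

open Matrix
open scoped commutatorElement

section NondegStabB

variable {ι : Type} [Fintype ι] [DecidableEq ι] {F : Type*} [Field F] [Fintype F]
variable {Q : (ι → F) → F}
variable (hQ : Cfsg.Geo.IsNondegenerateQuadraticForm Q)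
variable (A : Submodule F (ι → F)) (hA : A ⊓ perp hQ A = ⊥)
variable (M : Subgroup (GL ι F)) (hMi : M ≤ Cfsg.isometryGroup F Q)

include hQ

/-- a Siegel transformation with both vectors in `A` stabilizes `A` -/
lemma sg_mem_stab_self (e w : ι → F) (he : e ∈ A) (hw : w ∈ A) :
    sg hQ e w ∈ Cfsg.Geo.subspaceStabilizer A := by
  by_cases h : Q e = 0 ∧ pol Q e w = 0
  · have key : ∀ w' ∈ A, pol Q e w' = 0 → ∀ v ∈ A, act (sg hQ e w') v ∈ A := by
      intro w' hw' hew' v hv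
      rw [act_sg hQ e w' h.1 hew']
      exact A.sub_mem (A.add_mem hv (A.smul_mem _ he)) (A.smul_mem _ hw')
    apply mem_stab_of A _ (key w hw h.2)
    rw [sg_inv hQ e w h.2]
    exact key (-w) (A.neg_mem hw) (by rw [pol_neg_right hQ, h.2, neg_zero])
  · rw [sg_of_not hQ e w h]
    exact one_mem _

/-- a reflection in a vector of `A` maps `A` to itself -/
lemma act_rf_mem (x v : ι → F) (hx : x ∈ A) (hv : v ∈ A) : act (rf hQ x) v ∈ A := by
  by_cases h : Q x ≠ 0
  · rw [act_rf hQ x h]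
    exact A.sub_mem hv (A.smul_mem _ hx)
  · rw [rf_of_not hQ x h, act_one]; exact hv

include hA hMi in
/-- one mixed root element gives the whole root group -/
lemma mem_SS_of_mixed (hn5 : 5 ≤ Fintype.card ι) (hb : 7 ≤ Module.finrank F (perp hQ A))
    (hHM : Cfsg.Geo.subspaceStabilizer A ⊓ NN hQ ≤ M)
    (hirr : ∀ T : Submodule F (ι → F), T ≤ A → T ≠ ⊥ →
      (∀ x ∈ A, Q x ≠ 0 → ∀ t ∈ T, act (rf hQ x) t ∈ T) →
      (∀ e ∈ A, ∀ w ∈ A, ∀ t ∈ T, act (sg hQ e w) t ∈ T) → T = A)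
    (u : ι → F) (huB : u ∈ perp hQ A) (hu0 : u ≠ 0) (hqu : Q u = 0)
    (a0 : ι → F) (ha0A : a0 ∈ A) (ha00 : a0 ≠ 0) (hmem : sg hQ u a0 ∈ M) :
    u ∈ SS hQ M := by
  have hua : ∀ a ∈ A, pol Q u a = 0 := fun a ha => (mem_perp' hQ A u).1 huB a ha
  obtain ⟨f, hfB, hqf, huf⟩ := exists_partner_in hQ A hA u huB hu0 hqu
  have hfa : ∀ a ∈ A, pol Q f a = 0 := fun a ha => (mem_perp' hQ A f).1 hfB a ha
  -- conjugation by an element of `M` fixing `u` up to a scalar
  have conj : ∀ h ∈ M, ∀ c : F, act h u = c • u → ∀ a : ι → F, sg hQ u a ∈ M →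
      sg hQ u (c • act h a) ∈ M := by
    intro h hhM c hhu a ha
    have h1 := conj_sg hQ h (hMi hhM) u a
    rw [hhu, sg_smul_left] at h1
    rw [← h1]
    exact mul_mem (mul_mem hhM ha) (inv_mem hhM)
  -- scalars
  have hsmul : ∀ c : F, ∀ a ∈ A, sg hQ u a ∈ M → sg hQ u (c • a) ∈ M := by
    intro c a haA ha
    by_cases hc : c = 0
    · rw [hc, zero_smul, sg_zero]; exact one_mem _
    obtain ⟨y1, hy1B, hqy1, huy1, hfy1⟩ :=
      exists_norm_perp_hyp hQ A hA (by omega) u f huB hfB hqu hqf huf (-1)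
    obtain ⟨y2, hy2B, hqy2, huy2, hfy2⟩ :=
      exists_norm_perp_hyp hQ A hA (by omega) u f huB hfB hqu hqf huf (-c)
    have hq1 : Q (u - f) = -1 := by rw [Q_sub hQ, hqu, hqf, huf]; ring
    have hq2 : Q (u - c • f) = -c := by
      rw [Q_sub hQ, hQ.smul, hqu, hqf, pol_smul_right hQ, huf]; ring
    set h' := (rf hQ (u - f) * rf hQ y1) * (rf hQ (u - c • f) * rf hQ y2) with hh'
    have hfixA : ∀ x : ι → F, x ∈ perp hQ A → ∀ v ∈ A, act (rf hQ x) v = v := by
      intro x hx v hv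
      exact act_rf_perp hQ x v ((mem_perp hQ A x).1 hx v hv)
    have h'fix : ∀ v ∈ A, act h' v = v := by
      intro v hv
      rw [hh', act_mul, act_mul, act_mul, hfixA y2 hy2B v hv,
        hfixA _ (Submodule.sub_mem _ huB (Submodule.smul_mem _ c hfB)) v hv,
        hfixA y1 hy1B v hv, hfixA _ (Submodule.sub_mem _ huB hfB) v hv]
    have h'M : h' ∈ M := by
      apply hHM
      refine ⟨mem_stab_of_fix A h' h'fix, ?_⟩
      exact mul_mem (rf_mul_rf_mem_NN hQ hn5 _ _ (by rw [hq1, hqy1]))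
        (rf_mul_rf_mem_NN hQ hn5 _ _ (by rw [hq2, hqy2]))
    have h'u : act h' u = c • u := by
      have e1 : act (rf hQ y2) u = u := act_rf_perp hQ y2 u huy2
      have e2 : act (rf hQ (u - c • f)) u = c • f := by
        rw [act_rf hQ _ (by rw [hq2]; exact neg_ne_zero.2 hc), hq2, pol_sub_right hQ,
          pol_smul_right hQ, pol_self hQ, hqu, huf]
        have : (-c)⁻¹ * (2 * 0 - c * 1) = 1 := by field_simp; ring
        rw [this]; module
      have e3 : act (rf hQ y1) (c • f) = c • f := by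
        apply act_rf_perp
        rw [pol_smul_left hQ, hfy1, mul_zero]
      have e4 : act (rf hQ (u - f)) (c • f) = c • u := by
        rw [act_smul, act_rf_sub' hQ u f (by rw [hqu, hqf])
          (by rw [hq1]; exact neg_ne_zero.2 one_ne_zero)]
      rw [hh', act_mul, act_mul, act_mul, e1, e2, e3, e4]
    have := conj h' h'M c h'u a ha
    rwa [h'fix a haA] at this
  -- the subspace `T`
  let T : Submodule F (ι → F) :=
    { carrier := {a | a ∈ A ∧ sg hQ u a ∈ M}
      add_mem' := by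
        rintro a b ⟨haA, ha⟩ ⟨hbA, hb⟩
        refine ⟨A.add_mem haA hbA, ?_⟩
        rw [← sg_mul hQ u a b (hua a haA) (hua b hbA)]
        exact mul_mem ha hb
      zero_mem' := ⟨A.zero_mem, by rw [sg_zero]; exact one_mem _⟩
      smul_mem' := by
        rintro c a ⟨haA, ha⟩
        exact ⟨A.smul_mem c haA, hsmul c a haA ha⟩ }
  have hTmem : ∀ a, a ∈ T ↔ a ∈ A ∧ sg hQ u a ∈ M := fun a => Iff.rfl
  have hTA : T ≤ A := fun a ha => ha.1
  have hT0 : T ≠ ⊥ := by
    intro h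
    have : a0 ∈ T := ⟨ha0A, hmem⟩
    rw [h, Submodule.mem_bot] at this
    exact ha00 this
  have hTrf : ∀ x ∈ A, Q x ≠ 0 → ∀ t ∈ T, act (rf hQ x) t ∈ T := by
    intro x hxA hqx t ht
    obtain ⟨y, hyB, hqy, huy, hfy⟩ :=
      exists_norm_perp_hyp hQ A hA (by omega) u f huB hfB hqu hqf huf (Q x)
    have hyA : ∀ v ∈ A, act (rf hQ y) v = v := fun v hv =>
      act_rf_perp hQ y v ((mem_perp hQ A y).1 hyB v hv)
    have hhM : rf hQ x * rf hQ y ∈ M := by
      apply hHM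
      refine ⟨?_, rf_mul_rf_mem_NN hQ hn5 x y hqy.symm⟩
      apply mem_stab_of A
      · intro v hv
        rw [act_mul, hyA v hv]
        exact act_rf_mem hQ A x v hxA hv
      · intro v hv
        have : (rf hQ x * rf hQ y)⁻¹ = rf hQ y * rf hQ x := by
          rw [_root_.mul_inv_rev, rf_inv, rf_inv]
        rw [this, act_mul, hyA _ (act_rf_mem hQ A x v hxA hv)]
        exact act_rf_mem hQ A x v hxA hv
    have hhu : act (rf hQ x * rf hQ y) u = (1 : F) • u := by
      rw [act_mul, act_rf_perp hQ y u huy, act_rf_perp hQ x u (hua x hxA), one_smul]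
    have := conj _ hhM 1 hhu t ht.2
    rw [one_smul, act_mul, hyA t ht.1] at this
    exact ⟨act_rf_mem hQ A x t hxA ht.1, this⟩
  have hTsg : ∀ e ∈ A, ∀ w ∈ A, ∀ t ∈ T, act (sg hQ e w) t ∈ T := by
    intro e heA w hwA t ht
    by_cases h : Q e = 0 ∧ pol Q e w = 0
    · have hhM : sg hQ e w ∈ M :=
        hHM ⟨sg_mem_stab_self hQ A e w heA hwA, sg_mem_NN' hQ hn5 e w h.2⟩
      have hhu : act (sg hQ e w) u = (1 : F) • u := by
        rw [act_sg_perp hQ e w u (hua e heA) (hua w hwA), one_smul]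
      have := conj _ hhM 1 hhu t ht.2
      rw [one_smul] at this
      refine ⟨?_, this⟩
      have := (mem_stab_iff A _).1 (sg_mem_stab_self hQ A e w heA hwA) t
      exact this.1 ht.1
    · rw [sg_of_not hQ e w h, act_one]; exact ht
  have hTeq := hirr T hTA hT0 hTrf hTsg
  refine ⟨hqu, fun w huw => ?_⟩
  obtain ⟨wA, hwA, wB, hwB, hw⟩ := exists_decomp hQ A hA w
  have h1 : pol Q u wA = 0 := hua wA hwA
  have h2 : pol Q u wB = 0 := by
    rw [hw, pol_add_right hQ, h1, zero_add] at huw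
    exact huw
  rw [hw, ← sg_mul hQ u wA wB h1 h2]
  have h3 : wA ∈ T := by rw [hTeq]; exact hwA
  exact mul_mem h3.2 (hHM ⟨sg_mem_stab' hQ A u wB huB hwB, sg_mem_NN' hQ hn5 u wB h2⟩)

include hA hMi in
/-- a singular vector of `A^⊥` with its whole root group in `M` forces `NN ≤ M` -/
lemma NN_le_of_SS_perp (hn : 7 ≤ Fintype.card ι) (hb : 7 ≤ Module.finrank F (perp hQ A))
    (hHM : Cfsg.Geo.subspaceStabilizer A ⊓ NN hQ ≤ M)
    (u : ι → F) (huB : u ∈ perp hQ A) (hu0 : u ≠ 0) (huS : u ∈ SS hQ M) : NN hQ ≤ M := by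
  have hqu := huS.1
  obtain ⟨f, hfB, hqf, huf⟩ := exists_partner_in hQ A hA u huB hu0 hqu
  obtain ⟨z, hzB, hqz, huz, hfz⟩ :=
    exists_norm_perp_hyp hQ A hA (by omega) u f huB hfB hqu hqf huf (-1)
  set t := f + u + z with ht
  have htB : t ∈ perp hQ A := Submodule.add_mem _ (Submodule.add_mem _ hfB huB) hzB
  have hqt : Q t = 0 := by
    rw [ht, Q_add Q, Q_add Q, hqf, hqu, hqz, pol_comm f u, huf, pol_add_left hQ, hfz, huz]; ring
  have hft : pol Q f t = 1 := by
    rw [ht, pol_add_right hQ, pol_add_right hQ, pol_self hQ, hqf, pol_comm f u, huf, hfz]; ring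
  have hut : pol Q u t = 1 := by
    rw [ht, pol_add_right hQ, pol_add_right hQ, pol_self hQ, hqu, huf, huz]; ring
  have htS : t ∈ SS hQ M :=
    SS_of_pol_ne' hQ (by omega) A M hMi hHM f u t hfB hqf huS huB
      (by rw [pol_comm, huf]; exact one_ne_zero) hqt htB (by rw [hft]; exact one_ne_zero)
  exact NN_le_of_SS_not_perp hQ hn (Submodule.span F {u}) M hMi
    (fun x hx => by
      obtain ⟨c, rfl⟩ := Submodule.mem_span_singleton.1 hx
      exact SS_smul hQ M c u huS)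
    t u htS (Submodule.mem_span_singleton_self u)
    (by rw [pol_comm, hut]; exact one_ne_zero)

include hA in
/-- **Maximality of the stabilizer of a nondegenerate subspace in `Ω`** -/
theorem nondeg_stab_maximal (hn : 7 ≤ Fintype.card ι) (hA0 : A ≠ ⊥)
    (hb : 7 ≤ Module.finrank F (perp hQ A))
    (hAB : ∀ g ∈ Cfsg.isometryGroup F Q, ¬ ∀ y ∈ perp hQ A, act g y ∈ A)
    (hirr : ∀ T : Submodule F (ι → F), T ≤ A → T ≠ ⊥ →
      (∀ x ∈ A, Q x ≠ 0 → ∀ t ∈ T, act (rf hQ x) t ∈ T) →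
      (∀ e ∈ A, ∀ w ∈ A, ∀ t ∈ T, act (sg hQ e w) t ∈ T) → T = A) :
    Cfsg.Geo.IsMaximalIn (Cfsg.Geo.omegaGL Q)
      (Cfsg.Geo.subspaceStabilizer A ⊓ Cfsg.Geo.omegaGL Q) := by
  rw [omegaGL_eq_NN hQ hn]
  have hn5 : 5 ≤ Fintype.card ι := by omega
  refine ⟨lt_of_le_of_ne inf_le_right ?_, ?_⟩
  · intro heq
    obtain ⟨u, huB, hu0, hqu⟩ := exists_singular_of_finrank hQ (perp hQ A) (by omega)
    obtain ⟨a, haA, ha0⟩ := Submodule.exists_mem_ne_zero_of_ne_bot hA0
    obtain ⟨x, hxA, hxa⟩ := exists_pol_ne_in hQ A hA a haA ha0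
    have hua : pol Q u a = 0 := (mem_perp' hQ A u).1 huB a haA
    have hmem : sg hQ u a ∈ NN hQ := sg_mem_NN' hQ hn5 u a hua
    rw [← heq] at hmem
    have h1 := ((mem_stab_iff A _).1 hmem.1 x).1 hxA
    rw [act_sg hQ u a hqu hua, (mem_perp hQ A u).1 huB x hxA, mul_zero, sub_zero, zero_smul,
      sub_zero] at h1
    have h2 := A.sub_mem h1 hxA
    rw [add_sub_cancel_left] at h2
    have h3 := A.smul_mem (pol Q x a)⁻¹ h2
    rw [smul_smul, inv_mul_cancel₀ (by rw [pol_comm]; exact hxa), one_smul] at h3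
    exact hu0 (inf_perp_mem_eq_zero hQ A hA u h3 huB)
  · intro M hHM hMN
    by_cases hMP : M ≤ Cfsg.Geo.subspaceStabilizer A ⊓ NN hQ
    · left; exact le_antisymm hMP hHM
    right
    apply le_antisymm hMN
    have hMi : M ≤ Cfsg.isometryGroup F Q := hMN.trans (NN_le_iso hQ)
    rw [SetLike.not_le_iff_exists] at hMP
    obtain ⟨g0, hg0M, hg0P⟩ := hMP
    have hg0 : g0 ∉ Cfsg.Geo.subspaceStabilizer A := fun h => hg0P ⟨h, hMN hg0M⟩
    have hF1 : ∀ u w : ι → F, u ∈ perp hQ A → w ∈ perp hQ A → sg hQ u w ∈ M := by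
      intro u w hu hw
      by_cases h : Q u = 0 ∧ pol Q u w = 0
      · exact hHM ⟨sg_mem_stab' hQ A u w hu hw, sg_mem_NN' hQ hn5 u w h.2⟩
      · rw [sg_of_not hQ u w h]; exact one_mem _
    obtain ⟨g', hg'M, hg', p, hpB, hp0, hqp, hgp⟩ :=
      exists_good_conj hQ A hA M hMi hb hAB hF1 g0 hg0M hg0
    obtain ⟨g, hgM, p', w0, hp'B, hw0B, hp'0, hqp', hpw0, hgp', hgw0⟩ :=
      exists_good_pair hQ A hA M hMi hb g' hg'M hg' p hpB hp0 hqp hgp
    have hgi := hMi hgM
    set u := act g p' with hu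
    set w := act g w0 with hw
    have hu0 : u ≠ 0 := fun h => hp'0 ((act_eq_zero_iff g p').1 h)
    have hqu : Q u = 0 := by rw [hu, Q_act g hgi, hqp']
    have huw : pol Q u w = 0 := by rw [hu, hw, pol_act g hgi, hpw0]
    have hsgM : sg hQ u w ∈ M := by
      rw [hu, hw, ← conj_sg hQ g hgi]
      exact mul_mem (mul_mem hgM (hF1 p' w0 hp'B hw0B)) (inv_mem hgM)
    obtain ⟨wA, hwA, wB, hwB, hwAB⟩ := exists_decomp hQ A hA w
    have hwA0 : wA ≠ 0 := by
      rintro rfl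
      rw [zero_add] at hwAB
      rw [hwAB] at hgw0
      exact hgw0 hwB
    have h1 : pol Q u wA = 0 := (mem_perp' hQ A u).1 hgp' wA hwA
    have h2 : pol Q u wB = 0 := by
      rw [hwAB, pol_add_right hQ, h1, zero_add] at huw
      exact huw
    have hsgA : sg hQ u wA ∈ M := by
      have h3 : sg hQ u w = sg hQ u wA * sg hQ u wB := by
        rw [sg_mul hQ u wA wB h1 h2, hwAB]
      have h4 : sg hQ u wA = sg hQ u w * (sg hQ u wB)⁻¹ := by rw [h3]; group
      rw [h4]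
      exact mul_mem hsgM (inv_mem (hF1 u wB hgp' hwB))
    have huS := mem_SS_of_mixed hQ A hA M hMi hn5 hb hHM hirr u hgp' hu0 hqu wA hwA hwA0 hsgA
    exact NN_le_of_SS_perp hQ A hA M hMi hn hb hHM u hgp' hu0 huS

end NondegStabB

end Cfsg.Agent.H9.Orth
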