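import Mathlib
import Cfsg.Agent.H9.OrthT

set_option autoImplicit false
set_option linter.unusedSectionVars false
set_option linter.style.haveILetI false
open Cfsg

/-!
Maximality in `Ω` of the stabilizer of a nondegenerate subspace: symmetric form and bridges to the
frozen predicates.
-/

namespace Cfsg.Agent.H9.Orth

open Matrix
open scoped commutatorElement

section NondegStabC

variable {ι : Type} [Fintype ι] [DecidableEq ι] {F : Type*} [Field F] [Fintype F]
variable {Q : (ι → F) → F}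
variable (hQ : Cfsg.Geo.IsNondegenerateQuadraticForm Q)

include hQ

/-- the frozen nondegeneracy predicate gives a trivial radical -/
lemma inf_perp_of_nondegOn (W : Submodule F (ι → F))
    (hW : Cfsg.Geo.IsNondegenerateOn (QuadraticMap.polar Q) W) : W ⊓ perp hQ W = ⊥ := by
  rw [eq_bot_iff]
  intro x hx
  obtain ⟨hxW, hxP⟩ := Submodule.mem_inf.1 hx
  rw [Submodule.mem_bot]
  by_contra hx0
  obtain ⟨⟨y, hyW, hy⟩, -⟩ := hW x hxW hx0
  exact hy ((mem_perp hQ W x).1 hxP y hyW)

/-- a trivial radical gives the frozen nondegeneracy predicate -/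
lemma nondegOn_of_inf_perp (W : Submodule F (ι → F)) (hW : W ⊓ perp hQ W = ⊥) :
    Cfsg.Geo.IsNondegenerateOn (QuadraticMap.polar Q) W := by
  intro w hw hw0
  obtain ⟨z, hzW, hz⟩ := exists_pol_ne_in hQ W hW w hw hw0
  exact ⟨⟨z, hzW, by rw [QuadraticMap.polar_comm]; exact hz⟩, ⟨z, hzW, hz⟩⟩

/-- an isometry stabilizing `W` stabilizes its perp -/
lemma stab_perp_of_stab (W : Submodule F (ι → F)) (g : GL ι F)
    (hgi : g ∈ Cfsg.isometryGroup F Q) (hg : g ∈ Cfsg.Geo.subspaceStabilizer W) :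
    g ∈ Cfsg.Geo.subspaceStabilizer (perp hQ W) := by
  have hg' : g⁻¹ ∈ Cfsg.Geo.subspaceStabilizer W := inv_mem hg
  apply mem_stab_of
  · intro v hv
    rw [mem_perp]
    intro w hw
    have h1 := ((mem_stab_iff W g⁻¹).1 hg' w).1 hw
    rw [← pol_act_inv g hgi]
    exact (mem_perp hQ W v).1 hv _ h1
  · intro v hv
    rw [mem_perp]
    intro w hw
    have h1 := ((mem_stab_iff W g).1 hg w).1 hw
    rw [pol_comm, pol_act_inv g hgi, pol_comm]
    exact (mem_perp hQ W v).1 hv _ h1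

lemma stab_inf_eq_stab_perp_inf (W : Submodule F (ι → F)) (K : Subgroup (GL ι F))
    (hK : K ≤ Cfsg.isometryGroup F Q) :
    Cfsg.Geo.subspaceStabilizer W ⊓ K = Cfsg.Geo.subspaceStabilizer (perp hQ W) ⊓ K := by
  apply le_antisymm
  · rintro g ⟨hg1, hg2⟩
    exact ⟨stab_perp_of_stab hQ W g (hK hg2) hg1, hg2⟩
  · rintro g ⟨hg1, hg2⟩
    refine ⟨?_, hg2⟩
    have := stab_perp_of_stab hQ (perp hQ W) g (hK hg2) hg1
    rwa [perp_perp] at this

omit hQ in
/-- an element of `GL` mapping `X` into `Y` forces `dim X ≤ dim Y` -/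
lemma finrank_le_of_act_mem (g : GL ι F) (X Y : Submodule F (ι → F))
    (h : ∀ x ∈ X, act g x ∈ Y) : Module.finrank F X ≤ Module.finrank F Y := by
  rw [← finrank_map_GL g X]
  apply Submodule.finrank_mono
  rintro _ ⟨x, hx, rfl⟩
  rw [Matrix.toLin'_apply]
  exact h x hx

omit hQ in
lemma omegaGL_le_iso : Cfsg.Geo.omegaGL Q ≤ Cfsg.isometryGroup F Q := by
  rw [Cfsg.Geo.omegaGL]
  rintro g ⟨g', -, rfl⟩
  exact g'.2

/-- **Maximality of the stabilizer of a nondegenerate subspace in `Ω`**, symmetric form -/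
theorem nondeg_stab_maximal' (hn : 13 ≤ Fintype.card ι) (W : Submodule F (ι → F))
    (hW : W ⊓ perp hQ W = ⊥) (hW0 : W ≠ ⊥) (hW1 : W ≠ ⊤)
    (hiso : Module.finrank F W = Module.finrank F (perp hQ W) →
      ∀ g ∈ Cfsg.isometryGroup F Q, ¬ ∀ y ∈ perp hQ W, act g y ∈ W)
    (hexW : ¬ (Fintype.card F ≤ 3 ∧ Module.finrank F W = 2 ∧ ∃ e ∈ W, e ≠ 0 ∧ Q e = 0))
    (hexW' : ¬ (Fintype.card F ≤ 3 ∧ Module.finrank F (perp hQ W) = 2 ∧
      ∃ e ∈ perp hQ W, e ≠ 0 ∧ Q e = 0)) :
    Cfsg.Geo.IsMaximalIn (Cfsg.Geo.omegaGL Q)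
      (Cfsg.Geo.subspaceStabilizer W ⊓ Cfsg.Geo.omegaGL Q) := by
  have hsum := finrank_add_finrank_perp hQ W
  by_cases hle : Module.finrank F W ≤ Module.finrank F (perp hQ W)
  · apply nondeg_stab_maximal hQ W hW (by omega) hW0 (by omega)
    · intro g hgi hg
      have h1 := finrank_le_of_act_mem g (perp hQ W) W hg
      exact hiso (by omega) g hgi hg
    · intro T hTW hT0 hrf hsg
      exact irred_of hQ W hW hexW T hTW hT0 hrf hsg
  · push Not at hle
    rw [stab_inf_eq_stab_perp_inf hQ W _ omegaGL_le_iso]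
    have hW' : perp hQ W ⊓ perp hQ (perp hQ W) = ⊥ := by
      rw [perp_perp, inf_comm]; exact hW
    have hW'0 : perp hQ W ≠ ⊥ := by
      intro h
      apply hW1
      rw [← perp_perp hQ W, h, perp, LinearMap.BilinForm.orthogonal_bot]
    apply nondeg_stab_maximal hQ (perp hQ W) hW' (by omega) hW'0
    · rw [perp_perp]; omega
    · intro g hgi hg
      rw [perp_perp] at hg
      have h1 := finrank_le_of_act_mem g W (perp hQ W) hg
      omega
    · intro T hTW hT0 hrf hsg
      exact irred_of hQ (perp hQ W) hW' hexW' T hTW hT0 hrf hsg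

/-- a nonzero singular vector in a plane makes it of plus type -/
lemma plusType_of_singular (W : Submodule F (ι → F)) (h2 : Module.finrank F W = 2)
    (e : ι → F) (heW : e ∈ W) (he0 : e ≠ 0) (hqe : Q e = 0) : Cfsg.Geo.IsPlusTypeOn Q W := by
  refine ⟨Submodule.span F {e}, ?_, ?_, ?_⟩
  · rw [Submodule.span_le]
    rintro v rfl
    exact heW
  · intro v hv
    obtain ⟨c, rfl⟩ := Submodule.mem_span_singleton.1 hv
    rw [hQ.smul, hqe, mul_zero]
  · rw [finrank_span_singleton he0, h2]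

end NondegStabC

end Cfsg.Agent.H9.Orth
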