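import Mathlib
import Cfsg.Agent.Lib.Helper5.Orth.FrameMain
import Cfsg.Agent.H9.OrthU
import Cfsg.Agent.H9.OLagB

set_option autoImplicit false
set_option linter.unusedSectionVars false
open Cfsg Matrix

/-!
Decomposition stabilisers in `Ω(Q)` that are not maximal: the general framework.
For a decomposition `D` into pairwise orthogonal nondegenerate subspaces and a scalar `c ≠ 0`,
the stabiliser in `Ω` of the set `Nc` of norm-`c` vectors lying in members of `D` contains the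
decomposition stabiliser and is proper in `Ω`.
-/

namespace Cfsg.Agent.H9.ODec

open Cfsg.Agent.H9.Orth
open Cfsg.Agent.Lib.Helper5.Orth (mem_stabilizing le_stabilizing mem_stabilizing_of_mapsTo
  mem_decompositionStabilizer omegaGL_Q)

variable {ι : Type} [Fintype ι] [DecidableEq ι] {F : Type*} [Field F] [Fintype F]
  {Q : (ι → F) → F} (hQ : Cfsg.Geo.IsNondegenerateQuadraticForm Q) {t : ℕ}
  (D : Fin t → Submodule F (ι → F))

/-- vectors of norm `c` in a member of `D` -/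
def Nc (Q : (ι → F) → F) (D : Fin t → Submodule F (ι → F)) (c : F) : Set (ι → F) :=
  {v | ∃ i, v ∈ D i ∧ Q v = c}

omit [Fintype F] in
lemma act_mem_of_stab (g : GL ι F) (σ : Equiv.Perm (Fin t))
    (hσ : ∀ i, (D i).map (Matrix.toLin' (g : Matrix ι ι F)) = D (σ i)) (i : Fin t) (v : ι → F)
    (hv : v ∈ D i) : act g v ∈ D (σ i) := by
  rw [← hσ i]
  exact ⟨v, hv, Matrix.toLin'_apply _ _⟩

omit [Fintype F] in
/-- the decomposition stabiliser preserves any set defined by `Q` and membership in members -/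
lemma stab_le_stabilizing (c : F) :
    Cfsg.Geo.decompositionStabilizer D ⊓ Cfsg.Geo.omegaGL Q ≤
      Cfsg.stabilizing (Cfsg.glToMat ι F) (Nc Q D c) ⊓ Cfsg.Geo.omegaGL Q := by
  refine le_inf ?_ inf_le_right
  apply le_stabilizing
  rintro g hg v ⟨i, hv, hqv⟩
  obtain ⟨σ, hσ⟩ := (mem_decompositionStabilizer D g).1 hg.1
  exact ⟨σ i, act_mem_of_stab D g σ hσ i v hv, by rw [omegaGL_Q g hg.2, hqv]⟩

omit [Fintype F] in
/-- a vector with non-zero pairing against two different members lies in no member -/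
lemma not_mem_of_tests (horth : ∀ i j, i ≠ j → ∀ a ∈ D i, ∀ b ∈ D j, pol Q a b = 0)
    (y : ι → F) (j₁ j₂ : Fin t) (hj : j₁ ≠ j₂) (z₁ z₂ : ι → F) (hz₁ : z₁ ∈ D j₁) (hz₂ : z₂ ∈ D j₂)
    (h1 : pol Q y z₁ ≠ 0) (h2 : pol Q y z₂ ≠ 0) (j : Fin t) : y ∉ D j := by
  intro hy
  have e1 : j = j₁ := by
    by_contra hne
    exact h1 (horth j j₁ hne y hy z₁ hz₁)
  have e2 : j = j₂ := by
    by_contra hne
    exact h2 (horth j j₂ hne y hy z₂ hz₂)
  exact hj (e1.symm.trans e2)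

omit [Fintype F] in
/-- test vector criterion for not stabilising the decomposition -/
lemma not_mem_stab_of_tests (horth : ∀ i j, i ≠ j → ∀ a ∈ D i, ∀ b ∈ D j, pol Q a b = 0)
    (g : GL ι F) (i j₁ j₂ : Fin t) (hj : j₁ ≠ j₂) (p z₁ z₂ : ι → F) (hp : p ∈ D i)
    (hz₁ : z₁ ∈ D j₁) (hz₂ : z₂ ∈ D j₂)
    (h1 : pol Q (act g p) z₁ ≠ 0) (h2 : pol Q (act g p) z₂ ≠ 0) :
    g ∉ Cfsg.Geo.decompositionStabilizer D := by
  intro hg
  obtain ⟨σ, hσ⟩ := (mem_decompositionStabilizer D g).1 hg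
  exact not_mem_of_tests D horth _ j₁ j₂ hj z₁ z₂ hz₁ hz₂ h1 h2 (σ i)
    (act_mem_of_stab D g σ hσ i p hp)

/-- an element of `Ω` preserving `S` but not the decomposition gives strictness on the left -/
lemma lt_stabilizing (S : Set (ι → F))
    (hle : Cfsg.Geo.decompositionStabilizer D ⊓ Cfsg.Geo.omegaGL Q ≤
      Cfsg.stabilizing (Cfsg.glToMat ι F) S ⊓ Cfsg.Geo.omegaGL Q)
    (g : GL ι F) (hgΩ : g ∈ Cfsg.Geo.omegaGL Q) (hgS : ∀ v ∈ S, act g v ∈ S)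
    (hgD : g ∉ Cfsg.Geo.decompositionStabilizer D) :
    Cfsg.Geo.decompositionStabilizer D ⊓ Cfsg.Geo.omegaGL Q <
      Cfsg.stabilizing (Cfsg.glToMat ι F) S ⊓ Cfsg.Geo.omegaGL Q := by
  refine lt_of_le_of_ne hle ?_
  intro heq
  have : g ∈ Cfsg.stabilizing (Cfsg.glToMat ι F) S ⊓ Cfsg.Geo.omegaGL Q :=
    ⟨mem_stabilizing_of_mapsTo g S hgS, hgΩ⟩
  rw [← heq] at this
  exact hgD this.1

omit [Fintype F] in
/-- an element of `Ω` not preserving `S` gives strictness on the right -/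
lemma stabilizing_lt (S : Set (ι → F)) (g : GL ι F) (hgΩ : g ∈ Cfsg.Geo.omegaGL Q)
    (a : ι → F) (ha : a ∈ S) (hga : act g a ∉ S) :
    Cfsg.stabilizing (Cfsg.glToMat ι F) S ⊓ Cfsg.Geo.omegaGL Q < Cfsg.Geo.omegaGL Q := by
  refine lt_of_le_of_ne inf_le_right ?_
  intro heq
  have : g ∈ Cfsg.stabilizing (Cfsg.glToMat ι F) S ⊓ Cfsg.Geo.omegaGL Q := by
    rw [heq]; exact hgΩ
  exact hga (((mem_stabilizing S g).1 this.1 a).1 ha)

include hQ in
/-- the stabiliser of the norm-`c` vectors of the members is proper in `Ω` -/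
lemma stabilizing_Nc_lt (hn : 7 ≤ Fintype.card ι)
    (horth : ∀ i j, i ≠ j → ∀ a ∈ D i, ∀ b ∈ D j, pol Q a b = 0)
    (hnd : ∀ i, Cfsg.Geo.IsNondegenerateOn (QuadraticMap.polar Q) (D i))
    (hfr : ∀ i, 2 ≤ Module.finrank F (D i)) (c : F) (hc : c ≠ 0)
    (i₁ i₂ i₃ : Fin t) (h12 : i₁ ≠ i₂) (h13 : i₁ ≠ i₃) (h23 : i₂ ≠ i₃)
    (a : ι → F) (ha : a ∈ D i₁) (hqa : Q a = c) :
    Cfsg.stabilizing (Cfsg.glToMat ι F) (Nc Q D c) ⊓ Cfsg.Geo.omegaGL Q < Cfsg.Geo.omegaGL Q := by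
  have hrad : ∀ i, D i ⊓ perp hQ (D i) = ⊥ := fun i => inf_perp_of_nondegOn hQ (D i) (hnd i)
  -- a non-zero vector of `D i₃`
  have hpos : 0 < Module.finrank F (D i₃) := by have := hfr i₃; omega
  obtain ⟨⟨b₃, hb₃⟩, hb₃0'⟩ := Module.finrank_pos_iff_exists_ne_zero.1 hpos
  have hb₃0 : b₃ ≠ 0 := fun h => hb₃0' (Subtype.ext h)
  have hb₃not : b₃ ∉ D i₂ := by
    intro h
    apply hb₃0
    apply inf_perp_mem_eq_zero hQ (D i₃) (hrad i₃) b₃ hb₃
    rw [mem_perp']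
    intro d hd
    exact horth i₂ i₃ h23 b₃ h d hd
  set E := D i₂ ⊔ Submodule.span F {b₃} with hE
  have hlt : D i₂ < E := by
    refine lt_of_le_of_ne le_sup_left ?_
    intro heq
    apply hb₃not
    rw [heq]
    exact Submodule.mem_sup_right (Submodule.mem_span_singleton_self b₃)
  have hE3 : 3 ≤ Module.finrank F E := by
    have := Submodule.finrank_lt_finrank_of_lt hlt
    have := hfr i₂
    omega
  obtain ⟨s, hsE, hs0, hqs⟩ := exists_singular_of_finrank hQ E hE3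
  obtain ⟨s₂, hs₂, s₃, hs₃, hs⟩ := Submodule.mem_sup.1 hsE
  obtain ⟨lam, rfl⟩ := Submodule.mem_span_singleton.1 hs₃
  have hs₃' : lam • b₃ ∈ D i₃ := (D i₃).smul_mem _ hb₃
  have has : pol Q a s = 0 := by
    rw [← hs, pol_add_right hQ, horth i₁ i₂ h12 a ha s₂ hs₂, horth i₁ i₃ h13 a ha _ hs₃', add_zero]
  set y := a + s with hy
  have hqy : Q y = Q a := by rw [hy, Q_add Q, hqs, has]; ring
  have ha0 : a ≠ 0 := by
    rintro rfl
    rw [Q_zero hQ] at hqa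
    exact hc hqa.symm
  have hynot : y ∉ Nc Q D c := by
    rintro ⟨j, hyj, -⟩
    obtain ⟨z', hz', hz'ne⟩ := exists_pol_ne_in hQ (D i₁) (hrad i₁) a ha ha0
    have hsz' : pol Q s z' = 0 := by
      rw [← hs, pol_add_left hQ, horth i₂ i₁ h12.symm s₂ hs₂ z' hz',
        horth i₃ i₁ h13.symm _ hs₃' z' hz', add_zero]
    have t1 : pol Q y z' ≠ 0 := by
      rw [hy, pol_add_left hQ, hsz', add_zero]; exact hz'ne
    by_cases hs₂0 : s₂ = 0
    · have hs₃0 : lam • b₃ ≠ 0 := by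
        intro h
        apply hs0
        rw [← hs, hs₂0, h, add_zero]
      obtain ⟨z₃, hz₃, hz₃ne⟩ := exists_pol_ne_in hQ (D i₃) (hrad i₃) _ hs₃' hs₃0
      have t2 : pol Q y z₃ ≠ 0 := by
        rw [hy, pol_add_left hQ, horth i₁ i₃ h13 a ha z₃ hz₃, zero_add, ← hs, hs₂0, zero_add]
        exact hz₃ne
      exact not_mem_of_tests D horth y i₁ i₃ h13 z' z₃ hz' hz₃ t1 t2 j hyj
    · obtain ⟨z₂, hz₂, hz₂ne⟩ := exists_pol_ne_in hQ (D i₂) (hrad i₂) s₂ hs₂ hs₂0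
      have t2 : pol Q y z₂ ≠ 0 := by
        rw [hy, pol_add_left hQ, horth i₁ i₂ h12 a ha z₂ hz₂, zero_add, ← hs, pol_add_left hQ,
          horth i₃ i₂ h23.symm _ hs₃' z₂ hz₂, add_zero]
        exact hz₂ne
      exact not_mem_of_tests D horth y i₁ i₂ h12 z' z₂ hz' hz₂ t1 t2 j hyj
  obtain ⟨g, hgN, hga⟩ := NN_trans_norm hQ (by omega) a y (by rw [hqa]; exact hc) hqy
  have hgΩ : g ∈ Cfsg.Geo.omegaGL Q := by rw [omegaGL_eq_NN hQ hn]; exact hgN
  refine stabilizing_lt (Nc Q D c) g hgΩ a ⟨i₁, ha, hqa⟩ ?_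
  rw [hga]
  exact hynot

end Cfsg.Agent.H9.ODec
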