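import Mathlib
import Cfsg.Agent.H9.ODecA

set_option autoImplicit false
set_option linter.unusedSectionVars false
open Cfsg Matrix

/-!
Decompositions into hyperbolic planes: hyperbolic pairs in each member, and the case of the
fields with three and five elements (the norm-one vectors of the members form a frame).
-/

namespace Cfsg.Agent.H9.ODec

open Cfsg.Agent.H9.Orth
open Cfsg.Agent.Lib.Helper5.Orth (mem_stabilizing le_stabilizing mem_stabilizing_of_mapsTo
  mem_decompositionStabilizer omegaGL_Q)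

section Hyp

variable {ι : Type} [Fintype ι] [DecidableEq ι] {F : Type*} [Field F]
  {Q : (ι → F) → F} (hQ : Cfsg.Geo.IsNondegenerateQuadraticForm Q)

include hQ in
/-- expansion in a hyperbolic pair spanning a plane -/
lemma hyp_expansion (U : Submodule F (ι → F)) (hU : Module.finrank F U = 2) (e f : ι → F)
    (he : e ∈ U) (hf : f ∈ U) (hqe : Q e = 0) (hqf : Q f = 0) (hef : pol Q e f = 1)
    (v : ι → F) (hv : v ∈ U) : v = pol Q v f • e + pol Q v e • f := by
  have hfe : pol Q f e = 1 := by rw [pol_comm, hef]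
  have hee : pol Q e e = 0 := by rw [pol_self hQ, hqe, mul_zero]
  have hff : pol Q f f = 0 := by rw [pol_self hQ, hqf, mul_zero]
  have hli : LinearIndependent F ![e, f] := by
    rw [LinearIndependent.pair_iff]
    intro s t hst
    have h1 : pol Q (s • e + t • f) f = 0 := by rw [hst, pol_zero_left hQ]
    have h2 : pol Q (s • e + t • f) e = 0 := by rw [hst, pol_zero_left hQ]
    rw [pol_add_left hQ, pol_smul_left hQ, pol_smul_left hQ, hef, hff] at h1
    rw [pol_add_left hQ, pol_smul_left hQ, pol_smul_left hQ, hee, hfe] at h2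
    constructor
    · linear_combination h1
    · linear_combination h2
  have hspan : Submodule.span F (Set.range ![e, f]) = U := by
    apply Submodule.eq_of_le_of_finrank_eq
    · rw [Submodule.span_le]
      rintro _ ⟨i, rfl⟩
      fin_cases i
      · exact he
      · exact hf
    · rw [finrank_span_eq_card hli, hU, Fintype.card_fin]
  have hv' : v ∈ Submodule.span F (Set.range ![e, f]) := by rw [hspan]; exact hv
  have hr : Set.range ![e, f] = {e, f} := by
    ext x
    simp only [Set.mem_range, Set.mem_insert_iff, Set.mem_singleton_iff]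
    constructor
    · rintro ⟨i, rfl⟩
      fin_cases i
      · left; rfl
      · right; rfl
    · rintro (rfl | rfl)
      · exact ⟨0, rfl⟩
      · exact ⟨1, rfl⟩
  rw [hr] at hv'
  obtain ⟨s, t, rfl⟩ := Submodule.mem_span_pair.1 hv'
  rw [pol_add_left hQ, pol_add_left hQ, pol_smul_left hQ, pol_smul_left hQ, pol_smul_left hQ,
    pol_smul_left hQ, hef, hff, hee, hfe]
  congr 1
  · congr 1; ring
  · congr 1; ring

variable [Fintype F] {t : ℕ} (D : Fin t → Submodule F (ι → F))

include hQ in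
/-- hyperbolic pairs in all members of a decomposition into hyperbolic planes -/
lemma exists_hyp_family (hD : Cfsg.Geo.IsOrthogonalMDecomposition Q 2 D) (i₀ : Fin t)
    (hplus : Cfsg.Geo.IsPlusTypeOn Q (D i₀)) :
    ∃ e f : Fin t → (ι → F), (∀ i, e i ∈ D i) ∧ (∀ i, f i ∈ D i) ∧ (∀ i, Q (e i) = 0) ∧
      (∀ i, Q (f i) = 0) ∧ (∀ i, pol Q (e i) (f i) = 1) ∧
      (∀ i, ∀ v ∈ D i, v = pol Q v (f i) • e i + pol Q v (e i) • f i) := by
  classical
  obtain ⟨U, hUle, hUts, hUdim⟩ := hplus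
  rw [hD.decomp.decomp.finrank_eq i₀] at hUdim
  have hU1 : 0 < Module.finrank F U := by omega
  obtain ⟨⟨e₀, he₀U⟩, he₀'⟩ := Module.finrank_pos_iff_exists_ne_zero.1 hU1
  have he₀0 : e₀ ≠ 0 := fun h => he₀' (Subtype.ext h)
  have hqe₀ : Q e₀ = 0 := hUts e₀ he₀U
  have hrad := inf_perp_of_nondegOn hQ (D i₀) (hD.decomp.nondegenerate i₀)
  obtain ⟨f₀, hf₀, hqf₀, hef₀⟩ := exists_partner_self hQ (D i₀) hrad e₀ (hUle he₀U) he₀0 hqe₀
  have hiso : ∀ i, ∃ φ : D i₀ ≃ₗ[F] D i, ∀ w : D i₀, Q ((φ w : D i) : ι → F) = Q (w : ι → F) :=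
    fun i => hD.isometric i₀ i
  choose φ hφ using hiso
  have hφpol : ∀ i (a b : D i₀),
      pol Q ((φ i a : D i) : ι → F) ((φ i b : D i) : ι → F) = pol Q (a : ι → F) (b : ι → F) := by
    intro i a b
    have h1 : ((φ i a : D i) : ι → F) + ((φ i b : D i) : ι → F) = ((φ i (a + b) : D i) : ι → F) := by
      rw [map_add]; rfl
    rw [pol, QuadraticMap.polar, h1, hφ, hφ, hφ]
    rfl
  refine ⟨fun i => ((φ i ⟨e₀, hUle he₀U⟩ : D i) : ι → F), fun i => ((φ i ⟨f₀, hf₀⟩ : D i) : ι → F),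
    fun i => (φ i _).2, fun i => (φ i _).2, fun i => ?_, fun i => ?_, fun i => ?_, fun i v hv => ?_⟩
  · rw [hφ]; exact hqe₀
  · rw [hφ]; exact hqf₀
  · rw [hφpol]; exact hef₀
  · refine hyp_expansion hQ (D i) (hD.decomp.decomp.finrank_eq i) _ _ (φ i _).2 (φ i _).2 ?_ ?_ ?_ v hv
    · rw [hφ]; exact hqe₀
    · rw [hφ]; exact hqf₀
    · rw [hφpol]; exact hef₀

end Hyp

section Frame

variable {ι : Type} [Fintype ι] [DecidableEq ι] {F : Type*} [Field F] [Fintype F]
  {Q : (ι → F) → F} (hQ : Cfsg.Geo.IsNondegenerateQuadraticForm Q) {t : ℕ}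
  (D : Fin t → Submodule F (ι → F))

include hQ in
/-- decomposition into hyperbolic planes over a field in which every non-zero square is `±1` -/
theorem hyp_planes_frame_not_maximal (hn : 7 ≤ Fintype.card ι) (h2 : (2 : F) ≠ 0)
    (hsq : ∀ a : F, a ≠ 0 → a ^ 2 = 1 ∨ a ^ 2 = -1)
    (hD : Cfsg.Geo.IsOrthogonalMDecomposition Q 2 D) (ht : 3 ≤ t)
    (hplus : Cfsg.Geo.IsPlusTypeOn Q (D ⟨0, by omega⟩)) :
    ∃ K : Subgroup (GL ι F), Cfsg.Geo.decompositionStabilizer D ⊓ Cfsg.Geo.omegaGL Q < K ∧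
      K < Cfsg.Geo.omegaGL Q := by
  classical
  obtain ⟨e, f, he, hf, hqe, hqf, hef, hexp⟩ := exists_hyp_family hQ D hD _ hplus
  have horth : ∀ i j, i ≠ j → ∀ a ∈ D i, ∀ b ∈ D j, pol Q a b = 0 :=
    fun i j hij a ha b hb => hD.decomp.orthogonal i j hij a ha b hb
  have hfe : ∀ i, pol Q (f i) (e i) = 1 := fun i => by rw [pol_comm, hef]
  have hee : ∀ i, pol Q (e i) (e i) = 0 := fun i => by rw [pol_self hQ, hqe, mul_zero]
  have hff : ∀ i, pol Q (f i) (f i) = 0 := fun i => by rw [pol_self hQ, hqf, mul_zero]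
  let a : Fin t → (ι → F) := fun i => e i + f i
  have ha : ∀ i, a i ∈ D i := fun i => (D i).add_mem (he i) (hf i)
  have hqa : ∀ i, Q (a i) = 1 := fun i => by
    show Q (e i + f i) = 1
    rw [Q_add Q, hqe, hqf, hef]; ring
  have haa : ∀ i, pol Q (a i) (a i) = 2 := fun i => by rw [pol_self hQ, hqa, mul_one]
  have haorth : ∀ i j, i ≠ j → pol Q (a i) (a j) = 0 := fun i j hij =>
    horth i j hij _ (ha i) _ (ha j)
  -- classification relative to `a i`
  have hclass : ∀ i, ∀ v ∈ D i, Q v = 1 → v = a i ∨ v = - a i ∨ pol Q v (a i) = 0 := by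
    intro i v hv hqv
    have hv' := hexp i v hv
    set α := pol Q v (f i) with hα
    set β := pol Q v (e i) with hβ
    have hQv : α * β = 1 := by
      rw [← hqv]
      conv_rhs => rw [hv']
      rw [Q_add Q, hQ.smul, hQ.smul, hqe, hqf, pol_smul_left hQ, pol_smul_right hQ, hef]
      ring
    have hα0 : α ≠ 0 := by
      intro h
      rw [h, zero_mul] at hQv
      exact zero_ne_one hQv
    have hpva : pol Q v (a i) = β + α := by
      show pol Q v (e i + f i) = β + α
      rw [pol_add_right hQ]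
    rcases hsq α hα0 with h1 | h1
    · have hβα : β = α := by
        have : α * β = α * α := by rw [hQv, ← h1]; ring
        exact mul_left_cancel₀ hα0 this
      have hα1 : α = 1 ∨ α = -1 := by
        have : (α - 1) * (α + 1) = 0 := by linear_combination h1
        rcases mul_eq_zero.1 this with h | h
        · left; linear_combination h
        · right; linear_combination h
      rcases hα1 with h | h
      · left
        rw [hv', hβα, h, one_smul, one_smul]
      · right; left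
        rw [hv', hβα, h]
        show (-1 : F) • e i + (-1 : F) • f i = -(e i + f i)
        module
    · right; right
      rw [hpva]
      have : α * β = α * (-α) := by rw [hQv]; linear_combination h1
      have hβα : β = -α := mul_left_cancel₀ hα0 this
      rw [hβα]; ring
  let i₁ : Fin t := ⟨0, by omega⟩
  let i₂ : Fin t := ⟨1, by omega⟩
  let i₃ : Fin t := ⟨2, by omega⟩
  have h12 : i₁ ≠ i₂ := by simp [i₁, i₂, Fin.ext_iff]
  have h13 : i₁ ≠ i₃ := by simp [i₁, i₃, Fin.ext_iff]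
  have h23 : i₂ ≠ i₃ := by simp [i₂, i₃, Fin.ext_iff]
  -- alternatives for every norm-one vector against `a j`
  have halt : ∀ v ∈ Nc Q D 1, ∀ j, v = a j ∨ v = - a j ∨ pol Q v (a j) = 0 := by
    rintro v ⟨i, hv, hqv⟩ j
    by_cases hij : i = j
    · subst hij
      exact hclass i v hv hqv
    · right; right
      exact horth i j hij v hv _ (ha j)
  have hNa : ∀ j, a j ∈ Nc Q D 1 := fun j => ⟨j, ha j, hqa j⟩
  have hNna : ∀ j, - a j ∈ Nc Q D 1 := fun j => ⟨j, (D j).neg_mem (ha j), by rw [Q_neg hQ, hqa]⟩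
  set x := a i₁ - a i₂ with hx
  set y := a i₂ - a i₃ with hy
  have hqx : Q x = 2 := by
    rw [hx, Q_sub hQ, hqa, hqa, haorth _ _ h12]; ring
  have hqy : Q y = 2 := by
    rw [hy, Q_sub hQ, hqa, hqa, haorth _ _ h23]; ring
  have hqx0 : Q (a i₁ - a i₂) ≠ 0 := by rw [← hx, hqx]; exact h2
  have hqy0 : Q (a i₂ - a i₃) ≠ 0 := by rw [← hy, hqy]; exact h2
  set g := rf hQ x * rf hQ y with hg
  have hgΩ : g ∈ Cfsg.Geo.omegaGL Q := by
    rw [omegaGL_eq_NN hQ hn]
    exact rf_mul_rf_mem_NN hQ (by omega) x y (by rw [hqx, hqy])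
  -- action on the three frame vectors
  have hg1 : act g (a i₁) = a i₂ := by
    rw [hg, act_mul, act_rf_perp hQ y (a i₁) (by
      rw [hy, pol_sub_right hQ, haorth _ _ h12, haorth _ _ h13, sub_zero]), hx]
    exact act_rf_sub hQ _ _ (by rw [hqa, hqa]) hqx0
  have hg2 : act g (a i₂) = a i₃ := by
    rw [hg, act_mul, hy, act_rf_sub hQ _ _ (by rw [hqa, hqa]) hqy0]
    exact act_rf_perp hQ x (a i₃) (by
      rw [hx, pol_sub_right hQ, haorth _ _ h13.symm, haorth _ _ h23.symm, sub_zero])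
  have hg3 : act g (a i₃) = a i₁ := by
    rw [hg, act_mul, hy, act_rf_sub' hQ _ _ (by rw [hqa, hqa]) hqy0, hx]
    exact act_rf_sub' hQ _ _ (by rw [hqa, hqa]) hqx0
  have hgfix : ∀ v, pol Q v (a i₁) = 0 → pol Q v (a i₂) = 0 → pol Q v (a i₃) = 0 → act g v = v := by
    intro v v1 v2 v3
    rw [hg, act_mul, act_rf_perp hQ y v (by rw [hy, pol_sub_right hQ, v2, v3, sub_zero]),
      act_rf_perp hQ x v (by rw [hx, pol_sub_right hQ, v1, v2, sub_zero])]
  have hgS : ∀ v ∈ Nc Q D 1, act g v ∈ Nc Q D 1 := by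
    intro v hv
    rcases halt v hv i₁ with r1 | r1 | r1
    · rw [r1, hg1]; exact hNa _
    · rw [r1, act_neg, hg1]; exact hNna _
    rcases halt v hv i₂ with r2 | r2 | r2
    · rw [r2, hg2]; exact hNa _
    · rw [r2, act_neg, hg2]; exact hNna _
    rcases halt v hv i₃ with r3 | r3 | r3
    · rw [r3, hg3]; exact hNa _
    · rw [r3, act_neg, hg3]; exact hNna _
    rw [hgfix v r1 r2 r3]; exact hv
  -- `g` does not stabilise the decomposition
  have hge : act g (e i₁) = e i₁ - (2 : F)⁻¹ • x := by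
    rw [hg, act_mul, act_rf_perp hQ y (e i₁) (by
      rw [hy, pol_sub_right hQ, horth i₁ i₂ h12 _ (he _) _ (ha _), horth i₁ i₃ h13 _ (he _) _ (ha _),
        sub_zero]),
      act_rf hQ x (by rw [hqx]; exact h2), hqx]
    have : pol Q (e i₁) x = 1 := by
      rw [hx, pol_sub_right hQ, horth i₁ i₂ h12 _ (he _) _ (ha _), sub_zero]
      show pol Q (e i₁) (e i₁ + f i₁) = 1
      rw [pol_add_right hQ, hee, hef, zero_add]
    rw [this, mul_one]
  have hgD : g ∉ Cfsg.Geo.decompositionStabilizer D := by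
    refine not_mem_stab_of_tests D horth g i₁ i₁ i₂ h12 (e i₁) (e i₁) (a i₂) (he _) (he _) (ha _) ?_ ?_
    · rw [hge, pol_sub_left hQ, pol_smul_left hQ, hee, hx, pol_sub_left hQ,
        horth i₂ i₁ h12.symm _ (ha _) _ (he _), sub_zero]
      have : pol Q (a i₁) (e i₁) = 1 := by
        show pol Q (e i₁ + f i₁) (e i₁) = 1
        rw [pol_add_left hQ, hee, hfe, zero_add]
      rw [this, zero_sub, mul_one]
      exact neg_ne_zero.2 (inv_ne_zero h2)
    · rw [hge, pol_sub_left hQ, pol_smul_left hQ, horth i₁ i₂ h12 _ (he _) _ (ha _), hx,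
        pol_sub_left hQ, haorth _ _ h12, haa, zero_sub, zero_sub, mul_neg, neg_neg,
        inv_mul_cancel₀ h2]
      exact one_ne_zero
  refine ⟨Cfsg.stabilizing (Cfsg.glToMat ι F) (Nc Q D 1) ⊓ Cfsg.Geo.omegaGL Q, ?_, ?_⟩
  · exact lt_stabilizing D (Nc Q D 1) (stab_le_stabilizing D 1) g hgΩ hgS hgD
  · exact stabilizing_Nc_lt hQ D hn horth hD.decomp.nondegenerate
      (fun i => by rw [hD.decomp.decomp.finrank_eq i]) 1 one_ne_zero i₁ i₂ i₃ h12 h13 h23 (a i₁)
      (ha _) (hqa _)

end Frame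

end Cfsg.Agent.H9.ODec
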