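import Mathlib
import Cfsg.Agent.H9.ODecB
import Cfsg.Agent.S5638

set_option autoImplicit false
set_option linter.unusedSectionVars false
open Cfsg Matrix

/-!
Decompositions into hyperbolic planes over the field with two elements: the stabiliser of the
set of the non-singular vectors of the members is a proper overgroup.
-/

namespace Cfsg.Agent.H9.ODec

open Cfsg.Agent.H9.Orth
open Cfsg.Agent.Lib.Helper5.Orth (mem_stabilizing le_stabilizing mem_stabilizing_of_mapsTo
  mem_decompositionStabilizer omegaGL_Q)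

variable {ι : Type} [Fintype ι] [DecidableEq ι] {F : Type*} [Field F] [Fintype F]
  {Q : (ι → F) → F} (hQ : Cfsg.Geo.IsNondegenerateQuadraticForm Q) {t : ℕ}
  (D : Fin t → Submodule F (ι → F))

include hQ in
theorem hyp_planes_two_not_maximal (hn : 7 ≤ Fintype.card ι) (hq : Fintype.card F = 2)
    (hD : Cfsg.Geo.IsOrthogonalMDecomposition Q 2 D) (ht : 4 ≤ t)
    (hplus : Cfsg.Geo.IsPlusTypeOn Q (D ⟨0, by omega⟩)) :
    ∃ K : Subgroup (GL ι F), Cfsg.Geo.decompositionStabilizer D ⊓ Cfsg.Geo.omegaGL Q < K ∧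
      K < Cfsg.Geo.omegaGL Q := by
  classical
  have h11 : (1 : F) + 1 = 0 := Cfsg.Agent.S5638.h11 hq
  have h20 : (2 : F) = 0 := by rw [← one_add_one_eq_two]; exact h11
  have h01 := Cfsg.Agent.S5638.h01 hq
  obtain ⟨e, f, he, hf, hqe, hqf, hef, hexp⟩ := exists_hyp_family hQ D hD _ hplus
  have horth : ∀ i j, i ≠ j → ∀ a ∈ D i, ∀ b ∈ D j, pol Q a b = 0 :=
    fun i j hij a ha b hb => hD.decomp.orthogonal i j hij a ha b hb
  have hfe : ∀ i, pol Q (f i) (e i) = 1 := fun i => by rw [pol_comm, hef]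
  have hee : ∀ i, pol Q (e i) (e i) = 0 := fun i => by rw [pol_self hQ, hqe, mul_zero]
  have hff : ∀ i, pol Q (f i) (f i) = 0 := fun i => by rw [pol_self hQ, hqf, mul_zero]
  obtain ⟨z, hzdef⟩ : ∃ z : Fin t → (ι → F), ∀ i, z i = e i + f i := ⟨fun i => e i + f i, fun _ => rfl⟩
  have hz : ∀ i, z i ∈ D i := fun i => by rw [hzdef]; exact (D i).add_mem (he i) (hf i)
  have hqz : ∀ i, Q (z i) = 1 := fun i => by
    rw [hzdef, Q_add Q, hqe, hqf, hef]; ring
  have hzz : ∀ i j, pol Q (z i) (z j) = 0 := by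
    intro i j
    by_cases hij : i = j
    · subst hij
      rw [pol_self hQ, h20, zero_mul]
    · exact horth i j hij _ (hz i) _ (hz j)
  -- classification
  have hclass : ∀ i, ∀ v ∈ D i, Q v = 1 → v = z i := by
    intro i v hv hqv
    have hv' := hexp i v hv
    set α := pol Q v (f i) with hα
    set β := pol Q v (e i) with hβ
    have hQv : α * β = 1 := by
      rw [← hqv]
      conv_rhs => rw [hv']
      rw [Q_add Q, hQ.smul, hQ.smul, hqe, hqf, pol_smul_left hQ, pol_smul_right hQ, hef]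
      ring
    have hα1 : α = 1 := by
      rcases h01 α with h | h
      · rw [h, zero_mul] at hQv; exact absurd hQv zero_ne_one
      · exact h
    have hβ1 : β = 1 := by rw [hα1, one_mul] at hQv; exact hQv
    rw [hv', hα1, hβ1, one_smul, one_smul, hzdef]
  let i₁ : Fin t := ⟨0, by omega⟩
  let i₂ : Fin t := ⟨1, by omega⟩
  let i₃ : Fin t := ⟨2, by omega⟩
  let i₄ : Fin t := ⟨3, by omega⟩
  have h12 : i₁ ≠ i₂ := by simp [i₁, i₂, Fin.ext_iff]
  have h13 : i₁ ≠ i₃ := by simp [i₁, i₃, Fin.ext_iff]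
  have h14 : i₁ ≠ i₄ := by simp [i₁, i₄, Fin.ext_iff]
  have h23 : i₂ ≠ i₃ := by simp [i₂, i₃, Fin.ext_iff]
  set u := z i₁ + z i₂ with hu
  set w := z i₃ + z i₄ with hw
  have hqu : Q u = 0 := by
    rw [hu, Q_add Q, hqz, hqz, hzz, add_zero]; exact h11
  have hqw : Q w = 0 := by
    rw [hw, Q_add Q, hqz, hqz, hzz, add_zero]; exact h11
  have huw : pol Q u w = 0 := by
    rw [hu, hw, pol_add_left hQ, pol_add_right hQ, pol_add_right hQ, hzz, hzz, hzz, hzz]; ring
  set g := sg hQ u w with hg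
  have hgΩ : g ∈ Cfsg.Geo.omegaGL Q := by
    rw [omegaGL_eq_NN hQ hn]
    exact sg_mem_NN hQ u w hqu hqw huw
  have hgS : ∀ v ∈ Nc Q D 1, act g v ∈ Nc Q D 1 := by
    rintro v ⟨i, hv, hqv⟩
    have hvz := hclass i v hv hqv
    have h1 : pol Q v u = 0 := by rw [hvz, hu, pol_add_right hQ, hzz, hzz, add_zero]
    have h2 : pol Q v w = 0 := by rw [hvz, hw, pol_add_right hQ, hzz, hzz, add_zero]
    rw [hg, act_sg hQ u w hqu huw, h1, h2]
    simp only [mul_zero, sub_zero, zero_smul, add_zero]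
    exact ⟨i, hv, hqv⟩
  have hge : act g (e i₁) = e i₁ - w := by
    rw [hg, act_sg hQ u w hqu huw, hqw]
    have h1 : pol Q (e i₁) w = 0 := by
      rw [hw, pol_add_right hQ, horth i₁ i₃ h13 _ (he _) _ (hz _), horth i₁ i₄ h14 _ (he _) _ (hz _),
        add_zero]
    have h2 : pol Q (e i₁) u = 1 := by
      rw [hu, pol_add_right hQ, horth i₁ i₂ h12 _ (he _) _ (hz _), add_zero]
      rw [hzdef, pol_add_right hQ, hee, hef, zero_add]
    rw [h1, h2]
    simp only [zero_mul, sub_zero, zero_smul, add_zero, one_smul]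
  have hgD : g ∉ Cfsg.Geo.decompositionStabilizer D := by
    refine not_mem_stab_of_tests D horth g i₁ i₁ i₃ h13 (e i₁) (f i₁) (e i₃) (he _) (hf _) (he _) ?_ ?_
    · rw [hge, pol_sub_left hQ, hef, hw, pol_add_left hQ, horth i₃ i₁ h13.symm _ (hz _) _ (hf _),
        horth i₄ i₁ h14.symm _ (hz _) _ (hf _)]
      simp
    · rw [hge, pol_sub_left hQ, horth i₁ i₃ h13 _ (he _) _ (he _), hw, pol_add_left hQ,
        horth i₄ i₃ (by simp [i₃, i₄, Fin.ext_iff]) _ (hz _) _ (he _), add_zero]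
      have : pol Q (z i₃) (e i₃) = 1 := by
        rw [hzdef, pol_add_left hQ, hee, hfe, zero_add]
      rw [this]
      simp
  refine ⟨Cfsg.stabilizing (Cfsg.glToMat ι F) (Nc Q D 1) ⊓ Cfsg.Geo.omegaGL Q, ?_, ?_⟩
  · exact lt_stabilizing D (Nc Q D 1) (stab_le_stabilizing D 1) g hgΩ hgS hgD
  · exact stabilizing_Nc_lt hQ D hn horth hD.decomp.nondegenerate
      (fun i => by rw [hD.decomp.decomp.finrank_eq i]) 1 one_ne_zero i₁ i₂ i₃ h12 h13 h23 (z i₁)
      (hz _) (hqz _)

end Cfsg.Agent.H9.ODec
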