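import Mathlib
import Cfsg.Agent.H9.ODecB
import Cfsg.Agent.S5638

set_option autoImplicit false
set_option linter.unusedSectionVars false
open Cfsg Matrix

/-!
Decompositions into hyperbolic 4-spaces over the field with two elements: each member is the
orthogonal sum of two anisotropic planes in a unique way; the stabiliser of the set of the
non-singular vectors of the members is a proper overgroup of the decomposition stabiliser.
-/

namespace Cfsg.Agent.H9.ODec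

open Cfsg.Agent.H9.Orth
open Cfsg.Agent.Lib.Helper5.Orth (mem_stabilizing le_stabilizing mem_stabilizing_of_mapsTo
  mem_decompositionStabilizer omegaGL_Q)

section Hyp4

variable {ι : Type} [Fintype ι] [DecidableEq ι] {F : Type*} [Field F] [Fintype F]
  {Q : (ι → F) → F} (hQ : Cfsg.Geo.IsNondegenerateQuadraticForm Q)

include hQ in
/-- expansion in two orthogonal hyperbolic pairs spanning a nondegenerate 4-space -/
lemma hyp_expansion4 (U : Submodule F (ι → F)) (hU : Module.finrank F U = 4)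
    (hrad : U ⊓ perp hQ U = ⊥) (e1 f1 e2 f2 : ι → F)
    (he1 : e1 ∈ U) (hf1 : f1 ∈ U) (he2 : e2 ∈ U) (hf2 : f2 ∈ U)
    (hqe1 : Q e1 = 0) (hqf1 : Q f1 = 0) (hqe2 : Q e2 = 0) (hqf2 : Q f2 = 0)
    (h11' : pol Q e1 f1 = 1) (h22 : pol Q e2 f2 = 1) (hee : pol Q e1 e2 = 0)
    (hef : pol Q e1 f2 = 0) (hfe : pol Q f1 e2 = 0) (hff : pol Q f1 f2 = 0)
    (v : ι → F) (hv : v ∈ U) :
    v = pol Q v f1 • e1 + pol Q v e1 • f1 + pol Q v f2 • e2 + pol Q v e2 • f2 := by
  have s1 : pol Q e1 e1 = 0 := by rw [pol_self hQ, hqe1, mul_zero]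
  have s2 : pol Q f1 f1 = 0 := by rw [pol_self hQ, hqf1, mul_zero]
  have s3 : pol Q e2 e2 = 0 := by rw [pol_self hQ, hqe2, mul_zero]
  have s4 : pol Q f2 f2 = 0 := by rw [pol_self hQ, hqf2, mul_zero]
  have c1 : pol Q f1 e1 = 1 := by rw [pol_comm, h11']
  have c2 : pol Q f2 e2 = 1 := by rw [pol_comm, h22]
  have c3 : pol Q e2 e1 = 0 := by rw [pol_comm, hee]
  have c4 : pol Q f2 e1 = 0 := by rw [pol_comm, hef]
  have c5 : pol Q e2 f1 = 0 := by rw [pol_comm, hfe]
  have c6 : pol Q f2 f1 = 0 := by rw [pol_comm, hff]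
  have hli : LinearIndependent F ![e1, f1, e2, f2] := by
    rw [Fintype.linearIndependent_iff]
    intro g hg
    rw [Fin.sum_univ_four] at hg
    simp only [Matrix.cons_val_zero, Matrix.cons_val_one, Matrix.cons_val_two,
      Matrix.cons_val_three, Matrix.head_cons, Matrix.tail_cons] at hg
    have p1 := congrArg (fun x => pol Q x f1) hg
    have p2 := congrArg (fun x => pol Q x e1) hg
    have p3 := congrArg (fun x => pol Q x f2) hg
    have p4 := congrArg (fun x => pol Q x e2) hg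
    simp only [pol_add_left hQ, pol_smul_left hQ, pol_zero_left hQ, h11', s2, c5, c6, s1, c1, c3,
      c4, hef, hff, h22, s4, hee, hfe, s3, c2, mul_zero, mul_one, add_zero, zero_add] at p1 p2 p3 p4
    intro i
    fin_cases i
    · exact p1
    · exact p2
    · exact p3
    · exact p4
  have hspan : Submodule.span F (Set.range ![e1, f1, e2, f2]) = U := by
    apply Submodule.eq_of_le_of_finrank_eq
    · rw [Submodule.span_le]
      rintro _ ⟨i, rfl⟩
      fin_cases i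
      · exact he1
      · exact hf1
      · exact he2
      · exact hf2
    · rw [finrank_span_eq_card hli, hU, Fintype.card_fin]
  set w := v - (pol Q v f1 • e1 + pol Q v e1 • f1 + pol Q v f2 • e2 + pol Q v e2 • f2) with hw
  have hwU : w ∈ U := by
    refine U.sub_mem hv ?_
    exact U.add_mem (U.add_mem (U.add_mem (U.smul_mem _ he1) (U.smul_mem _ hf1)) (U.smul_mem _ he2))
      (U.smul_mem _ hf2)
  have hwb : ∀ i, pol Q w (![e1, f1, e2, f2] i) = 0 := by
    intro i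
    fin_cases i
    · show pol Q w e1 = 0
      rw [hw]
      simp only [pol_sub_left hQ, pol_add_left hQ, pol_smul_left hQ, s1, c1, c3, c4]
      ring
    · show pol Q w f1 = 0
      rw [hw]
      simp only [pol_sub_left hQ, pol_add_left hQ, pol_smul_left hQ, h11', s2, c5, c6]
      ring
    · show pol Q w e2 = 0
      rw [hw]
      simp only [pol_sub_left hQ, pol_add_left hQ, pol_smul_left hQ, hee, hfe, s3, c2]
      ring
    · show pol Q w f2 = 0
      rw [hw]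
      simp only [pol_sub_left hQ, pol_add_left hQ, pol_smul_left hQ, hef, hff, h22, s4]
      ring
  have hwperp : w ∈ perp hQ U := by
    rw [mem_perp']
    intro d hd
    rw [← hspan] at hd
    induction hd using Submodule.span_induction with
    | mem x hx => obtain ⟨i, rfl⟩ := hx; exact hwb i
    | zero => exact pol_zero_right hQ w
    | add x y _ _ hx hy => rw [pol_add_right hQ, hx, hy, add_zero]
    | smul c x _ hx => rw [pol_smul_right hQ, hx, mul_zero]
  have hw0 := inf_perp_mem_eq_zero hQ U hrad w hwU hwperp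
  rw [hw, sub_eq_zero] at hw0
  exact hw0

variable {t : ℕ} (D : Fin t → Submodule F (ι → F))

include hQ in
/-- two orthogonal hyperbolic pairs in all members of a decomposition into plus-type 4-spaces -/
lemma exists_hyp_family4 (hD : Cfsg.Geo.IsOrthogonalMDecomposition Q 4 D) (i₀ : Fin t)
    (hplus : Cfsg.Geo.IsPlusTypeOn Q (D i₀)) :
    ∃ e1 f1 e2 f2 : Fin t → (ι → F), (∀ i, e1 i ∈ D i) ∧ (∀ i, f1 i ∈ D i) ∧ (∀ i, e2 i ∈ D i) ∧
      (∀ i, f2 i ∈ D i) ∧ (∀ i, Q (e1 i) = 0) ∧ (∀ i, Q (f1 i) = 0) ∧ (∀ i, Q (e2 i) = 0) ∧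
      (∀ i, Q (f2 i) = 0) ∧ (∀ i, pol Q (e1 i) (f1 i) = 1) ∧ (∀ i, pol Q (e2 i) (f2 i) = 1) ∧
      (∀ i, pol Q (e1 i) (e2 i) = 0) ∧ (∀ i, pol Q (e1 i) (f2 i) = 0) ∧
      (∀ i, pol Q (f1 i) (e2 i) = 0) ∧ (∀ i, pol Q (f1 i) (f2 i) = 0) ∧
      (∀ i, ∀ v ∈ D i, v = pol Q v (f1 i) • e1 i + pol Q v (e1 i) • f1 i + pol Q v (f2 i) • e2 i +
        pol Q v (e2 i) • f2 i) := by
  classical
  obtain ⟨U, hUle, hUts, hUdim⟩ := hplus
  rw [hD.decomp.decomp.finrank_eq i₀] at hUdim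
  have hU2 : Module.finrank F U = 2 := by omega
  have hrad := inf_perp_of_nondegOn hQ (D i₀) (hD.decomp.nondegenerate i₀)
  have hUpol : ∀ x ∈ U, ∀ y ∈ U, pol Q x y = 0 := fun x hx y hy =>
    polar_eq_zero_of_ts U hUts x y hx hy
  -- first pair
  have hU1 : 0 < Module.finrank F U := by omega
  obtain ⟨⟨a₁, ha₁U⟩, ha₁'⟩ := Module.finrank_pos_iff_exists_ne_zero.1 hU1
  have ha₁0 : a₁ ≠ 0 := fun h => ha₁' (Subtype.ext h)
  have hqa₁ : Q a₁ = 0 := hUts a₁ ha₁U
  obtain ⟨b₁, hb₁, hqb₁, hab₁⟩ := exists_partner_self hQ (D i₀) hrad a₁ (hUle ha₁U) ha₁0 hqa₁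
  -- second singular vector
  have hex : ∃ u' ∈ U, u' ∉ Submodule.span F {a₁} := by
    by_contra hcon
    push Not at hcon
    have hle : U ≤ Submodule.span F {a₁} := fun x hx => hcon x hx
    have := Submodule.finrank_mono hle
    have h1 := finrank_span_singleton_le (F := F) a₁
    omega
  obtain ⟨u', hu'U, hu'not⟩ := hex
  set a₂ := u' - pol Q u' b₁ • a₁ with ha₂
  have ha₂U : a₂ ∈ U := U.sub_mem hu'U (U.smul_mem _ ha₁U)
  have ha₂0 : a₂ ≠ 0 := by
    intro h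
    apply hu'not
    rw [ha₂, sub_eq_zero] at h
    rw [h]
    exact Submodule.smul_mem _ _ (Submodule.mem_span_singleton_self a₁)
  have hqa₂ : Q a₂ = 0 := hUts a₂ ha₂U
  have ha₂b₁ : pol Q a₂ b₁ = 0 := by
    rw [ha₂, pol_sub_left hQ, pol_smul_left hQ, hab₁]; ring
  have ha₁a₂ : pol Q a₁ a₂ = 0 := hUpol a₁ ha₁U a₂ ha₂U
  obtain ⟨b', hb', hqb', hab'⟩ := exists_partner_self hQ (D i₀) hrad a₂ (hUle ha₂U) ha₂0 hqa₂
  set γ := pol Q b' b₁ * pol Q b' a₁ with hγ
  set b₂ := b' - pol Q b' b₁ • a₁ - pol Q b' a₁ • b₁ + γ • a₂ with hb₂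
  have hb₂mem : b₂ ∈ D i₀ := by
    refine (D i₀).add_mem ((D i₀).sub_mem ((D i₀).sub_mem hb' ((D i₀).smul_mem _ (hUle ha₁U)))
      ((D i₀).smul_mem _ hb₁)) ((D i₀).smul_mem _ (hUle ha₂U))
  have hb₁a₁ : pol Q b₁ a₁ = 1 := by rw [pol_comm, hab₁]
  have ha₂a₁ : pol Q a₂ a₁ = 0 := by rw [pol_comm, ha₁a₂]
  have hb₁a₂ : pol Q b₁ a₂ = 0 := by rw [pol_comm, ha₂b₁]
  have hb'a₂ : pol Q b' a₂ = 1 := by rw [pol_comm, hab']
  have sa₁ : pol Q a₁ a₁ = 0 := by rw [pol_self hQ, hqa₁, mul_zero]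
  have sb₁ : pol Q b₁ b₁ = 0 := by rw [pol_self hQ, hqb₁, mul_zero]
  have sa₂ : pol Q a₂ a₂ = 0 := by rw [pol_self hQ, hqa₂, mul_zero]
  have hb₂a₁ : pol Q b₂ a₁ = 0 := by
    rw [hb₂]
    simp only [pol_add_left hQ, pol_sub_left hQ, pol_smul_left hQ, sa₁, hb₁a₁, ha₂a₁]
    ring
  have hb₂b₁ : pol Q b₂ b₁ = 0 := by
    rw [hb₂]
    simp only [pol_add_left hQ, pol_sub_left hQ, pol_smul_left hQ, hab₁, sb₁, ha₂b₁]
    ring
  have hb₂a₂ : pol Q b₂ a₂ = 1 := by
    rw [hb₂]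
    simp only [pol_add_left hQ, pol_sub_left hQ, pol_smul_left hQ, ha₁a₂, hb₁a₂, sa₂, hb'a₂]
    ring
  have hqb₂ : Q b₂ = 0 := by
    have e1 : b₂ = b' + ((-pol Q b' b₁) • a₁ + (-pol Q b' a₁) • b₁ + γ • a₂) := by
      rw [hb₂]; module
    rw [e1, Q_add Q, Q_add Q, Q_add Q, hQ.smul, hQ.smul, hQ.smul, hqa₁, hqb₁, hqa₂, hqb']
    simp only [pol_add_right hQ, pol_add_left hQ, pol_smul_left hQ, pol_smul_right hQ, hab₁,
      ha₁a₂, hb₁a₂, hb'a₂]
    rw [hγ]
    ring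
  -- transport
  have hiso : ∀ i, ∃ φ : D i₀ ≃ₗ[F] D i, ∀ w : D i₀, Q ((φ w : D i) : ι → F) = Q (w : ι → F) :=
    fun i => hD.isometric i₀ i
  choose φ hφ using hiso
  have hφpol : ∀ i (a b : D i₀),
      pol Q ((φ i a : D i) : ι → F) ((φ i b : D i) : ι → F) = pol Q (a : ι → F) (b : ι → F) := by
    intro i a b
    have h1 : ((φ i a : D i) : ι → F) + ((φ i b : D i) : ι → F) = ((φ i (a + b) : D i) : ι → F) := by
      rw [map_add]; rfl
    rw [pol, QuadraticMap.polar, h1, hφ, hφ, hφ]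
    rfl
  have key : ∀ i, (Q ((φ i ⟨a₁, hUle ha₁U⟩ : D i) : ι → F) = 0) ∧
      (Q ((φ i ⟨b₁, hb₁⟩ : D i) : ι → F) = 0) ∧ (Q ((φ i ⟨a₂, hUle ha₂U⟩ : D i) : ι → F) = 0) ∧
      (Q ((φ i ⟨b₂, hb₂mem⟩ : D i) : ι → F) = 0) := by
    intro i
    refine ⟨by rw [hφ]; exact hqa₁, by rw [hφ]; exact hqb₁, by rw [hφ]; exact hqa₂,
      by rw [hφ]; exact hqb₂⟩
  refine ⟨fun i => ((φ i ⟨a₁, hUle ha₁U⟩ : D i) : ι → F), fun i => ((φ i ⟨b₁, hb₁⟩ : D i) : ι → F),
    fun i => ((φ i ⟨a₂, hUle ha₂U⟩ : D i) : ι → F), fun i => ((φ i ⟨b₂, hb₂mem⟩ : D i) : ι → F),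
    fun i => (φ i _).2, fun i => (φ i _).2, fun i => (φ i _).2, fun i => (φ i _).2,
    fun i => (key i).1, fun i => (key i).2.1, fun i => (key i).2.2.1, fun i => (key i).2.2.2,
    fun i => ?_, fun i => ?_, fun i => ?_, fun i => ?_, fun i => ?_, fun i => ?_, fun i v hv => ?_⟩
  · rw [hφpol]; exact hab₁
  · rw [hφpol]; rw [pol_comm]; exact hb₂a₂
  · rw [hφpol]; exact ha₁a₂
  · rw [hφpol]; rw [pol_comm]; exact hb₂a₁
  · rw [hφpol]; exact hb₁a₂
  · rw [hφpol]; rw [pol_comm]; exact hb₂b₁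
  · refine hyp_expansion4 hQ (D i) (hD.decomp.decomp.finrank_eq i)
      (inf_perp_of_nondegOn hQ (D i) (hD.decomp.nondegenerate i)) _ _ _ _ (φ i _).2 (φ i _).2
      (φ i _).2 (φ i _).2 (key i).1 (key i).2.1 (key i).2.2.1 (key i).2.2.2 ?_ ?_ ?_ ?_ ?_ ?_ v hv
    · rw [hφpol]; exact hab₁
    · rw [hφpol]; rw [pol_comm]; exact hb₂a₂
    · rw [hφpol]; exact ha₁a₂
    · rw [hφpol]; rw [pol_comm]; exact hb₂a₁
    · rw [hφpol]; exact hb₁a₂
    · rw [hφpol]; rw [pol_comm]; exact hb₂b₁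

end Hyp4

section Main4

variable {ι : Type} [Fintype ι] [DecidableEq ι] {F : Type*} [Field F] [Fintype F]
  {Q : (ι → F) → F} (hQ : Cfsg.Geo.IsNondegenerateQuadraticForm Q) {t : ℕ}
  (D : Fin t → Submodule F (ι → F))

theorem f2_class (hq : Fintype.card F = 2) (α1 β1 α2 β2 : F)
    (h : α1 * β1 + α2 * β2 = 1) :
    (α1 + β1 + β2 = 0 ∧ α1 + β1 + α2 = 0) ∨
      (α1 = (α1 + β1 + β2) + (α1 + β1 + α2) ∧ β1 = (α1 + β1 + β2) + (α1 + β1 + α2) ∧
        α2 = α1 + β1 + α2 ∧ β2 = α1 + β1 + β2) := by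
  have h1 := Cfsg.Agent.S5638.h11 hq
  rcases Cfsg.Agent.S5638.h01 hq α1 with rfl | rfl <;>
    rcases Cfsg.Agent.S5638.h01 hq β1 with rfl | rfl <;>
    rcases Cfsg.Agent.S5638.h01 hq α2 with rfl | rfl <;>
    rcases Cfsg.Agent.S5638.h01 hq β2 with rfl | rfl <;>
    simp [h1] at h ⊢

include hQ in
theorem hyp_four_two_not_maximal (hn : 7 ≤ Fintype.card ι) (hq : Fintype.card F = 2)
    (hD : Cfsg.Geo.IsOrthogonalMDecomposition Q 4 D) (ht : 3 ≤ t)
    (hplus : Cfsg.Geo.IsPlusTypeOn Q (D ⟨0, by omega⟩)) :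
    ∃ K : Subgroup (GL ι F), Cfsg.Geo.decompositionStabilizer D ⊓ Cfsg.Geo.omegaGL Q < K ∧
      K < Cfsg.Geo.omegaGL Q := by
  classical
  have h11 : (1 : F) + 1 = 0 := Cfsg.Agent.S5638.h11 hq
  have h20 : (2 : F) = 0 := by rw [← one_add_one_eq_two]; exact h11
  have h01 := Cfsg.Agent.S5638.h01 hq
  have hnegF : ∀ x : F, -x = x := fun x => by
    have : x + x = 0 := by linear_combination x * h11
    linear_combination -this
  obtain ⟨e1, f1, e2, f2, he1, hf1, he2, hf2, hqe1, hqf1, hqe2, hqf2, p11, p22, pee, pef, pfe, pff,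
    hexp⟩ := exists_hyp_family4 hQ D hD _ hplus
  have horth : ∀ i j, i ≠ j → ∀ a ∈ D i, ∀ b ∈ D j, pol Q a b = 0 :=
    fun i j hij a ha b hb => hD.decomp.orthogonal i j hij a ha b hb
  have s1 : ∀ i, pol Q (e1 i) (e1 i) = 0 := fun i => by rw [pol_self hQ, hqe1, mul_zero]
  have s2 : ∀ i, pol Q (f1 i) (f1 i) = 0 := fun i => by rw [pol_self hQ, hqf1, mul_zero]
  have s3 : ∀ i, pol Q (e2 i) (e2 i) = 0 := fun i => by rw [pol_self hQ, hqe2, mul_zero]
  have s4 : ∀ i, pol Q (f2 i) (f2 i) = 0 := fun i => by rw [pol_self hQ, hqf2, mul_zero]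
  have c1 : ∀ i, pol Q (f1 i) (e1 i) = 1 := fun i => by rw [pol_comm, p11]
  have c2 : ∀ i, pol Q (f2 i) (e2 i) = 1 := fun i => by rw [pol_comm, p22]
  have c3 : ∀ i, pol Q (e2 i) (e1 i) = 0 := fun i => by rw [pol_comm, pee]
  have c4 : ∀ i, pol Q (f2 i) (e1 i) = 0 := fun i => by rw [pol_comm, pef]
  have c5 : ∀ i, pol Q (e2 i) (f1 i) = 0 := fun i => by rw [pol_comm, pfe]
  have c6 : ∀ i, pol Q (f2 i) (f1 i) = 0 := fun i => by rw [pol_comm, pff]
  obtain ⟨a, hadef⟩ : ∃ a : Fin t → (ι → F), ∀ i, a i = e1 i + f1 i + e2 i :=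
    ⟨fun i => e1 i + f1 i + e2 i, fun _ => rfl⟩
  obtain ⟨b, hbdef⟩ : ∃ b : Fin t → (ι → F), ∀ i, b i = e1 i + f1 i + f2 i :=
    ⟨fun i => e1 i + f1 i + f2 i, fun _ => rfl⟩
  have ha : ∀ i, a i ∈ D i := fun i => by
    rw [hadef]; exact (D i).add_mem ((D i).add_mem (he1 i) (hf1 i)) (he2 i)
  have hb : ∀ i, b i ∈ D i := fun i => by
    rw [hbdef]; exact (D i).add_mem ((D i).add_mem (he1 i) (hf1 i)) (hf2 i)
  have hqa : ∀ i, Q (a i) = 1 := fun i => by
    rw [hadef, Q_add Q, Q_add Q, hqe1, hqf1, hqe2, p11, pol_add_left hQ, pee, pfe]; ring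
  have hqb : ∀ i, Q (b i) = 1 := fun i => by
    rw [hbdef, Q_add Q, Q_add Q, hqe1, hqf1, hqf2, p11, pol_add_left hQ, pef, pff]; ring
  have hab : ∀ i, pol Q (a i) (b i) = 1 := fun i => by
    rw [hadef, hbdef]
    simp only [pol_add_left hQ, pol_add_right hQ, s1, s2, p11, c1, pef, pff, c3, c5, p22]
    linear_combination h11
  have hba : ∀ i, pol Q (b i) (a i) = 1 := fun i => by rw [pol_comm, hab]
  have haa : ∀ i, pol Q (a i) (a i) = 0 := fun i => by rw [pol_self hQ, h20, zero_mul]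
  have hbb : ∀ i, pol Q (b i) (b i) = 0 := fun i => by rw [pol_self hQ, h20, zero_mul]
  -- coordinates of the pairings with a, b
  have hva : ∀ i v, pol Q v (a i) = pol Q v (e1 i) + pol Q v (f1 i) + pol Q v (e2 i) := fun i v => by
    rw [hadef, pol_add_right hQ, pol_add_right hQ]
  have hvb : ∀ i v, pol Q v (b i) = pol Q v (e1 i) + pol Q v (f1 i) + pol Q v (f2 i) := fun i v => by
    rw [hbdef, pol_add_right hQ, pol_add_right hQ]
  -- classification: a norm-one vector of a member is perpendicular to a, b or lies in their plane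
  have hclass : ∀ i, ∀ v ∈ D i, Q v = 1 → (pol Q v (a i) = 0 ∧ pol Q v (b i) = 0) ∨
      v = pol Q v (b i) • a i + pol Q v (a i) • b i := by
    intro i v hv hqv
    have hv' := hexp i v hv
    set α1 := pol Q v (f1 i) with hα1
    set β1 := pol Q v (e1 i) with hβ1
    set α2 := pol Q v (f2 i) with hα2
    set β2 := pol Q v (e2 i) with hβ2
    have hQv : α1 * β1 + α2 * β2 = 1 := by
      rw [← hqv]
      conv_rhs => rw [hv']
      rw [Q_add Q, Q_add Q, Q_add Q, hQ.smul, hQ.smul, hQ.smul, hQ.smul, hqe1, hqf1, hqe2, hqf2]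
      simp only [pol_add_left hQ, pol_smul_left hQ, pol_smul_right hQ, p11, pee, pef, pfe, pff, p22]
      ring
    have e1' : pol Q v (a i) = α1 + β1 + β2 := by rw [hva]; ring
    have e2' : pol Q v (b i) = α1 + β1 + α2 := by rw [hvb]; ring
    rcases f2_class hq α1 β1 α2 β2 hQv with ⟨k1, k2⟩ | ⟨k1, k2, k3, k4⟩
    · left
      exact ⟨by rw [e1', k1], by rw [e2', k2]⟩
    · right
      rw [e1', e2', hadef, hbdef]
      conv_lhs => rw [hv']
      set X := α1 + β1 + β2 with hX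
      set Y := α1 + β1 + α2 with hY
      have t1 : α1 = X + Y := k1
      have t2 : β1 = X + Y := k2
      have t3 : α2 = Y := k3
      have t4 : β2 = X := k4
      rw [t1, t2, t3, t4]
      module
  let i₁ : Fin t := ⟨0, by omega⟩
  let i₂ : Fin t := ⟨1, by omega⟩
  let i₃ : Fin t := ⟨2, by omega⟩
  have h12 : i₁ ≠ i₂ := by simp [i₁, i₂, Fin.ext_iff]
  have h13 : i₁ ≠ i₃ := by simp [i₁, i₃, Fin.ext_iff]
  have h23 : i₂ ≠ i₃ := by simp [i₂, i₃, Fin.ext_iff]
  set u := a i₁ + a i₂ with hu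
  set w := b i₁ + b i₂ with hw
  have hqu : Q u = 0 := by
    rw [hu, Q_add Q, hqa, hqa, horth i₁ i₂ h12 _ (ha _) _ (ha _), add_zero]; exact h11
  have hqw : Q w = 0 := by
    rw [hw, Q_add Q, hqb, hqb, horth i₁ i₂ h12 _ (hb _) _ (hb _), add_zero]; exact h11
  have huw : pol Q u w = 0 := by
    rw [hu, hw, pol_add_left hQ, pol_add_right hQ, pol_add_right hQ, hab, hab,
      horth i₁ i₂ h12 _ (ha _) _ (hb _), horth i₂ i₁ h12.symm _ (ha _) _ (hb _)]
    linear_combination h11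
  set g := sg hQ u w with hg
  have hgΩ : g ∈ Cfsg.Geo.omegaGL Q := by
    rw [omegaGL_eq_NN hQ hn]
    exact sg_mem_NN hQ u w hqu hqw huw
  have hgv : ∀ v, act g v = v + pol Q v w • u + pol Q v u • w := by
    intro v
    rw [hg, act_sg hQ u w hqu huw, hqw, zero_mul, sub_zero, sub_eq_add_neg, ← neg_smul, hnegF]
  -- the norm of a non-trivial combination of a, b
  have hqcomb : ∀ i (x y : F), ¬ (x = 0 ∧ y = 0) → Q (y • a i + x • b i) = 1 := by
    intro i x y hxy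
    rw [Q_add Q, hQ.smul, hQ.smul, hqa, hqb, pol_smul_left hQ, pol_smul_right hQ, hab]
    rcases h01 x with rfl | rfl <;> rcases h01 y with rfl | rfl
    · exact absurd ⟨rfl, rfl⟩ hxy
    · ring
    · ring
    · linear_combination h11
  -- action of g on norm-one vectors of the members i₁, i₂
  have hkey : ∀ (i j : Fin t), i ≠ j → u = a i + a j → w = b i + b j → ∀ v ∈ D i, Q v = 1 →
      act g v ∈ Nc Q D 1 := by
    intro i j hij hu' hw' v hv hqv
    have pu : pol Q v u = pol Q v (a i) := by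
      rw [hu', pol_add_right hQ, horth i j hij v hv _ (ha j), add_zero]
    have pw : pol Q v w = pol Q v (b i) := by
      rw [hw', pol_add_right hQ, horth i j hij v hv _ (hb j), add_zero]
    rw [hgv, pu, pw]
    rcases hclass i v hv hqv with ⟨k1, k2⟩ | k
    · rw [k1, k2, zero_smul, zero_smul, add_zero, add_zero]
      exact ⟨i, hv, hqv⟩
    · by_cases hxy : pol Q v (a i) = 0 ∧ pol Q v (b i) = 0
      · rw [hxy.1, hxy.2, zero_smul, zero_smul, add_zero, add_zero]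
        exact ⟨i, hv, hqv⟩
      · set x := pol Q v (a i) with hx
        set y := pol Q v (b i) with hy
        have e1' : v + y • u + x • w = y • a j + x • b j := by
          rw [hu', hw']
          conv_lhs => rw [k]
          have hy2 : y + y = 0 := by linear_combination y * h11
          have hx2 : x + x = 0 := by linear_combination x * h11
          have : y • a i + x • b i + y • (a i + a j) + x • (b i + b j) =
              (y + y) • a i + (x + x) • b i + (y • a j + x • b j) := by module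
          rw [this, hy2, hx2, zero_smul, zero_smul, zero_add, zero_add]
        rw [e1']
        exact ⟨j, (D j).add_mem ((D j).smul_mem _ (ha j)) ((D j).smul_mem _ (hb j)),
          hqcomb j x y hxy⟩
  have hgS : ∀ v ∈ Nc Q D 1, act g v ∈ Nc Q D 1 := by
    rintro v ⟨i, hv, hqv⟩
    by_cases hi1 : i = i₁
    · subst hi1
      exact hkey i₁ i₂ h12 hu hw v hv hqv
    by_cases hi2 : i = i₂
    · subst hi2
      exact hkey i₂ i₁ h12.symm (by rw [hu, add_comm]) (by rw [hw, add_comm]) v hv hqv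
    · have pu : pol Q v u = 0 := by
        rw [hu, pol_add_right hQ, horth i i₁ hi1 v hv _ (ha _), horth i i₂ hi2 v hv _ (ha _),
          add_zero]
      have pw : pol Q v w = 0 := by
        rw [hw, pol_add_right hQ, horth i i₁ hi1 v hv _ (hb _), horth i i₂ hi2 v hv _ (hb _),
          add_zero]
      rw [hgv, pu, pw, zero_smul, zero_smul, add_zero, add_zero]
      exact ⟨i, hv, hqv⟩
  -- `g` does not stabilise the decomposition
  have hge : act g (e1 i₁) = e1 i₁ + u + w := by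
    rw [hgv]
    have pu : pol Q (e1 i₁) u = 1 := by
      rw [hu, pol_add_right hQ, horth i₁ i₂ h12 _ (he1 _) _ (ha _), add_zero, hva, s1, p11, pee]
      ring
    have pw : pol Q (e1 i₁) w = 1 := by
      rw [hw, pol_add_right hQ, horth i₁ i₂ h12 _ (he1 _) _ (hb _), add_zero, hvb, s1, p11, pef]
      ring
    rw [pu, pw, one_smul, one_smul]
  have hgD : g ∉ Cfsg.Geo.decompositionStabilizer D := by
    refine not_mem_stab_of_tests D horth g i₁ i₁ i₂ h12 (e1 i₁) (f1 i₁) (e2 i₂) (he1 _) (hf1 _)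
      (he2 _) ?_ ?_
    · rw [hge, pol_add_left hQ, pol_add_left hQ, p11, hu, hw, pol_add_left hQ, pol_add_left hQ,
        horth i₂ i₁ h12.symm _ (ha _) _ (hf1 _), horth i₂ i₁ h12.symm _ (hb _) _ (hf1 _),
        hadef, hbdef]
      simp only [pol_add_left hQ, p11, s2, c5, c6]
      have : (1 : F) + (1 + 0 + 0 + 0) + (1 + 0 + 0 + 0) = 1 := by linear_combination h11
      rw [this]
      exact one_ne_zero
    · rw [hge, pol_add_left hQ, pol_add_left hQ, horth i₁ i₂ h12 _ (he1 _) _ (he2 _), hu, hw,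
        pol_add_left hQ, pol_add_left hQ, horth i₁ i₂ h12 _ (ha _) _ (he2 _),
        horth i₁ i₂ h12 _ (hb _) _ (he2 _), hadef, hbdef]
      simp only [pol_add_left hQ, pee, pfe, s3, c2]
      have : (0 : F) + (0 + (0 + 0 + 0)) + (0 + (0 + 0 + 1)) = 1 := by ring
      rw [this]
      exact one_ne_zero
  refine ⟨Cfsg.stabilizing (Cfsg.glToMat ι F) (Nc Q D 1) ⊓ Cfsg.Geo.omegaGL Q, ?_, ?_⟩
  · exact lt_stabilizing D (Nc Q D 1) (stab_le_stabilizing D 1) g hgΩ hgS hgD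
  · exact stabilizing_Nc_lt hQ D hn horth hD.decomp.nondegenerate
      (fun i => by rw [hD.decomp.decomp.finrank_eq i]; omega) 1 one_ne_zero i₁ i₂ i₃ h12 h13 h23
      (a i₁) (ha _) (hqa _)

end Main4

end Cfsg.Agent.H9.ODec
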