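import Mathlib
import Cfsg.Agent.H9.ODecB

set_option autoImplicit false
set_option linter.unusedSectionVars false
open Cfsg Matrix

/-!
Decompositions into hyperbolic planes over the field with four elements: the additive subgroup
generated by the norm-one vectors of the members is a form over the prime field; its stabiliser
is a proper overgroup of the decomposition stabiliser.
-/

namespace Cfsg.Agent.H9.ODec

open Cfsg.Agent.H9.Orth
open Cfsg.Agent.Lib.Helper5.Orth (mem_stabilizing le_stabilizing mem_stabilizing_of_mapsTo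
  mem_decompositionStabilizer omegaGL_Q)

section Field4

variable {F : Type*} [Field F] [Fintype F] (hq : Fintype.card F = 4)
include hq

lemma two_eq_zero_of_card_four : (2 : F) = 0 := by
  have hc : ((Fintype.card F : ℕ) : F) = 0 := FiniteField.cast_card_eq_zero F
  rw [hq] at hc
  have : (2 : F) * 2 = 0 := by
    have h4 : ((4 : ℕ) : F) = 2 * 2 := by norm_num
    rw [← h4]; exact hc
  exact mul_self_eq_zero.1 this

lemma cube_eq_one (a : F) (ha : a ≠ 0) : a ^ 3 = 1 := by
  have := FiniteField.pow_card_sub_one_eq_one a ha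
  rwa [hq] at this

lemma exists_omega : ∃ ω : F, ω ≠ 0 ∧ ω ≠ 1 := by
  classical
  by_contra hcon
  push Not at hcon
  have hsub : (Finset.univ : Finset F) ⊆ {0, 1} := by
    intro x _
    by_cases hx : x = 0
    · simp [hx]
    · simp [hcon x hx]
  have := Finset.card_le_card hsub
  rw [Finset.card_univ, hq] at this
  have h2 : ({0, 1} : Finset F).card ≤ 2 := Finset.card_insert_le _ _
  omega

/-- `ν + ν⁻¹` lies in the prime field -/
lemma add_inv_mem (ν : F) (hν : ν ≠ 0) : ν + ν⁻¹ = 0 ∨ ν + ν⁻¹ = 1 := by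
  have h2 := two_eq_zero_of_card_four hq
  have h3 := cube_eq_one hq ν hν
  have hinv : ν⁻¹ = ν ^ 2 := by
    rw [inv_eq_iff_eq_inv, ← one_div, eq_div_iff (pow_ne_zero 2 hν)]
    rw [← h3]; ring
  rw [hinv]
  have : (ν + ν ^ 2) * (ν + ν ^ 2 - 1) = 0 := by
    have h4 : ν ^ 4 = ν := by
      calc ν ^ 4 = ν ^ 3 * ν := by ring
        _ = ν := by rw [h3, one_mul]
    linear_combination h4 + ν ^ 3 * h2
  rcases mul_eq_zero.1 this with h | h
  · left; exact h
  · right; linear_combination h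

lemma omega_add_inv (ω : F) (h0 : ω ≠ 0) (h1 : ω ≠ 1) : ω + ω⁻¹ = 1 := by
  rcases add_inv_mem hq ω h0 with h | h
  · exfalso
    have h2 := two_eq_zero_of_card_four hq
    have h3 : ω * ω = 1 := by
      have : ω * (ω + ω⁻¹) = 0 := by rw [h, mul_zero]
      rw [mul_add, mul_inv_cancel₀ h0] at this
      linear_combination this - h2
    have : (ω - 1) * (ω - 1) = 0 := by linear_combination h3 - ω * h2 + h2
    exact h1 (sub_eq_zero.1 (mul_self_eq_zero.1 this))
  · exact h

end Field4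

section Main

variable {ι : Type} [Fintype ι] [DecidableEq ι] {F : Type*} [Field F] [Fintype F]
  {Q : (ι → F) → F} (hQ : Cfsg.Geo.IsNondegenerateQuadraticForm Q) {t : ℕ}
  (D : Fin t → Submodule F (ι → F))

include hQ in
theorem hyp_planes_four_not_maximal (hn : 7 ≤ Fintype.card ι) (hq : Fintype.card F = 4)
    (hD : Cfsg.Geo.IsOrthogonalMDecomposition Q 2 D) (ht : 4 ≤ t)
    (hplus : Cfsg.Geo.IsPlusTypeOn Q (D ⟨0, by omega⟩)) :
    ∃ K : Subgroup (GL ι F), Cfsg.Geo.decompositionStabilizer D ⊓ Cfsg.Geo.omegaGL Q < K ∧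
      K < Cfsg.Geo.omegaGL Q := by
  classical
  have h20 : (2 : F) = 0 := two_eq_zero_of_card_four hq
  have h11 : (1 : F) + 1 = 0 := by rw [one_add_one_eq_two]; exact h20
  have hnegF : ∀ x : F, -x = x := fun x => by
    have : x + x = 0 := by linear_combination x * h11
    linear_combination -this
  obtain ⟨ω, hω0, hω1⟩ := exists_omega hq
  have hωinv : ω + ω⁻¹ = 1 := omega_add_inv hq ω hω0 hω1
  obtain ⟨e, f, he, hf, hqe, hqf, hef, hexp⟩ := exists_hyp_family hQ D hD _ hplus
  have horth : ∀ i j, i ≠ j → ∀ a ∈ D i, ∀ b ∈ D j, pol Q a b = 0 :=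
    fun i j hij a ha b hb => hD.decomp.orthogonal i j hij a ha b hb
  have hfe : ∀ i, pol Q (f i) (e i) = 1 := fun i => by rw [pol_comm, hef]
  have hee : ∀ i, pol Q (e i) (e i) = 0 := fun i => by rw [pol_self hQ, hqe, mul_zero]
  have hff : ∀ i, pol Q (f i) (f i) = 0 := fun i => by rw [pol_self hQ, hqf, mul_zero]
  -- the prime field
  let P : Set F := {x | x = 0 ∨ x = 1}
  have hPadd : ∀ x ∈ P, ∀ y ∈ P, x + y ∈ P := by
    rintro x (rfl | rfl) y (rfl | rfl)
    · left; ring
    · right; ring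
    · right; ring
    · left; exact h11
  have hP0 : (0 : F) ∈ P := Or.inl rfl
  have hPneg : ∀ x ∈ P, -x ∈ P := fun x hx => by rw [hnegF]; exact hx
  -- the F₂-form
  set S : Set (ι → F) := ((AddSubgroup.closure (Nc Q D 1) : AddSubgroup (ι → F)) : Set (ι → F))
    with hS
  have hNS : ∀ v ∈ Nc Q D 1, v ∈ S := fun v hv => AddSubgroup.subset_closure hv
  have hSadd : ∀ x ∈ S, ∀ y ∈ S, x + y ∈ S := fun x hx y hy =>
    (AddSubgroup.closure (Nc Q D 1)).add_mem hx hy
  have hS0 : (0 : ι → F) ∈ S := (AddSubgroup.closure (Nc Q D 1)).zero_mem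
  -- pairing of norm-one vectors
  have hpolN : ∀ x ∈ Nc Q D 1, ∀ y ∈ Nc Q D 1, pol Q x y ∈ P := by
    rintro x ⟨i, hx, hqx⟩ y ⟨j, hy, hqy⟩
    by_cases hij : i = j
    · subst hij
      have hx' := hexp i x hx
      have hy' := hexp i y hy
      set α := pol Q x (f i) with hα
      set β := pol Q x (e i) with hβ
      set α' := pol Q y (f i) with hα'
      set β' := pol Q y (e i) with hβ'
      have hQx : α * β = 1 := by
        rw [← hqx]
        conv_rhs => rw [hx']
        rw [Q_add Q, hQ.smul, hQ.smul, hqe, hqf, pol_smul_left hQ, pol_smul_right hQ, hef]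
        ring
      have hQy : α' * β' = 1 := by
        rw [← hqy]
        conv_rhs => rw [hy']
        rw [Q_add Q, hQ.smul, hQ.smul, hqe, hqf, pol_smul_left hQ, pol_smul_right hQ, hef]
        ring
      have hpxy : pol Q x y = α * β' + β * α' := by
        conv_lhs => rw [hx', hy']
        simp only [pol_add_left hQ, pol_add_right hQ, pol_smul_left hQ, pol_smul_right hQ, hee, hef,
          hfe, hff]
        ring
      have hν0 : α * β' ≠ 0 := by
        intro h
        have : (α * β) * (α' * β') = 0 := by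
          have : (α * β) * (α' * β') = (α * β') * (β * α') := by ring
          rw [this, h, zero_mul]
        rw [hQx, hQy, mul_one] at this
        exact one_ne_zero this
      have hνinv : (α * β')⁻¹ = β * α' := by
        apply inv_eq_of_mul_eq_one_left
        have : β * α' * (α * β') = (α * β) * (α' * β') := by ring
        rw [this, hQx, hQy, mul_one]
      rw [hpxy, ← hνinv]
      exact add_inv_mem hq _ hν0
    · left
      exact horth i j hij x hx y hy
  have hpolS1 : ∀ x ∈ S, ∀ y ∈ Nc Q D 1, pol Q x y ∈ P := by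
    intro x hx y hy
    induction hx using AddSubgroup.closure_induction with
    | mem x hx => exact hpolN x hx y hy
    | zero => rw [pol_zero_left hQ]; exact hP0
    | add a b _ _ ha hb => rw [pol_add_left hQ]; exact hPadd _ ha _ hb
    | neg a _ ha => rw [pol_neg_left hQ]; exact hPneg _ ha
  have hpolS : ∀ x ∈ S, ∀ y ∈ S, pol Q x y ∈ P := by
    intro x hx y hy
    induction hy using AddSubgroup.closure_induction with
    | mem y hy => exact hpolS1 x hx y hy
    | zero => rw [pol_zero_right hQ]; exact hP0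
    | add a b _ _ ha hb => rw [pol_add_right hQ]; exact hPadd _ ha _ hb
    | neg a _ ha => rw [pol_neg_right hQ]; exact hPneg _ ha
  have hPsmul : ∀ c ∈ P, ∀ x ∈ S, c • x ∈ S := by
    rintro c (rfl | rfl) x hx
    · rw [zero_smul]; exact hS0
    · rw [one_smul]; exact hx
  -- H ≤ K
  have hle : Cfsg.Geo.decompositionStabilizer D ⊓ Cfsg.Geo.omegaGL Q ≤
      Cfsg.stabilizing (Cfsg.glToMat ι F) S ⊓ Cfsg.Geo.omegaGL Q := by
    refine le_inf ?_ inf_le_right
    apply le_stabilizing
    intro g hg v hv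
    have hgN : ∀ x ∈ Nc Q D 1, act g x ∈ Nc Q D 1 := fun x hx =>
      ((mem_stabilizing _ g).1 (stab_le_stabilizing D 1 hg).1 x).1 hx
    induction hv using AddSubgroup.closure_induction with
    | mem x hx => exact hNS _ (hgN x hx)
    | zero => rw [Matrix.mulVec_zero]; exact hS0
    | add a b _ _ ha hb => rw [Matrix.mulVec_add]; exact hSadd _ ha _ hb
    | neg a _ ha =>
      rw [Matrix.mulVec_neg]
      exact (AddSubgroup.closure (Nc Q D 1)).neg_mem ha
  -- the vectors x i = e i + f i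
  obtain ⟨z, hzdef⟩ : ∃ z : Fin t → (ι → F), ∀ i, z i = e i + f i :=
    ⟨fun i => e i + f i, fun _ => rfl⟩
  have hz : ∀ i, z i ∈ D i := fun i => by rw [hzdef]; exact (D i).add_mem (he i) (hf i)
  have hqz : ∀ i, Q (z i) = 1 := fun i => by
    rw [hzdef, Q_add Q, hqe, hqf, hef]; ring
  have hzN : ∀ i, z i ∈ Nc Q D 1 := fun i => ⟨i, hz i, hqz i⟩
  have hzz : ∀ i j, pol Q (z i) (z j) = 0 := by
    intro i j
    by_cases hij : i = j
    · subst hij
      rw [pol_self hQ, h20, zero_mul]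
    · exact horth i j hij _ (hz i) _ (hz j)
  let i₁ : Fin t := ⟨0, by omega⟩
  let i₂ : Fin t := ⟨1, by omega⟩
  let i₃ : Fin t := ⟨2, by omega⟩
  let i₄ : Fin t := ⟨3, by omega⟩
  have h12 : i₁ ≠ i₂ := by simp [i₁, i₂, Fin.ext_iff]
  have h13 : i₁ ≠ i₃ := by simp [i₁, i₃, Fin.ext_iff]
  have h14 : i₁ ≠ i₄ := by simp [i₁, i₄, Fin.ext_iff]
  have h34 : i₃ ≠ i₄ := by simp [i₃, i₄, Fin.ext_iff]
  set u := z i₁ + z i₂ with hu
  set w := z i₃ + z i₄ with hw
  have huS : u ∈ S := hSadd _ (hNS _ (hzN _)) _ (hNS _ (hzN _))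
  have hwS : w ∈ S := hSadd _ (hNS _ (hzN _)) _ (hNS _ (hzN _))
  have hqu : Q u = 0 := by
    rw [hu, Q_add Q, hqz, hqz, hzz, add_zero]; exact h11
  have hqw : Q w = 0 := by
    rw [hw, Q_add Q, hqz, hqz, hzz, add_zero]; exact h11
  have huw : pol Q u w = 0 := by
    rw [hu, hw, pol_add_left hQ, pol_add_right hQ, pol_add_right hQ, hzz, hzz, hzz, hzz]; ring
  -- first element
  set g := sg hQ u w with hg
  have hgΩ : g ∈ Cfsg.Geo.omegaGL Q := by
    rw [omegaGL_eq_NN hQ hn]
    exact sg_mem_NN hQ u w hqu hqw huw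
  have hgv : ∀ v, act g v = v + pol Q v w • u + pol Q v u • w := by
    intro v
    rw [hg, act_sg hQ u w hqu huw, hqw, zero_mul, sub_zero, sub_eq_add_neg, ← neg_smul, hnegF]
  have hgS : ∀ v ∈ S, act g v ∈ S := by
    intro v hv
    rw [hgv]
    exact hSadd _ (hSadd _ hv _ (hPsmul _ (hpolS v hv w hwS) u huS)) _
      (hPsmul _ (hpolS v hv u huS) w hwS)
  have hge : act g (e i₁) = e i₁ + w := by
    rw [hgv]
    have h1 : pol Q (e i₁) w = 0 := by
      rw [hw, pol_add_right hQ, horth i₁ i₃ h13 _ (he _) _ (hz _), horth i₁ i₄ h14 _ (he _) _ (hz _),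
        add_zero]
    have h2 : pol Q (e i₁) u = 1 := by
      rw [hu, pol_add_right hQ, horth i₁ i₂ h12 _ (he _) _ (hz _), add_zero, hzdef,
        pol_add_right hQ, hee, hef, zero_add]
    rw [h1, h2, zero_smul, add_zero, one_smul]
  have hzi₃e : pol Q (z i₃) (e i₃) = 1 := by
    rw [hzdef, pol_add_left hQ, hee, hfe, zero_add]
  have hgD : g ∉ Cfsg.Geo.decompositionStabilizer D := by
    refine not_mem_stab_of_tests D horth g i₁ i₁ i₃ h13 (e i₁) (f i₁) (e i₃) (he _) (hf _) (he _) ?_ ?_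
    · rw [hge, pol_add_left hQ, hef, hw, pol_add_left hQ, horth i₃ i₁ h13.symm _ (hz _) _ (hf _),
        horth i₄ i₁ h14.symm _ (hz _) _ (hf _)]
      simp
    · rw [hge, pol_add_left hQ, horth i₁ i₃ h13 _ (he _) _ (he _), hw, pol_add_left hQ,
        horth i₄ i₃ h34.symm _ (hz _) _ (he _), add_zero, hzi₃e]
      simp
  -- second element
  have hqωw : Q (ω • w) = 0 := by rw [hQ.smul, hqw, mul_zero]
  have huωw : pol Q u (ω • w) = 0 := by rw [pol_smul_right hQ, huw, mul_zero]
  set g₂ := sg hQ u (ω • w) with hg₂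
  have hg₂Ω : g₂ ∈ Cfsg.Geo.omegaGL Q := by
    rw [omegaGL_eq_NN hQ hn]
    exact sg_mem_NN hQ u (ω • w) hqu hqωw huωw
  obtain ⟨a, hadef⟩ : ∃ a : Fin t → (ι → F), ∀ i, a i = ω • e i + ω⁻¹ • f i :=
    ⟨fun i => ω • e i + ω⁻¹ • f i, fun _ => rfl⟩
  have ha : ∀ i, a i ∈ D i := fun i => by
    rw [hadef]; exact (D i).add_mem ((D i).smul_mem _ (he i)) ((D i).smul_mem _ (hf i))
  have hqa : ∀ i, Q (a i) = 1 := fun i => by
    rw [hadef, Q_add Q, hQ.smul, hQ.smul, hqe, hqf, pol_smul_left hQ, pol_smul_right hQ, hef]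
    field_simp
    ring
  have haN : ∀ i, a i ∈ Nc Q D 1 := fun i => ⟨i, ha i, hqa i⟩
  have haz : ∀ i, pol Q (a i) (z i) = 1 := fun i => by
    rw [hadef, hzdef]
    simp only [pol_add_left hQ, pol_add_right hQ, pol_smul_left hQ, hee, hef, hfe, hff]
    linear_combination hωinv
  have hg₂a : act g₂ (a i₁) = a i₁ - ω • w := by
    rw [hg₂, act_sg hQ u (ω • w) hqu huωw, hqωw, zero_mul, sub_zero]
    have h1 : pol Q (a i₁) (ω • w) = 0 := by
      rw [pol_smul_right hQ, hw, pol_add_right hQ, horth i₁ i₃ h13 _ (ha _) _ (hz _),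
        horth i₁ i₄ h14 _ (ha _) _ (hz _)]
      ring
    have h2 : pol Q (a i₁) u = 1 := by
      rw [hu, pol_add_right hQ, horth i₁ i₂ h12 _ (ha _) _ (hz _), add_zero, haz]
    rw [h1, h2, zero_smul, add_zero, one_smul]
  have hg₂not : act g₂ (a i₁) ∉ S := by
    intro hmem
    have hp := hpolS _ hmem (a i₃) (hNS _ (haN _))
    rw [hg₂a, pol_sub_left hQ, horth i₁ i₃ h13 _ (ha _) _ (ha _), zero_sub, pol_smul_left hQ, hw,
      pol_add_left hQ, horth i₄ i₃ h34.symm _ (hz _) _ (ha _), add_zero, pol_comm, haz, mul_one,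
      hnegF] at hp
    rcases hp with h | h
    · exact hω0 h
    · exact hω1 h
  refine ⟨Cfsg.stabilizing (Cfsg.glToMat ι F) S ⊓ Cfsg.Geo.omegaGL Q, ?_, ?_⟩
  · exact lt_stabilizing D S hle g hgΩ hgS hgD
  · exact stabilizing_lt S g₂ hg₂Ω (a i₁) (hNS _ (haN _)) hg₂not

end Main

end Cfsg.Agent.H9.ODec
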