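import Mathlib
import Cfsg.Agent.H9.OLagB

set_option autoImplicit false
set_option linter.unusedSectionVars false
set_option linter.style.haveILetI false
open Cfsg

/-!
Maximality in `Ω` of the stabilizer of a pair of complementary maximal totally singular subspaces
of even dimension (any characteristic).
-/

namespace Cfsg.Agent.H9.Orth

open Matrix
open scoped commutatorElement

section OLagC

variable {ι : Type} [Fintype ι] [DecidableEq ι] {F : Type*} [Field F] [Fintype F]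
variable {Q : (ι → F) → F}
variable (hQ : Cfsg.Geo.IsNondegenerateQuadraticForm Q)

include hQ

/-- the core step: all singular vectors of `U` have their root groups in `M` -/
lemma olag_core (U W : Submodule F (ι → F))
    (hU : Cfsg.Geo.IsTotallySingularQuad Q U) (hW : Cfsg.Geo.IsTotallySingularQuad Q W)
    (hsum : ∀ v : ι → F, ∃ u ∈ U, ∃ w ∈ W, v = u + w)
    (M : Subgroup (GL ι F)) (hMS : M ≤ Cfsg.isometryGroup F Q)
    (hM : ∀ a ∈ U, ∀ b ∈ W, pol Q a b = 0 → sg hQ a b ∈ M)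
    (hdim : 5 ≤ Module.finrank F U)
    (c d cU cW dU dW : ι → F) (hqc : Q c = 0) (hqd : Q d = 0)
    (hcU : cU ∈ U) (hcW : cW ∈ W) (hc : c = cU + cW)
    (hdU : dU ∈ U) (hdW : dW ∈ W) (hd : d = dU + dW)
    (hcd : pol Q c d = 0) (hτ : sg hQ c d ∈ M) (hcU0 : cU ≠ 0)
    (hind : ∀ α : F, dU ≠ α • cU) : ∀ u ∈ U, u ∈ SS hQ M := by
  obtain ⟨a, haU, ha0, hca, hmem⟩ := exists_sg_mem hQ U W hU hW hsum M hM hdim c d cU cW dU dW
    hqc hqd hcU hcW hc hdU hdW hd hcd hτ hcU0 hind
  have ha := mem_SS_of_sg_mem hQ U W hU hW hsum M hMS hM (by omega) a cU haU hcU hca hmem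
  exact forall_mem_SS hQ U W hU hsum M hMS hM a haU ha0 ha

variable (D : Fin 2 → Submodule F (ι → F)) {k : ℕ}
variable (hD : Cfsg.Geo.IsMDecomposition k D)
variable (hts : ∀ i, Cfsg.Geo.IsTotallySingularQuad Q (D i))

include hD hts in
/-- the stabiliser is a proper subgroup -/
lemma exists_notMem_dstab (hn : 5 ≤ Fintype.card ι) (hk : 2 ≤ k) :
    ∃ g ∈ NN hQ, g ∉ Cfsg.Geo.decompositionStabilizer D := by
  classical
  have hpos : 0 < Module.finrank F (D 0) := by rw [hD.finrank_eq]; omega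
  obtain ⟨a, ha0⟩ := (Module.finrank_pos_iff_exists_ne_zero (R := F) (M := D 0)).1 hpos
  have ha0' : (a : ι → F) ≠ 0 := fun h => ha0 (Subtype.ext h)
  -- a second vector
  have hc : ∃ c ∈ D 0, c ∉ Submodule.span F {(a : ι → F)} := by
    by_contra hcon
    push Not at hcon
    have hle : D 0 ≤ Submodule.span F {(a : ι → F)} := hcon
    have := Submodule.finrank_mono hle
    have := finrank_span_singleton_le (F := F) (a : ι → F)
    rw [hD.finrank_eq] at *
    omega
  obtain ⟨c, hcU, hca⟩ := hc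
  obtain ⟨w, hwW, hwS, hw1⟩ := exists_dual hQ (D 0) (D 1) (hts 0) (exists_sum D hD)
    (Submodule.span F {(a : ι → F)}) c hcU hca
  have haw : pol Q (a : ι → F) w = 0 := hwS _ (Submodule.mem_span_singleton_self _) a.2
  have hac : pol Q (a : ι → F) c = 0 := polar_eq_zero_of_ts (D 0) (hts 0) _ _ a.2 hcU
  refine ⟨sg hQ (a : ι → F) c, sg_mem_NN' hQ hn _ _ hac, ?_⟩
  rintro ⟨σ, hσ⟩
  have hqa : Q (a : ι → F) = 0 := hts 0 _ a.2
  have hTa : act (sg hQ (a : ι → F) c) (a : ι → F) = a := by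
    rw [act_sg hQ _ _ hqa hac, hac, pol_self hQ, hqa]
    module
  have hTw : act (sg hQ (a : ι → F) c) w = w + (a : ι → F) := by
    rw [act_sg hQ _ _ hqa hac, pol_comm w c, hw1, pol_comm w _, haw, hts 0 c hcU]
    module
  have h0 : act (sg hQ (a : ι → F) c) (a : ι → F) ∈ D (σ 0) := by
    rw [← hσ 0]
    exact ⟨a, a.2, by rw [Matrix.toLin'_apply]⟩
  have h1 : act (sg hQ (a : ι → F) c) w ∈ D (σ 1) := by
    rw [← hσ 1]
    exact ⟨w, hwW, by rw [Matrix.toLin'_apply]⟩
  rw [hTa] at h0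
  rw [hTw] at h1
  have hσ0 : σ 0 = 0 := by
    by_contra h
    have h' : σ 0 = 1 := by
      have : ∀ l : Fin 2, l ≠ 0 → l = 1 := by decide
      exact this _ h
    rw [h'] at h0
    exact ha0' (eq_zero_of_mem D hD _ a.2 h0)
  have hσ1 : σ 1 = 1 := by
    by_contra h
    have h' : σ 1 = 0 := by
      have : ∀ l : Fin 2, l ≠ 1 → l = 0 := by decide
      exact this _ h
    have := σ.injective (h'.trans hσ0.symm)
    exact absurd this (by decide)
  rw [hσ1] at h1
  have h2 : (a : ι → F) ∈ D 1 := by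
    have := (D 1).sub_mem h1 hwW
    rwa [add_sub_cancel_left] at this
  exact ha0' (eq_zero_of_mem D hD _ a.2 h2)

include hD hts in
/-- **Maximality of the stabilizer of a pair of complementary maximal totally singular subspaces
of even dimension in `Ω`** -/
theorem ts_pair_maximal (hn : 7 ≤ Fintype.card ι) (hk : Even k) (hk5 : 5 ≤ k) :
    Cfsg.Geo.IsMaximalIn (Cfsg.Geo.omegaGL Q)
      (Cfsg.Geo.decompositionStabilizer D ⊓ Cfsg.Geo.omegaGL Q) := by
  classical
  rw [omegaGL_eq_NN hQ hn]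
  have hn5 : 5 ≤ Fintype.card ι := by omega
  refine ⟨lt_of_le_of_ne inf_le_right ?_, fun M hHM hMS => ?_⟩
  · intro h
    obtain ⟨g, hg, hg'⟩ := exists_notMem_dstab hQ D hD hts hn5 (by omega)
    rw [← h] at hg
    exact hg' hg.1
  by_cases hMH : M = Cfsg.Geo.decompositionStabilizer D ⊓ NN hQ
  · left; exact hMH
  right
  apply le_antisymm hMS
  have hMi : M ≤ Cfsg.isometryGroup F Q := hMS.trans (NN_le_iso hQ)
  have hpair : ∀ i j : Fin 2, i ≠ j → ∀ a ∈ D i, ∀ b ∈ D j, pol Q a b = 0 → sg hQ a b ∈ M :=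
    fun i j hij a ha b hb hab =>
      hHM ⟨sg_mem_dstab hQ D hD hts i j hij a b ha hb hab, sg_mem_NN' hQ hn5 a b hab⟩
  obtain ⟨g, hgM, hgH⟩ := SetLike.exists_of_lt (lt_of_le_of_ne hHM (Ne.symm hMH))
  have hgS : g ∈ NN hQ := hMS hgM
  have hgi : g ∈ Cfsg.isometryGroup F Q := hMi hgM
  have hgD : g ∉ Cfsg.Geo.decompositionStabilizer D := fun h => hgH ⟨h, hgS⟩
  have hfr : ∀ i j : Fin 2, Module.finrank F (D i) = Module.finrank F (D j) := fun i j => by
    rw [hD.finrank_eq, hD.finrank_eq]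
  -- the swap
  obtain ⟨s, hsS, hs01, hs10⟩ := exists_swap hQ D hD hts hn5 hk
  have hsM : s ∈ M := by
    apply hHM
    refine ⟨mem_dstab_of_forall D hD s (Equiv.swap 0 1) ?_, hsS⟩
    intro i x hx
    fin_cases i
    · simpa using hs01 x hx
    · simpa using hs10 x hx
  have hswap01 : (∀ u ∈ D 0, u ∈ SS hQ M) → ∀ w ∈ D 1, w ∈ SS hQ M := by
    intro h w hw
    have e := map_eq_of_forall s (D 0) (D 1) (hfr 0 1) hs01
    rw [← e] at hw
    obtain ⟨u, hu, rfl⟩ := hw
    rw [Matrix.toLin'_apply]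
    exact SS_act hQ M hMi s hsM u (h u hu)
  have hswap10 : (∀ u ∈ D 1, u ∈ SS hQ M) → ∀ w ∈ D 0, w ∈ SS hQ M := by
    intro h w hw
    have e := map_eq_of_forall s (D 1) (D 0) (hfr 1 0) hs10
    rw [← e] at hw
    obtain ⟨u, hu, rfl⟩ := hw
    rw [Matrix.toLin'_apply]
    exact SS_act hQ M hMi s hsM u (h u hu)
  -- it suffices to treat one member
  suffices hone : (∀ u ∈ D 0, u ∈ SS hQ M) ∨ (∀ u ∈ D 1, u ∈ SS hQ M) by
    have h0 : ∀ u ∈ D 0, u ∈ SS hQ M := by
      rcases hone with h | h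
      · exact h
      · exact hswap10 h
    have h1 : ∀ u ∈ D 1, u ∈ SS hQ M := hswap01 h0
    have hpos : 0 < Module.finrank F (D 0) := by rw [hD.finrank_eq]; omega
    obtain ⟨a, ha0⟩ := (Module.finrank_pos_iff_exists_ne_zero (R := F) (M := D 0)).1 hpos
    have ha0' : (a : ι → F) ≠ 0 := fun h => ha0 (Subtype.ext h)
    obtain ⟨w, hwW, -, hw1⟩ := exists_dual hQ (D 0) (D 1) (hts 0) (exists_sum D hD) ⊥
      (a : ι → F) a.2 (by rw [Submodule.mem_bot]; exact ha0')
    exact NN_le_of_SS_not_perp hQ hn (D 1) M hMi h1 (a : ι → F) w (h0 _ a.2) hwW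
      (by rw [hw1]; exact one_ne_zero)
  -- a member not mapped to a member
  have hbad : ∃ i : Fin 2, ¬ ((∀ x ∈ D i, act g x ∈ D 0) ∨ (∀ x ∈ D i, act g x ∈ D 1)) := by
    by_contra hcon
    push Not at hcon
    have h1 : ∀ i : Fin 2, ∃ l : Fin 2, ∀ x ∈ D i, act g x ∈ D l := by
      intro i
      rcases hcon i with h | h
      · exact ⟨0, h⟩
      · exact ⟨1, h⟩
    choose σ hσ using h1
    have hinj : Function.Injective σ := by
      intro i j hij
      by_contra hne
      have e1 := map_eq_of_forall g (D i) (D (σ i)) (hfr _ _) (hσ i)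
      have e2 := map_eq_of_forall g (D j) (D (σ j)) (hfr _ _) (hσ j)
      rw [← hij] at e2
      have e3 : D i = D j :=
        Submodule.map_injective_of_injective (toLin'_inj g) (e1.trans e2.symm)
      have hdis := hD.indep.pairwiseDisjoint hne
      rw [Function.onFun, e3] at hdis
      have hbot : D j = ⊥ := disjoint_self.1 hdis
      have hfr' := hD.finrank_eq j
      rw [hbot, finrank_bot] at hfr'
      omega
    have hbij : Function.Bijective σ := Finite.injective_iff_bijective.1 hinj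
    exact hgD (mem_dstab_of_forall D hD g (Equiv.ofBijective σ hbij) (fun i x hx => hσ i x hx))
  obtain ⟨i, hi⟩ := hbad
  obtain ⟨c₀, hc₀, hc0, hc1⟩ : ∃ c₀ ∈ D i, act g c₀ ∉ D 0 ∧ act g c₀ ∉ D 1 := by
    by_contra hall
    push Not at hall
    apply hi
    apply union_lemma (D 0) (D 1) (D i) g
    intro x hx
    by_cases h : act g x ∈ D 0
    · left; exact h
    · right; exact hall x hx h
  obtain ⟨j, hij⟩ : ∃ j : Fin 2, i ≠ j := by
    fin_cases i
    · exact ⟨1, by decide⟩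
    · exact ⟨0, by decide⟩
  set c := act g c₀ with hcdef
  obtain ⟨cU, hcU, cW, hcW, hc⟩ := exists_sum D hD c
  have hcU0 : cU ≠ 0 := by
    rintro rfl
    rw [zero_add] at hc
    rw [hc] at hc1
    exact hc1 hcW
  have hcW0 : cW ≠ 0 := by
    rintro rfl
    rw [add_zero] at hc
    rw [hc] at hc0
    exact hc0 hcU
  obtain ⟨d, hdY, hdc, -, hdne⟩ := exists_perp_not_plane hQ
    ((D j).map (Matrix.toLin' (g : Matrix ι ι F)))
    (by rw [finrank_map_GL, hD.finrank_eq]; exact hk5) c c cU cW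
  obtain ⟨d₀, hd₀, rfl⟩ := hdY
  rw [Matrix.toLin'_apply] at hdc hdne
  set d := act g d₀ with hddef
  obtain ⟨dU, hdU, dW, hdW, hd⟩ := exists_sum D hD d
  have hcd : pol Q c d = 0 := by rw [pol_comm]; exact hdc
  have hqc : Q c = 0 := by rw [hcdef, Q_act g hgi, hts i c₀ hc₀]
  have hqd : Q d = 0 := by rw [hddef, Q_act g hgi, hts j d₀ hd₀]
  have hτ : sg hQ c d ∈ M := by
    have h1 : pol Q c₀ d₀ = 0 := by
      rw [← pol_act g hgi c₀ d₀]
      exact hcd
    have h3 := hpair i j hij c₀ hc₀ d₀ hd₀ h1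
    rw [hcdef, hddef, ← conj_sg hQ g hgi]
    exact M.mul_mem (M.mul_mem hgM h3) (M.inv_mem hgM)
  have h5 : ∀ l : Fin 2, 5 ≤ Module.finrank F (D l) := fun l => by rw [hD.finrank_eq]; exact hk5
  by_cases hcase : ∀ α : F, dU ≠ α • cU
  · left
    exact olag_core hQ (D 0) (D 1) (hts 0) (hts 1) (exists_sum D hD) M hMi (hpair 0 1 (by decide))
      (h5 0) c d cU cW dU dW hqc hqd hcU hcW hc hdU hdW hd hcd hτ hcU0 hcase
  · right
    push Not at hcase
    obtain ⟨α, hα⟩ := hcase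
    have hcase' : ∀ β : F, dW ≠ β • cW := by
      intro β hβ
      apply hdne α β
      show d = α • cU + β • cW
      rw [hd, hα, hβ]
    exact olag_core hQ (D 1) (D 0) (hts 1) (hts 0) (exists_sum' D hD) M hMi (hpair 1 0 (by decide))
      (h5 1) c d cW cU dW dU hqc hqd hcW hcU (by rw [hc, add_comm]) hdW hdU (by rw [hd, add_comm])
      hcd hτ hcW0 hcase'

end OLagC

end Cfsg.Agent.H9.Orth
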