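import Mathlib
import Cfsg.Agent.H9.OrthH

set_option autoImplicit false
set_option linter.unusedSectionVars false
set_option linter.style.haveILetI false
open Cfsg

/-!
The isometry group of a nondegenerate quadratic form over a finite field is generated by
reflections, except for `O₄⁺(2)` (any characteristic, any dimension).
-/

namespace Cfsg.Agent.H9.Orth

open Matrix
open scoped commutatorElement

section ReflGen

variable {ι : Type} [Fintype ι] [DecidableEq ι] {F : Type*} [Field F] {Q : (ι → F) → F}
variable (hQ : Cfsg.Geo.IsNondegenerateQuadraticForm Q)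

include hQ

/-- a Siegel transformation `ρ_{e,w}` with `w` nonsingular is a product of two reflections -/
lemma sg_eq_rf_mul (e w : ι → F) (he : Q e = 0) (hew : pol Q e w = 0) (hw : Q w ≠ 0) :
    sg hQ e w = rf hQ w * rf hQ (w - Q w • e) := by
  have hw' : Q (w - Q w • e) = Q w := by
    rw [Q_sub hQ, hQ.smul, he, pol_smul_right hQ, pol_comm w e, hew]; ring
  apply gl_ext
  intro x
  have hw'' : Q (w - Q w • e) ≠ 0 := by rw [hw']; exact hw
  rw [act_mul, act_sg hQ e w he hew, act_rf hQ w hw, act_rf hQ (w - Q w • e) hw'', hw']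
  simp only [pol_sub_left hQ, pol_sub_right hQ, pol_smul_left hQ, pol_smul_right hQ]
  rw [pol_self hQ, hew]
  match_scalars <;> field_simp <;> ring

lemma sg_zero_left (w : ι → F) : sg hQ 0 w = 1 := by
  apply gl_ext
  intro x
  rw [act_sg hQ 0 w (Q_zero hQ) (pol_zero_left hQ w), act_one, pol_zero_right hQ]
  module

variable [Fintype F]

/-- every Siegel transformation is a product of reflections, except for `O₄⁺(2)` -/
theorem sg_mem_RR (h : Fintype.card F ≠ 2 ∨ Fintype.card ι ≠ 4) (e w : ι → F) :
    sg hQ e w ∈ RR hQ := by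
  classical
  by_cases h0 : Q e = 0 ∧ pol Q e w = 0
  swap
  · rw [sg_of_not hQ e w h0]; exact one_mem _
  obtain ⟨he, hew⟩ := h0
  by_cases hw : Q w ≠ 0
  · rw [sg_eq_rf_mul hQ e w he hew hw]
    exact mul_mem (rf_mem_RR hQ _) (rf_mem_RR hQ _)
  push Not at hw
  by_cases he0 : e = 0
  · rw [he0, sg_zero_left]; exact one_mem _
  by_cases hwe : w ∈ Submodule.span F {e}
  · obtain ⟨c, rfl⟩ := Submodule.mem_span_singleton.1 hwe
    rw [sg_self]; exact one_mem _
  -- it suffices to write `w = w1 + w2` with `w1, w2 ⊥ e` nonsingular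
  suffices hs : ∃ w1 w2 : ι → F, w = w1 + w2 ∧ pol Q e w1 = 0 ∧ pol Q e w2 = 0 ∧ Q w1 ≠ 0 ∧
      Q w2 ≠ 0 by
    obtain ⟨w1, w2, rfl, h1, h2, h3, h4⟩ := hs
    rw [← sg_mul hQ e w1 w2 h1 h2, sg_eq_rf_mul hQ e w1 he h1 h3, sg_eq_rf_mul hQ e w2 he h2 h4]
    exact mul_mem (mul_mem (rf_mem_RR hQ _) (rf_mem_RR hQ _))
      (mul_mem (rf_mem_RR hQ _) (rf_mem_RR hQ _))
  by_cases hF : ∃ β : F, β ≠ 0 ∧ β ≠ 1
  · obtain ⟨β, hβ0, hβ1⟩ := hF
    have hwp : w ∈ perp hQ (Submodule.span F {e}) := by
      rw [mem_perp_span_singleton]; exact hew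
    obtain ⟨f, hf, hwf, hfe⟩ := exists_partner hQ (Submodule.span F {e}) w hw hwp hwe
    rw [mem_perp_span_singleton] at hfe
    refine ⟨β • w + f, (1 - β) • w - f, by module, ?_, ?_, ?_, ?_⟩
    · rw [pol_add_right hQ, pol_smul_right hQ, hew, hfe]; ring
    · rw [pol_sub_right hQ, pol_smul_right hQ, hew, hfe]; ring
    · rw [Q_add Q, hQ.smul, hw, hf, pol_smul_left hQ, hwf]
      intro h'
      apply hβ0
      linear_combination h'
    · rw [Q_sub hQ, hQ.smul, hw, hf, pol_smul_left hQ, hwf]
      intro h'
      apply hβ1
      linear_combination h'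
  · -- the field has two elements, so the dimension is not four
    have hn4 : Fintype.card ι ≠ 4 := by
      rcases h with h | h
      · exfalso
        apply hF
        by_contra hcon
        push Not at hcon
        apply h
        have : ∀ x : F, x = 0 ∨ x = 1 := by
          intro x
          by_cases hx : x = 0
          · exact Or.inl hx
          · exact Or.inr (hcon x hx)
        have hle : Fintype.card F ≤ 2 := by
          rw [← Finset.card_univ]
          have : (Finset.univ : Finset F) ⊆ {0, 1} := by
            intro x _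
            rcases this x with rfl | rfl <;> simp
          exact (Finset.card_le_card this).trans (Finset.card_le_two)
        have hge : 1 < Fintype.card F := Fintype.one_lt_card
        omega
      · exact h
    set T := perp hQ (Submodule.span F {e, w}) with hT
    by_cases hns : ∃ t ∈ T, Q t ≠ 0
    · obtain ⟨t, htT, hqt⟩ := hns
      rw [hT, mem_perp_span_pair] at htT
      obtain ⟨hte, htw⟩ := htT
      refine ⟨t, w - t, by module, hte, by rw [pol_sub_right hQ, hew, hte, sub_zero], hqt, ?_⟩
      rw [Q_sub hQ, hw, htw]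
      intro h'
      apply hqt
      linear_combination h'
    · exfalso
      push Not at hns
      have hpol : ∀ t ∈ T, ∀ t' ∈ T, pol Q t t' = 0 := by
        intro t ht t' ht'
        have h1 := Q_add Q t t'
        rw [hns t ht, hns t' ht', hns _ (Submodule.add_mem _ ht ht')] at h1
        linear_combination -h1
      have hTle : T ≤ Submodule.span F {e, w} := by
        intro t ht
        rw [← perp_perp hQ (Submodule.span F {e, w}), mem_perp]
        intro t' ht'
        exact hpol t' ht' t ht
      have hle : Submodule.span F {e, w} ≤ T := by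
        rw [Submodule.span_le]
        rintro v (rfl | rfl)
        · show v ∈ T
          rw [hT, mem_perp_span_pair]
          exact ⟨by rw [pol_self hQ, he, mul_zero], by rw [pol_comm]; exact hew⟩
        · show v ∈ T
          rw [hT, mem_perp_span_pair]
          exact ⟨hew, by rw [pol_self hQ, hw, mul_zero]⟩
      have heq : T = Submodule.span F {e, w} := le_antisymm hTle hle
      have hsum := finrank_add_finrank_perp hQ (Submodule.span F {e, w})
      rw [← hT, heq] at hsum
      have h2 := finrank_span_pair_le e w
      have h3 : 2 ≤ Module.finrank F (Submodule.span F {e, w}) := by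
        have hlt : Submodule.span F {e} < Submodule.span F {e, w} := by
          refine lt_of_le_of_ne (Submodule.span_mono (by simp)) ?_
          intro h'
          apply hwe
          rw [h']
          exact Submodule.subset_span (by simp)
        have := Submodule.finrank_lt_finrank_of_lt hlt
        rw [finrank_span_singleton he0] at this
        exact this
      omega

/-- an isometry fixing pointwise a nondegenerate subspace is a product of reflections, provided
all Siegel transformations are -/
theorem mem_RR_of_fix (hsg : ∀ e w : ι → F, sg hQ e w ∈ RR hQ) :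
    ∀ k : ℕ, ∀ U : Submodule F (ι → F), U ⊓ perp hQ U = ⊥ →
      Module.finrank F (perp hQ U) = k → ∀ g ∈ Cfsg.isometryGroup F Q, U ≤ fixS g →
        g ∈ RR hQ := by
  intro k
  induction k using Nat.strong_induction_on with
  | _ k ih =>
  intro U hU hk g hg hfix
  by_cases hs : ∃ e ∈ perp hQ U, e ≠ 0 ∧ Q e = 0
  · obtain ⟨e, he, he0, hqe⟩ := hs
    have hy : act g e ∈ perp hQ U := act_mem_perp hQ U g hg hfix e he
    have hy0 : act g e ≠ 0 := fun h => he0 ((act_eq_zero_iff g e).1 h)
    have hqy : Q (act g e) = 0 := by rw [Q_act g hg, hqe]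
    obtain ⟨h1, hh1, hh1U, hh1y⟩ := move_singular hQ U hU e (act g e) he hy he0 hy0 hqe hqy
    have hg1 : h1 * g ∈ Cfsg.isometryGroup F Q := mul_mem (RR_le_iso hQ hh1) hg
    have hg1U : U ≤ fixS (h1 * g) := fixS_mul h1 g U hh1U hfix
    have hg1e : act (h1 * g) e = e := by rw [act_mul, hh1y]
    have heU : e ∉ U := by
      intro h
      have : e ∈ U ⊓ perp hQ U := ⟨h, he⟩
      rw [hU] at this
      exact he0 this
    obtain ⟨f, hf, hef, hfU⟩ := exists_partner hQ U e hqe he heU
    have hf'U : act (h1 * g) f ∈ perp hQ U := act_mem_perp hQ U _ hg1 hg1U f hfU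
    have hqf' : Q (act (h1 * g) f) = 0 := by rw [Q_act _ hg1, hf]
    have hef' : pol Q e (act (h1 * g) f) = 1 := by
      have := pol_act (h1 * g) hg1 e f
      rw [hg1e] at this
      rw [this, hef]
    obtain ⟨h3, h4⟩ := act_sg_partner hQ e (act (h1 * g) f) f hqe hqf' hf hef' hef
    have hh2 : sg hQ e (act (h1 * g) f - f) ∈ RR hQ := hsg e _
    have hh2U : U ≤ fixS (sg hQ e (act (h1 * g) f - f)) :=
      sg_fix hQ U e _ he (Submodule.sub_mem _ hf'U hfU)
    have hh2e : act (sg hQ e (act (h1 * g) f - f)) e = e := by
      rw [act_sg hQ e _ hqe h3, h3, pol_self hQ, hqe]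
      module
    set h2 := sg hQ e (act (h1 * g) f - f) with hh2def
    have hsp : Submodule.span F {e, f} ≤ perp hQ U := by
      rw [Submodule.span_le]
      rintro v (rfl | rfl)
      · exact he
      · exact hfU
    have hg2 : U ⊔ Submodule.span F {e, f} ≤ fixS (h2 * (h1 * g)) := by
      apply sup_le (fixS_mul h2 _ U hh2U hg1U)
      rw [Submodule.span_le]
      rintro v (rfl | rfl)
      · show act (h2 * (h1 * g)) v = v
        rw [act_mul, hg1e, hh2e]
      · show act (h2 * (h1 * g)) v = v
        rw [act_mul, h4]
    have hsp0 : Submodule.span F {e, f} ≠ ⊥ := by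
      intro h
      apply he0
      have : e ∈ Submodule.span F {e, f} := Submodule.subset_span (by simp)
      rw [h] at this
      exact this
    have hlt := finrank_perp_sup_lt hQ U _ hU hsp hsp0
    have hmem := ih _ (by rw [← hk]; exact hlt) (U ⊔ Submodule.span F {e, f})
      (sup_nondeg hQ U _ hU hsp (pair_nondeg hQ e f (by rw [pol_self hQ, hqe, mul_zero])
        (by rw [pol_self hQ, hf, mul_zero]) hef)) rfl (h2 * (h1 * g))
      (mul_mem (RR_le_iso hQ hh2) hg1) hg2
    have : g = h1⁻¹ * (h2⁻¹ * (h2 * (h1 * g))) := by group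
    rw [this]
    exact mul_mem (inv_mem hh1) (mul_mem (inv_mem hh2) hmem)
  · push Not at hs
    by_cases hbot : perp hQ U = ⊥
    · have hU' : U = ⊤ := by
        rw [← perp_perp hQ U, hbot, perp, LinearMap.BilinForm.orthogonal_bot]
      have : g = 1 := by
        apply gl_ext
        intro x
        rw [act_one]
        exact hfix (by rw [hU']; trivial)
      rw [this]
      exact one_mem _
    · obtain ⟨x, hx, hx0⟩ := Submodule.exists_mem_ne_zero_of_ne_bot hbot
      have hqx : Q x ≠ 0 := hs x hx hx0
      have hxU : x ∉ U := by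
        intro h
        have : x ∈ U ⊓ perp hQ U := ⟨h, hx⟩
        rw [hU] at this
        exact hx0 this
      -- first make `g` fix `x`
      have step1 : ∃ h ∈ RR hQ, U ≤ fixS h ∧ act (h * g) x = x := by
        by_cases hgx : act g x = x
        · refine ⟨1, one_mem _, ?_, by rw [one_mul]; exact hgx⟩
          intro u _
          exact act_one u
        · have h1 : act g x - x ∈ perp hQ U :=
            Submodule.sub_mem _ (act_mem_perp hQ U g hg hfix x hx) hx
          have h2 : Q (act g x - x) ≠ 0 := hs _ h1 (sub_ne_zero.2 hgx)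
          refine ⟨rf hQ (act g x - x), rf_mem_RR hQ _, rf_fix hQ U _ h1, ?_⟩
          rw [act_mul]
          exact act_rf_sub hQ (act g x) x (Q_act g hg x) h2
      obtain ⟨h1, hh1, hh1U, hh1x⟩ := step1
      have hg1 : h1 * g ∈ Cfsg.isometryGroup F Q := mul_mem (RR_le_iso hQ hh1) hg
      have hg1U : U ≤ fixS (h1 * g) := fixS_mul h1 g U hh1U hfix
      by_cases h2 : (2 : F) = 0
      · -- characteristic two
        obtain ⟨x', hx'1, hx'U⟩ := exists_pol_eq_one hQ U x hxU
        have hx'U' : x' ∈ perp hQ U := by
          rw [mem_perp']; exact hx'U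
        have hgx' : act (h1 * g) x' ∈ perp hQ U := act_mem_perp hQ U _ hg1 hg1U x' hx'U'
        have hv : act (h1 * g) x' - x' ∈ perp hQ U := Submodule.sub_mem _ hgx' hx'U'
        have hxv : pol Q (act (h1 * g) x' - x') x = 0 := by
          have := pol_act (h1 * g) hg1 x' x
          rw [hh1x] at this
          rw [pol_sub_left hQ, this, sub_self]
        have step2 : ∃ h ∈ RR hQ, U ≤ fixS h ∧ act h x = x ∧ act (h * (h1 * g)) x' = x' := by
          by_cases hv0 : act (h1 * g) x' - x' = 0
          · refine ⟨1, one_mem _, ?_, act_one x, ?_⟩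
            · intro u _
              exact act_one u
            · rw [one_mul]; exact sub_eq_zero.1 hv0
          · have hqv : Q (act (h1 * g) x' - x') ≠ 0 := hs _ hv hv0
            refine ⟨rf hQ (act (h1 * g) x' - x'), rf_mem_RR hQ _, rf_fix hQ U _ hv,
              act_rf_perp hQ _ x (by rw [pol_comm]; exact hxv), ?_⟩
            rw [act_mul]
            exact act_rf_sub hQ _ x' (Q_act _ hg1 x') hqv
        obtain ⟨h3, hh3, hh3U, hh3x, hh3x'⟩ := step2
        have hsp : Submodule.span F {x, x'} ≤ perp hQ U := by
          rw [Submodule.span_le]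
          rintro v (rfl | rfl)
          · exact hx
          · exact hx'U'
        have hg2 : U ⊔ Submodule.span F {x, x'} ≤ fixS (h3 * (h1 * g)) := by
          apply sup_le (fixS_mul h3 _ U hh3U hg1U)
          rw [Submodule.span_le]
          rintro v (rfl | rfl)
          · show act (h3 * (h1 * g)) v = v
            rw [act_mul, hh1x, hh3x]
          · exact hh3x'
        have hsp0 : Submodule.span F {x, x'} ≠ ⊥ := by
          intro h
          apply hx0
          have : x ∈ Submodule.span F {x, x'} := Submodule.subset_span (by simp)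
          rw [h] at this
          exact this
        have hlt := finrank_perp_sup_lt hQ U _ hU hsp hsp0
        have hmem := ih _ (by rw [← hk]; exact hlt) (U ⊔ Submodule.span F {x, x'})
          (sup_nondeg hQ U _ hU hsp (pair_nondeg hQ x x' (by rw [pol_self hQ, h2, zero_mul])
            (by rw [pol_self hQ, h2, zero_mul]) (by rw [pol_comm]; exact hx'1))) rfl
          (h3 * (h1 * g)) (mul_mem (RR_le_iso hQ hh3) hg1) hg2
        have : g = h1⁻¹ * (h3⁻¹ * (h3 * (h1 * g))) := by group
        rw [this]
        exact mul_mem (inv_mem hh1) (mul_mem (inv_mem hh3) hmem)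
      · -- odd characteristic
        have hsp : Submodule.span F {x} ≤ perp hQ U := by
          rw [Submodule.span_le]
          rintro v rfl
          exact hx
        have hg2 : U ⊔ Submodule.span F {x} ≤ fixS (h1 * g) := by
          apply sup_le hg1U
          rw [Submodule.span_le]
          rintro v rfl
          exact hh1x
        have hsp0 : Submodule.span F {x} ≠ ⊥ := by
          intro h
          apply hx0
          have : x ∈ Submodule.span F {x} := Submodule.mem_span_singleton_self x
          rw [h] at this
          exact this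
        have hlt := finrank_perp_sup_lt hQ U _ hU hsp hsp0
        have hmem := ih _ (by rw [← hk]; exact hlt) (U ⊔ Submodule.span F {x})
          (sup_nondeg hQ U _ hU hsp (line_nondeg hQ x hqx h2)) rfl (h1 * g) hg1 hg2
        have : g = h1⁻¹ * (h1 * g) := by group
        rw [this]
        exact mul_mem (inv_mem hh1) hmem

/-- the isometry group is generated by the reflections, except for `O₄⁺(2)` -/
theorem iso_le_RR (h : Fintype.card F ≠ 2 ∨ Fintype.card ι ≠ 4) :
    Cfsg.isometryGroup F Q ≤ RR hQ := by
  intro g hg
  refine mem_RR_of_fix hQ (sg_mem_RR hQ h) _ ⊥ (by rw [bot_inf_eq]) rfl g hg ?_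
  intro u hu
  rw [Submodule.mem_bot] at hu
  rw [hu]
  exact act_zero g

theorem iso_eq_RR (h : Fintype.card F ≠ 2 ∨ Fintype.card ι ≠ 4) :
    Cfsg.isometryGroup F Q = RR hQ :=
  le_antisymm (iso_le_RR hQ h) (RR_le_iso hQ)

end ReflGen

end Cfsg.Agent.H9.Orth
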