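import Mathlib
import Cfsg.Agent.H9.OrthJ

set_option autoImplicit false
set_option linter.unusedSectionVars false
set_option linter.style.haveILetI false
open Cfsg

/-!
The explicit quadratic forms `quadFormOdd`, `quadFormPlus`, `quadFormMinus` are nondegenerate.
-/

namespace Cfsg.Agent.H9.Orth

open Matrix

section Explicit

variable {F : Type*} [Field F] (m : ℕ)

lemma polar_quadFormOdd (v w : Unit ⊕ (Fin m ⊕ Fin m) → F) :
    QuadraticMap.polar (Cfsg.quadFormOdd m F) v w =
      2 * v (.inl ()) * w (.inl ()) +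
        ∑ i : Fin m, (v (.inr (.inl i)) * w (.inr (.inr i)) + w (.inr (.inl i)) * v (.inr (.inr i))) := by
  unfold QuadraticMap.polar Cfsg.quadFormOdd
  simp only [Pi.add_apply]
  have hs : ∑ i : Fin m, (v (.inr (.inl i)) + w (.inr (.inl i))) *
      (v (.inr (.inr i)) + w (.inr (.inr i))) =
      ∑ i : Fin m, v (.inr (.inl i)) * v (.inr (.inr i)) +
        ∑ i : Fin m, w (.inr (.inl i)) * w (.inr (.inr i)) +
          ∑ i : Fin m, (v (.inr (.inl i)) * w (.inr (.inr i)) +
            w (.inr (.inl i)) * v (.inr (.inr i))) := by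
    rw [← Finset.sum_add_distrib, ← Finset.sum_add_distrib]
    apply Finset.sum_congr rfl; intro i _; ring
  rw [hs]; ring

lemma isNondeg_quadFormOdd (h2 : (2 : F) ≠ 0) :
    Cfsg.Geo.IsNondegenerateQuadraticForm (Cfsg.quadFormOdd m F) := by
  refine ⟨fun c v => ?_, ⟨?_, ?_, ?_, ?_⟩, fun v hv => ?_⟩
  · unfold Cfsg.quadFormOdd
    simp only [Pi.smul_apply, smul_eq_mul]
    rw [mul_add, Finset.mul_sum]
    congr 1
    · ring
    · apply Finset.sum_congr rfl; intro i _; ring
  · intro x y v
    simp only [polar_quadFormOdd, Pi.add_apply]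
    rw [show ∀ a b c d : F, a + b + (c + d) = (a + c) + (b + d) from fun a b c d => by ring,
      ← Finset.sum_add_distrib]
    congr 1
    · ring
    · apply Finset.sum_congr rfl; intro i _; ring
  · intro c x v
    simp only [polar_quadFormOdd, Pi.smul_apply, smul_eq_mul]
    rw [mul_add, Finset.mul_sum]
    congr 1
    · ring
    · apply Finset.sum_congr rfl; intro i _; ring
  · intro v x y
    simp only [polar_quadFormOdd, Pi.add_apply]
    rw [show ∀ a b c d : F, a + b + (c + d) = (a + c) + (b + d) from fun a b c d => by ring,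
      ← Finset.sum_add_distrib]
    congr 1
    · ring
    · apply Finset.sum_congr rfl; intro i _; ring
  · intro c v x
    simp only [polar_quadFormOdd, Pi.smul_apply, smul_eq_mul]
    rw [mul_add, Finset.mul_sum]
    congr 1
    · ring
    · apply Finset.sum_congr rfl; intro i _; ring
  · -- nondegeneracy
    have hex : ∃ j, v j ≠ 0 := by
      by_contra hcon
      push Not at hcon
      exact hv (funext hcon)
    have key : ∃ x, QuadraticMap.polar (Cfsg.quadFormOdd m F) x v ≠ 0 := by
      obtain ⟨j, hj⟩ := hex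
      rcases j with ⟨⟩ | i | i
      · refine ⟨Pi.single (.inl ()) 1, ?_⟩
        rw [polar_quadFormOdd]
        simp [hj, h2]
      · refine ⟨Pi.single (.inr (.inr i)) 1, ?_⟩
        rw [polar_quadFormOdd]
        simp [Pi.single_apply, Finset.sum_ite_eq', hj]
      · refine ⟨Pi.single (.inr (.inl i)) 1, ?_⟩
        rw [polar_quadFormOdd]
        simp [Pi.single_apply, Finset.sum_ite_eq', hj]
    obtain ⟨x, hx⟩ := key
    exact ⟨⟨x, hx⟩, ⟨x, by rw [QuadraticMap.polar_comm]; exact hx⟩⟩

end Explicit

end Cfsg.Agent.H9.Orth
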