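import Mathlib
import Cfsg.Agent.H9.OrthR
import Cfsg.Agent.H9.OrthP
import Cfsg.Agent.Lib.Helper5.Orth.SpinorIndex
import Cfsg.Agent.Lib.Helper5.Orth.UniversalSub

set_option autoImplicit false
set_option linter.unusedSectionVars false
open Cfsg

/-!
The reflections whose centres have norm in a fixed square class generate a subgroup of index 2 of
the orthogonal group (finite fields of odd characteristic).
-/

namespace Cfsg.Agent.H9.OReflCls

open Matrix Cfsg.Agent.H9.Orth
open Cfsg.Agent.Lib.Helper5.OrthSN (spin spin_rf spin_mul_iff spin_one isSquare_mul_iff)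
open Cfsg.Agent.Lib.Helper5.OrthPar (par par_one par_mul_gen not_par_rf R imS mem_imS rank_eq
  fixS_eq_perp wall rank_rf_mul_of_mem par_rf_mul rf_smul)
open Cfsg.Agent.Lib.Helper5.OrthUniv (exists_norm_eq exists_norm_eq_sub)

section RankOne

variable {ι : Type} [Fintype ι] [DecidableEq ι] {F : Type*} [Field F] {Q : (ι → F) → F}
variable (hQ : Cfsg.Geo.IsNondegenerateQuadraticForm Q)
include hQ

/-- an isometry `g` with `rank (g - 1) = 1` is a reflection -/
lemma eq_rf_of_rank_one (g : GL ι F) (hg : g ∈ Cfsg.isometryGroup F Q)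
    (hr : ((g : Matrix ι ι F) - 1).rank = 1) : ∃ x, Q x ≠ 0 ∧ g = rf hQ x := by
  rw [rank_eq] at hr
  obtain ⟨x, hx, hx0⟩ : ∃ x ∈ imS g, x ≠ 0 := by
    apply Submodule.exists_mem_ne_zero_of_ne_bot
    intro h
    rw [h, finrank_bot] at hr
    exact zero_ne_one hr
  obtain ⟨u, hu⟩ := (mem_imS g x).1 hx
  have hspan : ∀ w ∈ imS g, ∃ c : F, c • x = w := by
    intro w hw
    have := (finrank_eq_one_iff_of_nonzero' (⟨x, hx⟩ : imS g) (by
      intro h; apply hx0; exact congrArg Subtype.val h)).1 hr ⟨w, hw⟩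
    obtain ⟨c, hc⟩ := this
    exact ⟨c, congrArg Subtype.val hc⟩
  have hqx : Q x ≠ 0 := by
    intro h0
    have hw := wall hQ g hg u
    rw [hu, h0] at hw
    have hxu : pol Q x u = 0 := neg_eq_zero.1 hw.symm
    have hfix : u ∈ fixS g := by
      rw [fixS_eq_perp hQ g hg, mem_perp]
      intro w hw'
      obtain ⟨c, rfl⟩ := hspan w hw'
      rw [pol_smul_left hQ, hxu, mul_zero]
    rw [mem_fixS] at hfix
    rw [hfix, sub_self] at hu
    exact hx0 hu.symm
  refine ⟨x, hqx, ?_⟩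
  have h1 := rank_rf_mul_of_mem hQ g hg x hqx hx
  rw [rank_eq g, hr] at h1
  have h2 : (((rf hQ x * g : GL ι F) : Matrix ι ι F) - 1).rank = 0 := by omega
  rw [rank_eq] at h2
  have h3 : imS (rf hQ x * g) = ⊥ := Submodule.finrank_eq_zero.1 h2
  have h4 : rf hQ x * g = 1 := by
    apply gl_ext
    intro v
    have : act (rf hQ x * g) v - v ∈ imS (rf hQ x * g) := (mem_imS _ _).2 ⟨v, rfl⟩
    rw [h3, Submodule.mem_bot] at this
    rw [act_one]
    exact sub_eq_zero.1 this
  calc g = rf hQ x * (rf hQ x * g) := by rw [← mul_assoc, rf_mul_self, one_mul]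
    _ = rf hQ x := by rw [h4, mul_one]

/-- a reflection moves vectors along its centre -/
lemma act_rf_sub_mem (P : Submodule F (ι → F)) (x : ι → F) (hx : x ∈ P) (v : ι → F) :
    act (rf hQ x) v - v ∈ P := by
  by_cases hq : Q x ≠ 0
  · rw [act_rf hQ x hq, sub_sub_cancel_left]
    exact P.neg_mem (P.smul_mem _ hx)
  · rw [rf_of_not hQ x hq, act_one, sub_self]
    exact P.zero_mem

end RankOne

section Cls

variable {ι : Type} [Fintype ι] [DecidableEq ι] {F : Type*} [Field F] [Fintype F]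
variable {Q : (ι → F) → F}

/-- the norm of `v` lies in the square class of `c` -/
def cls (Q : (ι → F) → F) (c : F) (v : ι → F) : Prop := ∃ t : F, t ≠ 0 ∧ Q v = c * t ^ 2

omit [Fintype ι] [DecidableEq ι] in
lemma cls_ne_zero {c : F} (hc : c ≠ 0) {v : ι → F} (h : cls Q c v) : Q v ≠ 0 := by
  obtain ⟨t, ht, hv⟩ := h
  rw [hv]
  exact mul_ne_zero hc (pow_ne_zero 2 ht)

lemma cls_of_isSquare_iff {a c : F} (ha : a ≠ 0) (hc : c ≠ 0)
    (h : IsSquare (-a) ↔ IsSquare (-c)) : ∃ t : F, t ≠ 0 ∧ a = c * t ^ 2 := by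
  have h1 := (isSquare_mul_iff (neg_ne_zero.2 ha) (neg_ne_zero.2 hc)).2 h
  obtain ⟨s, hs⟩ := h1
  have hs0 : s ≠ 0 := by
    rintro rfl
    rw [mul_zero] at hs
    exact mul_ne_zero (neg_ne_zero.2 ha) (neg_ne_zero.2 hc) hs
  refine ⟨s / c, div_ne_zero hs0 hc, ?_⟩
  field_simp
  linear_combination hs

variable (hQ : Cfsg.Geo.IsNondegenerateQuadraticForm Q)
include hQ

/-- the group generated by the reflections with norm in the square class of `c`, inside `GL` -/
def Rc (c : F) : Subgroup (GL ι F) :=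
  Subgroup.closure {g | ∃ v, cls Q c v ∧ g = rf hQ v}

lemma rf_mem_Rc (c : F) (v : ι → F) (hv : cls Q c v) : rf hQ v ∈ Rc hQ c :=
  Subgroup.subset_closure ⟨v, hv, rfl⟩

lemma Rc_le_iso (c : F) : Rc hQ c ≤ Cfsg.isometryGroup F Q := by
  unfold Rc
  rw [Subgroup.closure_le]
  rintro g ⟨v, -, rfl⟩
  exact rf_mem hQ v

lemma Rc_conj (c : F) (g : GL ι F) (hg : g ∈ Cfsg.isometryGroup F Q)
    (h : GL ι F) (hh : h ∈ Rc hQ c) : g * h * g⁻¹ ∈ Rc hQ c := by
  unfold Rc at hh
  induction hh using Subgroup.closure_induction with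
  | mem x hx =>
    obtain ⟨v, ⟨t, ht, hv⟩, rfl⟩ := hx
    rw [conj_rf hQ g hg]
    exact rf_mem_Rc hQ c _ ⟨t, ht, by rw [Q_act g hg, hv]⟩
  | one => simp
  | mul x y _ _ hx hy =>
    have : g * (x * y) * g⁻¹ = (g * x * g⁻¹) * (g * y * g⁻¹) := by group
    rw [this]
    exact mul_mem hx hy
  | inv x _ hx =>
    have : g * x⁻¹ * g⁻¹ = (g * x * g⁻¹)⁻¹ := by group
    rw [this]
    exact inv_mem hx

/-- two vectors of the same norm spanning a nondegenerate plane: the product of their reflections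
is a product of two reflections of any prescribed class -/
lemma rf_mul_rf_mem_of_gram (h2 : (2 : F) ≠ 0) (hgen : Cfsg.isometryGroup F Q ≤ RR hQ)
    (c : F) (hc : c ≠ 0) (x y : ι → F) (hx : Q x ≠ 0) (hxy : Q y = Q x)
    (hb : pol Q x y ^ 2 ≠ 4 * Q x ^ 2) : rf hQ x * rf hQ y ∈ Rc hQ c := by
  have hy : Q y ≠ 0 := by rw [hxy]; exact hx
  set P := Submodule.span F {x, y} with hPdef
  have hxP : x ∈ P := Submodule.subset_span (by simp)
  have hyP : y ∈ P := Submodule.subset_span (by simp)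
  have hdet : 4 * Q x ^ 2 - pol Q x y ^ 2 ≠ 0 := by
    intro h
    apply hb
    linear_combination -h
  have key : ∀ α β : F, pol Q x (α • x + β • y) = 0 → pol Q y (α • x + β • y) = 0 →
      α = 0 ∧ β = 0 := by
    intro α β h1 h3
    rw [pol_add_right hQ, pol_smul_right hQ, pol_smul_right hQ, pol_self hQ] at h1 h3
    rw [pol_comm y x, hxy] at h3
    constructor
    · have : (4 * Q x ^ 2 - pol Q x y ^ 2) * α = 0 := by
        linear_combination (2 * Q x) * h1 - pol Q x y * h3
      exact (mul_eq_zero.1 this).resolve_left hdet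
    · have : (4 * Q x ^ 2 - pol Q x y ^ 2) * β = 0 := by
        linear_combination (2 * Q x) * h3 - pol Q x y * h1
      exact (mul_eq_zero.1 this).resolve_left hdet
  have hP : P ⊓ perp hQ P = ⊥ := by
    rw [eq_bot_iff]
    intro v hv
    obtain ⟨hv1, hv2⟩ := Submodule.mem_inf.1 hv
    obtain ⟨α, β, rfl⟩ := Submodule.mem_span_pair.1 hv1
    rw [hPdef, mem_perp_span_pair] at hv2
    obtain ⟨ha, hb'⟩ := key α β hv2.1 hv2.2
    rw [ha, hb', zero_smul, zero_smul, add_zero]
    exact Submodule.zero_mem _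
  have hd : 2 ≤ Module.finrank F P := by
    have hli : LinearIndependent F ![x, y] := by
      rw [LinearIndependent.pair_iff]
      intro s t hst
      apply key s t
      · rw [hst, pol_zero_right hQ]
      · rw [hst, pol_zero_right hQ]
    have h1 := finrank_span_eq_card hli
    have h3 : Set.range ![x, y] = {x, y} := by
      ext z
      simp only [Set.mem_range, Fin.exists_fin_two, Matrix.cons_val_zero, Matrix.cons_val_one,
        Set.mem_insert_iff, Set.mem_singleton_iff]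
      constructor
      · rintro (h | h)
        · exact Or.inl h.symm
        · exact Or.inr h.symm
      · rintro (h | h)
        · exact Or.inl h.symm
        · exact Or.inr h.symm
    rw [h3, Fintype.card_fin] at h1
    rw [hPdef, h1]
  obtain ⟨w, hwP, hqw⟩ := exists_norm_eq_sub hQ h2 P hP hd c
  have hw : Q w ≠ 0 := by rw [hqw]; exact hc
  set g := rf hQ w * (rf hQ x * rf hQ y) with hgdef
  have hg : g ∈ Cfsg.isometryGroup F Q :=
    mul_mem (rf_mem hQ w) (mul_mem (rf_mem hQ x) (rf_mem hQ y))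
  have himS : imS g ≤ P := by
    intro v hv
    obtain ⟨u, rfl⟩ := (mem_imS g v).1 hv
    have e : act g u - u = (act (rf hQ w) (act (rf hQ x) (act (rf hQ y) u)) -
        act (rf hQ x) (act (rf hQ y) u)) + ((act (rf hQ x) (act (rf hQ y) u) -
        act (rf hQ y) u) + (act (rf hQ y) u - u)) := by
      rw [hgdef, act_mul, act_mul]; abel
    rw [e]
    exact P.add_mem (act_rf_sub_mem hQ P w hwP _)
      (P.add_mem (act_rf_sub_mem hQ P x hxP _) (act_rf_sub_mem hQ P y hyP _))
  have hr2 : ((g : Matrix ι ι F) - 1).rank ≤ 2 := by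
    rw [rank_eq]
    exact (Submodule.finrank_mono himS).trans (finrank_span_pair_le x y)
  have hpar : ¬ par g := by
    have h1 := par_rf_mul hQ (rf hQ y) (rf_mem hQ y) x hx
    have h3 := par_rf_mul hQ (rf hQ x * rf hQ y) (mul_mem (rf_mem hQ x) (rf_mem hQ y)) w hw
    have h4 := not_par_rf hQ y hy
    rw [hgdef, h3, h1]
    exact fun h => h h4
  have hr1 : ((g : Matrix ι ι F) - 1).rank = 1 := by
    unfold par at hpar
    rw [Nat.not_even_iff_odd] at hpar
    obtain ⟨k, hk⟩ := hpar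
    omega
  obtain ⟨w', hw', hgw'⟩ := eq_rf_of_rank_one hQ g hg hr1
  have hcls : cls Q c w' := by
    apply cls_of_isSquare_iff hw' hc
    have s1 := spin_mul_iff hQ hgen (rf hQ w) (rf hQ x * rf hQ y) (rf_mem hQ w)
      (mul_mem (rf_mem hQ x) (rf_mem hQ y))
    have s2 := spin_mul_iff hQ hgen (rf hQ x) (rf hQ y) (rf_mem hQ x) (rf_mem hQ y)
    have s3 := spin_rf hQ x hx
    have s4 := spin_rf hQ y hy
    have s5 := spin_rf hQ w hw
    have s6 := spin_rf hQ w' hw'
    rw [hxy] at s4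
    rw [hqw] at s5
    rw [← hgdef, hgw'] at s1
    rw [← s6, s1, s5, s2, s3, s4]
    tauto
  have : rf hQ x * rf hQ y = rf hQ w * rf hQ w' := by
    rw [← hgw', hgdef, ← mul_assoc, rf_mul_self, one_mul]
  rw [this]
  exact mul_mem (rf_mem_Rc hQ c w ⟨1, one_ne_zero, by rw [hqw]; ring⟩) (rf_mem_Rc hQ c w' hcls)

/-- the degenerate case: `y = x + u` with `u` singular and perpendicular to `x` -/
lemma rf_mul_rf_mem_of_singular (h2 : (2 : F) ≠ 0) (hgen : Cfsg.isometryGroup F Q ≤ RR hQ)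
    (hcase : 5 ≤ Fintype.card F ∨ 5 ≤ Fintype.card ι)
    (c : F) (hc : c ≠ 0) (x u : ι → F) (hx : Q x ≠ 0) (hu : Q u = 0) (hxu : pol Q x u = 0)
    (hu0 : u ≠ 0) : rf hQ x * rf hQ (x + u) ∈ Rc hQ c := by
  classical
  have hqy : Q (x + u) = Q x := by rw [Q_add Q, hu, hxu]; ring
  set A := Submodule.span F {x} with hAdef
  have hA : A ⊓ perp hQ A = ⊥ := line_nondeg hQ x hx h2
  have huA : u ∈ perp hQ A := by rw [hAdef, mem_perp_span_singleton]; exact hxu
  obtain ⟨v, hvA, hqv, huv⟩ := exists_partner_in hQ A hA u huA hu0 hu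
  have hxv : pol Q x v = 0 := by rw [hAdef, mem_perp_span_singleton] at hvA; exact hvA
  have h4 : (4 : F) ≠ 0 := by
    have : (4 : F) = 2 * 2 := by norm_num
    rw [this]; exact mul_ne_zero h2 h2
  -- it suffices to find a suitable intermediate vector
  suffices hz : ∃ z, Q z = Q x ∧ pol Q x z ^ 2 ≠ 4 * Q x ^ 2 ∧
      pol Q z (x + u) ^ 2 ≠ 4 * Q x ^ 2 by
    obtain ⟨z, hz1, hz2, hz3⟩ := hz
    have e1 := rf_mul_rf_mem_of_gram hQ h2 hgen c hc x z hx hz1 hz2
    have e2 := rf_mul_rf_mem_of_gram hQ h2 hgen c hc z (x + u) (by rw [hz1]; exact hx)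
      (by rw [hqy, hz1]) (by rw [hz1]; exact hz3)
    have : rf hQ x * rf hQ (x + u) = (rf hQ x * rf hQ z) * (rf hQ z * rf hQ (x + u)) := by
      rw [mul_assoc, ← mul_assoc (rf hQ z), rf_mul_self, one_mul]
    rw [this]
    exact mul_mem e1 e2
  have hne : (0 : F) ^ 2 ≠ 4 * Q x ^ 2 := by
    rw [zero_pow two_ne_zero]
    exact (mul_ne_zero h4 (pow_ne_zero 2 hx)).symm
  rcases hcase with hq | hn
  · -- at least five scalars
    obtain ⟨β, -, hβ⟩ : ∃ β ∈ (Finset.univ : Finset F), β ∉ ({0, 2 * Q x, -(2 * Q x)} : Finset F) := by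
      apply Finset.exists_mem_notMem_of_card_lt_card
      calc ({0, 2 * Q x, -(2 * Q x)} : Finset F).card ≤ 3 := Finset.card_le_three
        _ < Fintype.card F := by omega
        _ = (Finset.univ : Finset F).card := Finset.card_univ.symm
    simp only [Finset.mem_insert, Finset.mem_singleton, not_or] at hβ
    obtain ⟨hβ0, hβ1, hβ2⟩ := hβ
    refine ⟨(Q x / β) • u + β • v, ?_, ?_, ?_⟩
    · rw [Q_add Q, Q_smul hQ, Q_smul hQ, hu, hqv, pol_smul_left hQ, pol_smul_right hQ, huv]
      field_simp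
      ring
    · rw [pol_add_right hQ, pol_smul_right hQ, pol_smul_right hQ, hxu, hxv]
      simpa using hne
    · rw [pol_add_left hQ, pol_smul_left hQ, pol_smul_left hQ, pol_add_right hQ, pol_add_right hQ,
        pol_comm u x, hxu, pol_comm v x, hxv, pol_self hQ, hu, pol_comm v u, huv]
      intro h
      have : (β - 2 * Q x) * (β + 2 * Q x) = 0 := by linear_combination h
      rcases mul_eq_zero.1 this with h' | h'
      · exact hβ1 (by linear_combination h')
      · exact hβ2 (by linear_combination h')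
  · -- dimension at least five
    set T := Submodule.span F {u, v} with hTdef
    have hT : T ≤ perp hQ A := by
      rw [hTdef, Submodule.span_le]
      intro w hw
      rcases hw with rfl | rfl
      · exact huA
      · exact hvA
    have hTn : T ⊓ perp hQ T = ⊥ := hyp_nondeg hQ u v hu hqv huv
    have hAT := sup_nondeg hQ A T hA hT hTn
    have hA1 : Module.finrank F A ≤ 1 := finrank_span_singleton_le x
    have hT2 : Module.finrank F T ≤ 2 := finrank_span_pair_le u v
    have hP : perp hQ (A ⊔ T) ⊓ perp hQ (perp hQ (A ⊔ T)) = ⊥ := by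
      rw [perp_perp, inf_comm]; exact hAT
    have hd : 2 ≤ Module.finrank F (perp hQ (A ⊔ T)) := by
      have h1 := finrank_add_finrank_perp hQ (A ⊔ T)
      have h3 := Submodule.finrank_add_le_finrank_add_finrank A T
      omega
    obtain ⟨z, hz, hqz⟩ := exists_norm_eq_sub hQ h2 _ hP hd (Q x)
    have hz1 : z ∈ perp hQ A := perp_anti hQ le_sup_left hz
    have hz2 : z ∈ perp hQ T := perp_anti hQ le_sup_right hz
    rw [hAdef, mem_perp_span_singleton] at hz1
    rw [hTdef, mem_perp_span_pair] at hz2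
    refine ⟨z, hqz, by rw [hz1]; exact hne, ?_⟩
    rw [pol_add_right hQ, pol_comm z x, hz1, pol_comm z u, hz2.1, add_zero]
    exact hne

/-- two vectors of the same nonzero norm: the product of their reflections lies in `Rc` -/
lemma rf_mul_rf_mem (h2 : (2 : F) ≠ 0) (hgen : Cfsg.isometryGroup F Q ≤ RR hQ)
    (hcase : 5 ≤ Fintype.card F ∨ 5 ≤ Fintype.card ι ∨ Fintype.card ι = 2)
    (c : F) (hc : c ≠ 0) (x y : ι → F) (hx : Q x ≠ 0) (hxy : Q y = Q x) :
    rf hQ x * rf hQ y ∈ Rc hQ c := by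
  -- the case `pol x y = 2 Q x`
  have main : ∀ y : ι → F, Q y = Q x → pol Q x y = 2 * Q x → rf hQ x * rf hQ y ∈ Rc hQ c := by
    intro y hxy hb
    by_cases hu0 : y - x = 0
    · rw [sub_eq_zero] at hu0
      rw [hu0, rf_mul_self]
      exact one_mem _
    have hu : Q (y - x) = 0 := by
      rw [Q_sub hQ, hxy, pol_comm y x, hb]; ring
    have hxu : pol Q x (y - x) = 0 := by
      rw [pol_sub_right hQ, hb, pol_self hQ]; ring
    have hcase' : 5 ≤ Fintype.card F ∨ 5 ≤ Fintype.card ι := by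
      rcases hcase with h | h | h
      · exact Or.inl h
      · exact Or.inr h
      · exfalso
        set A := Submodule.span F {x} with hAdef
        have hA : A ⊓ perp hQ A = ⊥ := line_nondeg hQ x hx h2
        have huA : y - x ∈ perp hQ A := by rw [hAdef, mem_perp_span_singleton]; exact hxu
        obtain ⟨v, hvA, hqv, huv⟩ := exists_partner_in hQ A hA (y - x) huA hu0 hu
        have hA1 : Module.finrank F A = 1 := finrank_span_singleton (ne_zero_of_Q_ne hQ x hx)
        have hB1 : Module.finrank F (perp hQ A) = 1 := by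
          have := finrank_add_finrank_perp hQ A
          omega
        have := (finrank_eq_one_iff_of_nonzero' (⟨y - x, huA⟩ : perp hQ A) (by
          intro h'; apply hu0; exact congrArg Subtype.val h')).1 hB1 ⟨v, hvA⟩
        obtain ⟨lam, hlam⟩ := this
        have hv : v = lam • (y - x) := (congrArg Subtype.val hlam).symm
        rw [hv, pol_smul_right hQ, pol_self hQ, hu] at huv
        simp at huv
    have : y = x + (y - x) := by abel
    rw [this]
    exact rf_mul_rf_mem_of_singular hQ h2 hgen hcase' c hc x (y - x) hx hu hxu hu0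
  by_cases hb : pol Q x y ^ 2 = 4 * Q x ^ 2
  · have : (pol Q x y - 2 * Q x) * (pol Q x y + 2 * Q x) = 0 := by linear_combination hb
    rcases mul_eq_zero.1 this with h | h
    · exact main y hxy (by linear_combination h)
    · have hneg : rf hQ (-y) = rf hQ y := by
        have : -y = (-1 : F) • y := by simp
        rw [this, rf_smul hQ (-1) (neg_ne_zero.2 one_ne_zero) y]
      rw [← hneg]
      apply main (-y) (by rw [Q_neg hQ, hxy])
      rw [pol_neg_right hQ]
      linear_combination -h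
  · exact rf_mul_rf_mem_of_gram hQ h2 hgen c hc x y hx hxy hb

end Cls

lemma prop_mul (s1 s2 s12 p1 p2 p12 C : Prop) (h1 : s12 ↔ (s1 ↔ s2)) (h2 : p12 ↔ (p1 ↔ p2))
    (h3 : s1 ↔ (p1 ∨ C)) (h4 : s2 ↔ (p2 ∨ C)) : s12 ↔ (p12 ∨ C) := by tauto

lemma prop_inv (s1 s2 p1 p2 C : Prop) (h1 : True ↔ (s1 ↔ s2)) (h2 : True ↔ (p1 ↔ p2))
    (h3 : s1 ↔ (p1 ∨ C)) : s2 ↔ (p2 ∨ C) := by tauto

lemma prop_gen (s p C D : Prop) (h1 : s ↔ D) (h2 : ¬ p) (h3 : D ↔ C) : s ↔ (p ∨ C) := by tauto

lemma prop_not (s p C D : Prop) (h1 : s ↔ (p ∨ C)) (h0 : s ↔ D) (h2 : ¬ p) (h3 : D ↔ ¬ C) :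
    False := by
  tauto

section Index

variable {ι : Type} [Fintype ι] [DecidableEq ι] {F : Type*} [Field F] [Fintype F]
variable {Q : (ι → F) → F}
variable (hQ : Cfsg.Geo.IsNondegenerateQuadraticForm Q)
include hQ

omit [Fintype ι] [DecidableEq ι] hQ in
/-- a nonsingular vector lies in one of the two classes -/
lemma cls_or (c ν : F) (hc : c ≠ 0) (hν : ¬ IsSquare ν) (v : ι → F) (hv : Q v ≠ 0) :
    cls Q c v ∨ cls Q (c * ν) v := by
  have hν0 : ν ≠ 0 := by
    rintro rfl
    exact hν ⟨0, by ring⟩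
  by_cases h : IsSquare (Q v / c)
  · left
    obtain ⟨s, hs⟩ := h
    have hs0 : s ≠ 0 := by
      rintro rfl
      rw [mul_zero] at hs
      exact div_ne_zero hv hc hs
    refine ⟨s, hs0, ?_⟩
    field_simp at hs
    linear_combination hs
  · right
    have h1 := (isSquare_mul_iff (div_ne_zero hv hc) hν0).2 (by tauto)
    obtain ⟨s, hs⟩ := h1
    have hs0 : s ≠ 0 := by
      rintro rfl
      rw [mul_zero] at hs
      exact mul_ne_zero (div_ne_zero hv hc) hν0 hs
    refine ⟨s / ν, div_ne_zero hs0 hν0, ?_⟩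
    field_simp at hs ⊢
    linear_combination hs

/-- every isometry lies in `Rc` or in its coset by a fixed reflection of the other class -/
lemma mem_Rc_or (h2 : (2 : F) ≠ 0) (hgen : Cfsg.isometryGroup F Q ≤ RR hQ)
    (hcase : 5 ≤ Fintype.card F ∨ 5 ≤ Fintype.card ι ∨ Fintype.card ι = 2)
    (c ν : F) (hc : c ≠ 0) (hν : ¬ IsSquare ν) (x₀ : ι → F) (hx₀ : Q x₀ = c * ν)
    (g : GL ι F) (hg : g ∈ Cfsg.isometryGroup F Q) :
    g ∈ Rc hQ c ∨ g * rf hQ x₀ ∈ Rc hQ c := by
  have hν0 : ν ≠ 0 := by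
    rintro rfl
    exact hν ⟨0, by ring⟩
  have hgR : g ∈ RR hQ := hgen hg
  have ha : rf hQ x₀ ∈ Cfsg.isometryGroup F Q := rf_mem hQ x₀
  have haa : rf hQ x₀ * rf hQ x₀ = 1 := rf_mul_self hQ x₀
  have hainv : (rf hQ x₀)⁻¹ = rf hQ x₀ := rf_inv hQ x₀
  have hconj : ∀ h ∈ Rc hQ c, rf hQ x₀ * h * rf hQ x₀ ∈ Rc hQ c := by
    intro h hh
    have := Rc_conj hQ c _ ha h hh
    rwa [hainv] at this
  unfold RR at hgR
  induction hgR using Subgroup.closure_induction with
  | mem x hx =>
    obtain ⟨v, rfl⟩ := hx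
    by_cases hv : Q v ≠ 0
    · rcases cls_or c ν hc hν v hv with h | ⟨t, ht, hvt⟩
      · left; exact rf_mem_Rc hQ c v h
      · right
        have hsm : rf hQ (t⁻¹ • v) = rf hQ v := rf_smul hQ t⁻¹ (inv_ne_zero ht) v
        have hq : Q (t⁻¹ • v) = c * ν := by
          rw [Q_smul hQ, hvt]
          field_simp
        rw [← hsm]
        exact rf_mul_rf_mem hQ h2 hgen hcase c hc (t⁻¹ • v) x₀ (by rw [hq]; exact mul_ne_zero hc hν0)
          (by rw [hq, hx₀])
    · left
      rw [rf_of_not hQ v hv]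
      exact one_mem _
  | one => left; exact one_mem _
  | mul x y hx' hy' hx hy =>
    have hxi : x ∈ Cfsg.isometryGroup F Q := RR_le_iso hQ hx'
    have hyi : y ∈ Cfsg.isometryGroup F Q := RR_le_iso hQ hy'
    rcases hx hxi with h1 | h1 <;> rcases hy hyi with h3 | h3
    · left; exact mul_mem h1 h3
    · right; rw [mul_assoc]; exact mul_mem h1 h3
    · right
      have : x * y * rf hQ x₀ = (x * rf hQ x₀) * (rf hQ x₀ * y * rf hQ x₀) := by
        simp only [mul_assoc]
        rw [← mul_assoc (rf hQ x₀) (rf hQ x₀), haa, one_mul]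
      rw [this]
      exact mul_mem h1 (hconj y h3)
    · left
      have : x * y = (x * rf hQ x₀) * (rf hQ x₀ * (y * rf hQ x₀) * rf hQ x₀) := by
        simp only [mul_assoc]
        rw [haa, mul_one, ← mul_assoc (rf hQ x₀) (rf hQ x₀), haa, one_mul]
      rw [this]
      exact mul_mem h1 (hconj _ h3)
  | inv x hx' hx =>
    have hxi : x ∈ Cfsg.isometryGroup F Q := RR_le_iso hQ hx'
    rcases hx hxi with h1 | h1
    · left; exact inv_mem h1
    · right
      have h3 := hconj _ (inv_mem h1)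
      have : rf hQ x₀ * (x * rf hQ x₀)⁻¹ * rf hQ x₀ = x⁻¹ * rf hQ x₀ := by
        rw [_root_.mul_inv_rev, hainv, ← mul_assoc, haa, one_mul]
      rwa [this] at h3

/-- a reflection of the other class does not lie in `Rc` -/
lemma rf_notMem_Rc (hgen : Cfsg.isometryGroup F Q ≤ RR hQ) (c ν : F) (hc : c ≠ 0)
    (hν : ¬ IsSquare ν) (x₀ : ι → F) (hx₀ : Q x₀ = c * ν) : rf hQ x₀ ∉ Rc hQ c := by
  have hν0 : ν ≠ 0 := by
    rintro rfl
    exact hν ⟨0, by ring⟩
  have key : ∀ g ∈ Rc hQ c, g ∈ Cfsg.isometryGroup F Q ∧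
      (spin Q g ↔ (par g ∨ IsSquare (-c))) := by
    intro g hg
    unfold Rc at hg
    induction hg using Subgroup.closure_induction with
    | mem x hx =>
      obtain ⟨v, hv, rfl⟩ := hx
      have hv0 : Q v ≠ 0 := cls_ne_zero hc hv
      obtain ⟨t, ht, hvt⟩ := hv
      refine ⟨rf_mem hQ v, ?_⟩
      have h0 := spin_rf hQ v hv0
      have h1 : IsSquare (-Q v) ↔ IsSquare (-c) := by
        have e : -Q v = -c * (t * t) := by rw [hvt]; ring
        rw [e, isSquare_mul_iff (neg_ne_zero.2 hc) (mul_ne_zero ht ht)]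
        have : IsSquare (t * t) := ⟨t, rfl⟩
        tauto
      exact prop_gen _ _ _ _ h0 (not_par_rf hQ v hv0) h1
    | one =>
      refine ⟨one_mem _, ?_⟩
      have h1 := spin_one (Q := Q)
      have h3 := par_one (ι := ι) (F := F)
      exact ⟨fun _ => Or.inl h3, fun _ => h1⟩
    | mul x y _ _ hx hy =>
      refine ⟨mul_mem hx.1 hy.1, ?_⟩
      exact prop_mul _ _ _ _ _ _ _ (spin_mul_iff hQ hgen x y hx.1 hy.1)
        (par_mul_gen hQ hgen x y hx.1 hy.1) hx.2 hy.2
    | inv x _ hx =>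
      refine ⟨inv_mem hx.1, ?_⟩
      have h1 := spin_mul_iff hQ hgen x x⁻¹ hx.1 (inv_mem hx.1)
      have h3 := par_mul_gen hQ hgen x x⁻¹ hx.1 (inv_mem hx.1)
      rw [mul_inv_cancel] at h1 h3
      have h5 := spin_one (Q := Q)
      have h6 := par_one (ι := ι) (F := F)
      exact prop_inv _ _ _ _ _ ⟨fun _ => h1.1 h5, fun _ => trivial⟩
        ⟨fun _ => h3.1 h6, fun _ => trivial⟩ hx.2
  intro hmem
  have h1 := (key _ hmem).2
  have hx0 : Q x₀ ≠ 0 := by rw [hx₀]; exact mul_ne_zero hc hν0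
  have h0 := spin_rf hQ x₀ hx0
  have h3 : IsSquare (-Q x₀) ↔ ¬ IsSquare (-c) := by
    have e : -Q x₀ = -c * ν := by rw [hx₀]; ring
    rw [e, isSquare_mul_iff (neg_ne_zero.2 hc) hν0]
    tauto
  exact prop_not _ _ _ _ h1 h0 (not_par_rf hQ x₀ hx0) h3

/-- the generators as a set in the isometry group -/
def gens (Q : (ι → F) → F) (c : F) : Set ↥(Cfsg.isometryGroup F Q) :=
  {g | ∃ (v : ι → F) (t : F), t ≠ 0 ∧ Q v = c * t ^ 2 ∧
    ((g : GL ι F) : Matrix ι ι F) = Cfsg.reflectionMatrix Q v}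

lemma mem_closure_gens_iff (c : F) (hc : c ≠ 0) (b : ↥(Cfsg.isometryGroup F Q)) :
    b ∈ Subgroup.closure (gens Q c) ↔ (b : GL ι F) ∈ Rc hQ c := by
  constructor
  · intro hb
    induction hb using Subgroup.closure_induction with
    | mem x hx =>
      obtain ⟨v, t, ht, hv, hm⟩ := hx
      have hv0 : Q v ≠ 0 := by rw [hv]; exact mul_ne_zero hc (pow_ne_zero 2 ht)
      have : (x : GL ι F) = rf hQ v := by
        apply Units.ext
        rw [← reflectionMatrix_eq_rf hQ v hv0]
        exact hm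
      rw [this]
      exact rf_mem_Rc hQ c v ⟨t, ht, hv⟩
    | one => exact one_mem _
    | mul x y _ _ hx hy => exact mul_mem hx hy
    | inv x _ hx => exact inv_mem hx
  · intro hb
    have hle : Rc hQ c ≤ (Subgroup.closure (gens Q c)).map (Cfsg.isometryGroup F Q).subtype := by
      unfold Rc
      rw [Subgroup.closure_le]
      rintro g ⟨v, ⟨t, ht, hv⟩, rfl⟩
      have hv0 : Q v ≠ 0 := by rw [hv]; exact mul_ne_zero hc (pow_ne_zero 2 ht)
      refine ⟨R hQ v, ?_, rfl⟩
      apply Subgroup.subset_closure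
      exact ⟨v, t, ht, hv, (reflectionMatrix_eq_rf hQ v hv0).symm⟩
    obtain ⟨b', hb', hbb⟩ := hle hb
    have : b' = b := Subtype.ext hbb
    rwa [← this]

/-- the reflections with norm in a fixed square class generate a subgroup of index 2 -/
theorem index_closure_gens (h2 : (2 : F) ≠ 0) (hn : 2 ≤ Fintype.card ι)
    (hcase : 5 ≤ Fintype.card F ∨ 5 ≤ Fintype.card ι ∨ Fintype.card ι = 2)
    (c : F) (hc : c ≠ 0) : (Subgroup.closure (gens Q c)).index = 2 := by
  have hcard : Fintype.card F ≠ 2 := by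
    intro h
    have := Nat.cast_card_eq_zero F
    rw [h] at this
    exact h2 (by exact_mod_cast this)
  have hgen := iso_le_RR hQ (Or.inl hcard)
  have hchar : ringChar F ≠ 2 := by
    intro h
    have : CharP F 2 := by rw [← h]; exact ringChar.charP F
    exact h2 (by exact_mod_cast CharP.cast_eq_zero F 2)
  obtain ⟨ν, hν⟩ := FiniteField.exists_nonsquare hchar
  obtain ⟨x₀, hx₀⟩ := exists_norm_eq hQ h2 hn (c * ν)
  rw [Subgroup.index_eq_two_iff]
  refine ⟨R hQ x₀, fun b => ?_⟩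
  rw [mem_closure_gens_iff hQ c hc, mem_closure_gens_iff hQ c hc]
  have h1 : ((b * R hQ x₀ : ↥(Cfsg.isometryGroup F Q)) : GL ι F) =
      (b : GL ι F) * rf hQ x₀ := rfl
  rw [h1]
  have h3 := mem_Rc_or hQ h2 hgen hcase c ν hc hν x₀ hx₀ (b : GL ι F) b.2
  have h4 := rf_notMem_Rc hQ hgen c ν hc hν x₀ hx₀
  have h5 : (b : GL ι F) ∈ Rc hQ c → (b : GL ι F) * rf hQ x₀ ∈ Rc hQ c → False := by
    intro h6 h7
    apply h4
    have := mul_mem (inv_mem h6) h7
    rwa [inv_mul_cancel_left] at this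
  unfold Xor
  tauto

end Index

end Cfsg.Agent.H9.OReflCls
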