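import Mathlib
import Cfsg.Agent.H9.OrthR
import Cfsg.Agent.H9.OrthP
import Cfsg.Agent.Lib.Helper5.Orth.SpinorIndex
import Cfsg.Prelude.Def_FischerSpaces

set_option autoImplicit false
set_option linter.unusedSectionVars false
open Cfsg

/-!
Reflections of one norm class over the field with three elements generate a subgroup of index 2
of the orthogonal group (dimension at least 5).
-/

namespace Cfsg.Agent.H9.OReflF3

open Matrix Cfsg.Agent.H9.Orth

lemma z3_cases (a : ZMod 3) : a = 0 ∨ a = 1 ∨ a = -1 := by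
  revert a; decide

lemma z3_three : (3 : ZMod 3) = 0 := by decide

lemma z3_sq_neg : ∀ c : ZMod 3, c ≠ 0 → (IsSquare (-c) ↔ c = -1) := by decide

lemma z3_sq : ∀ c : ZMod 3, c ≠ 0 → ¬ (IsSquare c ↔ c = -1) := by decide

lemma prop_mul (s1 s2 s12 p1 p2 p12 C : Prop) (h1 : s12 ↔ (s1 ↔ s2)) (h2 : p12 ↔ (p1 ↔ p2))
    (h3 : s1 ↔ (p1 ∨ C)) (h4 : s2 ↔ (p2 ∨ C)) : s12 ↔ (p12 ∨ C) := by tauto

lemma prop_inv (s1 s2 p1 p2 C : Prop) (h1 : True ↔ (s1 ↔ s2)) (h2 : True ↔ (p1 ↔ p2))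
    (h3 : s1 ↔ (p1 ∨ C)) : s2 ↔ (p2 ∨ C) := by tauto

lemma prop_gen (s p C D : Prop) (h1 : s ↔ D) (h2 : ¬ p) (h3 : D ↔ C) : s ↔ (p ∨ C) := by tauto

lemma prop_not (s p C D : Prop) (h1 : s ↔ (p ∨ C)) (h0 : s ↔ D) (h2 : ¬ p) (h3 : ¬ (D ↔ C)) : False := by
  tauto

section Main

variable {ι : Type} [Fintype ι] [DecidableEq ι] {Q : (ι → ZMod 3) → ZMod 3}
variable (hQ : Cfsg.Geo.IsNondegenerateQuadraticForm Q)
include hQ

/-- the product of two perpendicular reflections of norm `-c` is a product of two reflections of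
norm `c` -/
lemma rf_mul_rf_perp (x z : ι → ZMod 3) (c : ZMod 3) (hc : c ≠ 0) (hx : Q x = -c)
    (hz : Q z = -c) (hxz : pol Q x z = 0) :
    Q (x + z) = c ∧ Q (x - z) = c ∧ rf hQ x * rf hQ z = rf hQ (x + z) * rf hQ (x - z) := by
  have h3 := z3_three
  have h1 : Q (x + z) = c := by
    rw [Q_add Q, hx, hz, hxz]; linear_combination (-c) * h3
  have h2 : Q (x - z) = c := by
    rw [Q_sub hQ, hx, hz, hxz]; linear_combination (-c) * h3
  refine ⟨h1, h2, ?_⟩
  have hx0 : Q x ≠ 0 := by rw [hx]; exact neg_ne_zero.2 hc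
  have hz0 : Q z ≠ 0 := by rw [hz]; exact neg_ne_zero.2 hc
  apply gl_ext
  intro w
  rw [act_mul, act_mul, act_rf hQ z hz0 w, act_rf hQ x hx0, act_rf hQ (x - z) (by rw [h2]; exact hc) w,
    act_rf hQ (x + z) (by rw [h1]; exact hc), h1, h2, hx, hz]
  simp only [pol_sub_left hQ, pol_sub_right hQ, pol_add_right hQ,
    pol_smul_left hQ, pol_self hQ, hx, hz, hxz, pol_comm z x]
  rcases z3_cases c with rfl | rfl | rfl
  · exact absurd rfl hc
  · funext i
    simp only [Pi.sub_apply, Pi.smul_apply, Pi.add_apply, smul_eq_mul, inv_neg, inv_one]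
    linear_combination (pol Q w x * x i + pol Q w z * z i) * h3
  · funext i
    simp only [Pi.sub_apply, Pi.smul_apply, Pi.add_apply, smul_eq_mul, inv_neg, inv_one, neg_neg]
    linear_combination (-(pol Q w x * x i + pol Q w z * z i)) * h3

/-- a nondegenerate subspace of dimension at least 2 represents every value -/
lemma exists_norm_in (P : Submodule (ZMod 3) (ι → ZMod 3)) (hP : P ⊓ perp hQ P = ⊥)
    (hd : 2 ≤ Module.finrank (ZMod 3) P) (a : ZMod 3) : ∃ z ∈ P, Q z = a := by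
  have hsing : ∀ e ∈ P, e ≠ 0 → Q e = 0 → ∃ z ∈ P, Q z = a := by
    intro e he he0 hqe
    obtain ⟨f, hf, hqf, hef⟩ := exists_partner_self hQ P hP e he he0 hqe
    refine ⟨e + a • f, P.add_mem he (P.smul_mem _ hf), ?_⟩
    rw [Q_add_smul hQ, hqe, hqf, hef]; ring
  obtain ⟨w, hw, hw0⟩ : ∃ w ∈ P, w ≠ 0 := by
    have : P ≠ ⊥ := by
      intro h; rw [h, finrank_bot] at hd; omega
    exact Submodule.exists_mem_ne_zero_of_ne_bot this
  by_cases ha0 : a = 0
  · subst ha0
    exact ⟨0, P.zero_mem, Q_zero hQ⟩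
  by_cases hqw : Q w = 0
  · exact hsing w hw hw0 hqw
  by_cases hqa : Q w = a
  · exact ⟨w, hw, hqa⟩
  have hqw' : Q w = -a := by
    rcases z3_cases (Q w) with h | h | h <;> rcases z3_cases a with h' | h' | h' <;>
      simp_all
  have h1 := finrank_inf_perp_singleton hQ P w
  obtain ⟨w', hw', hw'0⟩ : ∃ w' ∈ P ⊓ perp hQ (Submodule.span (ZMod 3) {w}), w' ≠ 0 := by
    apply Submodule.exists_mem_ne_zero_of_ne_bot
    intro h; rw [h, finrank_bot] at h1; omega
  obtain ⟨hw'P, hw'w⟩ := Submodule.mem_inf.1 hw'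
  rw [mem_perp_span_singleton] at hw'w
  by_cases hq' : Q w' = 0
  · exact hsing w' hw'P hw'0 hq'
  by_cases hq'a : Q w' = a
  · exact ⟨w', hw'P, hq'a⟩
  have hq'' : Q w' = -a := by
    rcases z3_cases (Q w') with h | h | h <;> rcases z3_cases a with h' | h' | h' <;>
      simp_all
  refine ⟨w + w', P.add_mem hw hw'P, ?_⟩
  rw [Q_add Q, hqw', hq'', hw'w]; linear_combination (-a) * z3_three

/-- a vector of prescribed norm perpendicular to a nonsingular vector and a further vector -/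
lemma exists_perp_two (hn : 5 ≤ Fintype.card ι) (x y : ι → ZMod 3) (hx : Q x ≠ 0)
    (a : ZMod 3) : ∃ z, Q z = a ∧ pol Q x z = 0 ∧ pol Q y z = 0 := by
  have h2 : (2 : ZMod 3) ≠ 0 := by decide
  set A := Submodule.span (ZMod 3) {x} with hAdef
  have hA : A ⊓ perp hQ A = ⊥ := line_nondeg hQ x hx h2
  have hA1 : Module.finrank (ZMod 3) A ≤ 1 := finrank_span_singleton_le x
  obtain ⟨u, hu, y', hy', hyy⟩ := exists_decomp hQ A hA y
  obtain ⟨α, rfl⟩ := Submodule.mem_span_singleton.1 hu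
  have hxy' : pol Q x y' = 0 := by
    rw [hAdef, mem_perp_span_singleton] at hy'; exact hy'
  -- it suffices to find `z` perpendicular to `x` and `y'`
  suffices h : ∃ z, Q z = a ∧ pol Q x z = 0 ∧ pol Q y' z = 0 by
    obtain ⟨z, hz1, hz2, hz3⟩ := h
    refine ⟨z, hz1, hz2, ?_⟩
    rw [hyy, pol_add_left hQ, pol_smul_left hQ, hz2, hz3]; ring
  by_cases hy0 : y' = 0
  · have hb : 3 ≤ Module.finrank (ZMod 3) (perp hQ A) := by
      have := finrank_add_finrank_perp hQ A
      omega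
    obtain ⟨e, f, he, hf, hqe, hqf, hef⟩ := exists_hyperbolic_pair hQ A hA hb
    rw [hAdef, mem_perp_span_singleton] at he hf
    refine ⟨e + a • f, ?_, ?_, ?_⟩
    · rw [Q_add_smul hQ, hqe, hqf, hef]; ring
    · rw [pol_add_right hQ, pol_smul_right hQ, he, hf]; ring
    · rw [hy0, pol_zero_left hQ]
  by_cases hqy : Q y' = 0
  · -- `y'` singular: split off a hyperbolic plane
    obtain ⟨f, hf, hqf, hyf⟩ := exists_partner_in hQ A hA y' hy' hy0 hqy
    set T := Submodule.span (ZMod 3) {y', f} with hTdef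
    have hT : T ≤ perp hQ A := by
      rw [hTdef, Submodule.span_le]
      intro v hv
      rcases hv with rfl | rfl
      · exact hy'
      · exact hf
    have hTn : T ⊓ perp hQ T = ⊥ := hyp_nondeg hQ y' f hqy hqf hyf
    have hAT := sup_nondeg hQ A T hA hT hTn
    have hT2 : Module.finrank (ZMod 3) T ≤ 2 := finrank_span_pair_le y' f
    have hP : perp hQ (A ⊔ T) ⊓ perp hQ (perp hQ (A ⊔ T)) = ⊥ := by
      rw [perp_perp, inf_comm]; exact hAT
    have hd : 2 ≤ Module.finrank (ZMod 3) (perp hQ (A ⊔ T)) := by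
      have h1 := finrank_add_finrank_perp hQ (A ⊔ T)
      have h3 := Submodule.finrank_add_le_finrank_add_finrank A T
      omega
    obtain ⟨z, hz, hqz⟩ := exists_norm_in hQ _ hP hd a
    have hz1 : z ∈ perp hQ A := perp_anti hQ le_sup_left hz
    have hz2 : z ∈ perp hQ T := perp_anti hQ le_sup_right hz
    rw [hAdef, mem_perp_span_singleton] at hz1
    rw [hTdef, mem_perp_span_pair] at hz2
    exact ⟨z, hqz, hz1, hz2.1⟩
  · -- `y'` nonsingular
    set T := Submodule.span (ZMod 3) {y'} with hTdef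
    have hT : T ≤ perp hQ A := by
      rw [hTdef, Submodule.span_le]
      intro v hv
      rw [Set.mem_singleton_iff] at hv
      rw [hv]; exact hy'
    have hTn : T ⊓ perp hQ T = ⊥ := line_nondeg hQ y' hqy h2
    have hAT := sup_nondeg hQ A T hA hT hTn
    have hT1 : Module.finrank (ZMod 3) T ≤ 1 := finrank_span_singleton_le y'
    have hb : 3 ≤ Module.finrank (ZMod 3) (perp hQ (A ⊔ T)) := by
      have h1 := finrank_add_finrank_perp hQ (A ⊔ T)
      have h3 := Submodule.finrank_add_le_finrank_add_finrank A T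
      omega
    obtain ⟨e, f, he, hf, hqe, hqf, hef⟩ := exists_hyperbolic_pair hQ (A ⊔ T) hAT hb
    have he1 : e ∈ perp hQ A := perp_anti hQ le_sup_left he
    have he2 : e ∈ perp hQ T := perp_anti hQ le_sup_right he
    have hf1 : f ∈ perp hQ A := perp_anti hQ le_sup_left hf
    have hf2 : f ∈ perp hQ T := perp_anti hQ le_sup_right hf
    rw [hAdef, mem_perp_span_singleton] at he1 hf1
    rw [hTdef, mem_perp_span_singleton] at he2 hf2
    refine ⟨e + a • f, ?_, ?_, ?_⟩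
    · rw [Q_add_smul hQ, hqe, hqf, hef]; ring
    · rw [pol_add_right hQ, pol_smul_right hQ, he1, hf1]; ring
    · rw [pol_add_right hQ, pol_smul_right hQ, he2, hf2]; ring

end Main

section Group

variable {ι : Type} [Fintype ι] [DecidableEq ι] {Q : (ι → ZMod 3) → ZMod 3}
variable (hQ : Cfsg.Geo.IsNondegenerateQuadraticForm Q)
include hQ

open Cfsg.Agent.Lib.Helper5.OrthSN (spin spin_rf spin_mul_iff spin_one)
open Cfsg.Agent.Lib.Helper5.OrthPar (par par_one par_mul_gen not_par_rf R)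

/-- the group generated by the reflections of norm `c`, inside `GL` -/
def Rc (c : ZMod 3) : Subgroup (GL ι (ZMod 3)) :=
  Subgroup.closure {g | ∃ v, Q v = c ∧ g = rf hQ v}

lemma rf_mem_Rc (c : ZMod 3) (v : ι → ZMod 3) (hv : Q v = c) : rf hQ v ∈ Rc hQ c :=
  Subgroup.subset_closure ⟨v, hv, rfl⟩

lemma Rc_le_iso (c : ZMod 3) : Rc hQ c ≤ Cfsg.isometryGroup (ZMod 3) Q := by
  unfold Rc
  rw [Subgroup.closure_le]
  rintro g ⟨v, -, rfl⟩
  exact rf_mem hQ v

lemma Rc_conj (c : ZMod 3) (g : GL ι (ZMod 3)) (hg : g ∈ Cfsg.isometryGroup (ZMod 3) Q)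
    (h : GL ι (ZMod 3)) (hh : h ∈ Rc hQ c) : g * h * g⁻¹ ∈ Rc hQ c := by
  unfold Rc at hh
  induction hh using Subgroup.closure_induction with
  | mem x hx =>
    obtain ⟨v, hv, rfl⟩ := hx
    rw [conj_rf hQ g hg]
    exact rf_mem_Rc hQ c _ (by rw [Q_act g hg, hv])
  | one => simp
  | mul x y _ _ hx hy =>
    have : g * (x * y) * g⁻¹ = (g * x * g⁻¹) * (g * y * g⁻¹) := by group
    rw [this]
    exact mul_mem hx hy
  | inv x _ hx =>
    have : g * x⁻¹ * g⁻¹ = (g * x * g⁻¹)⁻¹ := by group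
    rw [this]
    exact inv_mem hx

/-- the product of two reflections of norm `-c` lies in the group of the reflections of norm `c` -/
lemma rf_mul_rf_mem_Rc (hn : 5 ≤ Fintype.card ι) (c : ZMod 3) (hc : c ≠ 0) (x y : ι → ZMod 3)
    (hx : Q x = -c) (hy : Q y = -c) : rf hQ x * rf hQ y ∈ Rc hQ c := by
  have hx0 : Q x ≠ 0 := by rw [hx]; exact neg_ne_zero.2 hc
  obtain ⟨z, hz, hxz, hyz⟩ := exists_perp_two hQ hn x y hx0 (-c)
  obtain ⟨h1, h2, h3⟩ := rf_mul_rf_perp hQ x z c hc hx hz hxz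
  obtain ⟨h4, h5, h6⟩ := rf_mul_rf_perp hQ z y c hc hz hy (by rw [pol_comm]; exact hyz)
  have : rf hQ x * rf hQ y = (rf hQ x * rf hQ z) * (rf hQ z * rf hQ y) := by
    rw [mul_assoc, ← mul_assoc (rf hQ z), rf_mul_self, one_mul]
  rw [this, h3, h6]
  exact mul_mem (mul_mem (rf_mem_Rc hQ c _ h1) (rf_mem_Rc hQ c _ h2))
    (mul_mem (rf_mem_Rc hQ c _ h4) (rf_mem_Rc hQ c _ h5))

/-- every isometry lies in `Rc` or in its coset by a fixed reflection of norm `-c` -/
lemma mem_Rc_or (hn : 5 ≤ Fintype.card ι) (c : ZMod 3) (hc : c ≠ 0) (x₀ : ι → ZMod 3)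
    (hx₀ : Q x₀ = -c) (g : GL ι (ZMod 3)) (hg : g ∈ Cfsg.isometryGroup (ZMod 3) Q) :
    g ∈ Rc hQ c ∨ g * rf hQ x₀ ∈ Rc hQ c := by
  have hgen := iso_le_RR hQ (Or.inl (by rw [ZMod.card]; decide))
  have hgR : g ∈ RR hQ := hgen hg
  have ha : rf hQ x₀ ∈ Cfsg.isometryGroup (ZMod 3) Q := rf_mem hQ x₀
  have haa : rf hQ x₀ * rf hQ x₀ = 1 := rf_mul_self hQ x₀
  have hainv : (rf hQ x₀)⁻¹ = rf hQ x₀ := rf_inv hQ x₀
  -- conjugation by `a`
  have hconj : ∀ h ∈ Rc hQ c, rf hQ x₀ * h * rf hQ x₀ ∈ Rc hQ c := by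
    intro h hh
    have := Rc_conj hQ c _ ha h hh
    rwa [hainv] at this
  unfold RR at hgR
  induction hgR using Subgroup.closure_induction with
  | mem x hx =>
    obtain ⟨v, rfl⟩ := hx
    rcases z3_cases (Q v) with h | h | h
    · left
      rw [rf_of_not hQ v (by rw [h]; simp)]
      exact one_mem _
    · rcases z3_cases c with rfl | rfl | rfl
      · exact absurd rfl hc
      · left; exact rf_mem_Rc hQ _ v h
      · right; exact rf_mul_rf_mem_Rc hQ hn _ hc v x₀ (by rw [h]; simp) hx₀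
    · rcases z3_cases c with rfl | rfl | rfl
      · exact absurd rfl hc
      · right; exact rf_mul_rf_mem_Rc hQ hn _ hc v x₀ h hx₀
      · left; exact rf_mem_Rc hQ _ v h
  | one => left; exact one_mem _
  | mul x y hx' hy' hx hy =>
    have hxi : x ∈ Cfsg.isometryGroup (ZMod 3) Q := RR_le_iso hQ hx'
    have hyi : y ∈ Cfsg.isometryGroup (ZMod 3) Q := RR_le_iso hQ hy'
    rcases hx hxi with h1 | h1 <;> rcases hy hyi with h2 | h2
    · left; exact mul_mem h1 h2
    · right; rw [mul_assoc]; exact mul_mem h1 h2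
    · right
      have : x * y * rf hQ x₀ = (x * rf hQ x₀) * (rf hQ x₀ * y * rf hQ x₀) := by
        simp only [mul_assoc]
        rw [← mul_assoc (rf hQ x₀) (rf hQ x₀), haa, one_mul]
      rw [this]
      exact mul_mem h1 (hconj y h2)
    · left
      have : x * y = (x * rf hQ x₀) * (rf hQ x₀ * (y * rf hQ x₀) * rf hQ x₀) := by
        simp only [mul_assoc]
        rw [haa, mul_one, ← mul_assoc (rf hQ x₀) (rf hQ x₀), haa, one_mul]
      rw [this]
      exact mul_mem h1 (hconj _ h2)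
  | inv x hx' hx =>
    have hxi : x ∈ Cfsg.isometryGroup (ZMod 3) Q := RR_le_iso hQ hx'
    rcases hx hxi with h1 | h1
    · left; exact inv_mem h1
    · right
      have h2 := hconj _ (inv_mem h1)
      have : rf hQ x₀ * (x * rf hQ x₀)⁻¹ * rf hQ x₀ = x⁻¹ * rf hQ x₀ := by
        rw [_root_.mul_inv_rev, hainv, ← mul_assoc, haa, one_mul]
      rwa [this] at h2

/-- a reflection of norm `-c` does not lie in the group of the reflections of norm `c` -/
lemma rf_notMem_Rc (c : ZMod 3) (hc : c ≠ 0) (x₀ : ι → ZMod 3) (hx₀ : Q x₀ = -c) :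
    rf hQ x₀ ∉ Rc hQ c := by
  have hgen := iso_le_RR hQ (Or.inl (by rw [ZMod.card]; decide))
  have key : ∀ g ∈ Rc hQ c, g ∈ Cfsg.isometryGroup (ZMod 3) Q ∧ (spin Q g ↔ (par g ∨ c = -1)) := by
    intro g hg
    unfold Rc at hg
    induction hg using Subgroup.closure_induction with
    | mem x hx =>
      obtain ⟨v, hv, rfl⟩ := hx
      have hv0 : Q v ≠ 0 := by rw [hv]; exact hc
      refine ⟨rf_mem hQ v, ?_⟩
      have h0 := spin_rf hQ v hv0
      rw [hv] at h0
      exact prop_gen _ _ _ _ h0 (not_par_rf hQ v hv0) (z3_sq_neg c hc)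
    | one =>
      refine ⟨one_mem _, ?_⟩
      have h1 := spin_one (Q := Q)
      have h2 := par_one (ι := ι) (F := ZMod 3)
      exact ⟨fun _ => Or.inl h2, fun _ => h1⟩
    | mul x y _ _ hx hy =>
      refine ⟨mul_mem hx.1 hy.1, ?_⟩
      exact prop_mul _ _ _ _ _ _ _ (spin_mul_iff hQ hgen x y hx.1 hy.1)
        (par_mul_gen hQ hgen x y hx.1 hy.1) hx.2 hy.2
    | inv x _ hx =>
      refine ⟨inv_mem hx.1, ?_⟩
      have h1 := spin_mul_iff hQ hgen x x⁻¹ hx.1 (inv_mem hx.1)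
      have h2 := par_mul_gen hQ hgen x x⁻¹ hx.1 (inv_mem hx.1)
      rw [mul_inv_cancel] at h1 h2
      have h5 := spin_one (Q := Q)
      have h6 := par_one (ι := ι) (F := ZMod 3)
      exact prop_inv _ _ _ _ _ ⟨fun _ => h1.1 h5, fun _ => trivial⟩
        ⟨fun _ => h2.1 h6, fun _ => trivial⟩ hx.2
  intro hmem
  have h1 := (key _ hmem).2
  have hx0 : Q x₀ ≠ 0 := by rw [hx₀]; exact neg_ne_zero.2 hc
  have h0 := spin_rf hQ x₀ hx0
  rw [hx₀, neg_neg] at h0
  exact prop_not _ _ _ _ h1 h0 (not_par_rf hQ x₀ hx0) (z3_sq c hc)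

lemma mem_reflectionSubgroup_iff (c : ZMod 3) (hc : c ≠ 0)
    (b : ↥(Cfsg.isometryGroup (ZMod 3) Q)) :
    b ∈ Cfsg.reflectionSubgroup Q c ↔ (b : GL ι (ZMod 3)) ∈ Rc hQ c := by
  constructor
  · intro hb
    unfold Cfsg.reflectionSubgroup at hb
    induction hb using Subgroup.closure_induction with
    | mem x hx =>
      obtain ⟨v, hv, hm⟩ := hx
      have hv0 : Q v ≠ 0 := by rw [hv]; exact hc
      have : (x : GL ι (ZMod 3)) = rf hQ v := by
        apply Units.ext
        rw [← reflectionMatrix_eq_rf hQ v hv0]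
        exact hm
      rw [this]
      exact rf_mem_Rc hQ c v hv
    | one => exact one_mem _
    | mul x y _ _ hx hy => exact mul_mem hx hy
    | inv x _ hx => exact inv_mem hx
  · intro hb
    have hle : Rc hQ c ≤ (Cfsg.reflectionSubgroup Q c).map (Cfsg.isometryGroup (ZMod 3) Q).subtype := by
      unfold Rc
      rw [Subgroup.closure_le]
      rintro g ⟨v, hv, rfl⟩
      have hv0 : Q v ≠ 0 := by rw [hv]; exact hc
      refine ⟨R hQ v, ?_, rfl⟩
      apply Subgroup.subset_closure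
      exact ⟨v, hv, (reflectionMatrix_eq_rf hQ v hv0).symm⟩
    obtain ⟨b', hb', hbb⟩ := hle hb
    have : b' = b := Subtype.ext hbb
    rwa [← this]

/-- over the field with three elements the reflections of norm `c` generate a subgroup of index 2
of the isometry group, in dimension at least 5 -/
theorem reflectionSubgroup_index (hn : 5 ≤ Fintype.card ι) (c : ZMod 3) (hc : c ≠ 0) :
    (Cfsg.reflectionSubgroup Q c).index = 2 := by
  obtain ⟨x₀, -, hx₀⟩ := exists_perp_norm hQ hn 0 (-c)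
  rw [Subgroup.index_eq_two_iff]
  refine ⟨R hQ x₀, fun b => ?_⟩
  rw [mem_reflectionSubgroup_iff hQ c hc, mem_reflectionSubgroup_iff hQ c hc]
  have h1 : ((b * R hQ x₀ : ↥(Cfsg.isometryGroup (ZMod 3) Q)) : GL ι (ZMod 3)) =
      (b : GL ι (ZMod 3)) * rf hQ x₀ := rfl
  rw [h1]
  have h2 := mem_Rc_or hQ hn c hc x₀ hx₀ (b : GL ι (ZMod 3)) b.2
  have h3 := rf_notMem_Rc hQ c hc x₀ hx₀
  have h4 : (b : GL ι (ZMod 3)) ∈ Rc hQ c → (b : GL ι (ZMod 3)) * rf hQ x₀ ∈ Rc hQ c → False := by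
    intro h5 h6
    apply h3
    have := mul_mem (inv_mem h5) h6
    rwa [inv_mul_cancel_left] at this
  unfold Xor
  tauto

end Group

end Cfsg.Agent.H9.OReflF3
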