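import Mathlib

set_option autoImplicit false

universe u v

namespace Cfsg.Agent.H9.OTB

theorem ot_exists_equiv {G : Type u} {H : Type v} [Group G] [Finite G] [Group H] [Finite H]
    (hT : ∀ m : ℕ, Nat.card {g : G // orderOf g = m} = Nat.card {h : H // orderOf h = m}) :
    ∃ φ : G ≃ H, ∀ g : G, orderOf (φ g) = orderOf g := by
  classical
  have e : ∀ m : ℕ, Nonempty ({g : G // orderOf g = m} ≃ {h : H // orderOf h = m}) :=
    fun m => Finite.card_eq.mp (hT m)
  let ψ : ∀ m : ℕ, {g : G // orderOf g = m} ≃ {h : H // orderOf h = m} := fun m => (e m).some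
  refine ⟨((Equiv.sigmaFiberEquiv (orderOf : G → ℕ)).symm.trans
      (Equiv.sigmaCongrRight ψ)).trans (Equiv.sigmaFiberEquiv (orderOf : H → ℕ)), ?_⟩
  intro g
  simp only [Equiv.trans_apply]
  have h1 : ((Equiv.sigmaFiberEquiv (orderOf : G → ℕ)).symm g) = ⟨orderOf g, ⟨g, rfl⟩⟩ := rfl
  rw [h1]
  simp only [Equiv.sigmaCongrRight_apply]
  exact ((ψ (orderOf g)) ⟨g, rfl⟩).2

end Cfsg.Agent.H9.OTB
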