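import Mathlib
import Cfsg.Agent.H9.InvBlocks

set_option autoImplicit false

/-!
Alternating forms and isometries `x` with `x² = z`: a hyperbolic family (pairwise orthogonal hyperbolic pairs)
adapted to `x`, spanning a given nondegenerate `x`-invariant subspace.
-/

namespace Cfsg.Agent.H9.SympInv

variable {F : Type*} [Field F] {V : Type*} [AddCommGroup V] [Module F V]
  (B : LinearMap.BilinForm F V)

/-- A hyperbolic family: pairs `(e i 0, e i 1)` with `B (e i 0) (e i 1) ≠ 0`, different pairs orthogonal. -/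
structure IsHyp {ι : Type*} (e : ι → Fin 2 → V) : Prop where
  g1 : ∀ i, B (e i 0) (e i 1) ≠ 0
  g2 : ∀ i j, i ≠ j → ∀ k l, B (e i k) (e j l) = 0

/-- The vectors right-orthogonal to a family. -/
def perp {ι : Type*} (e : ι → Fin 2 → V) : Submodule F V where
  carrier := {u | ∀ i k, B u (e i k) = 0}
  add_mem' := by
    intro a b ha hb i k
    rw [map_add, LinearMap.add_apply, ha i k, hb i k, add_zero]
  zero_mem' := by
    intro i k
    rw [map_zero, LinearMap.zero_apply]
  smul_mem' := by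
    intro c a ha i k
    rw [map_smul, LinearMap.smul_apply, ha i k, smul_zero]

theorem mem_perp {ι : Type*} (e : ι → Fin 2 → V) (u : V) : u ∈ perp B e ↔ ∀ i k, B u (e i k) = 0 := Iff.rfl

variable (F) in
/-- The span of a family (uncurried). -/
def spn {ι : Type*} (e : ι → Fin 2 → V) : Submodule F V :=
  Submodule.span F (Set.range fun p : ι × Fin 2 => e p.1 p.2)

theorem mem_spn {ι : Type*} (e : ι → Fin 2 → V) (i : ι) (k : Fin 2) : e i k ∈ spn F e :=
  Submodule.subset_span ⟨(i, k), rfl⟩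

variable {B}

theorem skew (halt : ∀ v, B v v = 0) (u v : V) : B u v = - B v u := by
  have h := halt (u + v)
  simp only [map_add, LinearMap.add_apply, halt, zero_add, add_zero] at h
  exact eq_neg_of_add_eq_zero_right h

/-- Right-orthogonality to the family extends to its span. -/
theorem perp_spn {ι : Type*} (e : ι → Fin 2 → V) {u w : V} (hu : u ∈ perp B e) (hw : w ∈ spn F e) : B u w = 0 := by
  induction hw using Submodule.span_induction with
  | mem w hw => obtain ⟨⟨i, k⟩, rfl⟩ := hw; exact hu i k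
  | zero => rw [map_zero]
  | add a b _ _ ha hb => rw [map_add, ha, hb, add_zero]
  | smul c a _ ha => rw [map_smul, ha, smul_zero]

/-- The projection onto the span of a finite hyperbolic family. -/
noncomputable def proj {ι : Type*} [Fintype ι] (B : LinearMap.BilinForm F V) (e : ι → Fin 2 → V) (u : V) : V :=
  ∑ i, ((B u (e i 1) / B (e i 0) (e i 1)) • e i 0 - (B u (e i 0) / B (e i 0) (e i 1)) • e i 1)

theorem proj_mem {ι : Type*} [Fintype ι] (e : ι → Fin 2 → V) (u : V) : proj B e u ∈ spn F e := by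
  unfold proj
  apply Submodule.sum_mem
  intro i _
  exact Submodule.sub_mem _ (Submodule.smul_mem _ _ (mem_spn e i 0)) (Submodule.smul_mem _ _ (mem_spn e i 1))

theorem sub_proj_mem {ι : Type*} [Fintype ι] [DecidableEq ι] (halt : ∀ v, B v v = 0) (e : ι → Fin 2 → V)
    (he : IsHyp B e) (u : V) : u - proj B e u ∈ perp B e := by
  intro j l
  rw [map_sub, LinearMap.sub_apply, sub_eq_zero]
  unfold proj
  rw [map_sum, LinearMap.sum_apply]
  rw [Finset.sum_eq_single j]
  · rw [map_sub, LinearMap.sub_apply, map_smul, map_smul, LinearMap.smul_apply, LinearMap.smul_apply]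
    fin_cases l
    · simp only [Fin.zero_eta, Fin.isValue, halt, smul_eq_mul]
      rw [skew halt (e j 1) (e j 0)]
      have := he.g1 j
      field_simp
      ring
    · simp only [Fin.mk_one, Fin.isValue, halt, smul_eq_mul]
      have := he.g1 j
      field_simp
      ring
  · intro i _ hij
    rw [map_sub, LinearMap.sub_apply, map_smul, map_smul, LinearMap.smul_apply, LinearMap.smul_apply,
      he.g2 i j hij, he.g2 i j hij, smul_zero, smul_zero, sub_zero]
  · intro h; exact absurd (Finset.mem_univ j) h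

section consequences

/-- The other index of a pair. -/
def mate (k : Fin 2) : Fin 2 := ![1, 0] k

theorem isHyp_mate (halt : ∀ v, B v v = 0) {ι : Type*} {e : ι → Fin 2 → V} (he : IsHyp B e) (i : ι)
    (k : Fin 2) : B (e i k) (e i (mate k)) ≠ 0 := by
  fin_cases k
  · exact he.g1 i
  · change B (e i 1) (e i 0) ≠ 0
    rw [skew halt, neg_ne_zero]; exact he.g1 i

theorem pair_sum (halt : ∀ v, B v v = 0) {ι : Type*} [Fintype ι] {e : ι → Fin 2 → V} (he : IsHyp B e)
    (c : ι × Fin 2 → F) (i : ι) (k : Fin 2) :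
    B (∑ p, c p • e p.1 p.2) (e i (mate k)) = c (i, k) * B (e i k) (e i (mate k)) := by
  rw [map_sum, LinearMap.sum_apply, Finset.sum_eq_single (i, k)]
  · rw [map_smul, LinearMap.smul_apply, smul_eq_mul]
  · rintro ⟨j, l⟩ _ hne
    rw [map_smul, LinearMap.smul_apply, smul_eq_mul]
    by_cases hji : j = i
    · subst hji
      have hl : l = mate k := by
        fin_cases l <;> fin_cases k <;> first | rfl | exact absurd rfl hne
      rw [hl, halt, mul_zero]
    · rw [he.g2 j i hji, mul_zero]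
  · intro h; exact absurd (Finset.mem_univ _) h

theorem linearIndependent_of_isHyp (halt : ∀ v, B v v = 0) {ι : Type*} [Fintype ι] {e : ι → Fin 2 → V}
    (he : IsHyp B e) : LinearIndependent F (fun p : ι × Fin 2 => e p.1 p.2) := by
  rw [Fintype.linearIndependent_iff]
  rintro c hc ⟨i, k⟩
  have h := pair_sum halt he c i k
  rw [hc, map_zero, LinearMap.zero_apply] at h
  exact (mul_eq_zero.1 h.symm).resolve_right (isHyp_mate halt he i k)

theorem nondegenerate_spn (halt : ∀ v, B v v = 0) {ι : Type*} [Fintype ι] {e : ι → Fin 2 → V}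
    (he : IsHyp B e) (u : V) (hu : u ∈ spn F e) (hu0 : u ≠ 0) : ∃ v ∈ spn F e, B u v ≠ 0 := by
  obtain ⟨c, rfl⟩ := (Submodule.mem_span_range_iff_exists_fun F).1 hu
  by_contra hcon
  push Not at hcon
  apply hu0
  have : c = 0 := by
    funext ⟨i, k⟩
    have h := pair_sum halt he c i k
    rw [hcon _ (mem_spn e i (mate k))] at h
    exact (mul_eq_zero.1 h.symm).resolve_right (isHyp_mate halt he i k)
  rw [this]
  simp

theorem finrank_spn (halt : ∀ v, B v v = 0) {ι : Type*} [Fintype ι] {e : ι → Fin 2 → V}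
    (he : IsHyp B e) : Module.finrank F (spn F e) = 2 * Fintype.card ι := by
  unfold spn
  rw [finrank_span_eq_card (linearIndependent_of_isHyp halt he), Fintype.card_prod, Fintype.card_fin, mul_comm]

/-- Orthogonality of the spans of two families with vanishing cross products. -/
theorem spn_orth {ι ι' : Type*} {e : ι → Fin 2 → V} {e' : ι' → Fin 2 → V}
    (h : ∀ i k j l, B (e i k) (e' j l) = 0) {u v : V} (hu : u ∈ spn F e) (hv : v ∈ spn F e') : B u v = 0 := by
  have hle : spn F e ≤ perp B e' := by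
    apply Submodule.span_le.2
    rintro _ ⟨⟨i, k⟩, rfl⟩
    exact fun j l => h i k j l
  exact perp_spn e' (hle hu) hv

theorem isHyp_comp {ι ι' : Type*} {e : ι → Fin 2 → V} (he : IsHyp B e) (f : ι' → ι) (hf : Function.Injective f) :
    IsHyp B (fun i => e (f i)) :=
  ⟨fun i => he.g1 (f i), fun i j hij k l => he.g2 (f i) (f j) (fun h => hij (hf h)) k l⟩

end consequences

section adapted

variable (x : V →ₗ[F] V) (z : F)

/-- The three possible shapes of the action of `x` on the `i`-th hyperbolic pair. -/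
def TypeCond (sw : Bool) {ι : Type*} (e : ι → Fin 2 → V) (τ : ι → ι) (i : ι) : Prop :=
  (τ i = i ∧ x (e i 0) = e i 1 ∧ x (e i 1) = z • e i 0) ∨
  (τ i = i ∧ ∃ μ : F, x (e i 0) = μ • e i 0 ∧ x (e i 1) = μ • e i 1) ∨
  (τ i ≠ i ∧ ∃ c₀ c₁ : F, c₀ ≠ 0 ∧ c₁ ≠ 0 ∧ x (e i 0) = c₀ • e (τ i) (if sw then 1 else 0) ∧
    x (e i 1) = c₁ • e (τ i) (if sw then 0 else 1))

theorem typeCond_monomial {sw : Bool} {ι : Type*} {e : ι → Fin 2 → V} {τ : ι → ι} {i : ι}
    (h : TypeCond x z sw e τ i) (k : Fin 2) : ∃ (c : F) (l : Fin 2), x (e i k) = c • e (τ i) l := by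
  rcases h with ⟨h1, h2, h3⟩ | ⟨h1, μ, h2, h3⟩ | ⟨_, c₀, c₁, _, _, h2, h3⟩
  · fin_cases k
    · exact ⟨1, 1, by rw [h1, one_smul]; exact h2⟩
    · exact ⟨z, 0, by rw [h1]; exact h3⟩
  · fin_cases k
    · exact ⟨μ, 0, by rw [h1]; exact h2⟩
    · exact ⟨μ, 1, by rw [h1]; exact h3⟩
  · fin_cases k
    · exact ⟨c₀, _, h2⟩
    · exact ⟨c₁, _, h3⟩

variable {x z}

theorem perp_good (halt : ∀ v, B v v = 0) (hz : z ≠ 0) (hxB : ∀ u v, B (x u) (x v) = B u v)
    (hx : ∀ v, x (x v) = z • v) (U : Submodule F V) (hUinv : ∀ u ∈ U, x u ∈ U)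
    (hUnd : ∀ u ∈ U, u ≠ 0 → ∃ v ∈ U, B u v ≠ 0) {ι₀ : Type*} [Fintype ι₀] [DecidableEq ι₀]
    (e₀ : ι₀ → Fin 2 → V) (he₀ : IsHyp B e₀) (he₀U : ∀ i k, e₀ i k ∈ U)
    (he₀x : ∀ i k, x (e₀ i k) ∈ spn F e₀) :
    (∀ u ∈ U ⊓ perp B e₀, x u ∈ U ⊓ perp B e₀) ∧
      (∀ u ∈ U ⊓ perp B e₀, u ≠ 0 → ∃ v ∈ U ⊓ perp B e₀, B u v ≠ 0) ∧
      spn F e₀ ⊔ (U ⊓ perp B e₀) = U := by
  have hspnU : spn F e₀ ≤ U := by
    apply Submodule.span_le.2
    rintro _ ⟨⟨i, k⟩, rfl⟩
    exact he₀U i k
  refine ⟨?_, ?_, ?_⟩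
  · intro u hu
    obtain ⟨huU, hup⟩ := Submodule.mem_inf.1 hu
    refine Submodule.mem_inf.2 ⟨hUinv u huU, ?_⟩
    intro i k
    have h1 : B (x u) (x (x (e₀ i k))) = B u (x (e₀ i k)) := hxB _ _
    rw [hx, map_smul, perp_spn e₀ hup (he₀x i k)] at h1
    exact (smul_eq_zero.1 h1).resolve_left hz
  · intro u hu hu0
    obtain ⟨huU, hup⟩ := Submodule.mem_inf.1 hu
    obtain ⟨y, hyU, hy⟩ := hUnd u huU hu0
    refine ⟨y - proj B e₀ y, Submodule.mem_inf.2 ⟨Submodule.sub_mem _ hyU (hspnU (proj_mem e₀ y)),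
      sub_proj_mem halt e₀ he₀ y⟩, ?_⟩
    rw [map_sub, perp_spn e₀ hup (proj_mem e₀ y), sub_zero]
    exact hy
  · apply le_antisymm
    · exact sup_le hspnU inf_le_left
    · intro u hu
      have : u = proj B e₀ u + (u - proj B e₀ u) := by abel
      rw [this]
      exact Submodule.add_mem_sup (proj_mem e₀ u)
        (Submodule.mem_inf.2 ⟨Submodule.sub_mem _ hu (hspnU (proj_mem e₀ u)), sub_proj_mem halt e₀ he₀ u⟩)

theorem perp_lt (U : Submodule F V) {ι₀ : Type*} [Nonempty ι₀] (e₀ : ι₀ → Fin 2 → V) (he₀ : IsHyp B e₀)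
    (he₀U : ∀ i k, e₀ i k ∈ U) : U ⊓ perp B e₀ < U := by
  refine lt_of_le_of_ne inf_le_left ?_
  intro h
  obtain ⟨i⟩ := ‹Nonempty ι₀›
  have : e₀ i 0 ∈ U ⊓ perp B e₀ := by rw [h]; exact he₀U i 0
  exact he₀.g1 i ((Submodule.mem_inf.1 this).2 i 1)

theorem combine (halt : ∀ v, B v v = 0) (sw : Bool) {ι₀ ι' : Type*} (e₀ : ι₀ → Fin 2 → V)
    (e' : ι' → Fin 2 → V) (τ₀ : ι₀ → ι₀) (τ' : ι' → ι') (hτ₀ : Function.Involutive τ₀)
    (hτ' : Function.Involutive τ') (he₀ : IsHyp B e₀) (he' : IsHyp B e')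
    (hperp : ∀ i k, e' i k ∈ perp B e₀) (ht₀ : ∀ i, TypeCond x z sw e₀ τ₀ i)
    (ht' : ∀ i, TypeCond x z sw e' τ' i) :
    Function.Involutive (Sum.map τ₀ τ') ∧ IsHyp B (Sum.elim e₀ e') ∧
      spn F (Sum.elim e₀ e') = spn F e₀ ⊔ spn F e' ∧
      ∀ i, TypeCond x z sw (Sum.elim e₀ e') (Sum.map τ₀ τ') i := by
  refine ⟨?_, ⟨?_, ?_⟩, ?_, ?_⟩
  · rintro (i | i)
    · simp [hτ₀ i]
    · simp [hτ' i]
  · rintro (i | i)
    · exact he₀.g1 i
    · exact he'.g1 i
  · rintro (i | i) (j | j) hij k l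
    · exact he₀.g2 i j (fun h => hij (by rw [h])) k l
    · simp only [Sum.elim_inl, Sum.elim_inr]
      rw [skew halt, hperp j l i k, neg_zero]
    · exact hperp i k j l
    · exact he'.g2 i j (fun h => hij (by rw [h])) k l
  · apply le_antisymm
    · apply Submodule.span_le.2
      rintro _ ⟨⟨i | i, k⟩, rfl⟩
      · exact Submodule.mem_sup_left (mem_spn e₀ i k)
      · exact Submodule.mem_sup_right (mem_spn e' i k)
    · apply sup_le
      · apply Submodule.span_le.2
        rintro _ ⟨⟨i, k⟩, rfl⟩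
        exact mem_spn (Sum.elim e₀ e') (Sum.inl i) k
      · apply Submodule.span_le.2
        rintro _ ⟨⟨i, k⟩, rfl⟩
        exact mem_spn (Sum.elim e₀ e') (Sum.inr i) k
  · rintro (i | i)
    · rcases ht₀ i with ⟨h1, h2, h3⟩ | ⟨h1, μ, h2, h3⟩ | ⟨h1, c₀, c₁, hc₀, hc₁, h2, h3⟩
      · exact Or.inl ⟨by simp [h1], h2, h3⟩
      · exact Or.inr (Or.inl ⟨by simp [h1], μ, h2, h3⟩)
      · exact Or.inr (Or.inr ⟨by simpa using h1, c₀, c₁, hc₀, hc₁, h2, h3⟩)
    · rcases ht' i with ⟨h1, h2, h3⟩ | ⟨h1, μ, h2, h3⟩ | ⟨h1, c₀, c₁, hc₀, hc₁, h2, h3⟩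
      · exact Or.inl ⟨by simp [h1], h2, h3⟩
      · exact Or.inr (Or.inl ⟨by simp [h1], μ, h2, h3⟩)
      · exact Or.inr (Or.inr ⟨by simpa using h1, c₀, c₁, hc₀, hc₁, h2, h3⟩)

variable (B x z) in
/-- `U` is spanned by a finite hyperbolic family adapted to `x`. -/
def Adapted (sw : Bool) (U : Submodule F V) : Prop :=
  ∃ (ι : Type) (_ : Fintype ι) (_ : DecidableEq ι) (e : ι → Fin 2 → V) (τ : ι → ι),
    Function.Involutive τ ∧ IsHyp B e ∧ spn F e = U ∧ ∀ i, TypeCond x z sw e τ i

theorem step [FiniteDimensional F V] (halt : ∀ v, B v v = 0) (hz : z ≠ 0)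
    (hxB : ∀ u v, B (x u) (x v) = B u v) (hx : ∀ v, x (x v) = z • v) (sw : Bool) (n : ℕ)
    (ih : ∀ m < n, ∀ U' : Submodule F V, (∀ u ∈ U', x u ∈ U') → (∀ u ∈ U', u ≠ 0 → ∃ v ∈ U', B u v ≠ 0) →
      Module.finrank F U' = m → Adapted B x z sw U')
    (U : Submodule F V) (hUinv : ∀ u ∈ U, x u ∈ U)
    (hUnd : ∀ u ∈ U, u ≠ 0 → ∃ v ∈ U, B u v ≠ 0) (hn : Module.finrank F U = n)
    {ι₀ : Type} [Fintype ι₀] [DecidableEq ι₀] [Nonempty ι₀]
    (e₀ : ι₀ → Fin 2 → V) (τ₀ : ι₀ → ι₀) (hτ₀ : Function.Involutive τ₀) (he₀ : IsHyp B e₀)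
    (he₀U : ∀ i k, e₀ i k ∈ U) (ht₀ : ∀ i, TypeCond x z sw e₀ τ₀ i) : Adapted B x z sw U := by
  have he₀x : ∀ i k, x (e₀ i k) ∈ spn F e₀ := by
    intro i k
    obtain ⟨c, l, h⟩ := typeCond_monomial x z (ht₀ i) k
    rw [h]
    exact Submodule.smul_mem _ _ (mem_spn e₀ _ _)
  obtain ⟨h1, h2, h3⟩ := perp_good halt hz hxB hx U hUinv hUnd e₀ he₀ he₀U he₀x
  have hlt : Module.finrank F ↥(U ⊓ perp B e₀) < n := by
    rw [← hn]
    exact Submodule.finrank_lt_finrank_of_lt (perp_lt U e₀ he₀ he₀U)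
  obtain ⟨ι', _, _, e', τ', hτ', he', hspn', ht'⟩ := ih _ hlt _ h1 h2 rfl
  have hperp : ∀ i k, e' i k ∈ perp B e₀ := by
    intro i k
    have : e' i k ∈ U ⊓ perp B e₀ := by rw [← hspn']; exact mem_spn e' i k
    exact (Submodule.mem_inf.1 this).2
  obtain ⟨c1, c2, c3, c4⟩ := combine (x := x) (z := z) halt sw e₀ e' τ₀ τ' hτ₀ hτ' he₀ he' hperp ht₀ ht'
  refine ⟨ι₀ ⊕ ι', inferInstance, inferInstance, Sum.elim e₀ e', Sum.map τ₀ τ', c1, c2, ?_, c4⟩
  rw [c3, hspn', h3]

theorem exists_adapted [FiniteDimensional F V] (halt : ∀ v, B v v = 0) (hz : z ≠ 0)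
    (hxB : ∀ u v, B (x u) (x v) = B u v) (hx : ∀ v, x (x v) = z • v) (sw : Bool) :
    ∀ (n : ℕ) (U : Submodule F V), (∀ u ∈ U, x u ∈ U) → (∀ u ∈ U, u ≠ 0 → ∃ v ∈ U, B u v ≠ 0) →
      Module.finrank F U = n → Adapted B x z sw U := by
  intro n
  induction n using Nat.strong_induction_on with
  | _ n ih =>
    intro U hUinv hUnd hn
    by_cases hU : U = ⊥
    · subst hU
      refine ⟨Empty, inferInstance, inferInstance, fun i => i.elim, id, fun _ => rfl,
        ⟨fun i => i.elim, fun i => i.elim⟩, ?_, fun i => i.elim⟩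
      unfold spn
      rw [Submodule.span_eq_bot]
      rintro _ ⟨⟨i, _⟩, _⟩
      exact i.elim
    by_cases hA : ∃ v ∈ U, B v (x v) ≠ 0
    · -- an invariant hyperbolic plane `⟨v, x v⟩`
      obtain ⟨v, hvU, hv⟩ := hA
      refine step halt hz hxB hx sw n ih U hUinv hUnd hn (ι₀ := Unit) (fun _ => ![v, x v]) id
        (fun _ => rfl) ⟨fun _ => by simpa using hv, fun i j hij => absurd (Subsingleton.elim i j) hij⟩ ?_ ?_
      · intro _ k
        fin_cases k
        · simpa using hvU
        · simpa using hUinv v hvU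
      · intro _
        exact Or.inl ⟨rfl, by simp, by simp [hx]⟩
    push Not at hA
    by_cases hB : ∃ v ∈ U, x v ∉ Submodule.span F {v}
    · -- two hyperbolic planes swapped by `x`
      obtain ⟨v, hvU, hv⟩ := hB
      have hv0 : v ≠ 0 := by
        rintro rfl
        apply hv
        rw [map_zero]; exact Submodule.zero_mem _
      have hxv0 : x v ≠ 0 := fun h => hv (by rw [h]; exact Submodule.zero_mem _)
      have hxvU : x v ∈ U := hUinv v hvU
      obtain ⟨w₁, hw₁U, hw₁⟩ := hUnd (x v) hxvU hxv0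
      set lam : F := B v w₁ / B (x v) w₁ with hlam
      have hne : v - lam • x v ≠ 0 := by
        intro h
        rw [sub_eq_zero] at h
        by_cases hl : lam = 0
        · rw [hl, zero_smul] at h; exact hv0 h
        · apply hv
          rw [Submodule.mem_span_singleton]
          refine ⟨lam⁻¹, ?_⟩
          conv_lhs => rw [h]
          rw [smul_smul, inv_mul_cancel₀ hl, one_smul]
      obtain ⟨w₂, hw₂U, hw₂⟩ := hUnd (v - lam • x v) (Submodule.sub_mem _ hvU (Submodule.smul_mem _ _ hxvU)) hne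
      set w : V := w₂ - (B (x v) w₂ / B (x v) w₁) • w₁ with hw
      have hwU : w ∈ U := Submodule.sub_mem _ hw₂U (Submodule.smul_mem _ _ hw₁U)
      have hxvw : B (x v) w = 0 := by
        rw [hw, map_sub, map_smul, smul_eq_mul, div_mul_cancel₀ _ hw₁, sub_self]
      have hvw : B v w ≠ 0 := by
        have : B v w = B (v - lam • x v) w₂ := by
          rw [hw, map_sub, map_smul, smul_eq_mul, map_sub, LinearMap.sub_apply, map_smul,
            LinearMap.smul_apply, smul_eq_mul, hlam]
          field_simp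
        rw [this]; exact hw₂
      have hxwU : x w ∈ U := hUinv w hwU
      -- the four cross products vanish
      have c1 : B v (x v) = 0 := hA v hvU
      have c2 : B w (x w) = 0 := hA w hwU
      have c3 : B w (x v) = 0 := by rw [skew halt, hxvw, neg_zero]
      have c4 : B v (x w) = 0 := by
        have h : B (x v) (x (x w)) = B v (x w) := hxB _ _
        rw [hx, map_smul, hxvw, smul_zero] at h
        exact h.symm
      have c1' : B (x v) v = 0 := by rw [skew halt, c1, neg_zero]
      have c2' : B (x w) w = 0 := by rw [skew halt, c2, neg_zero]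
      have c4' : B (x w) v = 0 := by rw [skew halt, c4, neg_zero]
      have hwv : B w v ≠ 0 := by rw [skew halt, neg_ne_zero]; exact hvw
      cases sw with
      | false =>
        refine step halt hz hxB hx false n ih U hUinv hUnd hn (ι₀ := Bool)
          (fun b => if b then ![x v, x w] else ![v, w]) not Bool.not_not ⟨?_, ?_⟩ ?_ ?_
        · intro b
          cases b
          · simpa using hvw
          · simpa [hxB] using hvw
        · intro i j hij k l
          cases i <;> cases j <;> fin_cases k <;> fin_cases l <;>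
            first | exact absurd rfl hij | simp [c1, c2, c3, c4, c1', c2', c4', hxvw]
        · intro b k
          cases b <;> fin_cases k <;> simp [hvU, hwU, hxvU, hxwU]
        · intro b
          cases b
          · exact Or.inr (Or.inr ⟨by simp, 1, 1, one_ne_zero, one_ne_zero, by simp, by simp⟩)
          · exact Or.inr (Or.inr ⟨by simp, z, z, hz, hz, by simp [hx], by simp [hx]⟩)
      | true =>
        refine step halt hz hxB hx true n ih U hUinv hUnd hn (ι₀ := Bool)
          (fun b => if b then ![x w, x v] else ![v, w]) not Bool.not_not ⟨?_, ?_⟩ ?_ ?_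
        · intro b
          cases b
          · simpa using hvw
          · simpa [hxB] using hwv
        · intro i j hij k l
          cases i <;> cases j <;> fin_cases k <;> fin_cases l <;>
            first | exact absurd rfl hij | simp [c1, c2, c3, c4, c1', c2', c4', hxvw]
        · intro b k
          cases b <;> fin_cases k <;> simp [hvU, hwU, hxvU, hxwU]
        · intro b
          cases b
          · exact Or.inr (Or.inr ⟨by simp, 1, 1, one_ne_zero, one_ne_zero, by simp, by simp⟩)
          · exact Or.inr (Or.inr ⟨by simp, z, z, hz, hz, by simp [hx], by simp [hx]⟩)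
    · -- `x` acts as a scalar on every line of `U`
      push Not at hB
      obtain ⟨v, hvU, hv0⟩ := Submodule.exists_mem_ne_zero_of_ne_bot hU
      obtain ⟨w, hwU, hvw⟩ := hUnd v hvU hv0
      obtain ⟨μ, hμ⟩ := Submodule.mem_span_singleton.1 (hB v hvU)
      obtain ⟨μ', hμ'⟩ := Submodule.mem_span_singleton.1 (hB w hwU)
      obtain ⟨ν, hν⟩ := Submodule.mem_span_singleton.1 (hB (v + w) (Submodule.add_mem _ hvU hwU))
      rw [map_add, ← hμ, ← hμ', smul_add] at hν
      have e1 : ν = μ := by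
        have := congrArg (fun u => B u w) hν
        simp only [map_add, LinearMap.add_apply, map_smul, LinearMap.smul_apply, halt, mul_zero, add_zero,
          smul_eq_mul] at this
        exact mul_right_cancel₀ hvw this
      have e2 : ν = μ' := by
        have := congrArg (fun u => B v u) hν
        simp only [map_add, map_smul, halt, mul_zero, zero_add, smul_eq_mul] at this
        exact mul_right_cancel₀ hvw this
      refine step halt hz hxB hx sw n ih U hUinv hUnd hn (ι₀ := Unit) (fun _ => ![v, w]) id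
        (fun _ => rfl) ⟨fun _ => by simpa using hvw, fun i j hij => absurd (Subsingleton.elim i j) hij⟩ ?_ ?_
      · intro _ k
        fin_cases k
        · simpa using hvU
        · simpa using hwU
      · intro _
        refine Or.inr (Or.inl ⟨rfl, μ, by simpa using hμ.symm, ?_⟩)
        rw [← e1, e2]
        simpa using hμ'.symm

/-- An isometry `x` with `x² = z` of a nondegenerate alternating space of dimension `2 a t` permutes the members of
an orthogonal decomposition into `t` nondegenerate subspaces of dimension `2 a`. -/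
theorem exists_orth_decomposition [FiniteDimensional F V] (halt : ∀ v, B v v = 0) (hz : z ≠ 0)
    (hxB : ∀ u v, B (x u) (x v) = B u v) (hx : ∀ v, x (x v) = z • v)
    (hnd : ∀ u : V, u ≠ 0 → ∃ v, B u v ≠ 0) (a t : ℕ) (ha : 1 ≤ a)
    (hdim : Module.finrank F V = 2 * (a * t)) :
    ∃ D : Fin t → Submodule F V, (∀ j, Module.finrank F (D j) = 2 * a) ∧ iSupIndep D ∧ iSup D = ⊤ ∧
      (∀ j, ∀ u ∈ D j, u ≠ 0 → ∃ v ∈ D j, B u v ≠ 0) ∧
      (∀ j j', j ≠ j' → ∀ u ∈ D j, ∀ v ∈ D j', B u v = 0) ∧
      ∃ σ : Equiv.Perm (Fin t), ∀ j, (D j).map x = D (σ j) := by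
  classical
  obtain ⟨ι, _, _, e, τ, hτ, he, hspn, ht⟩ := exists_adapted halt hz hxB hx false _ (⊤ : Submodule F V)
    (fun _ _ => Submodule.mem_top) (fun u _ hu => by obtain ⟨v, hv⟩ := hnd u hu; exact ⟨v, Submodule.mem_top, hv⟩)
    rfl
  have hcard : Fintype.card ι = a * t := by
    have h := finrank_spn halt he
    rw [hspn, finrank_top, hdim] at h
    omega
  obtain ⟨blk, s, h1, h2, h3⟩ := Cfsg.Agent.H9.inv_blocks τ hτ a ha t Finset.univ (by simp)
    (by simpa using hcard)
  have h1 : ∀ i, blk i < t := fun i => h1 i (Finset.mem_univ i)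
  have h3 : ∀ i, blk (τ i) = s (blk i) := fun i => h3 i (Finset.mem_univ i)
  have hrep : ∀ j < t, ∃ i, blk i = j := by
    intro j hj
    have hpos : 0 < (Finset.univ.filter (fun i => blk i = j)).card := by rw [h2 j hj]; exact ha
    obtain ⟨i, hi⟩ := Finset.card_pos.1 hpos
    exact ⟨i, (Finset.mem_filter.1 hi).2⟩
  have hs : ∀ j < t, s j < t := by
    intro j hj
    obtain ⟨i, rfl⟩ := hrep j hj
    rw [← h3]; exact h1 _
  have hss : ∀ j < t, s (s j) = j := by
    intro j hj
    obtain ⟨i, rfl⟩ := hrep j hj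
    rw [← h3, ← h3, hτ i]
  let ej : ∀ j : Fin t, {i // blk i = (j : ℕ)} → Fin 2 → V := fun j i => e i
  have hej : ∀ j, IsHyp B (ej j) := fun j => isHyp_comp he _ Subtype.val_injective
  let D : Fin t → Submodule F V := fun j => spn F (ej j)
  have hmemD : ∀ (j : Fin t) (i : ι) (k : Fin 2), blk i = (j : ℕ) → e i k ∈ D j := by
    intro j i k hi
    exact mem_spn (ej j) ⟨i, hi⟩ k
  have horth : ∀ j j' : Fin t, j ≠ j' → ∀ u ∈ D j, ∀ v ∈ D j', B u v = 0 := by
    intro j j' hjj' u hu v hv
    refine spn_orth ?_ hu hv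
    rintro ⟨i, hi⟩ k ⟨i', hi'⟩ l
    apply he.g2
    rintro rfl
    exact hjj' (Fin.ext (hi.symm.trans hi'))
  let σf : Fin t → Fin t := fun j => ⟨s j, hs j j.2⟩
  have hσf : Function.Involutive σf := by
    intro j
    apply Fin.ext
    exact hss j j.2
  have hmap_le : ∀ j : Fin t, (D j).map x ≤ D (σf j) := by
    intro j
    rw [Submodule.map_le_iff_le_comap]
    apply Submodule.span_le.2
    rintro _ ⟨⟨⟨i, hi⟩, k⟩, rfl⟩
    obtain ⟨c, l, hcl⟩ := typeCond_monomial x z (ht i) k
    simp only [Submodule.comap_coe, Set.mem_preimage, SetLike.mem_coe]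
    change x (e i k) ∈ D (σf j)
    rw [hcl]
    apply Submodule.smul_mem
    apply hmemD
    rw [h3, hi]
  refine ⟨D, ?_, ?_, ?_, ?_, horth, hσf.toPerm, ?_⟩
  · intro j
    rw [finrank_spn halt (hej j), Fintype.card_subtype, h2 j j.2]
  · intro j
    rw [Submodule.disjoint_def]
    intro u hu hu'
    by_contra hu0
    obtain ⟨v, hv, huv⟩ := nondegenerate_spn halt (hej j) u hu hu0
    apply huv
    have hle : (⨆ k, ⨆ (_ : k ≠ j), D k) ≤ perp B (ej j) := by
      apply iSup₂_le
      intro k hk u hu i l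
      exact horth k j hk u hu _ (mem_spn (ej j) i l)
    exact perp_spn (ej j) (hle hu') hv
  · rw [eq_top_iff, ← hspn]
    apply Submodule.span_le.2
    rintro _ ⟨⟨i, k⟩, rfl⟩
    exact Submodule.mem_iSup_of_mem ⟨blk i, h1 i⟩ (hmemD ⟨blk i, h1 i⟩ i k rfl)
  · intro j
    exact nondegenerate_spn halt (hej j)
  · intro j
    apply le_antisymm (hmap_le j)
    intro u hu
    have h' : x u ∈ D j := by
      have := hmap_le (σf j) (Submodule.mem_map_of_mem hu)
      rwa [hσf j] at this
    have hu' : u = x (z⁻¹ • x u) := by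
      rw [map_smul, hx, smul_smul, inv_mul_cancel₀ hz, one_smul]
    rw [hu']
    exact Submodule.mem_map_of_mem (Submodule.smul_mem _ _ h')

omit [Module F V] in
theorem span_isotropic' [Module F V] {B : LinearMap.BilinForm F V} {s : Set V} (h : ∀ a ∈ s, ∀ b ∈ s, B a b = 0) :
    ∀ u ∈ Submodule.span F s, ∀ v ∈ Submodule.span F s, B u v = 0 := by
  intro u hu v hv
  induction hu using Submodule.span_induction with
  | mem a ha =>
    induction hv using Submodule.span_induction with
    | mem b hb => exact h a ha b hb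
    | zero => rw [map_zero]
    | add b c _ _ hb hc => rw [map_add, hb, hc, add_zero]
    | smul r b _ hb => rw [map_smul, hb, smul_zero]
  | zero => rw [map_zero, LinearMap.zero_apply]
  | add a c _ _ ha hc => rw [map_add, LinearMap.add_apply, ha, hc, add_zero]
  | smul r a _ ha => rw [map_smul, LinearMap.smul_apply, ha, smul_zero]

/-- An isometry `x` with `x² = z` of a nondegenerate alternating space (characteristic not 2) fixes or swaps the
members of a pair of complementary totally isotropic subspaces. -/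
theorem exists_polar_pair [FiniteDimensional F V] (halt : ∀ v, B v v = 0) (hz : z ≠ 0)
    (hxB : ∀ u v, B (x u) (x v) = B u v) (hx : ∀ v, x (x v) = z • v)
    (hnd : ∀ u : V, u ≠ 0 → ∃ v, B u v ≠ 0) (h2 : (2 : F) ≠ 0) :
    ∃ U W : Submodule F V, IsCompl U W ∧ (∀ u ∈ U, ∀ v ∈ U, B u v = 0) ∧ (∀ u ∈ W, ∀ v ∈ W, B u v = 0) ∧
      ((U.map x = U ∧ W.map x = W) ∨ (U.map x = W ∧ W.map x = U)) := by
  classical
  -- general facts, for any adapted family
  have key : ∀ sw : Bool, Adapted B x z sw (⊤ : Submodule F V) := fun sw =>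
    exists_adapted halt hz hxB hx sw _ (⊤ : Submodule F V)
      (fun _ _ => Submodule.mem_top)
      (fun u _ hu => by obtain ⟨v, hv⟩ := hnd u hu; exact ⟨v, Submodule.mem_top, hv⟩) rfl
  have trick : ∀ (P Q : Submodule F V), Q.map x ≤ P → Q ≤ P.map x := by
    intro P Q h u hu
    have hu' : u = x (z⁻¹ • x u) := by
      rw [map_smul, hx, smul_smul, inv_mul_cancel₀ hz, one_smul]
    rw [hu']
    exact Submodule.mem_map_of_mem (Submodule.smul_mem _ _ (h (Submodule.mem_map_of_mem hu)))
  have main : ∀ (ι : Type) [Fintype ι] [DecidableEq ι] (e : ι → Fin 2 → V), IsHyp B e → spn F e = ⊤ →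
      IsCompl (Submodule.span F (Set.range fun i => e i 0)) (Submodule.span F (Set.range fun i => e i 1)) ∧
      (∀ u ∈ Submodule.span F (Set.range fun i => e i 0), ∀ v ∈ Submodule.span F (Set.range fun i => e i 0),
        B u v = 0) ∧
      (∀ u ∈ Submodule.span F (Set.range fun i => e i 1), ∀ v ∈ Submodule.span F (Set.range fun i => e i 1),
        B u v = 0) := by
    intro ι _ _ e he hspn
    have hiso : ∀ k : Fin 2, ∀ a ∈ Set.range (fun i => e i k), ∀ b ∈ Set.range (fun i => e i k), B a b = 0 := by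
      rintro k _ ⟨i, rfl⟩ _ ⟨j, rfl⟩
      by_cases hij : i = j
      · subst hij; exact halt _
      · exact he.g2 i j hij k k
    refine ⟨⟨?_, ?_⟩, span_isotropic' (hiso 0), span_isotropic' (hiso 1)⟩
    · have hli := linearIndependent_of_isHyp halt he
      have h0 : Set.range (fun i => e i 0) = (fun p : ι × Fin 2 => e p.1 p.2) '' {p | p.2 = 0} := by
        ext v
        constructor
        · rintro ⟨i, rfl⟩; exact ⟨(i, 0), rfl, rfl⟩
        · rintro ⟨⟨i, k⟩, hk, rfl⟩
          simp only [Set.mem_ofPred_eq] at hk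
          subst hk
          exact ⟨i, rfl⟩
      have h1 : Set.range (fun i => e i 1) = (fun p : ι × Fin 2 => e p.1 p.2) '' {p | p.2 = 1} := by
        ext v
        constructor
        · rintro ⟨i, rfl⟩; exact ⟨(i, 1), rfl, rfl⟩
        · rintro ⟨⟨i, k⟩, hk, rfl⟩
          simp only [Set.mem_ofPred_eq] at hk
          subst hk
          exact ⟨i, rfl⟩
      rw [h0, h1]
      apply hli.disjoint_span_image
      rw [Set.disjoint_left]
      rintro ⟨i, k⟩ hk hk'
      simp only [Set.mem_ofPred_eq] at hk hk'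
      rw [hk] at hk'
      exact absurd hk' (by decide)
    · rw [codisjoint_iff, eq_top_iff, ← hspn]
      apply Submodule.span_le.2
      rintro _ ⟨⟨i, k⟩, rfl⟩
      fin_cases k
      · exact Submodule.mem_sup_left (Submodule.subset_span ⟨i, rfl⟩)
      · exact Submodule.mem_sup_right (Submodule.subset_span ⟨i, rfl⟩)
  by_cases hz1 : z = 1
  · -- `z = 1`: both subspaces are fixed
    obtain ⟨ι, _, _, e, τ, hτ, he, hspn, ht⟩ := key false
    obtain ⟨m1, m2, m3⟩ := main ι e he hspn
    have hno : ∀ v, B v (x v) = 0 := by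
      intro v
      have h : B (x v) (x (x v)) = B v (x v) := hxB _ _
      rw [hx, hz1, one_smul, skew halt] at h
      have : (2 : F) * B v (x v) = 0 := by
        rw [two_mul]; nth_rewrite 1 [← h]; exact neg_add_cancel _
      exact (mul_eq_zero.1 this).resolve_left h2
    have hk : ∀ (k : Fin 2) (i : ι), ∃ c : F, x (e i k) = c • e (τ i) k := by
      intro k i
      rcases ht i with ⟨_, h2', _⟩ | ⟨h1, μ, h2', h3⟩ | ⟨_, c₀, c₁, _, _, h2', h3⟩
      · exfalso
        have := hno (e i 0)
        rw [h2'] at this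
        exact he.g1 i this
      · fin_cases k
        · exact ⟨μ, by rw [h1]; exact h2'⟩
        · exact ⟨μ, by rw [h1]; exact h3⟩
      · fin_cases k
        · exact ⟨c₀, by simpa using h2'⟩
        · exact ⟨c₁, by simpa using h3⟩
    have hle : ∀ k : Fin 2, (Submodule.span F (Set.range fun i => e i k)).map x ≤
        Submodule.span F (Set.range fun i => e i k) := by
      intro k
      rw [Submodule.map_le_iff_le_comap]
      apply Submodule.span_le.2
      rintro _ ⟨i, rfl⟩
      obtain ⟨c, hc⟩ := hk k i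
      simp only [Submodule.comap_coe, Set.mem_preimage, SetLike.mem_coe, hc]
      exact Submodule.smul_mem _ _ (Submodule.subset_span ⟨τ i, rfl⟩)
    exact ⟨_, _, m1, m2, m3, Or.inl ⟨le_antisymm (hle 0) (trick _ _ (hle 0)),
      le_antisymm (hle 1) (trick _ _ (hle 1))⟩⟩
  · -- `z ≠ 1`: the two subspaces are swapped
    obtain ⟨ι, _, _, e, τ, hτ, he, hspn, ht⟩ := key true
    obtain ⟨m1, m2, m3⟩ := main ι e he hspn
    have hk : ∀ (k : Fin 2) (i : ι), ∃ c : F, x (e i k) = c • e (τ i) (mate k) := by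
      intro k i
      rcases ht i with ⟨h1, h2', h3⟩ | ⟨h1, μ, h2', h3⟩ | ⟨_, c₀, c₁, _, _, h2', h3⟩
      · fin_cases k
        · exact ⟨1, by rw [h1, one_smul]; exact h2'⟩
        · exact ⟨z, by rw [h1]; exact h3⟩
      · exfalso
        have h : B (x (e i 0)) (x (e i 1)) = B (e i 0) (e i 1) := hxB _ _
        rw [h2', h3] at h
        simp only [map_smul, LinearMap.smul_apply, smul_eq_mul, ← mul_assoc] at h
        have hμ : μ * μ = 1 := by
          have := he.g1 i
          exact mul_right_cancel₀ this (by rw [h, one_mul])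
        have hμz : μ * μ = z := by
          have h' := hx (e i 0)
          rw [h2', map_smul, h2', smul_smul] at h'
          have hne : e i 0 ≠ 0 := by
            intro h0
            apply he.g1 i
            rw [h0, map_zero, LinearMap.zero_apply]
          by_contra hcon
          have : (μ * μ - z) • e i 0 = 0 := by rw [sub_smul, h', sub_self]
          rcases smul_eq_zero.1 this with h'' | h''
          · exact hcon (sub_eq_zero.1 h'')
          · exact hne h''
        exact hz1 (hμz.symm.trans hμ)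
      · fin_cases k
        · exact ⟨c₀, by simpa [mate] using h2'⟩
        · exact ⟨c₁, by simpa [mate] using h3⟩
    have hle : ∀ k : Fin 2, (Submodule.span F (Set.range fun i => e i k)).map x ≤
        Submodule.span F (Set.range fun i => e i (mate k)) := by
      intro k
      rw [Submodule.map_le_iff_le_comap]
      apply Submodule.span_le.2
      rintro _ ⟨i, rfl⟩
      obtain ⟨c, hc⟩ := hk k i
      simp only [Submodule.comap_coe, Set.mem_preimage, SetLike.mem_coe, hc]
      exact Submodule.smul_mem _ _ (Submodule.subset_span ⟨τ i, rfl⟩)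
    exact ⟨_, _, m1, m2, m3, Or.inr ⟨le_antisymm (hle 0) (trick _ _ (hle 1)),
      le_antisymm (hle 1) (trick _ _ (hle 0))⟩⟩

end adapted

end Cfsg.Agent.H9.SympInv
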