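import Mathlib
import Cfsg.Agent.S5638
import Cfsg.Agent.Lib.Helper5.Orth.Tensor3
import Cfsg.Agent.H9.OrthG

set_option autoImplicit false
set_option linter.unusedSectionVars false
open Cfsg Matrix

/-!
Over the field with two elements: the stabiliser in `Ω` of a tensor decomposition `2 ⊗ n₂`
of the polar form (both factors symplectic, `Q` vanishing on pure tensors) is not maximal: it
lies strictly inside the normaliser of `⟨ω ⊗ 1⟩` (an extension field subgroup of unitary type).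
-/

namespace Cfsg.Agent.H9.OTens2

open Cfsg.Agent.H9.Orth Cfsg.Agent.S5638
open Cfsg.Agent.Lib.Helper5.Orth (pt Ps Ps_add Ps_smul Ps_injective pt_add_left pt_add_right pt_smul_right
  kron_mulVec_pt gram_pt mem_tensor' gl_inv_mulVec_mulVec gl_mulVec_inv_mulVec)
open scoped MatrixGroups Matrix Kronecker

section transport
variable {F : Type*} [Field F] {ι : Type} [Fintype ι] [DecidableEq ι] {n₂ : ℕ}
  (e : ι ≃ Fin 2 × Fin n₂) (P : GL ι F)

/-- the transport homomorphism -/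
def cc : GL (Fin 2 × Fin n₂) F →* GL ι F :=
  (MulAut.conj P).toMonoidHom.comp (Cfsg.Geo.glReindex (F := F) e.symm).toMonoidHom

lemma cc_injective : Function.Injective (cc e P) := by
  intro x y h
  have h' : (MulAut.conj P) ((Cfsg.Geo.glReindex (F := F) e.symm) x) =
      (MulAut.conj P) ((Cfsg.Geo.glReindex (F := F) e.symm) y) := h
  exact (Cfsg.Geo.glReindex (F := F) e.symm).injective ((MulAut.conj P).injective h')

lemma tensor_eq : Cfsg.Geo.tensorProductSubgroup 2 n₂ e P =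
    (Cfsg.Geo.kroneckerSubgroup 2 n₂ F).map (cc e P) := by
  unfold Cfsg.Geo.tensorProductSubgroup cc
  rw [Subgroup.map_map]

lemma act_cc (k : GL (Fin 2 × Fin n₂) F) (x : Fin 2 × Fin n₂ → F) :
    act (cc e P k) (Ps e P x) = Ps e P ((k : Matrix (Fin 2 × Fin n₂) (Fin 2 × Fin n₂) F) *ᵥ x) := by
  unfold Ps act cc
  have hR : ((Cfsg.Geo.glReindex e.symm k : GL ι F) : Matrix ι ι F) =
      (k : Matrix (Fin 2 × Fin n₂) (Fin 2 × Fin n₂) F).submatrix e e := by
    unfold Cfsg.Geo.glReindex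
    rfl
  simp only [MonoidHom.coe_comp, MulEquiv.coe_toMonoidHom, Function.comp_apply, MulAut.conj_apply,
    Units.val_mul]
  rw [hR, ← Matrix.mulVec_mulVec, ← Matrix.mulVec_mulVec, gl_inv_mulVec_mulVec,
    Matrix.submatrix_mulVec_equiv]
  have : (x ∘ ⇑e) ∘ ⇑e.symm = x := by
    funext p
    simp
  rw [this]

/-- first basis vector of `F²` -/
def b0 : Fin 2 → F := Pi.single 0 1
/-- second basis vector of `F²` -/
def b1 : Fin 2 → F := Pi.single 1 1

/-- coordinates `W × W → V` -/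
def E (r s : Fin n₂ → F) : ι → F := Ps e P (pt b0 r + pt b1 s)

lemma E_add (r s r' s' : Fin n₂ → F) : E e P (r + r') (s + s') = E e P r s + E e P r' s' := by
  unfold E
  rw [← Ps_add, pt_add_right, pt_add_right]
  congr 1
  abel

lemma E_smul (a : F) (r s : Fin n₂ → F) : E e P (a • r) (a • s) = a • E e P r s := by
  unfold E
  rw [← Ps_smul, pt_smul_right, pt_smul_right, smul_add]

lemma E_neg (r s : Fin n₂ → F) : E e P (-r) (-s) = - E e P r s := by
  have := E_smul e P (-1) r s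
  rwa [neg_one_smul, neg_one_smul, neg_one_smul] at this

lemma E_sub (r s r' s' : Fin n₂ → F) : E e P (r - r') (s - s') = E e P r s - E e P r' s' := by
  rw [sub_eq_add_neg, sub_eq_add_neg, E_add, E_neg, ← sub_eq_add_neg]

lemma E_zero : E e P (0 : Fin n₂ → F) 0 = 0 := by
  have := E_smul e P (0 : F) (0 : Fin n₂ → F) 0
  rwa [zero_smul, zero_smul] at this

lemma pt_b0 (r : Fin n₂ → F) (j : Fin n₂) : pt (b0 : Fin 2 → F) r (0, j) = r j := by
  simp [pt, b0]

lemma pt_b0' (r : Fin n₂ → F) (j : Fin n₂) : pt (b0 : Fin 2 → F) r (1, j) = 0 := by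
  simp [pt, b0]

lemma pt_b1 (r : Fin n₂ → F) (j : Fin n₂) : pt (b1 : Fin 2 → F) r (1, j) = r j := by
  simp [pt, b1]

lemma pt_b1' (r : Fin n₂ → F) (j : Fin n₂) : pt (b1 : Fin 2 → F) r (0, j) = 0 := by
  simp [pt, b1]

lemma E_inj (r s r' s' : Fin n₂ → F) (h : E e P r s = E e P r' s') : r = r' ∧ s = s' := by
  have h1 := Ps_injective e P h
  constructor
  · funext j
    have := congrFun h1 (0, j)
    simpa [Pi.add_apply, pt_b0, pt_b1'] using this
  · funext j
    have := congrFun h1 (1, j)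
    simpa [Pi.add_apply, pt_b0', pt_b1] using this

lemma E_surj (v : ι → F) : ∃ r s : Fin n₂ → F, v = E e P r s := by
  let x : Fin 2 × Fin n₂ → F := fun p => (((P⁻¹ : GL ι F) : Matrix ι ι F) *ᵥ v) (e.symm p)
  refine ⟨fun j => x (0, j), fun j => x (1, j), ?_⟩
  have hx : x = pt b0 (fun j => x (0, j)) + pt b1 (fun j => x (1, j)) := by
    funext ⟨i, j⟩
    fin_cases i
    · simp [Pi.add_apply, pt_b0, pt_b1']
    · simp [Pi.add_apply, pt_b0', pt_b1]
  unfold E
  rw [← hx]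
  unfold Ps
  have : x ∘ e = ((P⁻¹ : GL ι F) : Matrix ι ι F) *ᵥ v := by
    funext i
    simp [x]
  rw [this, gl_mulVec_inv_mulVec]

lemma vec2 (a : Fin 2 → F) : a = a 0 • b0 + a 1 • b1 := by
  funext i
  fin_cases i <;> simp [b0, b1]

end transport

section form
variable {F : Type*} [Field F] [Fintype F] {ι : Type} [Fintype ι] [DecidableEq ι] {n₂ : ℕ}
  (e : ι ≃ Fin 2 × Fin n₂) (P : GL ι F) {Q : (ι → F) → F}
  (hQ : Cfsg.Geo.IsNondegenerateQuadraticForm Q) (hq : Fintype.card F = 2)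
  (f₁ : (Fin 2 → F) → (Fin 2 → F) → F) (f₂ : (Fin n₂ → F) → (Fin n₂ → F) → F)
  (hf₁ : Cfsg.Geo.IsSymplecticForm f₁) (hf₂ : Cfsg.Geo.IsSymplecticForm f₂)
  (hT : Cfsg.Geo.IsTensorFormStructure id (QuadraticMap.polar Q) f₁ f₂ e P)
  (hpure : ∀ (x₁ : Fin 2 → F) (x₂ : Fin n₂ → F),
    Q (Matrix.mulVec (P : Matrix ι ι F) ((fun a : Fin 2 × Fin n₂ => x₁ a.1 * x₂ a.2) ∘ e)) = 0)

include hq in
lemma neg_eq (a : F) : -a = a := by
  have h := h11 hq
  have : a + a = 0 := by linear_combination a * h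
  linear_combination -this

include hq in
lemma neg_eq_vec {κ : Type*} (v : κ → F) : -v = v := by
  funext i
  exact neg_eq hq (v i)

include hf₂ in
lemma f₂_zero_left (y : Fin n₂ → F) : f₂ 0 y = 0 := by
  have := hf₂.bilinear.smul_left 0 0 y
  rwa [zero_smul, zero_mul] at this

include hf₂ in
lemma f₂_zero_right (y : Fin n₂ → F) : f₂ y 0 = 0 := by
  have := hf₂.bilinear.smul_right 0 y 0
  rwa [zero_smul, zero_mul] at this

include hf₂ hq in
lemma f₂_comm (x y : Fin n₂ → F) : f₂ x y = f₂ y x := by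
  rw [hf₂.skew, neg_eq hq]

include hf₁ hq in
lemma f₁_b01 : f₁ b0 b1 = 1 := by
  rcases h01 hq (f₁ b0 b1) with h | h
  · exfalso
    have hb0 : (b0 : Fin 2 → F) ≠ 0 := by
      intro h0
      have := congrFun h0 0
      simp [b0] at this
    obtain ⟨⟨x, hx⟩, -⟩ := hf₁.nondegenerate b0 hb0
    apply hx
    rw [vec2 x, hf₁.bilinear.add_left, hf₁.bilinear.smul_left, hf₁.bilinear.smul_left,
      hf₁.alternating, hf₁.skew b1 b0, h]
    ring
  · exact h

include hT hf₁ hf₂ hq in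
lemma pol_pt (a a' : Fin 2 → F) (r r' : Fin n₂ → F) :
    pol Q (Ps e P (pt a r)) (Ps e P (pt a' r')) = f₁ a a' * f₂ r r' := by
  obtain ⟨c, hc, hform⟩ := hT
  have hc1 : c = 1 := by
    rcases h01 hq c with h | h
    · exact absurd h hc
    · exact h
  have := hform (pt a r) (pt a' r')
  unfold Ps pol
  rw [this, hc1, one_mul, gram_pt, ← Cfsg.Agent.S5667.form_eq_gram hf₁.bilinear,
    ← Cfsg.Agent.S5667.form_eq_gram hf₂.bilinear]

include hpure in
lemma Q_pt (a : Fin 2 → F) (r : Fin n₂ → F) : Q (Ps e P (pt a r)) = 0 := hpure a r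

include hT hf₁ hf₂ hq hQ in
lemma pol_E (r s r' s' : Fin n₂ → F) :
    pol Q (E e P r s) (E e P r' s') = f₂ r s' + f₂ s r' := by
  unfold E
  rw [Ps_add, Ps_add, pol_add_left hQ, pol_add_right hQ, pol_add_right hQ,
    pol_pt e P hq f₁ f₂ hf₁ hf₂ hT, pol_pt e P hq f₁ f₂ hf₁ hf₂ hT, pol_pt e P hq f₁ f₂ hf₁ hf₂ hT,
    pol_pt e P hq f₁ f₂ hf₁ hf₂ hT, hf₁.alternating, hf₁.alternating, hf₁.skew b1 b0,
    f₁_b01 hq f₁ hf₁, neg_eq hq]
  ring

include hT hf₁ hf₂ hq hQ hpure in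
lemma Q_E (r s : Fin n₂ → F) : Q (E e P r s) = f₂ r s := by
  unfold E
  rw [Ps_add, Q_add Q, Q_pt e P hpure, Q_pt e P hpure, pol_pt e P hq f₁ f₂ hf₁ hf₂ hT,
    f₁_b01 hq f₁ hf₁]
  ring

/-- `J = ω ⊗ 1` transported -/
def JJ : GL ι F := cc e P (Om0 hq n₂)

include hq in
lemma act_JJ (r s : Fin n₂ → F) : act (JJ e P hq) (E e P r s) = E e P s (r + s) := by
  unfold JJ E
  rw [act_cc, Om0_val, Matrix.mulVec_add, kron_mulVec_pt, kron_mulVec_pt, Matrix.one_mulVec,
    Matrix.one_mulVec]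
  have h0 : om F *ᵥ (b0 : Fin 2 → F) = b1 := by
    funext i
    fin_cases i <;> simp [om, b0, b1, Matrix.mulVec, dotProduct, Fin.sum_univ_two]
  have h1 : om F *ᵥ (b1 : Fin 2 → F) = b0 + b1 := by
    funext i
    fin_cases i <;> simp [om, b0, b1, Matrix.mulVec, dotProduct, Fin.sum_univ_two]
  rw [h0, h1, pt_add_left, pt_add_right]
  congr 1
  abel

include hT hf₁ hf₂ hq hQ hpure in
lemma JJ_mem : JJ e P hq ∈ Cfsg.isometryGroup F Q := by
  rw [mem_isometryGroup_iff]
  intro v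
  obtain ⟨r, s, rfl⟩ := E_surj e P v
  rw [act_JJ, Q_E e P hQ hq f₁ f₂ hf₁ hf₂ hT hpure, Q_E e P hQ hq f₁ f₂ hf₁ hf₂ hT hpure,
    hf₂.bilinear.add_right, hf₂.alternating, add_zero, f₂_comm hq f₂ hf₂]

include hq in
lemma act_JJ_inv (r s : Fin n₂ → F) : act (JJ e P hq)⁻¹ (E e P r s) = E e P (r + s) r := by
  have h := act_JJ e P hq (r + s) r
  have h2 : r + s + r = s := by
    have : r + r = 0 := by
      funext j
      have := h11 hq
      simp only [Pi.add_apply, Pi.zero_apply]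
      linear_combination r j * this
    calc r + s + r = s + (r + r) := by abel
      _ = s := by rw [this, add_zero]
  rw [h2] at h
  rw [← h, act_inv_act]

include hq hf₂ in
lemma exists_triple (h2 : 2 < n₂) : ∃ w w' r : Fin n₂ → F,
    w ≠ 0 ∧ f₂ w w' = 0 ∧ f₂ r w' = 1 ∧ f₂ r w = 0 := by
  let w' : Fin n₂ → F := Pi.single ⟨0, by omega⟩ 1
  have hw' : w' ≠ 0 := by
    intro h0
    have := congrFun h0 ⟨0, by omega⟩
    simp [w'] at this
  obtain ⟨⟨r, hr⟩, -⟩ := hf₂.nondegenerate w' hw'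
  have hr1 : f₂ r w' = 1 := by
    rcases h01 hq (f₂ r w') with h | h
    · exact absurd h hr
    · exact h
  let φ : (Fin n₂ → F) →ₗ[F] (Fin 2 → F) :=
    { toFun := fun w => ![f₂ w w', f₂ w r]
      map_add' := by
        intro x y
        funext i
        fin_cases i <;> simp [hf₂.bilinear.add_left]
      map_smul' := by
        intro c x
        funext i
        fin_cases i <;> simp [hf₂.bilinear.smul_left] }
  have hker : LinearMap.ker φ ≠ ⊥ := by
    apply LinearMap.ker_ne_bot_of_finrank_lt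
    simp only [Module.finrank_fintype_fun_eq_card, Fintype.card_fin]
    exact h2
  obtain ⟨w, hw, hw0⟩ := (Submodule.ne_bot_iff _).1 hker
  rw [LinearMap.mem_ker] at hw
  have e0 : f₂ w w' = 0 := by
    have := congrFun hw 0
    simpa [φ] using this
  have e1 : f₂ w r = 0 := by
    have := congrFun hw 1
    simpa [φ] using this
  exact ⟨w, w', r, hw0, e0, hr1, by rw [f₂_comm hq f₂ hf₂, e1]⟩

end form

section main
variable {F : Type*} [Field F] [Fintype F] {ι : Type} [Fintype ι] [DecidableEq ι] {n₂ : ℕ}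
  (e : ι ≃ Fin 2 × Fin n₂) (P : GL ι F) {Q : (ι → F) → F}
  (hQ : Cfsg.Geo.IsNondegenerateQuadraticForm Q) (hq : Fintype.card F = 2)
  (f₁ : (Fin 2 → F) → (Fin 2 → F) → F) (f₂ : (Fin n₂ → F) → (Fin n₂ → F) → F)
  (hf₁ : Cfsg.Geo.IsSymplecticForm f₁) (hf₂ : Cfsg.Geo.IsSymplecticForm f₂)
  (hT : Cfsg.Geo.IsTensorFormStructure id (QuadraticMap.polar Q) f₁ f₂ e P)
  (hpure : ∀ (x₁ : Fin 2 → F) (x₂ : Fin n₂ → F),
    Q (Matrix.mulVec (P : Matrix ι ι F) ((fun a : Fin 2 × Fin n₂ => x₁ a.1 * x₂ a.2) ∘ e)) = 0)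

include hQ hq hf₁ hf₂ hT hpure in
theorem tensor2_not_maximal (hn : 7 ≤ Fintype.card ι) (h2 : 2 < n₂) :
    ∃ K : Subgroup (GL ι F), Cfsg.Geo.tensorProductSubgroup 2 n₂ e P ⊓ Cfsg.Geo.omegaGL Q < K ∧
      K < Cfsg.Geo.omegaGL Q := by
  classical
  have hΩ := omegaGL_eq_NN hQ hn
  have hpolE := pol_E e P hQ hq f₁ f₂ hf₁ hf₂ hT
  have hQE := Q_E e P hQ hq f₁ f₂ hf₁ hf₂ hT hpure
  have hJ := JJ_mem e P hQ hq f₁ f₂ hf₁ hf₂ hT hpure
  have hcomm := f₂_comm hq f₂ hf₂
  have hz0 := f₂_zero_left f₂ hf₂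
  have hz1 := f₂_zero_right f₂ hf₂
  have hneg : ∀ v : ι → F, -v = v := neg_eq_vec hq
  have hnegW : ∀ v : Fin n₂ → F, -v = v := neg_eq_vec hq
  obtain ⟨w, w', r, hw, hww', hrw', hrw⟩ := exists_triple hq f₂ hf₂ h2
  have hw'w : f₂ w' w = 0 := by rw [hcomm, hww']
  set J := JJ e P hq with hJdef
  -- the tensor group normalises ⟨J⟩
  have hle : Cfsg.Geo.tensorProductSubgroup 2 n₂ e P ≤ extCent J := by
    rw [tensor_eq]
    rintro _ ⟨k, hk, rfl⟩
    exact (map_mem_extCent_iff (cc e P) (cc_injective e P) _ _).2 (kron_le hq n₂ hk)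
  -- the unitary transvection
  set u := E e P w w' with hu
  set v := E e P w' (w + w') with hv
  have hJu : act J u = v := act_JJ e P hq w w'
  have hJv : act J v = u + v := by
    rw [hv, hJdef, act_JJ, hu, ← E_add]
  have hQu : Q u = 0 := by rw [hu, hQE, hww']
  have hQv : Q v = 0 := by
    rw [hv, hQE, hf₂.bilinear.add_right, hw'w, hf₂.alternating, add_zero]
  have huv : pol Q u v = 0 := by
    rw [hu, hv, hpolE, hf₂.bilinear.add_right, hf₂.alternating, hww', hf₂.alternating]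
    ring
  have hvu : pol Q v u = 0 := by rw [pol_comm, huv]
  set g := sg hQ u v with hg
  have hgΩ : g ∈ Cfsg.Geo.omegaGL Q := by
    rw [hΩ]
    exact sg_mem_NN hQ u v hQu hQv huv
  have hgJ : g ∈ extCent J := by
    rw [mem_extCent_iff]
    left
    have h1 : J * g * J⁻¹ = g := by
      rw [hg, conj_sg hQ J hJ, hJu, hJv]
      have hvv : pol Q v v = 0 := by rw [pol_self hQ, hQv, mul_zero]
      rw [← sg_mul hQ v u v hvu hvv]
      have := sg_self hQ v 1
      rw [one_smul] at this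
      rw [this, mul_one, sg_symm hQ v u hQv hQu hvu, sg_inv hQ u v huv, hneg]
    calc g * J = (J * g * J⁻¹) * J := by rw [h1]
      _ = J * g := by group
  have hgT : g ∉ Cfsg.Geo.tensorProductSubgroup 2 n₂ e P := by
    intro hmem
    obtain ⟨A, B, hAB⟩ := mem_tensor' e P g hmem
    have h1 := hAB (pt b0 r)
    rw [kron_mulVec_pt] at h1
    have hx : Ps e P (pt (b0 : Fin 2 → F) r) = E e P r 0 := by
      unfold E
      congr 1
      have : pt (b1 : Fin 2 → F) (0 : Fin n₂ → F) = 0 := by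
        funext p
        simp [pt]
      rw [this, add_zero]
    set Br := (B : Matrix (Fin n₂) (Fin n₂) F) *ᵥ r with hBr
    have hy : Ps e P (pt ((A : Matrix (Fin 2) (Fin 2) F) *ᵥ (b0 : Fin 2 → F)) Br) =
        E e P (((A : Matrix (Fin 2) (Fin 2) F) *ᵥ (b0 : Fin 2 → F)) 0 • Br)
          (((A : Matrix (Fin 2) (Fin 2) F) *ᵥ (b0 : Fin 2 → F)) 1 • Br) := by
      unfold E
      congr 1
      conv_lhs => rw [vec2 ((A : Matrix (Fin 2) (Fin 2) F) *ᵥ (b0 : Fin 2 → F))]
      rw [pt_add_left, Cfsg.Agent.Lib.Helper5.Orth.pt_smul_left,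
        Cfsg.Agent.Lib.Helper5.Orth.pt_smul_left, pt_smul_right, pt_smul_right]
    rw [hx, hy] at h1
    have h2' : act g (E e P r 0) = E e P (r + w - w') (0 + w' - (w + w')) := by
      rw [hg, act_sg hQ u v hQu huv, hQv, zero_mul, sub_zero]
      have p1 : pol Q (E e P r 0) v = 1 := by
        rw [hv, hpolE, hz0, hf₂.bilinear.add_right, hrw, hrw']
        ring
      have p2 : pol Q (E e P r 0) u = 1 := by
        rw [hu, hpolE, hz0, hrw']
        ring
      rw [p1, p2, one_smul, one_smul, hu, hv, ← E_add, ← E_sub]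
    have h3 : E e P (r + w - w') (0 + w' - (w + w')) =
        E e P (((A : Matrix (Fin 2) (Fin 2) F) *ᵥ (b0 : Fin 2 → F)) 0 • Br)
          (((A : Matrix (Fin 2) (Fin 2) F) *ᵥ (b0 : Fin 2 → F)) 1 • Br) := by
      rw [← h2', ← h1]
    obtain ⟨k1, k2⟩ := E_inj e P _ _ _ _ h3
    have k2' : (((A : Matrix (Fin 2) (Fin 2) F) *ᵥ (b0 : Fin 2 → F)) 1) • Br = -w := by
      rw [← k2]
      abel
    rw [hnegW] at k2'
    rcases h01 hq (((A : Matrix (Fin 2) (Fin 2) F) *ᵥ (b0 : Fin 2 → F)) 1) with ha | ha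
    · rw [ha, zero_smul] at k2'
      exact hw k2'.symm
    · rw [ha, one_smul] at k2'
      have k3 : f₂ (r + w - w') w' = 0 := by
        rw [k1, k2', hf₂.bilinear.smul_left, hww', mul_zero]
      rw [sub_eq_add_neg, hf₂.bilinear.add_left, hf₂.bilinear.add_left, hrw', hww', hnegW,
        hf₂.alternating, add_zero, add_zero] at k3
      exact one_ne_zero k3
  -- a long root element outside the normaliser
  set u' := E e P w 0 with hu'
  set v' := E e P w' 0 with hv'
  have hQu' : Q u' = 0 := by rw [hu', hQE, hz1]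
  have hQv' : Q v' = 0 := by rw [hv', hQE, hz1]
  have huv' : pol Q u' v' = 0 := by
    rw [hu', hv', hpolE, hz1, hz0]
    ring
  set g' := sg hQ u' v' with hg'
  have hg'Ω : g' ∈ Cfsg.Geo.omegaGL Q := by
    rw [hΩ]
    exact sg_mem_NN hQ u' v' hQu' hQv' huv'
  have hact' : ∀ a b : Fin n₂ → F, act g' (E e P a b) =
      E e P (a + f₂ b w' • w - f₂ b w • w') b := by
    intro a b
    rw [hg', act_sg hQ u' v' hQu' huv', hQv', zero_mul, sub_zero]
    have p1 : pol Q (E e P a b) v' = f₂ b w' := by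
      rw [hv', hpolE, hz1]
      ring
    have p2 : pol Q (E e P a b) u' = f₂ b w := by
      rw [hu', hpolE, hz1]
      ring
    rw [p1, p2, hu', hv', ← E_smul, ← E_smul, ← E_add, ← E_sub]
    simp only [smul_zero, add_zero, sub_zero]
  have hg'J : g' ∉ extCent J := by
    rw [mem_extCent_iff]
    rintro (h | h)
    · have h1 := congrArg (fun k => act k (E e P 0 r)) h
      simp only [act_mul] at h1
      rw [hJdef] at h1
      simp only [act_JJ, hact', zero_add, add_zero, hrw', hrw, one_smul, zero_smul, sub_zero] at h1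
      obtain ⟨k1, -⟩ := E_inj e P _ _ _ _ h1
      apply hw
      have : r + w = r + 0 := by rw [add_zero]; exact k1
      exact add_left_cancel this
    · have h1 := congrArg (fun k => act k (E e P w 0)) h
      simp only [act_mul] at h1
      rw [hJdef] at h1
      simp only [act_JJ, act_JJ_inv, hact', zero_add, add_zero, hz0, hww', hf₂.alternating, zero_smul,
        sub_zero] at h1
      obtain ⟨k1, -⟩ := E_inj e P _ _ _ _ h1
      exact hw k1.symm
  refine ⟨extCent J ⊓ Cfsg.Geo.omegaGL Q, ?_, ?_⟩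
  · refine lt_of_le_of_ne (inf_le_inf_right _ hle) ?_
    intro h
    have : g ∈ Cfsg.Geo.tensorProductSubgroup 2 n₂ e P ⊓ Cfsg.Geo.omegaGL Q := by
      rw [h]
      exact ⟨hgJ, hgΩ⟩
    exact hgT this.1
  · refine lt_of_le_of_ne inf_le_right ?_
    intro h
    have : g' ∈ extCent J ⊓ Cfsg.Geo.omegaGL Q := by
      rw [h]
      exact hg'Ω
    exact hg'J this.1

end main

end Cfsg.Agent.H9.OTens2
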