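import Mathlib
import Cfsg.Agent.Lib.Helper4.Sylow
import Cfsg.Agent.Lib.Helper4.Simple
import Cfsg.Agent.Lib.Helper4.AltEmbed

/-!
# General lemmas for the recognition of the simple group of order 504 (helper9)
-/

set_option autoImplicit false

namespace Cfsg.Agent.H9.Ord504

open Subgroup

section general

variable {G : Type*} [Group G]

/-- class size times centralizer order -/
theorem card_centralizer_mul_card_conj (t : G) :
    Nat.card (centralizer ({t} : Set G)) * Nat.card {x : G // ∃ g : G, g * t * g⁻¹ = x}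
      = Nat.card G := by
  rw [← Subgroup.card_mul_index (centralizer ({t} : Set G))]
  congr 1
  rw [Subgroup.index_eq_card]
  symm
  apply Nat.card_congr
  let f : G ⧸ centralizer ({t} : Set G) → {x : G // ∃ g : G, g * t * g⁻¹ = x} :=
    Quotient.lift (fun g => ⟨g * t * g⁻¹, g, rfl⟩) (by
      intro a b hab
      have h1 : a⁻¹ * b ∈ centralizer ({t} : Set G) := QuotientGroup.leftRel_apply.1 hab
      rw [Subgroup.mem_centralizer_iff] at h1
      have h2 := h1 t rfl
      apply Subtype.ext
      show a * t * a⁻¹ = b * t * b⁻¹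
      have h3 : t * a⁻¹ * b = a⁻¹ * b * t := by rw [mul_assoc, h2]
      calc a * t * a⁻¹ = a * (t * a⁻¹ * b) * b⁻¹ := by group
        _ = a * (a⁻¹ * b * t) * b⁻¹ := by rw [h3]
        _ = b * t * b⁻¹ := by group)
  refine Equiv.ofBijective f ⟨?_, ?_⟩
  · intro a b hab
    obtain ⟨a, rfl⟩ := QuotientGroup.mk_surjective a
    obtain ⟨b, rfl⟩ := QuotientGroup.mk_surjective b
    have h1 : a * t * a⁻¹ = b * t * b⁻¹ := congrArg Subtype.val hab
    apply QuotientGroup.eq.2
    rw [Subgroup.mem_centralizer_iff]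
    intro x hx
    rw [Set.mem_singleton_iff] at hx
    subst hx
    calc x * (a⁻¹ * b) = a⁻¹ * (a * x * a⁻¹) * b := by group
      _ = a⁻¹ * (b * x * b⁻¹) * b := by rw [h1]
      _ = a⁻¹ * b * x := by group
  · rintro ⟨x, g, rfl⟩
    exact ⟨QuotientGroup.mk g, rfl⟩

/-- a simple group of non-prime order has no nontrivial abelian quotient -/
theorem hom_comm_trivial [Finite G] [IsSimpleGroup G] (hnp : ¬ (Nat.card G).Prime) {A : Type*} [CommGroup A]
    (φ : G →* A) (g : G) : φ g = 1 := by
  rcases φ.normal_ker.eq_bot_or_eq_top with h | h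
  · exfalso
    have hinj : Function.Injective φ := (MonoidHom.ker_eq_bot_iff φ).1 h
    have hc : ∀ a b : G, a * b = b * a := by
      intro a b
      apply hinj
      rw [map_mul, map_mul, mul_comm]
    let _ : CommGroup G := { (inferInstance : Group G) with mul_comm := hc }
    exact hnp (IsSimpleGroup.prime_card (α := G))
  · have : g ∈ φ.ker := by rw [h]; trivial
    exact this

open scoped IsMulCommutative in
/-- **focal subgroup, abelian case**: in a simple group of non-prime order, an element of an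
abelian Sylow subgroup which is central in the normalizer is trivial. -/
theorem central_sylow_elt_eq_one [Finite G] [IsSimpleGroup G] (hnp : ¬ (Nat.card G).Prime) {p : ℕ}
    [Fact p.Prime] (P : Sylow p G) (hcomm : ∀ a ∈ P, ∀ b ∈ P, a * b = b * a) (u : G) (hu : u ∈ P)
    (hc : ∀ n ∈ normalizer ((P : Subgroup G) : Set G), n * u = u * n) : u = 1 := by
  have : IsMulCommutative (P : Subgroup G) :=
    ⟨⟨fun a b => Subtype.ext (hcomm a a.2 b b.2)⟩⟩
  have key : ∀ (k : ℕ) (g₀ : G), g₀⁻¹ * u ^ k * g₀ ∈ (P : Subgroup G) →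
      g₀⁻¹ * u ^ k * g₀ = u ^ k := by
    intro k g₀ hmem
    obtain ⟨n, hn, h⟩ := P.conj_eq_normalizer_conj_of_mem (u ^ k) g₀ (pow_mem hu k) hmem
    rw [h]
    have h1 : n * u ^ k = u ^ k * n := ((Commute.pow_right (hc n hn) k)).eq
    calc n⁻¹ * u ^ k * n = n⁻¹ * (u ^ k * n) := by group
      _ = n⁻¹ * (n * u ^ k) := by rw [h1]
      _ = u ^ k := by group
  have h1 := MonoidHom.transfer_eq_pow (MonoidHom.id (P : Subgroup G)) u key
  have h2 := hom_comm_trivial hnp (MonoidHom.transfer (MonoidHom.id (P : Subgroup G))) u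
  rw [h2] at h1
  have h3 : u ^ (P : Subgroup G).index = 1 := by
    have := congrArg Subtype.val h1
    simpa using this.symm
  obtain ⟨k, hk⟩ := (IsPGroup.iff_orderOf.1 P.2) ⟨u, hu⟩
  have h4 : orderOf u = p ^ k := by rw [← hk]; exact (Subgroup.orderOf_mk u hu).symm
  have h5 : orderOf u ∣ (P : Subgroup G).index := orderOf_dvd_of_pow_eq_one h3
  have hp : p.Prime := Fact.out
  rcases k with _ | k
  · rw [pow_zero] at h4
    exact orderOf_eq_one_iff.1 h4
  · exfalso
    apply P.not_dvd_index
    refine dvd_trans ?_ h5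
    rw [h4, pow_succ]
    exact Dvd.intro_left _ rfl

/-- an involution generating the normalizer over an abelian Sylow subgroup inverts it -/
theorem inverts_of_index_two [Finite G] [IsSimpleGroup G] (hnp : ¬ (Nat.card G).Prime) {p : ℕ}
    [Fact p.Prime] (P : Sylow p G) (hcomm : ∀ a ∈ P, ∀ b ∈ P, a * b = b * a) (s : G)
    (hsN : s ∈ normalizer ((P : Subgroup G) : Set G)) (hs2 : s * s = 1)
    (hgen : ∀ n ∈ normalizer ((P : Subgroup G) : Set G), n ∈ P ∨ n * s ∈ P) (a : G) (ha : a ∈ P) :
    s * a * s⁻¹ = a⁻¹ := by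
  have hsinv : s⁻¹ = s := inv_eq_of_mul_eq_one_left hs2
  obtain ⟨c, hc⟩ : ∃ c, c = s * a * s⁻¹ := ⟨_, rfl⟩
  have hcP : c ∈ P := by
    rw [hc]
    exact (Subgroup.mem_set_normalizer_iff.1 hsN a).1 ha
  have h1 : s * a = c * s := by rw [hc]; group
  have h2 : s * c = a * s := by
    rw [hc, hsinv]
    calc s * (s * a * s) = (s * s) * a * s := by group
      _ = a * s := by rw [hs2, one_mul]
  have hac : a * c = c * a := hcomm a ha c hcP
  have hbP : a * c ∈ P := mul_mem ha hcP
  have hsb : s * (a * c) = (a * c) * s := by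
    calc s * (a * c) = (s * a) * c := by group
      _ = c * s * c := by rw [h1]
      _ = c * (s * c) := by group
      _ = c * (a * s) := by rw [h2]
      _ = (c * a) * s := by group
      _ = (a * c) * s := by rw [hac]
  have hb1 : a * c = 1 := by
    apply central_sylow_elt_eq_one hnp P hcomm (a * c) hbP
    intro n hn
    rcases hgen n hn with hnP | hnP
    · exact hcomm n hnP (a * c) hbP
    · have h3 := hcomm (n * s) hnP (a * c) hbP
      have h4 : n = (n * s) * s := by
        calc n = n * (s * s) := by rw [hs2, mul_one]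
          _ = (n * s) * s := by group
      have h5 : (n * s) * s * (a * c) = (a * c) * ((n * s) * s) := by
        calc (n * s) * s * (a * c) = (n * s) * (s * (a * c)) := by group
          _ = (n * s) * ((a * c) * s) := by rw [hsb]
          _ = ((n * s) * (a * c)) * s := by group
          _ = ((a * c) * (n * s)) * s := by rw [h3]
          _ = (a * c) * ((n * s) * s) := by group
      rwa [← h4] at h5
  rw [← hc]
  exact (eq_inv_of_mul_eq_one_right hb1)

/-- a subgroup of relative index two is normalized -/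
theorem le_normalizer_of_relIndex_two {H K : Subgroup G} (hHK : H ≤ K) (h2 : H.relIndex K = 2) :
    K ≤ normalizer (H : Set G) := by
  have : (H.subgroupOf K).Normal := Subgroup.normal_of_index_eq_two h2
  exact (Subgroup.normal_subgroupOf_iff_le_normalizer hHK).1 this

/-- counting the nonidentity elements of trivially intersecting Sylow subgroups -/
theorem sylow_count [Fintype G] [DecidableEq G] {p : ℕ} [Fact p.Prime] (m : ℕ)
    (hm : ∀ P : Sylow p G, Nat.card (P : Subgroup G) = m)
    (hTI : ∀ P Q : Sylow p G, ∀ g : G, g ∈ P → g ∈ Q → g ≠ 1 → P = Q)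
    (T : Finset G) (hT : ∀ P : Sylow p G, ∀ g ∈ P, g ≠ 1 → g ∈ T) :
    Nat.card (Sylow p G) * (m - 1) ≤ T.card := by
  classical
  have : Fintype (Sylow p G) := Fintype.ofFinite _
  let t : Sylow p G → Finset G := fun P => Finset.univ.filter (fun g => g ∈ P ∧ g ≠ 1)
  have hdisj : ((Finset.univ : Finset (Sylow p G)) : Set (Sylow p G)).PairwiseDisjoint t := by
    intro P _ Q _ hPQ
    rw [Function.onFun, Finset.disjoint_left]
    intro g hgP hgQ
    simp only [t, Finset.mem_filter, Finset.mem_univ, true_and] at hgP hgQ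
    exact hPQ (hTI P Q g hgP.1 hgQ.1 hgP.2)
  have hcard : ∀ P, (t P).card = m - 1 := by
    intro P
    have h1 : t P = (Finset.univ.filter (fun g => g ∈ P)).erase 1 := by
      ext g
      simp only [t, Finset.mem_filter, Finset.mem_univ, true_and, Finset.mem_erase]
      tauto
    rw [h1, Finset.card_erase_of_mem (by simp [one_mem])]
    congr 1
    rw [← hm P, Nat.card_eq_fintype_card, Fintype.card_subtype]
    rfl
  have hsub : Finset.univ.biUnion t ⊆ T := by
    intro g hg
    rw [Finset.mem_biUnion] at hg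
    obtain ⟨P, _, hgP⟩ := hg
    simp only [t, Finset.mem_filter, Finset.mem_univ, true_and] at hgP
    exact hT P g hgP.1 hgP.2
  calc Nat.card (Sylow p G) * (m - 1) = ∑ P : Sylow p G, (t P).card := by
        simp [hcard, Nat.card_eq_fintype_card]
    _ = (Finset.univ.biUnion t).card := (Finset.card_biUnion hdisj).symm
    _ ≤ T.card := Finset.card_le_card hsub

/-- a group of exponent two is abelian -/
theorem comm_of_sq_eq_one (H : Subgroup G) (hH : ∀ a ∈ H, a * a = 1) (a b : G) (ha : a ∈ H)
    (hb : b ∈ H) : a * b = b * a := by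
  have h1 := hH (a * b) (mul_mem ha hb)
  have h2 := hH a ha
  have h3 := hH b hb
  have ha' : a⁻¹ = a := inv_eq_of_mul_eq_one_left h2
  have hb' : b⁻¹ = b := inv_eq_of_mul_eq_one_left h3
  calc a * b = (a * b)⁻¹ := (inv_eq_of_mul_eq_one_left h1).symm
    _ = b⁻¹ * a⁻¹ := mul_inv_rev _ _
    _ = b * a := by rw [ha', hb']

end general

end Cfsg.Agent.H9.Ord504
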