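import Mathlib
import Cfsg.Agent.H9.Ord504A

/-!
# Simple groups of order 504: local structure (helper9)
-/

set_option autoImplicit false
set_option linter.unusedSectionVars false

namespace Cfsg.Agent.H9.Ord504

open Subgroup Cfsg.Agent.Lib.Helper4.Sylow Cfsg.Agent.Lib.Helper4.Simple
  Cfsg.Agent.Lib.Helper4.AltEmbed

section s504

variable {G : Type*} [Group G] [Finite G] [IsSimpleGroup G]

omit [Group G] [Finite G] [IsSimpleGroup G] in
theorem not_prime_504 (h : Nat.card G = 504) : ¬ (Nat.card G).Prime := by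
  rw [h]; norm_num

theorem card_sylow7 (h : Nat.card G = 504) [Fact (Nat.Prime 7)] (P : Sylow 7 G) :
    Nat.card (P : Subgroup G) = 7 := by
  have := card_sylow_of_card_eq (p := 7) (a := 1) (m := 72) (by rw [h]; norm_num) (by norm_num) P
  simpa using this

theorem card_sylow3 (h : Nat.card G = 504) [Fact (Nat.Prime 3)] (P : Sylow 3 G) :
    Nat.card (P : Subgroup G) = 9 := by
  have := card_sylow_of_card_eq (p := 3) (a := 2) (m := 56) (by rw [h]; norm_num) (by norm_num) P
  simpa using this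

theorem card_sylow2 (h : Nat.card G = 504) [Fact (Nat.Prime 2)] (P : Sylow 2 G) :
    Nat.card (P : Subgroup G) = 8 := by
  have := card_sylow_of_card_eq (p := 2) (a := 3) (m := 63) (by rw [h]; norm_num) (by norm_num) P
  simpa using this

/-- every proper subgroup has index at least nine -/
theorem nine_le_index (h : Nat.card G = 504) (H : Subgroup G) (hH : H ≠ ⊤) : 9 ≤ H.index := by
  by_contra hlt
  push Not at hlt
  have h1 := card_dvd_factorial_of_simple H hH
  rw [h] at h1
  have h0 : H.index ≠ 0 := Subgroup.index_ne_zero_of_finite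
  have h78 : H.index = 7 ∨ H.index = 8 := by
    obtain ⟨k, hk⟩ : ∃ k, k = H.index := ⟨_, rfl⟩
    rw [← hk] at h1 hlt h0 ⊢
    interval_cases k
    · exact absurd rfl h0
    · exfalso; revert h1; decide
    · exfalso; revert h1; decide
    · exfalso; revert h1; decide
    · exfalso; revert h1; decide
    · exfalso; revert h1; decide
    · exfalso; revert h1; decide
    · left; rfl
    · right; rfl
  have hp7 : Fact (Nat.Prime 7) := ⟨by norm_num⟩
  obtain ⟨P⟩ : Nonempty (Sylow 7 G) := inferInstance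
  have hP := card_sylow7 h P
  have h2 := two_mul_card_normalizer_dvd (by rw [h]; norm_num) H hH 7 (by norm_num) h78 P hP
  have h3 := card_sylow_mul_card_normalizer P
  have h4 := card_sylow_modEq_one 7 G
  rw [h] at h3
  obtain ⟨N, hN⟩ : ∃ N, N = Nat.card (normalizer ((P : Subgroup G) : Set G)) := ⟨_, rfl⟩
  obtain ⟨n, hn⟩ : ∃ n, n = Nat.card (Sylow 7 G) := ⟨_, rfl⟩
  rw [← hN] at h2 h3
  rw [← hn] at h3 h4
  have h5 : N ∣ 21 := by
    have : 2 * N ∣ 2 * 21 := by simpa using h2
    exact Nat.dvd_of_mul_dvd_mul_left (by norm_num) this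
  have h6 : N ∈ Nat.divisors 21 := Nat.mem_divisors.2 ⟨h5, by norm_num⟩
  have h7 : Nat.divisors 21 = {1, 3, 7, 21} := by decide
  rw [h7] at h6
  simp only [Finset.mem_insert, Finset.mem_singleton] at h6
  unfold Nat.ModEq at h4
  rcases h6 with rfl | rfl | rfl | rfl <;> omega

theorem card_le_of_ne_top (h : Nat.card G = 504) (H : Subgroup G) (hH : H ≠ ⊤) :
    Nat.card H ≤ 56 := by
  have h1 := nine_le_index h H hH
  have h2 := H.card_mul_index
  rw [h] at h2
  by_contra hlt
  push Not at hlt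
  have : 57 * 9 ≤ Nat.card H * H.index := Nat.mul_le_mul hlt h1
  omega

theorem nine_le_card_sylow (h : Nat.card G = 504) {p : ℕ} [Fact p.Prime] (P : Sylow p G)
    (h1 : Nat.card (P : Subgroup G) ≠ 1) (h2 : Nat.card (P : Subgroup G) ≠ 504) :
    9 ≤ Nat.card (Sylow p G) := by
  have hne := card_sylow_ne_one_of_simple P h1 (by rw [h]; exact h2)
  rw [P.card_eq_index_normalizer] at hne ⊢
  apply nine_le_index h
  intro htop
  rw [htop, Subgroup.index_top] at hne
  exact hne rfl

theorem card_sylow_seven (h : Nat.card G = 504) [Fact (Nat.Prime 7)] :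
    Nat.card (Sylow 7 G) = 36 := by
  obtain ⟨P⟩ : Nonempty (Sylow 7 G) := inferInstance
  have h1 := nine_le_card_sylow h P (by rw [card_sylow7 h P]; norm_num)
    (by rw [card_sylow7 h P]; norm_num)
  have h2 : Nat.card (Sylow 7 G) ∣ 72 :=
    card_sylow_dvd_of_card_eq (p := 7) (a := 1) (m := 72) (by rw [h]; norm_num) (by norm_num)
  have h3 := card_sylow_modEq_one 7 G
  obtain ⟨n, hn⟩ : ∃ n, n = Nat.card (Sylow 7 G) := ⟨_, rfl⟩
  rw [← hn] at h1 h2 h3 ⊢
  have h6 : n ∈ Nat.divisors 72 := Nat.mem_divisors.2 ⟨h2, by norm_num⟩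
  have h7 : Nat.divisors 72 = {1, 2, 3, 4, 6, 8, 9, 12, 18, 24, 36, 72} := by decide
  rw [h7] at h6
  simp only [Finset.mem_insert, Finset.mem_singleton] at h6
  unfold Nat.ModEq at h3
  rcases h6 with rfl | rfl | rfl | rfl | rfl | rfl | rfl | rfl | rfl | rfl | rfl | rfl <;> omega

theorem card_sylow_three (h : Nat.card G = 504) [Fact (Nat.Prime 3)] :
    Nat.card (Sylow 3 G) = 28 := by
  obtain ⟨P⟩ : Nonempty (Sylow 3 G) := inferInstance
  have h1 := nine_le_card_sylow h P (by rw [card_sylow3 h P]; norm_num)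
    (by rw [card_sylow3 h P]; norm_num)
  have h2 : Nat.card (Sylow 3 G) ∣ 56 :=
    card_sylow_dvd_of_card_eq (p := 3) (a := 2) (m := 56) (by rw [h]; norm_num) (by norm_num)
  have h3 := card_sylow_modEq_one 3 G
  obtain ⟨n, hn⟩ : ∃ n, n = Nat.card (Sylow 3 G) := ⟨_, rfl⟩
  rw [← hn] at h1 h2 h3 ⊢
  have h6 : n ∈ Nat.divisors 56 := Nat.mem_divisors.2 ⟨h2, by norm_num⟩
  have h7 : Nat.divisors 56 = {1, 2, 4, 7, 8, 14, 28, 56} := by decide
  rw [h7] at h6
  simp only [Finset.mem_insert, Finset.mem_singleton] at h6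
  unfold Nat.ModEq at h3
  rcases h6 with rfl | rfl | rfl | rfl | rfl | rfl | rfl | rfl <;> omega

theorem nine_le_card_sylow_two (h : Nat.card G = 504) [Fact (Nat.Prime 2)] :
    9 ≤ Nat.card (Sylow 2 G) := by
  obtain ⟨P⟩ : Nonempty (Sylow 2 G) := inferInstance
  exact nine_le_card_sylow h P (by rw [card_sylow2 h P]; norm_num)
    (by rw [card_sylow2 h P]; norm_num)

theorem card_normalizer_sylow7 (h : Nat.card G = 504) [Fact (Nat.Prime 7)] (P : Sylow 7 G) :
    Nat.card (normalizer ((P : Subgroup G) : Set G)) = 14 := by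
  have h3 := card_sylow_mul_card_normalizer P
  rw [h, card_sylow_seven h] at h3
  omega

theorem card_normalizer_sylow3 (h : Nat.card G = 504) [Fact (Nat.Prime 3)] (P : Sylow 3 G) :
    Nat.card (normalizer ((P : Subgroup G) : Set G)) = 18 := by
  have h3 := card_sylow_mul_card_normalizer P
  rw [h, card_sylow_three h] at h3
  omega

/-- elements of order seven are self-centralizing -/
theorem mem_zpowers_of_commute_seven (h : Nat.card G = 504) (x : G) (hx : orderOf x = 7) (g : G)
    (hg : g * x = x * g) : g ∈ zpowers x := by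
  have hp7 : Fact (Nat.Prime 7) := ⟨by norm_num⟩
  have hpg : IsPGroup 7 (zpowers x) := by
    apply IsPGroup.of_card (n := 1)
    rw [Nat.card_zpowers, hx, pow_one]
  obtain ⟨P, hP⟩ := hpg.exists_le_sylow
  have hPz : zpowers x = (P : Subgroup G) := by
    apply Subgroup.eq_of_le_of_card_ge hP
    rw [card_sylow7 h P, Nat.card_zpowers, hx]
  have hN := card_normalizer_sylow7 h P
  have hCN : centralizer ((P : Subgroup G) : Set G) ≤ normalizer ((P : Subgroup G) : Set G) :=
    Subgroup.centralizer_le_normalizer _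
  have hPC : (P : Subgroup G) ≤ centralizer ((P : Subgroup G) : Set G) := by
    rw [← hPz]
    intro a ha
    rw [Subgroup.mem_centralizer_iff]
    intro b hb
    obtain ⟨i, rfl⟩ := Subgroup.mem_zpowers_iff.1 ha
    obtain ⟨j, rfl⟩ := Subgroup.mem_zpowers_iff.1 hb
    exact ((Commute.refl x).zpow_zpow j i).eq
  have hd1 : 7 ∣ Nat.card (centralizer ((P : Subgroup G) : Set G)) := by
    have := Subgroup.card_dvd_of_le hPC
    rwa [card_sylow7 h P] at this
  have hd2 : Nat.card (centralizer ((P : Subgroup G) : Set G)) ∣ 14 := by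
    rw [← hN]
    exact Subgroup.card_dvd_of_le hCN
  have hne : Nat.card (centralizer ((P : Subgroup G) : Set G)) ≠ 14 := by
    intro h14
    have heq : centralizer ((P : Subgroup G) : Set G) = normalizer ((P : Subgroup G) : Set G) := by
      apply Subgroup.eq_of_le_of_card_ge hCN
      rw [h14, hN]
    apply false_of_simple_of_normalizer_le_centralizer P (le_of_eq heq.symm)
    · rw [card_sylow7 h P]; norm_num
    · rw [card_sylow7 h P, h]; norm_num
  have h7 : Nat.card (centralizer ((P : Subgroup G) : Set G)) = 7 := by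
    obtain ⟨c, hc⟩ : ∃ c, c = Nat.card (centralizer ((P : Subgroup G) : Set G)) := ⟨_, rfl⟩
    rw [← hc] at hd1 hd2 hne ⊢
    have h6 : c ∈ Nat.divisors 14 := Nat.mem_divisors.2 ⟨hd2, by norm_num⟩
    have h7 : Nat.divisors 14 = {1, 2, 7, 14} := by decide
    rw [h7] at h6
    simp only [Finset.mem_insert, Finset.mem_singleton] at h6
    rcases h6 with rfl | rfl | rfl | rfl <;> omega
  have hCP : (P : Subgroup G) = centralizer ((P : Subgroup G) : Set G) := by
    apply Subgroup.eq_of_le_of_card_ge hPC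
    rw [h7, card_sylow7 h P]
  rw [hPz, hCP, Subgroup.mem_centralizer_iff]
  intro b hb
  rw [← hPz] at hb
  obtain ⟨j, rfl⟩ := Subgroup.mem_zpowers_iff.1 hb
  exact ((Commute.zpow_right (show Commute g x from hg) j).eq).symm


omit [Finite G] [IsSimpleGroup G] in
theorem card_mul_relIndex_of_le {H K : Subgroup G} (hHK : H ≤ K) :
    Nat.card H * H.relIndex K = Nat.card K := by
  have := Subgroup.relIndex_mul_relIndex ⊥ H K bot_le hHK
  rwa [Subgroup.relIndex_bot_left, Subgroup.relIndex_bot_left] at this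

/-- Sylow 3-subgroups are abelian -/
theorem comm_sylow3 (h : Nat.card G = 504) [Fact (Nat.Prime 3)] (P : Sylow 3 G) :
    ∀ a ∈ P, ∀ b ∈ P, a * b = b * a := by
  intro a ha b hb
  have := IsPGroup.isMulCommutative_of_card_eq_prime_sq (p := 3) (G := ↥(P : Subgroup G))
    (by rw [card_sylow3 h P]; norm_num)
  exact congrArg Subtype.val (this.is_comm.comm ⟨a, ha⟩ ⟨b, hb⟩)

/-- the involution of the normalizer of a Sylow 3-subgroup inverts it -/
theorem exists_inverting (h : Nat.card G = 504) [Fact (Nat.Prime 3)] (P : Sylow 3 G) :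
    ∃ s ∈ normalizer ((P : Subgroup G) : Set G), s * s = 1 ∧ s ≠ 1 ∧
      ∀ a ∈ P, s * a * s⁻¹ = a⁻¹ := by
  have hN := card_normalizer_sylow3 h P
  have hp2 : Fact (Nat.Prime 2) := ⟨Nat.prime_two⟩
  obtain ⟨s', hs'⟩ := exists_prime_orderOf_dvd_card'
    (G := ↥(normalizer ((P : Subgroup G) : Set G))) 2 (by rw [hN]; norm_num)
  have hs2o : orderOf (s' : G) = 2 := by rw [Subgroup.orderOf_coe, hs']
  have hs2 : (s' : G) * (s' : G) = 1 := by
    rw [← pow_two, ← hs2o]
    exact pow_orderOf_eq_one _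
  have hs1 : (s' : G) ≠ 1 := by
    intro h1
    rw [h1, orderOf_one] at hs2o
    omega
  have hsP : (s' : G) ∉ (P : Subgroup G) := by
    intro hsP
    have h1 : orderOf (⟨(s' : G), hsP⟩ : ↥(P : Subgroup G)) ∣ Nat.card ↥(P : Subgroup G) :=
      orderOf_dvd_natCard _
    rw [Subgroup.orderOf_mk, hs2o, card_sylow3 h P] at h1
    omega
  have hrel : (P : Subgroup G).relIndex (normalizer ((P : Subgroup G) : Set G)) = 2 := by
    have := card_mul_relIndex_of_le (Subgroup.le_normalizer (H := (P : Subgroup G)))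
    rw [hN, card_sylow3 h P] at this
    omega
  refine ⟨s', s'.2, hs2, hs1, ?_⟩
  apply inverts_of_index_two (not_prime_504 h) P (comm_sylow3 h P) s' s'.2 hs2
  intro n hn
  by_cases hnP : n ∈ (P : Subgroup G)
  · exact Or.inl hnP
  · right
    have := Subgroup.mul_mem_iff_of_index_two (H := (P : Subgroup G).subgroupOf
      (normalizer ((P : Subgroup G) : Set G))) hrel (a := ⟨n, hn⟩) (b := s')
    rw [Subgroup.mem_subgroupOf, Subgroup.mem_subgroupOf, Subgroup.mem_subgroupOf] at this
    exact this.2 ⟨fun hh => absurd hh hnP, fun hh => absurd hh hsP⟩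

/-- nonidentity `3`-elements are self-centralizing in their Sylow subgroup -/
theorem mem_sylow3_of_commute (h : Nat.card G = 504) [Fact (Nat.Prime 3)] (P : Sylow 3 G) (u : G)
    (hu : u ∈ P) (hu1 : u ≠ 1) (g : G) (hg : g * u = u * g) : g ∈ P := by
  obtain ⟨s, hsN, hs2, hs1, hinv⟩ := exists_inverting h P
  have hsinv : s⁻¹ = s := inv_eq_of_mul_eq_one_left hs2
  have hu9 : u ^ 9 = 1 := by
    have := pow_card_eq_one' (G := ↥(P : Subgroup G)) (x := ⟨u, hu⟩)
    rw [card_sylow3 h P] at this
    exact congrArg Subtype.val this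
  have ho9 : orderOf u ∣ 9 := orderOf_dvd_of_pow_eq_one hu9
  have ho1 : orderOf u ≠ 1 := fun h1 => hu1 (orderOf_eq_one_iff.1 h1)
  obtain ⟨C, hC⟩ : ∃ C, C = centralizer ({u} : Set G) := ⟨_, rfl⟩
  have hPC : (P : Subgroup G) ≤ C := by
    intro a ha
    rw [hC, Subgroup.mem_centralizer_singleton_iff]
    exact comm_sylow3 h P a ha u hu
  have hsC : s ∉ C := by
    intro hsC
    rw [hC, Subgroup.mem_centralizer_singleton_iff] at hsC
    have h1 := hinv u hu
    rw [hsC, mul_inv_cancel_right] at h1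
    have h2 : u ^ 2 = 1 := by
      rw [pow_two]
      nth_rewrite 1 [h1]
      exact inv_mul_cancel u
    have := orderOf_dvd_of_pow_eq_one h2
    have h3 : orderOf u ∣ Nat.gcd 2 9 := Nat.dvd_gcd this ho9
    norm_num at h3
    exact hu1 h3
  have hCtop : C ≠ ⊤ := by
    intro htop
    apply hsC
    rw [htop]
    trivial
  -- the normalizer of `⟨u⟩`
  obtain ⟨M, hM⟩ : ∃ M, M = normalizer ((zpowers u : Subgroup G) : Set G) := ⟨_, rfl⟩
  have hfix : ∀ c ∈ C, ∀ m ∈ zpowers u, c * m * c⁻¹ = m := by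
    intro c hc m hm
    rw [hC, Subgroup.mem_centralizer_singleton_iff] at hc
    obtain ⟨j, rfl⟩ := Subgroup.mem_zpowers_iff.1 hm
    have : c * u ^ j = u ^ j * c := (Commute.zpow_right (show Commute c u from hc) j).eq
    rw [this, mul_inv_cancel_right]
  have hCM : C ≤ M := by
    intro c hc
    rw [hM, Subgroup.mem_set_normalizer_iff]
    intro n
    constructor
    · intro hn
      rw [hfix c hc n hn]
      exact hn
    · intro hn
      have h1 := hfix c⁻¹ (inv_mem hc) _ hn
      have h2 : c⁻¹ * (c * n * c⁻¹) * c⁻¹⁻¹ = n := by group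
      rw [h2] at h1
      rw [h1]
      exact hn
  have hsfix : ∀ m ∈ zpowers u, s * m * s⁻¹ ∈ zpowers u := by
    intro m hm
    obtain ⟨j, rfl⟩ := Subgroup.mem_zpowers_iff.1 hm
    have h1 : s * u ^ j * s⁻¹ = (s * u * s⁻¹) ^ j := by
      rw [conj_zpow]
    rw [h1, hinv u hu]
    exact Subgroup.zpow_mem _ (inv_mem (Subgroup.mem_zpowers u)) j
  have hsM : s ∈ M := by
    rw [hM, Subgroup.mem_set_normalizer_iff]
    intro n
    constructor
    · exact hsfix n
    · intro hn
      have h1 := hsfix _ hn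
      have h2 : s * (s * n * s⁻¹) * s⁻¹ = n := by
        rw [hsinv]
        calc s * (s * n * s) * s = (s * s) * n * (s * s) := by group
          _ = n := by rw [hs2, one_mul, mul_one]
      rwa [h2] at h1
  have hMtop : M ≠ ⊤ := by
    intro htop
    rw [hM, Subgroup.normalizer_eq_top_iff] at htop
    rcases htop.eq_bot_or_eq_top with hb | ht
    · apply hu1
      have : u ∈ (⊥ : Subgroup G) := by rw [← hb]; exact Subgroup.mem_zpowers u
      exact Subgroup.mem_bot.1 this
    · have h1 : Nat.card (zpowers u) = 504 := by rw [ht, Subgroup.card_top, h]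
      rw [Nat.card_zpowers] at h1
      rw [h1] at ho9
      omega
  have hM56 := card_le_of_ne_top h M hMtop
  have hCdM : Nat.card C ∣ Nat.card M := Subgroup.card_dvd_of_le hCM
  have hCneM : Nat.card C ≠ Nat.card M := by
    intro heq
    apply hsC
    have : C = M := Subgroup.eq_of_le_of_card_ge hCM (le_of_eq heq.symm)
    rw [this]
    exact hsM
  have h9C : 9 ∣ Nat.card C := by
    have := Subgroup.card_dvd_of_le hPC
    rwa [card_sylow3 h P] at this
  have hC504 : Nat.card C ∣ 504 := by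
    rw [← h]
    exact Subgroup.card_subgroup_dvd_card C
  have h7C : ¬ 7 ∣ Nat.card C := by
    intro h7
    have hp7 : Fact (Nat.Prime 7) := ⟨by norm_num⟩
    obtain ⟨⟨x, hxC⟩, hx⟩ := exists_prime_orderOf_dvd_card' (G := ↥C) 7 h7
    have hx7 : orderOf x = 7 := by rw [← hx, Subgroup.orderOf_mk]
    clear hx
    have hxu : x * u = u * x := by
      rw [hC, Subgroup.mem_centralizer_singleton_iff] at hxC
      exact hxC
    have h1 := mem_zpowers_of_commute_seven h x hx7 u hxu.symm
    have h2 : orderOf u ∣ 7 := by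
      rw [← hx7]
      exact orderOf_dvd_of_mem_zpowers h1
    have h3 : orderOf u ∣ Nat.gcd 7 9 := Nat.dvd_gcd h2 ho9
    norm_num at h3
    exact hu1 h3
  have hCpos : 0 < Nat.card C := Nat.card_pos
  have hMpos : 0 < Nat.card M := Nat.card_pos
  have hcases : Nat.card C = 9 ∨ Nat.card C = 18 := by
    obtain ⟨c, hc⟩ : ∃ c, c = Nat.card C := ⟨_, rfl⟩
    obtain ⟨m, hm⟩ : ∃ m, m = Nat.card M := ⟨_, rfl⟩
    rw [← hc] at hCdM hCneM h9C hC504 h7C hCpos ⊢
    rw [← hm] at hCdM hCneM hM56 hMpos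
    obtain ⟨k, hk⟩ := hCdM
    have hk2 : 2 ≤ k := by
      rcases k with _ | _ | k
      · omega
      · omega
      · omega
    have hc28 : c ≤ 28 := by nlinarith
    obtain ⟨j, hj⟩ := h9C
    have hj3 : j ≤ 3 := by omega
    interval_cases j
    · omega
    · left; omega
    · right; omega
    · exfalso
      rw [hj] at hC504
      revert hC504
      decide
  have hcard9 : Nat.card C = 9 := by
    rcases hcases with h9 | h18
    · exact h9
    · exfalso
      have hrel : (P : Subgroup G).relIndex C = 2 := by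
        have := card_mul_relIndex_of_le hPC
        rw [h18, card_sylow3 h P] at this
        omega
      have hCN := le_normalizer_of_relIndex_two hPC hrel
      have : C = normalizer ((P : Subgroup G) : Set G) := by
        apply Subgroup.eq_of_le_of_card_ge hCN
        rw [h18, card_normalizer_sylow3 h P]
      apply hsC
      rw [this]
      exact hsN
  have hPeq : (P : Subgroup G) = C := by
    apply Subgroup.eq_of_le_of_card_ge hPC
    rw [hcard9, card_sylow3 h P]
  show g ∈ (P : Subgroup G)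
  rw [hPeq, hC, Subgroup.mem_centralizer_singleton_iff]
  exact hg


/-- a nonidentity central element of a Sylow `2`-subgroup has that subgroup as centralizer -/
theorem mem_sylow2_of_commute (h : Nat.card G = 504) [Fact (Nat.Prime 2)] (T : Sylow 2 G) (w : G)
    (hw : w ∈ T) (hw1 : w ≠ 1) (hcent : ∀ a ∈ T, a * w = w * a) (g : G) (hg : g * w = w * g) :
    g ∈ T := by
  have hw8 : w ^ 8 = 1 := by
    have := pow_card_eq_one' (G := ↥(T : Subgroup G)) (x := ⟨w, hw⟩)
    rw [card_sylow2 h T] at this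
    exact congrArg Subtype.val this
  have ho8 : orderOf w ∣ 8 := orderOf_dvd_of_pow_eq_one hw8
  obtain ⟨C, hC⟩ : ∃ C, C = centralizer ({w} : Set G) := ⟨_, rfl⟩
  have hTC : (T : Subgroup G) ≤ C := by
    intro a ha
    rw [hC, Subgroup.mem_centralizer_singleton_iff]
    exact hcent a ha
  have h8C : 8 ∣ Nat.card C := by
    have := Subgroup.card_dvd_of_le hTC
    rwa [card_sylow2 h T] at this
  have hC504 : Nat.card C ∣ 8 * 63 := by
    have := Subgroup.card_subgroup_dvd_card C
    rwa [h] at this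
  have h7C : ¬ 7 ∣ Nat.card C := by
    intro h7
    have hp7 : Fact (Nat.Prime 7) := ⟨by norm_num⟩
    obtain ⟨⟨x, hxC⟩, hx⟩ := exists_prime_orderOf_dvd_card' (G := ↥C) 7 h7
    have hx7 : orderOf x = 7 := by rw [← hx, Subgroup.orderOf_mk]
    clear hx
    have hxu : x * w = w * x := by
      rw [hC, Subgroup.mem_centralizer_singleton_iff] at hxC
      exact hxC
    have h1 := mem_zpowers_of_commute_seven h x hx7 w hxu.symm
    have h2 : orderOf w ∣ 7 := by
      rw [← hx7]
      exact orderOf_dvd_of_mem_zpowers h1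
    have h3 : orderOf w ∣ Nat.gcd 7 8 := Nat.dvd_gcd h2 ho8
    norm_num at h3
    exact hw1 h3
  have h3C : ¬ 3 ∣ Nat.card C := by
    intro h3
    have hp3 : Fact (Nat.Prime 3) := ⟨by norm_num⟩
    obtain ⟨⟨x, hxC⟩, hx⟩ := exists_prime_orderOf_dvd_card' (G := ↥C) 3 h3
    have hx3 : orderOf x = 3 := by rw [← hx, Subgroup.orderOf_mk]
    clear hx
    have hxu : x * w = w * x := by
      rw [hC, Subgroup.mem_centralizer_singleton_iff] at hxC
      exact hxC
    have hpg : IsPGroup 3 (zpowers x) := by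
      apply IsPGroup.of_card (n := 1)
      rw [Nat.card_zpowers, hx3, pow_one]
    obtain ⟨P, hP⟩ := hpg.exists_le_sylow
    have hxP : x ∈ P := hP (Subgroup.mem_zpowers x)
    have hx1 : x ≠ 1 := by
      intro h1
      rw [h1, orderOf_one] at hx3
      omega
    have hwP := mem_sylow3_of_commute h P x hxP hx1 w hxu.symm
    have hw9 : w ^ 9 = 1 := by
      have := pow_card_eq_one' (G := ↥(P : Subgroup G)) (x := ⟨w, hwP⟩)
      rw [card_sylow3 h P] at this
      exact congrArg Subtype.val this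
    have h2 : orderOf w ∣ 9 := orderOf_dvd_of_pow_eq_one hw9
    have h4 : orderOf w ∣ Nat.gcd 9 8 := Nat.dvd_gcd h2 ho8
    norm_num at h4
    exact hw1 h4
  have hcop : Nat.Coprime (Nat.card C) 63 := by
    have h3' : Nat.Coprime (Nat.card C) 3 :=
      (Nat.Coprime.symm ((Nat.Prime.coprime_iff_not_dvd (by norm_num)).2 h3C))
    have h7' : Nat.Coprime (Nat.card C) 7 :=
      (Nat.Coprime.symm ((Nat.Prime.coprime_iff_not_dvd (by norm_num)).2 h7C))
    have : (63 : ℕ) = 3 * 3 * 7 := by norm_num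
    rw [this]
    exact Nat.Coprime.mul_right (Nat.Coprime.mul_right h3' h3') h7'
  have hC8 : Nat.card C ∣ 8 := Nat.Coprime.dvd_of_dvd_mul_right hcop hC504
  have hcard : Nat.card C = 8 := Nat.dvd_antisymm hC8 h8C
  have hTeq : (T : Subgroup G) = C := by
    apply Subgroup.eq_of_le_of_card_ge hTC
    rw [hcard, card_sylow2 h T]
  show g ∈ (T : Subgroup G)
  rw [hTeq, hC, Subgroup.mem_centralizer_singleton_iff]
  exact hg

/-- a central involution with `63` conjugates -/
theorem exists_class (h : Nat.card G = 504) :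
    ∃ z : G, z * z = 1 ∧ z ≠ 1 ∧ Nat.card {x : G // ∃ g : G, g * z * g⁻¹ = x} = 63 := by
  have hp2 : Fact (Nat.Prime 2) := ⟨Nat.prime_two⟩
  obtain ⟨S⟩ : Nonempty (Sylow 2 G) := inferInstance
  have hS8 := card_sylow2 h S
  have hnt : Nontrivial ↥(S : Subgroup G) := by
    rw [← Finite.one_lt_card_iff_nontrivial, hS8]
    norm_num
  have hcnt : Nontrivial (Subgroup.center ↥(S : Subgroup G)) := S.2.center_nontrivial
  have hpc : IsPGroup 2 (Subgroup.center ↥(S : Subgroup G)) := S.2.to_subgroup _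
  have h2c : 2 ∣ Nat.card (Subgroup.center ↥(S : Subgroup G)) := by
    rcases hpc.card_eq_or_dvd with h1 | h1
    · exfalso
      rw [← Finite.one_lt_card_iff_nontrivial, h1] at hcnt
      omega
    · exact h1
  obtain ⟨⟨⟨z, hzS⟩, hzc⟩, hz⟩ := exists_prime_orderOf_dvd_card'
    (G := ↥(Subgroup.center ↥(S : Subgroup G))) 2 h2c
  have hz2 : orderOf z = 2 := by
    rw [← hz, Subgroup.orderOf_mk, Subgroup.orderOf_mk]
  clear hz
  have hzz : z * z = 1 := by
    rw [← pow_two, ← hz2]
    exact pow_orderOf_eq_one _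
  have hz1 : z ≠ 1 := by
    intro h1
    rw [h1, orderOf_one] at hz2
    omega
  have hcent : ∀ a ∈ S, a * z = z * a := by
    intro a ha
    rw [Subgroup.mem_center_iff] at hzc
    exact congrArg Subtype.val (hzc ⟨a, ha⟩)
  have hCS : centralizer ({z} : Set G) = (S : Subgroup G) := by
    apply le_antisymm
    · intro g hg
      rw [Subgroup.mem_centralizer_singleton_iff] at hg
      exact mem_sylow2_of_commute h S z hzS hz1 hcent g hg
    · intro a ha
      rw [Subgroup.mem_centralizer_singleton_iff]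
      exact hcent a ha
  refine ⟨z, hzz, hz1, ?_⟩
  have := card_centralizer_mul_card_conj z
  rw [hCS, hS8, h] at this
  omega


/-- there are at most `63` nonidentity `2`-elements -/
theorem card_two_elements_le (h : Nat.card G = 504) [Fintype G] [DecidableEq G] :
    (Finset.univ.filter (fun g : G => g ≠ 1 ∧ g ^ 8 = 1)).card ≤ 63 := by
  have hp7 : Fact (Nat.Prime 7) := ⟨by norm_num⟩
  have hp3 : Fact (Nat.Prime 3) := ⟨by norm_num⟩
  obtain ⟨T7, hT7⟩ : ∃ T7, T7 = Finset.univ.filter (fun g : G => orderOf g = 7) := ⟨_, rfl⟩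
  obtain ⟨T3, hT3⟩ : ∃ T3, T3 = Finset.univ.filter (fun g : G => g ≠ 1 ∧ g ^ 9 = 1) := ⟨_, rfl⟩
  obtain ⟨T2, hT2⟩ : ∃ T2, T2 = Finset.univ.filter (fun g : G => g ≠ 1 ∧ g ^ 8 = 1) := ⟨_, rfl⟩
  rw [← hT2]
  -- elements of a Sylow `7`-subgroup
  have key7 : ∀ P : Sylow 7 G, ∀ g ∈ P, g ≠ 1 → orderOf g = 7 ∧ zpowers g = (P : Subgroup G) := by
    intro P g hg hg1
    have h1 : g ^ 7 = 1 := by
      have := pow_card_eq_one' (G := ↥(P : Subgroup G)) (x := ⟨g, hg⟩)
      rw [card_sylow7 h P] at this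
      exact congrArg Subtype.val this
    have h2 : orderOf g = 7 := by
      have h3 : orderOf g ∣ 7 := orderOf_dvd_of_pow_eq_one h1
      rcases (Nat.dvd_prime (by norm_num : Nat.Prime 7)).1 h3 with h4 | h4
      · exact absurd (orderOf_eq_one_iff.1 h4) hg1
      · exact h4
    refine ⟨h2, ?_⟩
    apply Subgroup.eq_of_le_of_card_ge
    · rw [Subgroup.zpowers_le]; exact hg
    · rw [Nat.card_zpowers, h2, card_sylow7 h P]
  have c7 : 36 * 6 ≤ T7.card := by
    have := sylow_count (p := 7) 7 (fun P => card_sylow7 h P) (fun P Q g hgP hgQ hg1 => by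
      apply Sylow.ext
      rw [← (key7 P g hgP hg1).2, ← (key7 Q g hgQ hg1).2]) T7 (fun P g hg hg1 => by
      rw [hT7, Finset.mem_filter]
      exact ⟨Finset.mem_univ _, (key7 P g hg hg1).1⟩)
    rwa [card_sylow_seven h] at this
  have c3 : 28 * 8 ≤ T3.card := by
    have := sylow_count (p := 3) 9 (fun P => card_sylow3 h P) (fun P Q g hgP hgQ hg1 => by
      apply Sylow.ext
      symm
      apply Subgroup.eq_of_le_of_card_ge
      · intro a ha
        exact mem_sylow3_of_commute h P g hgP hg1 a (comm_sylow3 h Q a ha g hgQ)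
      · rw [card_sylow3 h P, card_sylow3 h Q]) T3 (fun P g hg hg1 => by
      rw [hT3, Finset.mem_filter]
      refine ⟨Finset.mem_univ _, hg1, ?_⟩
      have := pow_card_eq_one' (G := ↥(P : Subgroup G)) (x := ⟨g, hg⟩)
      rw [card_sylow3 h P] at this
      exact congrArg Subtype.val this)
    rwa [card_sylow_three h] at this
  have d1 : Disjoint T7 T3 := by
    rw [Finset.disjoint_left]
    intro g h7 h3
    rw [hT7, Finset.mem_filter] at h7
    rw [hT3, Finset.mem_filter] at h3
    have := orderOf_dvd_of_pow_eq_one h3.2.2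
    rw [h7.2] at this
    omega
  have d2 : Disjoint (T7 ∪ T3) T2 := by
    rw [Finset.disjoint_left]
    intro g h73 h2
    rw [hT2, Finset.mem_filter] at h2
    rw [Finset.mem_union] at h73
    rcases h73 with h7 | h3
    · rw [hT7, Finset.mem_filter] at h7
      have := orderOf_dvd_of_pow_eq_one h2.2.2
      rw [h7.2] at this
      omega
    · rw [hT3, Finset.mem_filter] at h3
      apply h2.2.1
      calc g = g ^ 9 * (g ^ 8)⁻¹ := by group
        _ = 1 := by rw [h3.2.2, h2.2.2, inv_one, mul_one]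
  have d3 : Disjoint (T7 ∪ T3 ∪ T2) {1} := by
    rw [Finset.disjoint_singleton_right, Finset.mem_union, Finset.mem_union]
    rintro ((h7 | h3) | h2)
    · rw [hT7, Finset.mem_filter, orderOf_one] at h7
      omega
    · rw [hT3, Finset.mem_filter] at h3
      exact h3.2.1 rfl
    · rw [hT2, Finset.mem_filter] at h2
      exact h2.2.1 rfl
  have htot : (T7 ∪ T3 ∪ T2 ∪ {1}).card ≤ 504 := by
    rw [← h, Nat.card_eq_fintype_card]
    exact Finset.card_le_univ _
  rw [Finset.card_union_of_disjoint d3, Finset.card_union_of_disjoint d2,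
    Finset.card_union_of_disjoint d1, Finset.card_singleton] at htot
  omega

/-- every `2`-element is an involution -/
theorem sq_eq_one_of_pow_eight (h : Nat.card G = 504) (w : G) (hw : w ^ 8 = 1) : w * w = 1 := by
  classical
  have : Fintype G := Fintype.ofFinite G
  by_cases hw1 : w = 1
  · rw [hw1, one_mul]
  obtain ⟨z, hzz, hz1, hcard⟩ := exists_class h
  have hz8 : z ^ 8 = 1 := by
    have : z ^ 2 = 1 := by rw [pow_two, hzz]
    calc z ^ 8 = (z ^ 2) ^ 4 := by rw [← pow_mul]
      _ = 1 := by rw [this, one_pow]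
  obtain ⟨Z, hZ⟩ : ∃ Z, Z = Finset.univ.filter (fun x : G => ∃ g : G, g * z * g⁻¹ = x) :=
    ⟨_, rfl⟩
  obtain ⟨T2, hT2⟩ : ∃ T2, T2 = Finset.univ.filter (fun g : G => g ≠ 1 ∧ g ^ 8 = 1) := ⟨_, rfl⟩
  have hZc : Z.card = 63 := by
    rw [← hcard, Nat.card_eq_fintype_card, Fintype.card_subtype, hZ]
  have hsub : Z ⊆ T2 := by
    intro x hx
    rw [hZ, Finset.mem_filter] at hx
    obtain ⟨-, g, rfl⟩ := hx
    rw [hT2, Finset.mem_filter]
    refine ⟨Finset.mem_univ _, ?_, ?_⟩
    · intro h1
      apply hz1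
      calc z = g⁻¹ * (g * z * g⁻¹) * g := by group
        _ = 1 := by rw [h1]; group
    · rw [conj_pow, hz8]; group
  have hle : T2.card ≤ Z.card := by
    rw [hZc, hT2]
    exact card_two_elements_le h
  have heq : Z = T2 := Finset.eq_of_subset_of_card_le hsub hle
  have hwT : w ∈ T2 := by
    rw [hT2, Finset.mem_filter]
    exact ⟨Finset.mem_univ _, hw1, hw⟩
  rw [← heq, hZ, Finset.mem_filter] at hwT
  obtain ⟨-, g, rfl⟩ := hwT
  calc g * z * g⁻¹ * (g * z * g⁻¹) = g * (z * z) * g⁻¹ := by group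
    _ = 1 := by rw [hzz]; group

/-- Sylow `2`-subgroups are abelian -/
theorem comm_sylow2 (h : Nat.card G = 504) [Fact (Nat.Prime 2)] (T : Sylow 2 G) :
    ∀ a ∈ T, ∀ b ∈ T, a * b = b * a := by
  intro a ha b hb
  apply comm_of_sq_eq_one (T : Subgroup G) _ a b ha hb
  intro c hc
  apply sq_eq_one_of_pow_eight h
  have := pow_card_eq_one' (G := ↥(T : Subgroup G)) (x := ⟨c, hc⟩)
  rw [card_sylow2 h T] at this
  exact congrArg Subtype.val this

/-- Sylow `2`-subgroups intersect trivially -/
theorem sylow2_TI (h : Nat.card G = 504) [Fact (Nat.Prime 2)] (T₁ T₂ : Sylow 2 G) (w : G)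
    (hw₁ : w ∈ T₁) (hw₂ : w ∈ T₂) (hw1 : w ≠ 1) : T₁ = T₂ := by
  apply Sylow.ext
  symm
  apply Subgroup.eq_of_le_of_card_ge
  · intro a ha
    exact mem_sylow2_of_commute h T₁ w hw₁ hw1 (fun b hb => comm_sylow2 h T₁ b hb w hw₁) a
      (comm_sylow2 h T₂ a ha w hw₂)
  · rw [card_sylow2 h T₁, card_sylow2 h T₂]

/-- there are nine Sylow `2`-subgroups -/
theorem card_sylow_two (h : Nat.card G = 504) [Fact (Nat.Prime 2)] :
    Nat.card (Sylow 2 G) = 9 := by
  classical
  have : Fintype G := Fintype.ofFinite G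
  have h1 := nine_le_card_sylow_two h
  have h2 := sylow_count (p := 2) 8 (fun P => card_sylow2 h P) (sylow2_TI h)
    (Finset.univ.filter (fun g : G => g ≠ 1 ∧ g ^ 8 = 1)) (fun P g hg hg1 => by
      rw [Finset.mem_filter]
      refine ⟨Finset.mem_univ _, hg1, ?_⟩
      have := pow_card_eq_one' (G := ↥(P : Subgroup G)) (x := ⟨g, hg⟩)
      rw [card_sylow2 h P] at this
      exact congrArg Subtype.val this)
  have h3 := card_two_elements_le h
  omega

theorem card_normalizer_sylow2 (h : Nat.card G = 504) [Fact (Nat.Prime 2)] (P : Sylow 2 G) :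
    Nat.card (normalizer ((P : Subgroup G) : Set G)) = 56 := by
  have h3 := card_sylow_mul_card_normalizer P
  rw [h, card_sylow_two h] at h3
  omega


end s504

end Cfsg.Agent.H9.Ord504
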