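import Mathlib
import Cfsg.Agent.H9.Ord504B
import Cfsg.Agent.H2.SharpThreeB
import Cfsg.Agent.Lib.Helper8.SUTransport
import Cfsg.Agent.H9.A4Char2

/-!
# Simple groups of order 504: the action on the nine Sylow 2-subgroups (helper9)
-/

set_option autoImplicit false
set_option linter.unusedSectionVars false

namespace Cfsg.Agent.H9.Ord504

open Subgroup MulAction

section s504

variable {G : Type*} [Group G] [Finite G] [IsSimpleGroup G]

/-- the action on the Sylow `2`-subgroups is faithful -/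
theorem eq_one_of_fix_all (h : Nat.card G = 504) [Fact (Nat.Prime 2)] (g : G)
    (hg : ∀ T : Sylow 2 G, g • T = T) : g = 1 := by
  obtain ⟨K, hK⟩ : ∃ K, K = (MulAction.toPermHom G (Sylow 2 G)).ker := ⟨_, rfl⟩
  have hKn : K.Normal := by rw [hK]; exact MonoidHom.normal_ker _
  have hmem : ∀ x : G, x ∈ K ↔ ∀ T : Sylow 2 G, x • T = T := by
    intro x
    rw [hK, MonoidHom.mem_ker]
    constructor
    · intro hx T
      have := congrArg (fun σ : Equiv.Perm (Sylow 2 G) => σ T) hx
      simpa using this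
    · intro hx
      refine Equiv.ext (fun T => ?_)
      exact hx T
  rcases hKn.eq_bot_or_eq_top with hb | ht
  · have : g ∈ K := (hmem g).2 hg
    rw [hb] at this
    exact Subgroup.mem_bot.1 this
  · exfalso
    obtain ⟨T⟩ : Nonempty (Sylow 2 G) := inferInstance
    have h1 : normalizer ((T : Subgroup G) : Set G) = ⊤ := by
      rw [eq_top_iff]
      intro x _
      have : x ∈ K := by rw [ht]; trivial
      exact Sylow.smul_eq_iff_mem_normalizer.1 ((hmem x).1 this T)
    have h2 := card_normalizer_sylow2 h T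
    rw [h1, Subgroup.card_top, h] at h2
    omega

/-- an element fixing three Sylow `2`-subgroups is trivial -/
theorem eq_one_of_fix_three (h : Nat.card G = 504) [Fact (Nat.Prime 2)] (g : G)
    (T₁ T₂ T₃ : Sylow 2 G) (h12 : T₁ ≠ T₂) (h23 : T₂ ≠ T₃) (h13 : T₁ ≠ T₃)
    (hg1 : g • T₁ = T₁) (hg2 : g • T₂ = T₂) (hg3 : g • T₃ = T₃) : g = 1 := by
  have hN1 : g ∈ normalizer ((T₁ : Subgroup G) : Set G) := Sylow.smul_eq_iff_mem_normalizer.1 hg1
  have hN2 : g ∈ normalizer ((T₂ : Subgroup G) : Set G) := Sylow.smul_eq_iff_mem_normalizer.1 hg2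
  have hg56 : g ^ 56 = 1 := by
    have := pow_card_eq_one' (G := ↥(normalizer ((T₁ : Subgroup G) : Set G))) (x := ⟨g, hN1⟩)
    rw [card_normalizer_sylow2 h T₁] at this
    exact congrArg Subtype.val this
  obtain ⟨w, hw⟩ : ∃ w, w = g ^ 7 := ⟨_, rfl⟩
  have hw8 : w ^ 8 = 1 := by rw [hw, ← pow_mul]; exact hg56
  have hwpg : IsPGroup 2 (zpowers w) := by
    have h1 : orderOf w ∣ 2 ^ 3 := orderOf_dvd_of_pow_eq_one hw8
    obtain ⟨m, -, hm⟩ := (Nat.dvd_prime_pow Nat.prime_two).1 h1
    apply IsPGroup.of_card (n := m)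
    rw [Nat.card_zpowers, hm]
  have hwT : ∀ T : Sylow 2 G, g ∈ normalizer ((T : Subgroup G) : Set G) → w ∈ T := by
    intro T hgT
    have h1 : w ∈ zpowers w ⊓ normalizer ((T : Subgroup G) : Set G) :=
      ⟨Subgroup.mem_zpowers w, by rw [hw]; exact pow_mem hgT 7⟩
    have h2 : w ∈ zpowers w ⊓ (T : Subgroup G) := (hwpg.inf_normalizer_sylow T).le h1
    exact h2.2
  have hw1 : w = 1 := by
    by_contra hne
    exact h12 (sylow2_TI h T₁ T₂ w (hwT T₁ hN1) (hwT T₂ hN2) hne)
  rw [hw] at hw1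
  by_contra hg1'
  have ho7 : orderOf g = 7 := by
    have h3 : orderOf g ∣ 7 := orderOf_dvd_of_pow_eq_one hw1
    rcases (Nat.dvd_prime (by norm_num : Nat.Prime 7)).1 h3 with h4 | h4
    · exact absurd (orderOf_eq_one_iff.1 h4) hg1'
    · exact h4
  have hp7 : Fact (Nat.Prime 7) := ⟨by norm_num⟩
  have hpg : IsPGroup 7 (zpowers g) := by
    apply IsPGroup.of_card (n := 1)
    rw [Nat.card_zpowers, ho7, pow_one]
  have hmod := hpg.card_modEq_card_fixedPoints (Sylow 2 G)
  rw [card_sylow_two h] at hmod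
  have hfixmem : ∀ T : Sylow 2 G, g • T = T → T ∈ fixedPoints (zpowers g) (Sylow 2 G) := by
    intro T hT k
    have h1 : zpowers g ≤ stabilizer G T := by
      rw [Subgroup.zpowers_le]
      exact hT
    exact h1 k.2
  obtain ⟨s, hs⟩ : ∃ s, s = fixedPoints (zpowers g) (Sylow 2 G) := ⟨_, rfl⟩
  rw [← hs] at hmod hfixmem
  rw [Nat.card_coe_set_eq] at hmod
  have h3 : 3 ≤ s.ncard := by
    have h4 : ({T₁, T₂, T₃} : Set (Sylow 2 G)) ⊆ s := by
      intro T hT
      rcases hT with rfl | rfl | rfl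
      · exact hfixmem _ hg1
      · exact hfixmem _ hg2
      · exact hfixmem _ hg3
    have h5 : ({T₁, T₂, T₃} : Set (Sylow 2 G)).ncard = 3 :=
      Set.ncard_eq_three.2 ⟨T₁, T₂, T₃, h12, h13, h23, rfl⟩
    rw [← h5]
    exact Set.ncard_le_ncard h4 (Set.toFinite s)
  have h9 : s.ncard ≤ 9 := by
    rw [← card_sylow_two h]
    exact Set.ncard_le_card s
  have hs9 : s.ncard = 9 := by
    unfold Nat.ModEq at hmod
    omega
  have huniv : s = Set.univ := by
    apply Set.eq_of_subset_of_ncard_le (Set.subset_univ s) _ (Set.toFinite _)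
    rw [Set.ncard_univ, card_sylow_two h, hs9]
  apply hg1'
  apply eq_one_of_fix_all h
  intro T
  have hT : T ∈ s := by rw [huniv]; trivial
  rw [hs] at hT
  exact hT ⟨g, Subgroup.mem_zpowers g⟩

/-- the action on the Sylow `2`-subgroups is triply transitive -/
theorem three_pretransitive (h : Nat.card G = 504) [Fact (Nat.Prime 2)] :
    IsMultiplyPretransitive G (Sylow 2 G) 3 := by
  classical
  have : Fintype (Sylow 2 G) := Fintype.ofFinite _
  rw [isMultiplyPretransitive_iff]
  intro x y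
  have hstab : stabilizer G x = ⊥ := by
    rw [eq_bot_iff]
    intro g hg
    rw [mem_stabilizer_iff] at hg
    have hgi : ∀ i, g • x i = x i := by
      intro i
      have := DFunLike.congr_fun hg i
      rwa [Function.Embedding.smul_apply] at this
    rw [Subgroup.mem_bot]
    apply eq_one_of_fix_three h g (x 0) (x 1) (x 2) _ _ _ (hgi 0) (hgi 1) (hgi 2)
    · intro h01
      have := x.injective h01
      exact absurd this (by decide)
    · intro h01
      have := x.injective h01
      exact absurd this (by decide)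
    · intro h01
      have := x.injective h01
      exact absurd this (by decide)
  have hcardX : Nat.card (Fin 3 ↪ Sylow 2 G) = 504 := by
    rw [Nat.card_eq_fintype_card, Fintype.card_embedding_eq, Fintype.card_fin,
      ← Nat.card_eq_fintype_card, card_sylow_two h]
    decide
  have horb : (orbit G x).ncard = 504 := by
    rw [← index_stabilizer, hstab, Subgroup.index_bot, h]
  have huniv : orbit G x = Set.univ := by
    apply Set.eq_of_subset_of_ncard_le (Set.subset_univ _) _ (Set.toFinite _)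
    rw [Set.ncard_univ, hcardX, horb]
  have hy : y ∈ orbit G x := by rw [huniv]; trivial
  obtain ⟨g, hg⟩ := hy
  exact ⟨g, hg⟩

/-- **A simple group of order 504 is `PSL₂(8)`.** -/
theorem main (h : Nat.card G = 504) {F : Type*} [Field F] [Fintype F]
    (hF : Fintype.card F = 8) :
    Nonempty (G ≃* Matrix.ProjectiveSpecialLinearGroup (Fin 2) F) := by
  classical
  have hp2 : Fact (Nat.Prime 2) := ⟨Nat.prime_two⟩
  have : Fintype (Sylow 2 G) := Fintype.ofFinite _
  have hcard9 : Fintype.card (Sylow 2 G) = 9 := by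
    rw [← Nat.card_eq_fintype_card, card_sylow_two h]
  have hfaith : FaithfulSMul G (Sylow 2 G) := by
    refine ⟨fun {g₁ g₂} hh => ?_⟩
    have h1 : g₂⁻¹ * g₁ = 1 := by
      apply eq_one_of_fix_all h
      intro T
      rw [mul_smul, hh T, inv_smul_smul]
    calc g₁ = g₂ * (g₂⁻¹ * g₁) := by group
      _ = g₂ := by rw [h1, mul_one]
  obtain ⟨a, ha1, hcard, F', instF, instFt, hcardF, ⟨e⟩⟩ :=
    Cfsg.Agent.H2.SharpThree.sharp_three_odd (Γ := G) (α := Sylow 2 G)
      (by rw [hcard9]; norm_num) (by rw [hcard9]; decide) (three_pretransitive h)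
      (fun g T₁ T₂ T₃ h12 h23 h13 h1 h2 h3 => eq_one_of_fix_three h g T₁ T₂ T₃ h12 h23 h13 h1 h2 h3)
  have hF' : Fintype.card F' = Fintype.card F := by
    rw [hcardF, hF]
    rw [hcard9] at hcard
    omega
  let eF : F' ≃+* F := FiniteField.ringEquivOfCardEq hF'
  have h2 : (2 : F) = 0 := by
    have h3' : ((Fintype.card F : ℕ) : F) = 0 := Nat.cast_card_eq_zero F
    rw [hF] at h3'
    have h8 : (2 : F) ^ 3 = 0 := by
      rw [← h3']
      norm_num
    exact pow_eq_zero_iff (by norm_num) |>.1 h8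
  let e1 : Matrix.SpecialLinearGroup (Fin 2) F' ≃* Matrix.SpecialLinearGroup (Fin 2) F :=
    Cfsg.Agent.Lib.Helper8.SUTransport.slEquiv eF 2
  let e2 : Matrix.SpecialLinearGroup (Fin 2) F ≃*
      Matrix.ProjectiveSpecialLinearGroup (Fin 2) F :=
    MulEquiv.ofBijective (Cfsg.Agent.H9.AutPSL2.pr : Matrix.SpecialLinearGroup (Fin 2) F →* _)
      ⟨Cfsg.Agent.H9.A4Char2.pr_injective h2, Cfsg.Agent.H9.AutPSL2.pr_surjective⟩
  exact ⟨(e.trans e1).trans e2⟩

end s504

end Cfsg.Agent.H9.Ord504
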