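import Mathlib
import Cfsg.Agent.H9.OrthK

set_option autoImplicit false
set_option linter.unusedSectionVars false
set_option linter.style.haveILetI false
open Cfsg

/-!
Simplicity of `PΩ` via Iwasawa's criterion.
-/

namespace Cfsg.Agent.H9.Orth

open Matrix
open scoped commutatorElement

section GroupLemmas

/-- a variant of Iwasawa's criterion -/
lemma iwasawa_variant {G : Type*} [Group G] (P X : Subgroup G)
    (hX : ∀ x ∈ X, ∀ y ∈ X, x * y = y * x)
    (hPX : ∀ p ∈ P, ∀ x ∈ X, p * x * p⁻¹ ∈ X)
    (hmax : ∀ M : Subgroup G, P ≤ M → M = P ∨ M = ⊤)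
    (hcl : ∀ K : Subgroup G, K.Normal → X ≤ K → K = ⊤)
    (hperf : commutator G = ⊤) (N : Subgroup G) (hN : N.Normal) : N ≤ P ∨ N = ⊤ := by
  by_cases hNP : N ≤ P
  · exact Or.inl hNP
  right
  have hNP' : N ⊔ P = ⊤ := by
    rcases hmax (N ⊔ P) le_sup_right with h | h
    · exact absurd (h ▸ le_sup_left) hNP
    · exact h
  have hconj : ∀ g : G, ∀ x ∈ X, g * x * g⁻¹ ∈ N ⊔ X := by
    intro g x hx
    have hg : g ∈ N ⊔ P := by rw [hNP']; trivial
    rw [Subgroup.mem_sup_of_normal_left] at hg
    obtain ⟨n, hn, p, hp, rfl⟩ := hg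
    have : n * p * x * (n * p)⁻¹ = n * (p * x * p⁻¹) * n⁻¹ := by group
    rw [this]
    exact (N ⊔ X).mul_mem ((N ⊔ X).mul_mem (Subgroup.mem_sup_left hn)
      (Subgroup.mem_sup_right (hPX p hp x hx))) ((N ⊔ X).inv_mem (Subgroup.mem_sup_left hn))
  have hK : Subgroup.normalClosure (X : Set G) = ⊤ :=
    hcl _ Subgroup.normalClosure_normal Subgroup.le_normalClosure
  have hle : Subgroup.normalClosure (X : Set G) ≤ N ⊔ X := by
    rw [Subgroup.normalClosure, Subgroup.closure_le]
    intro y hy
    rw [Group.mem_conjugatesOfSet_iff] at hy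
    obtain ⟨x, hx, hxy⟩ := hy
    rw [isConj_iff] at hxy
    obtain ⟨g, rfl⟩ := hxy
    exact hconj g x hx
  have hNX : N ⊔ X = ⊤ := by rw [eq_top_iff, ← hK]; exact hle
  -- `G / N` is abelian
  have hcomm : commutator G ≤ N := by
    rw [commutator_eq_closure, Subgroup.closure_le]
    rintro _ ⟨a, b, rfl⟩
    have ha : a ∈ N ⊔ X := by rw [hNX]; trivial
    have hb : b ∈ N ⊔ X := by rw [hNX]; trivial
    rw [Subgroup.mem_sup_of_normal_left] at ha hb
    obtain ⟨n1, hn1, x1, hx1, rfl⟩ := ha
    obtain ⟨n2, hn2, x2, hx2, rfl⟩ := hb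
    have hx12 := hX x1 hx1 x2 hx2
    -- work in the quotient
    have hq : ((QuotientGroup.mk' N) ⁅n1 * x1, n2 * x2⁆ : G ⧸ N) = 1 := by
      have h1 : (QuotientGroup.mk' N) n1 = 1 := (QuotientGroup.eq_one_iff n1).2 hn1
      have h2 : (QuotientGroup.mk' N) n2 = 1 := (QuotientGroup.eq_one_iff n2).2 hn2
      rw [map_commutatorElement, map_mul, map_mul, h1, h2, one_mul, one_mul,
        ← map_commutatorElement, commutatorElement_def, hx12]
      simp
    exact (QuotientGroup.eq_one_iff _).1 hq
  rw [hperf] at hcomm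
  exact top_le_iff.1 hcomm

/-- simplicity of `G / Z(G)` transported along an isomorphism -/
lemma isSimple_quot_center_of_equiv {G H : Type*} [Group G] [Group H] (e : G ≃* H)
    (hkey : ∀ N : Subgroup H, N.Normal → N ≤ Subgroup.center H ∨ N = ⊤)
    (hperf : commutator H = ⊤) (hnt : Nontrivial H) :
    IsSimpleGroup (G ⧸ Subgroup.center G) := by
  have key : ∀ N : Subgroup G, N.Normal → N ≤ Subgroup.center G ∨ N = ⊤ := by
    intro N hN
    have hN' : (N.map e.toMonoidHom).Normal := hN.map _ e.surjective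
    rcases hkey _ hN' with h | h
    · left
      intro x hx
      rw [Subgroup.mem_center_iff]
      intro y
      have h1 : e x ∈ Subgroup.center H := h ⟨x, hx, rfl⟩
      rw [Subgroup.mem_center_iff] at h1
      apply e.injective
      rw [map_mul, map_mul, h1 (e y)]
    · right
      rw [eq_top_iff]
      intro x _
      have : e x ∈ N.map e.toMonoidHom := by rw [h]; trivial
      obtain ⟨y, hy, hxy⟩ := this
      have : y = x := e.injective hxy
      rw [← this]; exact hy
  have hnontriv : Nontrivial (G ⧸ Subgroup.center G) := by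
    by_contra hcon
    rw [not_nontrivial_iff_subsingleton, QuotientGroup.subsingleton_iff] at hcon
    have hbot : commutator H = ⊥ := by
      rw [commutator_eq_closure, Subgroup.closure_eq_bot_iff]
      rintro _ ⟨a, b, rfl⟩
      have hb : e.symm b ∈ Subgroup.center G := by rw [hcon]; trivial
      rw [Subgroup.mem_center_iff] at hb
      have hb' : a * b = b * a := by
        have := congrArg e (hb (e.symm a))
        simpa using this
      rw [Set.mem_singleton_iff, commutatorElement_def, hb', mul_inv_cancel_right,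
        mul_inv_cancel]
    rw [hperf] at hbot
    obtain ⟨x, y, hxy⟩ := hnt.exists_pair_ne
    apply hxy
    have hx : x ∈ (⊥ : Subgroup H) := by rw [← hbot]; trivial
    have hy : y ∈ (⊥ : Subgroup H) := by rw [← hbot]; trivial
    rw [Subgroup.mem_bot] at hx hy
    rw [hx, hy]
  refine { exists_pair_ne := hnontriv.exists_pair_ne, eq_bot_or_eq_top_of_normal := ?_ }
  intro K hK
  have hNn : (K.comap (QuotientGroup.mk' (Subgroup.center G))).Normal := hK.comap _
  rcases key _ hNn with h1 | h1
  · left
    rw [Subgroup.eq_bot_iff_forall]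
    intro x hx
    obtain ⟨g, rfl⟩ := QuotientGroup.mk_surjective x
    have hg : g ∈ K.comap (QuotientGroup.mk' (Subgroup.center G)) := hx
    exact (QuotientGroup.eq_one_iff g).mpr (h1 hg)
  · right
    rw [eq_top_iff]
    intro x _
    obtain ⟨g, rfl⟩ := QuotientGroup.mk_surjective x
    have hg : g ∈ K.comap (QuotientGroup.mk' (Subgroup.center G)) := by
      rw [h1]; trivial
    exact hg

end GroupLemmas

end Cfsg.Agent.H9.Orth
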