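import Mathlib
import Cfsg.Agent.H9.OrthL

set_option autoImplicit false
set_option linter.unusedSectionVars false
set_option linter.style.haveILetI false
open Cfsg

/-!
Simplicity of `PΩ(Q)` for a nondegenerate quadratic form in dimension at least 7 over a finite
field (any characteristic).
-/

namespace Cfsg.Agent.H9.Orth

open Matrix
open scoped commutatorElement

section Simple

variable {ι : Type} [Fintype ι] [DecidableEq ι] {F : Type*} [Field F] [Fintype F]
variable {Q : (ι → F) → F}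
variable (hQ : Cfsg.Geo.IsNondegenerateQuadraticForm Q)

include hQ

omit [Fintype F] in
/-- the root group at `u` -/
def XXg (u : ι → F) : Subgroup (GL ι F) where
  carrier := {g | ∃ w, pol Q u w = 0 ∧ g = sg hQ u w}
  mul_mem' := by
    rintro _ _ ⟨w, hw, rfl⟩ ⟨w', hw', rfl⟩
    exact ⟨w + w', by rw [pol_add_right hQ, hw, hw', add_zero], sg_mul hQ u w w' hw hw'⟩
  one_mem' := ⟨0, pol_zero_right hQ u, (sg_zero hQ u).symm⟩
  inv_mem' := by
    rintro _ ⟨w, hw, rfl⟩
    exact ⟨-w, by rw [pol_neg_right hQ, hw, neg_zero], sg_inv hQ u w hw⟩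

omit [Fintype F] in
lemma XXg_comm (u : ι → F) (x y : GL ι F) (hx : x ∈ XXg hQ u) (hy : y ∈ XXg hQ u) :
    x * y = y * x := by
  obtain ⟨w, hw, rfl⟩ := hx
  obtain ⟨w', hw', rfl⟩ := hy
  rw [sg_mul hQ u w w' hw hw', sg_mul hQ u w' w hw' hw, add_comm]

omit [Fintype F] in
/-- the stabilizer of the line `⟨u⟩` normalizes the root group at `u` -/
lemma stab_normalizes_XXg (u : ι → F) (p : GL ι F) (hp : p ∈ Cfsg.isometryGroup F Q)
    (hpu : p ∈ Cfsg.Geo.subspaceStabilizer (Submodule.span F {u})) (x : GL ι F)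
    (hx : x ∈ XXg hQ u) : p * x * p⁻¹ ∈ XXg hQ u := by
  obtain ⟨w, hw, rfl⟩ := hx
  have h1 := ((mem_stab_iff _ p).1 hpu u).1 (Submodule.mem_span_singleton_self u)
  obtain ⟨c, hc⟩ := Submodule.mem_span_singleton.1 h1
  rw [conj_sg hQ p hp, ← hc, sg_smul_left]
  refine ⟨c • act p w, ?_, rfl⟩
  rw [pol_smul_right hQ, ← pol_smul_left hQ, hc, pol_act p hp, hw]

/-- an isometry acting as a scalar on every singular vector is a scalar -/
lemma scalar_of_singular (hn : 7 ≤ Fintype.card ι) (n : GL ι F)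
    (h : ∀ v, Q v = 0 → v ≠ 0 → ∃ c : F, act n v = c • v) :
    ∃ l : F, ∀ x, act n x = l • x := by
  -- orthogonal independent singular vectors have the same scalar
  have step1 : ∀ v₁ v₂ : ι → F, Q v₁ = 0 → Q v₂ = 0 → v₁ ≠ 0 → pol Q v₁ v₂ = 0 →
      v₂ ∉ Submodule.span F {v₁} → ∀ c₁ c₂ : F, act n v₁ = c₁ • v₁ → act n v₂ = c₂ • v₂ →
        c₁ = c₂ := by
    intro v₁ v₂ h1 h2 h10 h12 hind c₁ c₂ hc1 hc2
    have h20 : v₂ ≠ 0 := by
      rintro rfl
      exact hind (Submodule.zero_mem _)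
    have hs : Q (v₁ + v₂) = 0 := by rw [Q_add Q, h1, h2, h12]; ring
    have hs0 : v₁ + v₂ ≠ 0 := by
      intro h0
      apply hind
      rw [Submodule.mem_span_singleton]
      exact ⟨-1, by rw [neg_one_smul]; exact (eq_neg_of_add_eq_zero_right h0).symm⟩
    obtain ⟨c, hc⟩ := h _ hs hs0
    rw [act_add, hc1, hc2, smul_add] at hc
    have e : (c₁ - c) • v₁ = (c - c₂) • v₂ := by
      rw [sub_smul, sub_smul]
      have := hc
      calc c₁ • v₁ - c • v₁ = (c₁ • v₁ + c₂ • v₂) - c₂ • v₂ - c • v₁ := by abel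
        _ = (c • v₁ + c • v₂) - c₂ • v₂ - c • v₁ := by rw [this]
        _ = c • v₂ - c₂ • v₂ := by abel
    have hcc : c - c₂ = 0 := by
      by_contra hne
      apply hind
      rw [Submodule.mem_span_singleton]
      refine ⟨(c - c₂)⁻¹ * (c₁ - c), ?_⟩
      rw [mul_smul, e, smul_smul, inv_mul_cancel₀ hne, one_smul]
    rw [hcc, zero_smul] at e
    have hcc1 : c₁ - c = 0 := by
      rcases smul_eq_zero.1 e with h' | h'
      · exact h'
      · exact absurd h' h10
    rw [sub_eq_zero] at hcc hcc1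
    rw [hcc1, hcc]
  obtain ⟨e₀, f₀, -, -, he₀, hf₀, hef₀⟩ := exists_hyperbolic_perp1 hQ (by omega) (0 : ι → F)
  have he₀0 : e₀ ≠ 0 := by
    rintro rfl
    rw [pol_zero_left hQ] at hef₀
    exact zero_ne_one hef₀
  obtain ⟨l, hl⟩ := h e₀ he₀ he₀0
  have step2 : ∀ v, Q v = 0 → act n v = l • v := by
    intro v hv
    by_cases hv0 : v = 0
    · rw [hv0, act_zero, smul_zero]
    obtain ⟨c, hc⟩ := h v hv hv0
    obtain ⟨e, f, hve, hvf, hee, hef', hqe, hqf, hef⟩ := exists_hyperbolic_perp2 hQ hn v e₀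
    have he0 : e ≠ 0 := by
      rintro rfl
      rw [pol_zero_left hQ] at hef
      exact zero_ne_one hef
    obtain ⟨c', hc'⟩ := h e hqe he0
    have h1 : e ∉ Submodule.span F {v} := by
      intro h'
      obtain ⟨a, rfl⟩ := Submodule.mem_span_singleton.1 h'
      rw [pol_smul_left hQ, hvf, mul_zero] at hef
      exact zero_ne_one hef
    have h2 : e ∉ Submodule.span F {e₀} := by
      intro h'
      obtain ⟨a, rfl⟩ := Submodule.mem_span_singleton.1 h'
      rw [pol_smul_left hQ, hef', mul_zero] at hef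
      exact zero_ne_one hef
    have e1 := step1 v e hv hqe hv0 hve h1 c c' hc hc'
    have e2 := step1 e₀ e he₀ hqe he₀0 hee h2 l c' hl hc'
    rw [hc, e1, ← e2]
  refine ⟨l, fun x => ?_⟩
  obtain ⟨e, f, hxe, hxf, hqe, hqf, hef⟩ := exists_hyperbolic_perp1 hQ (by omega) (0 : ι → F)
  obtain ⟨s, hs1, -, hs3⟩ := sum_singular hQ 0 e f x hxe hxf hqe hqf hef (pol_zero_left hQ x)
  rw [hs3, Fin.sum_univ_five]
  simp only [act_add, smul_add, step2 _ (hs1 _)]

/-- the main group-theoretic statement about normal subgroups of `NN` -/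
theorem NN_normal_subgroups (hn : 7 ≤ Fintype.card ι) (N : Subgroup ↥(NN hQ)) (hN : N.Normal) :
    N ≤ Subgroup.center ↥(NN hQ) ∨ N = ⊤ := by
  obtain ⟨u, f₀, -, -, hu, hf₀, huf₀⟩ := exists_hyperbolic_perp1 hQ (by omega) (0 : ι → F)
  have hu0 : u ≠ 0 := by
    rintro rfl
    rw [pol_zero_left hQ] at huf₀
    exact zero_ne_one huf₀
  set W := Submodule.span F {u} with hW
  have hWts : Cfsg.Geo.IsTotallySingularQuad Q W := by
    intro x hx
    obtain ⟨c, rfl⟩ := Submodule.mem_span_singleton.1 hx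
    rw [hQ.smul, hu, mul_zero]
  have hW0 : W ≠ ⊥ := by
    intro h
    apply hu0
    have : u ∈ W := Submodule.mem_span_singleton_self u
    rw [h] at this
    exact this
  have hWdim : Module.finrank F W = 1 := finrank_span_singleton hu0
  have hmaxGL := parabolic_maximal hQ hn W hW0 hWts (by
    intro _ _ _ _
    rw [hWdim]; omega)
  rw [omegaGL_eq_NN hQ hn] at hmaxGL
  set P : Subgroup ↥(NN hQ) := (Cfsg.Geo.subspaceStabilizer W).subgroupOf (NN hQ) with hP
  set X : Subgroup ↥(NN hQ) := (XXg hQ u).subgroupOf (NN hQ) with hX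
  have hperf : commutator ↥(NN hQ) = ⊤ := by
    rw [eq_top_iff]
    intro x _
    have h1 : (x : GL ι F) ∈ ⁅NN hQ, NN hQ⁆ := NN_le_commutator hQ hn x.2
    rw [← Subgroup.map_subtype_commutator] at h1
    obtain ⟨y, hy, hyx⟩ := h1
    have : y = x := Subtype.ext hyx
    rw [← this]; exact hy
  have hmax : ∀ M : Subgroup ↥(NN hQ), P ≤ M → M = P ∨ M = ⊤ := by
    intro M hPM
    have h1 : Cfsg.Geo.subspaceStabilizer W ⊓ NN hQ ≤ M.map (NN hQ).subtype := by
      rintro x ⟨hx1, hx2⟩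
      exact ⟨⟨x, hx2⟩, hPM (Subgroup.mem_subgroupOf.2 hx1), rfl⟩
    have h2 : M.map (NN hQ).subtype ≤ NN hQ := Subgroup.map_subtype_le M
    rcases hmaxGL.2 _ h1 h2 with h3 | h3
    · left
      ext x
      constructor
      · intro hx
        have : (x : GL ι F) ∈ M.map (NN hQ).subtype := ⟨x, hx, rfl⟩
        rw [h3] at this
        exact Subgroup.mem_subgroupOf.2 this.1
      · intro hx
        exact hPM hx
    · right
      rw [eq_top_iff]
      intro x _
      have : (x : GL ι F) ∈ M.map (NN hQ).subtype := by rw [h3]; exact x.2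
      obtain ⟨y, hy, hyx⟩ := this
      have : y = x := Subtype.ext hyx
      rw [← this]; exact hy
  have hXc : ∀ x ∈ X, ∀ y ∈ X, x * y = y * x := by
    intro x hx y hy
    apply Subtype.ext
    exact XXg_comm hQ u x y (Subgroup.mem_subgroupOf.1 hx) (Subgroup.mem_subgroupOf.1 hy)
  have hPX : ∀ p ∈ P, ∀ x ∈ X, p * x * p⁻¹ ∈ X := by
    intro p hp x hx
    rw [hX, Subgroup.mem_subgroupOf]
    exact stab_normalizes_XXg hQ u p (NN_le_iso hQ p.2) (Subgroup.mem_subgroupOf.1 hp) x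
      (Subgroup.mem_subgroupOf.1 hx)
  have hcl : ∀ K : Subgroup ↥(NN hQ), K.Normal → X ≤ K → K = ⊤ := by
    intro K hK hXK
    have hgen : NN hQ ≤ K.map (NN hQ).subtype := by
      have hdef : NN hQ = Subgroup.closure
          {g | ∃ u w, Q u = 0 ∧ Q w = 0 ∧ pol Q u w = 0 ∧ g = sg hQ u w} := rfl
      conv_lhs => rw [hdef]
      rw [Subgroup.closure_le]
      rintro g ⟨v, w, hv, hw, hvw, rfl⟩
      by_cases hv0 : v = 0
      · have : sg hQ v w = 1 := by
          apply gl_ext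
          intro x
          rw [act_sg hQ v w hv hvw, act_one, hv0, pol_zero_right hQ]
          module
        rw [this]
        exact one_mem _
      obtain ⟨g, hg, hgu⟩ := NN_trans_singular hQ hn u v hu0 hv0 hu hv
      have hgi := NN_le_iso hQ hg
      have h1 := conj_sg hQ g hgi u (act g⁻¹ w)
      rw [act_act_inv, hgu] at h1
      have h2 : pol Q u (act g⁻¹ w) = 0 := by
        rw [← pol_act g hgi, act_act_inv, hgu]; exact hvw
      have h3 : (⟨sg hQ u (act g⁻¹ w), sg_mem_NN' hQ (by omega) u _ h2⟩ : ↥(NN hQ)) ∈ K :=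
        hXK (Subgroup.mem_subgroupOf.2 ⟨_, h2, rfl⟩)
      have h4 := hK.conj_mem _ h3 ⟨g, hg⟩
      refine ⟨_, h4, ?_⟩
      rw [← h1]
      rfl
    rw [eq_top_iff]
    intro x _
    obtain ⟨y, hy, hyx⟩ := hgen x.2
    have : y = x := Subtype.ext hyx
    rw [← this]; exact hy
  rcases iwasawa_variant P X hXc hPX hmax hcl hperf N hN with h | h
  · left
    intro n hn'
    -- `n` acts as a scalar on every singular vector
    have hsc : ∀ v, Q v = 0 → v ≠ 0 → ∃ c : F, act (n : GL ι F) v = c • v := by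
      intro v hv hv0
      obtain ⟨g, hg, hgu⟩ := NN_trans_singular hQ hn u v hu0 hv0 hu hv
      have h1 : (⟨g, hg⟩ : ↥(NN hQ))⁻¹ * n * (⟨g, hg⟩ : ↥(NN hQ))⁻¹⁻¹ ∈ N :=
        hN.conj_mem n hn' _
      have h2 := h h1
      rw [hP, Subgroup.mem_subgroupOf] at h2
      have h3 := ((mem_stab_iff _ _).1 h2 u).1 (Submodule.mem_span_singleton_self u)
      obtain ⟨c, hc⟩ := Submodule.mem_span_singleton.1 h3
      refine ⟨c, ?_⟩
      have h4 : act (g⁻¹ * (n : GL ι F) * g) u = c • u := by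
        rw [hc]
        simp
      rw [act_mul, act_mul, hgu] at h4
      have h5 := congrArg (act g) h4
      rw [act_act_inv, act_smul, hgu] at h5
      exact h5
    obtain ⟨l, hl⟩ := scalar_of_singular hQ hn (n : GL ι F) hsc
    rw [Subgroup.mem_center_iff]
    intro g
    apply Subtype.ext
    apply gl_ext
    intro x
    show act ((g : GL ι F) * (n : GL ι F)) x = act ((n : GL ι F) * (g : GL ι F)) x
    rw [act_mul, act_mul, hl, hl, act_smul]
  · exact Or.inr h

/-- `NN` is nontrivial -/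
lemma NN_nontrivial (hn : 7 ≤ Fintype.card ι) : Nontrivial ↥(NN hQ) := by
  obtain ⟨u, f₀, -, -, hu, hf₀, huf₀⟩ := exists_hyperbolic_perp1 hQ (by omega) (0 : ι → F)
  have hu0 : u ≠ 0 := by
    rintro rfl
    rw [pol_zero_left hQ] at huf₀
    exact zero_ne_one huf₀
  have hf0 : f₀ ≠ 0 := by
    rintro rfl
    rw [pol_zero_right hQ] at huf₀
    exact zero_ne_one huf₀
  obtain ⟨g, hg, hgu⟩ := NN_trans_singular hQ hn u f₀ hu0 hf0 hu hf₀
  refine ⟨⟨⟨g, hg⟩, 1, ?_⟩⟩
  intro h
  have h1 : g = 1 := congrArg Subtype.val h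
  rw [h1, act_one] at hgu
  rw [hgu, pol_self hQ, hf₀] at huf₀
  simp at huf₀

/-- **Simplicity of `PΩ(Q)`** in dimension at least 7 over a finite field -/
theorem simple_POmega (hn : 7 ≤ Fintype.card ι) : IsSimpleGroup (Cfsg.POmega F Q) := by
  have e1 : ↥(Cfsg.Omega F Q) ≃* ↥(Cfsg.Geo.omegaGL Q) :=
    (Cfsg.Omega F Q).equivMapOfInjective (Cfsg.isometryGroup F Q).subtype
      (Cfsg.isometryGroup F Q).subtype_injective
  have e2 : ↥(Cfsg.Geo.omegaGL Q) ≃* ↥(NN hQ) := MulEquiv.subgroupCongr (omegaGL_eq_NN hQ hn)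
  exact isSimple_quot_center_of_equiv (e1.trans e2) (NN_normal_subgroups hQ hn)
    (by
      rw [eq_top_iff]
      intro x _
      have h1 : (x : GL ι F) ∈ ⁅NN hQ, NN hQ⁆ := NN_le_commutator hQ hn x.2
      rw [← Subgroup.map_subtype_commutator] at h1
      obtain ⟨y, hy, hyx⟩ := h1
      have : y = x := Subtype.ext hyx
      rw [← this]; exact hy)
    (NN_nontrivial hQ hn)

end Simple

end Cfsg.Agent.H9.Orth
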