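import Mathlib
import Cfsg.Agent.H9.OrthM

set_option autoImplicit false
set_option linter.unusedSectionVars false
set_option linter.style.haveILetI false
open Cfsg

/-!
The explicit quadratic forms `quadFormPlus`, `quadFormMinus` are nondegenerate (any
characteristic).
-/

namespace Cfsg.Agent.H9.Orth

open Matrix

section Plus

variable {F : Type*} [Field F] (m : ℕ)

lemma polar_quadFormPlus (v w : Fin m ⊕ Fin m → F) :
    QuadraticMap.polar (Cfsg.quadFormPlus m F) v w =
      ∑ i : Fin m, (v (.inl i) * w (.inr i) + w (.inl i) * v (.inr i)) := by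
  unfold QuadraticMap.polar Cfsg.quadFormPlus
  simp only [Pi.add_apply]
  have hs : ∑ i : Fin m, (v (.inl i) + w (.inl i)) * (v (.inr i) + w (.inr i)) =
      ∑ i : Fin m, v (.inl i) * v (.inr i) + ∑ i : Fin m, w (.inl i) * w (.inr i) +
          ∑ i : Fin m, (v (.inl i) * w (.inr i) + w (.inl i) * v (.inr i)) := by
    rw [← Finset.sum_add_distrib, ← Finset.sum_add_distrib]
    apply Finset.sum_congr rfl; intro i _; ring
  rw [hs]; ring

lemma isNondeg_quadFormPlus :
    Cfsg.Geo.IsNondegenerateQuadraticForm (Cfsg.quadFormPlus m F) := by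
  refine ⟨fun c v => ?_, ⟨?_, ?_, ?_, ?_⟩, fun v hv => ?_⟩
  · unfold Cfsg.quadFormPlus
    simp only [Pi.smul_apply, smul_eq_mul]
    rw [Finset.mul_sum]
    apply Finset.sum_congr rfl; intro i _; ring
  · intro x y v
    simp only [polar_quadFormPlus, Pi.add_apply]
    rw [← Finset.sum_add_distrib]
    apply Finset.sum_congr rfl; intro i _; ring
  · intro c x v
    simp only [polar_quadFormPlus, Pi.smul_apply, smul_eq_mul]
    rw [Finset.mul_sum]
    apply Finset.sum_congr rfl; intro i _; ring
  · intro v x y
    simp only [polar_quadFormPlus, Pi.add_apply]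
    rw [← Finset.sum_add_distrib]
    apply Finset.sum_congr rfl; intro i _; ring
  · intro c v x
    simp only [polar_quadFormPlus, Pi.smul_apply, smul_eq_mul]
    rw [Finset.mul_sum]
    apply Finset.sum_congr rfl; intro i _; ring
  · have hex : ∃ j, v j ≠ 0 := by
      by_contra hcon
      push Not at hcon
      exact hv (funext hcon)
    have key : ∃ x, QuadraticMap.polar (Cfsg.quadFormPlus m F) x v ≠ 0 := by
      obtain ⟨j, hj⟩ := hex
      rcases j with i | i
      · refine ⟨Pi.single (.inr i) 1, ?_⟩
        rw [polar_quadFormPlus]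
        simp [Pi.single_apply, Finset.sum_ite_eq', hj]
      · refine ⟨Pi.single (.inl i) 1, ?_⟩
        rw [polar_quadFormPlus]
        simp [Pi.single_apply, Finset.sum_ite_eq', hj]
    obtain ⟨x, hx⟩ := key
    exact ⟨⟨x, hx⟩, ⟨x, by rw [QuadraticMap.polar_comm]; exact hx⟩⟩

end Plus

section Minus

variable {F : Type*} [Field F] (m : ℕ) (a b : F)

lemma polar_quadFormMinus (v w : (Fin m ⊕ Fin m) ⊕ Fin 2 → F) :
    QuadraticMap.polar (Cfsg.quadFormMinus m F a b) v w =
      ∑ i : Fin m, (v (.inl (.inl i)) * w (.inl (.inr i)) + w (.inl (.inl i)) * v (.inl (.inr i))) +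
        (2 * v (.inr 0) * w (.inr 0) + a * (v (.inr 0) * w (.inr 1) + w (.inr 0) * v (.inr 1)) +
          2 * b * v (.inr 1) * w (.inr 1)) := by
  unfold QuadraticMap.polar Cfsg.quadFormMinus
  simp only [Pi.add_apply]
  have hs : ∑ i : Fin m, (v (.inl (.inl i)) + w (.inl (.inl i))) *
      (v (.inl (.inr i)) + w (.inl (.inr i))) =
      ∑ i : Fin m, v (.inl (.inl i)) * v (.inl (.inr i)) +
        ∑ i : Fin m, w (.inl (.inl i)) * w (.inl (.inr i)) +
          ∑ i : Fin m, (v (.inl (.inl i)) * w (.inl (.inr i)) +
            w (.inl (.inl i)) * v (.inl (.inr i))) := by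
    rw [← Finset.sum_add_distrib, ← Finset.sum_add_distrib]
    apply Finset.sum_congr rfl; intro i _; ring
  rw [hs]; ring

lemma isNondeg_quadFormMinus [Fintype F]
    (hab : ∀ z₁ z₂ : F, z₁ ^ 2 + a * z₁ * z₂ + b * z₂ ^ 2 = 0 → z₁ = 0 ∧ z₂ = 0) :
    Cfsg.Geo.IsNondegenerateQuadraticForm (Cfsg.quadFormMinus m F a b) := by
  refine ⟨fun c v => ?_, ⟨?_, ?_, ?_, ?_⟩, fun v hv => ?_⟩
  · unfold Cfsg.quadFormMinus
    simp only [Pi.smul_apply, smul_eq_mul]
    rw [mul_add, Finset.mul_sum]
    congr 1
    · apply Finset.sum_congr rfl; intro i _; ring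
    · ring
  · intro x y v
    simp only [polar_quadFormMinus, Pi.add_apply]
    rw [show ∀ p q r s : F, p + q + (r + s) = (p + r) + (q + s) from fun p q r s => by ring,
      ← Finset.sum_add_distrib]
    congr 1
    · apply Finset.sum_congr rfl; intro i _; ring
    · ring
  · intro c x v
    simp only [polar_quadFormMinus, Pi.smul_apply, smul_eq_mul]
    rw [mul_add c, Finset.mul_sum]
    congr 1
    · apply Finset.sum_congr rfl; intro i _; ring
    · ring
  · intro v x y
    simp only [polar_quadFormMinus, Pi.add_apply]
    rw [show ∀ p q r s : F, p + q + (r + s) = (p + r) + (q + s) from fun p q r s => by ring,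
      ← Finset.sum_add_distrib]
    congr 1
    · apply Finset.sum_congr rfl; intro i _; ring
    · ring
  · intro c v x
    simp only [polar_quadFormMinus, Pi.smul_apply, smul_eq_mul]
    rw [mul_add c, Finset.mul_sum]
    congr 1
    · apply Finset.sum_congr rfl; intro i _; ring
    · ring
  · have key : ∃ x, QuadraticMap.polar (Cfsg.quadFormMinus m F a b) x v ≠ 0 := by
      by_cases hex : ∃ j, v (.inl j) ≠ 0
      · obtain ⟨j, hj⟩ := hex
        rcases j with i | i
        · refine ⟨Pi.single (.inl (.inr i)) 1, ?_⟩
          rw [polar_quadFormMinus]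
          simp [Pi.single_apply, Finset.sum_ite_eq', hj]
        · refine ⟨Pi.single (.inl (.inl i)) 1, ?_⟩
          rw [polar_quadFormMinus]
          simp [Pi.single_apply, Finset.sum_ite_eq', hj]
      · push Not at hex
        -- `v` is supported on the anisotropic plane
        have hz : ¬ (v (.inr 0) = 0 ∧ v (.inr 1) = 0) := by
          rintro ⟨h0, h1⟩
          apply hv
          funext j
          rcases j with j | j
          · exact hex j
          · fin_cases j
            · exact h0
            · exact h1
        by_contra hcon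
        push Not at hcon
        have e0 := hcon (Pi.single (.inr 0) 1)
        have e1 := hcon (Pi.single (.inr 1) 1)
        rw [polar_quadFormMinus] at e0 e1
        simp [Pi.single_apply] at e0 e1
        -- e0 : 2 v0 + a v1 = 0 ; e1 : a v0 + 2 b v1 = 0
        by_cases h2 : (2 : F) = 0
        · -- characteristic two
          rw [h2] at e0 e1
          simp at e0 e1
          rcases e0 with ha | hv1
          · -- a = 0 : b is a square, contradiction with anisotropy
            have hchar : ringChar F = 2 := by
              have : CharP F 2 := CharTwo.of_one_ne_zero_of_two_eq_zero one_ne_zero h2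
              exact ringChar.eq F 2
            obtain ⟨c, hc⟩ := FiniteField.isSquare_of_char_two hchar b
            have := hab c 1 (by
              rw [ha, hc]
              have : c ^ 2 + 0 * c * 1 + c * c * 1 ^ 2 = 2 * (c * c) := by ring
              rw [this, h2, zero_mul])
            exact one_ne_zero this.2
          · rcases e1 with ha | hv0
            · have hchar : ringChar F = 2 := by
                have : CharP F 2 := CharTwo.of_one_ne_zero_of_two_eq_zero one_ne_zero h2
                exact ringChar.eq F 2
              obtain ⟨c, hc⟩ := FiniteField.isSquare_of_char_two hchar b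
              have := hab c 1 (by
                rw [ha, hc]
                have : c ^ 2 + 0 * c * 1 + c * c * 1 ^ 2 = 2 * (c * c) := by ring
                rw [this, h2, zero_mul])
              exact one_ne_zero this.2
            · exact hz ⟨hv0, hv1⟩
        · -- odd characteristic
          have hq : v (.inr 0) ^ 2 + a * v (.inr 0) * v (.inr 1) + b * v (.inr 1) ^ 2 = 0 := by
            have : 2 * (v (.inr 0) ^ 2 + a * v (.inr 0) * v (.inr 1) + b * v (.inr 1) ^ 2) = 0 := by
              linear_combination v (.inr 0) * e0 + v (.inr 1) * e1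
            rcases mul_eq_zero.1 this with h | h
            · exact absurd h h2
            · exact h
          exact hz (hab _ _ hq)
    obtain ⟨x, hx⟩ := key
    exact ⟨⟨x, hx⟩, ⟨x, by rw [QuadraticMap.polar_comm]; exact hx⟩⟩

end Minus

end Cfsg.Agent.H9.Orth
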