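import Mathlib
import Cfsg.Agent.H9.OrthJ

set_option autoImplicit false
set_option linter.unusedSectionVars false
set_option linter.style.haveILetI false
open Cfsg

/-!
Maximality in `Ω` of the stabilizer of a nonsingular point (any characteristic).
-/

namespace Cfsg.Agent.H9.Orth

open Matrix
open scoped commutatorElement

section NonsingularPoint

variable {ι : Type} [Fintype ι] [DecidableEq ι] {F : Type*} [Field F] [Fintype F]
variable {Q : (ι → F) → F}
variable (hQ : Cfsg.Geo.IsNondegenerateQuadraticForm Q)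

include hQ

/-- **Maximality of the stabilizer of a nonsingular point in `Ω`** -/
theorem nonsingular_point_maximal (hn : 7 ≤ Fintype.card ι) (v : ι → F) (hv : Q v ≠ 0) :
    Cfsg.Geo.IsMaximalIn (Cfsg.Geo.omegaGL Q)
      (Cfsg.Geo.subspaceStabilizer (Submodule.span F {v}) ⊓ Cfsg.Geo.omegaGL Q) := by
  rw [omegaGL_eq_NN hQ hn]
  have hn5 : 5 ≤ Fintype.card ι := by omega
  have hv0 : v ≠ 0 := ne_zero_of_Q_ne hQ v hv
  set L := Submodule.span F {v} with hL
  refine ⟨lt_of_le_of_ne inf_le_right ?_, ?_⟩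
  · intro heq
    -- a singular vector `d ⊥ v`
    have h1 := finrank_perp hQ L
    have h2 : Module.finrank F L ≤ 1 := finrank_span_singleton_le (F := F) v
    obtain ⟨d, hd, hd0, hqd⟩ := exists_singular_of_finrank hQ (perp hQ L) (by omega)
    rw [hL, mem_perp_span_singleton] at hd
    have hqy : Q (v + d) = Q v := by rw [Q_add Q, hqd, hd]; ring
    obtain ⟨g, hg, hgv⟩ := NN_trans_norm hQ hn5 v (v + d) hv hqy
    have hg' : g ∈ Cfsg.Geo.subspaceStabilizer L := by
      rw [← heq] at hg
      exact hg.1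
    have hmem : v + d ∈ L := by
      rw [← hgv]
      exact ((mem_stab_iff L g).1 hg' v).1 (Submodule.mem_span_singleton_self v)
    have hdL : d ∈ L := by
      have := L.sub_mem hmem (Submodule.mem_span_singleton_self v)
      rwa [add_sub_cancel_left] at this
    obtain ⟨c, hc⟩ := Submodule.mem_span_singleton.1 hdL
    have hc0 : c ≠ 0 := by
      rintro rfl
      rw [zero_smul] at hc
      exact hd0 hc.symm
    rw [← hc, hQ.smul] at hqd
    rcases mul_eq_zero.1 hqd with h | h
    · exact hc0 ((pow_eq_zero_iff two_ne_zero).1 h)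
    · exact hv h
  · intro M hPM hMN
    by_cases hMP : M ≤ Cfsg.Geo.subspaceStabilizer L ⊓ NN hQ
    · left; exact le_antisymm hMP hPM
    right
    apply le_antisymm hMN
    have hM : M ≤ Cfsg.isometryGroup F Q := hMN.trans (NN_le_iso hQ)
    -- an element of `M` moving `v` outside `L`
    have hmove : ∃ g ∈ M, act g v ∉ L := by
      rw [SetLike.not_le_iff_exists] at hMP
      obtain ⟨g, hgM, hgP⟩ := hMP
      have hgS : g ∉ Cfsg.Geo.subspaceStabilizer L := fun h => hgP ⟨h, hMN hgM⟩
      rw [mem_stab_iff] at hgS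
      push Not at hgS
      obtain ⟨x, hx⟩ := hgS
      have key : ∀ g' ∈ M, ∀ x ∈ L, act g' x ∉ L → act g' v ∉ L := by
        intro g' _ x hx hgx hgv
        apply hgx
        obtain ⟨c, rfl⟩ := Submodule.mem_span_singleton.1 hx
        rw [act_smul]
        exact L.smul_mem c hgv
      rcases hx with ⟨hx1, hx2⟩ | ⟨hx1, hx2⟩
      · exact ⟨g, hgM, key g hgM x hx1 hx2⟩
      · refine ⟨g⁻¹, inv_mem hgM, key g⁻¹ (inv_mem hgM) (act g x) hx2 ?_⟩
        rw [act_inv_act]; exact hx1
    obtain ⟨g, hgM, hgv⟩ := hmove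
    have hgi := hM hgM
    set y := act g v with hy
    -- root elements inside `v^⊥` lie in `M`
    have hA : ∀ u w : ι → F, pol Q v u = 0 → pol Q v w = 0 → sg hQ u w ∈ M := by
      intro u w hu hw
      by_cases h : Q u = 0 ∧ pol Q u w = 0
      · apply hPM
        refine ⟨sg_mem_stab' hQ L u w ?_ ?_, sg_mem_NN' hQ hn5 u w h.2⟩
        · rw [hL, mem_perp_span_singleton]; exact hu
        · rw [hL, mem_perp_span_singleton]; exact hw
      · rw [sg_of_not hQ u w h]; exact one_mem _
    -- root elements inside `y^⊥` lie in `M`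
    have hB : ∀ u w : ι → F, pol Q y u = 0 → pol Q y w = 0 → sg hQ u w ∈ M := by
      intro u w hu hw
      have h1 := conj_sg hQ g hgi (act g⁻¹ u) (act g⁻¹ w)
      rw [act_act_inv, act_act_inv] at h1
      rw [← h1]
      refine mul_mem (mul_mem hgM (hA _ _ ?_ ?_)) (inv_mem hgM)
      · rw [← pol_act g hgi, act_act_inv]; exact hu
      · rw [← pol_act g hgi, act_act_inv]; exact hw
    -- singular vectors of `⟨v, y⟩^⊥` outside `⟨v, y⟩` are in `SS`
    have hC : ∀ u : ι → F, Q u = 0 → pol Q v u = 0 → pol Q y u = 0 →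
        y ∉ Submodule.span F {v, u} → u ∈ SS hQ M := by
      intro u hqu hvu hyu hyvu
      refine ⟨hqu, fun w huw => ?_⟩
      obtain ⟨z, hzy, hzU⟩ := exists_pol_eq_one hQ (Submodule.span F {v, u}) y hyvu
      have hzv : pol Q z v = 0 := hzU v (Submodule.subset_span (by simp))
      have hzu : pol Q z u = 0 := hzU u (Submodule.subset_span (by simp))
      set w1 := pol Q y w • z with hw1
      have hw1v : pol Q v w1 = 0 := by rw [hw1, pol_smul_right hQ, pol_comm v z, hzv, mul_zero]
      have hw1u : pol Q u w1 = 0 := by rw [hw1, pol_smul_right hQ, pol_comm u z, hzu, mul_zero]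
      have hw2y : pol Q y (w - w1) = 0 := by
        rw [pol_sub_right hQ, hw1, pol_smul_right hQ, pol_comm y z, hzy]; ring
      have hw2u : pol Q u (w - w1) = 0 := by rw [pol_sub_right hQ, huw, hw1u, sub_zero]
      have : w = w1 + (w - w1) := by abel
      rw [this, ← sg_mul hQ u w1 (w - w1) hw1u hw2u]
      exact mul_mem (hA u w1 hvu hw1v) (hB u (w - w1) hyu hw2y)
    -- a hyperbolic pair in `⟨v, y⟩^⊥`
    obtain ⟨e, f, hve, hvf, hye, hyf, hqe, hqf, hef⟩ := exists_hyperbolic_perp2 hQ hn v y
    have hyL : y ∉ Submodule.span F {v} := hgv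
    have hnotin : ∀ a b : ι → F, pol Q v b = 0 → pol Q y b = 0 → pol Q a b = 1 →
        y ∉ Submodule.span F {v, a} := by
      intro a b hvb hyb hab hmem
      obtain ⟨α, β, hαβ⟩ := Submodule.mem_span_pair.1 hmem
      have h1 : pol Q y b = β := by
        rw [← hαβ, pol_add_left hQ, pol_smul_left hQ, pol_smul_left hQ, hvb, hab]; ring
      rw [hyb] at h1
      rw [← h1, zero_smul, add_zero] at hαβ
      apply hyL
      rw [← hαβ]
      exact Submodule.smul_mem _ _ (Submodule.mem_span_singleton_self v)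
    have heS : e ∈ SS hQ M := hC e hqe hve hye (hnotin e f hvf hyf hef)
    have hfS : f ∈ SS hQ M := hC f hqf hvf hyf (hnotin f e hve hye (by rw [pol_comm]; exact hef))
    exact NN_le_of_SS_not_perp hQ hn (Submodule.span F {f}) M hM
      (fun u hu => by
        obtain ⟨c, rfl⟩ := Submodule.mem_span_singleton.1 hu
        exact SS_smul hQ M c f hfS)
      e f heS (Submodule.mem_span_singleton_self f) (by rw [hef]; exact one_ne_zero)

end NonsingularPoint

end Cfsg.Agent.H9.Orth
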