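import Mathlib
import Cfsg.Agent.H9.OrthU

set_option autoImplicit false
set_option linter.unusedSectionVars false
set_option linter.style.haveILetI false
open Cfsg

/-!
Maximality in `Ω` of the stabilizer of an orthogonal decomposition into two non-isometric
nondegenerate halves.
-/

namespace Cfsg.Agent.H9.Orth

open Matrix
open scoped commutatorElement

section Halves

variable {ι : Type} [Fintype ι] [DecidableEq ι] {F : Type*} [Field F] [Fintype F]
variable {Q : (ι → F) → F}
variable (hQ : Cfsg.Geo.IsNondegenerateQuadraticForm Q)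

omit [Fintype F] in
/-- an isometry mapping `X` into `Y` of the same dimension gives an isometry `X ≃ Y` -/
lemma areIsometric_of_act (g : GL ι F) (hgi : g ∈ Cfsg.isometryGroup F Q)
    (X Y : Submodule F (ι → F)) (hdim : Module.finrank F X = Module.finrank F Y)
    (h : ∀ x ∈ X, act g x ∈ Y) : Cfsg.Geo.AreIsometricFor Q X Y := by
  let f : X →ₗ[F] Y := (Matrix.mulVecLin (g : Matrix ι ι F)).restrict h
  have hf : ∀ x : X, ((f x : Y) : ι → F) = act g (x : ι → F) := fun x => rfl
  have hinj : Function.Injective f := by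
    intro x y hxy
    have h1 : act g (x : ι → F) = act g (y : ι → F) := by
      rw [← hf, ← hf, hxy]
    exact Subtype.ext (act_injective g h1)
  refine ⟨LinearMap.linearEquivOfInjective f hinj hdim, fun w => ?_⟩
  show Q ((f w : Y) : ι → F) = Q (w : ι → F)
  rw [hf, Q_act g hgi]

omit [Fintype ι] [DecidableEq ι] [Fintype F] in
lemma areIsometric_symm (X Y : Submodule F (ι → F)) (h : Cfsg.Geo.AreIsometricFor Q X Y) :
    Cfsg.Geo.AreIsometricFor Q Y X := by
  obtain ⟨e, he⟩ := h
  refine ⟨e.symm, fun w => ?_⟩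
  have := he (e.symm w)
  rw [LinearEquiv.apply_symm_apply] at this
  exact this.symm

include hQ

/-- **Maximality of the stabilizer of two non-isometric nondegenerate halves in `Ω`** -/
theorem nonisometric_halves_maximal (hn : 13 ≤ Fintype.card ι) (D : Fin 2 → Submodule F (ι → F))
    {k : ℕ} (hD : Cfsg.Geo.IsNondegenerateMDecomposition (QuadraticMap.polar Q) k D)
    (hk : 2 * k = Fintype.card ι)
    (hni : ¬ Cfsg.Geo.AreIsometricFor Q (D 0) (D 1)) :
    Cfsg.Geo.IsMaximalIn (Cfsg.Geo.omegaGL Q)
      (Cfsg.Geo.decompositionStabilizer D ⊓ Cfsg.Geo.omegaGL Q) := by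
  have hfr : ∀ i, Module.finrank F (D i) = k := hD.decomp.finrank_eq
  have hWr := inf_perp_of_nondegOn hQ (D 0) (hD.nondegenerate 0)
  have hsum := finrank_add_finrank_perp hQ (D 0)
  rw [hfr 0] at hsum
  have hperp : D 1 = perp hQ (D 0) := by
    apply Submodule.eq_of_le_of_finrank_eq
    · intro x hx
      rw [mem_perp]
      intro w hw
      exact hD.orthogonal 0 1 (by decide) w hw x hx
    · rw [hfr 1]; omega
  -- the two stabilizers agree
  have heq : Cfsg.Geo.decompositionStabilizer D ⊓ Cfsg.Geo.omegaGL Q =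
      Cfsg.Geo.subspaceStabilizer (D 0) ⊓ Cfsg.Geo.omegaGL Q := by
    apply le_antisymm
    · rintro g ⟨⟨σ, hσ⟩, hg2⟩
      refine ⟨?_, hg2⟩
      have hgi := omegaGL_le_iso hg2
      have h0 : σ 0 = 0 := by
        by_contra h
        have h' : σ 0 = 1 := by
          have : ∀ l : Fin 2, l ≠ 0 → l = 1 := by decide
          exact this _ h
        apply hni
        apply areIsometric_of_act g hgi (D 0) (D 1) (by rw [hfr 0, hfr 1])
        intro x hx
        rw [← h', ← hσ 0]
        exact ⟨x, hx, by rw [Matrix.toLin'_apply]⟩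
      have hmap := hσ 0
      rw [h0] at hmap
      apply mem_stab_of
      · intro v hv
        rw [← hmap]
        exact ⟨v, hv, by rw [Matrix.toLin'_apply]⟩
      · intro v hv
        rw [← hmap] at hv
        obtain ⟨v', hv', rfl⟩ := hv
        rw [Matrix.toLin'_apply, act_inv_act]
        exact hv'
    · rintro g ⟨hg1, hg2⟩
      refine ⟨⟨1, fun i => ?_⟩, hg2⟩
      have hgi := omegaGL_le_iso hg2
      have hg1' := stab_perp_of_stab hQ (D 0) g hgi hg1
      rw [← hperp] at hg1'
      rw [Equiv.Perm.one_apply]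
      apply map_eq_of_forall g (D i) (D i) rfl
      intro x hx
      fin_cases i
      · exact ((mem_stab_iff (D 0) g).1 hg1 x).1 hx
      · exact ((mem_stab_iff (D 1) g).1 hg1' x).1 hx
  rw [heq]
  have hD00 : D 0 ≠ ⊥ := by
    intro h
    have := hfr 0
    rw [h, finrank_bot] at this
    omega
  have hD01 : D 0 ≠ ⊤ := by
    intro h
    have := hfr 0
    rw [h, finrank_top, Module.finrank_fintype_fun_eq_card] at this
    omega
  apply nondeg_stab_maximal' hQ hn (D 0) hWr hD00 hD01
  · intro _ g hgi hg
    rw [← hperp] at hg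
    exact hni (areIsometric_symm (D 1) (D 0)
      (areIsometric_of_act g hgi (D 1) (D 0) (by rw [hfr 0, hfr 1]) hg))
  · rintro ⟨-, h2, -⟩
    rw [hfr 0] at h2
    omega
  · rintro ⟨-, h2, -⟩
    rw [← hperp, hfr 1] at h2
    omega

end Halves

end Cfsg.Agent.H9.Orth
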