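import Mathlib
import Cfsg.Agent.H9.OrthU

set_option autoImplicit false
set_option linter.unusedSectionVars false
set_option linter.style.haveILetI false
open Cfsg

/-!
An orthogonal sum of two isometric nondegenerate spaces of even dimension is of plus type.
-/

namespace Cfsg.Agent.H9.Orth

open Matrix
open scoped commutatorElement

section PlusOfHalves

variable {ι : Type} [Fintype ι] [DecidableEq ι] {F : Type*} [Field F] [Fintype F]
variable {Q : (ι → F) → F}
variable (hQ : Cfsg.Geo.IsNondegenerateQuadraticForm Q)

include hQ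

/-- the span of a family of pairwise orthogonal singular vectors is totally singular -/
lemma ts_span_of_pairwise {κ : Type*} (u : κ → (ι → F)) (hq : ∀ i, Q (u i) = 0)
    (hp : ∀ i j, pol Q (u i) (u j) = 0) :
    Cfsg.Geo.IsTotallySingularQuad Q (Submodule.span F (Set.range u)) := by
  have h1 : ∀ i, ∀ w ∈ Submodule.span F (Set.range u), pol Q (u i) w = 0 := by
    intro i w hw
    induction hw using Submodule.span_induction with
    | mem x hx =>
      obtain ⟨j, rfl⟩ := hx
      exact hp i j
    | zero => exact pol_zero_right hQ _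
    | add x y _ _ hx hy => rw [pol_add_right hQ, hx, hy, add_zero]
    | smul c x _ hx => rw [pol_smul_right hQ, hx, mul_zero]
  have h2 : ∀ x ∈ Submodule.span F (Set.range u), ∀ w ∈ Submodule.span F (Set.range u),
      pol Q x w = 0 := by
    intro x hx w hw
    induction hx using Submodule.span_induction with
    | mem x hx =>
      obtain ⟨j, rfl⟩ := hx
      exact h1 j w hw
    | zero => exact pol_zero_left hQ _
    | add x y _ _ hx hy => rw [pol_add_left hQ, hx, hy, add_zero]
    | smul c x _ hx => rw [pol_smul_left hQ, hx, mul_zero]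
  intro x hx
  induction hx using Submodule.span_induction with
  | mem x hx =>
    obtain ⟨j, rfl⟩ := hx
    exact hq j
  | zero => exact Q_zero hQ
  | add x y hx' hy' hx hy => rw [Q_add Q, hx, hy, h2 x hx' y hy']; ring
  | smul c x _ hx => rw [hQ.smul, hx, mul_zero]

/-- characteristic two: the graph of the isometry is totally singular -/
lemma plusType_of_halves_even (h2 : (2 : F) = 0) (W : Submodule F (ι → F))
    (hW : W ⊓ perp hQ W = ⊥) (hdim : Module.finrank F W = Module.finrank F (perp hQ W))
    (g : GL ι F) (hgi : g ∈ Cfsg.isometryGroup F Q) (hg : ∀ y ∈ perp hQ W, act g y ∈ W) :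
    Cfsg.Geo.IsPlusTypeOn Q ⊤ := by
  set L : (ι → F) →ₗ[F] (ι → F) := LinearMap.id + Matrix.mulVecLin (g : Matrix ι ι F) with hL
  have hLx : ∀ x, L x = x + act g x := fun x => rfl
  refine ⟨(perp hQ W).map L, le_top, ?_, ?_⟩
  · rintro _ ⟨x, hx, rfl⟩
    rw [hLx, Q_add Q, Q_act g hgi, (mem_perp' hQ W x).1 hx _ (hg x hx)]
    linear_combination Q x * h2
  · have hinj : ∀ x ∈ perp hQ W, L x = 0 → x = 0 := by
      intro x hx h
      rw [hLx] at h
      have h3 : x = -act g x := eq_neg_of_add_eq_zero_left h
      apply inf_perp_mem_eq_zero hQ W hW x _ hx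
      rw [h3]
      exact W.neg_mem (hg x hx)
    have hfr : Module.finrank F ((perp hQ W).map L) = Module.finrank F (perp hQ W) := by
      have hinj' : Function.Injective (L.domRestrict (perp hQ W)) := by
        intro a b hab
        have : L ((a : ι → F) - b) = 0 := by
          rw [map_sub]; exact sub_eq_zero.2 hab
        have h4 := hinj _ (Submodule.sub_mem _ a.2 b.2) this
        exact Subtype.ext (sub_eq_zero.1 h4)
      rw [← LinearMap.range_domRestrict, LinearMap.finrank_range_of_inj hinj']
    have hsum := finrank_add_finrank_perp hQ W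
    rw [hfr, finrank_top, Module.finrank_fintype_fun_eq_card]
    omega

/-- odd characteristic: an explicit totally singular subspace from an orthogonal basis -/
lemma plusType_of_halves_odd (h2 : (2 : F) ≠ 0) (W : Submodule F (ι → F))
    (hW : W ⊓ perp hQ W = ⊥) (hdim : Module.finrank F W = Module.finrank F (perp hQ W))
    (m : ℕ) (hm : Module.finrank F (perp hQ W) = m + m)
    (g : GL ι F) (hgi : g ∈ Cfsg.isometryGroup F Q) (hg : ∀ y ∈ perp hQ W, act g y ∈ W) :
    Cfsg.Geo.IsPlusTypeOn Q ⊤ := by
  classical
  haveI : Invertible (2 : F) := invertibleOfNonzero h2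
  have hβ : LinearMap.IsSymm ((BF hQ).restrict (perp hQ W)) := ⟨fun x y => by
    show pol Q (x : ι → F) (y : ι → F) = pol Q (y : ι → F) (x : ι → F)
    exact pol_comm _ _⟩
  obtain ⟨v, hv⟩ := LinearMap.BilinForm.exists_orthogonal_basis hβ
  rw [LinearMap.isOrthoᵢ_def] at hv
  let e : Fin (Module.finrank F (perp hQ W)) ≃ Fin m ⊕ Fin m :=
    (finCongr hm).trans finSumFinEquiv.symm
  let v' : Module.Basis (Fin m ⊕ Fin m) F (perp hQ W) := v.reindex e
  have hv'B : ∀ x, ((v' x : perp hQ W) : ι → F) ∈ perp hQ W := fun x => (v' x).2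
  have hortho : ∀ x y, x ≠ y → pol Q ((v' x : perp hQ W) : ι → F) (v' y : ι → F) = 0 := by
    intro x y hxy
    have h1 : e.symm x ≠ e.symm y := fun h => hxy (e.symm.injective h)
    have h3 := hv _ _ h1
    simp only [v', Module.Basis.reindex_apply]
    exact h3
  -- the basis vectors are nonsingular
  have hns : ∀ x, Q ((v' x : perp hQ W) : ι → F) ≠ 0 := by
    intro x hqx
    have h1 : ((BF hQ).restrict (perp hQ W)) (v' x) = 0 := by
      apply v'.ext
      intro y
      show pol Q ((v' x : perp hQ W) : ι → F) (v' y : ι → F) = 0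
      by_cases hxy : x = y
      · rw [← hxy, pol_self hQ, hqx, mul_zero]
      · exact hortho x y hxy
    have h3 : ((v' x : perp hQ W) : ι → F) ∈ perp hQ (perp hQ W) := by
      rw [mem_perp']
      intro w hw
      exact congrArg (fun f => f ⟨w, hw⟩) h1
    rw [perp_perp] at h3
    have h4 := inf_perp_mem_eq_zero hQ W hW _ h3 (hv'B x)
    exact v'.ne_zero x (Subtype.ext h4)
  have hpol : ∀ x y, pol Q ((v' x : perp hQ W) : ι → F) (v' y : ι → F) =
      if x = y then 2 * Q ((v' x : perp hQ W) : ι → F) else 0 := by
    intro x y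
    split_ifs with h
    · rw [← h, pol_self hQ]
    · exact hortho x y h
  -- the coefficients
  have hcard : Fintype.card F % 2 = 1 := by
    apply FiniteField.odd_card_of_char_ne_two
    intro h
    apply h2
    have : ((2 : ℕ) : F) = 0 := by
      rw [← h]; exact CharP.cast_eq_zero F (ringChar F)
    exact_mod_cast this
  have hst : ∀ j : Fin m, ∃ s t : F, Q ((v' (Sum.inl j) : perp hQ W) : ι → F) * s ^ 2 +
      Q ((v' (Sum.inr j) : perp hQ W) : ι → F) * t ^ 2 =
        -Q ((v' (Sum.inl j) : perp hQ W) : ι → F) := by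
    intro j
    set a := Q ((v' (Sum.inl j) : perp hQ W) : ι → F) with ha
    set b := Q ((v' (Sum.inr j) : perp hQ W) : ι → F) with hb
    have ha0 : a ≠ 0 := hns _
    have hb0 : b ≠ 0 := hns _
    have hf : (Polynomial.C a * Polynomial.X ^ 2 + Polynomial.C a).degree = 2 := by
      rw [Polynomial.degree_add_eq_left_of_degree_lt]
      · rw [Polynomial.degree_C_mul_X_pow 2 ha0]; rfl
      · rw [Polynomial.degree_C_mul_X_pow 2 ha0, Polynomial.degree_C ha0]; decide
    have hg' : (Polynomial.C b * Polynomial.X ^ 2).degree = 2 := by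
      rw [Polynomial.degree_C_mul_X_pow 2 hb0]; rfl
    obtain ⟨s, t, hst⟩ := FiniteField.exists_root_sum_quadratic hf hg' hcard
    refine ⟨s, t, ?_⟩
    simp only [Polynomial.eval_add, Polynomial.eval_mul, Polynomial.eval_C, Polynomial.eval_pow,
      Polynomial.eval_X] at hst
    linear_combination hst
  choose s t hst using hst
  -- the twisted vectors
  let r : Fin m ⊕ Fin m → (ι → F) := fun x =>
    match x with
    | Sum.inl j => s j • ((v' (Sum.inl j) : perp hQ W) : ι → F) +
        t j • ((v' (Sum.inr j) : perp hQ W) : ι → F)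
    | Sum.inr j => (-(Q ((v' (Sum.inr j) : perp hQ W) : ι → F) * t j /
        Q ((v' (Sum.inl j) : perp hQ W) : ι → F))) • ((v' (Sum.inl j) : perp hQ W) : ι → F) +
        s j • ((v' (Sum.inr j) : perp hQ W) : ι → F)
  have hrB : ∀ x, r x ∈ perp hQ W := by
    intro x
    rcases x with j | j
    · exact Submodule.add_mem _ (Submodule.smul_mem _ _ (hv'B _)) (Submodule.smul_mem _ _ (hv'B _))
    · exact Submodule.add_mem _ (Submodule.smul_mem _ _ (hv'B _)) (Submodule.smul_mem _ _ (hv'B _))
  let u : Fin m ⊕ Fin m → (ι → F) := fun x => ((v' x : perp hQ W) : ι → F) + act g (r x)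
  have hux : ∀ x, u x = ((v' x : perp hQ W) : ι → F) + act g (r x) := fun x => rfl
  have hBW : ∀ p ∈ perp hQ W, ∀ q ∈ perp hQ W, pol Q p (act g q) = 0 := by
    intro p hp q hq
    exact (mem_perp' hQ W p).1 hp _ (hg q hq)
  have hupol : ∀ x y, pol Q (u x) (u y) =
      pol Q ((v' x : perp hQ W) : ι → F) (v' y : ι → F) + pol Q (r x) (r y) := by
    intro x y
    rw [hux, hux, pol_add_left hQ, pol_add_right hQ, pol_add_right hQ,
      hBW _ (hv'B x) _ (hrB y), pol_comm (act g (r x)) _, hBW _ (hv'B y) _ (hrB x),
      pol_act g hgi]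
    ring
  have huq : ∀ x, Q (u x) = Q ((v' x : perp hQ W) : ι → F) + Q (r x) := by
    intro x
    rw [hux, Q_add Q, Q_act g hgi, hBW _ (hv'B x) _ (hrB x), add_zero]
  have hq : ∀ x, Q (u x) = 0 := by
    intro x
    rw [huq]
    rcases x with j | j
    · show _ + Q (s j • _ + t j • _) = 0
      rw [Q_add Q, hQ.smul, hQ.smul, pol_smul_left hQ, pol_smul_right hQ,
        hortho _ _ (by simp)]
      linear_combination hst j
    · show _ + Q ((-(_ * t j / _)) • _ + s j • _) = 0
      rw [Q_add Q, hQ.smul, hQ.smul, pol_smul_left hQ, pol_smul_right hQ,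
        hortho _ _ (by simp)]
      have ha0 := hns (Sum.inl j)
      field_simp
      linear_combination Q ((v' (Sum.inr j) : perp hQ W) : ι → F) * hst j
  have hp : ∀ x y, pol Q (u x) (u y) = 0 := by
    intro x y
    by_cases hxy : x = y
    · rw [← hxy, pol_self hQ, hq x, mul_zero]
    rw [hupol, hortho x y hxy, zero_add]
    rcases x with j | j <;> rcases y with j' | j'
    · have hjj' : j ≠ j' := fun h => hxy (by rw [h])
      show pol Q (s j • _ + t j • _) (s j' • _ + t j' • _) = 0
      simp only [pol_add_left hQ, pol_add_right hQ, pol_smul_left hQ, pol_smul_right hQ]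
      rw [hortho (Sum.inl j) (Sum.inl j') (by simpa using hjj'),
        hortho (Sum.inl j) (Sum.inr j') (by simp),
        hortho (Sum.inr j) (Sum.inl j') (by simp),
        hortho (Sum.inr j) (Sum.inr j') (by simpa using hjj')]
      ring
    · show pol Q (s j • _ + t j • _) ((-(_ * t j' / _)) • _ + s j' • _) = 0
      simp only [pol_add_left hQ, pol_add_right hQ, pol_smul_left hQ, pol_smul_right hQ]
      by_cases hjj' : j = j'
      · subst hjj'
        rw [hortho (Sum.inl j) (Sum.inr j) (by simp), hortho (Sum.inr j) (Sum.inl j) (by simp),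
          pol_self hQ, pol_self hQ]
        have ha0 := hns (Sum.inl j)
        field_simp
        ring
      · rw [hortho (Sum.inl j) (Sum.inl j') (by simpa using hjj'),
          hortho (Sum.inl j) (Sum.inr j') (by simp),
          hortho (Sum.inr j) (Sum.inl j') (by simp),
          hortho (Sum.inr j) (Sum.inr j') (by simpa using hjj')]
        ring
    · show pol Q ((-(_ * t j / _)) • _ + s j • _) (s j' • _ + t j' • _) = 0
      simp only [pol_add_left hQ, pol_add_right hQ, pol_smul_left hQ, pol_smul_right hQ]
      by_cases hjj' : j = j'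
      · subst hjj'
        rw [hortho (Sum.inl j) (Sum.inr j) (by simp), hortho (Sum.inr j) (Sum.inl j) (by simp),
          pol_self hQ, pol_self hQ]
        have ha0 := hns (Sum.inl j)
        field_simp
        ring
      · rw [hortho (Sum.inl j) (Sum.inl j') (by simpa using hjj'),
          hortho (Sum.inl j) (Sum.inr j') (by simp),
          hortho (Sum.inr j) (Sum.inl j') (by simp),
          hortho (Sum.inr j) (Sum.inr j') (by simpa using hjj')]
        ring
    · have hjj' : j ≠ j' := fun h => hxy (by rw [h])
      show pol Q ((-(_ * t j / _)) • _ + s j • _) ((-(_ * t j' / _)) • _ + s j' • _) = 0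
      simp only [pol_add_left hQ, pol_add_right hQ, pol_smul_left hQ, pol_smul_right hQ]
      rw [hortho (Sum.inl j) (Sum.inl j') (by simpa using hjj'),
        hortho (Sum.inl j) (Sum.inr j') (by simp),
        hortho (Sum.inr j) (Sum.inl j') (by simp),
        hortho (Sum.inr j) (Sum.inr j') (by simpa using hjj')]
      ring
  -- linear independence
  have hli : LinearIndependent F u := by
    rw [Fintype.linearIndependent_iff]
    intro c hc
    have h1 : ∑ x, c x • u x = (∑ x, c x • ((v' x : perp hQ W) : ι → F)) +
        act g (∑ x, c x • r x) := by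
      have : act g (∑ x, c x • r x) = ∑ x, c x • act g (r x) := by
        show Matrix.mulVecLin (g : Matrix ι ι F) _ = _
        rw [map_sum]
        apply Finset.sum_congr rfl
        intro x _
        rw [map_smul]
        rfl
      rw [this, ← Finset.sum_add_distrib]
      apply Finset.sum_congr rfl
      intro x _
      rw [hux, smul_add]
    rw [h1] at hc
    have h3 : (∑ x, c x • ((v' x : perp hQ W) : ι → F)) ∈ perp hQ W :=
      Submodule.sum_mem _ (fun x _ => Submodule.smul_mem _ _ (hv'B x))
    have h4 : act g (∑ x, c x • r x) ∈ W :=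
      hg _ (Submodule.sum_mem _ (fun x _ => Submodule.smul_mem _ _ (hrB x)))
    have h5 := decomp_unique hQ W hW (act g (∑ x, c x • r x)) 0 _ 0 h4 W.zero_mem h3
      (Submodule.zero_mem _) (by rw [add_comm, hc, add_zero])
    have h6 : ∑ x, c x • v' x = 0 := by
      apply Subtype.ext
      rw [Submodule.coe_sum]
      exact h5.2
    exact Fintype.linearIndependent_iff.1 v'.linearIndependent c h6
  refine ⟨Submodule.span F (Set.range u), le_top, ts_span_of_pairwise hQ u hq hp, ?_⟩
  rw [finrank_span_eq_card hli, finrank_top, Module.finrank_fintype_fun_eq_card, Fintype.card_sum,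
    Fintype.card_fin]
  have hsum := finrank_add_finrank_perp hQ W
  omega

/-- an orthogonal sum of two isometric nondegenerate spaces of even dimension is of plus type -/
theorem plusType_of_halves (W : Submodule F (ι → F))
    (hW : W ⊓ perp hQ W = ⊥) (hdim : Module.finrank F W = Module.finrank F (perp hQ W))
    (heven : Even (Module.finrank F W))
    (g : GL ι F) (hgi : g ∈ Cfsg.isometryGroup F Q) (hg : ∀ y ∈ perp hQ W, act g y ∈ W) :
    Cfsg.Geo.IsPlusTypeOn Q ⊤ := by
  by_cases h2 : (2 : F) = 0
  · exact plusType_of_halves_even hQ h2 W hW hdim g hgi hg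
  · obtain ⟨m, hm⟩ := heven
    exact plusType_of_halves_odd hQ h2 W hW hdim m (by rw [← hdim]; exact hm) g hgi hg

end PlusOfHalves

end Cfsg.Agent.H9.Orth
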