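import Mathlib
import Cfsg.Agent.H9.OrthP
import Cfsg.Agent.H9.OrthJ
import Cfsg.Agent.Lib.Helper5.Orth.Family2

set_option autoImplicit false
set_option linter.unusedSectionVars false
set_option linter.style.haveILetI false
open Cfsg

/-!
The stabilizer in `Ω⁺` of a totally singular subspace of dimension `n/2 - 1` is not maximal: it
fixes both maximal totally singular subspaces through it.
-/

namespace Cfsg.Agent.H9.Orth

open Matrix Cfsg.Agent.Lib.Helper5.OrthPar Cfsg.Agent.Lib.Helper5.OrthTv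
open scoped commutatorElement

section Submax

variable {ι : Type} [Fintype ι] [DecidableEq ι] {F : Type*} [Field F] [Fintype F]
variable {Q : (ι → F) → F}
variable (hQ : Cfsg.Geo.IsNondegenerateQuadraticForm Q)

include hQ

theorem submax_ts_not_maximal (hn : 7 ≤ Fintype.card ι) (k : ℕ) (hk : 2 * k = Fintype.card ι)
    (hplus : Cfsg.Geo.IsPlusTypeOn Q ⊤) (W : Submodule F (ι → F))
    (hW : Cfsg.Geo.IsTotallySingularQuad Q W) (hdim : Module.finrank F W + 1 = k) :
    ∃ K : Subgroup (GL ι F),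
      Cfsg.Geo.subspaceStabilizer W ⊓ Cfsg.Geo.omegaGL Q < K ∧ K < Cfsg.Geo.omegaGL Q := by
  classical
  have hn5 : 5 ≤ Fintype.card ι := by omega
  obtain ⟨U0, -, hU0, hU0d⟩ := hplus
  rw [finrank_top, Module.finrank_fintype_fun_eq_card] at hU0d
  have hWperp : W ≤ perp hQ W := by
    intro w hw
    rw [mem_perp]
    intro w' hw'
    exact polar_eq_zero_of_ts W hW w' w hw' hw
  have hU0perp : U0 ≤ perp hQ U0 := by
    intro w hw
    rw [mem_perp]
    intro w' hw'
    exact polar_eq_zero_of_ts U0 hU0 w' w hw' hw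
  -- a singular vector of `W^⊥` outside `W`
  have hu : ∃ u ∈ perp hQ W, Q u = 0 ∧ u ∉ W := by
    have h1 := Submodule.finrank_sup_add_finrank_inf_eq U0 (perp hQ W)
    have h2 := finrank_add_finrank_perp hQ W
    have h3 := finrank_add_finrank_perp hQ (U0 ⊓ W)
    have h4 : U0 ⊔ perp hQ W ≤ perp hQ (U0 ⊓ W) :=
      sup_le (hU0perp.trans (perp_anti hQ inf_le_left)) (perp_anti hQ inf_le_right)
    have h5 := Submodule.finrank_mono h4
    have h6 : Module.finrank F (U0 ⊓ W : Submodule F (ι → F)) <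
        Module.finrank F (U0 ⊓ perp hQ W : Submodule F (ι → F)) := by omega
    have h7 : ¬ (U0 ⊓ perp hQ W ≤ U0 ⊓ W) := by
      intro h
      have := Submodule.finrank_mono h
      omega
    rw [SetLike.not_le_iff_exists] at h7
    obtain ⟨u, hu1, hu2⟩ := h7
    obtain ⟨huU0, huW⟩ := Submodule.mem_inf.1 hu1
    exact ⟨u, huW, hU0 u huU0, fun h => hu2 (Submodule.mem_inf.2 ⟨huU0, h⟩)⟩
  obtain ⟨u, huP, hqu, huW⟩ := hu
  set U1 := W ⊔ Submodule.span F {u} with hU1
  have hWU1 : W ≤ U1 := le_sup_left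
  have huU1 : u ∈ U1 := Submodule.mem_sup_right (Submodule.mem_span_singleton_self u)
  have hts1 : Cfsg.Geo.IsTotallySingularQuad Q U1 := by
    intro x hx
    obtain ⟨w, hw, s, hs, rfl⟩ := Submodule.mem_sup.1 hx
    obtain ⟨c, rfl⟩ := Submodule.mem_span_singleton.1 hs
    rw [Q_add_smul hQ, hW w hw, hqu, (mem_perp hQ W u).1 huP w hw]; ring
  have hU1d : Module.finrank F U1 = k := by
    have h1 : W < U1 := by
      refine lt_of_le_of_ne hWU1 ?_
      intro h
      apply huW
      rw [h]; exact huU1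
    have h2 := Submodule.finrank_lt_finrank_of_lt h1
    have h3 := Submodule.finrank_add_le_finrank_add_finrank W (Submodule.span F {u})
    have h4 := finrank_span_singleton_le (F := F) u
    have h5 : U1 ≤ perp hQ U1 := by
      intro w hw
      rw [mem_perp]
      intro w' hw'
      exact polar_eq_zero_of_ts U1 hts1 w' w hw' hw
    have h6 := Submodule.finrank_mono h5
    have h7 := finrank_add_finrank_perp hQ U1
    omega
  have hMax : IsMaxTS Q U1 := ⟨hts1, by rw [hU1d]; exact hk⟩
  have hU10 : U1 ≠ ⊥ := by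
    intro h
    rw [h, finrank_bot] at hU1d
    omega
  have hΩ : Cfsg.Geo.omegaGL Q = NN hQ := omegaGL_eq_NN hQ hn
  have hpm := parabolic_maximal hQ hn U1 hU10 hts1 (by
    intro _ _ _ _
    rw [hU1d]; omega)
  refine ⟨Cfsg.Geo.subspaceStabilizer U1 ⊓ Cfsg.Geo.omegaGL Q, ?_, hpm.1⟩
  rw [lt_iff_le_and_ne]
  constructor
  · intro g hg
    obtain ⟨hgW, hgΩ⟩ := Subgroup.mem_inf.1 hg
    refine Subgroup.mem_inf.2 ⟨?_, hgΩ⟩
    have hgΩ' := hgΩ
    obtain ⟨g', hg', rfl⟩ := hgΩ
    have hpar := omega_par hQ hn5 g' hg'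
    have hgi : (g' : GL ι F) ∈ Cfsg.isometryGroup F Q := g'.2
    have hgen : Cfsg.isometryGroup F Q ≤ RR hQ := iso_le_RR hQ (Or.inr (by omega))
    have hfp := (family_parity hQ hgen U1 k hk.symm hMax (g' : GL ι F) hgi).2 hpar
    -- `W ≤ U1 ⊓ g U1`
    have hle : W ≤ U1 ⊓ mapS (g' : GL ι F) U1 := by
      intro w hw
      refine Submodule.mem_inf.2 ⟨hWU1 hw, ?_⟩
      rw [mem_mapS']
      apply hWU1
      exact ((mem_stab_iff W _).1 (inv_mem hgW) w).1 hw
    have h1 := Submodule.finrank_mono hle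
    have h2 : Module.finrank F (U1 ⊓ mapS (g' : GL ι F) U1 : Submodule F (ι → F)) ≤ k := by
      rw [← hU1d]; exact Submodule.finrank_mono inf_le_left
    have h3 : Module.finrank F (U1 ⊓ mapS (g' : GL ι F) U1 : Submodule F (ι → F)) = k := by
      by_contra hne
      have h4 : Module.finrank F (U1 ⊓ mapS (g' : GL ι F) U1 : Submodule F (ι → F)) = k - 1 := by
        omega
      rw [h4] at hfp
      have : k - (k - 1) = 1 := by omega
      rw [this] at hfp
      exact absurd hfp (by decide)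
    have h5 : U1 ⊓ mapS (g' : GL ι F) U1 = U1 :=
      Submodule.eq_of_le_of_finrank_eq inf_le_left (by rw [h3, hU1d])
    have h6 : U1 ≤ mapS (g' : GL ι F) U1 := by
      intro v hv
      rw [← h5] at hv
      exact (Submodule.mem_inf.1 hv).2
    have h7 : mapS (g' : GL ι F) U1 = U1 :=
      (Submodule.eq_of_le_of_finrank_eq h6 (by rw [finrank_mapS])).symm
    exact stab_of_map_eq _ U1 h7
  · intro heq
    -- an element of `K` moving `W`
    have hW0 : W ≠ ⊥ := by
      intro h
      rw [h, finrank_bot] at hdim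
      omega
    obtain ⟨x, hxW, hx0⟩ := Submodule.exists_mem_ne_zero_of_ne_bot hW0
    have hxu : x ∉ Submodule.span F {u} := by
      intro h
      obtain ⟨c, hc⟩ := Submodule.mem_span_singleton.1 h
      have hc0 : c ≠ 0 := by
        rintro rfl
        rw [zero_smul] at hc
        exact hx0 hc.symm
      apply huW
      have : u = c⁻¹ • x := by rw [← hc, smul_smul, inv_mul_cancel₀ hc0, one_smul]
      rw [this]
      exact W.smul_mem _ hxW
    obtain ⟨w', hw'x, hw'u⟩ := exists_pol_eq_one hQ (Submodule.span F {u}) x hxu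
    have huw' : pol Q u w' = 0 := by
      rw [pol_comm]; exact hw'u u (Submodule.mem_span_singleton_self u)
    have hmem : sg hQ u w' ∈ Cfsg.Geo.subspaceStabilizer U1 ⊓ Cfsg.Geo.omegaGL Q := by
      refine ⟨sg_mem_stab hQ U1 hts1 u w' huU1 huw', ?_⟩
      rw [hΩ]; exact sg_mem_NN' hQ hn5 u w' huw'
    rw [← heq] at hmem
    have h1 := ((mem_stab_iff W _).1 hmem.1 x).1 hxW
    rw [act_sg hQ u w' hqu huw', (mem_perp hQ W u).1 huP x hxW, mul_zero, sub_zero, zero_smul,
      sub_zero, pol_comm x w', hw'x, one_smul] at h1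
    have h2 := W.sub_mem h1 hxW
    rw [add_sub_cancel_left] at h2
    exact huW h2

end Submax

end Cfsg.Agent.H9.Orth
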