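import Mathlib

set_option autoImplicit false

/-! Facts on `A₄`, `S₄`, `A₅` used for the maximal subgroups of `PSL₂(q)`. -/

namespace Cfsg.Agent.H9.QSmall

open Equiv

theorem card_A4 : Nat.card (alternatingGroup (Fin 4)) = 12 := by
  rw [nat_card_alternatingGroup, Nat.card_eq_fintype_card, Fintype.card_fin]
  rfl

theorem card_A5 : Nat.card (alternatingGroup (Fin 5)) = 60 := by
  rw [nat_card_alternatingGroup, Nat.card_eq_fintype_card, Fintype.card_fin]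
  rfl

theorem card_S4 : Nat.card (Perm (Fin 4)) = 24 := by
  rw [Nat.card_perm, Nat.card_eq_fintype_card, Fintype.card_fin]
  rfl

/-- a copy of `S₃` in `S₄` -/
theorem s4_data : ∃ c t : Perm (Fin 4), orderOf c = 3 ∧ orderOf t = 2 ∧ t * c * t⁻¹ = c⁻¹ := by
  haveI : Fact (Nat.Prime 3) := ⟨Nat.prime_three⟩
  haveI : Fact (Nat.Prime 2) := ⟨Nat.prime_two⟩
  refine ⟨swap 0 1 * swap 1 2, swap 0 1, ?_, ?_, ?_⟩
  · exact orderOf_eq_prime (by decide) (by decide)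
  · exact orderOf_eq_prime (by decide) (by decide)
  · decide

set_option maxRecDepth 100000 in
/-- a copy of `D₅` in `A₅` -/
theorem a5_data : ∃ c t : alternatingGroup (Fin 5), orderOf c = 5 ∧ orderOf t = 2 ∧
    t * c * t⁻¹ = c⁻¹ := by
  haveI : Fact (Nat.Prime 5) := ⟨by norm_num⟩
  haveI : Fact (Nat.Prime 2) := ⟨Nat.prime_two⟩
  refine ⟨⟨swap 0 1 * swap 1 2 * swap 2 3 * swap 3 4, Equiv.Perm.mem_alternatingGroup.2 (by decide)⟩,
    ⟨swap 1 4 * swap 2 3, Equiv.Perm.mem_alternatingGroup.2 (by decide)⟩, ?_, ?_, ?_⟩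
  · exact orderOf_eq_prime (by decide) (by decide)
  · exact orderOf_eq_prime (by decide) (by decide)
  · decide

set_option maxRecDepth 100000 in
/-- element orders of `A₅` -/
theorem a5_pow : ∀ x : alternatingGroup (Fin 5), x ^ 2 = 1 ∨ x ^ 3 = 1 ∨ x ^ 5 = 1 := by
  decide

set_option maxRecDepth 100000 in
/-- a copy of `A₄` in `A₅` -/
theorem a5_klein : ∃ a b c : alternatingGroup (Fin 5), a * a = 1 ∧ b * b = 1 ∧ a * b = b * a ∧
    a ≠ 1 ∧ b ≠ 1 ∧ a ≠ b ∧ orderOf c = 3 ∧ c * a * c⁻¹ = a * b ∧ c * b * c⁻¹ = a := by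
  haveI : Fact (Nat.Prime 3) := ⟨Nat.prime_three⟩
  refine ⟨⟨swap 0 1 * swap 2 3, Equiv.Perm.mem_alternatingGroup.2 (by decide)⟩, ⟨swap 0 2 * swap 1 3, Equiv.Perm.mem_alternatingGroup.2 (by decide)⟩,
    ⟨swap 0 1 * swap 1 2, Equiv.Perm.mem_alternatingGroup.2 (by decide)⟩, ?_, ?_, ?_, ?_, ?_, ?_, ?_, ?_, ?_⟩
  · decide
  · decide
  · decide
  · decide
  · decide
  · decide
  · exact orderOf_eq_prime (by decide) (by decide)
  · decide
  · decide

end Cfsg.Agent.H9.QSmall
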