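import Mathlib
import Cfsg.Agent.H9.PSL2MaxGen
import Cfsg.Agent.H9.QSmall
import Cfsg.Agent.H9.AutPSL2Maps

set_option autoImplicit false

/-! Abstract group theory for the maximal subgroups of `PGL₂(q)`. -/

namespace Cfsg.Agent.H9.PGLAbs

open Subgroup

section general

variable {G : Type*} [Group G] [Finite G]

/-- a finite simple group has no proper non-trivial abelian subgroup which is the normalizer of
each of its non-trivial subgroups -/
theorem no_abelian_ssn [IsSimpleGroup G]
    (M : Subgroup G) (hMbot : M ≠ ⊥) (hMtop : M ≠ ⊤) (hab : ∀ a ∈ M, ∀ b ∈ M, a * b = b * a)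
    (hNor : ∀ H : Subgroup G, H ≤ M → H ≠ ⊥ → normalizer (H : Set G) = M) : False := by
  classical
  have hcard : Nat.card M ≠ 1 := by
    intro h
    exact hMbot (card_eq_one.1 h)
  obtain ⟨r, hr, hrM⟩ := Nat.exists_prime_and_dvd hcard
  haveI : Fact r.Prime := ⟨hr⟩
  obtain ⟨R⟩ : Nonempty (Sylow r M) := inferInstance
  set H : Subgroup G := (R : Subgroup M).map M.subtype with hHdef
  have hHM : H ≤ M := by
    rintro _ ⟨x, -, rfl⟩
    exact x.2
  have hRcard : Nat.card (R : Subgroup M) = r ^ (Nat.card M).factorization r :=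
    Sylow.card_eq_multiplicity R
  have hHcard : Nat.card H = r ^ (Nat.card M).factorization r := by
    rw [← hRcard]
    exact Nat.card_congr ((R : Subgroup M).equivMapOfInjective M.subtype
      M.subtype_injective).symm.toEquiv
  have hv : 1 ≤ (Nat.card M).factorization r :=
    (hr.dvd_iff_one_le_factorization Nat.card_pos.ne').1 hrM
  have hHbot : H ≠ ⊥ := by
    intro h
    rw [h, card_bot] at hHcard
    have h1 : r ^ 1 ≤ r ^ (Nat.card M).factorization r := Nat.pow_le_pow_right hr.pos hv
    rw [pow_one] at h1
    have := hr.two_le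
    omega
  have hN : normalizer (H : Set G) = M := hNor H hHM hHbot
  -- `H` is a Sylow subgroup of `G`
  have hmod := Sylow.card_quotient_normalizer_modEq_card_quotient hHcard
  have hmod' : H.relIndex (normalizer (H : Set G)) ≡ H.index [MOD r] := hmod
  rw [hN] at hmod'
  have hrel : H.relIndex M = (R : Subgroup M).index := by
    unfold Subgroup.relIndex Subgroup.subgroupOf
    rw [hHdef, comap_map_eq_self_of_injective M.subtype_injective]
  rw [hrel] at hmod'
  have hnd : ¬ r ∣ H.index := by
    intro h
    have := (Nat.ModEq.dvd_iff hmod' (dvd_refl r)).2 h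
    exact R.not_dvd_index this
  have hHp : IsPGroup r H := IsPGroup.of_card hHcard
  set P : Sylow r G := hHp.toSylow hnd with hP
  have hPH : (P : Subgroup G) = H := rfl
  apply Cfsg.Agent.Lib.Helper4.Simple.false_of_simple_of_normalizer_le_centralizer P
  · rw [hPH, hN]
    intro m hm
    rw [mem_centralizer_iff]
    intro x hx
    exact (hab m hm x (hHM hx)).symm
  · rw [hPH]
    intro h
    exact hHbot (card_eq_one.1 h)
  · rw [hPH]
    intro h
    apply hMtop
    rw [eq_top_iff]
    have : H = ⊤ := eq_top_of_card_eq H h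
    rw [← this]
    exact hHM

end general

section index_two

/-- a subgroup of index two contains all squares -/
theorem sq_mem_of_index_two' {X : Type*} [Group X] (N : Subgroup X) (h : N.index = 2) (g : X) :
    g * g ∈ N := by
  have := Subgroup.sq_mem_of_index_two h g
  rwa [pow_two] at this

/-- a group all of whose elements are products of two squares has no subgroup of index two -/
theorem index_ne_two_of_sq {X : Type*} [Group X]
    (hsq : ∀ N : Subgroup X, (∀ g : X, g * g ∈ N) → N = ⊤) (N : Subgroup X) : N.index ≠ 2 := by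
  intro h
  have := hsq N (sq_mem_of_index_two' N h)
  rw [this, Subgroup.index_top] at h
  omega

/-- transport along an isomorphism -/
theorem index_ne_two_of_equiv {X Y : Type*} [Group X] [Group Y] (e : X ≃* Y)
    (h : ∀ N : Subgroup Y, N.index ≠ 2) (N : Subgroup X) : N.index ≠ 2 := by
  intro hN
  apply h (N.map e.toMonoidHom)
  rw [Subgroup.index_map_of_bijective e.bijective]
  exact hN

set_option maxRecDepth 100000 in
theorem A4_sq : ∀ x : alternatingGroup (Fin 4), ∃ a b : alternatingGroup (Fin 4),
    x = a * a * (b * b) := by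
  decide

theorem A4_index (N : Subgroup (alternatingGroup (Fin 4))) : N.index ≠ 2 := by
  apply index_ne_two_of_sq
  intro N hN
  rw [eq_top_iff]
  intro x _
  obtain ⟨a, b, rfl⟩ := A4_sq x
  exact N.mul_mem (hN a) (hN b)

theorem A5_index (N : Subgroup (alternatingGroup (Fin 5))) : N.index ≠ 2 := by
  intro h
  haveI := alternatingGroup.isSimpleGroup_five
  have hn : N.Normal := Subgroup.normal_of_index_eq_two h
  rcases hn.eq_bot_or_eq_top with h1 | h1
  · rw [h1, Subgroup.index_bot, Cfsg.Agent.H9.QSmall.card_A5] at h
    omega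
  · rw [h1, Subgroup.index_top] at h
    omega

open Cfsg.Agent.H9.AutPSL2 in
theorem PSL2_index {K : Type*} [Field K] (h2 : (2 : K) ≠ 0)
    (N : Subgroup (Matrix.ProjectiveSpecialLinearGroup (Fin 2) K)) : N.index ≠ 2 := by
  apply index_ne_two_of_sq
  intro N hN
  have hu : ∀ a : K, (pr (u a) : Matrix.ProjectiveSpecialLinearGroup (Fin 2) K) ∈ N := by
    intro a
    have h1 : u a = u (a / 2) * u (a / 2) := by
      rw [← u_add]; congr 1; field_simp; ring
    rw [h1, map_mul]
    exact hN _
  have hl : ∀ a : K, (pr (l a) : Matrix.ProjectiveSpecialLinearGroup (Fin 2) K) ∈ N := by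
    intro a
    have h1 : l a = l (a / 2) * l (a / 2) := by
      rw [← l_add]; congr 1; field_simp; ring
    rw [h1, map_mul]
    exact hN _
  rw [eq_top_iff]
  intro x _
  obtain ⟨A, rfl⟩ := pr_surjective x
  have hA := mem_closure A
  have hle : Subgroup.closure (Set.range (u : K → _) ∪ Set.range (l : K → _)) ≤
      N.comap (pr : Matrix.SpecialLinearGroup (Fin 2) K →* _) := by
    rw [Subgroup.closure_le]
    rintro _ (⟨a, rfl⟩ | ⟨a, rfl⟩)
    · exact hu a
    · exact hl a
  exact hle hA

end index_two

end Cfsg.Agent.H9.PGLAbs
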