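import Mathlib

set_option autoImplicit false

/-! Arithmetic for the maximal subgroups of `PGL₂(q)`. -/

namespace Cfsg.Agent.H9.PGLArith

theorem eq_of_dvd_of_lt {b c : ℕ} (hdvd : b ∣ c) (hc0 : 0 < c) (hlt : c < 2 * b) : b = c := by
  obtain ⟨j, rfl⟩ := hdvd
  have hj1 : 1 ≤ j := by
    rcases Nat.eq_zero_or_pos j with rfl | h
    · omega
    · exact h
  have hj2 : j < 2 := by
    by_contra hcon
    push Not at hcon
    have : b * 2 ≤ b * j := Nat.mul_le_mul_left b hcon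
    omega
  have : j = 1 := by omega
  rw [this, mul_one]

theorem mul_le_qq (q m : ℕ) (hm : m + 1 ≤ q) : m * q ≤ q * (q - 1) := by
  have : m ≤ q - 1 := by omega
  calc m * q = q * m := by ring
    _ ≤ q * (q - 1) := Nat.mul_le_mul_left q this

/-- `q₁ (q₁² - 1) < q₁^s` for `s ≥ 3` -/
theorem small_T5 (q₁ s : ℕ) (hs : 3 ≤ s) (hq1 : 2 ≤ q₁) : q₁ * (q₁ ^ 2 - 1) < q₁ ^ s := by
  have h1 : q₁ * (q₁ ^ 2 - 1) < q₁ ^ 3 := by
    have : 1 ≤ q₁ ^ 2 := Nat.one_le_pow _ _ (by omega)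
    calc q₁ * (q₁ ^ 2 - 1) < q₁ * q₁ ^ 2 := Nat.mul_lt_mul_of_pos_left (by omega) (by omega)
      _ = q₁ ^ 3 := by ring
  have h2 : q₁ ^ 3 ≤ q₁ ^ s := Nat.pow_le_pow_right (by omega) hs
  omega

/-- `q + 1` does not divide `q (q - 1)` -/
theorem not_dvd_qq (q : ℕ) (h2 : 2 ≤ q) : ¬ (q + 1) ∣ q * (q - 1) := by
  intro h
  have e : q * (q - 1) = (q + 1) * (q - 2) + 2 := by
    obtain ⟨t, rfl⟩ : ∃ t, q = t + 2 := ⟨q - 2, by omega⟩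
    have e1 : t + 2 - 1 = t + 1 := by omega
    have e2 : t + 2 - 2 = t := by omega
    rw [e1, e2]; ring
  rw [e] at h
  have h3 : (q + 1) ∣ 2 := (Nat.dvd_add_right (dvd_mul_right _ _)).1 h
  have := Nat.le_of_dvd (by norm_num) h3
  omega

/-- `q₁² + 1` does not divide `q₁ (q₁² - 1)` -/
theorem not_dvd_T4 (q₁ : ℕ) (h2 : 2 ≤ q₁) : ¬ (q₁ ^ 2 + 1) ∣ q₁ * (q₁ ^ 2 - 1) := by
  intro h
  have h1 : 1 ≤ q₁ ^ 2 := Nat.one_le_pow _ _ (by omega)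
  have e : q₁ * (q₁ ^ 2 - 1) + 2 * q₁ = q₁ * (q₁ ^ 2 + 1) := by
    obtain ⟨w, hw⟩ : ∃ w, q₁ ^ 2 = w + 1 := ⟨q₁ ^ 2 - 1, by omega⟩
    rw [hw]
    have : w + 1 - 1 = w := by omega
    rw [this]; ring
  have h3 : (q₁ ^ 2 + 1) ∣ q₁ * (q₁ ^ 2 - 1) + 2 * q₁ := by
    rw [e]; exact dvd_mul_left _ _
  have h4 : (q₁ ^ 2 + 1) ∣ 2 * q₁ := (Nat.dvd_add_right h).1 h3
  have h5 := Nat.le_of_dvd (by omega) h4
  nlinarith

/-- `q (q - 1)` is not divisible by `8` for `q ≡ ±3 mod 8` -/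
theorem not_eight_dvd (q : ℕ) (h : q % 8 = 3 ∨ q % 8 = 5) : ¬ 8 ∣ q * (q - 1) := by
  intro h8
  have h1 : q * (q - 1) % 8 = 0 := Nat.mod_eq_zero_of_dvd h8
  rw [Nat.mul_mod] at h1
  rcases h with h | h
  · have : (q - 1) % 8 = 2 := by omega
    rw [h, this] at h1
    norm_num at h1
  · have : (q - 1) % 8 = 4 := by omega
    rw [h, this] at h1
    norm_num at h1

/-- a square is not an odd power of `3` -/
theorem sq_ne_three_pow (q₁ r : ℕ) (hr : Odd r) : q₁ ^ 2 ≠ 3 ^ r := by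
  intro h
  have h1 := congrArg (fun n => n.factorization 3) h
  simp only [Nat.factorization_pow, Finsupp.smul_apply, smul_eq_mul,
    Nat.Prime.factorization_self Nat.prime_three, mul_one] at h1
  obtain ⟨t, rfl⟩ := hr
  omega

theorem coprime_sq_sub_one (q₀ : ℕ) (hq0 : 1 ≤ q₀) : Nat.Coprime (q₀ ^ 2 - 1) q₀ := by
  have h1 : 1 ≤ q₀ ^ 2 := Nat.one_le_pow _ _ hq0
  have h2 : (q₀ ^ 2 - 1) + 1 = q₀ * q₀ := by rw [← pow_two]; omega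
  have h3 : Nat.Coprime ((q₀ ^ 2 - 1) + 1) (q₀ ^ 2 - 1) := by
    simp
  rw [h2] at h3
  exact (Nat.Coprime.coprime_mul_left h3).symm

theorem a5_T1 (q₀ r : ℕ) (hq0 : 2 ≤ q₀) (hr : Odd r) :
    ¬ (q₀ * (q₀ ^ 2 - 1)) ∣ q₀ ^ r * (q₀ ^ r - 1) := by
  intro h
  have h1 : (q₀ ^ 2 - 1) ∣ q₀ ^ r * (q₀ ^ r - 1) := dvd_trans (dvd_mul_left _ _) h
  have hcop : Nat.Coprime (q₀ ^ 2 - 1) (q₀ ^ r) :=
    Nat.Coprime.pow_right r (coprime_sq_sub_one q₀ (by omega))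
  have h2 : (q₀ ^ 2 - 1) ∣ q₀ ^ r - 1 := hcop.dvd_of_dvd_mul_left h1
  have h3 := Nat.gcd_eq_left h2
  rw [Nat.pow_sub_one_gcd_pow_sub_one] at h3
  have h4 : Nat.gcd 2 r = 1 := by
    rw [← Nat.coprime_iff_gcd_eq_one, Nat.coprime_two_left]; exact hr
  rw [h4, pow_one] at h3
  have h5 : q₀ < q₀ ^ 2 := by nlinarith
  omega

theorem a5_T23 (q₀ r m : ℕ) (hq0 : 3 ≤ q₀) (hr : 1 ≤ r)
    (hm : m = q₀ ^ r - 1 ∨ m = q₀ ^ r + 1) : ¬ q₀ ∣ 2 * m := by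
  intro h
  have h1 : q₀ ∣ q₀ ^ r := dvd_pow_self q₀ (by omega)
  have h2 : q₀ ∣ 2 * q₀ ^ r := Dvd.dvd.mul_left h1 2
  have hpos : 1 ≤ q₀ ^ r := Nat.one_le_pow _ _ (by omega)
  have h3 : q₀ ∣ 2 := by
    rcases hm with rfl | rfl
    · have := Nat.dvd_sub h2 h
      have e : 2 * q₀ ^ r - 2 * (q₀ ^ r - 1) = 2 := by omega
      rwa [e] at this
    · have := Nat.dvd_sub h h2
      have e : 2 * (q₀ ^ r + 1) - 2 * q₀ ^ r = 2 := by omega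
      rwa [e] at this
  have := Nat.le_of_dvd (by norm_num) h3
  omega

theorem a5_T4 (q₀ r q₁ : ℕ) (hq0 : 3 ≤ q₀) (hr : Odd r) (h : q₀ ^ r = q₁ ^ 2) :
    ¬ q₀ * (q₀ ^ 2 - 1) ∣ 2 * (q₁ * (q₁ ^ 2 - 1)) := by
  intro hd
  have hq0sq : 1 ≤ q₀ ^ 2 := Nat.one_le_pow _ _ (by omega)
  have e1 : q₀ ^ 2 - 1 = (q₀ + 1) * (q₀ - 1) := by
    obtain ⟨t, rfl⟩ : ∃ t, q₀ = t + 1 := ⟨q₀ - 1, by omega⟩
    have : (t + 1) ^ 2 - 1 = (t + 1 + 1) * t := by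
      have : (t + 1) ^ 2 = (t + 1 + 1) * t + 1 := by ring
      omega
    rw [this]; simp
  have h1 : (q₀ + 1) ∣ 2 * (q₁ * (q₁ ^ 2 - 1)) := by
    refine dvd_trans ?_ hd
    rw [e1]
    exact Dvd.dvd.mul_left (dvd_mul_right _ _) q₀
  have hcop0 : Nat.Coprime (q₀ + 1) q₀ := by
    simp
  have hcop1 : Nat.Coprime (q₀ + 1) q₁ := by
    have h2 : Nat.Coprime (q₀ + 1) (q₀ ^ r) := Nat.Coprime.pow_right r hcop0
    rw [h] at h2
    exact Nat.Coprime.coprime_dvd_right (dvd_pow_self q₁ (by norm_num)) h2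
  have h3 : (q₀ + 1) ∣ 2 * (q₁ ^ 2 - 1) := by
    have : 2 * (q₁ * (q₁ ^ 2 - 1)) = q₁ * (2 * (q₁ ^ 2 - 1)) := by ring
    rw [this] at h1
    exact hcop1.dvd_of_dvd_mul_left h1
  rw [← h] at h3
  have h4 : (q₀ + 1) ∣ q₀ ^ r + 1 := by
    have := Odd.nat_add_dvd_pow_add_pow q₀ 1 hr
    simpa using this
  have hpos : 1 ≤ q₀ ^ r := Nat.one_le_pow _ _ (by omega)
  have h5 : (q₀ + 1) ∣ 4 := by
    have h6 : (q₀ + 1) ∣ 2 * (q₀ ^ r + 1) := Dvd.dvd.mul_left h4 2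
    have := Nat.dvd_sub h6 h3
    have e : 2 * (q₀ ^ r + 1) - 2 * (q₀ ^ r - 1) = 4 := by omega
    rwa [e] at this
  have h7 := Nat.le_of_dvd (by norm_num) h5
  have hq3 : q₀ = 3 := by omega
  rw [hq3] at h
  exact sq_ne_three_pow q₁ r hr h.symm

theorem a5_T6 (q₀ r p : ℕ) (hp : p.Prime) (hr3 : 3 ≤ r) (h : q₀ ^ r = p ∨ q₀ ^ r = p ^ 2) :
    False := by
  rcases h with h | h
  · have := Nat.Prime.not_prime_pow (x := q₀) (n := r) (by omega)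
    rw [h] at this
    exact this hp
  · have h1 := congrArg (fun n => n.factorization p) h
    simp only [Nat.factorization_pow, Finsupp.smul_apply, smul_eq_mul,
      Nat.Prime.factorization_self hp, mul_one] at h1
    have h2 : r ∣ 2 := ⟨_, h1.symm⟩
    have := Nat.le_of_dvd (by norm_num) h2
    omega

end Cfsg.Agent.H9.PGLArith
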