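import Mathlib
import Cfsg.Agent.H9.KleinNorm
import Cfsg.Agent.H9.AutPSL2Hom

set_option autoImplicit false

/-! Anticommuting pairs of `SL₂(q)`, `q` odd: reduction to a standard pair by conjugation in
`GL₂(q)`. -/

namespace Cfsg.Agent.H9.QStd

open Matrix
open Cfsg.Agent.H9.AutPSL2
open Cfsg.Agent.H9.KleinPSL2

variable {F : Type*} [Field F]

local notation "SL2" => Matrix.SpecialLinearGroup (Fin 2) F
local notation "PSL2" => Matrix.ProjectiveSpecialLinearGroup (Fin 2) F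

/-- conjugation by an invertible matrix, on `SL₂` -/
def conjGL (h : GL (Fin 2) F) : SL2 ≃* SL2 where
  toFun A := ⟨h.1 * A.1 * (h⁻¹).1, by rw [Matrix.det_units_conj]; exact A.2⟩
  invFun A := ⟨(h⁻¹).1 * A.1 * h.1, by
    have := Matrix.det_units_conj h⁻¹ A.1
    rw [inv_inv] at this
    rw [this]; exact A.2⟩
  left_inv A := by
    apply Subtype.ext
    show (h⁻¹).1 * (h.1 * A.1 * (h⁻¹).1) * h.1 = A.1
    have h1 : (h⁻¹).1 * h.1 = 1 := by rw [← Units.val_mul, inv_mul_cancel, Units.val_one]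
    calc (h⁻¹).1 * (h.1 * A.1 * (h⁻¹).1) * h.1
        = ((h⁻¹).1 * h.1) * A.1 * ((h⁻¹).1 * h.1) := by simp only [Matrix.mul_assoc]
      _ = A.1 := by rw [h1, Matrix.one_mul, Matrix.mul_one]
  right_inv A := by
    apply Subtype.ext
    show h.1 * ((h⁻¹).1 * A.1 * h.1) * (h⁻¹).1 = A.1
    have h1 : h.1 * (h⁻¹).1 = 1 := by rw [← Units.val_mul, mul_inv_cancel, Units.val_one]
    calc h.1 * ((h⁻¹).1 * A.1 * h.1) * (h⁻¹).1
        = (h.1 * (h⁻¹).1) * A.1 * (h.1 * (h⁻¹).1) := by simp only [Matrix.mul_assoc]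
      _ = A.1 := by rw [h1, Matrix.one_mul, Matrix.mul_one]
  map_mul' A B := by
    apply Subtype.ext
    show h.1 * (A.1 * B.1) * (h⁻¹).1 = (h.1 * A.1 * (h⁻¹).1) * (h.1 * B.1 * (h⁻¹).1)
    have h1 : (h⁻¹).1 * h.1 = 1 := by rw [← Units.val_mul, inv_mul_cancel, Units.val_one]
    calc h.1 * (A.1 * B.1) * (h⁻¹).1 = h.1 * A.1 * (1 * B.1) * (h⁻¹).1 := by
          rw [Matrix.one_mul]; simp only [Matrix.mul_assoc]
      _ = _ := by rw [← h1]; simp only [Matrix.mul_assoc]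

theorem conjGL_val (h : GL (Fin 2) F) (A : SL2) : (conjGL h A).1 = h.1 * A.1 * (h⁻¹).1 := rfl

theorem conjGL_eq_of_mul (h : GL (Fin 2) F) (A B : SL2) (hAB : h.1 * A.1 = B.1 * h.1) :
    conjGL h A = B := by
  apply Subtype.ext
  rw [conjGL_val, hAB, Matrix.mul_assoc]
  have h1 : h.1 * (h⁻¹).1 = 1 := by rw [← Units.val_mul, mul_inv_cancel, Units.val_one]
  rw [h1, Matrix.mul_one]

theorem X0_00 : (X0 : SL2).1 0 0 = 0 := rfl
theorem X0_01 : (X0 : SL2).1 0 1 = 1 := rfl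
theorem X0_10 : (X0 : SL2).1 1 0 = -1 := rfl
theorem X0_11 : (X0 : SL2).1 1 1 = 0 := rfl

theorem Y0_00 (s t : F) (h : s ^ 2 + t ^ 2 = -1) : (Y0 s t h).1 0 0 = s := rfl
theorem Y0_01 (s t : F) (h : s ^ 2 + t ^ 2 = -1) : (Y0 s t h).1 0 1 = t := rfl
theorem Y0_10 (s t : F) (h : s ^ 2 + t ^ 2 = -1) : (Y0 s t h).1 1 0 = t := rfl
theorem Y0_11 (s t : F) (h : s ^ 2 + t ^ 2 = -1) : (Y0 s t h).1 1 1 = -s := rfl

/-- the elements anticommuting with `X0` -/
theorem anti_X0_form (Y : SL2) (h : X0 * Y = -(Y * X0)) :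
    ∃ (s t : F) (hst : s ^ 2 + t ^ 2 = -1), Y = Y0 s t hst := by
  have e00 := congrArg (fun g : SL2 => g.1 0 0) h
  have e01 := congrArg (fun g : SL2 => g.1 0 1) h
  simp only [mul_00, mul_01, neg_00, neg_01, X0_00, X0_01, X0_10, X0_11] at e00 e01
  have hd := det_eq Y
  have h10 : Y.1 1 0 = Y.1 0 1 := by linear_combination e00
  have h11 : Y.1 1 1 = -Y.1 0 0 := by linear_combination e01
  refine ⟨Y.1 0 0, Y.1 0 1, ?_, ?_⟩
  · rw [h10, h11] at hd
    linear_combination -hd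
  · apply ext4
    · rfl
    · rfl
    · exact h10
    · exact h11

/-- rotations -/
noncomputable def rotGL (a b : F) (h : a ^ 2 + b ^ 2 ≠ 0) : GL (Fin 2) F :=
  Matrix.GeneralLinearGroup.mkOfDetNeZero !![a, b; -b, a] (by
    rw [Matrix.det_fin_two_of]
    intro h'
    apply h
    linear_combination h')

theorem rotGL_val (a b : F) (h : a ^ 2 + b ^ 2 ≠ 0) : (rotGL a b h).1 = !![a, b; -b, a] := rfl

theorem rot_X0 (a b : F) (h : a ^ 2 + b ^ 2 ≠ 0) : conjGL (rotGL a b h) X0 = X0 := by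
  apply conjGL_eq_of_mul
  rw [rotGL_val]
  simp only [X0]
  ext i j
  fin_cases i <;> fin_cases j <;> simp [Matrix.mul_apply, Fin.sum_univ_two]

theorem rot_Y0 (a b : F) (h : a ^ 2 + b ^ 2 ≠ 0) (s t s0 t0 : F) (hst : s ^ 2 + t ^ 2 = -1)
    (hst0 : s0 ^ 2 + t0 ^ 2 = -1) (e1 : a * s + b * t = s0 * a - t0 * b)
    (e2 : a * t - b * s = s0 * b + t0 * a) :
    conjGL (rotGL a b h) (Y0 s t hst) = Y0 s0 t0 hst0 := by
  apply conjGL_eq_of_mul
  rw [rotGL_val]
  simp only [Y0]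
  ext i j
  fin_cases i <;> fin_cases j <;> simp [Matrix.mul_apply, Fin.sum_univ_two]
  · linear_combination e1
  · linear_combination e2
  · linear_combination e2
  · linear_combination -e1

/-- any two partners of `X0` are conjugate under a rotation -/
theorem exists_rot (h2 : (2 : F) ≠ 0) (s t s0 t0 : F) (hst : s ^ 2 + t ^ 2 = -1)
    (hst0 : s0 ^ 2 + t0 ^ 2 = -1) :
    ∃ g : GL (Fin 2) F, conjGL g X0 = X0 ∧ conjGL g (Y0 s t hst) = Y0 s0 t0 hst0 := by
  set C : F := -(s * s0 + t * t0) with hC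
  set S : F := -(t * s0 - s * t0) with hS
  have hCS : C ^ 2 + S ^ 2 = 1 := by
    rw [hC, hS]
    linear_combination (s0 ^ 2 + t0 ^ 2) * hst - hst0
  by_cases h1 : 1 + C = 0
  · -- rotation by `π`
    have hS0 : S = 0 := by
      have hC1 : C = -1 := by linear_combination h1
      rw [hC1] at hCS
      have : S ^ 2 = 0 := by linear_combination hCS
      exact pow_eq_zero_iff (two_ne_zero) |>.1 this
    have hν : (0 : F) ^ 2 + 1 ^ 2 ≠ 0 := by norm_num
    refine ⟨rotGL 0 1 hν, rot_X0 _ _ _, rot_Y0 _ _ _ _ _ _ _ _ _ ?_ ?_⟩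
    · -- `t = -t0`
      have hC1 : C = -1 := by linear_combination h1
      have E1 : s * s0 + t * t0 = 1 := by linear_combination hC - hC1
      have E2 : t * s0 - s * t0 = 0 := by linear_combination hS - hS0
      have ht : t = -t0 := by
        linear_combination (-t0) * E1 - s0 * E2 + t * hst0
      rw [ht]; ring
    · have hC1 : C = -1 := by linear_combination h1
      have E1 : s * s0 + t * t0 = 1 := by linear_combination hC - hC1
      have E2 : t * s0 - s * t0 = 0 := by linear_combination hS - hS0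
      have hs : s = -s0 := by
        linear_combination (-s0) * E1 + t0 * E2 + s * hst0
      rw [hs]; ring
  · have hν : (1 + C) ^ 2 + S ^ 2 ≠ 0 := by
      have : (1 + C) ^ 2 + S ^ 2 = 2 * (1 + C) := by linear_combination hCS
      rw [this]
      exact mul_ne_zero h2 h1
    refine ⟨rotGL (1 + C) S hν, rot_X0 _ _ _, rot_Y0 _ _ _ _ _ _ _ _ _ ?_ ?_⟩
    · rw [hC, hS]
      linear_combination s * hst0 - s0 * hst
    · rw [hC, hS]
      linear_combination t * hst0 - t0 * hst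

variable [Fintype F]

theorem conjGL_trace (h : GL (Fin 2) F) (A : SL2) : (conjGL h A).1.trace = A.1.trace := by
  rw [conjGL_val, Matrix.trace_mul_cycle]
  have h1 : (h⁻¹).1 * h.1 = 1 := by rw [← Units.val_mul, inv_mul_cancel, Units.val_one]
  rw [h1, Matrix.one_mul]

/-- every anticommuting pair is conjugate to the standard one, under a trace preserving
automorphism of `SL₂` -/
theorem exists_std (hodd : Odd (Fintype.card F)) (X Y : SL2) (hXY : X * Y = -(Y * X))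
    (s0 t0 : F) (hst0 : s0 ^ 2 + t0 ^ 2 = -1) :
    ∃ e : SL2 ≃* SL2, e X = X0 ∧ e Y = Y0 s0 t0 hst0 ∧ ∀ A : SL2, (e A).1.trace = A.1.trace := by
  have h2 : (2 : F) ≠ 0 := Cfsg.Agent.Lib.Helper8.SL2Odd.two_ne_zero' hodd
  obtain ⟨hXX, -⟩ := anti_sq h2 X Y hXY
  obtain ⟨c, hc⟩ := isConj_iff.1 (Cfsg.Agent.H9.RedundantSL2.isConj_of_sq hodd X X0 hXX X0_sq)
  have hanti : X0 * (c * Y * c⁻¹) = -((c * Y * c⁻¹) * X0) := by
    rw [← hc]
    calc c * X * c⁻¹ * (c * Y * c⁻¹) = c * (X * Y) * c⁻¹ := by group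
      _ = c * (-(Y * X)) * c⁻¹ := by rw [hXY]
      _ = -(c * (Y * X) * c⁻¹) := by rw [mul_neg, neg_mul]
      _ = -(c * Y * c⁻¹ * (c * X * c⁻¹)) := by congr 1; group
  obtain ⟨s, t, hst, hY⟩ := anti_X0_form _ hanti
  obtain ⟨g, hg1, hg2⟩ := exists_rot h2 s t s0 t0 hst hst0
  refine ⟨(MulAut.conj c).trans (conjGL g), ?_, ?_, ?_⟩
  · show conjGL g (c * X * c⁻¹) = X0
    rw [hc, hg1]
  · show conjGL g (c * Y * c⁻¹) = Y0 s0 t0 hst0
    rw [hY, hg2]
  · intro A
    show (conjGL g (c * A * c⁻¹)).1.trace = A.1.trace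
    rw [conjGL_trace, Cfsg.Agent.H9.AutPSL2.trace_conj]

end Cfsg.Agent.H9.QStd
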