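import Mathlib
import Cfsg.Agent.H9.QStd
import Cfsg.Agent.H9.DicksonIso
import Cfsg.Agent.H9.DicksonConcl
import Cfsg.Agent.H9.SubfieldPSL2
import Cfsg.Agent.H9.DicksonMax2
import Cfsg.Agent.H9.PSL2MaxEven

set_option autoImplicit false

/-! The standard subfield subgroups of `PSL₂(q)`. -/

namespace Cfsg.Agent.H9.QSub

open Matrix Subgroup
open Cfsg.Agent.H9.AutPSL2
open Cfsg.Agent.H9.DicksonIso

universe u v

variable {F : Type u} [Field F] {K : Type v} [Field K]

local notation "SL2" => Matrix.SpecialLinearGroup (Fin 2) F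
local notation "PSL2" => Matrix.ProjectiveSpecialLinearGroup (Fin 2) F
local notation "SL2K" => Matrix.SpecialLinearGroup (Fin 2) K

/-- the matrices with entries in the image of `ι` -/
def Rt (ι : K →+* F) : Subgroup SL2 := (psi ι 1).range

/-- the standard subfield subgroup -/
def G0 (ι : K →+* F) : Subgroup PSL2 := (Rt ι).map (pr : SL2 →* PSL2)

theorem mem_Rt_iff (ι : K →+* F) (A : SL2) :
    A ∈ Rt ι ↔ ∀ i j : Fin 2, A.1 i j ∈ Set.range ι := by
  constructor
  · rintro ⟨m, rfl⟩ i j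
    fin_cases i <;> fin_cases j
    · exact ⟨m.1 0 0, (psi_00 ι 1 m).symm⟩
    · refine ⟨m.1 0 1, ?_⟩
      show ι (m.1 0 1) = (psi ι 1 m).1 0 1
      rw [psi_01, Units.val_one, one_mul]
    · refine ⟨m.1 1 0, ?_⟩
      show ι (m.1 1 0) = (psi ι 1 m).1 1 0
      rw [psi_10, inv_one, Units.val_one, one_mul]
    · exact ⟨m.1 1 1, (psi_11 ι 1 m).symm⟩
  · intro h
    obtain ⟨a, ha⟩ := h 0 0
    obtain ⟨b, hb⟩ := h 0 1
    obtain ⟨c, hc⟩ := h 1 0
    obtain ⟨d, hd⟩ := h 1 1
    have hdet : a * d - b * c = 1 := by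
      apply ι.injective
      rw [map_sub, map_mul, map_mul, map_one, ha, hb, hc, hd]
      exact det_eq A
    obtain ⟨m, hm⟩ : ∃ m : SL2K, m.1 = !![a, b; c, d] :=
      ⟨⟨!![a, b; c, d], by rw [Matrix.det_fin_two_of]; exact hdet⟩, rfl⟩
    refine ⟨m, ?_⟩
    apply ext4
    · rw [psi_00, hm]; exact ha
    · rw [psi_01, Units.val_one, one_mul, hm]; exact hb
    · rw [psi_10, inv_one, Units.val_one, one_mul, hm]; exact hc
    · rw [psi_11, hm]; exact hd

theorem neg_one_mem_Rt (ι : K →+* F) : (-1 : SL2) ∈ Rt ι :=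
  ⟨-1, psi_neg_one ι 1⟩

theorem center_le_Rt (ι : K →+* F) : Subgroup.center SL2 ≤ Rt ι := by
  intro z hz
  rcases (mem_center_iff' z).1 hz with rfl | rfl
  · exact one_mem _
  · exact neg_one_mem_Rt ι

theorem Rt_mono {K1 : Type*} [Field K1] (ι : K →+* F) (ι1 : K1 →+* F)
    (h : ∀ k : K, ∃ k1 : K1, ι1 k1 = ι k) : Rt ι ≤ Rt ι1 := by
  intro A hA
  rw [mem_Rt_iff] at hA ⊢
  intro i j
  obtain ⟨k, hk⟩ := hA i j
  obtain ⟨k1, hk1⟩ := h k
  exact ⟨k1, by rw [hk1, hk]⟩

theorem G0_mono {K1 : Type*} [Field K1] (ι : K →+* F) (ι1 : K1 →+* F)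
    (h : ∀ k : K, ∃ k1 : K1, ι1 k1 = ι k) : G0 ι ≤ G0 ι1 :=
  Subgroup.map_mono (Rt_mono ι ι1 h)

/-- membership in `G0` -/
theorem mem_G0_iff (ι : K →+* F) (A : SL2) : pr A ∈ G0 ι ↔ A ∈ Rt ι := by
  constructor
  · rintro ⟨B, hB, hBA⟩
    rcases (pr_eq_iff B A).1 hBA with rfl | rfl
    · exact hB
    · have := mul_mem (neg_one_mem_Rt ι) hB
      rw [neg_mul, one_mul, neg_neg] at this
      exact this
  · intro h
    exact ⟨A, h, rfl⟩

variable [Fintype F] [Fintype K]

theorem card_Rt (ι : K →+* F) :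
    Nat.card (Rt ι) = Fintype.card K * (Fintype.card K ^ 2 - 1) := by
  rw [← Cfsg.Agent.H9.SubfieldPSL2.card_SL2_all]
  exact (Nat.card_congr (MonoidHom.ofInjective (psi_injective ι 1)).toEquiv).symm

theorem card_G0 (h2 : (2 : F) ≠ 0) (ι : K →+* F) :
    2 * Nat.card (G0 ι) = Fintype.card K * (Fintype.card K ^ 2 - 1) := by
  have hcard : Nat.card (Rt ι) = Nat.card (Subgroup.center SL2) * Nat.card (G0 ι) :=
    Cfsg.Agent.H9.DicksonQ.card_map (pr : SL2 →* PSL2) pr_surjective
      (Z := Subgroup.center SL2) (by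
        ext z
        rw [MonoidHom.mem_ker]
        unfold pr
        rw [QuotientGroup.mk'_apply, QuotientGroup.eq_one_iff]) _ (center_le_Rt ι)
  have hZ : Nat.card (Subgroup.center SL2) = 2 := by
    rw [Cfsg.Agent.H9.DicksonConcl.card_center]
    have hodd : Odd (Fintype.card F) := by
      by_contra hcon
      rw [Nat.not_odd_iff_even] at hcon
      apply h2
      have := (FiniteField.even_card_iff_char_two).2 (by
        rcases hcon with ⟨r, hr⟩; omega : Fintype.card F % 2 = 0)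
      have hc : CharP F 2 := ringChar.of_eq this
      exact CharTwo.two_eq_zero
    obtain ⟨r, hr⟩ := hodd
    have : Fintype.card F - 1 = 2 * r := by omega
    rw [this, Nat.gcd_mul_right_right]
  rw [← card_Rt ι, hcard, hZ]

theorem G0_equiv (h2 : (2 : F) ≠ 0) (ι : K →+* F) :
    Nonempty (G0 ι ≃* Matrix.ProjectiveSpecialLinearGroup (Fin 2) K) := by
  apply iso_PSL2 ι 1 (Rt ι)
  · intro m
    exact ⟨m, rfl⟩
  · have h2K : (2 : K) ≠ 0 := by
      intro h
      apply h2
      have := congrArg ι h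
      rwa [map_ofNat, map_zero] at this
    have hZK : Nat.card (Subgroup.center SL2K) = 2 := by
      rw [Cfsg.Agent.H9.DicksonConcl.card_center]
      have hodd : Odd (Fintype.card K) := by
        by_contra hcon
        rw [Nat.not_odd_iff_even] at hcon
        apply h2K
        have := (FiniteField.even_card_iff_char_two).2 (by
          rcases hcon with ⟨r, hr⟩; omega : Fintype.card K % 2 = 0)
        have hc : CharP K 2 := ringChar.of_eq this
        exact CharTwo.two_eq_zero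
      obtain ⟨r, hr⟩ := hodd
      have : Fintype.card K - 1 = 2 * r := by omega
      rw [this, Nat.gcd_mul_right_right]
    rw [hZK, Cfsg.Agent.H9.SubfieldPSL2.card_SL2_all]
    exact (card_G0 h2 ι).symm

/-- a proper subfield gives a proper subgroup -/
theorem G0_ne_top (h2 : (2 : F) ≠ 0) (ι : K →+* F) (hlt : Fintype.card K < Fintype.card F) :
    G0 ι ≠ ⊤ := by
  intro h
  have h1 := card_G0 h2 ι
  rw [h, Subgroup.card_top] at h1
  have h3 := Cfsg.Agent.H9.DicksonMax.card_PSL2_mul F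
  have hg : Nat.gcd 2 (Fintype.card F - 1) ≤ 2 :=
    Nat.le_of_dvd (by norm_num) (Nat.gcd_dvd_left _ _)
  have hK1 : 1 < Fintype.card K := Fintype.one_lt_card
  have hlt' := Cfsg.Agent.H9.PSL2MaxEven.mono_card (Fintype.card K) (Fintype.card F)
    (by omega) hlt
  have hpos : 0 < Nat.card PSL2 := Nat.card_pos
  nlinarith

end Cfsg.Agent.H9.QSub
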