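import Mathlib
import Cfsg.Agent.H9.TwoTransv
import Cfsg.Agent.S0265

set_option autoImplicit false

/-! Dickson's lemma on the subgroup of `SL₂(F)` generated by two transvections: the analysis. -/

namespace Cfsg.Agent.H9.TwoTransv

open Matrix
open Cfsg.Agent.H9.AutPSL2
open Cfsg.Agent.H9.DicksonUN
open Cfsg.Agent.H9.DicksonSS
open Cfsg.Agent.H9.DicksonQ
open Cfsg.Agent.H9.DicksonConcl
open Cfsg.Agent.H9.SL2Pair

universe u

section main

variable {F : Type u} [Field F] [Fintype F]

local notation "SL2" => Matrix.SpecialLinearGroup (Fin 2) F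
local notation "PSL2" => Matrix.ProjectiveSpecialLinearGroup (Fin 2) F

omit [Fintype F] in
theorem two_ne_zero_of (p : ℕ) [Fact p.Prime] [CharP F p] (hp : p ≠ 2) : (2 : F) ≠ 0 := by
  intro h
  have h' : ((2 : ℕ) : F) = 0 := by exact_mod_cast h
  rw [CharP.cast_eq_zero_iff F p] at h'
  exact hp ((Nat.prime_dvd_prime_iff_eq (Fact.out : p.Prime) Nat.prime_two).1 h')

omit [Fintype F] in
theorem trace_l_u (a : F) : (l 1 * u a : SL2).1.trace = 2 + a := by
  rw [Matrix.trace_fin_two, mul_00, mul_11]
  simp only [l_00, l_01, l_10, l_11, u_00, u_01, u_10, u_11]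
  ring

/-- the exponent property bounds the field -/
theorem card_le_of_exp (p : ℕ) [Fact p.Prime] [CharP F p] (hp : p ≠ 2) (lam : F)
    (hgen : Subfield.closure ({lam} : Set F) = ⊤) (G : Subgroup SL2)
    (hl : l 1 ∈ G) (hu : u lam ∈ G) (j : ℕ) (hj : 1 ≤ j)
    (hE : ∀ z : G.map (pr : SL2 →* PSL2), Nat.Coprime (orderOf z) p →
      z ^ (p ^ j + 1) = 1 ∨ z ^ (p ^ j - 1) = 1) :
    Fintype.card F ≤ p ^ j := by
  have hu2 : u (2 * lam) ∈ G := by
    have : u (2 * lam) = u lam * u lam := by rw [← u_add]; congr 1; ring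
    rw [this]; exact G.mul_mem hu hu
  have h1 := trace_sq_of_exp p j G hE (l 1 * u lam) (G.mul_mem hl hu)
  have h2 := trace_sq_of_exp p j G hE (l 1 * u (2 * lam)) (G.mul_mem hl hu2)
  rw [trace_l_u] at h1 h2
  have hfix := lam_fix p hp j lam h1 h2
  have hall := pow_eq_self_of_gen p j lam hgen hfix
  have hs : 2 ≤ p ^ j := by
    calc 2 ≤ p := (Fact.out : p.Prime).two_le
      _ = p ^ 1 := (pow_one p).symm
      _ ≤ p ^ j := Nat.pow_le_pow_right (Fact.out : p.Prime).pos hj
  have := card_le_of_pow_eq_self (F := F) (p ^ j) hs hall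
  rwa [Nat.card_eq_fintype_card] at this

/-- order of `PSL₂(F)` in odd characteristic -/
theorem card_PSL2_two (p : ℕ) [Fact p.Prime] [CharP F p] (hp : p ≠ 2) :
    Nat.card PSL2 * 2 = Fintype.card F * (Fintype.card F ^ 2 - 1) := by
  have h := Cfsg.Agent.H9.DicksonMax.card_PSL2_mul F
  have hg : Nat.gcd 2 (Fintype.card F - 1) = 2 := by
    obtain ⟨f, -, hf⟩ := FiniteField.card F p
    have hodd : Odd p := (Fact.out : p.Prime).odd_of_ne_two hp
    have hq : Odd (Fintype.card F) := by rw [hf]; exact hodd.pow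
    obtain ⟨r, hr⟩ := hq
    have : Fintype.card F - 1 = 2 * r := by omega
    rw [this]; simp
  rwa [hg] at h

/-- transport of a power identity through an isomorphism -/
theorem pow_eq_one_of_equiv {X Y : Type*} [Group X] [Group Y] (e : X ≃* Y) (z : X) (n : ℕ)
    (h : (e z) ^ n = 1) : z ^ n = 1 := by
  apply e.injective
  rw [map_pow, h, map_one]

/-- coprime part -/
theorem pow_eq_one_of_coprime {X : Type*} [Group X] (z : X) (p M : ℕ)
    (hc : Nat.Coprime (orderOf z) p) (h : z ^ (M * p) = 1) : z ^ M = 1 := by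
  rw [← orderOf_dvd_iff_pow_eq_one] at h ⊢
  exact hc.dvd_of_dvd_mul_right h

/-- the image of the group generated by the two transvections is everything, or `A₅` in
`PSL₂(9)` -/
theorem analysis (p : ℕ) [Fact p.Prime] [CharP F p] (hp : p ≠ 2) (lam : F) (hlam : lam ≠ 0)
    (hgen : Subfield.closure ({lam} : Set F) = ⊤) (L : Subgroup SL2)
    (hlL : l 1 ∈ L) (huL : u lam ∈ L) :
    (ext L).map (pr : SL2 →* PSL2) = ⊤ ∨ (Fintype.card F = 9 ∧
      Nonempty (↥((ext L).map (pr : SL2 →* PSL2)) ≃* alternatingGroup (Fin 5))) := by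
  classical
  have hpr : p.Prime := Fact.out
  have hodd : Odd p := hpr.odd_of_ne_two hp
  have h2 : (2 : F) ≠ 0 := two_ne_zero_of p hp
  have hp3 : 3 ≤ p := by
    have := hpr.two_le
    omega
  have hZ := center_le_ext L
  have hlG : l 1 ∈ ext L := le_ext L hlL
  have huG : u lam ∈ ext L := le_ext L huL
  obtain ⟨f, -, hf⟩ := FiniteField.card F p
  have hf1 : 1 ≤ (f : ℕ) := f.pos
  have hq3 : 3 ≤ Fintype.card F := by
    rw [hf]
    calc 3 ≤ p := hp3
      _ = p ^ 1 := (pow_one p).symm
      _ ≤ p ^ (f : ℕ) := Nat.pow_le_pow_right hpr.pos hf1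
  have hN := card_PSL2_two (F := F) p hp
  set xb : (ext L).map (pr : SL2 →* PSL2) := ⟨pr (l 1), ⟨l 1, hlG, rfl⟩⟩ with hxbdef
  set yb : (ext L).map (pr : SL2 →* PSL2) := ⟨pr (u lam), ⟨u lam, huG, rfl⟩⟩ with hybdef
  have hxb : xb ^ (p ^ 1) = 1 := by
    apply Subtype.ext
    show (pr (l 1)) ^ (p ^ 1) = 1
    rw [pow_one, ← map_pow, l_pow, CharP.cast_eq_zero F p, zero_mul, l_zero, map_one]
  have hyb : yb ^ (p ^ 1) = 1 := by
    apply Subtype.ext
    show (pr (u lam)) ^ (p ^ 1) = 1
    rw [pow_one, ← map_pow, u_pow, CharP.cast_eq_zero F p, zero_mul, u_zero, map_one]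
  have hneb : xb * yb ≠ yb * xb := by
    intro h
    have h' : pr (l 1) * pr (u lam) = (pr (u lam) * pr (l 1) : PSL2) := congrArg Subtype.val h
    rw [← map_mul, ← map_mul, pr_eq_iff] at h'
    rcases h' with h' | h'
    · have := congrArg (fun g : SL2 => g.1 0 0) h'
      simp only [mul_00, l_00, l_01, u_00, u_10, u_01, l_10] at this
      apply hlam
      linear_combination -this
    · have := congrArg (fun g : SL2 => g.1 1 0) h'
      simp only [neg_10, mul_10, l_00, l_01, u_00, u_10, u_01, l_10, l_11, u_11] at this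
      apply h2
      linear_combination this
  have hxb1 : xb ≠ 1 := by
    rintro h
    apply hneb; rw [h, one_mul, mul_one]
  have hyb1 : yb ≠ 1 := by
    rintro h
    apply hneb; rw [h, one_mul, mul_one]
  have hox : orderOf xb = p := by
    rw [pow_one] at hxb
    exact orderOf_eq_prime hxb hxb1
  have hoy : orderOf yb = p := by
    rw [pow_one] at hyb
    exact orderOf_eq_prime hyb hyb1
  have hcard : p ∣ Nat.card ((ext L).map (pr : SL2 →* PSL2)) := by
    rw [← hox]; exact orderOf_dvd_natCard xb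
  have hle : Nat.card ((ext L).map (pr : SL2 →* PSL2)) ≤ Nat.card PSL2 :=
    Subgroup.card_le_card_group _
  have htop : ∀ q : ℕ, Fintype.card F = q →
      Nat.card ((ext L).map (pr : SL2 →* PSL2)) * 2 = q * (q ^ 2 - 1) →
      (ext L).map (pr : SL2 →* PSL2) = ⊤ := by
    intro q hq hc
    apply Subgroup.eq_top_of_card_eq
    rw [hq] at hN
    omega
  have hD := dickson_SL2 (Fintype.card F) p rfl (ext L) hZ
  rcases hD with ⟨k, hk, ⟨hc, hck⟩ | ⟨⟨e⟩⟩⟩ | ⟨P, K', hK', ⟨e⟩⟩ | ⟨⟨e⟩⟩ | ⟨⟨e⟩⟩ | ⟨⟨e⟩⟩ |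
    ⟨K', i1, i2, m, hm, ⟨⟨e⟩⟩ | ⟨⟨e⟩⟩⟩
  · exfalso
    haveI := hc
    exact Cfsg.Agent.H9.DicksonMax.no_cyclic xb yb hneb (MonoidHom.id _) Function.injective_id
  · exfalso
    exact Cfsg.Agent.H9.DicksonMax.no_dihedral xb yb (by rw [hox]; omega) (by rw [hoy]; omega)
      hneb e.toMonoidHom e.injective
  · exfalso
    exact Cfsg.Agent.H9.DicksonMax.no_borel' p xb yb 1 1 hxb hyb hneb
      (K'.subtype.comp e.toMonoidHom) (K'.subtype_injective.comp e.injective) P
      (fun z => hK' (e z).2)
  · -- `A₄`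
    have hc12 : Nat.card ((ext L).map (pr : SL2 →* PSL2)) = 12 := by
      rw [Nat.card_congr e.toEquiv, nat_card_alternatingGroup]
      simp [Nat.factorial]
    rw [hc12] at hcard
    have hp' : p = 3 := by
      have h12 : (12 : ℕ) = 2 ^ 2 * 3 := by norm_num
      rw [h12] at hcard
      rcases (Nat.Prime.dvd_mul hpr).1 hcard with h | h
      · exact absurd ((Nat.prime_dvd_prime_iff_eq hpr Nat.prime_two).1 (hpr.dvd_of_dvd_pow h)) hp
      · exact (Nat.prime_dvd_prime_iff_eq hpr Nat.prime_three).1 h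
    have hE : ∀ z : (ext L).map (pr : SL2 →* PSL2), Nat.Coprime (orderOf z) p →
        z ^ (p ^ 1 + 1) = 1 ∨ z ^ (p ^ 1 - 1) = 1 := by
      intro z hz
      left
      have h12 : (e z) ^ 12 = 1 := by
        apply Subtype.ext
        rw [Subgroup.coe_pow]
        exact (Cfsg.Agent.H9.PSL2MaxAux.S4_orders (e z).1).1
      have h12' := pow_eq_one_of_equiv e z 12 h12
      have := pow_eq_one_of_coprime z p 4 hz (by rw [hp']; exact h12')
      rw [hp']; exact this
    have hq := card_le_of_exp p hp lam hgen (ext L) hlG huG 1 le_rfl hE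
    rw [pow_one, hp'] at hq
    left
    apply htop 3 (by omega)
    rw [hc12]
    norm_num
  · -- `S₄`
    exfalso
    have hc24 : Nat.card ((ext L).map (pr : SL2 →* PSL2)) = 24 := by
      rw [Nat.card_congr e.toEquiv, Nat.card_eq_fintype_card, Fintype.card_perm]
      simp [Nat.factorial]
    rw [hc24] at hcard
    have hp' : p = 3 := by
      have h24 : (24 : ℕ) = 2 ^ 3 * 3 := by norm_num
      rw [h24] at hcard
      rcases (Nat.Prime.dvd_mul hpr).1 hcard with h | h
      · exact absurd ((Nat.prime_dvd_prime_iff_eq hpr Nat.prime_two).1 (hpr.dvd_of_dvd_pow h)) hp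
      · exact (Nat.prime_dvd_prime_iff_eq hpr Nat.prime_three).1 h
    have hE : ∀ z : (ext L).map (pr : SL2 →* PSL2), Nat.Coprime (orderOf z) p →
        z ^ (p ^ 1 + 1) = 1 ∨ z ^ (p ^ 1 - 1) = 1 := by
      intro z hz
      left
      have h12 : (e z) ^ 12 = 1 := (Cfsg.Agent.H9.PSL2MaxAux.S4_orders (e z)).1
      have h12' := pow_eq_one_of_equiv e z 12 h12
      have := pow_eq_one_of_coprime z p 4 hz (by rw [hp']; exact h12')
      rw [hp']; exact this
    have hq := card_le_of_exp p hp lam hgen (ext L) hlG huG 1 le_rfl hE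
    rw [pow_one, hp'] at hq
    have hq' : Fintype.card F = 3 := by omega
    rw [hq'] at hN
    rw [hc24] at hle
    omega
  · -- `A₅`
    have hc60 : Nat.card ((ext L).map (pr : SL2 →* PSL2)) = 60 := by
      rw [Nat.card_congr e.toEquiv, nat_card_alternatingGroup]
      simp [Nat.factorial]
    rw [hc60] at hcard
    have hp' : p = 3 ∨ p = 5 := by
      have h60 : (60 : ℕ) = 2 ^ 2 * 3 * 5 := by norm_num
      rw [h60] at hcard
      rcases (Nat.Prime.dvd_mul hpr).1 hcard with h | h
      · rcases (Nat.Prime.dvd_mul hpr).1 h with h | h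
        · exact absurd ((Nat.prime_dvd_prime_iff_eq hpr Nat.prime_two).1
            (hpr.dvd_of_dvd_pow h)) hp
        · exact Or.inl ((Nat.prime_dvd_prime_iff_eq hpr Nat.prime_three).1 h)
      · exact Or.inr ((Nat.prime_dvd_prime_iff_eq hpr Nat.prime_five).1 h)
    have h30 : ∀ z : (ext L).map (pr : SL2 →* PSL2), z ^ 30 = 1 := fun z =>
      pow_eq_one_of_equiv e z 30 (Cfsg.Agent.H9.PSL2MaxAux.A5_orders (e z)).1
    rcases hp' with hp' | hp'
    · have hE : ∀ z : (ext L).map (pr : SL2 →* PSL2), Nat.Coprime (orderOf z) p →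
          z ^ (p ^ 2 + 1) = 1 ∨ z ^ (p ^ 2 - 1) = 1 := by
        intro z hz
        left
        have := pow_eq_one_of_coprime z p 10 hz (by rw [hp']; exact h30 z)
        rw [hp']; exact this
      have hq := card_le_of_exp p hp lam hgen (ext L) hlG huG 2 (by norm_num) hE
      rw [hp'] at hq
      have hf2 : (f : ℕ) ≤ 2 := by
        by_contra hcon
        push Not at hcon
        have : 3 ^ 3 ≤ 3 ^ (f : ℕ) := Nat.pow_le_pow_right (by norm_num) hcon
        rw [hf, hp'] at hq
        omega
      have hf12 : (f : ℕ) = 1 ∨ (f : ℕ) = 2 := by omega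
      rcases hf12 with h | h
      · exfalso
        have hq' : Fintype.card F = 3 := by rw [hf, hp', h]; norm_num
        rw [hq'] at hN
        rw [hc60] at hle
        omega
      · right
        exact ⟨by rw [hf, hp', h]; norm_num, ⟨e⟩⟩
    · have hE : ∀ z : (ext L).map (pr : SL2 →* PSL2), Nat.Coprime (orderOf z) p →
          z ^ (p ^ 1 + 1) = 1 ∨ z ^ (p ^ 1 - 1) = 1 := by
        intro z hz
        left
        have := pow_eq_one_of_coprime z p 6 hz (by rw [hp']; exact h30 z)
        rw [hp']; exact this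
      have hq := card_le_of_exp p hp lam hgen (ext L) hlG huG 1 le_rfl hE
      rw [pow_one, hp'] at hq
      have hq' : Fintype.card F = 5 := by
        have : 5 ^ 1 ≤ 5 ^ (f : ℕ) := Nat.pow_le_pow_right (by norm_num) hf1
        rw [hf, hp'] at hq ⊢
        omega
      left
      apply htop 5 hq'
      rw [hc60]
      norm_num
  · -- `PSL₂(K')`
    have hm0 : m ≠ 0 := by
      rintro rfl
      rw [pow_zero] at hm
      omega
    have hm' : Fintype.card K' ^ m = p ^ (f : ℕ) := by rw [hm, hf]
    haveI : CharP K' p := Cfsg.Agent.H9.PSL2MaxDih.charP_of_card_pow p hpr m f hm' hm0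
    obtain ⟨j, -, hj⟩ := FiniteField.card K' p
    have hE : ∀ z : (ext L).map (pr : SL2 →* PSL2), Nat.Coprime (orderOf z) p →
        z ^ (p ^ (j : ℕ) + 1) = 1 ∨ z ^ (p ^ (j : ℕ) - 1) = 1 := by
      intro z hz
      have ho : orderOf (e z) = orderOf z := MulEquiv.orderOf_eq e z
      have := Cfsg.Agent.H9.PSL2MaxAux.psl_order p (e z) (by rw [ho]; exact hz)
      rw [ho, hj] at this
      rcases this with h | h
      · right
        exact orderOf_dvd_iff_pow_eq_one.1 (dvd_of_mul_left_dvd h)
      · left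
        exact orderOf_dvd_iff_pow_eq_one.1 (dvd_of_mul_left_dvd h)
    have hq := card_le_of_exp p hp lam hgen (ext L) hlG huG j j.pos hE
    rw [← hj] at hq
    have hK2 : 2 ≤ Fintype.card K' := Fintype.one_lt_card
    have hm1 : m = 1 := by
      by_contra hcon
      have hm2 : 2 ≤ m := by omega
      have : Fintype.card K' ^ 2 ≤ Fintype.card K' ^ m :=
        Nat.pow_le_pow_right (by omega) hm2
      have h4 : Fintype.card K' * 2 ≤ Fintype.card K' ^ 2 := by
        rw [sq]; exact Nat.mul_le_mul_left _ hK2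
      omega
    rw [hm1, pow_one] at hm
    left
    apply htop (Fintype.card F) rfl
    rw [Nat.card_congr e.toEquiv]
    have h := card_PSL2_two (F := K') p hp
    rw [hm] at h
    exact h
  · -- `PGL₂(K')`
    exfalso
    have hm0 : m ≠ 0 := by
      rintro rfl
      rw [pow_zero] at hm
      omega
    have hm' : Fintype.card K' ^ m = p ^ (f : ℕ) := by rw [hm, hf]
    haveI : CharP K' p := Cfsg.Agent.H9.PSL2MaxDih.charP_of_card_pow p hpr m f hm' hm0
    obtain ⟨j, -, hj⟩ := FiniteField.card K' p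
    have hE : ∀ z : (ext L).map (pr : SL2 →* PSL2), Nat.Coprime (orderOf z) p →
        z ^ (p ^ (j : ℕ) + 1) = 1 ∨ z ^ (p ^ (j : ℕ) - 1) = 1 := by
      intro z hz
      have ho : orderOf (e z) = orderOf z := MulEquiv.orderOf_eq e z
      have := Cfsg.Agent.H9.PSL2MaxAux.pgl_order p (e z) (by rw [ho]; exact hz)
      rw [ho, hj] at this
      rcases this with h | h
      · right
        exact orderOf_dvd_iff_pow_eq_one.1 h
      · left
        exact orderOf_dvd_iff_pow_eq_one.1 h
    have hq := card_le_of_exp p hp lam hgen (ext L) hlG huG j j.pos hE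
    rw [← hj] at hq
    have hK2 : 2 ≤ Fintype.card K' := Fintype.one_lt_card
    have hm1 : m = 1 := by
      by_contra hcon
      have hm2 : 2 ≤ m := by omega
      have : Fintype.card K' ^ 2 ≤ Fintype.card K' ^ m :=
        Nat.pow_le_pow_right (by omega) hm2
      have h4 : Fintype.card K' * 2 ≤ Fintype.card K' ^ 2 := by
        rw [sq]; exact Nat.mul_le_mul_left _ hK2
      omega
    rw [hm1, pow_one] at hm
    have hc : Nat.card ((ext L).map (pr : SL2 →* PSL2)) =
        Fintype.card F * (Fintype.card F ^ 2 - 1) := by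
      rw [Nat.card_congr e.toEquiv, Cfsg.Agent.S0265.result 2,
        Cfsg.Agent.H9.SubfieldPSL2.card_SL2_all, hm]
    have hpos : 0 < Fintype.card F * (Fintype.card F ^ 2 - 1) := by
      apply Nat.mul_pos (by omega)
      have : 3 ^ 2 ≤ Fintype.card F ^ 2 := Nat.pow_le_pow_left hq3 2
      omega
    omega

/-- if the image is everything, so is the group generated by the transvections -/
theorem eq_top_of_map (p : ℕ) [Fact p.Prime] [CharP F p] (hp : p ≠ 2) (L : Subgroup SL2)
    (h : (ext L).map (pr : SL2 →* PSL2) = ⊤) : L = ⊤ := by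
  have hodd : Odd p := (Fact.out : p.Prime).odd_of_ne_two hp
  have hall : ∀ g : SL2, g ∈ ext L := by
    intro g
    have : (pr : SL2 →* PSL2) g ∈ (ext L).map (pr : SL2 →* PSL2) := by rw [h]; trivial
    obtain ⟨g', hg', hgg⟩ := this
    rw [pr_eq_iff] at hgg
    rcases hgg with rfl | rfl
    · exact hg'
    · have := neg_mem_ext L _ hg'
      rwa [neg_neg] at this
  rw [eq_top_iff]
  intro g _
  have hle : Subgroup.closure (Set.range (u : F → SL2) ∪ Set.range (l : F → SL2)) ≤ L := by
    rw [Subgroup.closure_le]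
    rintro _ (⟨a, rfl⟩ | ⟨a, rfl⟩)
    · apply mem_of_pow_odd L (u a) (hall _) p hodd
      rw [u_pow, CharP.cast_eq_zero F p, zero_mul, u_zero]
    · apply mem_of_pow_odd L (l a) (hall _) p hodd
      rw [l_pow, CharP.cast_eq_zero F p, zero_mul, l_zero]
  exact hle (mem_closure g)

set_option maxRecDepth 100000 in
theorem exists_involution_A5 : ∃ t : alternatingGroup (Fin 5), t ^ 2 = 1 ∧ t ≠ 1 := by
  refine ⟨⟨c[0, 1] * c[2, 3], by rw [Equiv.Perm.mem_alternatingGroup]; decide⟩, ?_, ?_⟩
  · apply Subtype.ext; decide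
  · intro h
    have := congrArg Subtype.val h
    revert this
    decide

theorem sq_of_pow_four_A5 (x : alternatingGroup (Fin 5)) (h : x ^ 4 = 1) : x ^ 2 = 1 := by
  have h30 := (Cfsg.Agent.H9.PSL2MaxAux.A5_orders x).1
  have h1 : orderOf x ∣ 4 := orderOf_dvd_of_pow_eq_one h
  have h2 : orderOf x ∣ 30 := orderOf_dvd_of_pow_eq_one h30
  have h3 : orderOf x ∣ Nat.gcd 4 30 := Nat.dvd_gcd h1 h2
  have : Nat.gcd 4 30 = 2 := by norm_num
  rw [this] at h3
  exact orderOf_dvd_iff_pow_eq_one.1 h3

/-- the exceptional case: the order -/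
theorem exc_card (h2 : (2 : F) ≠ 0) (h9 : Fintype.card F = 9) (L : Subgroup SL2)
    (e : ↥((ext L).map (pr : SL2 →* PSL2)) ≃* alternatingGroup (Fin 5)) :
    Nat.card L = 120 := by
  classical
  have hZ := center_le_ext L
  have h1 := card_eq (prG (ext L)) (prG_surjective _) (prG_ker _)
  rw [card_ZG (ext L) hZ, card_center, h9, Nat.card_congr e.toEquiv,
    nat_card_alternatingGroup] at h1
  have h120 : Nat.card (ext L) = 120 := by
    rw [h1]; simp [Nat.factorial]
  obtain ⟨t, ht2, ht1⟩ := exists_involution_A5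
  set z := e.symm t with hz
  have hz2 : z ^ 2 = 1 := by rw [hz, ← map_pow, ht2, map_one]
  have hz1 : z ≠ 1 := by
    intro h
    apply ht1
    have := congrArg e h
    rwa [hz, MulEquiv.apply_symm_apply, map_one] at this
  obtain ⟨g, hg, hgz⟩ := z.2
  obtain ⟨g', hg'L, hg'z⟩ : ∃ g' ∈ L, (pr : SL2 →* PSL2) g' = z.1 := by
    rcases hg with h | h
    · exact ⟨g, h, hgz⟩
    · refine ⟨-g, h, ?_⟩
      rw [← hgz, pr_eq_iff]; right; rfl
  have hsq : (pr : SL2 →* PSL2) (g' * g') = pr 1 := by
    rw [map_mul, hg'z, map_one, ← sq]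
    have := congrArg Subtype.val hz2
    simpa using this
  rw [pr_eq_iff] at hsq
  have hneg : (-1 : SL2) ∈ L := by
    rcases hsq with h | h
    · exfalso
      apply hz1
      apply Subtype.ext
      rw [← hg'z]
      show pr g' = 1
      rw [← map_one (pr : SL2 →* PSL2), pr_eq_iff]
      exact Cfsg.Agent.H9.PSL2MaxAux.sq_eq_one h2 _ h
    · rw [← h]; exact L.mul_mem hg'L hg'L
  have hext : ext L = L := by
    apply le_antisymm
    · intro x hx
      rcases hx with h | h
      · exact h
      · have := L.mul_mem hneg h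
        rwa [neg_mul_neg, one_mul] at this
    · exact le_ext L
  rw [← h120, hext]

/-- the exceptional case: the parameter -/
theorem exc_lam (h3 : (3 : F) = 0) (h9 : Fintype.card F = 9) (lam : F)
    (hgen : Subfield.closure ({lam} : Set F) = ⊤) (L : Subgroup SL2)
    (hlL : l 1 ∈ L) (huL : u lam ∈ L)
    (e : ↥((ext L).map (pr : SL2 →* PSL2)) ≃* alternatingGroup (Fin 5)) :
    lam ^ 2 = -1 := by
  classical
  have h2 : (2 : F) ≠ 0 := by
    intro h
    have : (1 : F) = 0 := by linear_combination h3 - h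
    exact one_ne_zero this
  haveI : CharP F 3 := by
    obtain ⟨p, hp⟩ := CharP.exists F
    have hpp : p.Prime := CharP.char_is_prime F p
    have : p ∣ 3 := by
      rw [← CharP.cast_eq_zero_iff F p]
      exact_mod_cast h3
    have := (Nat.prime_dvd_prime_iff_eq hpp Nat.prime_three).1 this
    rw [← this]; exact hp
  haveI : Fact (Nat.Prime 3) := ⟨Nat.prime_three⟩
  have hne : lam ^ 3 ≠ lam := by
    intro h
    have hall := pow_eq_self_of_gen 3 1 lam hgen (by rw [pow_one]; exact h)
    have := card_le_of_pow_eq_self (F := F) (3 ^ 1) (by norm_num) hall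
    rw [Nat.card_eq_fintype_card, h9] at this
    omega
  -- no element whose trace squares to `-1`
  have hno : ∀ g ∈ L, g.1.trace ^ 2 ≠ -1 := by
    intro g hg htr
    have h4 := pow_four_of_trace h3 g htr
    set z : (ext L).map (pr : SL2 →* PSL2) := ⟨pr g, ⟨g, le_ext L hg, rfl⟩⟩ with hz
    have hz4 : z ^ 4 = 1 := by
      apply Subtype.ext
      show (pr g) ^ 4 = 1
      rw [← map_pow, ← map_one (pr : SL2 →* PSL2), pr_eq_iff]
      right
      rw [← h4]
      simp only [pow_succ, pow_zero, one_mul, mul_assoc]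
    have hz2 : z ^ 2 = 1 := by
      apply pow_eq_one_of_equiv e
      apply sq_of_pow_four_A5
      rw [← map_pow, hz4, map_one]
    have hsq : (pr : SL2 →* PSL2) (g * g) = pr 1 := by
      rw [map_mul, map_one, ← sq]
      exact congrArg Subtype.val hz2
    rw [pr_eq_iff] at hsq
    rcases hsq with h | h
    · rcases Cfsg.Agent.H9.PSL2MaxAux.sq_eq_one h2 _ h with h' | h'
      · rw [h'] at htr
        have : (1 : SL2).1.trace = 2 := by simp [Matrix.trace_fin_two]
        rw [this] at htr
        apply h2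
        linear_combination htr - h3
      · rw [h'] at htr
        have : (-1 : SL2).1.trace = -2 := by
          rw [Matrix.trace_fin_two, neg_00, neg_11]
          simp
          ring
        rw [this] at htr
        apply h2
        linear_combination htr - h3
    · have := trace_zero_of_sq g h
      rw [this] at htr
      have : (1 : F) = 0 := by linear_combination htr
      exact one_ne_zero this
  rcases trichotomy h9 h3 lam hne with h | h | h
  · exact h
  · exfalso
    apply hno (l 1 * u lam) (L.mul_mem hlL huL)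
    rw [trace_l_u]
    linear_combination h + (lam + 2) * h3
  · exfalso
    have hu' : u (-lam) ∈ L := by rw [← u_inv]; exact L.inv_mem huL
    apply hno (l 1 * u (-lam)) (L.mul_mem hlL hu')
    rw [trace_l_u]
    linear_combination h + (-lam + 2) * h3

end main

end Cfsg.Agent.H9.TwoTransv
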