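import Mathlib
import Cfsg.Agent.H9.QSub
import Cfsg.Agent.H9.TwoTransv2
import Cfsg.Agent.H9.PSL2MaxAux

set_option autoImplicit false

/-! Traces of elements of `SL₂(q)`: entries from traces, traces of elements of small order,
traces fixed by Frobenius maps. -/

namespace Cfsg.Agent.H9.QTrace

open Matrix Subgroup
open Cfsg.Agent.H9.AutPSL2
open Cfsg.Agent.H9.KleinPSL2
open Cfsg.Agent.H9.QStd
open Cfsg.Agent.H9.QSub

universe u v

section ent

variable {F : Type u} [Field F]

local notation "SL2" => Matrix.SpecialLinearGroup (Fin 2) F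
local notation "PSL2" => Matrix.ProjectiveSpecialLinearGroup (Fin 2) F

theorem trace_eq (A : SL2) : A.1.trace = A.1 0 0 + A.1 1 1 := Matrix.trace_fin_two _

/-- the entries of a matrix from the traces of its products with a standard anticommuting pair -/
theorem ent (h2 : (2 : F) ≠ 0) (S : Subfield F) (s t : F) (hst : s ^ 2 + t ^ 2 = -1)
    (hs : s ∈ S) (ht : t ∈ S) (A : SL2)
    (h1 : A.1.trace ∈ S) (hX : (A * X0).1.trace ∈ S) (hY : (A * Y0 s t hst).1.trace ∈ S)
    (hXY : (A * (X0 * Y0 s t hst)).1.trace ∈ S) : ∀ i j : Fin 2, A.1 i j ∈ S := by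
  have e1 : A.1.trace = A.1 0 0 + A.1 1 1 := trace_eq A
  have e2 : (A * X0).1.trace = A.1 1 0 - A.1 0 1 := by
    rw [trace_eq, mul_00, mul_11, X0_00, X0_10, X0_01, X0_11]; ring
  have e3 : (A * Y0 s t hst).1.trace = (A.1 0 0 - A.1 1 1) * s + (A.1 0 1 + A.1 1 0) * t := by
    rw [trace_eq, mul_00, mul_11, Y0_00, Y0_10, Y0_01, Y0_11]; ring
  have e4 : (A * (X0 * Y0 s t hst)).1.trace =
      (A.1 0 0 - A.1 1 1) * t - (A.1 0 1 + A.1 1 0) * s := by
    rw [trace_eq, mul_00, mul_11, mul_00, mul_01, mul_10, mul_11, Y0_00, Y0_10, Y0_01, Y0_11,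
      X0_00, X0_10, X0_01, X0_11]; ring
  have h2S : (2 : F)⁻¹ ∈ S := S.inv_mem (by exact_mod_cast natCast_mem S 2)
  set T1 := A.1.trace with hT1
  set T2 := (A * X0).1.trace with hT2
  set T3 := (A * Y0 s t hst).1.trace with hT3
  set T4 := (A * (X0 * Y0 s t hst)).1.trace with hT4
  have ha : A.1 0 0 = (T1 - s * T3 - t * T4) * 2⁻¹ := by
    rw [eq_mul_inv_iff_mul_eq₀ h2, e1, e3, e4]
    linear_combination (A.1 0 0 - A.1 1 1) * hst
  have hd : A.1 1 1 = (T1 + s * T3 + t * T4) * 2⁻¹ := by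
    rw [eq_mul_inv_iff_mul_eq₀ h2, e1, e3, e4]
    linear_combination (-(A.1 0 0 - A.1 1 1)) * hst
  have hc : A.1 1 0 = (T2 + s * T4 - t * T3) * 2⁻¹ := by
    rw [eq_mul_inv_iff_mul_eq₀ h2, e2, e3, e4]
    linear_combination (A.1 0 1 + A.1 1 0) * hst
  have hb : A.1 0 1 = (s * T4 - t * T3 - T2) * 2⁻¹ := by
    rw [eq_mul_inv_iff_mul_eq₀ h2, e2, e3, e4]
    linear_combination (A.1 0 1 + A.1 1 0) * hst
  intro i j
  fin_cases i <;> fin_cases j
  · show A.1 0 0 ∈ S
    rw [ha]
    exact S.mul_mem (S.sub_mem (S.sub_mem h1 (S.mul_mem hs hY)) (S.mul_mem ht hXY)) h2S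
  · show A.1 0 1 ∈ S
    rw [hb]
    exact S.mul_mem (S.sub_mem (S.sub_mem (S.mul_mem hs hXY) (S.mul_mem ht hY)) hX) h2S
  · show A.1 1 0 ∈ S
    rw [hc]
    exact S.mul_mem (S.sub_mem (S.add_mem hX (S.mul_mem hs hXY)) (S.mul_mem ht hY)) h2S
  · show A.1 1 1 ∈ S
    rw [hd]
    exact S.mul_mem (S.add_mem (S.add_mem h1 (S.mul_mem hs hY)) (S.mul_mem ht hXY)) h2S

end ent


section small

variable {F : Type u} [Field F]

local notation "SL2" => Matrix.SpecialLinearGroup (Fin 2) F
local notation "PSL2" => Matrix.ProjectiveSpecialLinearGroup (Fin 2) F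
local notation "M2" => Matrix (Fin 2) (Fin 2) F

/-- the recurrence for traces of powers -/
theorem trace_pow_rec (A : SL2) (n : ℕ) :
    (A.1 ^ (n + 2)).trace = A.1.trace * (A.1 ^ (n + 1)).trace - (A.1 ^ n).trace := by
  have hc := Cfsg.Agent.H9.DicksonSS.cayley A
  have h : A.1 ^ (n + 2) = A.1.trace • A.1 ^ (n + 1) - A.1 ^ n := by
    rw [pow_add, pow_two, hc, Matrix.mul_sub, Matrix.mul_smul, Matrix.mul_one, pow_succ]
  rw [h, Matrix.trace_sub, Matrix.trace_smul, smul_eq_mul]

theorem trace_one' : ((1 : SL2).1).trace = 2 := by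
  rw [trace_eq]; simp; norm_num

theorem trace_neg_one' : ((-1 : SL2).1).trace = -2 := by
  rw [trace_eq]; simp; norm_num

theorem trace_pow_two (A : SL2) : ((A ^ 2).1).trace = A.1.trace ^ 2 - 2 := by
  rw [Matrix.SpecialLinearGroup.coe_pow]
  have h := trace_pow_rec A 0
  rw [pow_zero, zero_add, pow_one, Matrix.trace_one, Fintype.card_fin] at h
  rw [h]; push_cast; ring

theorem trace_pow_three (A : SL2) : ((A ^ 3).1).trace = A.1.trace ^ 3 - 3 * A.1.trace := by
  have h2 := trace_pow_two A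
  rw [Matrix.SpecialLinearGroup.coe_pow] at h2 ⊢
  have h := trace_pow_rec A 1
  rw [pow_one] at h
  rw [h, h2]; ring

theorem trace_pow_four (A : SL2) :
    ((A ^ 4).1).trace = A.1.trace ^ 4 - 4 * A.1.trace ^ 2 + 2 := by
  have h2 := trace_pow_two A
  have h3 := trace_pow_three A
  rw [Matrix.SpecialLinearGroup.coe_pow] at h2 h3 ⊢
  have h := trace_pow_rec A 2
  rw [h, h2, h3]; ring

theorem trace_pow_five (A : SL2) :
    ((A ^ 5).1).trace = A.1.trace ^ 5 - 5 * A.1.trace ^ 3 + 5 * A.1.trace := by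
  have h3 := trace_pow_three A
  have h4 := trace_pow_four A
  rw [Matrix.SpecialLinearGroup.coe_pow] at h3 h4 ⊢
  have h := trace_pow_rec A 3
  rw [h, h3, h4]; ring

/-- lifts of powers -/
theorem pow_cases (A : SL2) (n : ℕ) (h : (pr A : PSL2) ^ n = 1) : A ^ n = 1 ∨ A ^ n = -1 := by
  rw [← map_pow, ← map_one (pr : SL2 →* PSL2)] at h
  exact (pr_eq_iff _ _).1 h

theorem trace_of_pr_sq (h2 : (2 : F) ≠ 0) (A : SL2) (h : (pr A : PSL2) ^ 2 = 1) :
    A.1.trace = 0 ∨ A.1.trace = 2 ∨ A.1.trace = -2 := by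
  have ht := trace_pow_two A
  rcases pow_cases A 2 h with h' | h'
  · rw [h', trace_one'] at ht
    have : (A.1.trace - 2) * (A.1.trace + 2) = 0 := by linear_combination -ht
    rcases mul_eq_zero.1 this with h3 | h3
    · right; left; linear_combination h3
    · right; right; linear_combination h3
  · rw [h', trace_neg_one'] at ht
    left
    have : A.1.trace ^ 2 = 0 := by linear_combination -ht
    exact pow_eq_zero_iff (by norm_num) |>.1 this

theorem trace_of_pr_cube (A : SL2) (h : (pr A : PSL2) ^ 3 = 1) :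
    A.1.trace = 2 ∨ A.1.trace = -2 ∨ A.1.trace = 1 ∨ A.1.trace = -1 := by
  have ht := trace_pow_three A
  rcases pow_cases A 3 h with h' | h'
  · rw [h', trace_one'] at ht
    have : (A.1.trace - 2) * ((A.1.trace + 1) * (A.1.trace + 1)) = 0 := by
      linear_combination -ht
    rcases mul_eq_zero.1 this with h3 | h3
    · left; linear_combination h3
    · right; right; right
      rcases mul_eq_zero.1 h3 with h4 | h4 <;> linear_combination h4
  · rw [h', trace_neg_one'] at ht
    have : (A.1.trace + 2) * ((A.1.trace - 1) * (A.1.trace - 1)) = 0 := by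
      linear_combination -ht
    rcases mul_eq_zero.1 this with h3 | h3
    · right; left; linear_combination h3
    · right; right; left
      rcases mul_eq_zero.1 h3 with h4 | h4 <;> linear_combination h4

theorem trace_of_pr_five (A : SL2) (h : (pr A : PSL2) ^ 5 = 1) :
    A.1.trace = 2 ∨ A.1.trace = -2 ∨ A.1.trace ^ 2 + A.1.trace - 1 = 0 ∨
      A.1.trace ^ 2 - A.1.trace - 1 = 0 := by
  have ht := trace_pow_five A
  rcases pow_cases A 5 h with h' | h'
  · rw [h', trace_one'] at ht
    have : (A.1.trace - 2) * ((A.1.trace ^ 2 + A.1.trace - 1) *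
        (A.1.trace ^ 2 + A.1.trace - 1)) = 0 := by
      linear_combination -ht
    rcases mul_eq_zero.1 this with h3 | h3
    · left; linear_combination h3
    · right; right; left
      rcases mul_eq_zero.1 h3 with h4 | h4 <;> exact h4
  · rw [h', trace_neg_one'] at ht
    have : (A.1.trace + 2) * ((A.1.trace ^ 2 - A.1.trace - 1) *
        (A.1.trace ^ 2 - A.1.trace - 1)) = 0 := by
      linear_combination -ht
    rcases mul_eq_zero.1 this with h3 | h3
    · right; left; linear_combination h3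
    · right; right; right
      rcases mul_eq_zero.1 h3 with h4 | h4 <;> exact h4

end small


section frob

variable {F : Type u} [Field F]

local notation "SL2" => Matrix.SpecialLinearGroup (Fin 2) F
local notation "PSL2" => Matrix.ProjectiveSpecialLinearGroup (Fin 2) F

/-- an element fixed by the `|K|`-power map lies in the image of `K` -/
theorem mem_range_of_pow {K : Type v} [Field K] [Fintype K] (ι : K →+* F) (y : F)
    (hy : y ^ Fintype.card K = y) : y ∈ ι.fieldRange := by
  classical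
  set S1 := Fintype.card K with hS1
  have hS1' : 1 < S1 := Fintype.one_lt_card
  set P : Polynomial F := Polynomial.X ^ S1 - Polynomial.X with hP
  have hP0 : P ≠ 0 := FiniteField.X_pow_card_sub_X_ne_zero F hS1'
  have hdeg : P.natDegree = S1 := FiniteField.X_pow_card_sub_X_natDegree_eq F hS1'
  have hroot : ∀ y : F, y ^ S1 = y → y ∈ P.roots.toFinset := by
    intro y hy
    rw [Multiset.mem_toFinset, Polynomial.mem_roots hP0, Polynomial.IsRoot, hP]
    simp [hy]
  have himg : Finset.univ.image ι ⊆ P.roots.toFinset := by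
    intro y hy
    obtain ⟨k1, -, rfl⟩ := Finset.mem_image.1 hy
    apply hroot
    rw [← map_pow, hS1, FiniteField.pow_card]
  have hcard : P.roots.toFinset.card ≤ (Finset.univ.image ι).card := by
    rw [Finset.card_image_of_injective _ ι.injective, Finset.card_univ]
    calc P.roots.toFinset.card ≤ Multiset.card P.roots := Multiset.toFinset_card_le _
      _ ≤ P.natDegree := Polynomial.card_roots' P
      _ = S1 := hdeg
  have heq := Finset.eq_of_subset_of_card_le himg hcard
  have := hroot y hy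
  rw [← heq] at this
  obtain ⟨k1, -, hk1⟩ := Finset.mem_image.1 this
  exact ⟨k1, hk1⟩

/-- elements of the image of `K` are fixed by the `|K|`-power map -/
theorem pow_of_mem_range {K : Type v} [Field K] [Fintype K] (ι : K →+* F) (y : F)
    (hy : y ∈ ι.fieldRange) : y ^ Fintype.card K = y := by
  obtain ⟨k, rfl⟩ := hy
  rw [← map_pow, FiniteField.pow_card]

/-- `-1` is a sum of two squares of natural numbers in `F` -/
theorem exists_nat_sq_add_sq (p : ℕ) [Fact p.Prime] [CharP F p] :
    ∃ a b : ℕ, ((a : F)) ^ 2 + ((b : F)) ^ 2 = -1 := by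
  obtain ⟨s, t, hst⟩ := Cfsg.Agent.H9.AutPSL2.exists_sq_add_sq (-1 : ZMod p)
  refine ⟨s.val, t.val, ?_⟩
  have h1 : ((s.val : ℕ) : ZMod p) = s := ZMod.natCast_zmod_val s
  have h2 : ((t.val : ℕ) : ZMod p) = t := ZMod.natCast_zmod_val t
  have h3 : ((s.val ^ 2 + t.val ^ 2 + 1 : ℕ) : ZMod p) = 0 := by
    push_cast
    rw [h1, h2, ← hst]; ring
  have h4 : ((s.val ^ 2 + t.val ^ 2 + 1 : ℕ) : F) = 0 := by
    rw [CharP.cast_eq_zero_iff F p]
    exact (ZMod.natCast_eq_zero_iff _ _).1 h3
  push_cast at h4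
  linear_combination h4

/-- the trace of an element with `A ^ (s ∓ 1) = ± 1`, `s` a power of the characteristic -/
theorem trace_fix_of_pow (p : ℕ) [Fact p.Prime] [CharP F p] (j : ℕ) (A : SL2)
    (h : A ^ (p ^ j - 1) = 1 ∨ A ^ (p ^ j + 1) = 1) :
    A.1.trace ^ (p ^ j) = A.1.trace := by
  have hpos : 0 < p ^ j := pow_pos (Fact.out : p.Prime).pos j
  have := Cfsg.Agent.H9.TwoTransv.trace_pow_of p j A 1 (by
    rcases h with h | h
    · left
      have h1 : A ^ (p ^ j) = A := by
        have : p ^ j = (p ^ j - 1) + 1 := by omega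
        rw [this, pow_succ, h, one_mul]
      refine ⟨by rw [h1, one_smul], ?_⟩
      rw [inv_pow, h1, one_smul]
    · right
      have h1 : A ^ (p ^ j) = A⁻¹ := by
        rw [eq_inv_iff_mul_eq_one, ← pow_succ, h]
      refine ⟨by rw [h1, one_smul], ?_⟩
      rw [inv_pow, h1, inv_inv, one_smul])
  rw [this, one_mul]

/-- the same, up to sign -/
theorem trace_fix_of_pow' (p : ℕ) [Fact p.Prime] [CharP F p] (j : ℕ) (A : SL2)
    (h : A ^ (p ^ j - 1) = -1 ∨ A ^ (p ^ j + 1) = -1) :
    A.1.trace ^ (p ^ j) = -A.1.trace := by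
  have hpos : 0 < p ^ j := pow_pos (Fact.out : p.Prime).pos j
  have hneg : ∀ B : SL2, ((-1 : SL2) * B).1 = (-1 : F) • B.1 := by
    intro B
    rw [neg_mul, one_mul]
    exact Cfsg.Agent.H9.TwoTransv.coe_neg' B
  have hinv : ((-1 : SL2))⁻¹ = -1 := by
    rw [inv_eq_iff_eq_inv, Cfsg.Agent.H9.TwoTransv.neg_inv', inv_one]
  have := Cfsg.Agent.H9.TwoTransv.trace_pow_of p j A (-1) (by
    rcases h with h | h
    · left
      have h1 : A ^ (p ^ j) = -1 * A := by
        have : p ^ j = (p ^ j - 1) + 1 := by omega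
        rw [this, pow_succ, h]
      refine ⟨by rw [h1, hneg], ?_⟩
      rw [inv_pow, h1, _root_.mul_inv_rev, hinv, ← hneg]
      congr 1
      rw [neg_mul, one_mul, mul_neg, mul_one]
    · right
      have h1 : A ^ (p ^ j) = -1 * A⁻¹ := by
        rw [← h, pow_succ, mul_inv_cancel_right]
      refine ⟨by rw [h1, hneg], ?_⟩
      rw [inv_pow, h1, _root_.mul_inv_rev, inv_inv, hinv, ← hneg]
      congr 1
      rw [neg_mul, one_mul, mul_neg, mul_one])
  rw [this, neg_one_mul]

end frob

end Cfsg.Agent.H9.QTrace
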