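import Mathlib
import Cfsg.Agent.H9.QTrace
import Cfsg.Agent.H9.PSL2MaxGen2

set_option autoImplicit false

/-! The standard Klein four subgroup of `PSL₂(q)`, `q` odd: its normalizer normalizes the
standard subfield subgroups. -/

namespace Cfsg.Agent.H9.QNorm

open Matrix Subgroup
open Cfsg.Agent.H9.AutPSL2
open Cfsg.Agent.H9.KleinPSL2
open Cfsg.Agent.H9.KleinGeneral
open Cfsg.Agent.H9.QStd
open Cfsg.Agent.H9.QSub
open Cfsg.Agent.H9.QTrace
open Cfsg.Agent.H9.DicksonUN (dg dg_00 dg_01 dg_10 dg_11)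

universe u v

variable {F : Type u} [Field F] [Fintype F] {K : Type v} [Field K]

local notation "SL2" => Matrix.SpecialLinearGroup (Fin 2) F
local notation "PSL2" => Matrix.ProjectiveSpecialLinearGroup (Fin 2) F

/-- the standard Klein four subgroup -/
def V0 (s t : F) (hst : s ^ 2 + t ^ 2 = -1) : Subgroup PSL2 :=
  Subgroup.closure ({pr X0, pr (Y0 s t hst)} : Set PSL2)

theorem mem_V0_iff (h2 : (2 : F) ≠ 0) (s t : F) (hst : s ^ 2 + t ^ 2 = -1) (x : PSL2) :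
    x ∈ V0 s t hst ↔ x = 1 ∨ x = pr X0 ∨ x = pr (Y0 s t hst) ∨ x = pr (X0 * Y0 s t hst) := by
  obtain ⟨h1, h2', h3, -⟩ := pr_props h2 X0 (Y0 s t hst) (anti0 s t hst)
  unfold V0
  rw [mem_closure_pair_iff _ _ h1 h2' h3, map_mul]

theorem X0_mem_Rt (ι : K →+* F) : (X0 : SL2) ∈ Rt ι := by
  rw [mem_Rt_iff]
  intro i j
  fin_cases i <;> fin_cases j
  · exact ⟨0, map_zero ι⟩
  · exact ⟨1, map_one ι⟩
  · exact ⟨-1, by rw [map_neg, map_one]; rfl⟩
  · exact ⟨0, map_zero ι⟩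

theorem Y0_mem_Rt (ι : K →+* F) (s t : F) (hst : s ^ 2 + t ^ 2 = -1)
    (hs : s ∈ ι.fieldRange) (ht : t ∈ ι.fieldRange) : Y0 s t hst ∈ Rt ι := by
  rw [mem_Rt_iff]
  obtain ⟨s', hs'⟩ := hs
  obtain ⟨t', ht'⟩ := ht
  intro i j
  fin_cases i <;> fin_cases j
  · exact ⟨s', hs'⟩
  · exact ⟨t', ht'⟩
  · exact ⟨t', ht'⟩
  · exact ⟨-s', by rw [map_neg, hs']; rfl⟩

theorem neg_mem_Rt (ι : K →+* F) (Z : SL2) (hZ : Z ∈ Rt ι) : -Z ∈ Rt ι := by
  have := mul_mem (neg_one_mem_Rt ι) hZ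
  rwa [neg_mul, one_mul] at this

/-- lifts of the elements of the standard Klein four subgroup -/
theorem mem_Rt_of_pr_mem_V0 (h2 : (2 : F) ≠ 0) (ι : K →+* F) (s t : F)
    (hst : s ^ 2 + t ^ 2 = -1) (hs : s ∈ ι.fieldRange) (ht : t ∈ ι.fieldRange) (Z : SL2)
    (hZ : pr Z ∈ V0 s t hst) : Z ∈ Rt ι := by
  have key : ∀ W : SL2, W ∈ Rt ι → pr Z = pr W → Z ∈ Rt ι := by
    intro W hW h
    rcases (pr_eq_iff Z W).1 h with rfl | rfl
    · exact hW
    · exact neg_mem_Rt ι W hW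
  rcases (mem_V0_iff h2 s t hst _).1 hZ with h | h | h | h
  · exact key 1 (one_mem _) (by rw [h, map_one])
  · exact key _ (X0_mem_Rt ι) h
  · exact key _ (Y0_mem_Rt ι s t hst hs ht) h
  · exact key _ (mul_mem (X0_mem_Rt ι) (Y0_mem_Rt ι s t hst hs ht)) h

theorem trace_mem_of_mem_Rt (ι : K →+* F) (B : SL2) (hB : B ∈ Rt ι) :
    B.1.trace ∈ ι.fieldRange := by
  rw [mem_Rt_iff] at hB
  rw [trace_eq]
  exact add_mem (hB 0 0) (hB 1 1)

/-- the normalizer of the standard Klein four subgroup normalizes the subfield subgroups -/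
theorem conj_mem_Rt (h2 : (2 : F) ≠ 0) (ι : K →+* F) (s t : F)
    (hst : s ^ 2 + t ^ 2 = -1) (hs : s ∈ ι.fieldRange) (ht : t ∈ ι.fieldRange) (A : SL2)
    (hA : pr A ∈ normalizer ((V0 s t hst : Subgroup PSL2) : Set PSL2)) (B : SL2) (hB : B ∈ Rt ι) :
    A * B * A⁻¹ ∈ Rt ι := by
  have hAi : (pr A)⁻¹ ∈ normalizer ((V0 s t hst : Subgroup PSL2) : Set PSL2) := inv_mem hA
  have hconj : ∀ Z : SL2, pr Z ∈ V0 s t hst → A⁻¹ * Z * A ∈ Rt ι := by
    intro Z hZ
    apply mem_Rt_of_pr_mem_V0 h2 ι s t hst hs ht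
    have := (mem_normalizer_iff.1 hAi (pr Z)).1 hZ
    rwa [inv_inv, ← map_inv, ← map_mul, ← map_mul] at this
  have htr : ∀ Z : SL2, pr Z ∈ V0 s t hst → (A * B * A⁻¹ * Z).1.trace ∈ ι.fieldRange := by
    intro Z hZ
    have : A * B * A⁻¹ * Z = A * (B * (A⁻¹ * Z * A)) * A⁻¹ := by group
    rw [this, Cfsg.Agent.H9.AutPSL2.trace_conj]
    exact trace_mem_of_mem_Rt ι _ (mul_mem hB (hconj Z hZ))
  rw [mem_Rt_iff]
  have h1 := htr 1 (one_mem _ |> fun h => by rw [map_one]; exact h)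
  rw [mul_one] at h1
  apply ent h2 ι.fieldRange s t hst hs ht _ h1
  · exact htr _ ((mem_V0_iff h2 s t hst _).2 (Or.inr (Or.inl rfl)))
  · exact htr _ ((mem_V0_iff h2 s t hst _).2 (Or.inr (Or.inr (Or.inl rfl))))
  · exact htr _ ((mem_V0_iff h2 s t hst _).2 (Or.inr (Or.inr (Or.inr rfl))))

theorem normalizer_V0_le (h2 : (2 : F) ≠ 0) (ι : K →+* F) (s t : F)
    (hst : s ^ 2 + t ^ 2 = -1) (hs : s ∈ ι.fieldRange) (ht : t ∈ ι.fieldRange) :
    normalizer ((V0 s t hst : Subgroup PSL2) : Set PSL2) ≤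
      normalizer ((G0 ι : Subgroup PSL2) : Set PSL2) := by
  have key : ∀ g : PSL2, g ∈ normalizer ((V0 s t hst : Subgroup PSL2) : Set PSL2) →
      ∀ h : PSL2, h ∈ G0 ι → g * h * g⁻¹ ∈ G0 ι := by
    intro g hg h hh
    obtain ⟨A, rfl⟩ := pr_surjective g
    obtain ⟨B, rfl⟩ := pr_surjective h
    rw [mem_G0_iff] at hh
    rw [← map_inv, ← map_mul, ← map_mul, mem_G0_iff]
    exact conj_mem_Rt h2 ι s t hst hs ht A hg B hh
  intro g hg
  rw [mem_normalizer_iff]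
  intro h
  constructor
  · exact key g hg h
  · intro hh
    have := key g⁻¹ (inv_mem hg) _ hh
    rw [inv_inv] at this
    convert this using 1
    group


theorem dg_inv' (τ : Fˣ) : (dg τ)⁻¹ = dg τ⁻¹ := by
  apply ext4
  · rw [inv_00, dg_11, dg_00]
  · rw [inv_01, dg_01, dg_01, neg_zero]
  · rw [inv_10, dg_10, dg_10, neg_zero]
  · rw [inv_11, dg_00, dg_11, inv_inv]

/-- diagonal matrices with square in the subfield normalize the subfield subgroup -/
theorem dg_conj_mem_Rt (ι : K →+* F) (τ : Fˣ) (hτ : (τ : F) ^ 2 ∈ ι.fieldRange) (B : SL2)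
    (hB : B ∈ Rt ι) : dg τ * B * (dg τ)⁻¹ ∈ Rt ι := by
  rw [mem_Rt_iff] at hB ⊢
  have hτi : ((τ : F) ^ 2)⁻¹ ∈ ι.fieldRange := inv_mem hτ
  have hτ0 : (τ : F) ≠ 0 := τ.ne_zero
  have e00 : (dg τ * B * (dg τ)⁻¹).1 0 0 = B.1 0 0 := by
    simp only [dg_inv', mul_00, mul_01, mul_10, mul_11, dg_00, dg_01, dg_10, dg_11, inv_inv,
      Units.val_inv_eq_inv_val]
    field_simp
    ring
  have e01 : (dg τ * B * (dg τ)⁻¹).1 0 1 = (τ : F) ^ 2 * B.1 0 1 := by
    simp only [dg_inv', mul_00, mul_01, mul_10, mul_11, dg_00, dg_01, dg_10, dg_11, inv_inv,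
      Units.val_inv_eq_inv_val]
    ring
  have e10 : (dg τ * B * (dg τ)⁻¹).1 1 0 = ((τ : F) ^ 2)⁻¹ * B.1 1 0 := by
    simp only [dg_inv', mul_00, mul_01, mul_10, mul_11, dg_00, dg_01, dg_10, dg_11, inv_inv,
      Units.val_inv_eq_inv_val]
    field_simp
    ring
  have e11 : (dg τ * B * (dg τ)⁻¹).1 1 1 = B.1 1 1 := by
    simp only [dg_inv', mul_00, mul_01, mul_10, mul_11, dg_00, dg_01, dg_10, dg_11, inv_inv,
      Units.val_inv_eq_inv_val]
    field_simp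
    ring
  intro i j
  fin_cases i <;> fin_cases j
  · show (dg τ * B * (dg τ)⁻¹).1 0 0 ∈ _
    rw [e00]; exact hB 0 0
  · show (dg τ * B * (dg τ)⁻¹).1 0 1 ∈ _
    rw [e01]; exact mul_mem hτ (hB 0 1)
  · show (dg τ * B * (dg τ)⁻¹).1 1 0 ∈ _
    rw [e10]; exact mul_mem hτi (hB 1 0)
  · show (dg τ * B * (dg τ)⁻¹).1 1 1 ∈ _
    rw [e11]; exact hB 1 1

theorem pr_dg_mem_normalizer (ι : K →+* F) (τ : Fˣ) (hτ : (τ : F) ^ 2 ∈ ι.fieldRange) :
    pr (dg τ) ∈ normalizer ((G0 ι : Subgroup PSL2) : Set PSL2) := by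
  have key : ∀ τ : Fˣ, (τ : F) ^ 2 ∈ ι.fieldRange → ∀ h : PSL2, h ∈ G0 ι →
      pr (dg τ) * h * (pr (dg τ))⁻¹ ∈ G0 ι := by
    intro τ hτ h hh
    obtain ⟨B, rfl⟩ := pr_surjective h
    rw [mem_G0_iff] at hh
    rw [← map_inv, ← map_mul, ← map_mul, mem_G0_iff]
    exact dg_conj_mem_Rt ι τ hτ B hh
  rw [mem_normalizer_iff]
  intro h
  constructor
  · exact key τ hτ h
  · intro hh
    have hτ' : ((τ⁻¹ : Fˣ) : F) ^ 2 ∈ ι.fieldRange := by
      rw [Units.val_inv_eq_inv_val, inv_pow]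
      exact inv_mem hτ
    have := key τ⁻¹ hτ' _ hh
    rw [← dg_inv', map_inv, inv_inv] at this
    convert this using 1
    group

/-- a subfield of even codimension: the subfield subgroup is not self-normalizing -/
theorem exists_normalizer_not_mem [Fintype K] (hodd : Odd (Fintype.card F)) (ι : K →+* F)
    (m : ℕ) (hm : Even m) (hK : Fintype.card K ^ m = Fintype.card F) :
    ∃ g : PSL2, g ∈ normalizer ((G0 ι : Subgroup PSL2) : Set PSL2) ∧ g ∉ G0 ι := by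
  have hr : Odd (Fintype.card K) := by
    rw [← hK] at hodd
    rcases Nat.even_or_odd (Fintype.card K) with h | h
    · exfalso
      have hm0 : m ≠ 0 := by
        rintro rfl
        rw [pow_zero] at hK
        have := Fintype.one_lt_card (α := F)
        omega
      exact (Nat.not_even_iff_odd.2 hodd) (Nat.even_pow.2 ⟨h, hm0⟩)
    · exact h
  have hchar : ringChar K ≠ 2 := by
    intro h2
    have := FiniteField.even_card_of_char_two h2
    exact (Nat.not_even_iff_odd.2 hr) (Nat.even_iff.2 this)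
  obtain ⟨ν, hν⟩ := FiniteField.exists_nonsquare hchar
  have hν0 : ν ≠ 0 := by
    rintro rfl
    exact hν ⟨0, by rw [mul_zero]⟩
  obtain ⟨σ, hσ⟩ := Cfsg.Agent.H9.SubfieldPSL2.isSquare_of_even ι m hm hodd hK ν hν0
  have hσ0 : σ ≠ 0 := by
    rintro rfl
    rw [mul_zero] at hσ
    exact hν0 (ι.injective (by rw [hσ, map_zero]))
  set τ : Fˣ := Units.mk0 σ hσ0 with hτ
  have hτ2 : (τ : F) ^ 2 ∈ ι.fieldRange := ⟨ν, by rw [hσ, hτ, Units.val_mk0, pow_two]⟩
  refine ⟨pr (dg τ), pr_dg_mem_normalizer ι τ hτ2, ?_⟩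
  intro hmem
  rw [mem_G0_iff, mem_Rt_iff] at hmem
  obtain ⟨s, hs⟩ := hmem 0 0
  rw [dg_00, hτ, Units.val_mk0] at hs
  apply hν
  refine ⟨s, ι.injective ?_⟩
  rw [hσ, map_mul, hs]


/-- normalization of a Klein four subgroup by a trace preserving automorphism -/
theorem exists_std_aut (hodd : Odd (Fintype.card F)) (V : Subgroup PSL2) [hV : IsKleinFour V]
    (s t : F) (hst : s ^ 2 + t ^ 2 = -1) :
    ∃ e : SL2 ≃* SL2, (∀ A : SL2, (e A).1.trace = A.1.trace) ∧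
      V.map (lift e).toMonoidHom = V0 s t hst ∧
      ∃ X Y : SL2, pr X ∈ V ∧ pr Y ∈ V ∧ e X = X0 ∧ e Y = Y0 s t hst := by
  have h2 : (2 : F) ≠ 0 := Cfsg.Agent.Lib.Helper8.SL2Odd.two_ne_zero' hodd
  obtain ⟨X, Y, hXY, hcl⟩ := Cfsg.Agent.H9.KleinNorm.exists_pair h2 V
  obtain ⟨e, heX, heY, htr⟩ := exists_std hodd X Y hXY s t hst
  refine ⟨e, htr, ?_, X, Y, ?_, ?_, heX, heY⟩
  · rw [← hcl, MonoidHom.map_closure, Set.image_pair]
    show Subgroup.closure {lift e (pr X), lift e (pr Y)} = _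
    rw [lift_pr, lift_pr, heX, heY]; rfl
  · rw [← hcl]; exact Subgroup.subset_closure (by simp)
  · rw [← hcl]; exact Subgroup.subset_closure (by simp)

/-- a subgroup containing a Klein four subgroup all of whose elements have traces in a subfield
is mapped into the subfield subgroup by an automorphism -/
theorem core (hodd : Odd (Fintype.card F)) (ι : K →+* F) (s t : F) (hst : s ^ 2 + t ^ 2 = -1)
    (hs : s ∈ ι.fieldRange) (ht : t ∈ ι.fieldRange) (M V : Subgroup PSL2) [hV : IsKleinFour V]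
    (hVM : V ≤ M) (htr : ∀ A : SL2, pr A ∈ M → A.1.trace ∈ ι.fieldRange) :
    ∃ φ : MulAut PSL2, M.map φ.toMonoidHom ≤ G0 ι := by
  have h2 : (2 : F) ≠ 0 := Cfsg.Agent.Lib.Helper8.SL2Odd.two_ne_zero' hodd
  obtain ⟨e, hetr, -, X, Y, hX, hY, heX, heY⟩ := exists_std_aut hodd V s t hst
  refine ⟨lift e, ?_⟩
  rintro _ ⟨x, hx, rfl⟩
  obtain ⟨A, rfl⟩ := pr_surjective x
  show lift e (pr A) ∈ G0 ι
  rw [lift_pr, mem_G0_iff, mem_Rt_iff]
  have key : ∀ Z : SL2, pr Z ∈ M → (e A * e Z).1.trace ∈ ι.fieldRange := by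
    intro Z hZ
    rw [← map_mul, hetr]
    apply htr
    rw [map_mul]; exact mul_mem hx hZ
  apply ent h2 ι.fieldRange s t hst hs ht
  · rw [hetr]; exact htr A hx
  · rw [← heX]; exact key X (hVM hX)
  · rw [← heY]; exact key Y (hVM hY)
  · rw [← heX, ← heY, ← map_mul]
    exact key (X * Y) (by rw [map_mul]; exact mul_mem (hVM hX) (hVM hY))

theorem exists_field (p n : ℕ) [Fact p.Prime] (hn : n ≠ 0) :
    ∃ (K1 : Type) (_ : Field K1) (_ : Fintype K1), Fintype.card K1 = p ^ n :=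
  ⟨GaloisField p n, inferInstance, Fintype.ofFinite _, by
    rw [Fintype.card_eq_nat_card]; exact GaloisField.card p n hn⟩

theorem G0_eq_top_of_card [Fintype K] (h2 : (2 : F) ≠ 0) (ι : K →+* F)
    (h : Fintype.card K = Fintype.card F) : G0 ι = ⊤ := by
  apply Subgroup.eq_top_of_card_eq
  have h1 := card_G0 h2 ι
  have h3 := Cfsg.Agent.H9.DicksonMax.card_PSL2_mul F
  have hg : Nat.gcd 2 (Fintype.card F - 1) = 2 := by
    have hodd : Odd (Fintype.card F) := by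
      by_contra hcon
      rw [Nat.not_odd_iff_even] at hcon
      apply h2
      have := (FiniteField.even_card_iff_char_two).2 (by
        rcases hcon with ⟨r, hr⟩; omega : Fintype.card F % 2 = 0)
      have hc : CharP F 2 := ringChar.of_eq this
      exact CharTwo.two_eq_zero
    obtain ⟨r, hr⟩ := hodd
    have : Fintype.card F - 1 = 2 * r := by omega
    rw [this, Nat.gcd_mul_right_right]
  rw [hg] at h3
  rw [h] at h1
  omega

/-- a maximal subfield subgroup comes from a subfield of odd prime codimension -/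
theorem prime_of_coatom [Fintype K] (hodd : Odd (Fintype.card F)) (hq4 : 4 ≤ Fintype.card F)
    (ι : K →+* F) (m : ℕ) (hK : Fintype.card K ^ m = Fintype.card F) (hco : IsCoatom (G0 ι)) :
    m.Prime ∧ Odd m := by
  have h2 : (2 : F) ≠ 0 := Cfsg.Agent.Lib.Helper8.SL2Odd.two_ne_zero' hodd
  have hsimple := Cfsg.Agent.H9.PSL2MinSimple.isSimple hq4
  have hq1 : 1 < Fintype.card F := Fintype.one_lt_card
  have hK1 : 1 < Fintype.card K := Fintype.one_lt_card
  have hm0 : m ≠ 0 := by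
    rintro rfl
    rw [pow_zero] at hK
    omega
  have hm1 : m ≠ 1 := by
    rintro rfl
    rw [pow_one] at hK
    exact hco.1 (G0_eq_top_of_card h2 ι hK)
  have hbot : G0 ι ≠ ⊥ := by
    intro h
    have h1 := card_G0 h2 ι
    rw [h, Subgroup.card_bot] at h1
    have : 2 ^ 2 ≤ Fintype.card K ^ 2 := Nat.pow_le_pow_left hK1 2
    have h6 : 2 * 3 ≤ Fintype.card K * (Fintype.card K ^ 2 - 1) :=
      Nat.mul_le_mul hK1 (by omega)
    omega
  have hodd' : Odd m := by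
    by_contra hcon
    rw [Nat.not_odd_iff_even] at hcon
    obtain ⟨g, hgN, hg⟩ := exists_normalizer_not_mem hodd ι m hcon hK
    have := Cfsg.Agent.H9.PSL2MaxGen.normalizer_eq_of_coatom (G0 ι) hco (G0 ι) hbot le_rfl
      le_normalizer
    rw [this] at hgN
    exact hg hgN
  refine ⟨?_, hodd'⟩
  by_contra hnp
  obtain ⟨a, ha_dvd, ha2, ha_lt⟩ := Nat.exists_dvd_of_not_prime2 (by omega) hnp
  obtain ⟨b, hb⟩ := ha_dvd
  have hb2 : 2 ≤ b := by
    by_contra hcon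
    have : b ≤ 1 := by omega
    rcases Nat.eq_zero_or_pos b with rfl | hbpos
    · rw [mul_zero] at hb; exact hm0 hb
    · have : b = 1 := by omega
      rw [this, mul_one] at hb
      omega
  obtain ⟨p', hp'⟩ := CharP.exists K
  obtain ⟨n, hp'p, hn⟩ := FiniteField.card K p'
  haveI := Fact.mk hp'p
  obtain ⟨K1, _, _, hK1c⟩ := exists_field p' (n * a) (Nat.mul_ne_zero (PNat.ne_zero n) (by omega))
  have hS1 : Fintype.card K1 = Fintype.card K ^ a := by rw [hK1c, hn, pow_mul]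
  obtain ⟨ι1⟩ := Cfsg.Agent.H9.SubfieldPSL2.exists_ringHom (F := F) (K := K1) b (by omega)
    (by rw [hS1, ← pow_mul, ← hb, hK])
  have hsub : ∀ k : K, ∃ k1 : K1, ι1 k1 = ι k :=
    Cfsg.Agent.H9.PSL2MaxEven.range_le_range ι ι1 a hS1
  have hle : G0 ι ≤ G0 ι1 := G0_mono ι ι1 hsub
  have hlt : Fintype.card K1 < Fintype.card F := by
    rw [hS1, ← hK]
    exact Nat.pow_lt_pow_right hK1 ha_lt
  have hne := G0_ne_top h2 ι1 hlt
  have heq := Cfsg.Agent.H9.PSL2MaxGen.eq_of_coatom_le (G0 ι) (G0 ι1) hco hle hne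
  have h1 := card_G0 h2 ι
  have h3 := card_G0 h2 ι1
  rw [heq] at h3
  have hlt' := Cfsg.Agent.H9.PSL2MaxEven.mono_card (Fintype.card K) (Fintype.card K1)
    (by omega) (by
      rw [hS1]
      calc Fintype.card K = Fintype.card K ^ 1 := (pow_one _).symm
        _ < Fintype.card K ^ a := Nat.pow_lt_pow_right hK1 (by omega))
  omega

end Cfsg.Agent.H9.QNorm
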