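import Mathlib
import Cfsg.Agent.H9.QNorm
import Cfsg.Agent.H9.PSL2MaxDih

set_option autoImplicit false

/-! Maximal subgroups of `PSL₂(q)`, `q` odd: the subfield cases. -/

namespace Cfsg.Agent.H9.QCases

open Matrix Subgroup
open Cfsg.Agent.H9.AutPSL2
open Cfsg.Agent.H9.KleinPSL2
open Cfsg.Agent.H9.KleinGeneral
open Cfsg.Agent.H9.QStd
open Cfsg.Agent.H9.QSub
open Cfsg.Agent.H9.QTrace
open Cfsg.Agent.H9.QNorm
open Cfsg.Agent.H9.PSL2MaxGen

universe u v

section general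

variable {G : Type*} [Group G] {H : Type*} [Group H]

theorem isKleinFour_of_equiv {A B : Type*} [Group A] [Group B] (e : A ≃* B)
    [hB : IsKleinFour B] : IsKleinFour A := by
  constructor
  · rw [Nat.card_congr e.toEquiv]
    exact hB.card_four
  · rw [Monoid.exponent_eq_of_mulEquiv e]
    exact hB.exponent_two

/-- pulling back a subgroup along an isomorphism from a subgroup -/
theorem exists_sub_of_equiv (M : Subgroup G) (e : M ≃* H) (N : Subgroup H) :
    ∃ V : Subgroup G, V ≤ M ∧ Nonempty (V ≃* N) ∧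
      (N.Normal → ∀ m ∈ M, ∀ v ∈ V, m * v * m⁻¹ ∈ V) ∧
      (∀ x : M, e x ∈ N → (x : G) ∈ V) := by
  set N' : Subgroup M := N.comap e.toMonoidHom with hN'
  refine ⟨N'.map M.subtype, ?_, ?_, ?_, ?_⟩
  · rintro _ ⟨x, -, rfl⟩
    exact x.2
  · have e1 : N' ≃* N'.map M.subtype := N'.equivMapOfInjective _ M.subtype_injective
    have e2 : N' ≃* N'.map (e : M →* H) := e.subgroupMap N'
    have h3 : N'.map (e : M →* H) = N :=
      Subgroup.map_comap_eq_self_of_surjective (f := (e : M →* H)) e.surjective N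
    exact ⟨e1.symm.trans (e2.trans (MulEquiv.subgroupCongr h3))⟩
  · rintro hN m hm _ ⟨x, hx, rfl⟩
    refine ⟨⟨m, hm⟩ * x * ⟨m, hm⟩⁻¹, ?_, rfl⟩
    have : (N.comap e.toMonoidHom).Normal := hN.comap _
    exact this.conj_mem x hx ⟨m, hm⟩
  · intro x hx
    exact ⟨x, hx, rfl⟩

end general

section fix

variable {F : Type u} [Field F] [Fintype F]

local notation "SL2" => Matrix.SpecialLinearGroup (Fin 2) F
local notation "PSL2" => Matrix.ProjectiveSpecialLinearGroup (Fin 2) F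

omit [Fintype F] in
theorem pow_fix_of_sq_four (p : ℕ) [Fact p.Prime] [CharP F p] (hp2 : p ≠ 2) (j : ℕ) (t : F)
    (h : t ^ 2 = 4) : t ^ (p ^ j) = t := by
  have hpodd : Odd (p ^ j) :=
    Odd.pow ((Fact.out : p.Prime).odd_of_ne_two hp2)
  have h2 : (2 : F) ^ (p ^ j) = 2 := by
    have := Cfsg.Agent.H9.TwoTransv.natCast_pow_char_pow (F := F) p j 2
    exact_mod_cast this
  have : (t - 2) * (t + 2) = 0 := by linear_combination h
  rcases mul_eq_zero.1 this with h3 | h3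
  · have : t = 2 := by linear_combination h3
    rw [this, h2]
  · have : t = -2 := by linear_combination h3
    rw [this, hpodd.neg_pow, h2]

theorem gcd_two_of_odd (n : ℕ) (hn : Odd n) : Nat.gcd 2 (n - 1) = 2 := by
  obtain ⟨r, hr⟩ := hn
  have : n - 1 = 2 * r := by omega
  rw [this, Nat.gcd_mul_right_right]

/-- traces of the elements of a copy of `PSL₂(K')` -/
theorem trace_fix_psl {K' : Type v} [Field K'] [Fintype K'] (p : ℕ) [Fact p.Prime] [CharP F p]
    [CharP K' p] (hp2 : p ≠ 2) (a : ℕ) (hK' : Fintype.card K' = p ^ a)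
    (M : Subgroup PSL2) (e : M ≃* Matrix.ProjectiveSpecialLinearGroup (Fin 2) K') (A : SL2)
    (hA : pr A ∈ M) : A.1.trace ^ (p ^ a) = A.1.trace := by
  by_cases hss : A.1.trace ^ 2 = 4
  · exact pow_fix_of_sq_four p hp2 a _ hss
  · have hcop := Cfsg.Agent.H9.TwoTransv.coprime_order_of_ss p A hss
    set s := e ⟨pr A, hA⟩ with hs
    have hord : orderOf s = orderOf (pr A : PSL2) := by
      rw [hs, MulEquiv.orderOf_eq, Subgroup.orderOf_mk]
    have h1 := Cfsg.Agent.H9.PSL2MaxAux.psl_order p s (by rw [hord]; exact hcop)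
    have hpodd : Odd (p ^ a) :=
      Odd.pow ((Fact.out : p.Prime).odd_of_ne_two hp2)
    rw [hord, hK', gcd_two_of_odd _ hpodd] at h1
    set n := orderOf (pr A : PSL2) with hn
    have hn1 : (pr A : PSL2) ^ n = 1 := pow_orderOf_eq_one _
    have hA2 : A ^ (2 * n) = 1 := by
      rcases pow_cases A n hn1 with h | h
      · rw [mul_comm, pow_mul, h, one_pow]
      · rw [mul_comm, pow_mul, h, neg_one_sq]
    apply trace_fix_of_pow p a A
    rcases h1 with ⟨c, hc⟩ | ⟨c, hc⟩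
    · left; rw [hc, pow_mul, hA2, one_pow]
    · right; rw [hc, pow_mul, hA2, one_pow]

/-- traces of the elements of a copy of `PGL₂(K')` -/
theorem trace_fix_pgl {K' : Type v} [Field K'] [Fintype K'] (p : ℕ) [Fact p.Prime] [CharP F p]
    [CharP K' p] (hp2 : p ≠ 2) (a : ℕ) (hK' : Fintype.card K' = p ^ a)
    (M : Subgroup PSL2) (e : M ≃* Matrix.ProjGenLinGroup (Fin 2) K') (A : SL2)
    (hA : pr A ∈ M) :
    A.1.trace ^ (p ^ a) = A.1.trace ∨ A.1.trace ^ (p ^ a) = -A.1.trace := by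
  by_cases hss : A.1.trace ^ 2 = 4
  · exact Or.inl (pow_fix_of_sq_four p hp2 a _ hss)
  · have hcop := Cfsg.Agent.H9.TwoTransv.coprime_order_of_ss p A hss
    set s := e ⟨pr A, hA⟩ with hs
    have hord : orderOf s = orderOf (pr A : PSL2) := by
      rw [hs, MulEquiv.orderOf_eq, Subgroup.orderOf_mk]
    have h1 := Cfsg.Agent.H9.PSL2MaxAux.pgl_order p s (by rw [hord]; exact hcop)
    rw [hord, hK'] at h1
    set n := orderOf (pr A : PSL2) with hn
    have hn1 : (pr A : PSL2) ^ n = 1 := pow_orderOf_eq_one _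
    have hpow : ∀ c : ℕ, A ^ (n * c) = 1 ∨ A ^ (n * c) = -1 := by
      intro c
      rcases pow_cases A n hn1 with h | h
      · left; rw [pow_mul, h, one_pow]
      · rw [pow_mul, h]
        rcases Nat.even_or_odd c with hc | hc
        · left; exact hc.neg_one_pow
        · right; exact hc.neg_one_pow
    rcases h1 with ⟨c, hc⟩ | ⟨c, hc⟩
    · rcases hpow c with h | h
      · left; exact trace_fix_of_pow p a A (Or.inl (by rw [hc]; exact h))
      · right; exact trace_fix_of_pow' p a A (Or.inl (by rw [hc]; exact h))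
    · rcases hpow c with h | h
      · left; exact trace_fix_of_pow p a A (Or.inr (by rw [hc]; exact h))
      · right; exact trace_fix_of_pow' p a A (Or.inr (by rw [hc]; exact h))

end fix


section cases

variable {F : Type u} [Field F] [Fintype F]

local notation "SL2" => Matrix.SpecialLinearGroup (Fin 2) F
local notation "PSL2" => Matrix.ProjectiveSpecialLinearGroup (Fin 2) F

theorem p_ne_two (hodd : Odd (Fintype.card F)) (p : ℕ) [Fact p.Prime] [CharP F p] : p ≠ 2 := by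
  rintro rfl
  have : (2 : F) = 0 := by
    have := CharP.cast_eq_zero F 2
    exact_mod_cast this
  exact Cfsg.Agent.Lib.Helper8.SL2Odd.two_ne_zero' hodd this

/-- a Klein four subgroup of `PSL₂(K')` -/
theorem exists_klein {K' : Type v} [Field K'] [Fintype K'] (h2 : (2 : K') ≠ 0) :
    ∃ V' : Subgroup (Matrix.ProjectiveSpecialLinearGroup (Fin 2) K'), IsKleinFour V' := by
  obtain ⟨s', t', hst'⟩ := Cfsg.Agent.H9.AutPSL2.exists_sq_add_sq (-1 : K')
  exact ⟨_, isKleinFour_of_anti h2 X0 (Y0 s' t' hst'.symm) (anti0 s' t' hst'.symm)⟩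

theorem two_ne_zero_of_charP {K' : Type v} [Field K'] (p : ℕ) [Fact p.Prime] [CharP K' p]
    (hp2 : p ≠ 2) : (2 : K') ≠ 0 := by
  intro h
  have h1 : ((2 : ℕ) : K') = 0 := by exact_mod_cast h
  rw [CharP.cast_eq_zero_iff K' p] at h1
  have := (Nat.prime_dvd_prime_iff_eq (Fact.out : p.Prime) Nat.prime_two).1 h1
  exact hp2 this

/-- the case `M ≅ PSL₂(K')` -/
theorem psl_case (hodd : Odd (Fintype.card F)) (h5 : 5 ≤ Fintype.card F) (p : ℕ) [Fact p.Prime]
    [CharP F p] (M : Subgroup PSL2) (hM : IsCoatom M) (K' : Type) [Field K'] [Fintype K']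
    (m : ℕ) (hm : Fintype.card K' ^ m = Fintype.card F)
    (e : M ≃* Matrix.ProjectiveSpecialLinearGroup (Fin 2) K') : m.Prime ∧ Odd m := by
  have hpp : p.Prime := Fact.out
  have h2 : (2 : F) ≠ 0 := Cfsg.Agent.Lib.Helper8.SL2Odd.two_ne_zero' hodd
  have hp2 := p_ne_two hodd p
  have hm0 : m ≠ 0 := by
    rintro rfl
    rw [pow_zero] at hm
    omega
  obtain ⟨f, -, hf⟩ := FiniteField.card F p
  haveI : CharP K' p := Cfsg.Agent.H9.PSL2MaxDih.charP_of_card_pow p hpp m f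
    (by rw [hm, hf]) hm0
  obtain ⟨a, -, ha⟩ := FiniteField.card K' p
  obtain ⟨ι⟩ := Cfsg.Agent.H9.SubfieldPSL2.exists_ringHom (F := F) (K := K') m (by omega) hm
  obtain ⟨s0, t0, hst⟩ := exists_nat_sq_add_sq (F := F) p
  obtain ⟨V', hV'⟩ := exists_klein (two_ne_zero_of_charP (K' := K') p hp2)
  obtain ⟨V, hVM, ⟨eV⟩, -, -⟩ := exists_sub_of_equiv M e V'
  haveI : IsKleinFour V := isKleinFour_of_equiv eV
  have htr : ∀ A : SL2, pr A ∈ M → A.1.trace ∈ ι.fieldRange := by
    intro A hA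
    apply mem_range_of_pow ι
    rw [ha]
    exact trace_fix_psl p hp2 a ha M e A hA
  obtain ⟨φ, hφ⟩ := core hodd ι _ _ hst (natCast_mem _ s0) (natCast_mem _ t0) M V hVM htr
  have hc1 : Nat.card (M.map φ.toMonoidHom) = Nat.card M :=
    (Nat.card_congr (M.equivMapOfInjective _ φ.injective).toEquiv).symm
  have hc2 : Nat.card M = Nat.card (Matrix.ProjectiveSpecialLinearGroup (Fin 2) K') :=
    Nat.card_congr e.toEquiv
  have hc3 := Cfsg.Agent.H9.DicksonMax.card_PSL2_mul K'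
  have hKodd : Odd (Fintype.card K') := by
    rw [ha]; exact Odd.pow (hpp.odd_of_ne_two hp2)
  rw [gcd_two_of_odd _ hKodd] at hc3
  have hc4 := card_G0 h2 ι
  have heq : M.map φ.toMonoidHom = G0 ι :=
    Subgroup.eq_of_le_of_card_ge hφ (by rw [hc1, hc2]; omega)
  have hco : IsCoatom (G0 ι) := by
    rw [← heq]
    exact Cfsg.Agent.H9.PSL2MaxEven.coatom_map φ M hM
  exact prime_of_coatom hodd (by omega) ι m hm hco

theorem arith_pgl (Q : ℕ) (hQ : 3 ≤ Q) : 2 * (Q * (Q ^ 2 - 1)) ≠ Q ^ 2 * ((Q ^ 2) ^ 2 - 1) := by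
  obtain ⟨w, hw⟩ : ∃ w, Q ^ 2 = w + 1 := ⟨Q ^ 2 - 1, by
    have : 3 ^ 2 ≤ Q ^ 2 := Nat.pow_le_pow_left hQ 2
    omega⟩
  have hw8 : 8 ≤ w := by
    have : 3 ^ 2 ≤ Q ^ 2 := Nat.pow_le_pow_left hQ 2
    omega
  have hQw : Q ≤ w + 1 := by
    rw [← hw]; nlinarith
  have h1 : (Q ^ 2) ^ 2 - 1 = w * (w + 2) := by
    rw [hw]
    have : (w + 1) ^ 2 = w * (w + 2) + 1 := by ring
    omega
  rw [h1, hw, Nat.add_sub_cancel]
  intro h
  have h3 : 2 * (Q * w) ≤ 2 * ((w + 1) * w) :=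
    Nat.mul_le_mul_left 2 (Nat.mul_le_mul_right w hQw)
  have h4 : 2 * ((w + 1) * w) < (w + 1) * (w * (w + 2)) := by nlinarith
  omega

/-- the case `M ≅ PGL₂(K')` -/
theorem pgl_case (hodd : Odd (Fintype.card F)) (h5 : 5 ≤ Fintype.card F) (p : ℕ) [Fact p.Prime]
    [CharP F p] (M : Subgroup PSL2) (hM : IsCoatom M) (K' : Type) [Field K'] [Fintype K']
    (m : ℕ) (hm : Fintype.card K' ^ m = Fintype.card F)
    (e : M ≃* Matrix.ProjGenLinGroup (Fin 2) K') : m = 2 := by
  have hpp : p.Prime := Fact.out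
  have h2 : (2 : F) ≠ 0 := Cfsg.Agent.Lib.Helper8.SL2Odd.two_ne_zero' hodd
  have hp2 := p_ne_two hodd p
  have hm0 : m ≠ 0 := by
    rintro rfl
    rw [pow_zero] at hm
    omega
  obtain ⟨f, -, hf⟩ := FiniteField.card F p
  haveI : CharP K' p := Cfsg.Agent.H9.PSL2MaxDih.charP_of_card_pow p hpp m f
    (by rw [hm, hf]) hm0
  obtain ⟨a, -, ha⟩ := FiniteField.card K' p
  have ha0 : (a : ℕ) ≠ 0 := PNat.ne_zero a
  have hKodd : Odd (Fintype.card K') := by
    rw [ha]; exact Odd.pow (hpp.odd_of_ne_two hp2)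
  have hK3 : 3 ≤ Fintype.card K' := by
    have : 1 < Fintype.card K' := Fintype.one_lt_card
    obtain ⟨r, hr⟩ := hKodd
    omega
  -- `m` is even
  have hmeven : Even m := by
    by_contra hcon
    rw [Nat.not_even_iff_odd] at hcon
    exact Cfsg.Agent.H9.SubfieldPSL2.no_PGL2_of_odd m hcon hodd hm M e
  obtain ⟨j, hj⟩ := hmeven
  have hj0 : j ≠ 0 := by
    rintro rfl
    exact hm0 hj
  obtain ⟨K2, _, _, hK2⟩ := exists_field p (a * 2) (Nat.mul_ne_zero ha0 (by norm_num))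
  have hK2' : Fintype.card K2 = Fintype.card K' ^ 2 := by rw [hK2, ha, pow_mul]
  obtain ⟨ι⟩ := Cfsg.Agent.H9.SubfieldPSL2.exists_ringHom (F := F) (K := K2) j (by omega)
    (by rw [hK2', ← pow_mul, ← hm, hj, two_mul])
  obtain ⟨s0, t0, hst⟩ := exists_nat_sq_add_sq (F := F) p
  obtain ⟨V', hV'⟩ := exists_klein (two_ne_zero_of_charP (K' := K') p hp2)
  set V'' : Subgroup (Matrix.ProjGenLinGroup (Fin 2) K') :=
    V'.map (Matrix.ProjectiveSpecialLinearGroup.toPGL (n := Fin 2) (R := K')) with hV''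
  have eV'' : V'' ≃* V' := (V'.equivMapOfInjective _
    (Matrix.ProjectiveSpecialLinearGroup.toPGL_injective (n := Fin 2) (R := K'))).symm
  obtain ⟨V, hVM, ⟨eV⟩, -, -⟩ := exists_sub_of_equiv M e V''
  haveI : IsKleinFour V := isKleinFour_of_equiv (eV.trans eV'')
  have htr : ∀ A : SL2, pr A ∈ M → A.1.trace ∈ ι.fieldRange := by
    intro A hA
    apply mem_range_of_pow ι
    rw [hK2, pow_mul, pow_two, pow_mul]
    have hpodd : Odd (p ^ (a : ℕ)) := Odd.pow (hpp.odd_of_ne_two hp2)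
    rcases trace_fix_pgl p hp2 a ha M e A hA with h | h
    · rw [h, h]
    · rw [h, hpodd.neg_pow, h, neg_neg]
  obtain ⟨φ, hφ⟩ := core hodd ι _ _ hst (natCast_mem _ s0) (natCast_mem _ t0) M V hVM htr
  by_contra hm2
  have hj2 : 2 ≤ j := by omega
  have hlt : Fintype.card K2 < Fintype.card F := by
    rw [hK2', ← hm, hj, ← two_mul, pow_mul]
    calc Fintype.card K' ^ 2 = (Fintype.card K' ^ 2) ^ 1 := (pow_one _).symm
      _ < (Fintype.card K' ^ 2) ^ j := Nat.pow_lt_pow_right (by nlinarith) (by omega)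
  have hne := G0_ne_top h2 ι hlt
  have hco := Cfsg.Agent.H9.PSL2MaxEven.coatom_map φ M hM
  have heq := eq_of_coatom_le _ (G0 ι) hco hφ hne
  have hc1 : Nat.card (M.map φ.toMonoidHom) = Nat.card M :=
    (Nat.card_congr (M.equivMapOfInjective _ φ.injective).toEquiv).symm
  have hc2 : Nat.card M = Nat.card (Matrix.ProjGenLinGroup (Fin 2) K') :=
    Nat.card_congr e.toEquiv
  have hc3 : Nat.card (Matrix.ProjGenLinGroup (Fin 2) K') =
      Fintype.card K' * (Fintype.card K' ^ 2 - 1) := by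
    rw [Cfsg.Agent.S0265.result, Cfsg.Agent.H9.SubfieldPSL2.card_SL2_all]
  have hc4 := card_G0 h2 ι
  rw [heq, hc1, hc2, hc3, hK2'] at hc4
  exact arith_pgl _ hK3 hc4

end cases

end Cfsg.Agent.H9.QCases
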