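import Mathlib
import Cfsg.Agent.H9.PSL2MaxGen2
import Cfsg.Agent.H9.PSL2MaxEven

set_option autoImplicit false

/-! Non-maximality of small dihedral subgroups: general lemmas. -/

namespace Cfsg.Agent.H9.QDih

open Subgroup
open Cfsg.Agent.H9.PSL2MaxGen

section general

variable {G : Type*} [Group G] [Finite G]

/-- a coatom contained in a proper subgroup of another order: contradiction -/
theorem overgroup_contra (M H : Subgroup G) (hM : IsCoatom M) (hH : Nat.card H ≠ Nat.card G)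
    (hdvd : Nat.card M ∣ Nat.card (M ⊓ H : Subgroup G)) (hne : Nat.card H ≠ Nat.card M) :
    False := by
  have hle : Nat.card (M ⊓ H : Subgroup G) ≤ Nat.card M := Subgroup.card_le_of_le inf_le_left
  have hge : Nat.card M ≤ Nat.card (M ⊓ H : Subgroup G) := Nat.le_of_dvd Nat.card_pos hdvd
  have heq : (M ⊓ H : Subgroup G) = M :=
    Subgroup.eq_of_le_of_card_ge inf_le_left hge
  have hMH : M ≤ H := by rw [← heq]; exact inf_le_right
  have hHtop : H ≠ ⊤ := by
    rintro rfl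
    exact hH Subgroup.card_top
  have := eq_of_coatom_le M H hM hMH hHtop
  exact hne (by rw [this])

/-- a subgroup of the right prime power order is a Sylow subgroup -/
theorem eq_sylow_of_card (M : Subgroup G) (ℓ a : ℕ) [Fact ℓ.Prime] (hM : Nat.card M = ℓ ^ a)
    (hnd : ¬ ℓ ^ (a + 1) ∣ Nat.card G) : ∃ P : Sylow ℓ G, (P : Subgroup G) = M := by
  have hℓ : ℓ.Prime := Fact.out
  have hp : IsPGroup ℓ M := IsPGroup.of_card hM
  obtain ⟨P, hP⟩ := hp.exists_le_sylow
  obtain ⟨n, hn⟩ := IsPGroup.iff_card.1 P.isPGroup'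
  have h1 : ℓ ^ a ∣ ℓ ^ n := by
    rw [← hM, ← hn]; exact Subgroup.card_dvd_of_le hP
  have h2 : a ≤ n := (Nat.pow_dvd_pow_iff_le_right hℓ.one_lt).1 h1
  have h3 : n < a + 1 := by
    by_contra hcon
    push Not at hcon
    apply hnd
    calc ℓ ^ (a + 1) ∣ ℓ ^ n := pow_dvd_pow ℓ hcon
      _ ∣ Nat.card G := by rw [← hn]; exact Subgroup.card_subgroup_dvd_card _
  have h4 : n = a := by omega
  refine ⟨P, ?_⟩
  symm
  apply Subgroup.eq_of_le_of_card_ge hP
  rw [hn, hM, h4]

/-- two subgroups of the right prime power order are conjugate -/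
theorem conj_of_card (M N : Subgroup G) (ℓ a : ℕ) [Fact ℓ.Prime] (hM : Nat.card M = ℓ ^ a)
    (hN : Nat.card N = ℓ ^ a) (hnd : ¬ ℓ ^ (a + 1) ∣ Nat.card G) :
    ∃ g : G, M.map (MulAut.conj g).toMonoidHom = N := by
  obtain ⟨P, hP⟩ := eq_sylow_of_card M ℓ a hM hnd
  obtain ⟨Q, hQ⟩ := eq_sylow_of_card N ℓ a hN hnd
  obtain ⟨g, hg⟩ := MulAction.exists_smul_eq G P Q
  refine ⟨g, ?_⟩
  have := congrArg (fun P : Sylow ℓ G => (P : Subgroup G)) hg
  simp only [Sylow.coe_subgroup_smul] at this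
  rw [← hP, ← hQ, ← this]
  rfl

/-- a maximal subgroup which is a Sylow subgroup is not properly contained in another subgroup
of order divisible by its order -/
theorem sylow_overgroup (M : Subgroup G) (hM : IsCoatom M) (ℓ a : ℕ) [Fact ℓ.Prime]
    (hMc : Nat.card M = ℓ ^ a) (hnd : ¬ ℓ ^ (a + 1) ∣ Nat.card G) (H : Subgroup G)
    (hdvd : ℓ ^ a ∣ Nat.card H) (hH : Nat.card H ≠ Nat.card G) (hne : Nat.card H ≠ ℓ ^ a) :
    False := by
  obtain ⟨D', hD'⟩ := Sylow.exists_subgroup_card_pow_prime ℓ hdvd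
  set D : Subgroup G := D'.map H.subtype with hD
  have hDc : Nat.card D = ℓ ^ a := by
    rw [hD, Subgroup.card_map_of_injective H.subtype_injective, hD']
  have hDH : D ≤ H := by
    rintro _ ⟨x, -, rfl⟩
    exact x.2
  obtain ⟨g, hg⟩ := conj_of_card D M ℓ a hDc hMc hnd
  set H' : Subgroup G := H.map (MulAut.conj g).toMonoidHom with hH'
  have hMH' : M ≤ H' := by
    rw [← hg]
    exact Subgroup.map_mono hDH
  have hH'c : Nat.card H' = Nat.card H := by
    rw [hH', Subgroup.card_map_of_injective (MulAut.conj g).injective]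
  apply overgroup_contra M H' hM (by rw [hH'c]; exact hH)
  · rw [inf_eq_left.2 hMH']
  · rw [hH'c, hMc]; exact hne

end general


section dih

variable {G : Type*} [Group G] [Finite G]

theorem mem_normalizer_zpowers (t c : G) (h : t * c * t⁻¹ = c⁻¹) :
    t ∈ normalizer ((zpowers c : Subgroup G) : Set G) := by
  rw [Subgroup.mem_normalizer_iff_map_conj_eq, MonoidHom.map_zpowers]
  show zpowers (t * c * t⁻¹) = zpowers c
  rw [h, zpowers_inv]

/-- a maximal dihedral subgroup of order `2ℓ`, with `ℓ` exactly dividing `|G|`, is not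
properly contained in a subgroup containing a dihedral subgroup of order `2ℓ` -/
theorem dihedral_overgroup [IsSimpleGroup G] (M : Subgroup G) (hM : IsCoatom M) (ℓ : ℕ)
    [Fact ℓ.Prime] (hℓ2 : ℓ ≠ 2) (e : M ≃* DihedralGroup ℓ) (hnd : ¬ ℓ ^ 2 ∣ Nat.card G)
    (H : Subgroup G) (hH : Nat.card H ≠ Nat.card G) (hH' : Nat.card H ≠ 2 * ℓ)
    (c t : G) (hc : c ∈ H) (ht : t ∈ H) (hcℓ : orderOf c = ℓ) (ht2 : orderOf t = 2)
    (hinv : t * c * t⁻¹ = c⁻¹) : False := by
  have hℓ : ℓ.Prime := Fact.out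
  haveI : NeZero ℓ := ⟨hℓ.ne_zero⟩
  have hMc : Nat.card M = 2 * ℓ := by
    rw [Nat.card_congr e.toEquiv, DihedralGroup.nat_card]
  set x : M := e.symm (DihedralGroup.r 1) with hx
  have hex : e x = DihedralGroup.r 1 := e.apply_symm_apply _
  have hox : orderOf x = ℓ := by
    rw [← MulEquiv.orderOf_eq e x, hex, DihedralGroup.orderOf_r_one]
  have hoxG : orderOf (x : G) = ℓ := by rw [← hox]; exact (Subgroup.orderOf_coe x)
  set Q : Subgroup G := zpowers (x : G) with hQ
  have hQM : Q ≤ M := by rw [hQ, zpowers_le]; exact x.2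
  have hQc : Nat.card Q = ℓ ^ 1 := by rw [hQ, Nat.card_zpowers, hoxG, pow_one]
  set C : Subgroup G := zpowers c with hC
  have hCc : Nat.card C = ℓ ^ 1 := by rw [hC, Nat.card_zpowers, hcℓ, pow_one]
  obtain ⟨g, hg⟩ := conj_of_card Q C ℓ 1 hQc hCc hnd
  set M' : Subgroup G := M.map (MulAut.conj g).toMonoidHom with hM'
  have hM'co : IsCoatom M' := Cfsg.Agent.H9.PSL2MaxEven.coatom_map (MulAut.conj g) M hM
  have hM'c : Nat.card M' = 2 * ℓ := by
    rw [hM', Subgroup.card_map_of_injective (MulAut.conj g).injective, hMc]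
  have hCM' : C ≤ M' := by
    rw [← hg]; exact Subgroup.map_mono hQM
  have hconj : ∀ m ∈ M, m * (x : G) * m⁻¹ = x ∨ m * (x : G) * m⁻¹ = (x : G)⁻¹ := by
    intro m hm
    rcases Cfsg.Agent.H9.PSL2MaxGen.dihedral_conj_r_one ℓ (e ⟨m, hm⟩) with h | h
    · left
      have : e (⟨m, hm⟩ * x * ⟨m, hm⟩⁻¹) = e x := by
        rw [map_mul, map_mul, map_inv, hex, h]
      exact congrArg Subtype.val (e.injective this)
    · right
      have : e (⟨m, hm⟩ * x * ⟨m, hm⟩⁻¹) = e x⁻¹ := by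
        rw [map_mul, map_mul, map_inv, map_inv, hex, h]
      exact congrArg Subtype.val (e.injective this)
  have hMN : M ≤ normalizer (Q : Set G) := by
    apply Cfsg.Agent.H9.PSL2MaxGen.le_normalizer_of_conj_mem
    intro m hm y hy
    obtain ⟨j, rfl⟩ := mem_zpowers_iff.1 hy
    rw [← conj_zpow]
    rcases hconj m hm with h | h
    · rw [h]; exact zpow_mem (mem_zpowers _) j
    · rw [h]; exact zpow_mem (inv_mem (mem_zpowers _)) j
  have hM'N : M' ≤ normalizer (C : Set G) := by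
    apply Cfsg.Agent.H9.PSL2MaxGen.le_normalizer_of_conj_mem
    rintro _ ⟨m, hm, rfl⟩ y hy
    rw [← hg] at hy ⊢
    obtain ⟨z, hz, rfl⟩ := hy
    refine ⟨m * z * m⁻¹, ?_, ?_⟩
    · exact (mem_normalizer_iff.1 (hMN hm) z).1 hz
    · simp only [MulEquiv.coe_toMonoidHom, map_mul, map_inv]
  have hCne : C ≠ ⊥ := by
    intro h
    rw [h, Subgroup.card_bot, pow_one] at hCc
    exact hℓ.one_lt.ne hCc
  have hN := normalizer_eq_of_coatom M' hM'co C hCne hCM' hM'N
  have htM' : t ∈ M' := by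
    rw [← hN]; exact mem_normalizer_zpowers t c hinv
  have hcM' : c ∈ M' := hCM' (mem_zpowers c)
  apply overgroup_contra M' H hM'co hH
  · rw [hM'c]
    have h2 : 2 ∣ Nat.card (M' ⊓ H : Subgroup G) := by
      have : t ∈ (M' ⊓ H : Subgroup G) := ⟨htM', ht⟩
      rw [← ht2]
      have := Subgroup.orderOf_dvd_natCard (M' ⊓ H : Subgroup G) this
      exact this
    have h3 : ℓ ∣ Nat.card (M' ⊓ H : Subgroup G) := by
      have : c ∈ (M' ⊓ H : Subgroup G) := ⟨hcM', hc⟩
      rw [← hcℓ]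
      exact Subgroup.orderOf_dvd_natCard (M' ⊓ H : Subgroup G) this
    have hcop : Nat.Coprime 2 ℓ := by
      rw [Nat.coprime_primes Nat.prime_two hℓ]
      exact fun h => hℓ2 h.symm
    exact hcop.mul_dvd_of_dvd_of_dvd h2 h3
  · rw [hM'c]; exact hH'

end dih

end Cfsg.Agent.H9.QDih
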