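import Mathlib
import Cfsg.Agent.H9.QDih
import Cfsg.Agent.H9.QSmall
import Cfsg.Agent.H9.S4inPSL2
import Cfsg.Agent.H9.A5inPSL2
import Cfsg.Agent.H9.DicksonMax2

set_option autoImplicit false

/-! Maximal dihedral subgroups of `PSL₂(q)`, `q` odd: the small exceptions. -/

namespace Cfsg.Agent.H9.QDih

open Subgroup
open Cfsg.Agent.H9.PSL2MaxGen
open Cfsg.Agent.H9.QSmall

universe u

section transport

variable {G : Type*} [Group G] [Finite G]

/-- `dihedral_overgroup` with the dihedral subgroup of the overgroup given abstractly -/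
theorem dihedral_overgroup' [IsSimpleGroup G] (M : Subgroup G) (hM : IsCoatom M) (ℓ : ℕ)
    [Fact ℓ.Prime] (hℓ2 : ℓ ≠ 2) (e : M ≃* DihedralGroup ℓ) (hnd : ¬ ℓ ^ 2 ∣ Nat.card G)
    (H : Subgroup G) {X : Type*} [Group X] (eH : H ≃* X) (hH : Nat.card X ≠ Nat.card G)
    (hH' : Nat.card X ≠ 2 * ℓ) (c t : X) (hcℓ : orderOf c = ℓ) (ht2 : orderOf t = 2)
    (hinv : t * c * t⁻¹ = c⁻¹) : False := by
  have hcard : Nat.card H = Nat.card X := Nat.card_congr eH.toEquiv
  apply dihedral_overgroup M hM ℓ hℓ2 e hnd H (by rw [hcard]; exact hH)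
    (by rw [hcard]; exact hH') (eH.symm c : G) (eH.symm t : G) (eH.symm c).2 (eH.symm t).2
  · rw [Subgroup.orderOf_coe, MulEquiv.orderOf_eq, hcℓ]
  · rw [Subgroup.orderOf_coe, MulEquiv.orderOf_eq, ht2]
  · have := congrArg (fun y : H => (y : G)) (congrArg eH.symm hinv)
    simpa using this

end transport

section psl

variable {F : Type u} [Field F] [Fintype F]

local notation "SL2" => Matrix.SpecialLinearGroup (Fin 2) F
local notation "PSL2" => Matrix.ProjectiveSpecialLinearGroup (Fin 2) F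

theorem card_PSL2_odd (hodd : Odd (Fintype.card F)) :
    2 * Nat.card PSL2 = Fintype.card F * (Fintype.card F ^ 2 - 1) := by
  have h3 := Cfsg.Agent.H9.DicksonMax.card_PSL2_mul F
  have hg : Nat.gcd 2 (Fintype.card F - 1) = 2 := by
    obtain ⟨r, hr⟩ := hodd
    have : Fintype.card F - 1 = 2 * r := by omega
    rw [this, Nat.gcd_mul_right_right]
  rw [hg] at h3
  omega

theorem exists_S4_of_mod (hodd : Odd (Fintype.card F))
    (hmod : Fintype.card F % 8 = 1 ∨ Fintype.card F % 8 = 7) :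
    ∃ H : Subgroup PSL2, Nonempty (H ≃* Equiv.Perm (Fin 4)) := by
  have h2 : (2 : F) ≠ 0 := Cfsg.Agent.Lib.Helper8.SL2Odd.two_ne_zero' hodd
  obtain ⟨r, hr⟩ : IsSquare (2 : F) := by
    rw [FiniteField.isSquare_two_iff]
    omega
  exact Cfsg.Agent.H9.S4inPSL2.exists_S4 h2 r hr.symm

/-- the dihedral case -/
theorem dih_case (hodd : Odd (Fintype.card F)) (h5 : 5 ≤ Fintype.card F) (p : ℕ) [Fact p.Prime]
    [CharP F p] (M : Subgroup PSL2) (hM : IsCoatom M) (k : ℕ)
    (hk : k ∣ (Fintype.card F + 1) / Nat.gcd 2 (Fintype.card F - 1) ∨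
      k ∣ (Fintype.card F - 1) / Nat.gcd 2 (Fintype.card F - 1))
    (e : M ≃* DihedralGroup k) :
    (13 ≤ Fintype.card F ∧ 2 * k = Fintype.card F - 1) ∨
      (Fintype.card F ≠ 7 ∧ Fintype.card F ≠ 9 ∧ 2 * k = Fintype.card F + 1) := by
  have hsimple := Cfsg.Agent.H9.PSL2MinSimple.isSimple (F := F) (by omega)
  have hcardG := card_PSL2_odd hodd
  have hg : Nat.gcd 2 (Fintype.card F - 1) = 2 := by
    obtain ⟨r, hr⟩ := hodd
    have : Fintype.card F - 1 = 2 * r := by omega
    rw [this, Nat.gcd_mul_right_right]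
  have hmax := dihedral_max p (by omega) M hM k hk e
  rw [hg] at hmax
  have hMc : ∀ k' : ℕ, k' ≠ 0 → k = k' → Nat.card M = 2 * k' := by
    intro k' hk' h
    subst h
    haveI : NeZero k := ⟨hk'⟩
    rw [Nat.card_congr e.toEquiv, DihedralGroup.nat_card]
  haveI : Fact (Nat.Prime 2) := ⟨Nat.prime_two⟩
  haveI : Fact (Nat.Prime 3) := ⟨Nat.prime_three⟩
  haveI : Fact (Nat.Prime 5) := ⟨by norm_num⟩
  -- the overgroups
  have hS4 : Fintype.card F = 7 ∨ Fintype.card F = 9 → k = 4 → False := by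
    intro hq hk4
    obtain ⟨H, ⟨eH⟩⟩ := exists_S4_of_mod hodd (by omega)
    have hHc : Nat.card H = 24 := by rw [Nat.card_congr eH.toEquiv, card_S4]
    have hM8 := hMc 4 (by norm_num) hk4
    have hG : Nat.card PSL2 = 168 ∨ Nat.card PSL2 = 360 := by
      rcases hq with h | h <;> rw [h] at hcardG <;> norm_num at hcardG <;> omega
    apply sylow_overgroup M hM 2 3 (by rw [hM8]; norm_num) _ H (by rw [hHc]; norm_num)
      (by rw [hHc]; omega) (by rw [hHc]; norm_num)
    rcases hG with h | h <;> rw [h] <;> norm_num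
  have hS3 : Fintype.card F = 7 → k = 3 → False := by
    intro hq hk3
    obtain ⟨H, ⟨eH⟩⟩ := exists_S4_of_mod hodd (by omega)
    obtain ⟨c, t, hc, ht, hct⟩ := s4_data
    have hG : Nat.card PSL2 = 168 := by
      rw [hq] at hcardG; norm_num at hcardG; omega
    subst hk3
    exact dihedral_overgroup' M hM 3 (by norm_num) e (by rw [hG]; norm_num) H eH
      (by rw [card_S4, hG]; norm_num) (by rw [card_S4]; norm_num) c t hc ht hct
  have hA5 : Fintype.card F = 9 ∨ Fintype.card F = 11 → k = 5 → False := by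
    intro hq hk5
    obtain ⟨H, ⟨eH⟩⟩ := Cfsg.Agent.H9.A5inPSL2.exists_A5_odd hodd (by
      rcases hq with h | h <;> rw [h] <;> norm_num)
    obtain ⟨c, t, hc, ht, hct⟩ := a5_data
    have hG : Nat.card PSL2 = 360 ∨ Nat.card PSL2 = 660 := by
      rcases hq with h | h <;> rw [h] at hcardG <;> norm_num at hcardG <;> omega
    subst hk5
    refine dihedral_overgroup' M hM 5 (by norm_num) e ?_ H eH
      ?_ (by rw [card_A5]; norm_num) c t hc ht hct
    · rcases hG with h | h <;> rw [h] <;> norm_num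
    · rcases hG with h | h <;> rw [h, card_A5] <;> norm_num
  obtain ⟨r, hr⟩ := hodd
  rcases hmax with h | h
  · right
    have h2k : 2 * k = Fintype.card F + 1 := by
      rw [h]; omega
    refine ⟨?_, ?_, h2k⟩
    · intro h7
      exact hS4 (Or.inl h7) (by omega)
    · intro h9
      exact hA5 (Or.inl h9) (by omega)
  · left
    have h2k : 2 * k = Fintype.card F - 1 := by
      rw [h]; omega
    refine ⟨?_, h2k⟩
    by_contra hlt
    have hcases : Fintype.card F = 5 ∨ Fintype.card F = 7 ∨ Fintype.card F = 9 ∨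
        Fintype.card F = 11 := by omega
    rcases hcases with h' | h' | h' | h'
    · -- abelian
      have hk2 : k = 2 := by omega
      subst hk2
      apply no_abelian_maximal hna M hM
      intro a ha b hb
      have h1 := dihedral_abelian 2 (by omega) (by omega) (e ⟨a, ha⟩) (e ⟨b, hb⟩)
      have := e.injective (by rw [map_mul, map_mul]; exact h1 :
        e (⟨a, ha⟩ * ⟨b, hb⟩) = e (⟨b, hb⟩ * ⟨a, ha⟩))
      exact congrArg Subtype.val this
    · exact hS3 h' (by omega)
    · exact hS4 (Or.inr h') (by omega)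
    · exact hA5 (Or.inr h') (by omega)

end psl

end Cfsg.Agent.H9.QDih
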