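import Mathlib
import Cfsg.Agent.H9.QCases
import Cfsg.Agent.H9.QDih2
import Cfsg.Agent.H9.KleinClasses

set_option autoImplicit false

/-! Maximal subgroups of `PSL₂(q)`, `q` odd: the cases `A₄`, `S₄`, `A₅`. -/

namespace Cfsg.Agent.H9.QCases

open Matrix Subgroup
open Cfsg.Agent.H9.AutPSL2
open Cfsg.Agent.H9.KleinPSL2
open Cfsg.Agent.H9.KleinGeneral
open Cfsg.Agent.H9.QStd
open Cfsg.Agent.H9.QSub
open Cfsg.Agent.H9.QTrace
open Cfsg.Agent.H9.QNorm
open Cfsg.Agent.H9.QSmall
open Cfsg.Agent.H9.QDih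
open Cfsg.Agent.H9.PSL2MaxGen

universe u v

section arith

theorem mod8_of_dvd (q : ℕ) (hodd : Odd q) (h : 48 ∣ q * (q ^ 2 - 1)) :
    q % 8 = 1 ∨ q % 8 = 7 := by
  have h16 : 16 ∣ q * (q ^ 2 - 1) := dvd_trans (by norm_num) h
  have hcop : Nat.Coprime 16 q := by
    have : Nat.Coprime 2 q := Nat.coprime_two_left.2 hodd
    exact Nat.Coprime.pow_left 4 this
  have h1 : 16 ∣ q ^ 2 - 1 := hcop.dvd_of_dvd_mul_left h16
  have hq1 : 1 ≤ q ^ 2 := Nat.one_le_pow _ _ (by obtain ⟨r, hr⟩ := hodd; omega)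
  have h2 : q ^ 2 % 16 = 1 := by omega
  rw [Nat.pow_mod] at h2
  obtain ⟨r, hr⟩ : ∃ r, r = q % 16 := ⟨_, rfl⟩
  rw [← hr] at h2
  have hr16 : r < 16 := by omega
  have h8 : q % 8 = r % 8 := by omega
  rw [h8]
  clear h h16 hcop h1 hq1 h8 hr hodd
  interval_cases r <;> first | (norm_num; done) | (exfalso; revert h2; norm_num; done)

theorem mod10_of_dvd (q : ℕ) (hodd : Odd q) (h5 : ¬ 5 ∣ q) (h : 5 ∣ q * (q ^ 2 - 1)) :
    q % 10 = 1 ∨ q % 10 = 9 := by
  have hcop : Nat.Coprime 5 q := (Nat.Prime.coprime_iff_not_dvd (by norm_num)).2 h5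
  have h1 : 5 ∣ q ^ 2 - 1 := hcop.dvd_of_dvd_mul_left h
  have hq1 : 1 ≤ q ^ 2 := Nat.one_le_pow _ _ (by obtain ⟨r, hr⟩ := hodd; omega)
  have h2 : q ^ 2 % 5 = 1 := by omega
  rw [Nat.pow_mod] at h2
  obtain ⟨r, hr⟩ : ∃ r, r = q % 5 := ⟨_, rfl⟩
  rw [← hr] at h2
  have hr5 : r < 5 := by omega
  obtain ⟨s, hs⟩ := hodd
  have : r = 1 ∨ r = 4 := by
    clear h h5 hcop h1 hq1 hr hs
    interval_cases r <;> first | (norm_num; done) | (exfalso; revert h2; norm_num; done)
  omega

theorem pow3_mod8 (f : ℕ) (hf : Odd f) : 3 ^ f % 8 = 3 := by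
  obtain ⟨k, rfl⟩ := hf
  rw [pow_succ, pow_mul, Nat.mul_mod, Nat.pow_mod]
  norm_num

end arith

section cases

variable {F : Type u} [Field F] [Fintype F]

local notation "SL2" => Matrix.SpecialLinearGroup (Fin 2) F
local notation "PSL2" => Matrix.ProjectiveSpecialLinearGroup (Fin 2) F

/-- a maximal subgroup normalizing a Klein four subgroup contains, up to an automorphism,
the proper subfield subgroups -/
theorem klein_normal (hodd : Odd (Fintype.card F)) (h5 : 5 ≤ Fintype.card F) (p : ℕ)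
    [Fact p.Prime] [CharP F p] (M : Subgroup PSL2) (hM : IsCoatom M) (V : Subgroup PSL2)
    [hV : IsKleinFour V] (hVM : V ≤ M) (hn : ∀ m ∈ M, ∀ v ∈ V, m * v * m⁻¹ ∈ V) :
    ∃ φ : MulAut PSL2, ∀ (K : Type) [Field K] [Fintype K] (ι : K →+* F),
      Fintype.card K < Fintype.card F →
        (normalizer ((G0 ι : Subgroup PSL2) : Set PSL2) = M.map φ.toMonoidHom ∧
          G0 ι ≤ M.map φ.toMonoidHom) := by
  have h2 : (2 : F) ≠ 0 := Cfsg.Agent.Lib.Helper8.SL2Odd.two_ne_zero' hodd
  have hsimple := Cfsg.Agent.H9.PSL2MinSimple.isSimple (F := F) (by omega)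
  obtain ⟨s0, t0, hst⟩ := exists_nat_sq_add_sq (F := F) p
  obtain ⟨e0, -, hV0, -⟩ := exists_std_aut hodd V _ _ hst
  refine ⟨lift e0, ?_⟩
  intro K _ _ ι hlt
  set M' : Subgroup PSL2 := M.map (lift e0).toMonoidHom with hM'
  have hco : IsCoatom M' := Cfsg.Agent.H9.PSL2MaxEven.coatom_map (lift e0) M hM
  have hM'N : M' ≤ normalizer ((V0 (s0 : F) (t0 : F) hst : Subgroup PSL2) : Set PSL2) := by
    apply le_normalizer_of_conj_mem
    rintro _ ⟨m, hm, rfl⟩ y hy
    rw [← hV0] at hy ⊢
    obtain ⟨z, hz, rfl⟩ := hy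
    refine ⟨m * z * m⁻¹, hn m hm z hz, ?_⟩
    simp only [MulEquiv.coe_toMonoidHom, map_mul, map_inv]
  have hle : M' ≤ normalizer ((G0 ι : Subgroup PSL2) : Set PSL2) :=
    hM'N.trans (normalizer_V0_le h2 ι _ _ hst (natCast_mem _ s0) (natCast_mem _ t0))
  have hne := G0_ne_top h2 ι hlt
  have hbot : G0 ι ≠ ⊥ := by
    intro h
    have h1 := card_G0 h2 ι
    rw [h, Subgroup.card_bot] at h1
    have hK1 : 1 < Fintype.card K := Fintype.one_lt_card
    have : 2 ^ 2 ≤ Fintype.card K ^ 2 := Nat.pow_le_pow_left hK1 2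
    have h6 : 2 * 3 ≤ Fintype.card K * (Fintype.card K ^ 2 - 1) :=
      Nat.mul_le_mul hK1 (by omega)
    omega
  have hNne : normalizer ((G0 ι : Subgroup PSL2) : Set PSL2) ≠ ⊤ := by
    intro htop
    have hnorm : (G0 ι).Normal := normalizer_eq_top_iff.1 htop
    rcases hnorm.eq_bot_or_eq_top with h | h
    · exact hbot h
    · exact hne h
  have heq := eq_of_coatom_le M' _ hco hle hNne
  exact ⟨heq, by rw [← heq]; exact le_normalizer⟩

/-- `A₄` is not maximal when there is an `A₅` and Klein four subgroups are conjugate -/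
theorem a4_in_a5 (hodd : Odd (Fintype.card F)) (h5 : 5 ≤ Fintype.card F)
    (hmod : Fintype.card F % 8 = 3 ∨ Fintype.card F % 8 = 5) (M : Subgroup PSL2)
    (hM : IsCoatom M) (hMc : Nat.card M = 12) (V : Subgroup PSL2) [hV : IsKleinFour V]
    (hVM : V ≤ M) (hn : ∀ m ∈ M, ∀ v ∈ V, m * v * m⁻¹ ∈ V) (H : Subgroup PSL2)
    (eH : H ≃* alternatingGroup (Fin 5)) (hG : Nat.card PSL2 ≠ 60) : False := by
  have hsimple := Cfsg.Agent.H9.PSL2MinSimple.isSimple (F := F) (by omega)
  obtain ⟨a, b, c, haa, hbb, hab, ha1, hb1, hne, hc3, hca, hcb⟩ := a5_klein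
  have tr : ∀ {x y : alternatingGroup (Fin 5)}, x = y → ((eH.symm x : H) : PSL2) = eH.symm y :=
    fun h => by rw [h]
  set a' : PSL2 := ((eH.symm a : H) : PSL2) with ha'
  set b' : PSL2 := ((eH.symm b : H) : PSL2) with hb'
  set c' : PSL2 := ((eH.symm c : H) : PSL2) with hc'
  have haa' : a' * a' = 1 := by
    have := tr haa
    simpa using this
  have hbb' : b' * b' = 1 := by
    have := tr hbb
    simpa using this
  have hab' : a' * b' = b' * a' := by
    have := tr hab
    simpa using this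
  have ha1' : a' ≠ 1 := by
    intro h
    apply ha1
    have : (eH.symm a : H) = 1 := Subtype.ext h
    simpa using this
  have hb1' : b' ≠ 1 := by
    intro h
    apply hb1
    have : (eH.symm b : H) = 1 := Subtype.ext h
    simpa using this
  have hne' : a' ≠ b' := by
    intro h
    apply hne
    have : (eH.symm a : H) = eH.symm b := Subtype.ext h
    simpa using this
  have hca' : c' * a' * c'⁻¹ = a' * b' := by
    have := tr hca
    simpa using this
  have hcb' : c' * b' * c'⁻¹ = a' := by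
    have := tr hcb
    simpa using this
  have hc3' : orderOf c' = 3 := by
    rw [hc', Subgroup.orderOf_coe, MulEquiv.orderOf_eq, hc3]
  set V' : Subgroup PSL2 := Subgroup.closure ({a', b'} : Set PSL2) with hV'
  haveI hV'k : IsKleinFour V' := isKleinFour_closure_pair a' b' haa' hbb' hab' ha1' hb1' hne'
  have haV' : a' ∈ V' := Subgroup.subset_closure (by simp)
  have hbV' : b' ∈ V' := Subgroup.subset_closure (by simp)
  have hV'H : V' ≤ H := by
    rw [hV', Subgroup.closure_le]
    rintro x (rfl | rfl)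
    · exact (eH.symm a).2
    · exact (eH.symm b).2
  have hc'N : c' ∈ normalizer ((V' : Subgroup PSL2) : Set PSL2) := by
    apply Cfsg.Agent.H9.KleinNorm.mem_normalizer_of_gens
    · rw [hca']; exact mul_mem haV' hbV'
    · rw [hcb']; exact haV'
  obtain ⟨g, hg⟩ := Cfsg.Agent.H9.KleinClasses.sylow_case hodd hmod V V'
  set M' : Subgroup PSL2 := M.map (MulAut.conj g).toMonoidHom with hM'
  have hM'co : IsCoatom M' := Cfsg.Agent.H9.PSL2MaxEven.coatom_map (MulAut.conj g) M hM
  have hM'c : Nat.card M' = 12 := by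
    rw [hM', Subgroup.card_map_of_injective (MulAut.conj g).injective, hMc]
  have hV'M' : V' ≤ M' := by
    rw [hg]; exact Subgroup.map_mono hVM
  have hM'N : M' ≤ normalizer ((V' : Subgroup PSL2) : Set PSL2) := by
    apply le_normalizer_of_conj_mem
    rintro _ ⟨m, hm, rfl⟩ y hy
    rw [hg] at hy ⊢
    obtain ⟨z, hz, rfl⟩ := hy
    refine ⟨m * z * m⁻¹, hn m hm z hz, ?_⟩
    simp only [MulEquiv.coe_toMonoidHom, map_mul, map_inv]
  have hV'ne : V' ≠ ⊥ := by
    intro h
    have := hV'k.card_four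
    rw [h, Subgroup.card_bot] at this
    omega
  have hN := normalizer_eq_of_coatom M' hM'co V' hV'ne hV'M' hM'N
  have hc'M' : c' ∈ M' := by rw [← hN]; exact hc'N
  have hHc : Nat.card H = 60 := by rw [Nat.card_congr eH.toEquiv, card_A5]
  apply overgroup_contra M' H hM'co (by rw [hHc]; exact fun h => hG h.symm)
  · rw [hM'c]
    have h4 : 4 ∣ Nat.card (M' ⊓ H : Subgroup PSL2) := by
      rw [← hV'k.card_four]
      exact Subgroup.card_dvd_of_le (le_inf hV'M' hV'H)
    have h3 : 3 ∣ Nat.card (M' ⊓ H : Subgroup PSL2) := by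
      have : c' ∈ (M' ⊓ H : Subgroup PSL2) := ⟨hc'M', (eH.symm c).2⟩
      rw [← hc3']
      exact Subgroup.orderOf_dvd_natCard _ this
    exact (by norm_num : Nat.Coprime 4 3).mul_dvd_of_dvd_of_dvd h4 h3
  · rw [hHc, hM'c]; norm_num

end cases


section cases2

variable {F : Type u} [Field F] [Fintype F]

local notation "SL2" => Matrix.SpecialLinearGroup (Fin 2) F
local notation "PSL2" => Matrix.ProjectiveSpecialLinearGroup (Fin 2) F

theorem card_lt_of_ne_one (p : ℕ) [Fact p.Prime] (f : ℕ+) (hf : Fintype.card F = p ^ (f : ℕ))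
    (hf1 : (f : ℕ) ≠ 1) : Fintype.card (ZMod p) < Fintype.card F := by
  rw [ZMod.card, hf]
  have hp : 1 < p := (Fact.out : p.Prime).one_lt
  have : 1 < (f : ℕ) := by
    have := f.pos
    omega
  calc p = p ^ 1 := (pow_one p).symm
    _ < p ^ (f : ℕ) := Nat.pow_lt_pow_right hp this

theorem odd_mod8 (q : ℕ) (hodd : Odd q) : q % 8 = 1 ∨ q % 8 = 3 ∨ q % 8 = 5 ∨ q % 8 = 7 := by
  obtain ⟨r, hr⟩ := hodd
  omega

/-- the case `M ≅ A₄` -/
theorem a4_case (hodd : Odd (Fintype.card F)) (h5 : 5 ≤ Fintype.card F) (p : ℕ) [Fact p.Prime]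
    [CharP F p] (M : Subgroup PSL2) (hM : IsCoatom M) (e : M ≃* alternatingGroup (Fin 4)) :
    (Fintype.card F = p ∧ (p % 8 = 3 ∨ p % 8 = 5) ∧ ¬ (p % 10 = 1 ∨ p % 10 = 9)) ∨
    (∃ (F₀ : Type) (_ : Field F₀) (_ : Fintype F₀) (r : ℕ), r.Prime ∧ Odd r ∧
      Fintype.card F = Fintype.card F₀ ^ r ∧
      Nonempty (M ≃* Matrix.ProjectiveSpecialLinearGroup (Fin 2) F₀)) := by
  have hpp : p.Prime := Fact.out
  have h2 : (2 : F) ≠ 0 := Cfsg.Agent.Lib.Helper8.SL2Odd.two_ne_zero' hodd
  have hp2 := p_ne_two hodd p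
  have hsimple := Cfsg.Agent.H9.PSL2MinSimple.isSimple (F := F) (by omega)
  have h4 : Nat.card (Fin 4) = 4 := by simp
  haveI hnK := alternatingGroup.normal_kleinFour h4
  haveI hK4 := alternatingGroup.kleinFour_isKleinFour h4
  obtain ⟨V, hVM, ⟨eV⟩, hnV, -⟩ := exists_sub_of_equiv M e (alternatingGroup.kleinFour (Fin 4))
  haveI hVk : IsKleinFour V := isKleinFour_of_equiv eV
  have hn := hnV hnK
  have hMc : Nat.card M = 12 := by rw [Nat.card_congr e.toEquiv, card_A4]
  have hVne : V ≠ ⊥ := by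
    intro h
    have := hVk.card_four
    rw [h, Subgroup.card_bot] at this
    omega
  have hN := normalizer_eq_of_coatom M hM V hVne hVM (le_normalizer_of_conj_mem M V hn)
  have hmod : Fintype.card F % 8 = 3 ∨ Fintype.card F % 8 = 5 := by
    by_contra hcon
    obtain ⟨r, hr⟩ : IsSquare (2 : F) := by
      rw [FiniteField.isSquare_two_iff]
      omega
    have := Cfsg.Agent.H9.KleinNorm.card_normalizer_of_sq h2 r hr.symm V
    rw [hN, hMc] at this
    omega
  obtain ⟨φ, hφ⟩ := klein_normal hodd h5 p M hM V hVM hn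
  obtain ⟨f, -, hf⟩ := FiniteField.card F p
  set ι1 : ZMod p →+* F := ZMod.castHom (dvd_refl p) F with hι1
  have hcard1 : Fintype.card (ZMod p) = p := ZMod.card p
  have hcardG := card_PSL2_odd hodd
  by_cases hf1 : (f : ℕ) = 1
  · left
    have hqp : Fintype.card F = p := by rw [hf, hf1, pow_one]
    refine ⟨hqp, by rw [← hqp]; exact hmod, ?_⟩
    intro h10
    have h5dvd : 5 ∣ Fintype.card F * (Fintype.card F ^ 2 - 1) := by
      rw [hqp]
      apply Dvd.dvd.mul_left
      have h1 : p ^ 2 % 5 = 1 := by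
        rw [Nat.pow_mod]
        have : p % 5 = 1 ∨ p % 5 = 4 := by omega
        rcases this with h | h <;> rw [h]
      have : 1 ≤ p ^ 2 := Nat.one_le_pow _ _ hpp.pos
      omega
    obtain ⟨H, ⟨eH⟩⟩ := Cfsg.Agent.H9.A5inPSL2.exists_A5_odd hodd h5dvd
    apply a4_in_a5 hodd h5 hmod M hM hMc V hVM hn H eH
    intro h60
    rw [h60, hqp] at hcardG
    -- `p (p² - 1) = 120` forces `p = 5`, but `p ≡ ±1 mod 10`
    have hp5 : p ≤ 5 := by
      by_contra hcon
      have h6 : 6 ≤ p := by omega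
      have : 6 * 35 ≤ p * (p ^ 2 - 1) := by
        apply Nat.mul_le_mul h6
        have : 6 ^ 2 ≤ p ^ 2 := Nat.pow_le_pow_left h6 2
        omega
      omega
    omega
  · right
    have hlt := card_lt_of_ne_one (F := F) p f hf hf1
    obtain ⟨hNG, hG0⟩ := hφ (ZMod p) ι1 hlt
    have hc := card_G0 h2 ι1
    rw [hcard1] at hc
    have hM'c : Nat.card (M.map φ.toMonoidHom) = 12 := by
      rw [Subgroup.card_map_of_injective φ.injective, hMc]
    have hdvd : Nat.card (G0 ι1) ∣ 12 := by
      rw [← hM'c]; exact Subgroup.card_dvd_of_le hG0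
    have hp3 : p = 3 := by
      by_contra hcon
      have h5p : 5 ≤ p := by
        have := hpp.two_le
        by_contra h
        have : p = 4 := by omega
        rw [this] at hpp
        exact absurd hpp (by norm_num)
      have : 5 * 24 ≤ p * (p ^ 2 - 1) := by
        apply Nat.mul_le_mul h5p
        have : 5 ^ 2 ≤ p ^ 2 := Nat.pow_le_pow_left h5p 2
        omega
      have := Nat.le_of_dvd (by norm_num) hdvd
      omega
    have h24 : p * (p ^ 2 - 1) = 24 := by rw [hp3]; norm_num
    have hG0c : Nat.card (G0 ι1) = 12 := by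
      rw [h24] at hc
      omega
    have heq : G0 ι1 = M.map φ.toMonoidHom :=
      Subgroup.eq_of_le_of_card_ge hG0 (by rw [hM'c, hG0c])
    have hco : IsCoatom (G0 ι1) := by
      rw [heq]; exact Cfsg.Agent.H9.PSL2MaxEven.coatom_map φ M hM
    obtain ⟨hfp, hfo⟩ := prime_of_coatom hodd (by omega) ι1 f (by rw [hcard1, hf]) hco
    obtain ⟨e0⟩ := G0_equiv h2 ι1
    exact ⟨ZMod p, inferInstance, inferInstance, f, hfp, hfo, by rw [hcard1, hf],
      ⟨(M.equivMapOfInjective _ φ.injective).trans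
        ((MulEquiv.subgroupCongr heq.symm).trans e0)⟩⟩

/-- the case `M ≅ S₄` -/
theorem s4_case (hodd : Odd (Fintype.card F)) (h5 : 5 ≤ Fintype.card F) (p : ℕ) [Fact p.Prime]
    [CharP F p] (M : Subgroup PSL2) (hM : IsCoatom M) (e : M ≃* Equiv.Perm (Fin 4)) :
    (Fintype.card F = p ∧ (p % 8 = 1 ∨ p % 8 = 7)) ∨
    (∃ (F₀ : Type) (_ : Field F₀) (_ : Fintype F₀), Fintype.card F = Fintype.card F₀ ^ 2 ∧
      Nonempty (M ≃* Matrix.ProjGenLinGroup (Fin 2) F₀)) := by
  have hpp : p.Prime := Fact.out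
  have h2 : (2 : F) ≠ 0 := Cfsg.Agent.Lib.Helper8.SL2Odd.two_ne_zero' hodd
  have hp2 := p_ne_two hodd p
  have hsimple := Cfsg.Agent.H9.PSL2MinSimple.isSimple (F := F) (by omega)
  have h4 : Nat.card (Fin 4) = 4 := by simp
  haveI := alternatingGroup.characteristic_kleinFour h4
  have hK4 := alternatingGroup.kleinFour_isKleinFour h4
  set N : Subgroup (Equiv.Perm (Fin 4)) :=
    (alternatingGroup.kleinFour (Fin 4)).map (alternatingGroup (Fin 4)).subtype with hN
  haveI hNn : N.Normal := ConjAct.normal_of_characteristic_of_normal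
  have eN : N ≃* alternatingGroup.kleinFour (Fin 4) :=
    ((alternatingGroup.kleinFour (Fin 4)).equivMapOfInjective _
      (Subgroup.subtype_injective _)).symm
  obtain ⟨V, hVM, ⟨eV⟩, hnV, -⟩ := exists_sub_of_equiv M e N
  haveI hVk : IsKleinFour V := isKleinFour_of_equiv (eV.trans eN)
  have hn := hnV hNn
  have hMc : Nat.card M = 24 := by rw [Nat.card_congr e.toEquiv, card_S4]
  have hcardG := card_PSL2_odd hodd
  have hmod : Fintype.card F % 8 = 1 ∨ Fintype.card F % 8 = 7 := by
    apply mod8_of_dvd _ hodd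
    rw [← hcardG]
    have : 24 ∣ Nat.card PSL2 := by rw [← hMc]; exact Subgroup.card_subgroup_dvd_card M
    obtain ⟨c, hc⟩ := this
    exact ⟨c, by rw [hc]; ring⟩
  obtain ⟨φ, hφ⟩ := klein_normal hodd h5 p M hM V hVM hn
  obtain ⟨f, -, hf⟩ := FiniteField.card F p
  set ι1 : ZMod p →+* F := ZMod.castHom (dvd_refl p) F with hι1
  have hcard1 : Fintype.card (ZMod p) = p := ZMod.card p
  by_cases hf1 : (f : ℕ) = 1
  · left
    have hqp : Fintype.card F = p := by rw [hf, hf1, pow_one]
    exact ⟨hqp, by rw [← hqp]; exact hmod⟩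
  · right
    have hlt := card_lt_of_ne_one (F := F) p f hf hf1
    obtain ⟨hNG, hG0⟩ := hφ (ZMod p) ι1 hlt
    have hc := card_G0 h2 ι1
    rw [hcard1] at hc
    have hM'c : Nat.card (M.map φ.toMonoidHom) = 24 := by
      rw [Subgroup.card_map_of_injective φ.injective, hMc]
    have hdvd : Nat.card (G0 ι1) ∣ 24 := by
      rw [← hM'c]; exact Subgroup.card_dvd_of_le hG0
    have hp3 : p = 3 := by
      by_contra hcon
      have h5p : 5 ≤ p := by
        have := hpp.two_le
        by_contra h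
        have : p = 4 := by omega
        rw [this] at hpp
        exact absurd hpp (by norm_num)
      have : 5 * 24 ≤ p * (p ^ 2 - 1) := by
        apply Nat.mul_le_mul h5p
        have : 5 ^ 2 ≤ p ^ 2 := Nat.pow_le_pow_left h5p 2
        omega
      have := Nat.le_of_dvd (by norm_num) hdvd
      omega
    -- `f` is even
    have hfeven : Even (f : ℕ) := by
      by_contra hcon
      rw [Nat.not_even_iff_odd] at hcon
      have := pow3_mod8 f hcon
      rw [← hp3, ← hf] at this
      omega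
    obtain ⟨j, hj⟩ := hfeven
    have hj0 : j ≠ 0 := by
      rintro rfl
      have := f.pos
      omega
    obtain ⟨K9, _, _, hK9⟩ := exists_field p 2 (by norm_num)
    obtain ⟨ι9⟩ := Cfsg.Agent.H9.SubfieldPSL2.exists_ringHom (F := F) (K := K9) j (by omega)
      (by rw [hK9, ← pow_mul, hf, hj, two_mul])
    have hj1 : j = 1 := by
      by_contra hcon
      have hlt9 : Fintype.card K9 < Fintype.card F := by
        rw [hK9, hf, hj]
        exact Nat.pow_lt_pow_right hpp.one_lt (by omega)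
      obtain ⟨-, hG9⟩ := hφ K9 ι9 hlt9
      have hc9 := card_G0 h2 ι9
      rw [hK9, hp3] at hc9
      norm_num at hc9
      have := Subgroup.card_le_of_le hG9
      rw [hM'c] at this
      omega
    have hqp2 : Fintype.card F = p ^ 2 := by rw [hf, hj, hj1]
    -- the isomorphism with `PGL₂(3)`
    set M' : Subgroup PSL2 := M.map φ.toMonoidHom with hM'
    set G : Subgroup SL2 := M'.comap (pr : SL2 →* PSL2) with hG
    have hGmap : G.map (pr : SL2 →* PSL2) = M' :=
      Subgroup.map_comap_eq_self_of_surjective pr_surjective M'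
    have hiso := Cfsg.Agent.H9.DicksonIso.iso_PGL2 ι1 1 G
      (by
        intro z hz
        show pr z ∈ M'
        have : (pr : SL2 →* PSL2) z = 1 := by
          rcases (mem_center_iff' z).1 hz with rfl | rfl
          · exact map_one _
          · rw [← map_one (pr : SL2 →* PSL2), pr_eq_iff]; right; rfl
        rw [this]; exact one_mem _)
      (by
        intro m
        show pr (Cfsg.Agent.H9.DicksonIso.psi ι1 1 m) ∈ M'
        apply hG0
        rw [mem_G0_iff]
        exact ⟨m, rfl⟩)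
      (by
        intro k hk
        obtain ⟨σ0, hσ0⟩ := Cfsg.Agent.H9.SubfieldPSL2.isSquare_of_even ι1 2 even_two hodd
          (by rw [hcard1, hqp2]) k hk
        have hσ00 : σ0 ≠ 0 := by
          rintro rfl
          rw [mul_zero] at hσ0
          exact hk (ι1.injective (by rw [hσ0, map_zero]))
        refine ⟨Units.mk0 σ0 hσ00, by rw [Units.val_mk0, hσ0, pow_two], ?_⟩
        show pr _ ∈ M'
        rw [← hNG]
        apply pr_dg_mem_normalizer
        exact ⟨k, by rw [Units.val_mk0, hσ0, pow_two]⟩)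
      (by
        have h24 : p * (p ^ 2 - 1) = 24 := by rw [hp3]; norm_num
        rw [hGmap, hM'c, Cfsg.Agent.H9.SubfieldPSL2.card_SL2_all, hcard1, h24])
    obtain ⟨e1⟩ := hiso
    exact ⟨ZMod p, inferInstance, inferInstance, by rw [hcard1, hqp2],
      ⟨(M.equivMapOfInjective _ φ.injective).trans
        ((MulEquiv.subgroupCongr hGmap.symm).trans e1)⟩⟩

end cases2


section a5

variable {F : Type u} [Field F] [Fintype F]

local notation "SL2" => Matrix.SpecialLinearGroup (Fin 2) F
local notation "PSL2" => Matrix.ProjectiveSpecialLinearGroup (Fin 2) F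

omit [Fintype F] in
/-- roots of `x² + x - 1` are fixed by the square of the Frobenius map -/
theorem root_fix (p : ℕ) [Fact p.Prime] [CharP F p] (hp2 : p ≠ 2) (τ : F)
    (h : τ ^ 2 + τ - 1 = 0) : τ ^ (p ^ 2) = τ := by
  have hodd : Odd p := (Fact.out : p.Prime).odd_of_ne_two hp2
  have h1 : (τ ^ p) ^ 2 + τ ^ p - 1 = 0 := by
    have := congrArg (frobenius F p) h
    rw [map_zero, map_sub, map_add, map_pow, map_one] at this
    simpa [frobenius_def] using this
  have h2 : (τ ^ p - τ) * (τ ^ p + τ + 1) = 0 := by linear_combination h1 - h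
  rw [pow_two, pow_mul]
  rcases mul_eq_zero.1 h2 with h3 | h3
  · have : τ ^ p = τ := by linear_combination h3
    rw [this, this]
  · have h4 : τ ^ p = -(1 + τ) := by linear_combination h3
    rw [h4, hodd.neg_pow, add_pow_char, one_pow, h4]
    ring

omit [Fintype F] in
theorem root_fix' (p : ℕ) [Fact p.Prime] [CharP F p] (hp2 : p ≠ 2) (τ : F)
    (h : τ ^ 2 - τ - 1 = 0) : τ ^ (p ^ 2) = τ := by
  have hodd : Odd (p ^ 2) := Odd.pow ((Fact.out : p.Prime).odd_of_ne_two hp2)
  have := root_fix p hp2 (-τ) (by linear_combination h)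
  rw [hodd.neg_pow] at this
  linear_combination -this

omit [Fintype F] in
/-- in characteristic `5` these roots lie in the prime field -/
theorem five_case (p : ℕ) [Fact p.Prime] [CharP F p] (h5 : p = 5) (t : F)
    (h : t ^ 2 + t - 1 = 0 ∨ t ^ 2 - t - 1 = 0) : t ^ p = t := by
  have h50 : (5 : F) = 0 := by
    have := CharP.cast_eq_zero F p
    rw [h5] at this
    exact_mod_cast this
  have hp2 : p ≠ 2 := by omega
  have := pow_fix_of_sq_four p hp2 1 t (by
    rcases h with h | h
    · have h1 : (t - 2) ^ 2 = 0 := by linear_combination h - (t - 1) * h50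
      have h2 : t = 2 := by
        have := pow_eq_zero_iff (two_ne_zero) |>.1 h1
        linear_combination this
      rw [h2]; norm_num
    · have h1 : (t + 2) ^ 2 = 0 := by linear_combination h + (t + 1) * h50
      have h2 : t = -2 := by
        have := pow_eq_zero_iff (two_ne_zero) |>.1 h1
        linear_combination this
      rw [h2]; norm_num)
  rwa [pow_one] at this

omit [Fintype F] in
/-- the trace of an element of order `5` when `p ≡ ± 1 mod 10` -/
theorem frob_order_five (p : ℕ) [Fact p.Prime] [CharP F p] (hmod : p % 10 = 1 ∨ p % 10 = 9)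
    (A : SL2) (h : (pr A : PSL2) ^ 5 = 1) : A.1.trace ^ p = A.1.trace := by
  have h10 : A ^ 10 = 1 := by
    rcases pow_cases A 5 h with h' | h'
    · rw [show 10 = 5 * 2 from rfl, pow_mul, h', one_pow]
    · rw [show 10 = 5 * 2 from rfl, pow_mul, h', neg_one_sq]
  have := trace_fix_of_pow p 1 A (by
    rw [pow_one]
    rcases hmod with h1 | h1
    · left
      obtain ⟨c, hc⟩ : 10 ∣ p - 1 := by omega
      rw [hc, pow_mul, h10, one_pow]
    · right
      obtain ⟨c, hc⟩ : 10 ∣ p + 1 := by omega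
      rw [hc, pow_mul, h10, one_pow])
  rwa [pow_one] at this

/-- traces of the elements of a copy of `A₅` -/
theorem a5_trace_class (p : ℕ) [Fact p.Prime] [CharP F p] (hp2 : p ≠ 2) (M : Subgroup PSL2)
    (e : M ≃* alternatingGroup (Fin 5)) (A : SL2) (hA : pr A ∈ M) :
    A.1.trace ^ p = A.1.trace ∨ ((pr A : PSL2) ^ 5 = 1 ∧
      (A.1.trace ^ 2 + A.1.trace - 1 = 0 ∨ A.1.trace ^ 2 - A.1.trace - 1 = 0)) := by
  have hodd : Odd p := (Fact.out : p.Prime).odd_of_ne_two hp2
  have h2 : (2 : F) ≠ 0 := by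
    intro h
    have h1 : ((2 : ℕ) : F) = 0 := by exact_mod_cast h
    rw [CharP.cast_eq_zero_iff F p] at h1
    exact hp2 ((Nat.prime_dvd_prime_iff_eq (Fact.out : p.Prime) Nat.prime_two).1 h1)
  have hfix4 : ∀ t : F, t ^ 2 = 4 → t ^ p = t := by
    intro t ht
    have := pow_fix_of_sq_four p hp2 1 t ht
    rwa [pow_one] at this
  have hp0 : p ≠ 0 := (Fact.out : p.Prime).ne_zero
  have hpow : ∀ k : ℕ, (e ⟨pr A, hA⟩) ^ k = 1 → (pr A : PSL2) ^ k = 1 := by
    intro k hk
    rw [← map_pow] at hk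
    have h1 : (⟨pr A, hA⟩ : M) ^ k = 1 := by
      apply e.injective
      rw [hk, map_one]
    have := congrArg Subtype.val h1
    simpa using this
  rcases a5_pow (e ⟨pr A, hA⟩) with h | h | h
  · left
    rcases trace_of_pr_sq h2 A (hpow 2 h) with ht | ht | ht
    · rw [ht, zero_pow hp0]
    · exact hfix4 _ (by rw [ht]; norm_num)
    · exact hfix4 _ (by rw [ht]; norm_num)
  · left
    rcases trace_of_pr_cube A (hpow 3 h) with ht | ht | ht | ht
    · exact hfix4 _ (by rw [ht]; norm_num)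
    · exact hfix4 _ (by rw [ht]; norm_num)
    · rw [ht, one_pow]
    · rw [ht, hodd.neg_pow, one_pow]
  · rcases trace_of_pr_five A (hpow 5 h) with ht | ht | ht | ht
    · left; exact hfix4 _ (by rw [ht]; norm_num)
    · left; exact hfix4 _ (by rw [ht]; norm_num)
    · right; exact ⟨hpow 5 h, Or.inl ht⟩
    · right; exact ⟨hpow 5 h, Or.inr ht⟩

end a5


section a5main

variable {F : Type u} [Field F] [Fintype F]

local notation "SL2" => Matrix.SpecialLinearGroup (Fin 2) F
local notation "PSL2" => Matrix.ProjectiveSpecialLinearGroup (Fin 2) F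

theorem exists_klein_a5 : ∃ V5 : Subgroup (alternatingGroup (Fin 5)), IsKleinFour V5 := by
  obtain ⟨a, b, c, haa, hbb, hab, ha1, hb1, hne, -⟩ := a5_klein
  exact ⟨_, isKleinFour_closure_pair a b haa hbb hab ha1 hb1 hne⟩

/-- the case `M ≅ A₅` -/
theorem a5_case (hodd : Odd (Fintype.card F)) (h5 : 5 ≤ Fintype.card F) (p : ℕ) [Fact p.Prime]
    [CharP F p] (M : Subgroup PSL2) (hM : IsCoatom M) (e : M ≃* alternatingGroup (Fin 5)) :
    ((Fintype.card F % 10 = 1 ∨ Fintype.card F % 10 = 9) ∧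
      (Fintype.card F = p ∨ (Fintype.card F = p ^ 2 ∧ (p % 10 = 3 ∨ p % 10 = 7)))) ∨
    (∃ (F₀ : Type) (_ : Field F₀) (_ : Fintype F₀) (r : ℕ), r.Prime ∧ Odd r ∧
      Fintype.card F = Fintype.card F₀ ^ r ∧
      Nonempty (M ≃* Matrix.ProjectiveSpecialLinearGroup (Fin 2) F₀)) := by
  have hpp : p.Prime := Fact.out
  have h2 : (2 : F) ≠ 0 := Cfsg.Agent.Lib.Helper8.SL2Odd.two_ne_zero' hodd
  have hp2 := p_ne_two hodd p
  have hpodd : Odd p := hpp.odd_of_ne_two hp2
  have hsimple := Cfsg.Agent.H9.PSL2MinSimple.isSimple (F := F) (by omega)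
  have hMc : Nat.card M = 60 := by rw [Nat.card_congr e.toEquiv, card_A5]
  have hcardG := card_PSL2_odd hodd
  obtain ⟨f, -, hf⟩ := FiniteField.card F p
  obtain ⟨s0, t0, hst⟩ := exists_nat_sq_add_sq (F := F) p
  obtain ⟨V5, hV5⟩ := exists_klein_a5
  obtain ⟨V, hVM, ⟨eV⟩, -, -⟩ := exists_sub_of_equiv M e V5
  haveI hVk : IsKleinFour V := isKleinFour_of_equiv eV
  have hclass := a5_trace_class p hp2 M e
  have hM'c : ∀ φ : MulAut PSL2, Nat.card (M.map φ.toMonoidHom) = 60 := by
    intro φ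
    rw [Subgroup.card_map_of_injective φ.injective, hMc]
  by_cases hA : ∀ A : SL2, pr A ∈ M → A.1.trace ^ p = A.1.trace
  · -- all traces in the prime field
    set ι1 : ZMod p →+* F := ZMod.castHom (dvd_refl p) F with hι1
    have hcard1 : Fintype.card (ZMod p) = p := ZMod.card p
    have htr : ∀ A : SL2, pr A ∈ M → A.1.trace ∈ ι1.fieldRange := by
      intro A hAM
      apply mem_range_of_pow ι1
      rw [hcard1]
      exact hA A hAM
    obtain ⟨φ, hφ⟩ := core hodd ι1 _ _ hst (natCast_mem _ s0) (natCast_mem _ t0) M V hVM htr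
    have hco := Cfsg.Agent.H9.PSL2MaxEven.coatom_map φ M hM
    by_cases hf1 : (f : ℕ) = 1
    · left
      have hqp : Fintype.card F = p := by rw [hf, hf1, pow_one]
      refine ⟨?_, Or.inl hqp⟩
      have hdvd : 60 ∣ Nat.card PSL2 := by
        rw [← hMc]; exact Subgroup.card_subgroup_dvd_card M
      have h5dvd : 5 ∣ Fintype.card F * (Fintype.card F ^ 2 - 1) := by
        rw [← hcardG]
        obtain ⟨c, hc⟩ := hdvd
        exact ⟨2 * 12 * c, by rw [hc]; ring⟩
      apply mod10_of_dvd _ hodd _ h5dvd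
      intro h5q
      rw [hqp] at h5q
      have hp5 : p = 5 := ((Nat.prime_dvd_prime_iff_eq (by norm_num) hpp).1 h5q).symm
      apply hM.1
      apply Subgroup.eq_top_of_card_eq
      rw [hMc]
      rw [hqp, hp5] at hcardG
      norm_num at hcardG
      omega
    · right
      have hlt := card_lt_of_ne_one (F := F) p f hf hf1
      have hne := G0_ne_top h2 ι1 hlt
      have heq := eq_of_coatom_le _ (G0 ι1) hco hφ hne
      have hc := card_G0 h2 ι1
      rw [heq, hM'c, hcard1] at hc
      have hp5 : p = 5 := by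
        have hp5' : p ≤ 5 := by
          by_contra hcon
          have h6 : 6 ≤ p := by omega
          have : 6 * 35 ≤ p * (p ^ 2 - 1) := by
            apply Nat.mul_le_mul h6
            have : 6 ^ 2 ≤ p ^ 2 := Nat.pow_le_pow_left h6 2
            omega
          omega
        have hp3 : 3 ≤ p := by
          have := hpp.two_le
          omega
        clear hι1 htr hcard1 hlt hne heq hco hφ hA hclass
        interval_cases p <;> simp_all
      have hcoG : IsCoatom (G0 ι1) := by rw [heq]; exact hco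
      obtain ⟨hfp, hfo⟩ := prime_of_coatom hodd (by omega) ι1 f (by rw [hcard1, hf]) hcoG
      obtain ⟨e0⟩ := G0_equiv h2 ι1
      exact ⟨ZMod p, inferInstance, inferInstance, f, hfp, hfo, by rw [hcard1, hf],
        ⟨(M.equivMapOfInjective _ φ.injective).trans
          ((MulEquiv.subgroupCongr heq.symm).trans e0)⟩⟩
  · -- some trace outside the prime field
    left
    push Not at hA
    obtain ⟨A, hAM, hAt⟩ := hA
    obtain ⟨hA5, hroot⟩ : (pr A : PSL2) ^ 5 = 1 ∧
        (A.1.trace ^ 2 + A.1.trace - 1 = 0 ∨ A.1.trace ^ 2 - A.1.trace - 1 = 0) := by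
      rcases hclass A hAM with h | h
      · exact absurd h hAt
      · exact h
    have hp5 : p ≠ 5 := fun h => hAt (five_case p h _ hroot)
    have hp10 : ¬ (p % 10 = 1 ∨ p % 10 = 9) := fun h => hAt (frob_order_five p h A hA5)
    have hpmod : p % 10 = 3 ∨ p % 10 = 7 := by
      obtain ⟨r, hr⟩ := hpodd
      have h5p : ¬ 5 ∣ p := by
        intro h
        exact hp5 ((Nat.prime_dvd_prime_iff_eq (by norm_num) hpp).1 h).symm
      omega
    have hfix2 : ∀ B : SL2, pr B ∈ M → B.1.trace ^ (p ^ 2) = B.1.trace := by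
      intro B hB
      rcases hclass B hB with h | ⟨-, h | h⟩
      · rw [pow_two, pow_mul, h, h]
      · exact root_fix p hp2 _ h
      · exact root_fix' p hp2 _ h
    -- `f` is even
    have hiter : ∀ i : ℕ, A.1.trace ^ (p ^ (2 * i)) = A.1.trace := by
      intro i
      induction i with
      | zero => simp
      | succ i ih =>
        rw [show 2 * (i + 1) = 2 * i + 2 from by ring, pow_add, pow_mul, ih]
        exact hfix2 A hAM
    have hfeven : Even (f : ℕ) := by
      by_contra hcon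
      rw [Nat.not_even_iff_odd] at hcon
      obtain ⟨i, hi⟩ := hcon
      apply hAt
      have h1 : A.1.trace ^ Fintype.card F = A.1.trace := FiniteField.pow_card _
      rw [hf, hi, pow_succ, pow_mul, hiter i] at h1
      exact h1
    obtain ⟨j, hj⟩ := hfeven
    have hj0 : j ≠ 0 := by
      rintro rfl
      have := f.pos
      omega
    obtain ⟨K2, _, _, hK2⟩ := exists_field p 2 (by norm_num)
    obtain ⟨ι2⟩ := Cfsg.Agent.H9.SubfieldPSL2.exists_ringHom (F := F) (K := K2) j (by omega)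
      (by rw [hK2, ← pow_mul, hf, hj, two_mul])
    have htr : ∀ B : SL2, pr B ∈ M → B.1.trace ∈ ι2.fieldRange := by
      intro B hB
      apply mem_range_of_pow ι2
      rw [hK2]
      exact hfix2 B hB
    obtain ⟨φ, hφ⟩ := core hodd ι2 _ _ hst (natCast_mem _ s0) (natCast_mem _ t0) M V hVM htr
    have hco := Cfsg.Agent.H9.PSL2MaxEven.coatom_map φ M hM
    have hj1 : j = 1 := by
      by_contra hcon
      have hlt2 : Fintype.card K2 < Fintype.card F := by
        rw [hK2, hf, hj]
        exact Nat.pow_lt_pow_right hpp.one_lt (by omega)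
      have hne := G0_ne_top h2 ι2 hlt2
      have heq := eq_of_coatom_le _ (G0 ι2) hco hφ hne
      have hc := card_G0 h2 ι2
      rw [heq, hM'c, hK2] at hc
      have hp3 : 3 ≤ p := by
        have := hpp.two_le
        omega
      have h9 : 3 ^ 2 ≤ p ^ 2 := Nat.pow_le_pow_left hp3 2
      have : 9 * 80 ≤ p ^ 2 * ((p ^ 2) ^ 2 - 1) := by
        apply Nat.mul_le_mul h9
        have : 9 ^ 2 ≤ (p ^ 2) ^ 2 := Nat.pow_le_pow_left h9 2
        omega
      omega
    have hqp2 : Fintype.card F = p ^ 2 := by rw [hf, hj, hj1]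
    refine ⟨?_, Or.inr ⟨hqp2, hpmod⟩⟩
    right
    rw [hqp2, Nat.pow_mod]
    rcases hpmod with h | h <;> rw [h]

end a5main

end Cfsg.Agent.H9.QCases
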