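import Mathlib
import Cfsg.Agent.H9.QCases2
import Cfsg.Agent.S0265

set_option autoImplicit false

/-! `PGL₂(q)`, `q` odd: basic facts on the subgroup `PSL₂(q)` of index two. -/

namespace Cfsg.Agent.H9.PGL

open Matrix Subgroup
open Cfsg.Agent.H9.AutPSL2
open Cfsg.Agent.H9.QStd

universe u

variable {F : Type u} [Field F]

local notation "SL2" => Matrix.SpecialLinearGroup (Fin 2) F
local notation "PSL2" => Matrix.ProjectiveSpecialLinearGroup (Fin 2) F
local notation "GL2" => GL (Fin 2) F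
local notation "PGL2" => Matrix.ProjGenLinGroup (Fin 2) F

/-- the inclusion of `PSL₂` in `PGL₂` -/
noncomputable def jj : PSL2 →* PGL2 := Matrix.ProjectiveSpecialLinearGroup.toPGL

theorem jj_injective : Function.Injective (jj : PSL2 →* PGL2) :=
  Matrix.ProjectiveSpecialLinearGroup.toPGL_injective

theorem jj_pr (A : SL2) :
    jj (pr A) = Matrix.ProjGenLinGroup.mk (Matrix.SpecialLinearGroup.toGL A) := rfl

/-- the image of `PSL₂` -/
def LL : Subgroup PGL2 :=
  (Matrix.ProjGenLinGroup.mk.comp Matrix.SpecialLinearGroup.toGL).range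

theorem LL_eq_range : (LL : Subgroup PGL2) = (jj : PSL2 →* PGL2).range := by
  ext g
  constructor
  · rintro ⟨A, rfl⟩
    exact ⟨pr A, rfl⟩
  · rintro ⟨x, rfl⟩
    obtain ⟨A, rfl⟩ := pr_surjective x
    exact ⟨A, rfl⟩

theorem mem_LL_iff (g : PGL2) : g ∈ (LL : Subgroup PGL2) ↔ ∃ A : SL2, jj (pr A) = g := by
  constructor
  · rintro ⟨A, rfl⟩
    exact ⟨A, rfl⟩
  · rintro ⟨A, rfl⟩
    exact ⟨A, rfl⟩

theorem toGL_conjGL (B : GL2) (A : SL2) :
    Matrix.SpecialLinearGroup.toGL (conjGL B A) = B * Matrix.SpecialLinearGroup.toGL A * B⁻¹ := by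
  apply Units.ext
  rfl

/-- conjugation by an element of `PGL₂` on `PSL₂` -/
theorem conj_formula (B : GL2) (A : SL2) :
    Matrix.ProjGenLinGroup.mk B * jj (pr A) * (Matrix.ProjGenLinGroup.mk B)⁻¹ =
      jj (pr (conjGL B A)) := by
  rw [jj_pr, jj_pr, toGL_conjGL, map_mul, map_mul, map_inv]

theorem conj_formula' (B : GL2) (x : PSL2) :
    Matrix.ProjGenLinGroup.mk B * jj x * (Matrix.ProjGenLinGroup.mk B)⁻¹ =
      jj (lift (conjGL B) x) := by
  obtain ⟨A, rfl⟩ := pr_surjective x
  rw [conj_formula, lift_pr]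

variable [Fintype F]

theorem card_PGL : Nat.card PGL2 = Fintype.card F * (Fintype.card F ^ 2 - 1) := by
  rw [Cfsg.Agent.S0265.result, Cfsg.Agent.H9.SubfieldPSL2.card_SL2_all]

theorem finite_PGL : Finite PGL2 := by
  apply Nat.finite_of_card_ne_zero
  rw [card_PGL]
  have hq : 1 < Fintype.card F := Fintype.one_lt_card
  have : 1 < Fintype.card F ^ 2 := Nat.one_lt_pow (by norm_num) hq
  exact Nat.mul_ne_zero (by omega) (by omega)

instance : Finite PGL2 := finite_PGL

theorem card_LL (hodd : Odd (Fintype.card F)) :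
    2 * Nat.card (LL : Subgroup PGL2) = Fintype.card F * (Fintype.card F ^ 2 - 1) := by
  rw [← Cfsg.Agent.H9.QDih.card_PSL2_odd hodd, LL_eq_range]
  congr 1
  exact (Nat.card_congr (MonoidHom.ofInjective jj_injective).toEquiv).symm

theorem index_LL (hodd : Odd (Fintype.card F)) : (LL : Subgroup PGL2).index = 2 := by
  have h1 := (LL : Subgroup PGL2).card_mul_index
  rw [card_PGL, ← card_LL hodd] at h1
  have hpos : 0 < Nat.card (LL : Subgroup PGL2) := Nat.card_pos
  nlinarith

theorem normal_LL (hodd : Odd (Fintype.card F)) : (LL : Subgroup PGL2).Normal :=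
  Subgroup.normal_of_index_eq_two (index_LL hodd)

theorem sq_mem_LL (hodd : Odd (Fintype.card F)) (g : PGL2) : g * g ∈ (LL : Subgroup PGL2) := by
  have := Subgroup.sq_mem_of_index_two (index_LL hodd) g
  rwa [pow_two] at this

theorem LL_ne_top (hodd : Odd (Fintype.card F)) : (LL : Subgroup PGL2) ≠ ⊤ := by
  intro htop
  have := index_LL (F := F) hodd
  rw [htop, Subgroup.index_top] at this
  omega

/-- a maximal subgroup not containing `PSL₂` meets it in a subgroup of index two -/
theorem relIndex_LL (hodd : Odd (Fintype.card F)) (M : Subgroup PGL2) (hM : IsCoatom M)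
    (hML : ¬ (LL : Subgroup PGL2) ≤ M) : (LL : Subgroup PGL2).relIndex M = 2 := by
  have hn := normal_LL (F := F) hodd
  have h1 : (LL : Subgroup PGL2).relIndex M ∣ 2 := by
    have := Subgroup.relIndex_dvd_index_of_normal (LL : Subgroup PGL2) M
    rwa [index_LL (F := F) hodd] at this
  have h2 : (LL : Subgroup PGL2).relIndex M ≠ 1 := by
    intro h
    rw [Subgroup.relIndex_eq_one] at h
    have := Cfsg.Agent.H9.PSL2MaxGen.eq_of_coatom_le M LL hM h (LL_ne_top hodd)
    exact hML (le_of_eq this)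
  rcases (Nat.dvd_prime Nat.prime_two).1 h1 with h | h
  · exact absurd h h2
  · exact h

theorem card_inf (hodd : Odd (Fintype.card F)) (M : Subgroup PGL2) (hM : IsCoatom M)
    (hML : ¬ (LL : Subgroup PGL2) ≤ M) :
    Nat.card M = 2 * Nat.card (M ⊓ LL : Subgroup PGL2) := by
  have h3 := relIndex_LL hodd M hM hML
  have h4 := ((LL : Subgroup PGL2).subgroupOf M).card_mul_index
  rw [show ((LL : Subgroup PGL2).subgroupOf M).index = (LL : Subgroup PGL2).relIndex M from rfl,
    h3] at h4
  have h5 : Nat.card ((LL : Subgroup PGL2).subgroupOf M) = Nat.card (M ⊓ LL : Subgroup PGL2) := by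
    rw [← Subgroup.inf_subgroupOf_right]
    rw [inf_comm]
    exact Nat.card_congr (Subgroup.subgroupOfEquivOfLe inf_le_left).toEquiv
  rw [← h4, h5]; ring

omit [Fintype F] in
theorem map_comap_jj (M : Subgroup PGL2) : (M.comap jj).map jj = M ⊓ LL := by
  rw [Subgroup.map_comap_eq, LL_eq_range, inf_comm]

omit [Fintype F] in
theorem card_comap_jj (M : Subgroup PGL2) :
    Nat.card (M.comap (jj : PSL2 →* PGL2)) = Nat.card (M ⊓ LL : Subgroup PGL2) := by
  rw [← map_comap_jj]
  exact Nat.card_congr ((M.comap jj).equivMapOfInjective _ jj_injective).toEquiv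

theorem card_eq (hodd : Odd (Fintype.card F)) (M : Subgroup PGL2) (hM : IsCoatom M)
    (hML : ¬ (LL : Subgroup PGL2) ≤ M) :
    Nat.card M = 2 * Nat.card (M.comap (jj : PSL2 →* PGL2)) := by
  rw [card_comap_jj]; exact card_inf hodd M hM hML

omit [Fintype F] in
theorem jj_mem_map_iff (N : Subgroup PSL2) (x : PSL2) : jj x ∈ N.map jj ↔ x ∈ N :=
  Subgroup.mem_map_iff_mem jj_injective

omit [Fintype F] in
/-- normalizers and the inclusion -/
theorem jj_mem_normalizer_iff (N : Subgroup PSL2) (x : PSL2) :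
    jj x ∈ normalizer ((N.map jj : Subgroup PGL2) : Set PGL2) ↔ x ∈ normalizer (N : Set PSL2) := by
  constructor
  · intro h
    rw [mem_normalizer_iff] at h ⊢
    intro n
    rw [← jj_mem_map_iff N n, h (jj n), ← map_inv, ← map_mul, ← map_mul, jj_mem_map_iff]
  · intro h
    have key : ∀ z : PSL2, z ∈ normalizer (N : Set PSL2) → ∀ y : PGL2, y ∈ N.map jj →
        jj z * y * (jj z)⁻¹ ∈ N.map jj := by
      rintro z hz _ ⟨n, hn, rfl⟩
      rw [← map_inv, ← map_mul, ← map_mul, jj_mem_map_iff]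
      exact (mem_normalizer_iff.1 hz n).1 hn
    rw [mem_normalizer_iff]
    intro y
    constructor
    · exact key x h y
    · intro hy
      have := key x⁻¹ (inv_mem h) _ hy
      rw [map_inv, inv_inv] at this
      convert this using 1
      group

/-- a maximal subgroup is the normalizer of each proper non-trivial subgroup of `PSL₂` that it
normalizes -/
theorem normalizer_map_eq (hq4 : 4 ≤ Fintype.card F) (M : Subgroup PGL2) (hM : IsCoatom M)
    (N : Subgroup PSL2) (hN1 : N ≠ ⊥) (hN2 : N ≠ ⊤)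
    (hn : M ≤ normalizer ((N.map jj : Subgroup PGL2) : Set PGL2)) :
    normalizer ((N.map jj : Subgroup PGL2) : Set PGL2) = M := by
  have hsimple := Cfsg.Agent.H9.PSL2MinSimple.isSimple (F := F) hq4
  apply Cfsg.Agent.H9.PSL2MaxGen.eq_of_coatom_le M _ hM hn
  intro htop
  have hnorm : N.Normal := by
    rw [← normalizer_eq_top_iff, eq_top_iff]
    intro x _
    rw [← jj_mem_normalizer_iff, htop]
    trivial
  rcases hnorm.eq_bot_or_eq_top with h | h
  · exact hN1 h
  · exact hN2 h

theorem comap_eq_normalizer (hq4 : 4 ≤ Fintype.card F) (M : Subgroup PGL2) (hM : IsCoatom M)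
    (N : Subgroup PSL2) (hN1 : N ≠ ⊥) (hN2 : N ≠ ⊤)
    (hn : M ≤ normalizer ((N.map jj : Subgroup PGL2) : Set PGL2)) :
    M.comap (jj : PSL2 →* PGL2) = normalizer (N : Set PSL2) := by
  ext x
  rw [Subgroup.mem_comap, ← jj_mem_normalizer_iff, normalizer_map_eq hq4 M hM N hN1 hN2 hn]

omit [Fintype F] in
/-- a subgroup of `M` inside `PSL₂` is the image of its preimage -/
theorem map_comap_of_le (N : Subgroup PGL2) (hN : N ≤ LL) : (N.comap jj).map jj = N := by
  rw [map_comap_jj, inf_eq_left.2 hN]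

/-- elements of odd order lie in `PSL₂` -/
theorem mem_LL_of_odd (hodd : Odd (Fintype.card F)) (g : PGL2) (n : ℕ) (hn : Odd n)
    (hg : g ^ n = 1) : g ∈ (LL : Subgroup PGL2) := by
  obtain ⟨k, rfl⟩ := hn
  have h1 : g = (g ^ (k + 1)) * (g ^ (k + 1)) := by
    rw [← pow_add]
    have : k + 1 + (k + 1) = (2 * k + 1) + 1 := by ring
    rw [this, pow_succ, hg, one_mul]
  rw [h1]
  exact sq_mem_LL hodd _

section conj

omit [Fintype F] in
theorem not_le_map_conj (hn : (LL : Subgroup PGL2).Normal) (M : Subgroup PGL2)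
    (hML : ¬ (LL : Subgroup PGL2) ≤ M) (γ : PGL2) :
    ¬ (LL : Subgroup PGL2) ≤ M.map (MulAut.conj γ).toMonoidHom := by
  intro h
  apply hML
  intro x hx
  have h1 : γ * x * γ⁻¹ ∈ (LL : Subgroup PGL2) := hn.conj_mem x hx γ
  obtain ⟨y, hy, hy'⟩ := h h1
  have : y = x := by
    have h2 : γ * y * γ⁻¹ = γ * x * γ⁻¹ := hy'
    calc y = γ⁻¹ * (γ * y * γ⁻¹) * γ := by group
      _ = x := by rw [h2]; group
  rw [← this]; exact hy

omit [Fintype F] in
/-- the trace of `PSL₂` on a conjugate -/
theorem comap_map_conj (M : Subgroup PGL2) (B : GL2) :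
    (M.map (MulAut.conj (Matrix.ProjGenLinGroup.mk B)).toMonoidHom).comap (jj : PSL2 →* PGL2) =
      (M.comap jj).map (lift (conjGL B)).toMonoidHom := by
  ext x
  constructor
  · rintro ⟨y, hy, hy'⟩
    have hy2 : Matrix.ProjGenLinGroup.mk B * y * (Matrix.ProjGenLinGroup.mk B)⁻¹ = jj x := hy'
    refine ⟨(lift (conjGL B)).symm x, ?_, ?_⟩
    · show jj ((lift (conjGL B)).symm x) ∈ M
      have : jj ((lift (conjGL B)).symm x) = y := by
        have h1 := conj_formula' B ((lift (conjGL B)).symm x)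
        rw [MulEquiv.apply_symm_apply, ← hy2] at h1
        calc jj ((lift (conjGL B)).symm x)
            = (Matrix.ProjGenLinGroup.mk B)⁻¹ * (Matrix.ProjGenLinGroup.mk B *
              jj ((lift (conjGL B)).symm x) * (Matrix.ProjGenLinGroup.mk B)⁻¹) *
                Matrix.ProjGenLinGroup.mk B := by group
          _ = y := by rw [h1]; group
      rw [this]; exact hy
    · exact MulEquiv.apply_symm_apply _ x
  · rintro ⟨z, hz, rfl⟩
    have hz' : jj z ∈ M := hz
    show jj (lift (conjGL B) z) ∈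
      M.map (MulAut.conj (Matrix.ProjGenLinGroup.mk B)).toMonoidHom
    refine ⟨jj z, hz', ?_⟩
    exact conj_formula' B z

end conj

end Cfsg.Agent.H9.PGL
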