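import Mathlib
import Cfsg.Agent.H9.PGLBasic
import Cfsg.Agent.H9.PGLAbs
import Cfsg.Agent.H9.DicksonMain

set_option autoImplicit false

/-! Dickson's list for the subgroups of `PGL₂(q)`, `q` odd, in an abstract form. -/

namespace Cfsg.Agent.H9.PGLConcl

open Matrix Subgroup
open Cfsg.Agent.H9.AutPSL2
open Cfsg.Agent.H9.DicksonConcl
open Cfsg.Agent.H9.PGLAbs

universe u v

/-- an abstract form of Dickson's list -/
def Concl2 (Q p : ℕ) (X : Type v) [Group X] : Prop :=
  (∀ a b : X, a * b = b * a) ∨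
  (∃ k : ℕ, 3 ≤ k ∧ Nat.Coprime k p ∧ Nonempty (X ≃* DihedralGroup k)) ∨
  (∃ N : Subgroup X, N.Normal ∧ IsPGroup p N ∧ N ≠ ⊥) ∨
  (∀ N : Subgroup X, N.index ≠ 2) ∨
  Nonempty (X ≃* Equiv.Perm (Fin 4)) ∨
  (∃ (K : Type) (_ : Field K) (_ : Fintype K) (m : ℕ), Fintype.card K ^ m = Q ∧
    Nonempty (X ≃* Matrix.ProjGenLinGroup (Fin 2) K))

section concl

variable {E : Type u} [Field E] [Fintype E]

local notation "PSL2E" => Matrix.ProjectiveSpecialLinearGroup (Fin 2) E

theorem coprime_of_dvd (Q k p : ℕ) (hp : p.Prime) (hpQ : p ∣ Q) (hodd : Odd Q)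
    (hk : k ∣ (Q + 1) / 2 ∨ k ∣ (Q - 1) / 2) : Nat.Coprime k p := by
  rw [Nat.coprime_comm, hp.coprime_iff_not_dvd]
  intro hpk
  obtain ⟨r, hr⟩ := hodd
  rcases hk with h | h
  · have h1 : p ∣ Q + 1 := dvd_trans hpk (dvd_trans h (Nat.div_dvd_of_dvd ⟨r + 1, by omega⟩))
    have : p ∣ 1 := (Nat.dvd_add_right hpQ).1 h1
    exact hp.one_lt.ne' (Nat.dvd_one.1 this)
  · have h1 : p ∣ Q - 1 := dvd_trans hpk (dvd_trans h (Nat.div_dvd_of_dvd ⟨r, by omega⟩))
    have h2 : p ∣ (Q - 1) + 1 := by rw [Nat.sub_add_cancel (by omega)]; exact hpQ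
    have : p ∣ 1 := (Nat.dvd_add_right h1).1 h2
    exact hp.one_lt.ne' (Nat.dvd_one.1 this)

/-- the Borel type alternative -/
theorem borel_alt (p : ℕ) [Fact p.Prime] [CharP E p] (X : Type v) [Group X]
    (P : Sylow p PSL2E) (K' : Subgroup PSL2E)
    (hK' : K' ≤ normalizer ((P : Subgroup PSL2E) : Set PSL2E)) (e : X ≃* K') :
    (∀ a b : X, a * b = b * a) ∨ (∃ N : Subgroup X, N.Normal ∧ IsPGroup p N ∧ N ≠ ⊥) := by
  set N : Subgroup K' := ((P : Subgroup PSL2E) ⊓ K').subgroupOf K' with hN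
  have hNn : N.Normal := by
    constructor
    intro x hx k
    rw [hN, mem_subgroupOf] at hx ⊢
    refine ⟨?_, (k * x * k⁻¹).2⟩
    have hk := hK' k.2
    have := (mem_normalizer_iff.1 hk x.1).1 hx.1
    exact this
  have hNp : IsPGroup p N := by
    have h1 : IsPGroup p ((P : Subgroup PSL2E) ⊓ K' : Subgroup PSL2E) :=
      P.isPGroup'.to_le inf_le_left
    exact h1.comap_of_injective K'.subtype K'.subtype_injective
  by_cases hne : N = ⊥
  · left
    intro a b
    have hcomm : e a * e b = e b * e a := by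
      set x := e a with hx
      set y := e b with hy
      have hc := Cfsg.Agent.H9.DicksonMax.comm_pow_p p P x.1 y.1 (hK' x.2) (hK' y.2)
      have hcK : x.1 * y.1 * x.1⁻¹ * y.1⁻¹ ∈ K' := (x * y * x⁻¹ * y⁻¹).2
      have hcN : x.1 * y.1 * x.1⁻¹ * y.1⁻¹ ∈ normalizer ((P : Subgroup PSL2E) : Set PSL2E) :=
        hK' hcK
      have hcP := Cfsg.Agent.H9.PSL2MaxGen.mem_sylow_of_normalizer p P _ hcN 1
        (by rw [pow_one]; exact hc)
      have hmem : (x * y * x⁻¹ * y⁻¹ : K') ∈ N := by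
        rw [hN, mem_subgroupOf]
        exact ⟨hcP, hcK⟩
      rw [hne, mem_bot] at hmem
      calc x * y = (x * y * x⁻¹ * y⁻¹) * y * x := by group
        _ = y * x := by rw [hmem, one_mul]
    exact e.injective (by rw [map_mul, map_mul]; exact hcomm)
  · right
    refine ⟨N.comap e.toMonoidHom, hNn.comap _, hNp.comap_of_injective _ e.injective, ?_⟩
    intro h
    apply hne
    have := Subgroup.map_comap_eq_self_of_surjective (f := e.toMonoidHom) e.surjective N
    rw [← this, h, Subgroup.map_bot]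

/-- Dickson's list in the abstract form -/
theorem concl2_of_concl (p : ℕ) [Fact p.Prime] [CharP E p] (hodd : Odd (Fintype.card E))
    (X : Type v) [Group X] (h : Concl E (Fintype.card E) p X) :
    Concl2 (Fintype.card E) p X := by
  have hpp : p.Prime := Fact.out
  have hp2 := Cfsg.Agent.H9.QCases.p_ne_two hodd p
  have hq1 : 1 < Fintype.card E := Fintype.one_lt_card
  have hq3 : 3 ≤ Fintype.card E := by
    obtain ⟨r, hr⟩ := hodd
    omega
  obtain ⟨f, -, hf⟩ := FiniteField.card E p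
  have hpQ : p ∣ Fintype.card E := by
    rw [hf]; exact dvd_pow_self p (PNat.ne_zero f)
  rw [Concl, Cfsg.Agent.H9.QCases.gcd_two_of_odd _ hodd] at h
  rcases h with ⟨k, hk, h | ⟨⟨e⟩⟩⟩ | ⟨P, K, hK, ⟨e⟩⟩ | ⟨⟨e⟩⟩ | ⟨⟨e⟩⟩ | ⟨⟨e⟩⟩ |
    ⟨K, i1, i2, m, hm, ⟨⟨e⟩⟩ | ⟨⟨e⟩⟩⟩
  · left
    intro a b
    haveI := h.1
    letI := IsCyclic.commGroup (α := X)
    exact mul_comm a b
  · have hk0 : k ≠ 0 := by
      rintro rfl
      rcases hk with h | h
      · rw [zero_dvd_iff] at h; omega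
      · rw [zero_dvd_iff] at h; omega
    by_cases hk3 : 3 ≤ k
    · right; left
      exact ⟨k, hk3, coprime_of_dvd _ k p hpp hpQ hodd hk, ⟨e⟩⟩
    · left
      intro a b
      have h1 := Cfsg.Agent.H9.PSL2MaxGen.dihedral_abelian k (by omega) (by omega) (e a) (e b)
      exact e.injective (by rw [map_mul, map_mul]; exact h1)
  · rcases borel_alt p X P K hK e with h | h
    · left; exact h
    · right; right; left; exact h
  · right; right; right; left
    exact index_ne_two_of_equiv e A4_index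
  · right; right; right; right; left
    exact ⟨e⟩
  · right; right; right; left
    exact index_ne_two_of_equiv e A5_index
  · right; right; right; left
    have hm0 : m ≠ 0 := by
      rintro rfl
      rw [pow_zero] at hm
      omega
    haveI : CharP K p := Cfsg.Agent.H9.PSL2MaxDih.charP_of_card_pow p hpp m f
      (by rw [hm, hf]) hm0
    exact index_ne_two_of_equiv e
      (PSL2_index (Cfsg.Agent.H9.QCases.two_ne_zero_of_charP (K' := K) p hp2))
  · right; right; right; right; right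
    exact ⟨K, i1, i2, m, hm, ⟨e⟩⟩

end concl

section pgl

variable {F : Type u} [Field F] [Fintype F]

/-- Dickson's list for the subgroups of `PGL₂(q)`, `q` odd -/
theorem concl2_PGL (p : ℕ) [Fact p.Prime] [CharP F p] (hodd : Odd (Fintype.card F))
    (M : Subgroup (Matrix.ProjGenLinGroup (Fin 2) F)) :
    Concl2 (Fintype.card F ^ 2) p M := by
  have hpp : p.Prime := Fact.out
  obtain ⟨f, -, hf⟩ := FiniteField.card F p
  have hf0 : (f : ℕ) * 2 ≠ 0 := Nat.mul_ne_zero (PNat.ne_zero f) (by norm_num)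
  letI : Fintype (GaloisField p ((f : ℕ) * 2)) := Fintype.ofFinite _
  have hE : Fintype.card (GaloisField p ((f : ℕ) * 2)) = Fintype.card F ^ 2 := by
    rw [Fintype.card_eq_nat_card, GaloisField.card p _ hf0, hf, pow_mul]
  have hoddE : Odd (Fintype.card (GaloisField p ((f : ℕ) * 2))) := by
    rw [hE]; exact hodd.pow
  obtain ⟨ι⟩ := Cfsg.Agent.H9.SubfieldPSL2.exists_ringHom (K := F)
    (F := GaloisField p ((f : ℕ) * 2)) 2 (by norm_num) hE.symm
  have hsq := Cfsg.Agent.H9.SubfieldPSL2.isSquare_of_even ι 2 even_two hoddE hE.symm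
  obtain ⟨H, ⟨eH⟩⟩ := Cfsg.Agent.H9.SubfieldPSL2.exists_PGL2 ι hsq
  obtain ⟨V, -, ⟨eV⟩, -, -⟩ := Cfsg.Agent.H9.QCases.exists_sub_of_equiv H eH M
  have h1 := Cfsg.Agent.H9.DicksonUN.dickson (F := GaloisField p ((f : ℕ) * 2))
    (Fintype.card (GaloisField p ((f : ℕ) * 2))) p rfl V
  have h2 := concl2_of_concl p hoddE M (h1.congr eV)
  rwa [hE] at h2

end pgl

end Cfsg.Agent.H9.PGLConcl
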