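import Mathlib
import Cfsg.Agent.H9.PGLConcl

set_option autoImplicit false

/-! Maximal subgroups of `PGL₂(q)`, `q` odd: the abelian case and the dihedral case. -/

namespace Cfsg.Agent.H9.PGLCases

open Matrix Subgroup
open Cfsg.Agent.H9.AutPSL2
open Cfsg.Agent.H9.QStd
open Cfsg.Agent.H9.PGL
open Cfsg.Agent.H9.PGLAbs
open Cfsg.Agent.H9.PSL2MaxGen

universe u

variable {F : Type u} [Field F] [Fintype F]

local notation "SL2" => Matrix.SpecialLinearGroup (Fin 2) F
local notation "PSL2" => Matrix.ProjectiveSpecialLinearGroup (Fin 2) F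
local notation "GL2" => GL (Fin 2) F
local notation "PGL2" => Matrix.ProjGenLinGroup (Fin 2) F

/-- `8` divides `q (q² - 1)` -/
theorem eight_dvd (q : ℕ) (hodd : Odd q) : 8 ∣ q * (q ^ 2 - 1) := by
  obtain ⟨r, rfl⟩ := hodd
  apply Dvd.dvd.mul_left
  have h1 : (2 * r + 1) ^ 2 - 1 = 4 * (r * (r + 1)) := by
    have : (2 * r + 1) ^ 2 = 4 * (r * (r + 1)) + 1 := by ring
    omega
  rw [h1]
  have h2 : 2 ∣ r * (r + 1) := (Nat.even_mul_succ_self r).two_dvd
  obtain ⟨c, hc⟩ := h2
  rw [hc]
  exact ⟨c, by ring⟩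

/-- a maximal subgroup is not a `2`-group of order less than `8` -/
theorem not_two_group (hodd : Odd (Fintype.card F)) (M : Subgroup PGL2) (hM : IsCoatom M)
    (a : ℕ) (ha : Nat.card M = 2 ^ a) : 3 ≤ a := by
  haveI : Fact (Nat.Prime 2) := ⟨Nat.prime_two⟩
  have hMp : IsPGroup 2 M := IsPGroup.of_card ha
  obtain ⟨S, hS⟩ := hMp.exists_le_sylow
  have hcardS := Sylow.card_eq_multiplicity S
  have hG := card_PGL (F := F)
  have h8 : 8 ∣ Nat.card PGL2 := by rw [hG]; exact eight_dvd _ hodd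
  have hpos : Nat.card PGL2 ≠ 0 := Nat.card_pos.ne'
  have hfac : 3 ≤ (Nat.card PGL2).factorization 2 := by
    rw [← Nat.Prime.pow_dvd_iff_le_factorization Nat.prime_two hpos]
    exact h8
  by_cases htop : (S : Subgroup PGL2) = ⊤
  · exfalso
    rw [htop, Subgroup.card_top] at hcardS
    -- `q` divides a power of two
    have hq : Fintype.card F ∣ 2 ^ (Nat.card PGL2).factorization 2 := by
      rw [← hcardS, hG]; exact dvd_mul_right _ _
    have hq1 : 1 < Fintype.card F := Fintype.one_lt_card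
    obtain ⟨r, hr, hrq⟩ := Nat.exists_prime_and_dvd (by omega : Fintype.card F ≠ 1)
    have hr2 : r = 2 := (Nat.prime_dvd_prime_iff_eq hr Nat.prime_two).1
      (hr.dvd_of_dvd_pow (dvd_trans hrq hq))
    rw [hr2] at hrq
    obtain ⟨s, hs⟩ := hodd
    omega
  · have heq := eq_of_coatom_le M (S : Subgroup PGL2) hM hS htop
    rw [heq, ha] at hcardS
    have := Nat.pow_right_injective (le_refl 2) hcardS
    omega

/-- the abelian case -/
theorem abelian_case (hodd : Odd (Fintype.card F)) (h5 : 5 ≤ Fintype.card F)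
    (M : Subgroup PGL2) (hM : IsCoatom M) (hML : ¬ (LL : Subgroup PGL2) ≤ M)
    (hab : ∀ a b : M, a * b = b * a) : False := by
  have hsimple := Cfsg.Agent.H9.PSL2MinSimple.isSimple (F := F) (by omega)
  set A : Subgroup PSL2 := M.comap jj with hA
  have hcard := card_eq hodd M hM hML
  have hAtop : A ≠ ⊤ := by
    intro h
    apply hML
    rw [LL_eq_range]
    rintro _ ⟨x, rfl⟩
    have : x ∈ A := by rw [h]; trivial
    exact this
  by_cases hAbot : A = ⊥
  · rw [← hA, hAbot, Subgroup.card_bot] at hcard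
    have := not_two_group hodd M hM 1 (by rw [hcard]; norm_num)
    omega
  · apply no_abelian_ssn A hAbot hAtop
    · intro a ha b hb
      have := hab ⟨jj a, ha⟩ ⟨jj b, hb⟩
      have h1 : jj a * jj b = jj b * jj a := congrArg Subtype.val this
      rw [← map_mul, ← map_mul] at h1
      exact jj_injective h1
    · intro H hH hHbot
      have hHtop : H ≠ ⊤ := by
        rintro rfl
        exact hAtop (eq_top_iff.2 hH)
      symm
      apply comap_eq_normalizer (by omega) M hM H hHbot hHtop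
      apply le_normalizer_of_conj_mem
      rintro m hm _ ⟨x, hx, rfl⟩
      have hxM : jj x ∈ M := hH hx
      have := hab ⟨m, hm⟩ ⟨jj x, hxM⟩
      have h1 : m * jj x = jj x * m := congrArg Subtype.val this
      rw [h1, mul_inv_cancel_right]
      exact ⟨x, hx, rfl⟩

/-- a Klein four subgroup of `PSL₂(q)` is not its own normalizer -/
theorem klein_normalizer_ne (hodd : Odd (Fintype.card F)) (V : Subgroup PSL2) [hV : IsKleinFour V] :
    normalizer (V : Set PSL2) ≠ V := by
  have h2 : (2 : F) ≠ 0 := Cfsg.Agent.Lib.Helper8.SL2Odd.two_ne_zero' hodd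
  obtain ⟨X, Y, h, hcl⟩ := Cfsg.Agent.H9.KleinNorm.exists_pair h2 V
  obtain ⟨g, hgN, hg3⟩ := Cfsg.Agent.H9.KleinNorm.exists_order_three h2 X Y h
  rw [hcl] at hgN
  intro heq
  rw [heq] at hgN
  have h1 : orderOf g ∣ Nat.card V := Subgroup.orderOf_dvd_natCard _ hgN
  rw [hg3, hV.card_four] at h1
  omega

open Cfsg.Agent.H9.PSL2Tori in
/-- a subgroup of `PSL₂` acting on `⟨x⟩` by inversion and containing its normalizer -/
theorem eq_map_Nx (hodd : Odd (Fintype.card F)) (X : SL2) (A : Subgroup PSL2)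
    (h1 : ∀ a ∈ A, a * pr X * a⁻¹ = pr X ∨ a * pr X * a⁻¹ = (pr X)⁻¹)
    (h2 : normalizer ((zpowers (pr X : PSL2) : Subgroup PSL2) : Set PSL2) ≤ A) :
    A = (Nx X).map (pr : SL2 →* PSL2) := by
  have h2F : (2 : F) ≠ 0 := Cfsg.Agent.Lib.Helper8.SL2Odd.two_ne_zero' hodd
  apply le_antisymm
  · intro a ha
    obtain ⟨g, rfl⟩ := pr_surjective a
    refine ⟨g, ?_, rfl⟩
    show g ∈ Nx X
    rw [mem_Nx]
    have htr : (g * X * g⁻¹).1.trace = X.1.trace := Cfsg.Agent.H9.AutPSL2.trace_conj g X
    have htri : (X⁻¹).1.trace = X.1.trace := by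
      rw [Cfsg.Agent.H9.QTrace.trace_eq, Cfsg.Agent.H9.QTrace.trace_eq, inv_00, inv_11]; ring
    have hzero : ∀ Z : SL2, Z.1.trace = X.1.trace → g * X * g⁻¹ = -Z → X.1.trace = 0 := by
      intro Z hZ hg
      rw [hg, Matrix.SpecialLinearGroup.coe_neg, Matrix.trace_neg, hZ] at htr
      have : (2 : F) * X.1.trace = 0 := by linear_combination -htr
      rcases mul_eq_zero.1 this with h | h
      · exact absurd h h2F
      · exact h
    have hinv : X.1.trace = 0 → X⁻¹ = -X := by
      intro h0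
      have h11 : X.1 1 1 = -X.1 0 0 := by
        rw [Cfsg.Agent.H9.QTrace.trace_eq] at h0
        linear_combination h0
      have hsq := Cfsg.Agent.H9.KleinPSL2.sq_of_trace X h11
      have : X * (-X) = 1 := by rw [mul_neg, hsq, neg_neg]
      exact inv_eq_of_mul_eq_one_right this
    rcases h1 _ ha with h | h
    · rw [← map_inv, ← map_mul, ← map_mul, pr_eq_iff] at h
      rcases h with h | h
      · left; exact h
      · right
        rw [hinv (hzero X rfl h)]; exact h
    · rw [← map_inv, ← map_inv, ← map_mul, ← map_mul, pr_eq_iff] at h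
      rcases h with h | h
      · right; exact h
      · left
        have h0 := hzero X⁻¹ htri h
        rw [h, hinv h0, neg_neg]
  · rintro _ ⟨g, hg, rfl⟩
    apply h2
    have hg' : g ∈ Nx X := hg
    rw [mem_Nx] at hg'
    rcases hg' with h | h
    · rw [Subgroup.mem_normalizer_iff_map_conj_eq, MonoidHom.map_zpowers]
      show zpowers (pr g * pr X * (pr g)⁻¹) = zpowers (pr X)
      rw [← map_inv, ← map_mul, ← map_mul, h]
    · apply Cfsg.Agent.H9.QDih.mem_normalizer_zpowers
      rw [← map_inv, ← map_inv, ← map_mul, ← map_mul, h]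

/-- `M` normalizes its intersection with `PSL₂` -/
theorem le_normalizer_comap (hodd : Odd (Fintype.card F)) (M : Subgroup PGL2) :
    M ≤ normalizer (((M.comap jj).map jj : Subgroup PGL2) : Set PGL2) := by
  have hn := normal_LL (F := F) hodd
  rw [map_comap_jj]
  apply le_normalizer_of_conj_mem
  intro m hm y hy
  exact ⟨M.mul_mem (M.mul_mem hm hy.1) (M.inv_mem hm), hn.conj_mem y hy.2 m⟩

theorem comap_ne_top (M : Subgroup PGL2) (hML : ¬ (LL : Subgroup PGL2) ≤ M) :
    M.comap (jj : PSL2 →* PGL2) ≠ ⊤ := by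
  intro h
  apply hML
  rw [LL_eq_range]
  rintro _ ⟨x, rfl⟩
  have : x ∈ M.comap (jj : PSL2 →* PGL2) := by rw [h]; trivial
  exact this

open Cfsg.Agent.H9.PSL2Tori in
/-- the dihedral case -/
theorem dihedral_case (hodd : Odd (Fintype.card F)) (h5 : 5 ≤ Fintype.card F) (p : ℕ)
    [Fact p.Prime] [CharP F p] (M : Subgroup PGL2) (hM : IsCoatom M)
    (hML : ¬ (LL : Subgroup PGL2) ≤ M) (k : ℕ) (hk3 : 3 ≤ k) (hkp : Nat.Coprime k p)
    (e : M ≃* DihedralGroup k) :
    (k = Fintype.card F - 1 ∧ Fintype.card F ≠ 5) ∨ k = Fintype.card F + 1 := by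
  have hpr : p.Prime := Fact.out
  haveI : NeZero k := ⟨by omega⟩
  have h2F : (2 : F) ≠ 0 := Cfsg.Agent.Lib.Helper8.SL2Odd.two_ne_zero' hodd
  set c : M := e.symm (DihedralGroup.r 1) with hc
  have hec : e c = DihedralGroup.r 1 := e.apply_symm_apply _
  have hoc : orderOf c = k := by
    rw [← MulEquiv.orderOf_eq e c, hec, DihedralGroup.orderOf_r_one]
  have hocG : orderOf (c : PGL2) = k := by rw [← hoc]; exact (Subgroup.orderOf_coe c)
  have hconj_c : ∀ m ∈ M, m * (c : PGL2) * m⁻¹ = c ∨ m * (c : PGL2) * m⁻¹ = (c : PGL2)⁻¹ := by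
    intro m hm
    rcases dihedral_conj_r_one k (e ⟨m, hm⟩) with h | h
    · left
      have : e (⟨m, hm⟩ * c * ⟨m, hm⟩⁻¹) = e c := by
        rw [map_mul, map_mul, map_inv, hec, h]
      exact congrArg Subtype.val (e.injective this)
    · right
      have : e (⟨m, hm⟩ * c * ⟨m, hm⟩⁻¹) = e c⁻¹ := by
        rw [map_mul, map_mul, map_inv, map_inv, hec, h]
      exact congrArg Subtype.val (e.injective this)
  set x : PGL2 := (c : PGL2) * c with hx
  have hxL : x ∈ (LL : Subgroup PGL2) := sq_mem_LL hodd c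
  obtain ⟨X, hX⟩ := (mem_LL_iff x).1 hxL
  have hconj_x : ∀ m ∈ M, m * x * m⁻¹ = x ∨ m * x * m⁻¹ = x⁻¹ := by
    intro m hm
    have e1 : m * x * m⁻¹ = (m * (c : PGL2) * m⁻¹) * (m * (c : PGL2) * m⁻¹) := by
      rw [hx]; group
    rcases hconj_c m hm with h | h
    · left; rw [e1, h]
    · right; rw [e1, h, hx, _root_.mul_inv_rev]
  have hx1 : x ≠ 1 := by
    intro h
    have : (c : PGL2) ^ 2 = 1 := by rw [pow_two]; exact h
    have := orderOf_dvd_of_pow_eq_one this
    rw [hocG] at this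
    have := Nat.le_of_dvd (by norm_num) this
    omega
  have hX1 : (pr X : PSL2) ≠ 1 := by
    intro h
    apply hx1
    rw [← hX, h, map_one]
  set N : Subgroup PSL2 := zpowers (pr X : PSL2) with hN
  have hN1 : N ≠ ⊥ := by
    intro h
    have : (pr X : PSL2) ∈ N := mem_zpowers _
    rw [h, mem_bot] at this
    exact hX1 this
  have hN2 : N ≠ ⊤ := by
    intro h
    obtain ⟨a, b, hab⟩ := hna (F := F)
    have ha : a ∈ N := by rw [h]; trivial
    have hb : b ∈ N := by rw [h]; trivial
    obtain ⟨i, rfl⟩ := mem_zpowers_iff.1 ha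
    obtain ⟨j, rfl⟩ := mem_zpowers_iff.1 hb
    apply hab
    rw [← _root_.zpow_add, ← _root_.zpow_add, add_comm]
  have hNmap : N.map (jj : PSL2 →* PGL2) = zpowers x := by
    rw [hN, MonoidHom.map_zpowers, hX]
  have hMN : M ≤ normalizer ((N.map jj : Subgroup PGL2) : Set PGL2) := by
    rw [hNmap]
    apply le_normalizer_of_conj_mem
    intro m hm y hy
    obtain ⟨j, rfl⟩ := mem_zpowers_iff.1 hy
    rw [← conj_zpow]
    rcases hconj_x m hm with h | h
    · rw [h]; exact zpow_mem (mem_zpowers _) j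
    · rw [h]; exact zpow_mem (inv_mem (mem_zpowers _)) j
  have hA := comap_eq_normalizer (by omega) M hM N hN1 hN2 hMN
  -- `x` is semisimple
  have hxk : (pr X : PSL2) ^ k = 1 := by
    apply jj_injective
    rw [map_pow, hX, map_one, hx, ← pow_two, ← pow_mul, mul_comm, pow_mul, ← hocG,
      pow_orderOf_eq_one, one_pow]
  have hss : X.1.trace ^ 2 ≠ 4 := by
    intro h4
    have hxp : (pr X : PSL2) ^ p = 1 := by
      have h2 : (X.1.trace - 2) * (X.1.trace + 2) = 0 := by linear_combination h4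
      rcases mul_eq_zero.1 h2 with h | h
      · have := Cfsg.Agent.H9.DicksonUN.pow_p_of_trace p X (by linear_combination h)
        rw [← map_pow, this, map_one]
      · have htr : (-X).1.trace = 2 := by
          rw [Matrix.SpecialLinearGroup.coe_neg, Matrix.trace_neg]
          linear_combination -h
        have := Cfsg.Agent.H9.DicksonUN.pow_p_of_trace p (-X) htr
        rw [← Cfsg.Agent.H9.KleinPSL2.pr_neg, ← map_pow, this, map_one]
    have h1 : orderOf (pr X : PSL2) ∣ Nat.gcd k p :=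
      Nat.dvd_gcd (orderOf_dvd_of_pow_eq_one hxk) (orderOf_dvd_of_pow_eq_one hxp)
    rw [hkp, Nat.dvd_one, orderOf_eq_one_iff] at h1
    exact hX1 h1
  have hns := Cfsg.Agent.H9.TwoTransv.nonScalar_of_ss X hss
  have hAeq : M.comap (jj : PSL2 →* PGL2) = (Nx X).map (pr : SL2 →* PSL2) := by
    apply eq_map_Nx hodd X
    · intro a ha
      have haM : jj a ∈ M := ha
      rcases hconj_x _ haM with h | h
      · left
        apply jj_injective
        rw [map_mul, map_mul, map_inv, hX, h]
      · right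
        apply jj_injective
        rw [map_mul, map_mul, map_inv, map_inv, hX, h]
    · rw [hA]
  -- the order
  have hcen : Nat.card (Subgroup.center SL2) = 2 := by
    rw [Cfsg.Agent.H9.DicksonConcl.card_center, Cfsg.Agent.H9.QCases.gcd_two_of_odd _ hodd]
  obtain ⟨r, hr⟩ := hodd
  obtain ⟨a, ha2, haT, haq⟩ : ∃ a : ℕ, 2 ≤ a ∧ Nat.card (Tor X) = 2 * a ∧
      (2 * a = Fintype.card F - 1 ∨ 2 * a = Fintype.card F + 1) := by
    rcases card_Tor X hns hss with h | h
    · exact ⟨r, by omega, by rw [h]; omega, Or.inl (by omega)⟩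
    · exact ⟨r + 1, by omega, by rw [h]; omega, Or.inr (by omega)⟩
  obtain ⟨eD⟩ := dihedral_Nx X hns hss a ha2 (by rw [hcen, haT])
  haveI : NeZero a := ⟨by omega⟩
  have hcardA : Nat.card (M.comap (jj : PSL2 →* PGL2)) = 2 * a := by
    rw [hAeq, Nat.card_congr eD.toEquiv, DihedralGroup.nat_card]
  have hcardM : Nat.card M = 2 * k := by
    rw [Nat.card_congr e.toEquiv, DihedralGroup.nat_card]
  have hce := card_eq ⟨r, hr⟩ M hM hML
  rw [hcardA, hcardM] at hce
  have hk : k = 2 * a := by omega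
  rcases haq with h | h
  · left
    refine ⟨by omega, ?_⟩
    intro hq5
    have ha : a = 2 := by omega
    subst ha
    haveI : IsKleinFour ((Nx X).map (pr : SL2 →* PSL2)) :=
      Cfsg.Agent.H9.QCases.isKleinFour_of_equiv eD
    have h1 := comap_eq_normalizer (by omega) M hM (M.comap jj) (by
      intro hbot
      rw [hbot, Subgroup.card_bot] at hcardA
      omega) (comap_ne_top M hML) (le_normalizer_comap ⟨r, hr⟩ M)
    rw [hAeq] at h1
    exact klein_normalizer_ne ⟨r, hr⟩ _ h1.symm
  · right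
    omega

end Cfsg.Agent.H9.PGLCases
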