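import Mathlib
import Cfsg.Agent.H9.PGLCases1

set_option autoImplicit false

/-! Maximal subgroups of `PGL₂(q)`, `q` odd: the case of a normal `p`-subgroup. -/

namespace Cfsg.Agent.H9.PGLCases

open Matrix Subgroup
open Cfsg.Agent.H9.AutPSL2
open Cfsg.Agent.H9.QStd
open Cfsg.Agent.H9.PGL
open Cfsg.Agent.H9.PGLAbs
open Cfsg.Agent.H9.PSL2MaxGen
open Cfsg.Agent.H9.PSL2Borel
open Cfsg.Agent.H9.DicksonMax (UT)

universe u

variable {F : Type u} [Field F]

local notation "SL2" => Matrix.SpecialLinearGroup (Fin 2) F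
local notation "PSL2" => Matrix.ProjectiveSpecialLinearGroup (Fin 2) F
local notation "GL2" => GL (Fin 2) F
local notation "PGL2" => Matrix.ProjGenLinGroup (Fin 2) F

theorem GL_mul_10 (A B : GL2) : (A * B).1 1 0 = A.1 1 0 * B.1 0 0 + A.1 1 1 * B.1 1 0 := by
  rw [Units.val_mul, Matrix.mul_apply, Fin.sum_univ_two]

theorem GL_inv_10 (A : GL2) (h : A.1 1 0 = 0) : (A⁻¹).1 1 0 = 0 := by
  have h1 : (A⁻¹).1 = (A.1)⁻¹ := Matrix.coe_units_inv A
  rw [h1, Matrix.inv_def, Matrix.adjugate_fin_two]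
  simp [h]

/-- upper triangular matrices -/
def UTG : Subgroup GL2 where
  carrier := {B | B.1 1 0 = 0}
  one_mem' := by
    show (1 : GL2).1 1 0 = 0
    simp
  mul_mem' := by
    intro A B hA hB
    have hA' : A.1 1 0 = 0 := hA
    have hB' : B.1 1 0 = 0 := hB
    show (A * B).1 1 0 = 0
    rw [GL_mul_10, hA', hB']; ring
  inv_mem' := by
    intro A hA
    exact GL_inv_10 A hA

theorem mem_UTG (B : GL2) : B ∈ (UTG : Subgroup GL2) ↔ B.1 1 0 = 0 := Iff.rfl

/-- the image of the upper triangular matrices -/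
def BG : Subgroup PGL2 := (UTG : Subgroup GL2).map Matrix.ProjGenLinGroup.mk

theorem mk_mem_BG_iff (B : GL2) : Matrix.ProjGenLinGroup.mk B ∈ (BG : Subgroup PGL2) ↔
    B.1 1 0 = 0 := by
  constructor
  · rintro ⟨T, hT, hTB⟩
    obtain ⟨c, hc⟩ := Matrix.ProjGenLinGroup.mk_eq_mk_iff.1 hTB
    rw [← hc, GL_mul_10, (mem_UTG T).1 hT]
    simp [Matrix.GeneralLinearGroup.scalar]
  · intro h
    exact ⟨B, h, rfl⟩

theorem jj_mem_BG_iff (x : PSL2) : jj x ∈ (BG : Subgroup PGL2) ↔ UT x := by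
  obtain ⟨Z, rfl⟩ := pr_surjective x
  rw [jj_pr, mk_mem_BG_iff]
  constructor
  · intro h
    exact ⟨Z, h, rfl⟩
  · rintro ⟨m, hm, hmZ⟩
    rcases (pr_eq_iff m Z).1 hmZ with rfl | rfl
    · exact hm
    · show Z.1 1 0 = 0
      have : (-Z).1 1 0 = -(Z.1 1 0) := by simp
      rw [this] at hm
      linear_combination -hm

/-- an element conjugating a non-trivial unipotent element to a unipotent element is upper
triangular -/
theorem UTG_of_conj_u (h2 : (2 : F) ≠ 0) (B : GL2) (α β : F) (hα : α ≠ 0)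
    (h : conjGL B (u α) = u β ∨ conjGL B (u α) = -u β) : B.1 1 0 = 0 := by
  have hmul : ∀ A C : SL2, conjGL B A = C → B.1 * A.1 = C.1 * B.1 := by
    intro A C hAC
    have h1 := congrArg Subtype.val hAC
    rw [conjGL_val] at h1
    have h3 : (B⁻¹).1 * B.1 = 1 := by rw [← Units.val_mul, inv_mul_cancel, Units.val_one]
    calc B.1 * A.1 = B.1 * A.1 * ((B⁻¹).1 * B.1) := by rw [h3, Matrix.mul_one]
      _ = (B.1 * A.1 * (B⁻¹).1) * B.1 := by rw [Matrix.mul_assoc, Matrix.mul_assoc, Matrix.mul_assoc]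
      _ = C.1 * B.1 := by rw [h1]
  rcases h with h | h
  · have h1 := hmul _ _ h
    have e11 := congrFun (congrFun h1 1) 1
    simp only [Matrix.mul_apply, Fin.sum_univ_two, u_00, u_01, u_10, u_11] at e11
    have : B.1 1 0 * α = 0 := by linear_combination e11
    rcases mul_eq_zero.1 this with h3 | h3
    · exact h3
    · exact absurd h3 hα
  · have h1 := hmul _ _ h
    have e10 := congrFun (congrFun h1 1) 0
    simp only [Matrix.mul_apply, Fin.sum_univ_two, u_00, u_01, u_10, u_11,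
      Matrix.SpecialLinearGroup.coe_neg, Matrix.neg_apply] at e10
    have : (2 : F) * B.1 1 0 = 0 := by linear_combination e10
    rcases mul_eq_zero.1 this with h3 | h3
    · exact absurd h3 h2
    · exact h3

variable [Fintype F]

/-- the case of a normal `p`-subgroup -/
theorem borel_case (hodd : Odd (Fintype.card F)) (h5 : 5 ≤ Fintype.card F) (p : ℕ)
    [Fact p.Prime] [CharP F p] (M : Subgroup PGL2) (hM : IsCoatom M)
    (hML : ¬ (LL : Subgroup PGL2) ≤ M) (N : Subgroup M) (hNn : N.Normal) (hNp : IsPGroup p N)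
    (hne : N ≠ ⊥) : Nat.card M = Fintype.card F * (Fintype.card F - 1) := by
  have hpr : p.Prime := Fact.out
  have h2F : (2 : F) ≠ 0 := Cfsg.Agent.Lib.Helper8.SL2Odd.two_ne_zero' hodd
  have hp2 := Cfsg.Agent.H9.QCases.p_ne_two hodd p
  have hpodd : Odd p := hpr.odd_of_ne_two hp2
  set Q : Subgroup PGL2 := N.map M.subtype with hQ
  have hQp : IsPGroup p Q := hNp.map _
  have hQL : Q ≤ LL := by
    intro y hy
    obtain ⟨j, hj⟩ := hQp ⟨y, hy⟩
    have hj' : y ^ (p ^ j) = 1 := congrArg Subtype.val hj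
    exact mem_LL_of_odd hodd y (p ^ j) hpodd.pow hj'
  set Q' : Subgroup PSL2 := Q.comap jj with hQ'
  have hmap : Q'.map jj = Q := map_comap_of_le Q hQL
  have hQ'p : IsPGroup p Q' := hQp.comap_of_injective jj jj_injective
  have hQ'1 : Q' ≠ ⊥ := by
    intro h
    rw [h, Subgroup.map_bot] at hmap
    apply hne
    exact (Subgroup.map_eq_bot_iff_of_injective N M.subtype_injective).1 hmap.symm
  obtain ⟨P, hP⟩ := hQ'p.exists_le_sylow
  obtain ⟨g, hg⟩ := exists_conj_sylow p P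
  have hQ'2 : Q' ≠ ⊤ := by
    intro h
    obtain ⟨g', hg'⟩ := normalizer_le_BorC p Q' hQ'p hQ'1
    apply BorC_ne_top g'
    rw [eq_top_iff]
    refine le_trans ?_ hg'
    rw [h]
    intro x _
    rw [mem_normalizer_iff]
    intro y
    simp
  have hMN : M ≤ normalizer ((Q'.map jj : Subgroup PGL2) : Set PGL2) := by
    rw [hmap]
    apply le_normalizer_of_conj_mem
    rintro m hm _ ⟨n, hn, rfl⟩
    exact ⟨⟨m, hm⟩ * n * ⟨m, hm⟩⁻¹, hNn.conj_mem n hn ⟨m, hm⟩, rfl⟩
  -- a non-trivial element of `Q'`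
  obtain ⟨a₀, ha₀Q, ha₀1⟩ : ∃ a ∈ Q', a ≠ 1 := by
    by_contra hcon
    push Not at hcon
    apply hQ'1
    rw [eq_bot_iff]
    intro a ha
    rw [Subgroup.mem_bot]
    exact hcon a ha
  obtain ⟨α, hα⟩ := (mem_uHom_range _).1 ((hg a₀).1 (hP ha₀Q))
  have hα0 : α ≠ 0 := by
    rintro rfl
    apply ha₀1
    have : g⁻¹ * a₀ * g = 1 := by rw [hα, u_zero, map_one]
    calc a₀ = g * (g⁻¹ * a₀ * g) * g⁻¹ := by group
      _ = 1 := by rw [this]; group
  set BGg : Subgroup PGL2 := (BG : Subgroup PGL2).map (MulAut.conj (jj g)).toMonoidHom with hBGg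
  have hmemBGg : ∀ y : PGL2, y ∈ BGg ↔ (jj g)⁻¹ * y * jj g ∈ (BG : Subgroup PGL2) := by
    intro y
    constructor
    · rintro ⟨b, hb, rfl⟩
      have e : (jj g)⁻¹ * (jj g * b * (jj g)⁻¹) * jj g = b := by group
      show (jj g)⁻¹ * (jj g * b * (jj g)⁻¹) * jj g ∈ _
      rw [e]; exact hb
    · intro h
      refine ⟨(jj g)⁻¹ * y * jj g, h, ?_⟩
      show jj g * ((jj g)⁻¹ * y * jj g) * (jj g)⁻¹ = y
      group
  have hMle : M ≤ BGg := by
    intro m hm
    rw [hmemBGg]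
    obtain ⟨B', hB'⟩ := Matrix.ProjGenLinGroup.mk_surjective ((jj g)⁻¹ * m * jj g)
    rw [← hB', mk_mem_BG_iff]
    -- `m` maps `a₀` into `Q'`
    have h1 : m * jj a₀ * m⁻¹ ∈ Q'.map jj := by
      have := (mem_normalizer_iff.1 (hMN hm) (jj a₀)).1 ⟨a₀, ha₀Q, rfl⟩
      exact this
    obtain ⟨b₀, hb₀Q, hb₀⟩ := h1
    obtain ⟨β, hβ⟩ := (mem_uHom_range _).1 ((hg b₀).1 (hP hb₀Q))
    have h3 : Matrix.ProjGenLinGroup.mk B' * jj (pr (u α)) * (Matrix.ProjGenLinGroup.mk B')⁻¹ =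
        jj (pr (u β)) := by
      rw [hB', ← hα, ← hβ, map_mul, map_mul, map_mul, map_mul, map_inv, hb₀]
      group
    rw [conj_formula] at h3
    have h4 := jj_injective h3
    rw [pr_eq_iff] at h4
    exact UTG_of_conj_u h2F B' α β hα0 h4
  have hcomap : BGg.comap (jj : PSL2 →* PGL2) = BorC g := by
    ext x
    rw [Subgroup.mem_comap, hmemBGg, mem_BorC, ← jj_mem_BG_iff, map_mul, map_mul, map_inv]
  have hBtop : BGg ≠ ⊤ := by
    intro h
    apply BorC_ne_top g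
    rw [← hcomap, h, Subgroup.comap_top]
  have hMeq := eq_of_coatom_le M BGg hM hMle hBtop
  have hc := card_eq hodd M hM hML
  have hcm : M.comap (jj : PSL2 →* PGL2) = BorC g := by rw [← hMeq]; exact hcomap
  rw [hcm, card_BorC] at hc
  have hB := card_Bor (F := F)
  rw [Cfsg.Agent.H9.QCases.gcd_two_of_odd _ hodd] at hB
  rw [hc, ← hB]; ring

end Cfsg.Agent.H9.PGLCases
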