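import Mathlib
import Cfsg.Agent.H9.PGLBorel

set_option autoImplicit false

/-! Maximal subgroups of `PGL₂(q)`, `q` odd: standardizing Klein four subgroups by elements of
`GL₂`, and the subfield subgroups. -/

namespace Cfsg.Agent.H9.PGLSub

open Matrix Subgroup
open Cfsg.Agent.H9.AutPSL2
open Cfsg.Agent.H9.KleinPSL2
open Cfsg.Agent.H9.KleinGeneral
open Cfsg.Agent.H9.QStd
open Cfsg.Agent.H9.QSub
open Cfsg.Agent.H9.QTrace
open Cfsg.Agent.H9.QNorm
open Cfsg.Agent.H9.PGL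
open Cfsg.Agent.H9.PSL2MaxGen

universe u v

variable {F : Type u} [Field F] {K : Type v} [Field K]

local notation "SL2" => Matrix.SpecialLinearGroup (Fin 2) F
local notation "PSL2" => Matrix.ProjectiveSpecialLinearGroup (Fin 2) F
local notation "GL2" => GL (Fin 2) F
local notation "PGL2" => Matrix.ProjGenLinGroup (Fin 2) F

theorem conjGL_mul (B₁ B₂ : GL2) (A : SL2) :
    conjGL (B₁ * B₂) A = conjGL B₁ (conjGL B₂ A) := by
  apply Subtype.ext
  rw [conjGL_val, conjGL_val, conjGL_val, _root_.mul_inv_rev, Units.val_mul, Units.val_mul]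
  simp only [Matrix.mul_assoc]

theorem conjGL_toGL (c A : SL2) :
    conjGL (Matrix.SpecialLinearGroup.toGL c) A = c * A * c⁻¹ := by
  apply conjGL_eq_of_mul
  show c.1 * A.1 = (c * A * c⁻¹).1 * c.1
  rw [← Matrix.SpecialLinearGroup.coe_mul, ← Matrix.SpecialLinearGroup.coe_mul]
  congr 1
  rw [inv_mul_cancel_right]

variable [Fintype F]

/-- every anticommuting pair is conjugate to the standard one under `GL₂` -/
theorem exists_std_GL (hodd : Odd (Fintype.card F)) (X Y : SL2) (hXY : X * Y = -(Y * X))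
    (s0 t0 : F) (hst0 : s0 ^ 2 + t0 ^ 2 = -1) :
    ∃ B : GL2, conjGL B X = X0 ∧ conjGL B Y = Y0 s0 t0 hst0 := by
  have h2 : (2 : F) ≠ 0 := Cfsg.Agent.Lib.Helper8.SL2Odd.two_ne_zero' hodd
  obtain ⟨hXX, -⟩ := anti_sq h2 X Y hXY
  obtain ⟨c, hc⟩ := isConj_iff.1 (Cfsg.Agent.H9.RedundantSL2.isConj_of_sq hodd X X0 hXX X0_sq)
  have hanti : X0 * (c * Y * c⁻¹) = -((c * Y * c⁻¹) * X0) := by
    rw [← hc]
    calc c * X * c⁻¹ * (c * Y * c⁻¹) = c * (X * Y) * c⁻¹ := by group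
      _ = c * (-(Y * X)) * c⁻¹ := by rw [hXY]
      _ = -(c * (Y * X) * c⁻¹) := by rw [mul_neg, neg_mul]
      _ = -(c * Y * c⁻¹ * (c * X * c⁻¹)) := by congr 1; group
  obtain ⟨s, t, hst, hY⟩ := anti_X0_form _ hanti
  obtain ⟨g, hg1, hg2⟩ := exists_rot h2 s t s0 t0 hst hst0
  refine ⟨g * Matrix.SpecialLinearGroup.toGL c, ?_, ?_⟩
  · rw [conjGL_mul, conjGL_toGL, hc, hg1]
  · rw [conjGL_mul, conjGL_toGL, hY, hg2]

/-- normalization of a Klein four subgroup by an element of `GL₂` -/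
theorem exists_std_aut_GL (hodd : Odd (Fintype.card F)) (V : Subgroup PSL2) [hV : IsKleinFour V]
    (s t : F) (hst : s ^ 2 + t ^ 2 = -1) :
    ∃ B : GL2, V.map (lift (conjGL B)).toMonoidHom = V0 s t hst ∧
      ∃ X Y : SL2, pr X ∈ V ∧ pr Y ∈ V ∧ conjGL B X = X0 ∧ conjGL B Y = Y0 s t hst := by
  have h2 : (2 : F) ≠ 0 := Cfsg.Agent.Lib.Helper8.SL2Odd.two_ne_zero' hodd
  obtain ⟨X, Y, hXY, hcl⟩ := Cfsg.Agent.H9.KleinNorm.exists_pair h2 V
  obtain ⟨B, heX, heY⟩ := exists_std_GL hodd X Y hXY s t hst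
  refine ⟨B, ?_, X, Y, ?_, ?_, heX, heY⟩
  · rw [← hcl, MonoidHom.map_closure, Set.image_pair]
    show Subgroup.closure {lift (conjGL B) (pr X), lift (conjGL B) (pr Y)} = _
    rw [lift_pr, lift_pr, heX, heY]; rfl
  · rw [← hcl]; exact Subgroup.subset_closure (by simp)
  · rw [← hcl]; exact Subgroup.subset_closure (by simp)

/-- a subgroup containing a Klein four subgroup all of whose elements have traces in a subfield
is mapped into the subfield subgroup by an element of `GL₂` -/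
theorem core_GL (hodd : Odd (Fintype.card F)) (ι : K →+* F) (s t : F) (hst : s ^ 2 + t ^ 2 = -1)
    (hs : s ∈ ι.fieldRange) (ht : t ∈ ι.fieldRange) (M V : Subgroup PSL2) [hV : IsKleinFour V]
    (hVM : V ≤ M) (htr : ∀ A : SL2, pr A ∈ M → A.1.trace ∈ ι.fieldRange) :
    ∃ B : GL2, M.map (lift (conjGL B)).toMonoidHom ≤ G0 ι := by
  have h2 : (2 : F) ≠ 0 := Cfsg.Agent.Lib.Helper8.SL2Odd.two_ne_zero' hodd
  obtain ⟨B, -, X, Y, hX, hY, heX, heY⟩ := exists_std_aut_GL hodd V s t hst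
  refine ⟨B, ?_⟩
  have hetr := conjGL_trace B
  rintro _ ⟨x, hx, rfl⟩
  obtain ⟨A, rfl⟩ := pr_surjective x
  show lift (conjGL B) (pr A) ∈ G0 ι
  rw [lift_pr, mem_G0_iff, mem_Rt_iff]
  have key : ∀ Z : SL2, pr Z ∈ M → (conjGL B A * conjGL B Z).1.trace ∈ ι.fieldRange := by
    intro Z hZ
    rw [← map_mul, hetr]
    apply htr
    rw [map_mul]; exact mul_mem hx hZ
  apply ent h2 ι.fieldRange s t hst hs ht
  · rw [hetr]; exact htr A hx
  · rw [← heX]; exact key X (hVM hX)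
  · rw [← heY]; exact key Y (hVM hY)
  · rw [← heX, ← heY, ← map_mul]
    exact key (X * Y) (by rw [map_mul]; exact mul_mem (hVM hX) (hVM hY))

/-- trace preserving automorphisms preserving the standard Klein four subgroup preserve the
subfield subgroups -/
theorem aut_mem_Rt (h2 : (2 : F) ≠ 0) (ι : K →+* F) (s t : F)
    (hst : s ^ 2 + t ^ 2 = -1) (hs : s ∈ ι.fieldRange) (ht : t ∈ ι.fieldRange) (e : SL2 ≃* SL2)
    (hetr : ∀ A : SL2, (e A).1.trace = A.1.trace)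
    (hV : ∀ Z : SL2, pr Z ∈ V0 s t hst → pr (e.symm Z) ∈ V0 s t hst) (B : SL2) (hB : B ∈ Rt ι) :
    e B ∈ Rt ι := by
  have hconj : ∀ Z : SL2, pr Z ∈ V0 s t hst → e.symm Z ∈ Rt ι := by
    intro Z hZ
    exact mem_Rt_of_pr_mem_V0 h2 ι s t hst hs ht _ (hV Z hZ)
  have htr : ∀ Z : SL2, pr Z ∈ V0 s t hst → (e B * Z).1.trace ∈ ι.fieldRange := by
    intro Z hZ
    have : e B * Z = e (B * e.symm Z) := by rw [map_mul, MulEquiv.apply_symm_apply]
    rw [this, hetr]
    exact trace_mem_of_mem_Rt ι _ (mul_mem hB (hconj Z hZ))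
  rw [mem_Rt_iff]
  have h1 := htr 1 (one_mem _ |> fun h => by rw [map_one]; exact h)
  rw [mul_one] at h1
  apply ent h2 ι.fieldRange s t hst hs ht _ h1
  · exact htr _ ((mem_V0_iff h2 s t hst _).2 (Or.inr (Or.inl rfl)))
  · exact htr _ ((mem_V0_iff h2 s t hst _).2 (Or.inr (Or.inr (Or.inl rfl))))
  · exact htr _ ((mem_V0_iff h2 s t hst _).2 (Or.inr (Or.inr (Or.inr rfl))))

/-- the normalizer in `PGL₂` of the standard Klein four subgroup normalizes the subfield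
subgroups -/
theorem normalizer_V0_le_GL (h2 : (2 : F) ≠ 0) (ι : K →+* F) (s t : F)
    (hst : s ^ 2 + t ^ 2 = -1) (hs : s ∈ ι.fieldRange) (ht : t ∈ ι.fieldRange) :
    normalizer ((((V0 s t hst : Subgroup PSL2).map jj : Subgroup PGL2)) : Set PGL2) ≤
      normalizer ((((G0 ι : Subgroup PSL2).map jj : Subgroup PGL2)) : Set PGL2) := by
  have key : ∀ γ : PGL2,
      γ ∈ normalizer ((((V0 s t hst : Subgroup PSL2).map jj : Subgroup PGL2)) : Set PGL2) →
      ∀ h : PGL2, h ∈ (G0 ι : Subgroup PSL2).map jj → γ * h * γ⁻¹ ∈ (G0 ι : Subgroup PSL2).map jj := by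
    intro γ hγ h hh
    obtain ⟨B, rfl⟩ := Matrix.ProjGenLinGroup.mk_surjective γ
    obtain ⟨x, hx, rfl⟩ := hh
    obtain ⟨A, rfl⟩ := pr_surjective x
    have hx' : pr A ∈ G0 ι := hx
    rw [mem_G0_iff] at hx'
    rw [conj_formula]
    refine ⟨_, ?_, rfl⟩
    show pr ((conjGL B) A) ∈ G0 ι
    rw [mem_G0_iff]
    apply aut_mem_Rt h2 ι s t hst hs ht (conjGL B) (conjGL_trace B) _ A hx'
    intro Z hZ
    -- the inverse normalizes as well
    have hγi := inv_mem hγ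
    have h1 := (mem_normalizer_iff.1 hγi (jj (pr Z))).1 ⟨pr Z, hZ, rfl⟩
    rw [inv_inv] at h1
    obtain ⟨y, hy, hy'⟩ := h1
    have h3 : jj (pr (conjGL B ((conjGL B).symm Z))) = jj (pr Z) := by
      rw [MulEquiv.apply_symm_apply]
    rw [← conj_formula] at h3
    have h4 : jj (pr ((conjGL B).symm Z)) = jj y := by
      rw [hy']
      calc jj (pr ((conjGL B).symm Z))
          = (Matrix.ProjGenLinGroup.mk B)⁻¹ * (Matrix.ProjGenLinGroup.mk B *
            jj (pr ((conjGL B).symm Z)) * (Matrix.ProjGenLinGroup.mk B)⁻¹) *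
              Matrix.ProjGenLinGroup.mk B := by group
        _ = (Matrix.ProjGenLinGroup.mk B)⁻¹ * jj (pr Z) * Matrix.ProjGenLinGroup.mk B := by rw [h3]
    rw [jj_injective h4]
    exact hy
  intro γ hγ
  rw [mem_normalizer_iff]
  intro h
  constructor
  · exact key γ hγ h
  · intro hh
    have := key γ⁻¹ (inv_mem hγ) _ hh
    rw [inv_inv] at this
    convert this using 1
    group

end Cfsg.Agent.H9.PGLSub
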