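import Mathlib
import Cfsg.Agent.H9.PGLSub

set_option autoImplicit false

/-! The subfield subgroups `PGL₂(q₀)` of `PGL₂(q)`. -/

namespace Cfsg.Agent.H9.PGLSub

open Matrix Subgroup
open Cfsg.Agent.H9.AutPSL2
open Cfsg.Agent.H9.QStd
open Cfsg.Agent.H9.QSub
open Cfsg.Agent.H9.QNorm
open Cfsg.Agent.H9.PGL
open Cfsg.Agent.H9.PSL2MaxGen

universe u v w

variable {F : Type u} [Field F] {K : Type v} [Field K]

local notation "SL2" => Matrix.SpecialLinearGroup (Fin 2) F
local notation "PSL2" => Matrix.ProjectiveSpecialLinearGroup (Fin 2) F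
local notation "GL2" => GL (Fin 2) F
local notation "PGL2" => Matrix.ProjGenLinGroup (Fin 2) F

/-- the subfield subgroup of `PGL₂` -/
def P0 (ι : K →+* F) : Subgroup PGL2 := (Matrix.ProjGenLinGroup.map (n := Fin 2) ι).range

theorem pglMap_injective (ι : K →+* F) :
    Function.Injective (Matrix.ProjGenLinGroup.map (n := Fin 2) ι) := by
  rw [injective_iff_map_eq_one]
  intro x hx
  obtain ⟨B, rfl⟩ := Matrix.ProjGenLinGroup.mk_surjective x
  rw [Matrix.ProjGenLinGroup.map_mk, Matrix.ProjGenLinGroup.mk_eq_one,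
    Matrix.GeneralLinearGroup.center_eq_range_scalar] at hx
  obtain ⟨c, hc⟩ := hx
  have h00 := congrArg (fun g : GL2 => g.1 0 0) hc
  have h01 := congrArg (fun g : GL2 => g.1 0 1) hc
  have h10 := congrArg (fun g : GL2 => g.1 1 0) hc
  have h11 := congrArg (fun g : GL2 => g.1 1 1) hc
  simp only [Matrix.GeneralLinearGroup.coe_scalar] at h00 h01 h10 h11
  have e00 : ι (B.1 0 0) = c := by
    have := Matrix.GeneralLinearGroup.map_apply ι 0 0 B
    rw [← this]; simpa using h00.symm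
  have e11 : ι (B.1 1 1) = c := by
    have := Matrix.GeneralLinearGroup.map_apply ι 1 1 B
    rw [← this]; simpa using h11.symm
  have e01 : ι (B.1 0 1) = 0 := by
    have := Matrix.GeneralLinearGroup.map_apply ι 0 1 B
    rw [← this]; simpa using h01.symm
  have e10 : ι (B.1 1 0) = 0 := by
    have := Matrix.GeneralLinearGroup.map_apply ι 1 0 B
    rw [← this]; simpa using h10.symm
  have b01 : B.1 0 1 = 0 := ι.injective (by rw [e01, map_zero])
  have b10 : B.1 1 0 = 0 := ι.injective (by rw [e10, map_zero])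
  have b11 : B.1 1 1 = B.1 0 0 := ι.injective (by rw [e11, e00])
  have b00 : B.1 0 0 ≠ 0 := by
    intro h
    rw [h, map_zero] at e00
    exact c.ne_zero e00.symm
  rw [Matrix.ProjGenLinGroup.mk_eq_one, Matrix.GeneralLinearGroup.center_eq_range_scalar]
  refine ⟨Units.mk0 _ b00, ?_⟩
  apply Units.ext
  rw [Matrix.GeneralLinearGroup.coe_scalar]
  ext i j
  fin_cases i <;> fin_cases j <;> simp [b01, b10, b11]

/-- the subfield subgroup is a copy of `PGL₂(q₀)` -/
noncomputable def P0_equiv (ι : K →+* F) : P0 ι ≃* Matrix.ProjGenLinGroup (Fin 2) K :=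
  (MonoidHom.ofInjective (pglMap_injective ι)).symm

theorem card_P0 [Fintype K] (ι : K →+* F) :
    Nat.card (P0 ι) = Fintype.card K * (Fintype.card K ^ 2 - 1) := by
  rw [Nat.card_congr (P0_equiv ι).toEquiv]
  exact card_PGL

theorem P0_mono {K1 : Type w} [Field K1] (ι : K →+* F) (ι1 : K1 →+* F)
    (h : ∀ k : K, ∃ k1 : K1, ι1 k1 = ι k) : P0 ι ≤ P0 ι1 := by
  choose f hf using h
  -- `f` is a ring homomorphism
  let κ : K →+* K1 :=
    { toFun := f
      map_one' := ι1.injective (by rw [hf, map_one, map_one])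
      map_mul' := fun a b => ι1.injective (by rw [hf, map_mul, map_mul, hf, hf])
      map_zero' := ι1.injective (by rw [hf, map_zero, map_zero])
      map_add' := fun a b => ι1.injective (by rw [hf, map_add, map_add, hf, hf]) }
  have hκ : ι = ι1.comp κ := by
    ext k
    exact (hf k).symm
  rintro _ ⟨x, rfl⟩
  rw [hκ, Matrix.ProjGenLinGroup.map_comp]
  exact ⟨_, rfl⟩

/-- the subfield subgroup of `PGL₂` normalizes the subfield subgroup of `PSL₂` -/
theorem P0_le_normalizer (ι : K →+* F) :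
    P0 ι ≤ normalizer ((((G0 ι : Subgroup PSL2).map jj : Subgroup PGL2)) : Set PGL2) := by
  apply le_normalizer_of_conj_mem
  rintro _ ⟨x₀, rfl⟩ _ ⟨x, hx, rfl⟩
  obtain ⟨B₀, rfl⟩ := Matrix.ProjGenLinGroup.mk_surjective x₀
  obtain ⟨A, rfl⟩ := pr_surjective x
  have hx' : pr A ∈ G0 ι := hx
  rw [mem_G0_iff, mem_Rt_iff] at hx'
  rw [Matrix.ProjGenLinGroup.map_mk, conj_formula]
  refine ⟨_, ?_, rfl⟩
  show pr (conjGL (Matrix.GeneralLinearGroup.map ι B₀) A) ∈ G0 ι
  rw [mem_G0_iff, mem_Rt_iff]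
  have hA : ∀ i j : Fin 2, A.1 i j ∈ ι.fieldRange := hx'
  have hB : ∀ i j : Fin 2, (Matrix.GeneralLinearGroup.map ι B₀).1 i j ∈ ι.fieldRange := by
    intro i j
    exact ⟨B₀.1 i j, (Matrix.GeneralLinearGroup.map_apply ι i j B₀).symm⟩
  have hBi : ∀ i j : Fin 2, ((Matrix.GeneralLinearGroup.map ι B₀)⁻¹).1 i j ∈ ι.fieldRange := by
    intro i j
    rw [← Matrix.GeneralLinearGroup.map_inv]
    exact ⟨(B₀⁻¹).1 i j, (Matrix.GeneralLinearGroup.map_apply ι i j B₀⁻¹).symm⟩
  intro i j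
  show (conjGL (Matrix.GeneralLinearGroup.map ι B₀) A).1 i j ∈ ι.fieldRange
  rw [conjGL_val, Matrix.mul_apply, Fin.sum_univ_two, Matrix.mul_apply, Matrix.mul_apply,
    Fin.sum_univ_two, Fin.sum_univ_two]
  exact add_mem (mul_mem (add_mem (mul_mem (hB _ _) (hA _ _)) (mul_mem (hB _ _) (hA _ _)))
    (hBi _ _)) (mul_mem (add_mem (mul_mem (hB _ _) (hA _ _)) (mul_mem (hB _ _) (hA _ _)))
    (hBi _ _))

/-- a matrix with square determinant lies in `PSL₂` modulo scalars -/
theorem mk_mem_LL_of_det_sq (B : GL2) (c : F) (hc : c * c = B.1.det) :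
    Matrix.ProjGenLinGroup.mk B ∈ (LL : Subgroup PGL2) := by
  have hdet : B.1.det ≠ 0 := by
    have := B.isUnit
    have h1 : IsUnit B.1.det := (Matrix.isUnit_iff_isUnit_det _).1 this
    exact h1.ne_zero
  have hc0 : c ≠ 0 := by
    rintro rfl
    rw [mul_zero] at hc
    exact hdet hc.symm
  set S : SL2 := ⟨c⁻¹ • B.1, by
    rw [Matrix.det_smul, Fintype.card_fin, ← hc]
    field_simp⟩ with hS
  refine ⟨S, ?_⟩
  show Matrix.ProjGenLinGroup.mk (Matrix.SpecialLinearGroup.toGL S) = Matrix.ProjGenLinGroup.mk B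
  rw [Matrix.ProjGenLinGroup.mk_eq_mk_iff]
  refine ⟨Units.mk0 c hc0, Units.ext ?_⟩
  simp only [Units.val_mul, Matrix.SpecialLinearGroup.coe_GL_coe_matrix,
    Matrix.GeneralLinearGroup.coe_scalar]
  rw [hS]
  ext i j
  simp [Matrix.mul_apply, Matrix.scalar_apply, Matrix.diagonal_apply, Fin.sum_univ_two]
  fin_cases j <;> simp <;> field_simp

/-- a maximal subfield subgroup not containing `PSL₂` comes from a subfield of odd prime
codimension -/
theorem prime_of_coatom_P0 [Fintype F] [Fintype K] (hodd : Odd (Fintype.card F))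
    (ι : K →+* F) (m : ℕ) (hK : Fintype.card K ^ m = Fintype.card F) (hco : IsCoatom (P0 ι))
    (hL : ¬ (LL : Subgroup PGL2) ≤ P0 ι) : m.Prime ∧ Odd m := by
  have hq1 : 1 < Fintype.card F := Fintype.one_lt_card
  have hK1 : 1 < Fintype.card K := Fintype.one_lt_card
  have hm0 : m ≠ 0 := by
    rintro rfl
    rw [pow_zero] at hK
    omega
  have hm1 : m ≠ 1 := by
    rintro rfl
    rw [pow_one] at hK
    apply hco.1
    apply Subgroup.eq_top_of_card_eq
    rw [card_P0, card_PGL, hK]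
  have hodd' : Odd m := by
    by_contra hcon
    rw [Nat.not_odd_iff_even] at hcon
    have hsq := Cfsg.Agent.H9.SubfieldPSL2.isSquare_of_even ι m hcon hodd hK
    have hle : P0 ι ≤ LL := by
      rintro _ ⟨x₀, rfl⟩
      obtain ⟨B₀, rfl⟩ := Matrix.ProjGenLinGroup.mk_surjective x₀
      rw [Matrix.ProjGenLinGroup.map_mk]
      have hd0 : B₀.1.det ≠ 0 := by
        have h1 : IsUnit B₀.1.det := (Matrix.isUnit_iff_isUnit_det _).1 B₀.isUnit
        exact h1.ne_zero
      obtain ⟨c, hc⟩ := hsq _ hd0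
      apply mk_mem_LL_of_det_sq _ c
      rw [← hc]
      show ι B₀.1.det = ((RingHom.mapMatrix ι) B₀.1).det
      rw [RingHom.map_det]
    have := eq_of_coatom_le (P0 ι) LL hco hle (LL_ne_top hodd)
    exact hL (le_of_eq this)
  refine ⟨?_, hodd'⟩
  by_contra hnp
  obtain ⟨a, ha_dvd, ha2, ha_lt⟩ := Nat.exists_dvd_of_not_prime2 (by omega) hnp
  obtain ⟨b, hb⟩ := ha_dvd
  have hb2 : 2 ≤ b := by
    by_contra hcon
    have : b ≤ 1 := by omega
    rcases Nat.eq_zero_or_pos b with rfl | hbpos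
    · rw [mul_zero] at hb; exact hm0 hb
    · have : b = 1 := by omega
      rw [this, mul_one] at hb
      omega
  obtain ⟨p', hp'⟩ := CharP.exists K
  obtain ⟨n, hp'p, hn⟩ := FiniteField.card K p'
  haveI := Fact.mk hp'p
  obtain ⟨K1, _, _, hK1c⟩ := exists_field p' (n * a) (Nat.mul_ne_zero (PNat.ne_zero n) (by omega))
  have hS1 : Fintype.card K1 = Fintype.card K ^ a := by rw [hK1c, hn, pow_mul]
  obtain ⟨ι1⟩ := Cfsg.Agent.H9.SubfieldPSL2.exists_ringHom (F := F) (K := K1) b (by omega)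
    (by rw [hS1, ← pow_mul, ← hb, hK])
  have hsub : ∀ k : K, ∃ k1 : K1, ι1 k1 = ι k :=
    Cfsg.Agent.H9.PSL2MaxEven.range_le_range ι ι1 a hS1
  have hle : P0 ι ≤ P0 ι1 := P0_mono ι ι1 hsub
  have hlt : Fintype.card K1 < Fintype.card F := by
    rw [hS1, ← hK]
    exact Nat.pow_lt_pow_right hK1 ha_lt
  have hK11 : 1 < Fintype.card K1 := Fintype.one_lt_card
  have hne : P0 ι1 ≠ ⊤ := by
    intro h
    have h1 := card_P0 ι1
    rw [h, Subgroup.card_top, card_PGL] at h1
    have := Cfsg.Agent.H9.PSL2MaxEven.mono_card (Fintype.card K1) (Fintype.card F)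
      (by omega) hlt
    omega
  have heq := eq_of_coatom_le (P0 ι) (P0 ι1) hco hle hne
  have h1 := card_P0 ι
  have h3 := card_P0 ι1
  rw [heq] at h3
  have hlt' := Cfsg.Agent.H9.PSL2MaxEven.mono_card (Fintype.card K) (Fintype.card K1)
    (by omega) (by
      rw [hS1]
      calc Fintype.card K = Fintype.card K ^ 1 := (pow_one _).symm
        _ < Fintype.card K ^ a := Nat.pow_lt_pow_right hK1 (by omega))
  omega

end Cfsg.Agent.H9.PGLSub
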