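import Mathlib
import Cfsg.Agent.H9.PGLSub2

set_option autoImplicit false

/-! Maximal subgroups of `PGL₂(q)`, `q` odd: the subfield cases. -/

namespace Cfsg.Agent.H9.PGLCases

open Matrix Subgroup
open Cfsg.Agent.H9.AutPSL2
open Cfsg.Agent.H9.QStd
open Cfsg.Agent.H9.QSub
open Cfsg.Agent.H9.QTrace
open Cfsg.Agent.H9.QNorm
open Cfsg.Agent.H9.QCases
open Cfsg.Agent.H9.PGL
open Cfsg.Agent.H9.PGLAbs
open Cfsg.Agent.H9.PGLSub
open Cfsg.Agent.H9.PSL2MaxGen

universe u

variable {F : Type u} [Field F] [Fintype F]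

local notation "SL2" => Matrix.SpecialLinearGroup (Fin 2) F
local notation "PSL2" => Matrix.ProjectiveSpecialLinearGroup (Fin 2) F
local notation "GL2" => GL (Fin 2) F
local notation "PGL2" => Matrix.ProjGenLinGroup (Fin 2) F

omit [Fintype F] in
/-- conjugating a normalizing subgroup -/
theorem normalizer_conj (M : Subgroup PGL2) (W : Subgroup PSL2) (B : GL2)
    (h : M ≤ normalizer ((W.map jj : Subgroup PGL2) : Set PGL2)) :
    M.map (MulAut.conj (Matrix.ProjGenLinGroup.mk B)).toMonoidHom ≤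
      normalizer ((((W.map (lift (conjGL B)).toMonoidHom).map jj : Subgroup PGL2)) : Set PGL2) := by
  apply le_normalizer_of_conj_mem
  rintro _ ⟨m, hm, rfl⟩ _ ⟨_, ⟨w, hw, rfl⟩, rfl⟩
  have h1 := (mem_normalizer_iff.1 (h hm) (jj w)).1 ⟨w, hw, rfl⟩
  obtain ⟨w', hw', hw'e⟩ := h1
  refine ⟨lift (conjGL B) w', ⟨w', hw', rfl⟩, ?_⟩
  show jj (lift (conjGL B) w') = Matrix.ProjGenLinGroup.mk B * m * (Matrix.ProjGenLinGroup.mk B)⁻¹ *
    jj (lift (conjGL B) w) * (Matrix.ProjGenLinGroup.mk B * m * (Matrix.ProjGenLinGroup.mk B)⁻¹)⁻¹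
  rw [← conj_formula', ← conj_formula', hw'e]
  group

/-- the final step in the subfield cases -/
theorem sub_final (hodd : Odd (Fintype.card F)) (h5 : 5 ≤ Fintype.card F)
    (M : Subgroup PGL2) (hM : IsCoatom M) (hML : ¬ (LL : Subgroup PGL2) ≤ M)
    (K : Type) [Field K] [Fintype K] (ι : K →+* F) (m : ℕ)
    (hK : Fintype.card K ^ m = Fintype.card F)
    (hn : M ≤ normalizer ((((G0 ι : Subgroup PSL2).map jj : Subgroup PGL2)) : Set PGL2))
    (hlt : Fintype.card K < Fintype.card F)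
    (hcard : Nat.card M ≤ Fintype.card K * (Fintype.card K ^ 2 - 1)) :
    m.Prime ∧ Odd m ∧ Nonempty (M ≃* Matrix.ProjGenLinGroup (Fin 2) K) := by
  have h2 : (2 : F) ≠ 0 := Cfsg.Agent.Lib.Helper8.SL2Odd.two_ne_zero' hodd
  have hK1 : 1 < Fintype.card K := Fintype.one_lt_card
  have hbot : G0 ι ≠ ⊥ := by
    intro h
    have h1 := card_G0 h2 ι
    rw [h, Subgroup.card_bot] at h1
    have : 2 ^ 2 ≤ Fintype.card K ^ 2 := Nat.pow_le_pow_left hK1 2
    have h6 : 2 * 3 ≤ Fintype.card K * (Fintype.card K ^ 2 - 1) :=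
      Nat.mul_le_mul hK1 (by omega)
    omega
  have htop := G0_ne_top h2 ι hlt
  have hN := normalizer_map_eq (by omega) M hM (G0 ι) hbot htop hn
  have hle : P0 ι ≤ M := by
    rw [← hN]; exact P0_le_normalizer ι
  have heq : P0 ι = M := Subgroup.eq_of_le_of_card_ge hle (by rw [card_P0]; exact hcard)
  have hco : IsCoatom (P0 ι) := by rw [heq]; exact hM
  have hL : ¬ (LL : Subgroup PGL2) ≤ P0 ι := by rw [heq]; exact hML
  obtain ⟨h1, h3⟩ := prime_of_coatom_P0 hodd ι m hK hco hL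
  exact ⟨h1, h3, ⟨(MulEquiv.subgroupCongr heq.symm).trans (P0_equiv ι)⟩⟩

theorem S4_sq : ∀ x : Equiv.Perm (Fin 4), Equiv.Perm.sign x = 1 → x * x = 1 →
    ∃ y : Equiv.Perm (Fin 4), x = y * y := by
  decide

/-- the case `M ≅ S₄` -/
theorem s4_case (hodd : Odd (Fintype.card F)) (h5 : 5 ≤ Fintype.card F) (p : ℕ) [Fact p.Prime]
    [CharP F p] (M : Subgroup PGL2) (hM : IsCoatom M) (hML : ¬ (LL : Subgroup PGL2) ≤ M)
    (e : M ≃* Equiv.Perm (Fin 4)) :
    ((Fintype.card F).Prime ∧ (Fintype.card F % 8 = 3 ∨ Fintype.card F % 8 = 5)) ∨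
    (∃ (F₀ : Type) (_ : Field F₀) (_ : Fintype F₀) (r : ℕ), r.Prime ∧ Odd r ∧
      Fintype.card F = Fintype.card F₀ ^ r ∧
      Nonempty (M ≃* Matrix.ProjGenLinGroup (Fin 2) F₀)) := by
  have hpp : p.Prime := Fact.out
  have h2 : (2 : F) ≠ 0 := Cfsg.Agent.Lib.Helper8.SL2Odd.two_ne_zero' hodd
  have h4 : Nat.card (Fin 4) = 4 := by simp
  haveI := alternatingGroup.characteristic_kleinFour h4
  haveI hK4 := alternatingGroup.kleinFour_isKleinFour h4
  set N : Subgroup (Equiv.Perm (Fin 4)) :=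
    (alternatingGroup.kleinFour (Fin 4)).map (alternatingGroup (Fin 4)).subtype with hN
  haveI hNn : N.Normal := ConjAct.normal_of_characteristic_of_normal
  have eN : N ≃* alternatingGroup.kleinFour (Fin 4) :=
    ((alternatingGroup.kleinFour (Fin 4)).equivMapOfInjective _
      (Subgroup.subtype_injective _)).symm
  set N' : Subgroup M := N.comap e.toMonoidHom with hN'
  have hN'n : N'.Normal := hNn.comap _
  have eN' : N' ≃* N :=
    (e.subgroupMap N').trans (MulEquiv.subgroupCongr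
      (Subgroup.map_comap_eq_self_of_surjective (f := (e : M →* Equiv.Perm (Fin 4)))
        e.surjective N))
  set V : Subgroup PGL2 := N'.map M.subtype with hV
  have eV : N' ≃* V := N'.equivMapOfInjective _ M.subtype_injective
  have hVL : V ≤ LL := by
    rintro _ ⟨x, hx, rfl⟩
    have hex : e x ∈ N := hx
    obtain ⟨k, hk, hke⟩ := hex
    have hsign : Equiv.Perm.sign (e x) = 1 := by
      rw [← hke]
      exact Equiv.Perm.mem_alternatingGroup.1 k.2
    have hsq : e x * e x = 1 := by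
      have h1 : (⟨k, hk⟩ : alternatingGroup.kleinFour (Fin 4)) * ⟨k, hk⟩ = 1 :=
        IsKleinFour.mul_self _
      have h3 : k * k = 1 := congrArg Subtype.val h1
      rw [← hke, ← map_mul, h3, map_one]
    obtain ⟨y, hy⟩ := S4_sq (e x) hsign hsq
    have hx2 : x = e.symm y * e.symm y :=
      e.injective (by rw [map_mul, e.apply_symm_apply, hy])
    rw [hx2]
    exact sq_mem_LL hodd _
  set V' : Subgroup PSL2 := V.comap jj with hV'
  have hmapV : V'.map jj = V := map_comap_of_le V hVL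
  have eV' : V' ≃* V :=
    (V'.equivMapOfInjective _ jj_injective).trans (MulEquiv.subgroupCongr hmapV)
  haveI hVk : IsKleinFour V' :=
    isKleinFour_of_equiv (eV'.trans (eV.symm.trans (eN'.trans eN)))
  have hMN : M ≤ normalizer ((V'.map jj : Subgroup PGL2) : Set PGL2) := by
    rw [hmapV]
    apply le_normalizer_of_conj_mem
    rintro m hm _ ⟨n, hn, rfl⟩
    exact ⟨⟨m, hm⟩ * n * ⟨m, hm⟩⁻¹, hN'n.conj_mem n hn ⟨m, hm⟩, rfl⟩
  have hV'1 : V' ≠ ⊥ := by
    intro h
    have := hVk.card_four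
    rw [h, Subgroup.card_bot] at this
    omega
  have hV'2 : V' ≠ ⊤ := by
    intro h
    have h1 := hVk.card_four
    rw [h, Subgroup.card_top] at h1
    have h3 := Cfsg.Agent.H9.QDih.card_PSL2_odd hodd
    rw [h1] at h3
    have : 5 * 24 ≤ Fintype.card F * (Fintype.card F ^ 2 - 1) := by
      apply Nat.mul_le_mul h5
      have : 5 ^ 2 ≤ Fintype.card F ^ 2 := Nat.pow_le_pow_left h5 2
      omega
    omega
  have hA := comap_eq_normalizer (by omega) M hM V' hV'1 hV'2 hMN
  have hMc : Nat.card M = 24 := by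
    rw [Nat.card_congr e.toEquiv, Cfsg.Agent.H9.QSmall.card_S4]
  have hc := card_eq hodd M hM hML
  have hmod : Fintype.card F % 8 = 3 ∨ Fintype.card F % 8 = 5 := by
    by_contra hcon
    obtain ⟨r, hr⟩ : IsSquare (2 : F) := by
      rw [FiniteField.isSquare_two_iff]
      omega
    have := Cfsg.Agent.H9.KleinNorm.card_normalizer_of_sq h2 r hr.symm V'
    rw [← hA] at this
    omega
  obtain ⟨f, -, hf⟩ := FiniteField.card F p
  by_cases hf1 : (f : ℕ) = 1
  · left
    have hqp : Fintype.card F = p := by rw [hf, hf1, pow_one]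
    exact ⟨by rw [hqp]; exact hpp, hmod⟩
  · right
    set ι1 : ZMod p →+* F := ZMod.castHom (dvd_refl p) F with hι1
    have hcard1 : Fintype.card (ZMod p) = p := ZMod.card p
    have hlt := Cfsg.Agent.H9.QCases.card_lt_of_ne_one (F := F) p f hf hf1
    obtain ⟨s0, t0, hst⟩ := exists_nat_sq_add_sq (F := F) p
    obtain ⟨B, hBV, -⟩ := exists_std_aut_GL hodd V' _ _ hst
    set M' : Subgroup PGL2 :=
      M.map (MulAut.conj (Matrix.ProjGenLinGroup.mk B)).toMonoidHom with hM'
    have hM'co : IsCoatom M' :=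
      Cfsg.Agent.H9.PSL2MaxEven.coatom_map (MulAut.conj (Matrix.ProjGenLinGroup.mk B)) M hM
    have hML' := not_le_map_conj (normal_LL hodd) M hML (Matrix.ProjGenLinGroup.mk B)
    have hn' := normalizer_conj M V' B hMN
    rw [hBV] at hn'
    have hn'' := le_trans hn' (normalizer_V0_le_GL h2 ι1 _ _ hst (natCast_mem _ s0)
      (natCast_mem _ t0))
    have eM' : M ≃* M' := M.equivMapOfInjective _ (MulAut.conj (Matrix.ProjGenLinGroup.mk B)).injective
    have hM'c : Nat.card M' = 24 := by rw [← Nat.card_congr eM'.toEquiv, hMc]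
    have hp3 : 3 ≤ p := by
      have := hpp.two_le
      have := Cfsg.Agent.H9.QCases.p_ne_two hodd p
      omega
    have h24 : 24 ≤ p * (p ^ 2 - 1) := by
      have : 3 ^ 2 ≤ p ^ 2 := Nat.pow_le_pow_left hp3 2
      calc 24 = 3 * 8 := by norm_num
        _ ≤ p * (p ^ 2 - 1) := Nat.mul_le_mul hp3 (by omega)
    obtain ⟨hfp, hfo, ⟨e1⟩⟩ := sub_final hodd h5 M' hM'co hML' (ZMod p) ι1 f
      (by rw [hcard1, hf]) hn'' hlt (by rw [hM'c, hcard1]; exact h24)
    exact ⟨ZMod p, inferInstance, inferInstance, f, hfp, hfo, by rw [hcard1, hf],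
      ⟨eM'.trans e1⟩⟩

end Cfsg.Agent.H9.PGLCases
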