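import Mathlib
import Cfsg.Agent.H9.PGLCases2

set_option autoImplicit false

/-! Maximal subgroups of `PGL₂(q)`, `q` odd: the case `M ≅ PGL₂(q₀)`. -/

namespace Cfsg.Agent.H9.PGLCases

open Matrix Subgroup
open Cfsg.Agent.H9.AutPSL2
open Cfsg.Agent.H9.QStd
open Cfsg.Agent.H9.QSub
open Cfsg.Agent.H9.QTrace
open Cfsg.Agent.H9.QNorm
open Cfsg.Agent.H9.QCases
open Cfsg.Agent.H9.PGL
open Cfsg.Agent.H9.PGLAbs
open Cfsg.Agent.H9.PGLSub
open Cfsg.Agent.H9.PSL2MaxGen

universe u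

theorem dvd_of_card_dvd (p a f : ℕ) (hp : p.Prime) (ha : a ≠ 0)
    (h : p ^ a * ((p ^ a) ^ 2 - 1) ∣ p ^ f * ((p ^ f) ^ 2 - 1)) : a ∣ f := by
  have h1 : (p ^ a) ^ 2 - 1 ∣ p ^ f * ((p ^ f) ^ 2 - 1) := dvd_trans (dvd_mul_left _ _) h
  have hcop : Nat.Coprime ((p ^ a) ^ 2 - 1) (p ^ f) := by
    apply Nat.Coprime.pow_right
    rw [Nat.coprime_comm, hp.coprime_iff_not_dvd]
    intro hd
    have h2 : p ∣ (p ^ a) ^ 2 := dvd_pow (dvd_pow_self p ha) two_ne_zero
    have h3 : 1 ≤ (p ^ a) ^ 2 := Nat.one_le_pow _ _ (Nat.pow_pos hp.pos)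
    have h4 : p ∣ (p ^ a) ^ 2 - ((p ^ a) ^ 2 - 1) := Nat.dvd_sub h2 hd
    rw [show (p ^ a) ^ 2 - ((p ^ a) ^ 2 - 1) = 1 by omega] at h4
    exact hp.one_lt.ne' (Nat.dvd_one.1 h4)
  have h4 : (p ^ a) ^ 2 - 1 ∣ (p ^ f) ^ 2 - 1 := hcop.dvd_of_dvd_mul_left h1
  rw [← pow_mul, ← pow_mul] at h4
  have h5 := Nat.gcd_eq_left h4
  rw [Nat.pow_sub_one_gcd_pow_sub_one] at h5
  have h6 : p ^ Nat.gcd (a * 2) (f * 2) = p ^ (a * 2) := by
    have e1 : 1 ≤ p ^ Nat.gcd (a * 2) (f * 2) := Nat.one_le_pow _ _ hp.pos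
    have e2 : 1 ≤ p ^ (a * 2) := Nat.one_le_pow _ _ hp.pos
    omega
  have h7 := Nat.pow_right_injective hp.two_le h6
  have h8 : a * 2 ∣ f * 2 := by rw [← h7]; exact Nat.gcd_dvd_right _ _
  exact (Nat.mul_dvd_mul_iff_right (by norm_num)).1 h8

variable {F : Type u} [Field F] [Fintype F]

local notation "SL2" => Matrix.SpecialLinearGroup (Fin 2) F
local notation "PSL2" => Matrix.ProjectiveSpecialLinearGroup (Fin 2) F
local notation "GL2" => GL (Fin 2) F
local notation "PGL2" => Matrix.ProjGenLinGroup (Fin 2) F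

/-- the subgroup of index two of `PGL₂(q₀)` -/
theorem eq_LL_of_index_two {K' : Type} [Field K'] [Fintype K'] (hodd : Odd (Fintype.card K'))
    (N₂ : Subgroup (Matrix.ProjGenLinGroup (Fin 2) K')) (h : N₂.index = 2) :
    N₂ = (LL : Subgroup (Matrix.ProjGenLinGroup (Fin 2) K')) := by
  have h2 : (2 : K') ≠ 0 := Cfsg.Agent.Lib.Helper8.SL2Odd.two_ne_zero' hodd
  have hn : N₂.Normal := Subgroup.normal_of_index_eq_two h
  set C : Subgroup (Matrix.ProjectiveSpecialLinearGroup (Fin 2) K') := N₂.comap jj with hC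
  have h1 : C.index ∣ 2 := by
    rw [hC, Subgroup.index_comap]
    have := Subgroup.relIndex_dvd_index_of_normal N₂ (jj : _ →* Matrix.ProjGenLinGroup (Fin 2) K').range
    rwa [h] at this
  have h3 : C.index ≠ 2 := PSL2_index h2 C
  have h4 : C = ⊤ := by
    rw [← Subgroup.index_eq_one]
    rcases (Nat.dvd_prime Nat.prime_two).1 h1 with h5 | h5
    · exact h5
    · exact absurd h5 h3
  have hle : (LL : Subgroup (Matrix.ProjGenLinGroup (Fin 2) K')) ≤ N₂ := by
    rw [LL_eq_range]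
    rintro _ ⟨y, rfl⟩
    have : y ∈ C := by rw [h4]; trivial
    exact this
  symm
  apply Subgroup.eq_of_le_of_card_ge hle
  have e1 := N₂.card_mul_index
  have e2 := (LL : Subgroup (Matrix.ProjGenLinGroup (Fin 2) K')).card_mul_index
  rw [h] at e1
  rw [index_LL hodd] at e2
  omega

/-- the case `M ≅ PGL₂(K')` -/
theorem pgl_case (hodd : Odd (Fintype.card F)) (h5 : 5 ≤ Fintype.card F) (p : ℕ) [Fact p.Prime]
    [CharP F p] (M : Subgroup PGL2) (hM : IsCoatom M) (hML : ¬ (LL : Subgroup PGL2) ≤ M)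
    (K' : Type) [Field K'] [Fintype K'] (m : ℕ)
    (hm : Fintype.card K' ^ m = Fintype.card F ^ 2)
    (e : M ≃* Matrix.ProjGenLinGroup (Fin 2) K') :
    ∃ (F₀ : Type) (_ : Field F₀) (_ : Fintype F₀) (r : ℕ), r.Prime ∧ Odd r ∧
      Fintype.card F = Fintype.card F₀ ^ r ∧
      Nonempty (M ≃* Matrix.ProjGenLinGroup (Fin 2) F₀) := by
  have hpp : p.Prime := Fact.out
  have h2 : (2 : F) ≠ 0 := Cfsg.Agent.Lib.Helper8.SL2Odd.two_ne_zero' hodd
  have hp2 := p_ne_two hodd p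
  have hq1 : 1 < Fintype.card F := Fintype.one_lt_card
  have hm0 : m ≠ 0 := by
    rintro rfl
    rw [pow_zero] at hm
    have : 1 < Fintype.card F ^ 2 := Nat.one_lt_pow (by norm_num) hq1
    omega
  obtain ⟨f, -, hf⟩ := FiniteField.card F p
  haveI : CharP K' p := Cfsg.Agent.H9.PSL2MaxDih.charP_of_card_pow p hpp m ((f : ℕ) * 2)
    (by rw [hm, hf, pow_mul]) hm0
  obtain ⟨a, -, ha⟩ := FiniteField.card K' p
  have ha0 : (a : ℕ) ≠ 0 := PNat.ne_zero a
  have hKodd : Odd (Fintype.card K') := by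
    rw [ha]; exact Odd.pow (hpp.odd_of_ne_two hp2)
  have hMc : Nat.card M = Fintype.card K' * (Fintype.card K' ^ 2 - 1) := by
    rw [Nat.card_congr e.toEquiv]; exact card_PGL
  -- `a` divides `f`
  have hdvd : (a : ℕ) ∣ (f : ℕ) := by
    apply dvd_of_card_dvd p a f hpp ha0
    rw [← ha, ← hf, ← hMc, ← card_PGL (F := F)]
    exact Subgroup.card_subgroup_dvd_card M
  obtain ⟨m', hm'⟩ := hdvd
  have hKm' : Fintype.card K' ^ m' = Fintype.card F := by rw [ha, hf, hm', pow_mul]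
  have hm'0 : m' ≠ 0 := by
    rintro rfl
    rw [mul_zero] at hm'
    exact PNat.ne_zero f hm'
  have hlt : Fintype.card K' < Fintype.card F := by
    have hle : Fintype.card K' ≤ Fintype.card F := by
      rw [← hKm']
      calc Fintype.card K' = Fintype.card K' ^ 1 := (pow_one _).symm
        _ ≤ Fintype.card K' ^ m' := Nat.pow_le_pow_right Fintype.card_pos (by omega)
    rcases Nat.lt_or_ge (Fintype.card K') (Fintype.card F) with h | h
    · exact h
    · exfalso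
      have heq : Fintype.card K' = Fintype.card F := le_antisymm hle h
      apply hM.1
      apply Subgroup.eq_top_of_card_eq
      rw [hMc, card_PGL, heq]
  obtain ⟨ι₀⟩ := Cfsg.Agent.H9.SubfieldPSL2.exists_ringHom (F := F) (K := K') m' (by omega) hKm'
  -- the isomorphism `M ∩ L ≅ PSL₂(K')`
  set A : Subgroup PSL2 := M.comap jj with hA
  set M₀ : Subgroup M := (LL : Subgroup PGL2).subgroupOf M with hM₀
  have hM₀i : M₀.index = 2 := relIndex_LL hodd M hM hML
  set N₂ : Subgroup (Matrix.ProjGenLinGroup (Fin 2) K') := M₀.map e.toMonoidHom with hN₂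
  have hN₂i : N₂.index = 2 := by
    rw [hN₂, Subgroup.index_map_of_bijective e.bijective]; exact hM₀i
  have hN₂eq := eq_LL_of_index_two hKodd N₂ hN₂i
  have e1 : A ≃* (M ⊓ LL : Subgroup PGL2) :=
    (A.equivMapOfInjective _ jj_injective).trans (MulEquiv.subgroupCongr (map_comap_jj M))
  have e2 : M₀ ≃* (M ⊓ LL : Subgroup PGL2) := by
    have h1 : M₀ = (M ⊓ LL : Subgroup PGL2).subgroupOf M := by
      rw [hM₀, inf_comm, Subgroup.inf_subgroupOf_right]
    exact (MulEquiv.subgroupCongr h1).trans (Subgroup.subgroupOfEquivOfLe inf_le_left)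
  have e3 : M₀ ≃* N₂ := M₀.equivMapOfInjective _ e.injective
  have e4 : N₂ ≃* Matrix.ProjectiveSpecialLinearGroup (Fin 2) K' :=
    (MulEquiv.subgroupCongr (hN₂eq.trans LL_eq_range)).trans
      (MonoidHom.ofInjective jj_injective).symm
  have eA : A ≃* Matrix.ProjectiveSpecialLinearGroup (Fin 2) K' :=
    e1.trans (e2.symm.trans (e3.trans e4))
  -- traces
  have htr : ∀ Z : SL2, pr Z ∈ A → Z.1.trace ∈ ι₀.fieldRange := by
    intro Z hZ
    apply mem_range_of_pow ι₀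
    rw [ha]
    exact trace_fix_psl p hp2 a ha A eA Z hZ
  obtain ⟨s0, t0, hst⟩ := exists_nat_sq_add_sq (F := F) p
  obtain ⟨V', hV'⟩ := exists_klein (two_ne_zero_of_charP (K' := K') p hp2)
  obtain ⟨V, hVA, ⟨eV⟩, -, -⟩ := exists_sub_of_equiv A eA V'
  haveI : IsKleinFour V := isKleinFour_of_equiv eV
  obtain ⟨B, hB⟩ := core_GL hodd ι₀ _ _ hst (natCast_mem _ s0) (natCast_mem _ t0) A V hVA htr
  have hc := card_eq hodd M hM hML
  have hcG := card_G0 h2 ι₀
  have heq : A.map (lift (conjGL B)).toMonoidHom = G0 ι₀ := by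
    apply Subgroup.eq_of_le_of_card_ge hB
    have hcA : Nat.card (A.map (lift (conjGL B)).toMonoidHom) = Nat.card A :=
      (Nat.card_congr (A.equivMapOfInjective _ (lift (conjGL B)).injective).toEquiv).symm
    rw [hcA]
    have h3 : 2 * Nat.card (G0 ι₀) = 2 * Nat.card A := by rw [hcG, ← hMc, hc]
    exact le_of_eq (Nat.eq_of_mul_eq_mul_left (by norm_num) h3)
  set M' : Subgroup PGL2 :=
    M.map (MulAut.conj (Matrix.ProjGenLinGroup.mk B)).toMonoidHom with hM'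
  have hM'co : IsCoatom M' :=
    Cfsg.Agent.H9.PSL2MaxEven.coatom_map (MulAut.conj (Matrix.ProjGenLinGroup.mk B)) M hM
  have hML' := not_le_map_conj (normal_LL hodd) M hML (Matrix.ProjGenLinGroup.mk B)
  have hcm : M'.comap (jj : PSL2 →* PGL2) = G0 ι₀ := by
    rw [hM', comap_map_conj, heq]
  have hn := le_normalizer_comap hodd M'
  rw [hcm] at hn
  have eM' : M ≃* M' :=
    M.equivMapOfInjective _ (MulAut.conj (Matrix.ProjGenLinGroup.mk B)).injective
  have hM'c : Nat.card M' = Nat.card M := (Nat.card_congr eM'.toEquiv).symm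
  obtain ⟨hfp, hfo, -⟩ := sub_final hodd h5 M' hM'co hML' K' ι₀ m' hKm' hn hlt
    (by rw [hM'c, hMc])
  exact ⟨K', inferInstance, inferInstance, m', hfp, hfo, hKm'.symm, ⟨e⟩⟩

end Cfsg.Agent.H9.PGLCases
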