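import Mathlib
import Cfsg.Agent.H9.PGLCases3
import Cfsg.Agent.S5892

set_option autoImplicit false

/-! The intersection of a maximal subgroup of `PGL₂(q)` with `PSL₂(q)`. -/

namespace Cfsg.Agent.H9.PGLMeet

open Matrix Subgroup
open Cfsg.Agent.H9.AutPSL2
open Cfsg.Agent.H9.QStd
open Cfsg.Agent.H9.PGL
open Cfsg.Agent.H9.PGLAbs
open Cfsg.Agent.H9.PGLCases
open Cfsg.Agent.H9.PSL2MaxGen

universe u

variable {F : Type u} [Field F] [Fintype F]

local notation "SL2" => Matrix.SpecialLinearGroup (Fin 2) F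
local notation "PSL2" => Matrix.ProjectiveSpecialLinearGroup (Fin 2) F
local notation "GL2" => GL (Fin 2) F
local notation "PGL2" => Matrix.ProjGenLinGroup (Fin 2) F

open Cfsg.Agent.H9.PSL2Tori in
/-- the dihedral case, with the structure of the intersection with `PSL₂` -/
theorem dihedral_case' (hodd : Odd (Fintype.card F)) (h5 : 5 ≤ Fintype.card F) (p : ℕ)
    [Fact p.Prime] [CharP F p] (M : Subgroup PGL2) (hM : IsCoatom M)
    (hML : ¬ (LL : Subgroup PGL2) ≤ M) (k : ℕ) (hk3 : 3 ≤ k) (hkp : Nat.Coprime k p)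
    (e : M ≃* DihedralGroup k) :
    ∃ a : ℕ, 2 ≤ a ∧ (2 * a = Fintype.card F - 1 ∨ 2 * a = Fintype.card F + 1) ∧
      Nonempty (M.comap (jj : PSL2 →* PGL2) ≃* DihedralGroup a) := by
  have hpr : p.Prime := Fact.out
  haveI : NeZero k := ⟨by omega⟩
  have h2F : (2 : F) ≠ 0 := Cfsg.Agent.Lib.Helper8.SL2Odd.two_ne_zero' hodd
  set c : M := e.symm (DihedralGroup.r 1) with hc
  have hec : e c = DihedralGroup.r 1 := e.apply_symm_apply _
  have hoc : orderOf c = k := by
    rw [← MulEquiv.orderOf_eq e c, hec, DihedralGroup.orderOf_r_one]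
  have hocG : orderOf (c : PGL2) = k := by rw [← hoc]; exact (Subgroup.orderOf_coe c)
  have hconj_c : ∀ m ∈ M, m * (c : PGL2) * m⁻¹ = c ∨ m * (c : PGL2) * m⁻¹ = (c : PGL2)⁻¹ := by
    intro m hm
    rcases dihedral_conj_r_one k (e ⟨m, hm⟩) with h | h
    · left
      have : e (⟨m, hm⟩ * c * ⟨m, hm⟩⁻¹) = e c := by
        rw [map_mul, map_mul, map_inv, hec, h]
      exact congrArg Subtype.val (e.injective this)
    · right
      have : e (⟨m, hm⟩ * c * ⟨m, hm⟩⁻¹) = e c⁻¹ := by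
        rw [map_mul, map_mul, map_inv, map_inv, hec, h]
      exact congrArg Subtype.val (e.injective this)
  set x : PGL2 := (c : PGL2) * c with hx
  have hxL : x ∈ (LL : Subgroup PGL2) := sq_mem_LL hodd c
  obtain ⟨X, hX⟩ := (mem_LL_iff x).1 hxL
  have hconj_x : ∀ m ∈ M, m * x * m⁻¹ = x ∨ m * x * m⁻¹ = x⁻¹ := by
    intro m hm
    have e1 : m * x * m⁻¹ = (m * (c : PGL2) * m⁻¹) * (m * (c : PGL2) * m⁻¹) := by
      rw [hx]; group
    rcases hconj_c m hm with h | h
    · left; rw [e1, h]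
    · right; rw [e1, h, hx, _root_.mul_inv_rev]
  have hx1 : x ≠ 1 := by
    intro h
    have : (c : PGL2) ^ 2 = 1 := by rw [pow_two]; exact h
    have := orderOf_dvd_of_pow_eq_one this
    rw [hocG] at this
    have := Nat.le_of_dvd (by norm_num) this
    omega
  have hX1 : (pr X : PSL2) ≠ 1 := by
    intro h
    apply hx1
    rw [← hX, h, map_one]
  set N : Subgroup PSL2 := zpowers (pr X : PSL2) with hN
  have hN1 : N ≠ ⊥ := by
    intro h
    have : (pr X : PSL2) ∈ N := mem_zpowers _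
    rw [h, mem_bot] at this
    exact hX1 this
  have hN2 : N ≠ ⊤ := by
    intro h
    obtain ⟨a, b, hab⟩ := hna (F := F)
    have ha : a ∈ N := by rw [h]; trivial
    have hb : b ∈ N := by rw [h]; trivial
    obtain ⟨i, rfl⟩ := mem_zpowers_iff.1 ha
    obtain ⟨j, rfl⟩ := mem_zpowers_iff.1 hb
    apply hab
    rw [← _root_.zpow_add, ← _root_.zpow_add, add_comm]
  have hNmap : N.map (jj : PSL2 →* PGL2) = zpowers x := by
    rw [hN, MonoidHom.map_zpowers, hX]
  have hMN : M ≤ normalizer ((N.map jj : Subgroup PGL2) : Set PGL2) := by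
    rw [hNmap]
    apply le_normalizer_of_conj_mem
    intro m hm y hy
    obtain ⟨j, rfl⟩ := mem_zpowers_iff.1 hy
    rw [← conj_zpow]
    rcases hconj_x m hm with h | h
    · rw [h]; exact zpow_mem (mem_zpowers _) j
    · rw [h]; exact zpow_mem (inv_mem (mem_zpowers _)) j
  have hA := comap_eq_normalizer (by omega) M hM N hN1 hN2 hMN
  -- `x` is semisimple
  have hxk : (pr X : PSL2) ^ k = 1 := by
    apply jj_injective
    rw [map_pow, hX, map_one, hx, ← pow_two, ← pow_mul, mul_comm, pow_mul, ← hocG,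
      pow_orderOf_eq_one, one_pow]
  have hss : X.1.trace ^ 2 ≠ 4 := by
    intro h4
    have hxp : (pr X : PSL2) ^ p = 1 := by
      have h2 : (X.1.trace - 2) * (X.1.trace + 2) = 0 := by linear_combination h4
      rcases mul_eq_zero.1 h2 with h | h
      · have := Cfsg.Agent.H9.DicksonUN.pow_p_of_trace p X (by linear_combination h)
        rw [← map_pow, this, map_one]
      · have htr : (-X).1.trace = 2 := by
          rw [Matrix.SpecialLinearGroup.coe_neg, Matrix.trace_neg]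
          linear_combination -h
        have := Cfsg.Agent.H9.DicksonUN.pow_p_of_trace p (-X) htr
        rw [← Cfsg.Agent.H9.KleinPSL2.pr_neg, ← map_pow, this, map_one]
    have h1 : orderOf (pr X : PSL2) ∣ Nat.gcd k p :=
      Nat.dvd_gcd (orderOf_dvd_of_pow_eq_one hxk) (orderOf_dvd_of_pow_eq_one hxp)
    rw [hkp, Nat.dvd_one, orderOf_eq_one_iff] at h1
    exact hX1 h1
  have hns := Cfsg.Agent.H9.TwoTransv.nonScalar_of_ss X hss
  have hAeq : M.comap (jj : PSL2 →* PGL2) = (Nx X).map (pr : SL2 →* PSL2) := by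
    apply eq_map_Nx hodd X
    · intro a ha
      have haM : jj a ∈ M := ha
      rcases hconj_x _ haM with h | h
      · left
        apply jj_injective
        rw [map_mul, map_mul, map_inv, hX, h]
      · right
        apply jj_injective
        rw [map_mul, map_mul, map_inv, map_inv, hX, h]
    · rw [hA]
  -- the order
  have hcen : Nat.card (Subgroup.center SL2) = 2 := by
    rw [Cfsg.Agent.H9.DicksonConcl.card_center, Cfsg.Agent.H9.QCases.gcd_two_of_odd _ hodd]
  obtain ⟨r, hr⟩ := hodd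
  obtain ⟨a, ha2, haT, haq⟩ : ∃ a : ℕ, 2 ≤ a ∧ Nat.card (Tor X) = 2 * a ∧
      (2 * a = Fintype.card F - 1 ∨ 2 * a = Fintype.card F + 1) := by
    rcases card_Tor X hns hss with h | h
    · exact ⟨r, by omega, by rw [h]; omega, Or.inl (by omega)⟩
    · exact ⟨r + 1, by omega, by rw [h]; omega, Or.inr (by omega)⟩
  obtain ⟨eD⟩ := dihedral_Nx X hns hss a ha2 (by rw [hcen, haT])
  haveI : NeZero a := ⟨by omega⟩
  exact ⟨a, ha2, haq, ⟨(MulEquiv.subgroupCongr hAeq).trans eD⟩⟩

omit [Fintype F] in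
/-- the intersection with `PSL₂` inside an abstract copy -/
theorem comap_equiv (M : Subgroup PGL2) {X : Type*} [Group X] (e : M ≃* X) :
    Nonempty (M.comap (jj : PSL2 →* PGL2) ≃*
      (((LL : Subgroup PGL2).subgroupOf M).map e.toMonoidHom : Subgroup X)) := by
  set A : Subgroup PSL2 := M.comap jj with hA
  set M₀ : Subgroup M := (LL : Subgroup PGL2).subgroupOf M with hM₀
  have e1 : A ≃* (M ⊓ LL : Subgroup PGL2) :=
    (A.equivMapOfInjective _ jj_injective).trans (MulEquiv.subgroupCongr (map_comap_jj M))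
  have e2 : M₀ ≃* (M ⊓ LL : Subgroup PGL2) := by
    have h1 : M₀ = (M ⊓ LL : Subgroup PGL2).subgroupOf M := by
      rw [hM₀, inf_comm, Subgroup.inf_subgroupOf_right]
    exact (MulEquiv.subgroupCongr h1).trans (Subgroup.subgroupOfEquivOfLe inf_le_left)
  have e3 : M₀ ≃* (M₀.map e.toMonoidHom : Subgroup X) := M₀.equivMapOfInjective _ e.injective
  exact ⟨e1.trans (e2.symm.trans e3)⟩

/-- the structure of the intersection of a maximal subgroup with `PSL₂` -/
theorem typeA (hodd : Odd (Fintype.card F)) (h5 : 5 ≤ Fintype.card F) (p : ℕ)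
    [Fact p.Prime] [CharP F p] (M : Subgroup PGL2) (hM : IsCoatom M)
    (hML : ¬ (LL : Subgroup PGL2) ≤ M) :
    (2 * Nat.card (M.comap (jj : PSL2 →* PGL2)) = Fintype.card F * (Fintype.card F - 1)) ∨
    (Fintype.card F ≠ 5 ∧ ∃ a : ℕ, 2 * a = Fintype.card F - 1 ∧
      Nonempty (M.comap (jj : PSL2 →* PGL2) ≃* DihedralGroup a)) ∨
    (∃ a : ℕ, 2 * a = Fintype.card F + 1 ∧
      Nonempty (M.comap (jj : PSL2 →* PGL2) ≃* DihedralGroup a)) ∨
    ((Fintype.card F).Prime ∧ (Fintype.card F % 8 = 3 ∨ Fintype.card F % 8 = 5) ∧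
      Nonempty (M.comap (jj : PSL2 →* PGL2) ≃* alternatingGroup (Fin 4))) ∨
    (∃ (F₀ : Type) (_ : Field F₀) (_ : Fintype F₀) (r : ℕ), r.Prime ∧ Odd r ∧
      Fintype.card F = Fintype.card F₀ ^ r ∧
      2 * Nat.card (M.comap (jj : PSL2 →* PGL2)) =
        Fintype.card F₀ * (Fintype.card F₀ ^ 2 - 1)) := by
  have hc := card_eq hodd M hM hML
  have sub : (∃ (F₀ : Type) (_ : Field F₀) (_ : Fintype F₀) (r : ℕ), r.Prime ∧ Odd r ∧
      Fintype.card F = Fintype.card F₀ ^ r ∧
      Nonempty (M ≃* Matrix.ProjGenLinGroup (Fin 2) F₀)) →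
      (∃ (F₀ : Type) (_ : Field F₀) (_ : Fintype F₀) (r : ℕ), r.Prime ∧ Odd r ∧
      Fintype.card F = Fintype.card F₀ ^ r ∧
      2 * Nat.card (M.comap (jj : PSL2 →* PGL2)) =
        Fintype.card F₀ * (Fintype.card F₀ ^ 2 - 1)) := by
    rintro ⟨F₀, i1, i2, r, hr, hro, hq, ⟨e⟩⟩
    refine ⟨F₀, i1, i2, r, hr, hro, hq, ?_⟩
    rw [← hc, Nat.card_congr e.toEquiv]
    exact card_PGL
  rcases Cfsg.Agent.H9.PGLConcl.concl2_PGL p hodd M with
    hab | ⟨k, hk3, hkp, ⟨e⟩⟩ | ⟨N, hNn, hNp, hne⟩ | hidx | ⟨⟨e⟩⟩ | ⟨K', _, _, m, hm, ⟨e⟩⟩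
  · exact (abelian_case hodd h5 M hM hML hab).elim
  · obtain ⟨a, ha2, haq, ⟨eA⟩⟩ := dihedral_case' hodd h5 p M hM hML k hk3 hkp e
    haveI : NeZero a := ⟨by omega⟩
    haveI : NeZero k := ⟨by omega⟩
    have hcA : Nat.card (M.comap (jj : PSL2 →* PGL2)) = 2 * a := by
      rw [Nat.card_congr eA.toEquiv, DihedralGroup.nat_card]
    have hcM : Nat.card M = 2 * k := by
      rw [Nat.card_congr e.toEquiv, DihedralGroup.nat_card]
    rcases dihedral_case hodd h5 p M hM hML k hk3 hkp e with ⟨hk, hq5⟩ | hk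
    · right; left
      exact ⟨hq5, a, by omega, ⟨eA⟩⟩
    · right; right; left
      exact ⟨a, by omega, ⟨eA⟩⟩
  · left
    have := borel_case hodd h5 p M hM hML N hNn hNp hne
    rw [← this, hc]
  · exfalso
    exact hidx _ (relIndex_LL hodd M hM hML)
  · rcases s4_case hodd h5 p M hM hML e with ⟨hq, hmod⟩ | h
    · right; right; right; left
      refine ⟨hq, hmod, ?_⟩
      obtain ⟨e1⟩ := comap_equiv M e
      have hidx : (((LL : Subgroup PGL2).subgroupOf M).map e.toMonoidHom).index = 2 := by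
        rw [Subgroup.index_map_of_bijective e.bijective]
        exact relIndex_LL hodd M hM hML
      have := Equiv.Perm.eq_alternatingGroup_of_index_eq_two hidx
      exact ⟨e1.trans (MulEquiv.subgroupCongr this)⟩
    · right; right; right; right
      exact sub h
  · right; right; right; right
    exact sub (pgl_case hodd h5 p M hM hML K' m hm e)

end Cfsg.Agent.H9.PGLMeet
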