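import Mathlib
import Cfsg.Agent.H9.PGLMeet
import Cfsg.Agent.H9.PGLArith

set_option autoImplicit false

/-! The intersection of a maximal subgroup of `PGL₂(q)` with `PSL₂(q)` is maximal: case analysis
against the list of maximal subgroups of `PSL₂(q)`. -/

namespace Cfsg.Agent.H9.PGLMeet

open Matrix Subgroup
open Cfsg.Agent.H9.AutPSL2
open Cfsg.Agent.H9.PGL
open Cfsg.Agent.H9.PGLArith

universe u

variable {F : Type u} [Field F] [Fintype F]

local notation "SL2" => Matrix.SpecialLinearGroup (Fin 2) F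
local notation "PSL2" => Matrix.ProjectiveSpecialLinearGroup (Fin 2) F
local notation "PGL2" => Matrix.ProjGenLinGroup (Fin 2) F

/-- the type of a maximal subgroup of `PSL₂(q)`, with its order -/
def TType' (F : Type u) [Field F] [Fintype F] (p : ℕ)
    (T : Subgroup (Matrix.ProjectiveSpecialLinearGroup (Fin 2) F)) : Prop :=
  2 * Nat.card T = Fintype.card F * (Fintype.card F - 1) ∨
  (13 ≤ Fintype.card F ∧ Nat.card T = Fintype.card F - 1 ∧
    ∃ k : ℕ, Nonempty (T ≃* DihedralGroup k)) ∨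
  (Fintype.card F ≠ 7 ∧ Fintype.card F ≠ 9 ∧ Nat.card T = Fintype.card F + 1 ∧
    ∃ k : ℕ, Nonempty (T ≃* DihedralGroup k)) ∨
  (∃ (F₀ : Type) (_ : Field F₀) (_ : Fintype F₀), Fintype.card F = Fintype.card F₀ ^ 2 ∧
    Nat.card T = Fintype.card F₀ * (Fintype.card F₀ ^ 2 - 1) ∧
    Nonempty (T ≃* Matrix.ProjGenLinGroup (Fin 2) F₀)) ∨
  (∃ (F₀ : Type) (_ : Field F₀) (_ : Fintype F₀) (r : ℕ), r.Prime ∧ Odd r ∧
    Fintype.card F = Fintype.card F₀ ^ r ∧
    2 * Nat.card T = Fintype.card F₀ * (Fintype.card F₀ ^ 2 - 1)) ∨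
  ((Fintype.card F % 10 = 1 ∨ Fintype.card F % 10 = 9) ∧
    (Fintype.card F = p ∨ Fintype.card F = p ^ 2) ∧ Nat.card T = 60 ∧
    Nonempty (T ≃* alternatingGroup (Fin 5))) ∨
  (Fintype.card F = p ∧ (p % 8 = 3 ∨ p % 8 = 5) ∧ Nat.card T = 12 ∧
    Nonempty (T ≃* alternatingGroup (Fin 4))) ∨
  (Fintype.card F = p ∧ (p % 8 = 1 ∨ p % 8 = 7) ∧ Nat.card T = 24)

theorem odd_of_pow {n r : ℕ} (h : Odd (n ^ r)) (hr : r ≠ 0) : Odd n := by
  rcases Nat.even_or_odd n with h1 | h1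
  · exfalso
    have := (Nat.even_pow.2 ⟨h1, hr⟩)
    exact (Nat.not_even_iff_odd.2 h) this
  · exact h1

theorem ttype' (p : ℕ) [Fact p.Prime] [CharP F p] (hodd : Odd (Fintype.card F))
    (h5 : 5 ≤ Fintype.card F) (T : Subgroup PSL2) (hT : IsCoatom T) : TType' F p T := by
  rcases Cfsg.Agent.S5892.result p hodd h5 T hT with h | ⟨h13, k, h2k, ⟨e⟩⟩ |
    ⟨h7, h9, k, h2k, ⟨e⟩⟩ | ⟨F₀, i1, i2, hq, ⟨e⟩⟩ | ⟨F₀, i1, i2, r, hr, hro, hq, ⟨e⟩⟩ |
    ⟨hmod, hq, ⟨e⟩⟩ | ⟨hq, hmod, -, ⟨e⟩⟩ | ⟨hq, hmod, ⟨e⟩⟩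
  · left; exact h
  · right; left
    haveI : NeZero k := ⟨by omega⟩
    refine ⟨h13, ?_, k, ⟨e⟩⟩
    rw [Nat.card_congr e.toEquiv, DihedralGroup.nat_card, h2k]
  · right; right; left
    haveI : NeZero k := ⟨by omega⟩
    refine ⟨h7, h9, ?_, k, ⟨e⟩⟩
    rw [Nat.card_congr e.toEquiv, DihedralGroup.nat_card, h2k]
  · right; right; right; left
    refine ⟨F₀, i1, i2, hq, ?_, ⟨e⟩⟩
    rw [Nat.card_congr e.toEquiv]
    exact card_PGL
  · right; right; right; right; left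
    refine ⟨F₀, i1, i2, r, hr, hro, hq, ?_⟩
    rw [Nat.card_congr e.toEquiv]
    apply Cfsg.Agent.H9.QDih.card_PSL2_odd
    rw [hq] at hodd
    exact odd_of_pow hodd hr.ne_zero
  · right; right; right; right; right; left
    refine ⟨hmod, ?_, ?_, ⟨e⟩⟩
    · rcases hq with h | ⟨h, -⟩
      · exact Or.inl h
      · exact Or.inr h
    · rw [Nat.card_congr e.toEquiv, Cfsg.Agent.H9.QSmall.card_A5]
  · right; right; right; right; right; right; left
    refine ⟨hq, hmod, ?_, ⟨e⟩⟩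
    rw [Nat.card_congr e.toEquiv, Cfsg.Agent.H9.QSmall.card_A4]
  · right; right; right; right; right; right; right
    refine ⟨hq, hmod, ?_⟩
    rw [Nat.card_congr e.toEquiv, Cfsg.Agent.H9.QSmall.card_S4]

section structure_lemmas

variable {G : Type*} [Group G]

/-- the composite embedding of an abstract copy of a subgroup into an abstract copy of an
overgroup -/
noncomputable def emb (A T : Subgroup G) (hAT : A ≤ T) {X Y : Type*} [Group X] [Group Y]
    (eA : A ≃* X) (eT : T ≃* Y) : X →* Y :=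
  (eT.toMonoidHom.comp (Subgroup.inclusion hAT)).comp eA.symm.toMonoidHom

theorem emb_injective (A T : Subgroup G) (hAT : A ≤ T) {X Y : Type*} [Group X] [Group Y]
    (eA : A ≃* X) (eT : T ≃* Y) : Function.Injective (emb A T hAT eA eT) := by
  intro x y h
  have h1 : eT (Subgroup.inclusion hAT (eA.symm x)) = eT (Subgroup.inclusion hAT (eA.symm y)) := h
  exact eA.symm.injective (Subgroup.inclusion_injective hAT (eT.injective h1))

theorem dih_sq (k : ℕ) (g : DihedralGroup k) : ∃ i, g * g = DihedralGroup.r i := by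
  rcases g with j | j
  · exact ⟨j + j, by rw [DihedralGroup.r_mul_r]⟩
  · exact ⟨j - j, by rw [DihedralGroup.sr_mul_sr]⟩

theorem A4_noncomm : ∃ x y : alternatingGroup (Fin 4), x * y ≠ y * x := by decide

/-- `A₄` is not a subgroup of a dihedral group -/
theorem A4_not_le_dihedral (A T : Subgroup G) (hAT : A ≤ T)
    (eA : A ≃* alternatingGroup (Fin 4)) (k : ℕ) (eT : T ≃* DihedralGroup k) : False := by
  set φ := emb A T hAT eA eT with hφ
  have hinj := emb_injective A T hAT eA eT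
  have hrot : ∀ x : alternatingGroup (Fin 4), ∃ i, φ x = DihedralGroup.r i := by
    intro x
    obtain ⟨a, b, rfl⟩ := Cfsg.Agent.H9.PGLAbs.A4_sq x
    obtain ⟨i, hi⟩ := dih_sq k (φ a)
    obtain ⟨j, hj⟩ := dih_sq k (φ b)
    refine ⟨i + j, ?_⟩
    rw [map_mul, map_mul, map_mul, hi, hj, DihedralGroup.r_mul_r]
  obtain ⟨x, y, hxy⟩ := A4_noncomm
  apply hxy
  apply hinj
  obtain ⟨i, hi⟩ := hrot x
  obtain ⟨j, hj⟩ := hrot y
  rw [map_mul, map_mul, hi, hj, DihedralGroup.r_mul_r, DihedralGroup.r_mul_r, add_comm]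

/-- `D₃` is not a subgroup of `A₄` -/
theorem D3_not_le_A4 (A T : Subgroup G) (hAT : A ≤ T)
    (eA : A ≃* DihedralGroup 3) (eT : T ≃* alternatingGroup (Fin 4)) : False := by
  set φ := emb A T hAT eA eT with hφ
  have hinj := emb_injective A T hAT eA eT
  have h1 : (DihedralGroup.r 1 : DihedralGroup 3) ^ 3 = 1 := by decide
  have h2 : (DihedralGroup.sr 0 : DihedralGroup 3) ^ 2 = 1 := by decide
  have h3 : (DihedralGroup.sr 0 : DihedralGroup 3) * DihedralGroup.r 1 *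
      (DihedralGroup.sr 0)⁻¹ = (DihedralGroup.r 1)⁻¹ := by decide
  have h4 : (DihedralGroup.r 1 : DihedralGroup 3) ≠ 1 := by decide
  have h5 : (DihedralGroup.sr 0 : DihedralGroup 3) ≠ 1 := by decide
  rcases Cfsg.Agent.H9.PSL2MaxAux.A4_no_D3 (φ (DihedralGroup.r 1)) (φ (DihedralGroup.sr 0))
    (by rw [← map_pow, h1, map_one]) (by rw [← map_pow, h2, map_one])
    (by rw [← map_inv, ← map_mul, ← map_mul, h3, map_inv]) with h | h
  · exact h4 (hinj (by rw [h, map_one]))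
  · exact h5 (hinj (by rw [h, map_one]))

/-- `D₁₅` is not a subgroup of `A₅` -/
theorem D15_not_le_A5 (A T : Subgroup G) (hAT : A ≤ T)
    (eA : A ≃* DihedralGroup 15) (eT : T ≃* alternatingGroup (Fin 5)) : False := by
  set φ := emb A T hAT eA eT with hφ
  have hinj := emb_injective A T hAT eA eT
  have h1 : (DihedralGroup.r 1 : DihedralGroup 15) ^ 15 = 1 := by decide
  have h3 : (DihedralGroup.r 1 : DihedralGroup 15) ^ 3 ≠ 1 := by decide
  have h5 : (DihedralGroup.r 1 : DihedralGroup 15) ^ 5 ≠ 1 := by decide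
  obtain ⟨-, -, -, h⟩ := Cfsg.Agent.H9.PSL2MaxAux.A5_orders (φ (DihedralGroup.r 1))
  rcases h (by rw [← map_pow, h1, map_one]) with h | h
  · exact h3 (hinj (by rw [map_pow, h, map_one]))
  · exact h5 (hinj (by rw [map_pow, h, map_one]))

/-- a dihedral subgroup of a copy of `PGL₂(q₁)` -/
theorem dih_le_PGL (p : ℕ) [Fact p.Prime] (F₁ : Type) [Field F₁] [Fintype F₁] [CharP F₁ p]
    (A T : Subgroup G) (hAT : A ≤ T) (a : ℕ) [NeZero a] (eA : A ≃* DihedralGroup a)
    (eT : T ≃* Matrix.ProjGenLinGroup (Fin 2) F₁) (hcop : Nat.Coprime a p) :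
    a ∣ Fintype.card F₁ - 1 ∨ a ∣ Fintype.card F₁ + 1 := by
  set φ := emb A T hAT eA eT with hφ
  have hinj := emb_injective A T hAT eA eT
  have ho : orderOf (φ (DihedralGroup.r 1)) = a := by
    rw [orderOf_injective φ hinj, DihedralGroup.orderOf_r_one]
  have := Cfsg.Agent.H9.PSL2MaxAux.pgl_order p (φ (DihedralGroup.r 1)) (by rw [ho]; exact hcop)
  rwa [ho] at this

end structure_lemmas

end Cfsg.Agent.H9.PGLMeet
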