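import Mathlib
import Cfsg.Agent.H9.PGLMeet2

set_option autoImplicit false

/-! The intersection of a maximal subgroup of `PGL₂(q)` with `PSL₂(q)` is maximal: the cases. -/

namespace Cfsg.Agent.H9.PGLMeet

open Matrix Subgroup
open Cfsg.Agent.H9.AutPSL2
open Cfsg.Agent.H9.PGL
open Cfsg.Agent.H9.PGLArith

universe u

variable {F : Type u} [Field F] [Fintype F]

local notation "SL2" => Matrix.SpecialLinearGroup (Fin 2) F
local notation "PSL2" => Matrix.ProjectiveSpecialLinearGroup (Fin 2) F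
local notation "PGL2" => Matrix.ProjGenLinGroup (Fin 2) F

theorem three_le_of_odd_prime {r : ℕ} (hr : r.Prime) (hro : Odd r) : 3 ≤ r := by
  have := hr.two_le
  obtain ⟨t, ht⟩ := hro
  omega

theorem three_le_card_of_pow {F₀ : Type} [Field F₀] [Fintype F₀] {q r : ℕ} (hodd : Odd q)
    (hq : q = Fintype.card F₀ ^ r) (hr : r ≠ 0) : 3 ≤ Fintype.card F₀ := by
  have h1 : 1 < Fintype.card F₀ := Fintype.one_lt_card
  rw [hq] at hodd
  obtain ⟨t, ht⟩ := odd_of_pow hodd hr
  omega

/-- the Borel case -/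
theorem caseA1 (p : ℕ) (hodd : Odd (Fintype.card F)) (h5 : 5 ≤ Fintype.card F)
    (A T : Subgroup PSL2) (hAT : A ≤ T)
    (hA : 2 * Nat.card A = Fintype.card F * (Fintype.card F - 1)) (hT : TType' F p T) :
    A = T := by
  apply Subgroup.eq_of_le_of_card_ge hAT
  apply le_of_eq
  symm
  apply eq_of_dvd_of_lt (Subgroup.card_dvd_of_le hAT) Nat.card_pos
  rw [hA]
  have hQ4 := mul_le_qq (Fintype.card F) 4 (by omega)
  rcases hT with h | ⟨h13, hc, -⟩ | ⟨h7, h9, hc, -⟩ | ⟨F₀, _, _, hq, hc, -⟩ |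
    ⟨F₀, _, _, r, hr, hro, hq, hc⟩ | ⟨hmod, -, hc, -⟩ | ⟨hq, hmod, hc, -⟩ | ⟨hq, hmod, hc⟩
  · omega
  · omega
  · omega
  · have hq1 : 1 < Fintype.card F₀ := Fintype.one_lt_card
    have hpos : 0 < Fintype.card F₀ * (Fintype.card F₀ ^ 2 - 1) := by
      rw [← hc]; exact Nat.card_pos
    rw [hc, hq]
    have e : Fintype.card F₀ ^ 2 * (Fintype.card F₀ ^ 2 - 1) =
        Fintype.card F₀ * (Fintype.card F₀ * (Fintype.card F₀ ^ 2 - 1)) := by ring
    rw [e]
    nlinarith
  · have hr3 := three_le_of_odd_prime hr hro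
    have hq3 := three_le_card_of_pow hodd hq hr.ne_zero
    have := small_T5 (Fintype.card F₀) r hr3 (by omega)
    rw [← hq] at this
    omega
  · have := mul_le_qq (Fintype.card F) 8 (by omega)
    omega
  · omega
  · have := mul_le_qq (Fintype.card F) 6 (by omega)
    omega

theorem divisors_60 : Nat.divisors 60 = {1, 2, 3, 4, 5, 6, 10, 12, 15, 20, 30, 60} := by decide

theorem divisors_24 : Nat.divisors 24 = {1, 2, 3, 4, 6, 8, 12, 24} := by decide

theorem divisors_12 : Nat.divisors 12 = {1, 2, 3, 4, 6, 12} := by decide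

/-- the split dihedral case -/
theorem caseA2 (p : ℕ) [Fact p.Prime] [CharP F p] (hodd : Odd (Fintype.card F))
    (h5 : 5 ≤ Fintype.card F) (hq5 : Fintype.card F ≠ 5) (h7 : Fintype.card F ≠ 7)
    (h9 : Fintype.card F ≠ 9) (h11 : Fintype.card F ≠ 11)
    (A T : Subgroup PSL2) (hAT : A ≤ T) (a : ℕ) (h2a : 2 * a = Fintype.card F - 1)
    (eA : A ≃* DihedralGroup a) (hT : TType' F p T) : A = T := by
  have hpp : p.Prime := Fact.out
  have hq13 : 13 ≤ Fintype.card F := by
    obtain ⟨r, hr⟩ := hodd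
    omega
  haveI : NeZero a := ⟨by omega⟩
  have hcA : Nat.card A = Fintype.card F - 1 := by
    rw [Nat.card_congr eA.toEquiv, DihedralGroup.nat_card, h2a]
  have hdvd := Subgroup.card_dvd_of_le hAT
  rw [hcA] at hdvd
  apply Subgroup.eq_of_le_of_card_ge hAT
  apply le_of_eq
  symm
  rw [hcA]
  rcases hT with h | ⟨h13, hc, -⟩ | ⟨-, -, hc, -⟩ | ⟨F₀, _, _, hq, hc, ⟨eT⟩⟩ |
    ⟨F₀, _, _, r, hr, hro, hq, hc⟩ | ⟨hmod, hqp, hc, ⟨eT⟩⟩ | ⟨hq, hmod, hc, -⟩ | ⟨hq, hmod, hc⟩
  · exfalso
    obtain ⟨j, hj⟩ := hdvd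
    rw [hj] at h
    have h1 : (Fintype.card F - 1) * (2 * j) = (Fintype.card F - 1) * Fintype.card F := by
      rw [mul_comm (Fintype.card F - 1) (Fintype.card F), ← h]; ring
    have h2 := Nat.eq_of_mul_eq_mul_left (by omega) h1
    obtain ⟨r, hr⟩ := hodd
    omega
  · rw [hc]
  · apply eq_of_dvd_of_lt hdvd Nat.card_pos
    rw [hc]; omega
  · -- `PGL₂(q₁)`
    exfalso
    have hq1 : 1 < Fintype.card F₀ := Fintype.one_lt_card
    obtain ⟨f, -, hf⟩ := FiniteField.card F p
    haveI : CharP F₀ p := Cfsg.Agent.H9.PSL2MaxDih.charP_of_card_pow p hpp 2 f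
      (by rw [← hq, hf]) (by norm_num)
    have hpq : p ∣ Fintype.card F := by rw [hf]; exact dvd_pow_self p (PNat.ne_zero f)
    have hcop : Nat.Coprime a p := by
      rw [Nat.coprime_comm, hpp.coprime_iff_not_dvd]
      intro hpa
      have h1 : p ∣ Fintype.card F - 1 := by rw [← h2a]; exact Dvd.dvd.mul_left hpa 2
      have h2 : p ∣ Fintype.card F - (Fintype.card F - 1) := Nat.dvd_sub hpq h1
      have e1 : Fintype.card F - (Fintype.card F - 1) = 1 := by omega
      rw [e1] at h2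
      exact hpp.one_lt.ne' (Nat.dvd_one.1 h2)
    have hle : a ≤ Fintype.card F₀ + 1 := by
      rcases dih_le_PGL p F₀ A T hAT a eA eT hcop with h | h
      · have := Nat.le_of_dvd (by omega) h
        omega
      · exact Nat.le_of_dvd (by omega) h
    -- `q₁² - 1 ≤ 2 q₁ + 2`
    have h3 : Fintype.card F₀ ^ 2 ≤ 2 * Fintype.card F₀ + 3 := by
      rw [← hq]; omega
    have h4 : Fintype.card F₀ ≤ 3 := by nlinarith
    have h5' : Fintype.card F₀ ^ 2 ≤ 3 ^ 2 := Nat.pow_le_pow_left h4 2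
    rw [← hq] at h5'
    omega
  · exfalso
    have hr3 := three_le_of_odd_prime hr hro
    have hq3 := three_le_card_of_pow hodd hq hr.ne_zero
    have := small_T5 (Fintype.card F₀) r hr3 (by omega)
    rw [← hq, ← hc] at this
    have hle := Nat.le_of_dvd Nat.card_pos hdvd
    omega
  · -- `A₅`
    rw [hc] at hdvd ⊢
    have hmem : Fintype.card F - 1 ∈ Nat.divisors 60 := Nat.mem_divisors.2 ⟨hdvd, by norm_num⟩
    rw [divisors_60] at hmem
    simp only [Finset.mem_insert, Finset.mem_singleton] at hmem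
    have hcases : Fintype.card F = 21 ∨ Fintype.card F = 31 ∨ Fintype.card F = 61 := by omega
    rcases hcases with h | h | h
    · exfalso
      rcases hqp with h1 | h1
      · rw [h] at h1
        rw [← h1] at hpp
        exact absurd hpp (by norm_num)
      · rw [h] at h1
        have : p ≤ 4 := by nlinarith
        have h2 := hpp.two_le
        interval_cases p <;> omega
    · exfalso
      have ha : a = 15 := by omega
      subst ha
      exact D15_not_le_A5 A T hAT eA eT
    · omega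
  · rw [hc]
    rw [hc] at hdvd
    have := Nat.le_of_dvd (by norm_num) hdvd
    obtain ⟨r, hr⟩ := hodd
    omega
  · exfalso
    rw [hc] at hdvd
    have hmem : Fintype.card F - 1 ∈ Nat.divisors 24 := Nat.mem_divisors.2 ⟨hdvd, by norm_num⟩
    rw [divisors_24] at hmem
    simp only [Finset.mem_insert, Finset.mem_singleton] at hmem
    have hcases : Fintype.card F = 13 ∨ Fintype.card F = 25 := by omega
    rcases hcases with h | h
    · omega
    · rw [h] at hq
      rw [← hq] at hpp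
      exact absurd hpp (by norm_num)

/-- the non-split dihedral case -/
theorem caseA3 (p : ℕ) [Fact p.Prime] [CharP F p] (hodd : Odd (Fintype.card F))
    (h5 : 5 ≤ Fintype.card F) (h7 : Fintype.card F ≠ 7)
    (h9 : Fintype.card F ≠ 9) (h11 : Fintype.card F ≠ 11)
    (h40 : (Fintype.card F).Prime → Fintype.card F % 40 ∉ ({11, 19, 21, 29} : Finset ℕ))
    (A T : Subgroup PSL2) (hAT : A ≤ T) (a : ℕ) (h2a : 2 * a = Fintype.card F + 1)
    (eA : A ≃* DihedralGroup a) (hT : TType' F p T) : A = T := by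
  have hpp : p.Prime := Fact.out
  haveI : NeZero a := ⟨by omega⟩
  have hcA : Nat.card A = Fintype.card F + 1 := by
    rw [Nat.card_congr eA.toEquiv, DihedralGroup.nat_card, h2a]
  have hdvd := Subgroup.card_dvd_of_le hAT
  rw [hcA] at hdvd
  apply Subgroup.eq_of_le_of_card_ge hAT
  apply le_of_eq
  symm
  rw [hcA]
  rcases hT with h | ⟨h13, hc, -⟩ | ⟨-, -, hc, -⟩ | ⟨F₀, _, _, hq, hc, -⟩ |
    ⟨F₀, _, _, r, hr, hro, hq, hc⟩ | ⟨hmod, hqp, hc, -⟩ | ⟨hq, hmod, hc, ⟨eT⟩⟩ | ⟨hq, hmod, hc⟩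
  · exfalso
    apply not_dvd_qq (Fintype.card F) (by omega)
    rw [← h]
    exact Dvd.dvd.mul_left hdvd 2
  · exfalso
    have hle := Nat.le_of_dvd Nat.card_pos hdvd
    omega
  · rw [hc]
  · exfalso
    have hq1 : 1 < Fintype.card F₀ := Fintype.one_lt_card
    apply not_dvd_T4 (Fintype.card F₀) (by omega)
    rw [hc, hq] at hdvd
    exact hdvd
  · exfalso
    have hr3 := three_le_of_odd_prime hr hro
    have hq3 := three_le_card_of_pow hodd hq hr.ne_zero
    have := small_T5 (Fintype.card F₀) r hr3 (by omega)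
    rw [← hq, ← hc] at this
    have hle := Nat.le_of_dvd Nat.card_pos hdvd
    omega
  · -- `A₅`
    rw [hc] at hdvd ⊢
    have hmem : Fintype.card F + 1 ∈ Nat.divisors 60 := Nat.mem_divisors.2 ⟨hdvd, by norm_num⟩
    rw [divisors_60] at hmem
    simp only [Finset.mem_insert, Finset.mem_singleton] at hmem
    have hcases : Fintype.card F = 19 ∨ Fintype.card F = 29 ∨ Fintype.card F = 59 := by omega
    have hprime : Fintype.card F ≠ 59 → (Fintype.card F).Prime := by
      intro h59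
      rcases hqp with h1 | h1
      · rw [h1]; exact hpp
      · exfalso
        have : p ≤ 5 := by
          rcases hcases with h | h | h
          · rw [h] at h1; nlinarith
          · rw [h] at h1; nlinarith
          · exact absurd h h59
        have h2 := hpp.two_le
        interval_cases p <;> omega
    rcases hcases with h | h | h
    · exfalso
      have := h40 (hprime (by omega))
      rw [h] at this
      simp at this
    · exfalso
      have := h40 (hprime (by omega))
      rw [h] at this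
      simp at this
    · omega
  · -- `A₄`
    rw [hc] at hdvd ⊢
    have hle := Nat.le_of_dvd (by norm_num) hdvd
    have hmem : Fintype.card F + 1 ∈ Nat.divisors 12 := Nat.mem_divisors.2 ⟨hdvd, by norm_num⟩
    rw [divisors_12] at hmem
    simp only [Finset.mem_insert, Finset.mem_singleton] at hmem
    have hcases : Fintype.card F = 5 ∨ Fintype.card F = 11 := by omega
    rcases hcases with h | h
    · exfalso
      have ha : a = 3 := by omega
      subst ha
      exact D3_not_le_A4 A T hAT eA eT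
    · omega
  · rw [hc] at hdvd ⊢
    have hmem : Fintype.card F + 1 ∈ Nat.divisors 24 := Nat.mem_divisors.2 ⟨hdvd, by norm_num⟩
    rw [divisors_24] at hmem
    simp only [Finset.mem_insert, Finset.mem_singleton] at hmem
    omega

/-- the case `A₄` -/
theorem caseA4 (p : ℕ) [Fact p.Prime] [CharP F p] (hodd : Odd (Fintype.card F))
    (h5 : 5 ≤ Fintype.card F)
    (h40 : (Fintype.card F).Prime → Fintype.card F % 40 ∉ ({11, 19, 21, 29} : Finset ℕ))
    (A T : Subgroup PSL2) (hAT : A ≤ T) (hprime : (Fintype.card F).Prime)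
    (hmod8 : Fintype.card F % 8 = 3 ∨ Fintype.card F % 8 = 5)
    (eA : A ≃* alternatingGroup (Fin 4)) (hT : TType' F p T) : A = T := by
  have hcA : Nat.card A = 12 := by
    rw [Nat.card_congr eA.toEquiv, Cfsg.Agent.H9.QSmall.card_A4]
  have hdvd := Subgroup.card_dvd_of_le hAT
  rw [hcA] at hdvd
  apply Subgroup.eq_of_le_of_card_ge hAT
  apply le_of_eq
  symm
  rw [hcA]
  rcases hT with h | ⟨h13, hc, k, ⟨eT⟩⟩ | ⟨-, -, hc, k, ⟨eT⟩⟩ | ⟨F₀, _, _, hq, hc, -⟩ |
    ⟨F₀, _, _, r, hr, hro, hq, hc⟩ | ⟨hmod, hqp, hc, -⟩ | ⟨hq, hmod, hc, -⟩ | ⟨hq, hmod, hc⟩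
  · exfalso
    apply not_eight_dvd (Fintype.card F) hmod8
    rw [← h]
    obtain ⟨j, hj⟩ := hdvd
    exact ⟨3 * j, by rw [hj]; ring⟩
  · exact (A4_not_le_dihedral A T hAT eA k eT).elim
  · exact (A4_not_le_dihedral A T hAT eA k eT).elim
  · exfalso
    rw [hq] at hprime
    exact Nat.Prime.not_prime_pow (le_refl 2) hprime
  · exfalso
    rw [hq] at hprime
    exact Nat.Prime.not_prime_pow hr.two_le hprime
  · exfalso
    have := h40 hprime
    simp only [Finset.mem_insert, Finset.mem_singleton] at this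
    omega
  · rw [hc]
  · exfalso
    omega

/-- the subfield case -/
theorem caseA5 (p : ℕ) [Fact p.Prime] [CharP F p] (hodd : Odd (Fintype.card F))
    (h5 : 5 ≤ Fintype.card F) (A T : Subgroup PSL2) (hAT : A ≤ T)
    (F₀ : Type) [Field F₀] [Fintype F₀] (r : ℕ) (hr : r.Prime) (hro : Odd r)
    (hq : Fintype.card F = Fintype.card F₀ ^ r)
    (hA : 2 * Nat.card A = Fintype.card F₀ * (Fintype.card F₀ ^ 2 - 1)) (hT : TType' F p T) :
    A = T := by
  have hpp : p.Prime := Fact.out
  have hr3 := three_le_of_odd_prime hr hro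
  have hq3 := three_le_card_of_pow hodd hq hr.ne_zero
  have hdvd := Subgroup.card_dvd_of_le hAT
  have hdvd2 : Fintype.card F₀ * (Fintype.card F₀ ^ 2 - 1) ∣ 2 * Nat.card T := by
    rw [← hA]; exact Nat.mul_dvd_mul_left 2 hdvd
  have hq0dvd : Fintype.card F₀ ∣ 2 * Nat.card T := dvd_trans (dvd_mul_right _ _) hdvd2
  apply Subgroup.eq_of_le_of_card_ge hAT
  apply le_of_eq
  symm
  rcases hT with h | ⟨h13, hc, -⟩ | ⟨-, -, hc, -⟩ | ⟨F₁, _, _, hq1, hc, -⟩ |
    ⟨F₁, _, _, s, hs, hso, hq1, hc⟩ | ⟨hmod, hqp, hc, -⟩ | ⟨hq', hmod, hc, -⟩ | ⟨hq', hmod, hc⟩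
  · exfalso
    apply a5_T1 (Fintype.card F₀) r (by omega) hro
    rw [← hq, ← h]
    exact hdvd2
  · exfalso
    apply a5_T23 (Fintype.card F₀) r (Fintype.card F - 1) hq3 (by omega) (Or.inl (by rw [hq]))
    rw [← hc]; exact hq0dvd
  · exfalso
    apply a5_T23 (Fintype.card F₀) r (Fintype.card F + 1) hq3 (by omega) (Or.inr (by rw [hq]))
    rw [← hc]; exact hq0dvd
  · exfalso
    apply a5_T4 (Fintype.card F₀) r (Fintype.card F₁) hq3 hro (by rw [← hq, hq1])
    rw [← hc]; exact hdvd2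
  · -- two subfields
    obtain ⟨f, -, hf⟩ := FiniteField.card F p
    haveI : CharP F₀ p := Cfsg.Agent.H9.PSL2MaxDih.charP_of_card_pow p hpp r f
      (by rw [← hq, hf]) hr.ne_zero
    haveI : CharP F₁ p := Cfsg.Agent.H9.PSL2MaxDih.charP_of_card_pow p hpp s f
      (by rw [← hq1, hf]) hs.ne_zero
    obtain ⟨a, -, ha⟩ := FiniteField.card F₀ p
    obtain ⟨a₁, -, ha₁⟩ := FiniteField.card F₁ p
    have hdiv : (a : ℕ) ∣ (a₁ : ℕ) := by
      apply Cfsg.Agent.H9.PGLCases.dvd_of_card_dvd p a a₁ hpp (PNat.ne_zero a)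
      rw [← ha, ← ha₁, ← hc]
      exact hdvd2
    obtain ⟨t, ht⟩ := hdiv
    have he : (a : ℕ) * r = (a₁ : ℕ) * s := by
      apply Nat.pow_right_injective hpp.two_le
      show p ^ ((a : ℕ) * r) = p ^ ((a₁ : ℕ) * s)
      rw [pow_mul, pow_mul, ← ha, ← ha₁, ← hq, ← hq1]
    rw [ht, mul_assoc] at he
    have he2 : r = t * s := Nat.eq_of_mul_eq_mul_left a.pos he
    have ht1 : t = 1 := by
      rcases (Nat.dvd_prime hr).1 ⟨s, he2⟩ with h | h
      · exact h
      · exfalso
        rw [h] at he2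
        have : s = 1 := by
          have h1 : r * 1 = r * s := by rw [mul_one]; exact he2
          exact (Nat.eq_of_mul_eq_mul_left hr.pos h1).symm
        exact hs.one_lt.ne' this
    rw [ht1, mul_one] at ht
    have hqq : Fintype.card F₁ = Fintype.card F₀ := by rw [ha, ha₁, ht]
    rw [hqq] at hc
    omega
  · exfalso
    apply a5_T6 (Fintype.card F₀) r p hpp hr3
    rw [← hq]; exact hqp
  · exfalso
    rw [hq] at hq'
    rw [← hq'] at hpp
    exact Nat.Prime.not_prime_pow hr.two_le hpp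
  · exfalso
    rw [hq] at hq'
    rw [← hq'] at hpp
    exact Nat.Prime.not_prime_pow hr.two_le hpp

end Cfsg.Agent.H9.PGLMeet
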