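import Mathlib
import Cfsg.Agent.H9.PGLMeet3

set_option autoImplicit false

/-! The intersection of a maximal subgroup of `PGL₂(q)` with `PSL₂(q)` is maximal. -/

namespace Cfsg.Agent.H9.PGLMeet

open Matrix Subgroup
open Cfsg.Agent.H9.AutPSL2
open Cfsg.Agent.H9.PGL
open Cfsg.Agent.H9.PGLCases

universe u

section general

/-- transporting maximality along an embedding -/
theorem coatom_meet {G : Type*} [Group G] (L M : Subgroup G) {P : Type*} [Group P] (j : P →* G)
    (hj : Function.Injective j) (hL : L = j.range) (hA : IsCoatom (M.comap j)) :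
    IsCoatom ((M ⊓ L).subgroupOf L) := by
  subst hL
  have h1 := Cfsg.Agent.H9.PSL2MaxEven.coatom_map (MonoidHom.ofInjective hj) (M.comap j) hA
  have h2 : (M.comap j).map (MonoidHom.ofInjective hj).toMonoidHom =
      (M ⊓ j.range).subgroupOf j.range := by
    ext ⟨y, hy⟩
    constructor
    · rintro ⟨x, hx, hxy⟩
      rw [Subgroup.mem_subgroupOf]
      have h3 : j x = y := congrArg Subtype.val hxy
      show y ∈ M ⊓ j.range
      rw [← h3]
      exact ⟨hx, ⟨x, rfl⟩⟩
    · intro h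
      rw [Subgroup.mem_subgroupOf] at h
      have h3 : y ∈ M ⊓ j.range := h
      obtain ⟨x, rfl⟩ := hy
      exact ⟨x, h3.1, rfl⟩
  rw [← h2]
  exact h1

end general

variable {F : Type u} [Field F] [Fintype F]

local notation "SL2" => Matrix.SpecialLinearGroup (Fin 2) F
local notation "PSL2" => Matrix.ProjectiveSpecialLinearGroup (Fin 2) F
local notation "PGL2" => Matrix.ProjGenLinGroup (Fin 2) F

/-- in even characteristic `PSL₂ = PGL₂` -/
theorem LL_eq_top_of_even (h : ¬ Odd (Fintype.card F)) : (LL : Subgroup PGL2) = ⊤ := by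
  obtain ⟨p, hp⟩ := CharP.exists F
  haveI : Fact p.Prime := ⟨CharP.char_is_prime F p⟩
  have hpp : p.Prime := Fact.out
  obtain ⟨f, -, hf⟩ := FiniteField.card F p
  have hp2 : p = 2 := by
    by_contra hne
    apply h
    rw [hf]
    exact (hpp.odd_of_ne_two hne).pow
  subst hp2
  have hchar : ringChar F = 2 := (ringChar.eq F 2)
  have hsurj : Function.Surjective
      (Matrix.ProjectiveSpecialLinearGroup.toPGL (n := Fin 2) (R := F)) := by
    apply Matrix.ProjectiveSpecialLinearGroup.toPGL_surj_of_roots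
    intro r
    obtain ⟨k, hk⟩ := FiniteField.isSquare_of_char_two hchar (r : F)
    have hk0 : k ≠ 0 := by
      rintro rfl
      rw [mul_zero] at hk
      exact r.ne_zero hk
    refine ⟨Units.mk0 k hk0, ?_⟩
    apply Units.ext
    rw [Fintype.card_fin, Units.val_pow_eq_pow_val, Units.val_mk0, pow_two, ← hk]
  rw [LL_eq_range, eq_top_iff]
  intro y _
  obtain ⟨x, rfl⟩ := hsurj y
  exact ⟨x, rfl⟩

/-- the intersection with `PSL₂` of a maximal subgroup of `PGL₂(q)`, `q` odd, is maximal -/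
theorem comap_coatom (p : ℕ) [Fact p.Prime] [CharP F p] (hodd : Odd (Fintype.card F))
    (h5 : 5 ≤ Fintype.card F) (h7 : Fintype.card F ≠ 7)
    (h9 : Fintype.card F ≠ 9) (h11 : Fintype.card F ≠ 11)
    (h40 : (Fintype.card F).Prime → Fintype.card F % 40 ∉ ({11, 19, 21, 29} : Finset ℕ))
    (M : Subgroup PGL2) (hM : IsCoatom M) (hML : ¬ (LL : Subgroup PGL2) ≤ M) :
    IsCoatom (M.comap (jj : PSL2 →* PGL2)) := by
  have hAtop := comap_ne_top M hML
  obtain ⟨T, hT, hAT⟩ := (eq_top_or_exists_le_coatom (M.comap (jj : PSL2 →* PGL2))).resolve_left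
    hAtop
  have hTT := ttype' p hodd h5 T hT
  have heq : M.comap (jj : PSL2 →* PGL2) = T := by
    rcases typeA hodd h5 p M hM hML with h | ⟨hq5, a, h2a, ⟨eA⟩⟩ | ⟨a, h2a, ⟨eA⟩⟩ |
      ⟨hpr, hmod, ⟨eA⟩⟩ | ⟨F₀, _, _, r, hr, hro, hq, hA⟩
    · exact caseA1 p hodd h5 _ T hAT h hTT
    · exact caseA2 p hodd h5 hq5 h7 h9 h11 _ T hAT a h2a eA hTT
    · exact caseA3 p hodd h5 h7 h9 h11 h40 _ T hAT a h2a eA hTT
    · exact caseA4 p hodd h5 h40 _ T hAT hpr hmod eA hTT
    · exact caseA5 p hodd h5 _ T hAT F₀ r hr hro hq hA hTT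
  rw [heq]
  exact hT

end Cfsg.Agent.H9.PGLMeet
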