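import Mathlib
import Cfsg.Agent.H9.PSL2Borel

set_option autoImplicit false

/-! Subgroups of order prime to `p` of the Borel subgroup of `PSL₂(F)` are cyclic. -/

namespace Cfsg.Agent.H9.PSL2Borel

open Matrix
open Cfsg.Agent.H9.AutPSL2
open Cfsg.Agent.H9.DicksonMax

universe u

variable {F : Type u} [Field F] [Fintype F]

local notation "SL2" => Matrix.SpecialLinearGroup (Fin 2) F
local notation "PSL2" => Matrix.ProjectiveSpecialLinearGroup (Fin 2) F

/-- a subgroup of the Borel subgroup of order prime to `p` is cyclic -/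
theorem isCyclic_of_le_Bor (p : ℕ) [Fact p.Prime] [CharP F p] (K : Subgroup PSL2)
    (hK : K ≤ (Bor : Subgroup PSL2)) (hcop : ¬ p ∣ Nat.card K) : IsCyclic K := by
  have hpp : p.Prime := Fact.out
  -- the preimage in the upper triangular group
  set Kt : Subgroup (UTs : Subgroup SL2) :=
    K.comap ((pr : SL2 →* PSL2).comp (UTs : Subgroup SL2).subtype) with hKt
  have hinj : Function.Injective ((diagHom : (UTs : Subgroup SL2) →* Fˣ).comp Kt.subtype) := by
    rw [injective_iff_map_eq_one]
    intro m hm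
    have hker : m.1 ∈ (diagHom : (UTs : Subgroup SL2) →* Fˣ).ker := hm
    obtain ⟨b, hb⟩ := (mem_ker_diagHom m.1).1 hker
    have hmK : (pr : SL2 →* PSL2) m.1.1 ∈ K := m.2
    rw [hb] at hmK
    have hpow : (⟨pr (u b), hmK⟩ : K) ^ p = 1 := by
      apply Subtype.ext
      show (pr (u b) : PSL2) ^ p = 1
      exact pr_u_pow p b
    have hord : orderOf (⟨pr (u b), hmK⟩ : K) ∣ p := orderOf_dvd_of_pow_eq_one hpow
    have hord2 : orderOf (⟨pr (u b), hmK⟩ : K) ∣ Nat.card K := orderOf_dvd_natCard _
    have h1 : orderOf (⟨pr (u b), hmK⟩ : K) = 1 := by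
      rcases (Nat.dvd_prime hpp).1 hord with h | h
      · exact h
      · rw [h] at hord2; exact (hcop hord2).elim
    have h2 : (pr (u b) : PSL2) = 1 := by
      have := orderOf_eq_one_iff.1 h1
      exact congrArg Subtype.val this
    rw [← map_one (pr : SL2 →* PSL2), pr_eq_iff] at h2
    have hb0 : b = 0 := by
      rcases h2 with h | h
      · have := congrArg (fun g : SL2 => g.1 0 1) h
        simpa using this
      · have := congrArg (fun g : SL2 => g.1 0 1) h
        simpa using this
    apply Subtype.ext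
    apply Subtype.ext
    rw [hb, hb0, u_zero]
    rfl
  have hcyc : IsCyclic Kt := isCyclic_of_injective _ hinj
  -- `K` is the image of `Kt`
  let φ : Kt →* K :=
    { toFun := fun m => ⟨(pr : SL2 →* PSL2) m.1.1, m.2⟩
      map_one' := by
        apply Subtype.ext
        show (pr : SL2 →* PSL2) 1 = 1
        exact map_one _
      map_mul' := by
        intro a b
        apply Subtype.ext
        show (pr : SL2 →* PSL2) (a.1.1 * b.1.1) = _
        rw [map_mul]
        rfl }
  apply isCyclic_of_surjective φ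
  rintro ⟨z, hz⟩
  obtain ⟨m, hm, hmz⟩ := (mem_Bor z).1 (hK hz)
  refine ⟨⟨⟨m, hm⟩, ?_⟩, ?_⟩
  · show (pr : SL2 →* PSL2) m ∈ K
    rw [hmz]; exact hz
  · apply Subtype.ext
    exact hmz

/-- a subgroup of a conjugate of the Borel subgroup of order prime to `p` is cyclic -/
theorem isCyclic_of_le_BorC (p : ℕ) [Fact p.Prime] [CharP F p] (g : PSL2) (K : Subgroup PSL2)
    (hK : K ≤ BorC g) (hcop : ¬ p ∣ Nat.card K) : IsCyclic K := by
  -- conjugate back
  set K' : Subgroup PSL2 := K.map (MulAut.conj g⁻¹).toMonoidHom with hK'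
  have e : K ≃* K' := K.equivMapOfInjective _ (MulAut.conj g⁻¹).injective
  have hle : K' ≤ (Bor : Subgroup PSL2) := by
    rintro _ ⟨z, hz, rfl⟩
    have := (mem_BorC g z).1 (hK hz)
    rw [mem_Bor]
    show UT (g⁻¹ * z * g⁻¹⁻¹)
    rw [inv_inv]; exact this
  have hc : ¬ p ∣ Nat.card K' := by
    rw [← Nat.card_congr e.toEquiv]; exact hcop
  have := isCyclic_of_le_Bor p K' hle hc
  exact isCyclic_of_surjective e.symm.toMonoidHom e.symm.surjective

end Cfsg.Agent.H9.PSL2Borel
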