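import Mathlib
import Cfsg.Agent.H9.SL2OddByDeg

set_option autoImplicit false

/-!
# The two cuspidal characters of degree `(q - 1) / 2` of SL₂(F), `q` odd, are of different type
-/

namespace Cfsg.Agent.H9.SL2Chars

open Cfsg Matrix Cfsg.Agent.Lib.helper3.IndFun Cfsg.Agent.Lib.helper3.Irr
open Cfsg.Agent.H9.PrincipalSeries Cfsg.Agent.S2307
open scoped ComplexConjugate

variable {F : Type*} [Field F] [Fintype F] [DecidableEq F]

local notation "SL2" => Matrix.SpecialLinearGroup (Fin 2) F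

variable (H : Halves F)

/-- a defect sum over the cuspidal characters -/
theorem cusp_defect (hodd : Odd (Fintype.card F)) (ψ : AddChar F ℂ) (hψ : ψ.IsPrimitive) (c : F)
    (hc : c ≠ 0) :
    ∑ φ ∈ cuspSetSL H, (1 - NN ψ (φ : SL2 → ℂ) c * conj (NN ψ (φ : SL2 → ℂ) c)) = 1 := by
  classical
  have E1 := sum_split_SL H hodd (fun _ => (1 : ℂ))
  have E3 := sum_split_SL H hodd
    (fun φ => NN ψ (φ : SL2 → ℂ) c * conj (NN ψ (φ : SL2 → ℂ) c))
  rw [GG_norm hodd ψ hψ c hc] at E3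
  simp only [Finset.sum_const, Finset.card_univ, nsmul_eq_mul, mul_one] at E1
  rw [card_irr_SL2 hodd] at E1
  have hK3 : ∑ φ ∈ K3 (F := F),
      NN ψ (φ : SL2 → ℂ) c * conj (NN ψ (φ : SL2 → ℂ) c) = ((K3 (F := F)).card : ℂ) := by
    rw [Finset.sum_congr rfl (fun φ hφ => by rw [K3_NN ψ hψ c hc φ hφ, map_one, mul_one]),
      Finset.sum_const, nsmul_eq_mul, mul_one]
  rw [hK3] at E3
  have ht3 : NN ψ ((trivc : IrrCharacter SL2) : SL2 → ℂ) c = 0 := NN_one ψ hψ c hc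
  have hs3 : NN ψ ((Stc : IrrCharacter SL2) : SL2 → ℂ) c = 1 := NN_St ψ hψ c hc
  have hp3 :
      NN ψ ((p1c H : IrrCharacter SL2) : SL2 → ℂ) c * conj (NN ψ ((p1c H : IrrCharacter SL2) : SL2 → ℂ) c)
      + NN ψ ((p2c H : IrrCharacter SL2) : SL2 → ℂ) c *
        conj (NN ψ ((p2c H : IrrCharacter SL2) : SL2 → ℂ) c) = 1 :=
    NN_halves_sq H ψ hψ c hc
  rw [ht3, hs3] at E3
  simp only [map_zero, map_one, mul_zero, mul_one, zero_add] at E3
  rw [Finset.sum_sub_distrib]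
  simp only [Finset.sum_const, nsmul_eq_mul, mul_one]
  linear_combination (-1 : ℂ) * E1 + E3 + hp3

/-- at most one cuspidal character has vanishing multiplicity at `c` -/
theorem cusp_unique_zero (hodd : Odd (Fintype.card F)) (ψ : AddChar F ℂ) (hψ : ψ.IsPrimitive)
    (c : F) (hc : c ≠ 0)
    (h01 : ∀ φ ∈ cuspSetSL H, NN ψ (φ : SL2 → ℂ) c = 0 ∨ NN ψ (φ : SL2 → ℂ) c = 1)
    (φ₁ φ₂ : IrrCharacter SL2) (h1 : φ₁ ∈ cuspSetSL H) (h2 : φ₂ ∈ cuspSetSL H)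
    (e1 : NN ψ (φ₁ : SL2 → ℂ) c = 0) (e2 : NN ψ (φ₂ : SL2 → ℂ) c = 0) : φ₁ = φ₂ := by
  classical
  have h := cusp_defect H hodd ψ hψ c hc
  have hterm : ∀ φ ∈ cuspSetSL H,
      (1 - NN ψ (φ : SL2 → ℂ) c * conj (NN ψ (φ : SL2 → ℂ) c))
        = if NN ψ (φ : SL2 → ℂ) c = 0 then (1 : ℂ) else 0 := by
    intro φ hφ
    rcases h01 φ hφ with e | e
    · rw [if_pos e, e]; simp
    · rw [if_neg (by rw [e]; exact one_ne_zero), e]; simp
  rw [Finset.sum_congr rfl hterm, ← Finset.sum_filter, Finset.sum_const, nsmul_eq_mul, mul_one] at h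
  have hcard : ((cuspSetSL H).filter (fun φ : IrrCharacter SL2 => NN ψ (φ : SL2 → ℂ) c = 0)).card = 1 := by
    exact_mod_cast h
  obtain ⟨x, hx⟩ := Finset.card_eq_one.mp hcard
  have m1 : φ₁ ∈ (cuspSetSL H).filter (fun φ : IrrCharacter SL2 => NN ψ (φ : SL2 → ℂ) c = 0) :=
    Finset.mem_filter.mpr ⟨h1, e1⟩
  have m2 : φ₂ ∈ (cuspSetSL H).filter (fun φ : IrrCharacter SL2 => NN ψ (φ : SL2 → ℂ) c = 0) :=
    Finset.mem_filter.mpr ⟨h2, e2⟩
  rw [hx, Finset.mem_singleton] at m1 m2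
  rw [m1, m2]

/-- membership in the cuspidal set from cuspidality -/
theorem mem_cuspSetSL_of_cusp (χ : IrrCharacter SL2) (hc : IsCuspSL (χ : SL2 → ℂ)) :
    χ ∈ cuspSetSL H := by
  classical
  have hin : ∀ α : MulChar F ℂ, classInner (indFun (Bor : Subgroup SL2) (theta α)) (χ : SL2 → ℂ) = 0 := hc
  unfold cuspSetSL
  rw [Finset.mem_compl]
  intro hk
  unfold knownSet at hk
  simp only [Finset.mem_insert] at hk
  have hone : (1 : ℂ) ≠ 0 := one_ne_zero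
  rcases hk with h | h | h | h | h
  · -- trivial character: ⟨R 1, 1⟩ = 1
    have := hin 1
    rw [h, R_triv_eq] at this
    have e : ((trivc : IrrCharacter SL2) : SL2 → ℂ) = fun _ => 1 := rfl
    rw [e, classInner_add_left, irr_classInner_self isIrrCharacter_one,
      irr_classInner_eq_zero StSL_isIrr.1 isIrrCharacter_one StSL_isIrr.2] at this
    norm_num at this
  · have := hin 1
    rw [h, R_triv_eq] at this
    have e : ((Stc : IrrCharacter SL2) : SL2 → ℂ) = StSL := rfl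
    rw [e, classInner_add_left, irr_classInner_self StSL_isIrr.1,
      irr_classInner_eq_zero isIrrCharacter_one StSL_isIrr.1 (Ne.symm StSL_isIrr.2)] at this
    norm_num at this
  · have := hin H.α₀
    rw [h, H.sum] at this
    have e : ((p1c H : IrrCharacter SL2) : SL2 → ℂ) = H.ψ₁ := rfl
    rw [e, classInner_add_left, irr_classInner_self H.irr₁,
      irr_classInner_eq_zero H.irr₂ H.irr₁ (Ne.symm H.ne12)] at this
    norm_num at this
  · have := hin H.α₀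
    rw [h, H.sum] at this
    have e : ((p2c H : IrrCharacter SL2) : SL2 → ℂ) = H.ψ₂ := rfl
    rw [e, classInner_add_left, irr_classInner_self H.irr₂,
      irr_classInner_eq_zero H.irr₁ H.irr₂ H.ne12] at this
    norm_num at this
  · unfold K3 at h
    obtain ⟨s, -, hs⟩ := Finset.mem_image.mp h
    have := hin s.1
    rw [← hs] at this
    have e : ((RcSL s : IrrCharacter SL2) : SL2 → ℂ) = indFun (Bor : Subgroup SL2) (theta s.1) := rfl
    rw [e, irr_classInner_self (R_isIrr s.1 s.2)] at this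
    norm_num at this

include H in
/-- two different irreducible characters of degree `(q - 1) / 2`, `q ≥ 5`, are of different type -/
theorem half_cusp_types (hodd : Odd (Fintype.card F)) (hq : 5 ≤ Fintype.card F)
    (ψ : AddChar F ℂ) (hψ : ψ.IsPrimitive) {ν : F} (hν : quadraticChar F ν = -1)
    {χ₁ χ₂ : SL2 → ℂ} (h1 : IsIrrCharacter SL2 χ₁) (h2 : IsIrrCharacter SL2 χ₂) (hne : χ₁ ≠ χ₂)
    (d1 : χ₁ 1 = (((Fintype.card F - 1) / 2 : ℕ) : ℂ))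
    (d2 : χ₂ 1 = (((Fintype.card F - 1) / 2 : ℕ) : ℂ)) :
    NN ψ χ₁ 0 = 0 ∧ NN ψ χ₂ 0 = 0 ∧
    ((NN ψ χ₁ 1 = 1 ∧ NN ψ χ₁ ν = 0 ∧ NN ψ χ₂ 1 = 0 ∧ NN ψ χ₂ ν = 1) ∨
     (NN ψ χ₁ 1 = 0 ∧ NN ψ χ₁ ν = 1 ∧ NN ψ χ₂ 1 = 1 ∧ NN ψ χ₂ ν = 0)) := by
  classical
  have hν0 : ν ≠ 0 := by
    intro h
    rw [h, quadraticChar_zero] at hν
    norm_num at hν
  obtain ⟨c1, z1, t1⟩ := (type_by_degree H hodd hq ψ hψ hν h1).2.2.2.2 d1
  obtain ⟨c2, z2, t2⟩ := (type_by_degree H hodd hq ψ hψ hν h2).2.2.2.2 d2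
  have m1 : (⟨χ₁, h1⟩ : IrrCharacter SL2) ∈ cuspSetSL H := mem_cuspSetSL_of_cusp H ⟨χ₁, h1⟩ c1
  have m2 : (⟨χ₂, h2⟩ : IrrCharacter SL2) ∈ cuspSetSL H := mem_cuspSetSL_of_cusp H ⟨χ₂, h2⟩ c2
  have hne' : (⟨χ₁, h1⟩ : IrrCharacter SL2) ≠ ⟨χ₂, h2⟩ := fun e => hne (congrArg Subtype.val e)
  have h01a : ∀ φ ∈ cuspSetSL H, NN ψ (φ : SL2 → ℂ) 1 = 0 ∨ NN ψ (φ : SL2 → ℂ) 1 = 1 := by
    intro φ hφ
    rcases (cusp_data H hodd ψ hψ hν φ hφ).2 with h | h | h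
    · exact Or.inr h.1
    · exact Or.inr h.1
    · exact Or.inl h.1
  have h01b : ∀ φ ∈ cuspSetSL H, NN ψ (φ : SL2 → ℂ) ν = 0 ∨ NN ψ (φ : SL2 → ℂ) ν = 1 := by
    intro φ hφ
    rcases (cusp_data H hodd ψ hψ hν φ hφ).2 with h | h | h
    · exact Or.inr h.2
    · exact Or.inl h.2
    · exact Or.inr h.2
  refine ⟨z1, z2, ?_⟩
  rcases t1 with ⟨a1, b1⟩ | ⟨a1, b1⟩ <;> rcases t2 with ⟨a2, b2⟩ | ⟨a2, b2⟩
  · exact absurd (cusp_unique_zero H hodd ψ hψ ν hν0 h01b _ _ m1 m2 b1 b2) hne'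
  · exact Or.inl ⟨a1, b1, a2, b2⟩
  · exact Or.inr ⟨a1, b1, a2, b2⟩
  · exact absurd (cusp_unique_zero H hodd ψ hψ 1 one_ne_zero h01a _ _ m1 m2 a1 a2) hne'

end Cfsg.Agent.H9.SL2Chars
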