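import Mathlib
import Cfsg.Agent.H9.SL2OddHalfCusp

set_option autoImplicit false

/-!
# Values of the principal series characters of SL₂(F), `q` odd, at elements without eigenvectors
-/

namespace Cfsg.Agent.H9.SL2Chars

open Cfsg Matrix Cfsg.Agent.Lib.helper3.IndFun Cfsg.Agent.Lib.helper3.Irr
open Cfsg.Agent.H9.PrincipalSeries Cfsg.Agent.S2307
open scoped ComplexConjugate

variable {F : Type*} [Field F] [Fintype F] [DecidableEq F]

local notation "SL2" => Matrix.SpecialLinearGroup (Fin 2) F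

/-- elements of SL₂ without eigenvectors -/
def IsEll (g : SL2) : Prop :=
  ∀ (c : F) (v : Fin 2 → F), v ≠ 0 → (g : Matrix (Fin 2) (Fin 2) F).mulVec v ≠ c • v

omit [Fintype F] [DecidableEq F] in
theorem IsEll.ne01 {g : SL2} (h : IsEll g) : g.1 0 1 ≠ 0 := by
  intro h0
  apply h (g.1 1 1) ![0, 1]
  · intro hv
    have := congrFun hv 1
    simp at this
  · ext i
    fin_cases i
    · simp [Matrix.mulVec, dotProduct, Fin.sum_univ_two, h0]
    · simp [Matrix.mulVec, dotProduct, Fin.sum_univ_two]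

omit [Fintype F] [DecidableEq F] in
theorem IsEll.no_root {g : SL2} (h : IsEll g) (c : F) :
    g.1 1 0 + (g.1 1 1 - g.1 0 0) * c - g.1 0 1 * c ^ 2 ≠ 0 := by
  intro hc
  apply h (g.1 0 0 + g.1 0 1 * c) ![1, c]
  · intro hv
    have := congrFun hv 0
    simp at this
  · ext i
    fin_cases i
    · simp [Matrix.mulVec, dotProduct, Fin.sum_univ_two]
    · simp [Matrix.mulVec, dotProduct, Fin.sum_univ_two]
      linear_combination hc

omit [Fintype F] [DecidableEq F] in
theorem IsEll.trace_sq_ne {g : SL2} (h : IsEll g) (h2 : (2 : F) ≠ 0) :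
    (g.1 0 0 + g.1 1 1) ^ 2 ≠ 4 := by
  intro ht
  have h01 := h.ne01
  have hdet := det_entries g
  apply h.no_root ((g.1 1 1 - g.1 0 0) / (2 * g.1 0 1))
  field_simp
  linear_combination ht - 4 * hdet

/-- principal series characters vanish at elements without eigenvectors -/
theorem R_elliptic (α : MulChar F ℂ) {g : SL2} (h : IsEll g) :
    indFun (Bor : Subgroup SL2) (theta α) g = 0 := by
  rw [Cfsg.Agent.H9.PrincipalSeries.R_apply, if_neg h.ne01, add_zero]
  apply Finset.sum_eq_zero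
  intro c _
  rw [if_neg (h.no_root c)]

/-- the binary form `x² + t x y + y²` is universal when `t² ≠ 4` -/
theorem exists_norm_eq (hodd : Odd (Fintype.card F)) (t c : F) (ht : t ^ 2 ≠ 4) :
    ∃ x y : F, x ^ 2 + t * x * y + y ^ 2 = c := by
  have h2 : (2 : F) ≠ 0 := by
    have := ringChar_ne_two_of_odd hodd
    exact Ring.two_ne_zero this
  have hD : t ^ 2 - 4 ≠ 0 := sub_ne_zero.mpr ht
  have hD' : -(t ^ 2 - 4) ≠ 0 := neg_ne_zero.mpr hD
  obtain ⟨a, b, hab⟩ := FiniteField.exists_root_sum_quadratic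
    (f := (Polynomial.X : Polynomial F) ^ 2)
    (g := Polynomial.C (-(t ^ 2 - 4)) * Polynomial.X ^ 2 - Polynomial.C (4 * c))
    (by rw [Polynomial.degree_X_pow]; norm_num)
    (by
      rw [Polynomial.degree_sub_eq_left_of_degree_lt]
      · rw [Polynomial.degree_C_mul hD', Polynomial.degree_X_pow]; norm_num
      · rw [Polynomial.degree_C_mul hD', Polynomial.degree_X_pow]
        exact lt_of_le_of_lt Polynomial.degree_C_le (by norm_num))
    (Nat.odd_iff.mp hodd)
  simp only [Polynomial.eval_pow, Polynomial.eval_X, Polynomial.eval_sub, Polynomial.eval_mul,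
    Polynomial.eval_C] at hab
  refine ⟨(a - t * b) / 2, b, ?_⟩
  field_simp
  linear_combination hab

/-- `cx ν g` is conjugate to `g` in SL₂ when `tr(g)² ≠ 4` -/
theorem exists_conj_cx (hodd : Odd (Fintype.card F)) (ν : Fˣ) (g : SL2)
    (ht : (g.1 0 0 + g.1 1 1) ^ 2 ≠ 4) : ∃ s : SL2, s * g * s⁻¹ = cx ν g := by
  have hν : (ν : F) ≠ 0 := ν.ne_zero
  obtain ⟨x, y, hxy⟩ := exists_norm_eq hodd (g.1 0 0 + g.1 1 1) ((ν : F)⁻¹) ht
  have hdet := det_entries g
  let s : SL2 := ⟨!![ν * (x + y * g.1 0 0), ν * (y * g.1 0 1); y * g.1 1 0, x + y * g.1 1 1], by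
    rw [Matrix.det_fin_two_of]
    have h1 : (ν : F) * (x ^ 2 + (g.1 0 0 + g.1 1 1) * x * y + y ^ 2) = 1 := by
      rw [hxy, mul_inv_cancel₀ hν]
    linear_combination h1 + (ν : F) * y ^ 2 * hdet⟩
  have s00 : s.1 0 0 = ν * (x + y * g.1 0 0) := rfl
  have s01 : s.1 0 1 = ν * (y * g.1 0 1) := rfl
  have s10 : s.1 1 0 = y * g.1 1 0 := rfl
  have s11 : s.1 1 1 = x + y * g.1 1 1 := rfl
  refine ⟨s, ?_⟩
  rw [mul_inv_eq_iff_eq_mul]
  obtain ⟨a1, a2, a3, a4⟩ := cx_entries ν g
  apply ext_entries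
  · rw [mul_entries, mul_entries, a1, a2, s00, s01, s10]; ring
  · rw [mul_entries, mul_entries, a1, a2, s00, s01, s11]; ring
  · rw [mul_entries, mul_entries, a3, a4, s00, s10, s11]
    field_simp
    ring
  · rw [mul_entries, mul_entries, a3, a4, s01, s10, s11]
    field_simp

/-- a class function is invariant under `cx ν` at elements with `tr² ≠ 4` -/
theorem apply_cx_of_trace (hodd : Odd (Fintype.card F)) {χ : SL2 → ℂ} (hχ : IsClassFunction SL2 χ)
    (ν : Fˣ) (g : SL2) (ht : (g.1 0 0 + g.1 1 1) ^ 2 ≠ 4) : χ (cx ν g) = χ g := by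
  obtain ⟨s, hs⟩ := exists_conj_cx hodd ν g ht
  rw [← hs]
  exact hχ g s

/-- the type of a character of degree `(q + 1) / 2` with `n₀ = 1` -/
theorem half_type (hodd : Odd (Fintype.card F)) (ψ : AddChar F ℂ) (hψ : ψ.IsPrimitive)
    {ν : F} (hν : quadraticChar F ν = -1) {χ : SL2 → ℂ} (hχ : IsCharacter SL2 χ)
    (h0 : NN ψ χ 0 = 1) (hd : χ 1 = (((Fintype.card F + 1) / 2 : ℕ) : ℂ)) :
    (NN ψ χ 1 = 1 ∧ NN ψ χ ν = 0) ∨ (NN ψ χ 1 = 0 ∧ NN ψ χ ν = 1) := by
  have hcf := isClassFunction_of_isCharacter hχ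
  obtain ⟨a, ha⟩ := NN_nat ψ hχ 1
  obtain ⟨b, hb⟩ := NN_nat ψ hχ ν
  have h := degree_eq hodd ψ hψ hcf hν
  rw [h0, ha, hb, hd] at h
  obtain ⟨k, hk⟩ := hodd
  have hk1 : 1 ≤ k := by
    have : 2 ≤ Fintype.card F := Fintype.one_lt_card
    omega
  have e1 : (Fintype.card F + 1) / 2 = k + 1 := by omega
  rw [e1, hk] at h
  push_cast at h
  have h' : (k : ℂ) * ((a : ℂ) + b - 1) = 0 := by linear_combination -h
  have hk0 : (k : ℂ) ≠ 0 := by
    have : k ≠ 0 := by omega
    exact_mod_cast this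
  have h'' : (a : ℂ) + b = 1 := by
    rcases mul_eq_zero.mp h' with h1 | h1
    · exact absurd h1 hk0
    · linear_combination h1
  have hab : a + b = 1 := by exact_mod_cast h''
  rw [ha, hb]
  have : (a = 1 ∧ b = 0) ∨ (a = 0 ∧ b = 1) := by omega
  rcases this with ⟨e1, e2⟩ | ⟨e1, e2⟩
  · left; rw [e1, e2]; simp
  · right; rw [e1, e2]; simp

variable (H : Halves F)

/-- the two halves are swapped by `cx ν` for a non-square `ν` -/
theorem halves_swap (hodd : Odd (Fintype.card F)) (ν : Fˣ) (hν : quadraticChar F (ν : F) = -1) :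
    (fun g => H.ψ₁ (cx ν g)) = H.ψ₂ := by
  classical
  set ψ := AddChar.FiniteField.primitiveChar_to_Complex F with hψdef
  have hψ : ψ.IsPrimitive := AddChar.FiniteField.primitiveChar_to_Complex_isPrimitive F
  have hirr : IsIrrCharacter SL2 (fun g => H.ψ₁ (cx ν g)) :=
    isIrrCharacter_comp_mulEquiv (cx ν) H.irr₁
  have hR1 : classInner (indFun (Bor : Subgroup SL2) (theta H.α₀)) H.ψ₁ = 1 := by
    rw [H.sum, classInner_add_left, irr_classInner_self H.irr₁,
      irr_classInner_eq_zero H.irr₂ H.irr₁ (Ne.symm H.ne12), add_zero]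
  have hRcx : (fun g => indFun (Bor : Subgroup SL2) (theta H.α₀) (cx ν g))
      = indFun (Bor : Subgroup SL2) (theta H.α₀) := funext (R_cx H.α₀ ν)
  have hin := classInner_comp_mulEquiv (cx ν) (indFun (Bor : Subgroup SL2) (theta H.α₀)) H.ψ₁
  rw [hRcx, hR1, H.sum, classInner_add_left, irr_classInner_eq H.irr₁ hirr,
    irr_classInner_eq H.irr₂ hirr] at hin
  have hne1 : (fun g => H.ψ₁ (cx ν g)) ≠ H.ψ₁ := by
    intro h
    have hc1 := isCharacter_of_isIrrCharacter H.irr₁
    have hcf := isClassFunction_of_isCharacter hc1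
    have h1 := NN_cx ψ H.ψ₁ ν 1
    rw [h, mul_one] at h1
    have hν' : quadraticChar F ((ν : F)⁻¹) = -1 := by
      have h3 : quadraticChar F ((ν : F)⁻¹ * ν) = 1 := by
        rw [inv_mul_cancel₀ ν.ne_zero, map_one]
      rw [map_mul, hν] at h3
      linarith
    rw [NN_of_nonsquare ψ hcf hν hν'] at h1
    rcases half_type hodd ψ hψ hν hc1 (halves_n0 H ψ).1 H.deg₁ with ⟨a, b⟩ | ⟨a, b⟩
    · rw [a, b] at h1
      exact one_ne_zero h1
    · rw [a, b] at h1
      exact zero_ne_one h1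
  by_contra hno
  rw [if_neg (Ne.symm hne1), if_neg (fun h => hno h.symm)] at hin
  norm_num at hin

/-- the two halves vanish at elements without eigenvectors -/
theorem halves_elliptic (hodd : Odd (Fintype.card F)) {g : SL2} (h : IsEll g) :
    H.ψ₁ g = 0 ∧ H.ψ₂ g = 0 := by
  have h2 : (2 : F) ≠ 0 := Ring.two_ne_zero (ringChar_ne_two_of_odd hodd)
  obtain ⟨ν₀, hν₀⟩ := exists_nonsquare (F := F) hodd
  have hν0 : ν₀ ≠ 0 := by
    intro h
    rw [h, quadraticChar_zero] at hν₀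
    norm_num at hν₀
  have hsw := halves_swap H hodd (Units.mk0 ν₀ hν0) (by rw [Units.val_mk0]; exact hν₀)
  have hcf := isClassFunction_of_isCharacter (isCharacter_of_isIrrCharacter H.irr₁)
  have h12 : H.ψ₂ g = H.ψ₁ g := by
    rw [← hsw]
    exact apply_cx_of_trace hodd hcf _ g (h.trace_sq_ne h2)
  have hR := R_elliptic H.α₀ h
  rw [H.sum, Pi.add_apply, h12] at hR
  have : H.ψ₁ g = 0 := by
    have h2' : (2 : ℂ) ≠ 0 := two_ne_zero
    have : 2 * H.ψ₁ g = 0 := by linear_combination hR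
    exact (mul_eq_zero.mp this).resolve_left h2'
  exact ⟨this, by rw [h12, this]⟩

end Cfsg.Agent.H9.SL2Chars
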