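import Mathlib
import Cfsg.Agent.H9.SL2OddElliptic
import Cfsg.Agent.S2508
import Cfsg.Agent.S2300

set_option autoImplicit false

/-!
# Column orthogonality at an element of SL₂(F) without eigenvectors, `q` odd
-/

namespace Cfsg.Agent.H9.SL2Chars

open Cfsg Matrix Cfsg.Agent.Lib.helper3.IndFun Cfsg.Agent.Lib.helper3.Irr
open Cfsg.Agent.H9.PrincipalSeries Cfsg.Agent.S2307
open scoped ComplexConjugate

variable {F : Type*} [Field F] [Fintype F] [DecidableEq F]

local notation "SL2" => Matrix.SpecialLinearGroup (Fin 2) F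

theorem r_eq_zero_of_ell {g : SL2} (h : IsEll g) :
    Cfsg.Agent.S2508.r ((g : Matrix (Fin 2) (Fin 2) F).trace) = 0 := by
  unfold Cfsg.Agent.S2508.r
  rw [Finset.card_eq_zero, Finset.filter_eq_empty_iff]
  intro a _ ha
  rw [Matrix.trace_fin_two] at ha
  have hdet := det_entries g
  apply h a ![g.1 0 1, a - g.1 0 0]
  · intro hv
    have := congrFun hv 0
    simp at this
    exact h.ne01 this
  · ext i
    fin_cases i
    · simp [Matrix.mulVec, dotProduct, Fin.sum_univ_two]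
      ring
    · simp [Matrix.mulVec, dotProduct, Fin.sum_univ_two]
      linear_combination (-1 : F) * hdet + ha

theorem card_centralizer_ell (hodd : Odd (Fintype.card F)) {g : SL2} (h : IsEll g) :
    Nat.card (Subgroup.centralizer ({g} : Set SL2)) = Fintype.card F + 1 := by
  have h2 : (2 : F) ≠ 0 := Ring.two_ne_zero (ringChar_ne_two_of_odd hodd)
  have hns : ¬ ∃ a : F, (g : Matrix (Fin 2) (Fin 2) F) = a • (1 : Matrix (Fin 2) (Fin 2) F) := by
    rintro ⟨a, ha⟩
    apply h.ne01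
    rw [ha]
    simp
  have ht : (g : Matrix (Fin 2) (Fin 2) F).trace ^ 2 ≠ 4 := by
    rw [Matrix.trace_fin_two]
    exact h.trace_sq_ne h2
  have hidx := Cfsg.Agent.S2508.index_reg (Nat.odd_iff.mp hodd) g hns ht
  rw [r_eq_zero_of_ell h, mul_zero, add_zero] at hidx
  have hmul := Subgroup.index_mul_card (Subgroup.centralizer ({g} : Set SL2))
  rw [hidx] at hmul
  have hq1 : 1 ≤ Fintype.card F := Fintype.card_pos
  have hq2 : 2 ≤ Fintype.card F := Fintype.one_lt_card
  have hc := Cfsg.Agent.S2300.card_SL2_cast (F := F)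
  rw [← hmul] at hc
  push_cast [Nat.cast_sub hq1] at hc
  have hq0 : (Fintype.card F : ℂ) ≠ 0 := by
    have : Fintype.card F ≠ 0 := by omega
    exact_mod_cast this
  have hq10 : (Fintype.card F : ℂ) - 1 ≠ 0 := by
    have : (Fintype.card F : ℂ) ≠ 1 := by
      have : Fintype.card F ≠ 1 := by omega
      exact_mod_cast this
    exact sub_ne_zero.mpr this
  have h3 : (Nat.card (Subgroup.centralizer ({g} : Set SL2)) : ℂ) = (Fintype.card F : ℂ) + 1 := by
    apply mul_left_cancel₀ (mul_ne_zero hq0 hq10)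
    linear_combination hc
  exact_mod_cast h3

/-- column orthogonality at an element without eigenvectors -/
theorem sum_normSq_ell (hodd : Odd (Fintype.card F)) {g : SL2} (h : IsEll g) :
    ∑ χ : IrrCharacter SL2, Complex.normSq ((χ : SL2 → ℂ) g) = (Fintype.card F : ℝ) + 1 := by
  have hc := (column_orthogonality g g).1 (IsConj.refl g)
  rw [card_centralizer_ell hodd h] at hc
  push_cast at hc
  have : ((∑ χ : IrrCharacter SL2, Complex.normSq ((χ : SL2 → ℂ) g) : ℝ) : ℂ)
      = (((Fintype.card F : ℝ) + 1 : ℝ) : ℂ) := by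
    push_cast
    rw [← hc]
    apply Finset.sum_congr rfl
    intro χ _
    rw [Complex.mul_conj]
  exact_mod_cast this

variable (H : Halves F)

/-- the two cuspidal characters of degree `(q - 1) / 2` -/
theorem exists_half_cusps (hodd : Odd (Fintype.card F)) :
    ∃ φ₁ φ₂ : IrrCharacter SL2, φ₁ ∈ cuspSetSL H ∧ φ₂ ∈ cuspSetSL H ∧ φ₁ ≠ φ₂ ∧
      (φ₁ : SL2 → ℂ) 1 = (((Fintype.card F - 1) / 2 : ℕ) : ℂ) ∧
      (φ₂ : SL2 → ℂ) 1 = (((Fintype.card F - 1) / 2 : ℕ) : ℂ) := by
  classical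
  set ψ := AddChar.FiniteField.primitiveChar_to_Complex F with hψdef
  have hψ : ψ.IsPrimitive := AddChar.FiniteField.primitiveChar_to_Complex_isPrimitive F
  obtain ⟨ν, hν⟩ := exists_nonsquare (F := F) hodd
  have hν0 : ν ≠ 0 := by
    intro h
    rw [h, quadraticChar_zero] at hν
    norm_num at hν
  have hcf : ∀ φ : IrrCharacter SL2, IsClassFunction SL2 (φ : SL2 → ℂ) :=
    fun φ => isClassFunction_of_isCharacter (isCharacter_of_isIrrCharacter φ.2)
  have d1 := cusp_defect H hodd ψ hψ 1 one_ne_zero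
  have d2 := cusp_defect H hodd ψ hψ ν hν0
  obtain ⟨φ₁, m1, n1⟩ := Finset.exists_ne_zero_of_sum_ne_zero (by rw [d1]; exact one_ne_zero)
  obtain ⟨φ₂, m2, n2⟩ := Finset.exists_ne_zero_of_sum_ne_zero (by rw [d2]; exact one_ne_zero)
  have c1 := cusp_data H hodd ψ hψ hν φ₁ m1
  have c2 := cusp_data H hodd ψ hψ hν φ₂ m2
  have t1 : NN ψ (φ₁ : SL2 → ℂ) 1 = 0 ∧ NN ψ (φ₁ : SL2 → ℂ) ν = 1 := by
    rcases c1.2 with h | h | h
    · exfalso; apply n1; rw [h.1]; simp
    · exfalso; apply n1; rw [h.1]; simp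
    · exact h
  have t2 : NN ψ (φ₂ : SL2 → ℂ) 1 = 1 ∧ NN ψ (φ₂ : SL2 → ℂ) ν = 0 := by
    rcases c2.2 with h | h | h
    · exfalso; apply n2; rw [h.2]; simp
    · exact h
    · exfalso; apply n2; rw [h.2]; simp
  refine ⟨φ₁, φ₂, m1, m2, ?_, ?_, ?_⟩
  · intro e
    rw [e, t2.1] at t1
    exact one_ne_zero t1.1
  · exact (cusp_degree_SL hodd ψ hψ hν (hcf φ₁) c1.1).2 (Or.inr t1)
  · exact (cusp_degree_SL hodd ψ hψ hν (hcf φ₂) c2.1).2 (Or.inl t2)

include H in
/-- for `q = 3`, every irreducible character of degree two vanishes at the elements without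
eigenvectors -/
theorem deg_two_ell_q3 (hq : Fintype.card F = 3) {χ : SL2 → ℂ} (hχ : IsIrrCharacter SL2 χ)
    (hd : χ 1 = 2) {g : SL2} (h : IsEll g) : χ g = 0 := by
  classical
  have hodd : Odd (Fintype.card F) := by rw [hq]; decide
  obtain ⟨φ₁, φ₂, m1, m2, hne, e1, e2⟩ := exists_half_cusps H hodd
  have hhalf : (Fintype.card F - 1) / 2 = 1 := by rw [hq]
  rw [hhalf, Nat.cast_one] at e1 e2
  have hsum := sum_normSq_ell hodd h
  rw [hq] at hsum
  -- values
  have flin : ∀ φ : IrrCharacter SL2, (φ : SL2 → ℂ) 1 = 1 → Complex.normSq ((φ : SL2 → ℂ) g) = 1 := by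
    intro φ h1
    have hp := Cfsg.Agent.Lib.helper3.Lin.pow_eq_one_of_linear (isCharacter_of_isIrrCharacter φ.2) h1 g
      (Fintype.card SL2) (pow_card_eq_one)
    have hn : ‖(φ : SL2 → ℂ) g‖ = 1 :=
      Complex.norm_eq_one_of_pow_eq_one hp Fintype.card_ne_zero
    rw [Complex.normSq_eq_norm_sq, hn]; norm_num
  have fSt : Complex.normSq (StSL g) = 1 := by
    unfold StSL
    rw [Pi.sub_apply, R_elliptic 1 h]
    simp
  -- the five characters
  let x : IrrCharacter SL2 := ⟨χ, hχ⟩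
  have hx1 : (x : SL2 → ℂ) 1 = 2 := hd
  have hSt1 : ((Stc : IrrCharacter SL2) : SL2 → ℂ) 1 = 3 := by
    have := StSL_one (F := F)
    rw [hq] at this
    exact_mod_cast this
  have ht1 : ((trivc : IrrCharacter SL2) : SL2 → ℂ) 1 = 1 := rfl
  have hdeg : ∀ {a b : IrrCharacter SL2}, (a : SL2 → ℂ) 1 ≠ (b : SL2 → ℂ) 1 → a ≠ b := by
    intro a b h e
    exact h (by rw [e])
  have htriv_known : (trivc : IrrCharacter SL2) ∈ knownSet H := by
    unfold knownSet; simp
  have hnot : ∀ φ ∈ cuspSetSL H, (trivc : IrrCharacter SL2) ≠ φ := by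
    intro φ hφ e
    unfold cuspSetSL at hφ
    rw [Finset.mem_compl] at hφ
    exact hφ (e ▸ htriv_known)
  have hS : ∑ φ ∈ ({trivc, Stc, φ₁, φ₂, x} : Finset (IrrCharacter SL2)),
      Complex.normSq ((φ : SL2 → ℂ) g)
      ≤ ∑ φ : IrrCharacter SL2, Complex.normSq ((φ : SL2 → ℂ) g) :=
    Finset.sum_le_univ_sum_of_nonneg (fun φ => Complex.normSq_nonneg _)
  rw [Finset.sum_insert, Finset.sum_insert, Finset.sum_insert, Finset.sum_insert,
    Finset.sum_singleton, hsum] at hS
  · have f1 : Complex.normSq (((trivc : IrrCharacter SL2) : SL2 → ℂ) g) = 1 := by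
      change Complex.normSq (1 : ℂ) = 1
      simp
    have f2 : Complex.normSq (((Stc : IrrCharacter SL2) : SL2 → ℂ) g) = 1 := fSt
    rw [f1, f2, flin φ₁ e1, flin φ₂ e2] at hS
    have hx0 : Complex.normSq ((x : SL2 → ℂ) g) = 0 := by
      have := Complex.normSq_nonneg ((x : SL2 → ℂ) g)
      norm_num at hS
      linarith
    exact Complex.normSq_eq_zero.mp hx0
  · rw [Finset.mem_singleton]
    apply hdeg
    rw [e2, hx1]; norm_num
  · rw [Finset.mem_insert, Finset.mem_singleton, not_or]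
    refine ⟨hne, ?_⟩
    apply hdeg
    rw [e1, hx1]; norm_num
  · rw [Finset.mem_insert, Finset.mem_insert, Finset.mem_singleton, not_or, not_or]
    refine ⟨?_, ?_, ?_⟩
    · apply hdeg; rw [hSt1, e1]; norm_num
    · apply hdeg; rw [hSt1, e2]; norm_num
    · apply hdeg; rw [hSt1, hx1]; norm_num
  · rw [Finset.mem_insert, Finset.mem_insert, Finset.mem_insert, Finset.mem_singleton, not_or,
      not_or, not_or]
    refine ⟨?_, hnot φ₁ m1, hnot φ₂ m2, ?_⟩
    · apply hdeg; rw [ht1, hSt1]; norm_num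
    · apply hdeg; rw [ht1, hx1]; norm_num

end Cfsg.Agent.H9.SL2Chars
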