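import Mathlib
import Cfsg.Agent.H9.SL2OddEllCol
import Cfsg.Agent.H9.NonsplitTorus
import Cfsg.Agent.H9.IndConj

set_option autoImplicit false

/-!
# The non-split torus of SL₂(F), `q` odd: conjugacy of its elements and functions induced from it
-/

namespace Cfsg.Agent.H9.SL2Chars

open Cfsg Matrix Cfsg.Agent.Lib.helper3.IndFun Cfsg.Agent.Lib.helper3.Irr
open Cfsg.Agent.H9.PrincipalSeries Cfsg.Agent.S2307
open Cfsg.Agent.H9.NonsplitTorus (Tn mem_Tn)
open scoped ComplexConjugate

variable {F : Type*} [Field F] [Fintype F] [DecidableEq F]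

local notation "SL2" => Matrix.SpecialLinearGroup (Fin 2) F

section torus

variable {δ : F} (hδ : ¬ IsSquare δ)

omit [Fintype F] [DecidableEq F] in
include hδ in
/-- non-scalar elements of the torus have no eigenvectors -/
theorem isEll_of_mem_Tn {t : SL2} (ht : t ∈ Tn δ) (hy : t.1 1 0 ≠ 0) : IsEll t := by
  obtain ⟨t1, t2⟩ := ht
  intro c v hv he
  have e0 := congrFun he 0
  have e1 := congrFun he 1
  simp [Matrix.mulVec, dotProduct, Fin.sum_univ_two] at e0 e1
  rw [t1, t2] at e0
  -- (x - c) v0 + δ y v1 = 0, y v0 + (x - c) v1 = 0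
  by_cases hv1 : v 1 = 0
  · rw [hv1] at e0 e1
    simp only [mul_zero, add_zero] at e0 e1
    have hv0 : v 0 ≠ 0 := by
      intro h0
      apply hv
      ext i
      fin_cases i
      · exact h0
      · exact hv1
    rcases mul_eq_zero.mp e1 with h | h
    · exact hy h
    · exact hv0 h
  · apply hδ
    refine ⟨-(v 0 / v 1), ?_⟩
    have hy' := hy
    field_simp
    have k1 : t.1 1 0 * v 0 = (c - t.1 1 1) * v 1 := by linear_combination e1
    have k0 : δ * t.1 1 0 * v 1 = (c - t.1 1 1) * v 0 := by linear_combination e0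
    have : t.1 1 0 * (δ * v 1 ^ 2 - v 0 ^ 2) = 0 := by
      linear_combination v 1 * k0 - v 0 * k1
    have := (mul_eq_zero.mp this).resolve_left hy
    linear_combination this

omit [DecidableEq F] in
/-- two conjugate elements of the torus are equal or inverse to each other -/
theorem eq_or_eq_inv_of_isConj (h2 : (2 : F) ≠ 0) (hδ0 : δ ≠ 0) {t t' : SL2} (ht : t ∈ Tn δ)
    (ht' : t' ∈ Tn δ) (hc : IsConj t t') : t' = t ∨ t' = t⁻¹ := by
  have htr := Cfsg.Agent.S2325.trace_eq_of_isConj hc
  rw [Matrix.trace_fin_two, Matrix.trace_fin_two, ht.1, ht'.1] at htr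
  have hx : t'.1 1 1 = t.1 1 1 := by
    have : 2 * t'.1 1 1 = 2 * t.1 1 1 := by linear_combination -htr
    exact mul_left_cancel₀ h2 this
  have d1 := det_entries t
  have d2 := det_entries t'
  rw [ht.1, ht.2] at d1
  rw [ht'.1, ht'.2, hx] at d2
  have hyy : (t'.1 1 0 - t.1 1 0) * (t'.1 1 0 + t.1 1 0) = 0 := by
    have : δ * ((t'.1 1 0 - t.1 1 0) * (t'.1 1 0 + t.1 1 0)) = 0 := by
      linear_combination d1 - d2
    exact (mul_eq_zero.mp this).resolve_left hδ0
  obtain ⟨i1, i2, i3, i4⟩ := inv_entries t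
  rcases mul_eq_zero.mp hyy with h | h
  · left
    have hy : t'.1 1 0 = t.1 1 0 := sub_eq_zero.mp h
    apply ext_entries
    · rw [ht'.1, ht.1, hx]
    · rw [ht'.2, ht.2, hy]
    · exact hy
    · exact hx
  · right
    have hy : t'.1 1 0 = -t.1 1 0 := by linear_combination h
    apply ext_entries
    · rw [i1, ht'.1, hx]
    · rw [i2, ht'.2, ht.2, hy]; ring
    · rw [i3, hy]
    · rw [i4, hx, ht.1]

omit [DecidableEq F] in
include hδ in
/-- every element of the torus is conjugate to its inverse -/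
theorem isConj_inv_of_mem_Tn (hodd : Odd (Fintype.card F)) {t : SL2} (ht : t ∈ Tn δ) :
    IsConj t t⁻¹ := by
  obtain ⟨w, w1, w2⟩ := Cfsg.Agent.H9.NonsplitTorus.exists_anti hδ hodd
  rw [isConj_iff]
  exact ⟨w, Cfsg.Agent.H9.NonsplitTorus.anti_inverts δ w t w1 w2 ht⟩

omit [Fintype F] [DecidableEq F] in
theorem ne_inv_of_mem_Tn (h2 : (2 : F) ≠ 0) {t : SL2} (hy : t.1 1 0 ≠ 0) : t ≠ t⁻¹ := by
  intro h
  obtain ⟨i1, i2, i3, i4⟩ := inv_entries t
  have := congrArg (fun g : SL2 => g.1 1 0) h
  simp only [i3] at this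
  have : 2 * t.1 1 0 = 0 := by linear_combination this
  rcases mul_eq_zero.mp this with h | h
  · exact h2 h
  · exact hy h

omit [DecidableEq F] in
/-- scalar elements of the torus -/
theorem eq_one_or_negOne_of_mem_Tn {t : SL2} (ht : t ∈ Tn δ) (hy : t.1 1 0 = 0) :
    t = 1 ∨ t = Cfsg.Agent.S2325.negOne := by
  have d := det_entries t
  rw [ht.1, ht.2, hy] at d
  have : (t.1 1 1 - 1) * (t.1 1 1 + 1) = 0 := by linear_combination d
  rcases mul_eq_zero.mp this with h | h
  · left
    have hx : t.1 1 1 = 1 := by linear_combination h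
    apply ext_entries
    · rw [ht.1, hx]; simp
    · rw [ht.2, hy]; simp
    · rw [hy]; simp
    · rw [hx]; simp
  · right
    have hx : t.1 1 1 = -1 := by linear_combination h
    apply Subtype.ext
    rw [Cfsg.Agent.S2508.coe_negOne]
    ext i j
    fin_cases i <;> fin_cases j
    · simp [ht.1, hx]
    · simp [ht.2, hy]
    · simp [hy]
    · simp [hx]

end torus

end Cfsg.Agent.H9.SL2Chars
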