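import Mathlib
import Cfsg.Agent.H9.SL2Torus

set_option autoImplicit false

/-!
# Functions induced from the non-split torus of SL₂(F), `q` odd
-/

namespace Cfsg.Agent.H9.SL2Chars

open Cfsg Matrix Cfsg.Agent.Lib.helper3.IndFun Cfsg.Agent.Lib.helper3.Irr
open Cfsg.Agent.H9.PrincipalSeries Cfsg.Agent.S2307 Cfsg.Agent.H9.IndConj
open Cfsg.Agent.H9.NonsplitTorus (Tn mem_Tn)
open scoped ComplexConjugate

variable {F : Type*} [Field F] [Fintype F] [DecidableEq F]

local notation "SL2" => Matrix.SpecialLinearGroup (Fin 2) F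

omit [Fintype F] [DecidableEq F] in
/-- having no eigenvector is invariant under conjugation -/
theorem isEll_conj {g : SL2} (h : IsEll g) (s : SL2) : IsEll (s * g * s⁻¹) := by
  intro c v hv he
  apply h c ((s⁻¹ : SL2).1.mulVec v)
  · intro h0
    apply hv
    have : (s.1 * (s⁻¹ : SL2).1).mulVec v = 0 := by
      rw [← Matrix.mulVec_mulVec, h0, Matrix.mulVec_zero]
    rw [← Matrix.SpecialLinearGroup.coe_mul, mul_inv_cancel, Matrix.SpecialLinearGroup.coe_one,
      Matrix.one_mulVec] at this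
    exact this
  · have e1 : (s * g * s⁻¹ : SL2).1 = s.1 * g.1 * (s⁻¹ : SL2).1 := by
      rw [Matrix.SpecialLinearGroup.coe_mul, Matrix.SpecialLinearGroup.coe_mul]
    rw [e1] at he
    have e2 := congrArg (fun w => (s⁻¹ : SL2).1.mulVec w) he
    simp only [Matrix.mulVec_mulVec, Matrix.mulVec_smul] at e2
    rw [← Matrix.mul_assoc, ← Matrix.mul_assoc, ← Matrix.SpecialLinearGroup.coe_mul, inv_mul_cancel,
      Matrix.SpecialLinearGroup.coe_one, Matrix.one_mul] at e2
    rw [Matrix.mulVec_mulVec]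
    exact e2

omit [Fintype F] [DecidableEq F] in
theorem isEll_of_isConj {g h : SL2} (hg : IsEll g) (hc : IsConj g h) : IsEll h := by
  obtain ⟨s, hs⟩ := isConj_iff.mp hc
  rw [← hs]
  exact isEll_conj hg s

omit [Fintype F] [DecidableEq F] in
/-- upper triangular elements have an eigenvector -/
theorem not_isEll_of_upper {g : SL2} (h10 : g.1 1 0 = 0) : ¬ IsEll g := by
  intro h
  apply h (g.1 0 0) ![1, 0]
  · intro hv
    have := congrFun hv 0
    simp at this
  · ext i
    fin_cases i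
    · simp [Matrix.mulVec, dotProduct, Fin.sum_univ_two]
    · simp [Matrix.mulVec, dotProduct, Fin.sum_univ_two, h10]

section torus

variable {δ : F} (hδ : ¬ IsSquare δ)

/-- a multiplicative character of the torus as a complex function -/
noncomputable def thF (θ : ↥(Tn δ : Subgroup SL2) →* ℂˣ) : ↥(Tn δ : Subgroup SL2) → ℂ :=
  fun t => ((θ t : ℂˣ) : ℂ)

omit [Fintype F] [DecidableEq F] in
theorem thF_isCharacter (θ : ↥(Tn δ : Subgroup SL2) →* ℂˣ) :
    IsCharacter ↥(Tn δ : Subgroup SL2) (thF θ) :=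
  Cfsg.Agent.Lib.helper3.Lin.isCharacter_of_hom θ

include hδ in
/-- the function induced from the torus, at a non-scalar element of the torus -/
theorem indT_torus (hodd : Odd (Fintype.card F)) (θ : ↥(Tn δ : Subgroup SL2) →* ℂˣ) (t : SL2)
    (ht : t ∈ Tn δ) (hy : t.1 1 0 ≠ 0) :
    indFun (Tn δ : Subgroup SL2) (thF θ) t
      = thF θ ⟨t, ht⟩ + thF θ ⟨t⁻¹, (Tn δ).inv_mem ht⟩ := by
  classical
  letI : Fintype ↥(Tn δ : Subgroup SL2) := Fintype.ofFinite _
  have h2 : (2 : F) ≠ 0 := Ring.two_ne_zero (ringChar_ne_two_of_odd hodd)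
  have hδ0 : δ ≠ 0 := Cfsg.Agent.H9.NonsplitTorus.delta_ne_zero hδ
  have hS : ∀ h : ↥(Tn δ : Subgroup SL2),
      h ∈ ({⟨t, ht⟩, ⟨t⁻¹, (Tn δ).inv_mem ht⟩} : Finset ↥(Tn δ : Subgroup SL2)) ↔
        IsConj t (h : SL2) := by
    intro h
    simp only [Finset.mem_insert, Finset.mem_singleton]
    constructor
    · rintro (rfl | rfl)
      · exact IsConj.refl _
      · exact isConj_inv_of_mem_Tn hδ hodd ht
    · intro hc
      rcases eq_or_eq_inv_of_isConj h2 hδ0 ht h.2 hc with e | e
      · left; exact Subtype.ext e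
      · right; exact Subtype.ext e
  rw [indFun_eq_sum_finset _ _ _ _ hS, Cfsg.Agent.H9.NonsplitTorus.centralizer_eq δ t ht hy,
    div_self (card_ne_zero_complex _), one_mul, Finset.sum_pair]
  intro e
  exact ne_inv_of_mem_Tn h2 hy (congrArg Subtype.val e)

/-- the function induced from the torus, at a central element -/
theorem indT_central (θ : ↥(Tn δ : Subgroup SL2) →* ℂˣ) (z : SL2) (hz : z ∈ Tn δ)
    (hzc : z ∈ Subgroup.center SL2) :
    indFun (Tn δ : Subgroup SL2) (thF θ) z
      = (Nat.card SL2 : ℂ) / (Nat.card ↥(Tn δ : Subgroup SL2) : ℂ) * thF θ ⟨z, hz⟩ := by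
  classical
  letI : Fintype ↥(Tn δ : Subgroup SL2) := Fintype.ofFinite _
  have hS : ∀ h : ↥(Tn δ : Subgroup SL2),
      h ∈ ({⟨z, hz⟩} : Finset ↥(Tn δ : Subgroup SL2)) ↔ IsConj z (h : SL2) := by
    intro h
    rw [Finset.mem_singleton]
    constructor
    · rintro rfl
      exact IsConj.refl _
    · intro hc
      apply Subtype.ext
      obtain ⟨s, hs⟩ := isConj_iff.mp hc
      rw [← hs]
      have := Subgroup.mem_center_iff.mp hzc s
      calc s * z * s⁻¹ = z * s * s⁻¹ := by rw [this]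
        _ = z := by group
  rw [indFun_eq_sum_finset _ _ _ _ hS, Finset.sum_singleton]
  have hcent : Subgroup.centralizer ({z} : Set SL2) = ⊤ := by
    rw [Subgroup.centralizer_eq_top_iff_subset]
    intro x hx
    rw [Set.mem_singleton_iff] at hx
    rw [hx]
    exact hzc
  rw [hcent, Nat.card_congr Subgroup.topEquiv.toEquiv]

include hδ in
/-- the function induced from the torus vanishes at the non-central elements with an
eigenvector -/
theorem indT_zero (θ : ↥(Tn δ : Subgroup SL2) →* ℂˣ) (g : SL2) (hg : ¬ IsEll g)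
    (hgc : g ∉ Subgroup.center SL2) :
    indFun (Tn δ : Subgroup SL2) (thF θ) g = 0 := by
  classical
  letI : Fintype ↥(Tn δ : Subgroup SL2) := Fintype.ofFinite _
  apply indFun_eq_zero
  intro h hc
  by_cases hy : (h : SL2).1 1 0 = 0
  · have hcen : (h : SL2) ∈ Subgroup.center SL2 := by
      rw [Cfsg.Agent.S2508.mem_center_iff']
      exact eq_one_or_negOne_of_mem_Tn h.2 hy
    apply hgc
    obtain ⟨s, hs⟩ := isConj_iff.mp hc.symm
    rw [← hs]
    have := Subgroup.mem_center_iff.mp hcen s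
    have e : s * (h : SL2) * s⁻¹ = h := by
      calc s * (h : SL2) * s⁻¹ = (h : SL2) * s * s⁻¹ := by rw [this]
        _ = h := by group
    rw [e]
    exact hcen
  · exact hg (isEll_of_isConj (isEll_of_mem_Tn hδ h.2 hy) hc.symm)

end torus

end Cfsg.Agent.H9.SL2Chars
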