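import Mathlib
import Cfsg.Agent.H9.SL2TorusInd

set_option autoImplicit false

/-!
# The subgroup `±U` of SL₂(F), `q` odd, and its linear characters
-/

namespace Cfsg.Agent.H9.SL2Chars

open Cfsg Matrix Cfsg.Agent.Lib.helper3.IndFun Cfsg.Agent.Lib.helper3.Irr
open Cfsg.Agent.H9.PrincipalSeries Cfsg.Agent.S2307 Cfsg.Agent.H9.IndConj
open scoped ComplexConjugate

variable {F : Type*} [Field F] [Fintype F] [DecidableEq F]

local notation "SL2" => Matrix.SpecialLinearGroup (Fin 2) F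
local notation "negOne" => (Cfsg.Agent.S2325.negOne : Matrix.SpecialLinearGroup (Fin 2) F)

omit [DecidableEq F] in
theorem negOne_entries : (negOne).1 0 0 = -1 ∧ (negOne).1 0 1 = 0 ∧ (negOne).1 1 0 = 0 ∧
    (negOne).1 1 1 = -1 := by
  rw [Cfsg.Agent.S2508.coe_negOne]
  simp

/-- the subgroup `±U` -/
def ZU : Subgroup SL2 where
  carrier := {g | g.1 1 0 = 0 ∧ g.1 0 0 = g.1 1 1}
  one_mem' := by simp
  mul_mem' := by
    rintro g h ⟨g1, g2⟩ ⟨h1, h2⟩
    refine ⟨?_, ?_⟩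
    · rw [mul_entries, g1, h1]; ring
    · rw [mul_entries, mul_entries, g1, h1, g2, h2]; ring
  inv_mem' := by
    rintro g ⟨g1, g2⟩
    obtain ⟨i1, i2, i3, i4⟩ := inv_entries g
    exact ⟨by rw [i3, g1, neg_zero], by rw [i1, i4, g2]⟩

omit [Fintype F] [DecidableEq F] in
theorem mem_ZU (g : SL2) : g ∈ (ZU : Subgroup SL2) ↔ g.1 1 0 = 0 ∧ g.1 0 0 = g.1 1 1 := Iff.rfl

omit [Fintype F] [DecidableEq F] in
theorem ZU_sq {g : SL2} (hg : g ∈ (ZU : Subgroup SL2)) : g.1 0 0 * g.1 0 0 = 1 := by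
  have d := det_entries g
  rw [hg.1, mul_zero, sub_zero, ← hg.2] at d
  exact d

omit [Fintype F] [DecidableEq F] in
theorem ZU_cases {g : SL2} (hg : g ∈ (ZU : Subgroup SL2)) : g.1 0 0 = 1 ∨ g.1 0 0 = -1 := by
  have := ZU_sq hg
  have h : (g.1 0 0 - 1) * (g.1 0 0 + 1) = 0 := by linear_combination this
  rcases mul_eq_zero.mp h with h | h
  · left; linear_combination h
  · right; linear_combination h

omit [Fintype F] [DecidableEq F] in
theorem uu_mem_ZU (b : F) : uu b ∈ (ZU : Subgroup SL2) := by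
  rw [mem_ZU]; simp [uu]

omit [DecidableEq F] in
theorem negOne_mem_ZU : negOne ∈ (ZU : Subgroup SL2) := by
  obtain ⟨e1, e2, e3, e4⟩ := negOne_entries (F := F)
  rw [mem_ZU, e1, e3, e4]
  exact ⟨rfl, rfl⟩

omit [DecidableEq F] in
theorem negOne_mul_uu_entries (b : F) : (negOne * uu b).1 0 0 = -1 ∧ (negOne * uu b).1 0 1 = -b ∧
    (negOne * uu b).1 1 0 = 0 ∧ (negOne * uu b).1 1 1 = -1 := by
  obtain ⟨e1, e2, e3, e4⟩ := negOne_entries (F := F)
  refine ⟨?_, ?_, ?_, ?_⟩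
  · rw [mul_entries, e1, e2]; simp [uu]
  · rw [mul_entries, e1, e2]; simp [uu]
  · rw [mul_entries, e3, e4]; simp [uu]
  · rw [mul_entries, e3, e4]; simp [uu]

/-- the value of the linear character `ω ⊗ ψ_c` of `±U` -/
noncomputable def lamF (ε : ℂ) (ψ : AddChar F ℂ) (c : F) (g : SL2) : ℂ :=
  (if g.1 0 0 = 1 then 1 else ε) * ψ (c * (g.1 0 0 * g.1 0 1))

omit [Fintype F] in
theorem lamF_one (ε : ℂ) (ψ : AddChar F ℂ) (c : F) : lamF ε ψ c (1 : SL2) = 1 := by
  unfold lamF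
  simp

omit [Fintype F] in
theorem lamF_mul (h2 : (2 : F) ≠ 0) {ε : ℂ} (hε : ε * ε = 1) (ψ : AddChar F ℂ) (c : F) {g h : SL2}
    (hg : g ∈ (ZU : Subgroup SL2)) (hh : h ∈ (ZU : Subgroup SL2)) :
    lamF ε ψ c (g * h) = lamF ε ψ c g * lamF ε ψ c h := by
  unfold lamF
  have hne : (-1 : F) ≠ 1 := by
    intro h
    apply h2
    linear_combination -h
  have e00 : (g * h).1 0 0 = g.1 0 0 * h.1 0 0 := by
    rw [mul_entries, hh.1]; ring
  have e01 : (g * h).1 0 1 = g.1 0 0 * h.1 0 1 + g.1 0 1 * h.1 0 0 := by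
    rw [mul_entries, ← hh.2]
  have sg := ZU_sq hg
  have sh := ZU_sq hh
  have harg : c * ((g * h).1 0 0 * (g * h).1 0 1)
      = c * (g.1 0 0 * g.1 0 1) + c * (h.1 0 0 * h.1 0 1) := by
    rw [e00, e01]
    linear_combination c * h.1 0 0 * h.1 0 1 * sg + c * g.1 0 0 * g.1 0 1 * sh
  rw [harg, AddChar.map_add_eq_mul, e00]
  rcases ZU_cases hg with a | a <;> rcases ZU_cases hh with b | b
  · rw [a, b, mul_one, if_pos rfl]; ring
  · rw [a, b, one_mul, if_pos rfl, if_neg hne]; ring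
  · rw [a, b, mul_one, if_neg hne, if_pos rfl]; ring
  · rw [a, b, if_neg hne, show (-1 : F) * -1 = 1 by ring, if_pos rfl]
    linear_combination (-(ψ (c * (-1 * g.1 0 1)) * ψ (c * (-1 * h.1 0 1)))) * hε

/-- the linear character `ω ⊗ ψ_c` of `±U` -/
noncomputable def lamHom (h2 : (2 : F) ≠ 0) (ε : ℂ) (hε : ε * ε = 1) (ψ : AddChar F ℂ) (c : F) :
    ↥(ZU : Subgroup SL2) →* ℂˣ :=
  MonoidHom.toHomUnits
    { toFun := fun g => lamF ε ψ c (g : SL2)
      map_one' := lamF_one ε ψ c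
      map_mul' := fun g h => lamF_mul h2 hε ψ c g.2 h.2 }

/-- the linear character `ω ⊗ ψ_c` of `±U` as a complex function -/
noncomputable def lamC (ε : ℂ) (ψ : AddChar F ℂ) (c : F) : ↥(ZU : Subgroup SL2) → ℂ :=
  fun g => lamF ε ψ c (g : SL2)

omit [Fintype F] in
theorem lamC_isCharacter (h2 : (2 : F) ≠ 0) (ε : ℂ) (hε : ε * ε = 1) (ψ : AddChar F ℂ) (c : F) :
    IsCharacter ↥(ZU : Subgroup SL2) (lamC ε ψ c) := by
  have := Cfsg.Agent.Lib.helper3.Lin.isCharacter_of_hom (lamHom h2 ε hε ψ c)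
  convert this using 1
  funext g
  unfold lamHom lamC
  rw [MonoidHom.coe_toHomUnits]
  rfl

omit [Fintype F] in
theorem lamF_uu (ε : ℂ) (ψ : AddChar F ℂ) (c b : F) : lamF ε ψ c (uu b) = ψ (c * b) := by
  unfold lamF
  have e00 : (uu b : SL2).1 0 0 = 1 := by simp [uu]
  have e01 : (uu b : SL2).1 0 1 = b := by simp [uu]
  rw [e00, e01, if_pos rfl, one_mul, one_mul]

theorem lamF_neg_uu (h2 : (2 : F) ≠ 0) (ε : ℂ) (ψ : AddChar F ℂ) (c b : F) :
    lamF ε ψ c (negOne * uu b) = ε * ψ (c * b) := by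
  unfold lamF
  obtain ⟨e1, e2, e3, e4⟩ := negOne_mul_uu_entries b
  have hne : (-1 : F) ≠ 1 := by
    intro h
    apply h2
    linear_combination -h
  rw [e1, e2, if_neg hne]
  congr 2
  ring

/-- summation over `±U` -/
theorem sum_ZU (h2 : (2 : F) ≠ 0) [Fintype ↥(ZU : Subgroup SL2)] (f : ↥(ZU : Subgroup SL2) → ℂ) :
    ∑ h : ↥(ZU : Subgroup SL2), f h
      = ∑ b : F, f ⟨uu b, uu_mem_ZU b⟩
        + ∑ b : F, f ⟨negOne * uu b, (ZU).mul_mem negOne_mem_ZU (uu_mem_ZU b)⟩ := by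
  have hne : (-1 : F) ≠ 1 := by
    intro h
    apply h2
    linear_combination -h
  let e : F ⊕ F → ↥(ZU : Subgroup SL2) := Sum.elim (fun b => ⟨uu b, uu_mem_ZU b⟩)
    (fun b => ⟨negOne * uu b, (ZU).mul_mem negOne_mem_ZU (uu_mem_ZU b)⟩)
  have hbij : Function.Bijective e := by
    constructor
    · rintro (a | a) (b | b) h
      · have := congrArg (fun g : ↥(ZU : Subgroup SL2) => (g : SL2).1 0 1) h
        simp [e, uu] at this
        rw [this]
      · exfalso
        have := congrArg (fun g : ↥(ZU : Subgroup SL2) => (g : SL2).1 0 0) h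
        simp only [e, Sum.elim_inl, Sum.elim_inr, (negOne_mul_uu_entries b).1] at this
        simp [uu] at this
        exact hne this.symm
      · exfalso
        have := congrArg (fun g : ↥(ZU : Subgroup SL2) => (g : SL2).1 0 0) h
        simp only [e, Sum.elim_inl, Sum.elim_inr, (negOne_mul_uu_entries a).1] at this
        simp [uu] at this
        exact hne this
      · have := congrArg (fun g : ↥(ZU : Subgroup SL2) => (g : SL2).1 0 1) h
        simp only [e, Sum.elim_inr, (negOne_mul_uu_entries a).2.1,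
          (negOne_mul_uu_entries b).2.1] at this
        rw [neg_inj.mp this]
    · rintro ⟨g, hg⟩
      rcases ZU_cases hg with h | h
      · refine ⟨Sum.inl (g.1 0 1), ?_⟩
        apply Subtype.ext
        apply ext_entries
        · simp [e, uu, h]
        · simp [e, uu]
        · simp [e, uu, hg.1]
        · simp [e, uu, ← hg.2, h]
      · refine ⟨Sum.inr (-g.1 0 1), ?_⟩
        apply Subtype.ext
        obtain ⟨e1, e2, e3, e4⟩ := negOne_mul_uu_entries (-g.1 0 1)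
        apply ext_entries
        · simp only [e, Sum.elim_inr, e1, h]
        · simp only [e, Sum.elim_inr, e2, neg_neg]
        · simp only [e, Sum.elim_inr, e3, hg.1]
        · simp only [e, Sum.elim_inr, e4, ← hg.2, h]
  rw [← hbij.sum_comp f, Fintype.sum_sum_type]
  rfl

end Cfsg.Agent.H9.SL2Chars
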