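import Mathlib
import Cfsg.Agent.H9.SL2ZU

set_option autoImplicit false

/-!
# Characters of SL₂(F), `q` odd, induced from the linear characters of `±U`
-/

namespace Cfsg.Agent.H9.SL2Chars

open Cfsg Matrix Cfsg.Agent.Lib.helper3.IndFun Cfsg.Agent.Lib.helper3.Irr
open Cfsg.Agent.H9.PrincipalSeries Cfsg.Agent.S2307 Cfsg.Agent.H9.IndConj
open scoped ComplexConjugate

variable {F : Type*} [Field F] [Fintype F] [DecidableEq F]

local notation "SL2" => Matrix.SpecialLinearGroup (Fin 2) F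
local notation "negOne" => (Cfsg.Agent.S2325.negOne : Matrix.SpecialLinearGroup (Fin 2) F)

omit [DecidableEq F] in
/-- the order of `±U` -/
theorem card_ZU (hodd : Odd (Fintype.card F)) :
    (Nat.card ↥(ZU : Subgroup SL2) : ℂ) = 2 * (Fintype.card F : ℂ) := by
  classical
  letI : Fintype ↥(ZU : Subgroup SL2) := Fintype.ofFinite _
  have h2 : (2 : F) ≠ 0 := Ring.two_ne_zero (ringChar_ne_two_of_odd hodd)
  have h := sum_ZU h2 (fun _ => (1 : ℂ))
  simp only [Finset.sum_const, Finset.card_univ, nsmul_eq_mul, mul_one] at h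
  rw [Nat.card_eq_fintype_card, h]
  ring

/-- the order of the centralizer of a non-trivial unipotent element -/
theorem card_centralizer_uu (hodd : Odd (Fintype.card F)) {b : F} (hb : b ≠ 0) :
    (Nat.card (Subgroup.centralizer ({uu b} : Set SL2)) : ℂ) = 2 * (Fintype.card F : ℂ) := by
  have h2 : (2 : F) ≠ 0 := Ring.two_ne_zero (ringChar_ne_two_of_odd hodd)
  have hns : ¬ ∃ a : F, ((uu b : SL2) : Matrix (Fin 2) (Fin 2) F)
      = a • (1 : Matrix (Fin 2) (Fin 2) F) := by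
    rintro ⟨a, ha⟩
    have := congrFun (congrFun ha 0) 1
    simp [uu] at this
    exact hb this
  have ht : ((uu b : SL2) : Matrix (Fin 2) (Fin 2) F).trace ^ 2 = 4 := by
    rw [Matrix.trace_fin_two]
    simp [uu]
    norm_num
  have hidx := Cfsg.Agent.S2508.index_unip (Nat.odd_iff.mp hodd) (uu b) hns ht
  have hmul := Subgroup.index_mul_card (Subgroup.centralizer ({uu b} : Set SL2))
  rw [hidx] at hmul
  have hc := Cfsg.Agent.S2300.card_SL2_cast (F := F)
  rw [← hmul] at hc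
  obtain ⟨k, hk⟩ := hodd
  have hk1 : 1 ≤ k := by
    have : 2 ≤ Fintype.card F := Fintype.one_lt_card
    omega
  have e1 : (Fintype.card F ^ 2 - 1) / 2 = 2 * k * (k + 1) := by
    rw [hk]
    have : (2 * k + 1) ^ 2 - 1 = 2 * (2 * k * (k + 1)) := by
      have : (2 * k + 1) ^ 2 = 2 * (2 * k * (k + 1)) + 1 := by ring
      rw [this, Nat.add_sub_cancel]
    rw [this, Nat.mul_div_cancel_left _ (by norm_num : 0 < 2)]
  rw [e1, hk] at hc
  push_cast at hc
  rw [hk]
  push_cast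
  have hk0 : (k : ℂ) ≠ 0 := by
    have : k ≠ 0 := by omega
    exact_mod_cast this
  have hk10 : (k : ℂ) + 1 ≠ 0 := by
    have : k + 1 ≠ 0 := by omega
    exact_mod_cast this
  apply mul_left_cancel₀ (mul_ne_zero (mul_ne_zero two_ne_zero hk0) hk10)
  linear_combination hc

omit [DecidableEq F] in
/-- conjugates of a non-trivial unipotent element inside `±U` -/
theorem isConj_uu_iff (h2 : (2 : F) ≠ 0) {b₀ : F} (hb₀ : b₀ ≠ 0) (h : SL2)
    (hh : h ∈ (ZU : Subgroup SL2)) :
    IsConj (uu b₀) h ↔ ∃ b' : F, h = uu b' ∧ IsSquare (b' * b₀) ∧ b' ≠ 0 := by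
  constructor
  · intro hc
    have htr := Cfsg.Agent.S2325.trace_eq_of_isConj hc
    rw [Matrix.trace_fin_two, Matrix.trace_fin_two] at htr
    have e00 : (uu b₀ : SL2).1 0 0 = 1 := by simp [uu]
    have e11 : (uu b₀ : SL2).1 1 1 = 1 := by simp [uu]
    rw [e00, e11, ← hh.2] at htr
    have h00 : h.1 0 0 = 1 := by
      have : 2 * h.1 0 0 = 2 * 1 := by linear_combination -htr
      exact mul_left_cancel₀ h2 this
    have hu : h = uu (h.1 0 1) := by
      apply ext_entries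
      · rw [h00]; simp [uu]
      · simp [uu]
      · rw [hh.1]; simp [uu]
      · rw [← hh.2, h00]; simp [uu]
    obtain ⟨y, hy⟩ := isConj_iff.mp hc
    rw [hu, conj_uu_iff] at hy
    obtain ⟨y1, y2, y3⟩ := hy
    have y10 : y.1 1 0 = 0 := (mul_eq_zero.mp y3).resolve_right hb₀
    have hdet := det_entries y
    rw [y10, mul_zero, sub_zero] at hdet
    have y00 : y.1 0 0 ≠ 0 := left_ne_zero_of_mul_eq_one hdet
    have hb' : h.1 0 1 = y.1 0 0 ^ 2 * b₀ := by
      linear_combination (-(y.1 0 0)) * y2 + (-(h.1 0 1)) * hdet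
    refine ⟨h.1 0 1, hu, ⟨y.1 0 0 * b₀, ?_⟩, ?_⟩
    · rw [hb']; ring
    · rw [hb']
      exact mul_ne_zero (pow_ne_zero 2 y00) hb₀
  · rintro ⟨b', rfl, ⟨s, hs⟩, hb'⟩
    have hs0 : s ≠ 0 := by
      intro h0
      rw [h0, mul_zero] at hs
      exact mul_ne_zero hb' hb₀ hs
    have ha0 : s / b₀ ≠ 0 := div_ne_zero hs0 hb₀
    have hconj := uu_conj_diag (Units.mk0 (s / b₀) ha0) b₀
    have e : ((Units.mk0 (s / b₀) ha0 : Fˣ) : F) ^ 2 * b₀ = b' := by
      rw [Units.val_mk0]
      field_simp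
      linear_combination -hs
    rw [e] at hconj
    rw [isConj_iff]
    exact ⟨_, hconj.symm⟩

/-- the elements `b'` with `uu b'` conjugate to `uu b₀` -/
noncomputable def QQ (b₀ : F) : Finset F :=
  Finset.univ.filter (fun b' : F => quadraticChar F (b' * b₀) = 1)

/-- the basic exponential sum over a square class and its twist -/
theorem sum_QQ (hodd : Odd (Fintype.card F)) (ψ : AddChar F ℂ) (hψ : ψ.IsPrimitive) {ν : F}
    (hν : quadraticChar F ν = -1) {b₀ : F} (hb₀ : b₀ ≠ 0) :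
    ∑ b' ∈ QQ b₀, ψ b' + ∑ b' ∈ QQ b₀, ψ (ν * b') = -1 := by
  have hF := ringChar_ne_two_of_odd hodd
  have hν0 : ν ≠ 0 := by
    intro h
    rw [h, quadraticChar_zero] at hν
    norm_num at hν
  have hνi : quadraticChar F ν⁻¹ = -1 := by
    have h3 : quadraticChar F (ν⁻¹ * ν) = 1 := by
      rw [inv_mul_cancel₀ hν0, map_one]
    rw [map_mul, hν] at h3
    linarith
  -- the twisted sum is the sum over the other class
  have h2 : ∑ b' ∈ QQ b₀, ψ (ν * b')
      = ∑ y ∈ Finset.univ.filter (fun y : F => quadraticChar F (y * b₀) = -1), ψ y := by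
    apply Finset.sum_bij (fun b' _ => ν * b')
    · intro b' hb'
      rw [QQ, Finset.mem_filter] at hb'
      rw [Finset.mem_filter]
      refine ⟨Finset.mem_univ _, ?_⟩
      rw [mul_assoc, map_mul, hν, hb'.2]
      norm_num
    · intro a _ b _ h
      exact mul_left_cancel₀ hν0 h
    · intro y hy
      rw [Finset.mem_filter] at hy
      refine ⟨ν⁻¹ * y, ?_, ?_⟩
      · rw [QQ, Finset.mem_filter]
        refine ⟨Finset.mem_univ _, ?_⟩
        rw [mul_assoc, map_mul, hνi, hy.2]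
        norm_num
      · rw [← mul_assoc, mul_inv_cancel₀ hν0, one_mul]
    · intro b' _
      rfl
  rw [h2]
  have hs : ∑ y : F, ψ y = 0 := by
    have := AddChar.sum_mulShift (1 : F) hψ
    rw [if_neg one_ne_zero, Nat.cast_zero] at this
    simpa using this
  have hterm : ∀ y : F, ψ y = (if y = 0 then ψ y else 0)
      + ((if quadraticChar F (y * b₀) = 1 then ψ y else 0)
        + (if quadraticChar F (y * b₀) = -1 then ψ y else 0)) := by
    intro y
    by_cases hy : y = 0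
    · rw [if_pos hy, hy, zero_mul, quadraticChar_zero, if_neg (by norm_num), if_neg (by norm_num)]
      ring
    · rw [if_neg hy]
      rcases quadraticChar_dichotomy (mul_ne_zero hy hb₀) with h | h
      · rw [h, if_pos rfl, if_neg (by norm_num)]; ring
      · rw [h, if_neg (by norm_num), if_pos rfl]; ring
  have hsum := hs
  rw [Finset.sum_congr rfl (fun y _ => hterm y), Finset.sum_add_distrib, Finset.sum_add_distrib,
    Finset.sum_ite_eq', if_pos (Finset.mem_univ _), AddChar.map_zero_eq_one, ← Finset.sum_filter,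
    ← Finset.sum_filter] at hsum
  unfold QQ
  linear_combination hsum

/-- the character induced from `ω ⊗ ψ_c`, at a non-trivial unipotent element -/
theorem indZU_uu (hodd : Odd (Fintype.card F)) (ε : ℂ) (ψ : AddChar F ℂ) (c : F) {b₀ : F}
    (hb₀ : b₀ ≠ 0) :
    indFun (ZU : Subgroup SL2) (lamC ε ψ c) (uu b₀) = ∑ b' ∈ QQ b₀, ψ (c * b') := by
  classical
  letI : Fintype ↥(ZU : Subgroup SL2) := Fintype.ofFinite _
  have h2 : (2 : F) ≠ 0 := Ring.two_ne_zero (ringChar_ne_two_of_odd hodd)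
  have hq0 : (Fintype.card F : ℂ) ≠ 0 := by
    exact_mod_cast Fintype.card_ne_zero
  have hS : ∀ h : ↥(ZU : Subgroup SL2),
      h ∈ (QQ b₀).image (fun b' => (⟨uu b', uu_mem_ZU b'⟩ : ↥(ZU : Subgroup SL2))) ↔
        IsConj (uu b₀) (h : SL2) := by
    intro h
    rw [Finset.mem_image, isConj_uu_iff h2 hb₀ _ h.2]
    constructor
    · rintro ⟨b', hb', rfl⟩
      rw [QQ, Finset.mem_filter] at hb'
      have hne : b' * b₀ ≠ 0 := by
        intro h0
        rw [h0, quadraticChar_zero] at hb'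
        exact zero_ne_one hb'.2
      exact ⟨b', rfl, (quadraticChar_one_iff_isSquare hne).mp hb'.2, left_ne_zero_of_mul hne⟩
    · rintro ⟨b', hb', hsq, hne⟩
      refine ⟨b', ?_, Subtype.ext hb'.symm⟩
      rw [QQ, Finset.mem_filter]
      exact ⟨Finset.mem_univ _, (quadraticChar_one_iff_isSquare (mul_ne_zero hne hb₀)).mpr hsq⟩
  rw [indFun_eq_sum_finset _ _ _ _ hS, card_centralizer_uu hodd hb₀, card_ZU hodd,
    div_self (mul_ne_zero two_ne_zero hq0), one_mul, Finset.sum_image]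
  · apply Finset.sum_congr rfl
    intro b' _
    exact lamF_uu ε ψ c b'
  · intro a _ b _ h
    have := congrArg (fun g : ↥(ZU : Subgroup SL2) => (g : SL2).1 0 1) h
    simpa [uu] using this

/-- the character `Ψ_ω` -/
noncomputable def PsiZ (ε : ℂ) (ψ : AddChar F ℂ) (ν : F) : SL2 → ℂ :=
  indFun (ZU : Subgroup SL2) (lamC ε ψ 1) + indFun (ZU : Subgroup SL2) (lamC ε ψ ν)

theorem PsiZ_isCharacter (h2 : (2 : F) ≠ 0) (ε : ℂ) (hε : ε * ε = 1) (ψ : AddChar F ℂ) (ν : F) :
    IsCharacter SL2 (PsiZ ε ψ ν) :=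
  isCharacter_add (isCharacter_indFun _ _ (lamC_isCharacter h2 ε hε ψ 1))
    (isCharacter_indFun _ _ (lamC_isCharacter h2 ε hε ψ ν))

theorem PsiZ_uu (hodd : Odd (Fintype.card F)) (ε : ℂ) (ψ : AddChar F ℂ) (hψ : ψ.IsPrimitive)
    {ν : F} (hν : quadraticChar F ν = -1) {b₀ : F} (hb₀ : b₀ ≠ 0) :
    PsiZ ε ψ ν (uu b₀) = -1 := by
  unfold PsiZ
  rw [Pi.add_apply, indZU_uu hodd ε ψ 1 hb₀, indZU_uu hodd ε ψ ν hb₀]
  simp only [one_mul]
  exact sum_QQ hodd ψ hψ hν hb₀

theorem lamF_negOne (h2 : (2 : F) ≠ 0) (ε : ℂ) (ψ : AddChar F ℂ) (c : F) :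
    lamF ε ψ c negOne = ε := by
  classical
  have := lamF_neg_uu h2 ε ψ c 0
  rw [uu_zero, mul_one, mul_zero, AddChar.map_zero_eq_one, mul_one] at this
  exact this

theorem PsiZ_neg (h2 : (2 : F) ≠ 0) (ε : ℂ) (hε : ε * ε = 1) (ψ : AddChar F ℂ) (ν : F) (g : SL2) :
    PsiZ ε ψ ν (negOne * g) = ε * PsiZ ε ψ ν g := by
  classical
  letI : Fintype ↥(ZU : Subgroup SL2) := Fintype.ofFinite _
  unfold PsiZ
  have key : ∀ c : F, indFun (ZU : Subgroup SL2) (lamC ε ψ c) (negOne * g)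
      = ε * indFun (ZU : Subgroup SL2) (lamC ε ψ c) g := by
    intro c
    have := indFun_central_mul (ZU : Subgroup SL2) (lamC ε ψ c)
      (fun a b => lamF_mul h2 hε ψ c a.2 b.2) ⟨negOne, negOne_mem_ZU⟩
      Cfsg.Agent.S2508.negOne_mem_center g
    rw [this]
    congr 1
    exact lamF_negOne h2 ε ψ c
  rw [Pi.add_apply, Pi.add_apply, key, key]
  ring

theorem PsiZ_one (hodd : Odd (Fintype.card F)) (ε : ℂ) (ψ : AddChar F ℂ) (ν : F) :
    PsiZ ε ψ ν 1 = (Fintype.card F : ℂ) ^ 2 - 1 := by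
  classical
  letI : Fintype ↥(ZU : Subgroup SL2) := Fintype.ofFinite _
  have hq0 : (Fintype.card F : ℂ) ≠ 0 := by
    exact_mod_cast Fintype.card_ne_zero
  unfold PsiZ
  have key : ∀ c : F, indFun (ZU : Subgroup SL2) (lamC ε ψ c) 1
      = ((Fintype.card F : ℂ) ^ 2 - 1) / 2 := by
    intro c
    have := indFun_central (ZU : Subgroup SL2) (lamC ε ψ c) 1 (Subgroup.one_mem _)
    rw [OneMemClass.coe_one] at this
    rw [this, card_ZU hodd, Cfsg.Agent.S2300.card_SL2_cast]
    have : lamC ε ψ c 1 = 1 := lamF_one ε ψ c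
    rw [this]
    field_simp
    ring
  rw [Pi.add_apply, key, key]
  ring

/-- `Ψ_ω` vanishes off the conjugates of `±U` -/
theorem PsiZ_zero (ε : ℂ) (ψ : AddChar F ℂ) (ν : F) (g : SL2)
    (hg : (g.1 0 0 + g.1 1 1) ^ 2 ≠ 4) : PsiZ ε ψ ν g = 0 := by
  classical
  letI : Fintype ↥(ZU : Subgroup SL2) := Fintype.ofFinite _
  have key : ∀ h : ↥(ZU : Subgroup SL2), ¬ IsConj g (h : SL2) := by
    intro h hc
    apply hg
    have htr := Cfsg.Agent.S2325.trace_eq_of_isConj hc
    rw [Matrix.trace_fin_two, Matrix.trace_fin_two] at htr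
    rw [htr, ← h.2.2]
    have := ZU_sq h.2
    linear_combination 4 * this
  unfold PsiZ
  rw [Pi.add_apply, indFun_eq_zero _ _ _ key, indFun_eq_zero _ _ _ key, add_zero]

end Cfsg.Agent.H9.SL2Chars
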