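import Mathlib
import Cfsg.Agent.H9.SL2ZUInd

set_option autoImplicit false

/-!
# The cuspidal characters of SL₂(F), `q` odd, attached to the characters of the non-split torus
-/

namespace Cfsg.Agent.H9.SL2Chars

open Cfsg Matrix Cfsg.Agent.Lib.helper3.IndFun Cfsg.Agent.Lib.helper3.Irr
open Cfsg.Agent.H9.PrincipalSeries Cfsg.Agent.S2307 Cfsg.Agent.H9.IndConj
open Cfsg.Agent.H9.NonsplitTorus (Tn mem_Tn)
open scoped ComplexConjugate

variable {F : Type*} [Field F] [Fintype F] [DecidableEq F]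

local notation "SL2" => Matrix.SpecialLinearGroup (Fin 2) F
local notation "negOne" => (Cfsg.Agent.S2325.negOne : Matrix.SpecialLinearGroup (Fin 2) F)

section torus

variable {δ : F}

omit [DecidableEq F] in
theorem negOne_mem_Tn : negOne ∈ (Tn δ : Subgroup SL2) := by
  obtain ⟨e1, e2, e3, e4⟩ := negOne_entries (F := F)
  rw [mem_Tn, e1, e2, e3, e4]
  exact ⟨rfl, by ring⟩

omit [DecidableEq F] in
theorem card_Tn_cast (hδ : ¬ IsSquare δ) (hodd : Odd (Fintype.card F)) :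
    (Nat.card ↥(Tn δ : Subgroup SL2) : ℂ) = (Fintype.card F : ℂ) + 1 := by
  obtain ⟨g, hg, hy⟩ := Cfsg.Agent.H9.NonsplitTorus.exists_nonscalar hδ hodd
  rw [Cfsg.Agent.H9.NonsplitTorus.card_Tn hδ hodd g hg hy]
  push_cast
  ring

/-- the sign of a character of the torus at `-1` -/
noncomputable def eps (θ : ↥(Tn δ : Subgroup SL2) →* ℂˣ) : ℂ := thF θ ⟨negOne, negOne_mem_Tn⟩

omit [DecidableEq F] in
theorem eps_mul_self (θ : ↥(Tn δ : Subgroup SL2) →* ℂˣ) : eps θ * eps θ = 1 := by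
  unfold eps thF
  rw [← Units.val_mul, ← map_mul]
  have : (⟨negOne, negOne_mem_Tn⟩ : ↥(Tn δ : Subgroup SL2)) * ⟨negOne, negOne_mem_Tn⟩ = 1 := by
    apply Subtype.ext
    exact Cfsg.Agent.S2508.negOne_mul_negOne
  rw [this, map_one, Units.val_one]

omit [DecidableEq F] in
theorem eps_cases (θ : ↥(Tn δ : Subgroup SL2) →* ℂˣ) : eps θ = 1 ∨ eps θ = -1 := by
  have := eps_mul_self θ
  have h : (eps θ - 1) * (eps θ + 1) = 0 := by linear_combination this
  rcases mul_eq_zero.mp h with h | h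
  · left; linear_combination h
  · right; linear_combination h

omit [DecidableEq F] in
theorem conj_eps (θ : ↥(Tn δ : Subgroup SL2) →* ℂˣ) : conj (eps θ) = eps θ := by
  rcases eps_cases θ with h | h <;> rw [h] <;> simp

omit [Fintype F] [DecidableEq F] in
theorem thF_mul (θ : ↥(Tn δ : Subgroup SL2) →* ℂˣ) (a b : ↥(Tn δ : Subgroup SL2)) :
    thF θ (a * b) = thF θ a * thF θ b := by
  unfold thF
  rw [map_mul, Units.val_mul]

omit [DecidableEq F] in
/-- the values of a character of the torus have absolute value one -/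
theorem thF_mul_conj (θ : ↥(Tn δ : Subgroup SL2) →* ℂˣ) (a : ↥(Tn δ : Subgroup SL2)) :
    thF θ a * conj (thF θ a) = 1 := by
  classical
  letI : Fintype ↥(Tn δ : Subgroup SL2) := Fintype.ofFinite _
  have hp : thF θ a ^ (Fintype.card ↥(Tn δ : Subgroup SL2)) = 1 := by
    unfold thF
    rw [← Units.val_pow_eq_pow_val, ← map_pow, pow_card_eq_one, map_one, Units.val_one]
  have hn : ‖thF θ a‖ = 1 := Complex.norm_eq_one_of_pow_eq_one hp Fintype.card_ne_zero
  rw [Complex.mul_conj, Complex.normSq_eq_norm_sq, hn]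
  norm_num

omit [DecidableEq F] in
theorem conj_thF (θ : ↥(Tn δ : Subgroup SL2) →* ℂˣ) (a : ↥(Tn δ : Subgroup SL2)) :
    conj (thF θ a) = thF θ a⁻¹ := by
  have h1 := thF_mul_conj θ a
  have h2 : thF θ a * thF θ a⁻¹ = 1 := by
    rw [← thF_mul, mul_inv_cancel]
    unfold thF
    rw [map_one, Units.val_one]
  have hne : thF θ a ≠ 0 := left_ne_zero_of_mul_eq_one h1
  exact mul_left_cancel₀ hne (h1.trans h2.symm)

/-- the virtual character `Ψ_ω - Ind θ` -/
noncomputable def PhiT (θ : ↥(Tn δ : Subgroup SL2) →* ℂˣ) (ψ : AddChar F ℂ) (ν : F) : SL2 → ℂ :=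
  PsiZ (eps θ) ψ ν - indFun (Tn δ : Subgroup SL2) (thF θ)

theorem PhiT_isGeneralizedCharacter (h2 : (2 : F) ≠ 0) (θ : ↥(Tn δ : Subgroup SL2) →* ℂˣ)
    (ψ : AddChar F ℂ) (ν : F) : IsGeneralizedCharacter SL2 (PhiT θ ψ ν) :=
  ⟨_, _, PsiZ_isCharacter h2 (eps θ) (eps_mul_self θ) ψ ν,
    isCharacter_indFun _ _ (thF_isCharacter θ), rfl⟩

theorem PhiT_isClassFunction (θ : ↥(Tn δ : Subgroup SL2) →* ℂˣ) (ψ : AddChar F ℂ) (ν : F) :
    IsClassFunction SL2 (PhiT θ ψ ν) := by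
  intro g h
  unfold PhiT PsiZ
  simp only [Pi.sub_apply, Pi.add_apply]
  rw [indFun_isClassFunction _ _ g h, indFun_isClassFunction _ _ g h,
    indFun_isClassFunction _ _ g h]

theorem PhiT_one (hδ : ¬ IsSquare δ) (hodd : Odd (Fintype.card F))
    (θ : ↥(Tn δ : Subgroup SL2) →* ℂˣ) (ψ : AddChar F ℂ) (ν : F) :
    PhiT θ ψ ν 1 = (Fintype.card F : ℂ) - 1 := by
  classical
  unfold PhiT
  rw [Pi.sub_apply, PsiZ_one hodd, indT_central θ 1 (Subgroup.one_mem _) (Subgroup.one_mem _),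
    card_Tn_cast hδ hodd, Cfsg.Agent.S2300.card_SL2_cast]
  have h1 : thF θ ⟨1, Subgroup.one_mem _⟩ = 1 := by
    unfold thF
    have : (⟨1, Subgroup.one_mem _⟩ : ↥(Tn δ : Subgroup SL2)) = 1 := rfl
    rw [this, map_one, Units.val_one]
  rw [h1]
  have hq1 : (Fintype.card F : ℂ) + 1 ≠ 0 := by
    have : Fintype.card F + 1 ≠ 0 := by omega
    exact_mod_cast this
  field_simp
  ring

theorem PhiT_neg (h2 : (2 : F) ≠ 0) (θ : ↥(Tn δ : Subgroup SL2) →* ℂˣ) (ψ : AddChar F ℂ) (ν : F)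
    (g : SL2) : PhiT θ ψ ν (negOne * g) = eps θ * PhiT θ ψ ν g := by
  classical
  letI : Fintype ↥(Tn δ : Subgroup SL2) := Fintype.ofFinite _
  unfold PhiT
  rw [Pi.sub_apply, Pi.sub_apply, PsiZ_neg h2 _ (eps_mul_self θ)]
  have := indFun_central_mul (Tn δ : Subgroup SL2) (thF θ) (thF_mul θ) ⟨negOne, negOne_mem_Tn⟩
    Cfsg.Agent.S2508.negOne_mem_center g
  rw [this]
  unfold eps
  ring

theorem PhiT_torus (hδ : ¬ IsSquare δ) (hodd : Odd (Fintype.card F))
    (θ : ↥(Tn δ : Subgroup SL2) →* ℂˣ) (ψ : AddChar F ℂ) (ν : F) (t : SL2) (ht : t ∈ Tn δ)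
    (hy : t.1 1 0 ≠ 0) :
    PhiT θ ψ ν t = -(thF θ ⟨t, ht⟩ + thF θ ⟨t⁻¹, (Tn δ).inv_mem ht⟩) := by
  have h2 : (2 : F) ≠ 0 := Ring.two_ne_zero (ringChar_ne_two_of_odd hodd)
  unfold PhiT
  rw [Pi.sub_apply, PsiZ_zero _ _ _ _ ((isEll_of_mem_Tn hδ ht hy).trace_sq_ne h2),
    indT_torus hδ hodd θ t ht hy]
  ring

theorem PhiT_uu (hδ : ¬ IsSquare δ) (hodd : Odd (Fintype.card F))
    (θ : ↥(Tn δ : Subgroup SL2) →* ℂˣ) (ψ : AddChar F ℂ) (hψ : ψ.IsPrimitive) {ν : F}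
    (hν : quadraticChar F ν = -1) {b : F} (hb : b ≠ 0) : PhiT θ ψ ν (uu b) = -1 := by
  unfold PhiT
  have hnc : uu b ∉ Subgroup.center SL2 := by
    rw [Cfsg.Agent.S2508.mem_center_iff']
    rintro (h | h)
    · have := congrArg (fun g : SL2 => g.1 0 1) h
      simp [uu] at this
      exact hb this
    · have := congrArg (fun g : SL2 => g.1 0 1) h
      simp only [(negOne_entries (F := F)).2.1] at this
      simp [uu] at this
      exact hb this
  have hne : ¬ IsEll (uu b : SL2) := not_isEll_of_upper (by simp [uu])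
  rw [Pi.sub_apply, PsiZ_uu hodd _ ψ hψ hν hb, indT_zero hδ θ _ hne hnc]
  ring

theorem PhiT_diag (hδ : ¬ IsSquare δ) (θ : ↥(Tn δ : Subgroup SL2) →* ℂˣ) (ψ : AddChar F ℂ)
    (ν : F) (g : SL2) (h01 : g.1 0 1 = 0) (h10 : g.1 1 0 = 0) (ha : g.1 0 0 ^ 2 ≠ 1) :
    PhiT θ ψ ν g = 0 := by
  unfold PhiT
  have hdet := det_entries g
  rw [h01, zero_mul, sub_zero] at hdet
  have htr : (g.1 0 0 + g.1 1 1) ^ 2 ≠ 4 := by
    intro h
    apply ha
    have h1 : (g.1 0 0 - g.1 1 1) ^ 2 = 0 := by linear_combination h - 4 * hdet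
    have h2 : g.1 0 0 = g.1 1 1 := by
      have := pow_eq_zero_iff (two_ne_zero) |>.mp h1
      linear_combination this
    rw [← h2] at hdet
    rw [pow_two]; exact hdet
  have hnc : g ∉ Subgroup.center SL2 := by
    rw [Cfsg.Agent.S2508.mem_center_iff']
    rintro (h | h)
    · apply ha
      rw [h]; simp
    · apply ha
      rw [h, (negOne_entries (F := F)).1]; ring
  rw [Pi.sub_apply, PsiZ_zero _ _ _ _ htr, indT_zero hδ θ _ (not_isEll_of_upper h10) hnc]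
  ring

end torus

end Cfsg.Agent.H9.SL2Chars
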