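import Mathlib
import Cfsg.Agent.H9.SL2Cusp
import Cfsg.Agent.Lib.helper3.NormOne

set_option autoImplicit false

/-!
# The norm of the virtual characters `Ψ_ω - Ind θ` of SL₂(F), `q` odd
-/

namespace Cfsg.Agent.H9.SL2Chars

open Cfsg Matrix Cfsg.Agent.Lib.helper3.IndFun Cfsg.Agent.Lib.helper3.Irr
open Cfsg.Agent.H9.PrincipalSeries Cfsg.Agent.S2307 Cfsg.Agent.H9.IndConj
open Cfsg.Agent.H9.NonsplitTorus (Tn mem_Tn)
open scoped ComplexConjugate

variable {F : Type*} [Field F] [Fintype F] [DecidableEq F]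

local notation "SL2" => Matrix.SpecialLinearGroup (Fin 2) F
local notation "negOne" => (Cfsg.Agent.S2325.negOne : Matrix.SpecialLinearGroup (Fin 2) F)

/-- the degree of a character is a natural number -/
theorem exists_nat_degree {G : Type*} [Group G] {χ : G → ℂ} (hχ : IsCharacter G χ) :
    ∃ n : ℕ, χ 1 = (n : ℂ) := by
  obtain ⟨n, ρ, rfl⟩ := hχ
  refine ⟨n, ?_⟩
  rw [Representation.char_one]
  simp

section torus

variable {δ : F}

omit [DecidableEq F] in
theorem sum_thF_sq_of_ne (θ : ↥(Tn δ : Subgroup SL2) →* ℂˣ) [Fintype ↥(Tn δ : Subgroup SL2)]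
    (hne : ∃ t, θ t ^ 2 ≠ 1) : ∑ t : ↥(Tn δ : Subgroup SL2), thF θ t ^ 2 = 0 := by
  have h := sum_hom_units_eq_zero ((Units.coeHom ℂ).comp (θ ^ 2)) (by
    obtain ⟨t, ht⟩ := hne
    intro h
    apply ht
    have := congrArg (fun f : ↥(Tn δ : Subgroup SL2) →* ℂ => f t) h
    simp only [MonoidHom.comp_apply, MonoidHom.pow_apply, Units.coeHom_apply,
      MonoidHom.one_apply] at this
    exact Units.ext this)
  rw [← h]
  apply Finset.sum_congr rfl
  intro t _
  simp only [MonoidHom.comp_apply, MonoidHom.pow_apply, Units.coeHom_apply, Units.val_pow_eq_pow_val]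
  rfl

omit [DecidableEq F] in
theorem sum_thF_sq_of_eq (θ : ↥(Tn δ : Subgroup SL2) →* ℂˣ) [Fintype ↥(Tn δ : Subgroup SL2)]
    (heq : ∀ t, θ t ^ 2 = 1) :
    ∑ t : ↥(Tn δ : Subgroup SL2), thF θ t ^ 2 = (Nat.card ↥(Tn δ : Subgroup SL2) : ℂ) := by
  have : ∀ t : ↥(Tn δ : Subgroup SL2), thF θ t ^ 2 = 1 := by
    intro t
    unfold thF
    rw [← Units.val_pow_eq_pow_val, heq t, Units.val_one]
  simp only [this, Finset.sum_const, Finset.card_univ, nsmul_eq_mul, mul_one,
    Nat.card_eq_fintype_card]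

/-- there are two scalar elements in the torus -/
theorem sum_scalar_Tn (h2 : (2 : F) ≠ 0) [Fintype ↥(Tn δ : Subgroup SL2)] (K : ℂ) :
    ∑ t : ↥(Tn δ : Subgroup SL2), (if (t : SL2).1 1 0 = 0 then K else 0)
      = 2 * K := by
  rw [← Finset.sum_filter, Finset.sum_const, nsmul_eq_mul]
  have : Finset.univ.filter (fun t : ↥(Tn δ : Subgroup SL2) => (t : SL2).1 1 0 = 0)
      = {1, ⟨negOne, negOne_mem_Tn⟩} := by
    ext t
    simp only [Finset.mem_filter, Finset.mem_univ, true_and, Finset.mem_insert,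
      Finset.mem_singleton]
    constructor
    · intro h
      rcases eq_one_or_negOne_of_mem_Tn t.2 h with e | e
      · left; exact Subtype.ext e
      · right; exact Subtype.ext e
    · rintro (rfl | rfl)
      · simp
      · exact (negOne_entries (F := F)).2.2.1
  rw [this, Finset.card_pair]
  · norm_num
  · intro h
    exact Cfsg.Agent.S2325.one_ne_negOne h2 (congrArg Subtype.val h)

/-- the inner product of `Ind θ` with `Ψ_ω - Ind θ` -/
theorem inner_indT_PhiT (hδ : ¬ IsSquare δ) (hodd : Odd (Fintype.card F))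
    (θ : ↥(Tn δ : Subgroup SL2) →* ℂˣ) (ψ : AddChar F ℂ) (ν : F)
    [Fintype ↥(Tn δ : Subgroup SL2)] :
    classInner (indFun (Tn δ : Subgroup SL2) (thF θ)) (PhiT θ ψ ν)
      = 1 - (∑ t : ↥(Tn δ : Subgroup SL2), thF θ t ^ 2) / ((Fintype.card F : ℂ) + 1) := by
  classical
  have h2 : (2 : F) ≠ 0 := Ring.two_ne_zero (ringChar_ne_two_of_odd hodd)
  rw [frobenius_reciprocity _ _ _ (PhiT_isClassFunction θ ψ ν), classInner_apply,
    card_Tn_cast hδ hodd]
  have hterm : ∀ t : ↥(Tn δ : Subgroup SL2), thF θ t * conj (PhiT θ ψ ν (t : SL2))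
      = -(1 + thF θ t ^ 2)
        + (if (t : SL2).1 1 0 = 0 then ((Fintype.card F : ℂ) + 1) else 0) := by
    intro t
    have hinv : thF θ t * thF θ t⁻¹ = 1 := by
      rw [← thF_mul, mul_inv_cancel]
      unfold thF
      rw [map_one, Units.val_one]
    by_cases hy : (t : SL2).1 1 0 = 0
    · rw [if_pos hy]
      rcases eq_one_or_negOne_of_mem_Tn t.2 hy with e | e
      · have ht : t = 1 := Subtype.ext e
        have h1 : thF θ (1 : ↥(Tn δ : Subgroup SL2)) = 1 := by
          unfold thF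
          rw [map_one, Units.val_one]
        rw [ht, h1, OneMemClass.coe_one, PhiT_one hδ hodd]
        simp
        ring
      · have ht : t = ⟨negOne, negOne_mem_Tn⟩ := Subtype.ext e
        have hval : PhiT θ ψ ν negOne = eps θ * ((Fintype.card F : ℂ) - 1) := by
          have := PhiT_neg h2 θ ψ ν 1
          rw [mul_one, PhiT_one hδ hodd] at this
          exact this
        rw [ht, hval]
        have he : thF θ ⟨negOne, negOne_mem_Tn⟩ = eps θ := rfl
        rw [he, (starRingEnd ℂ).map_mul, conj_eps]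
        have hc : conj ((Fintype.card F : ℂ) - 1) = (Fintype.card F : ℂ) - 1 := by
          rw [map_sub, Complex.conj_natCast, map_one]
        rw [hc]
        linear_combination (Fintype.card F : ℂ) * eps_mul_self θ
    · rw [if_neg hy, add_zero, PhiT_torus hδ hodd θ ψ ν (t : SL2) t.2 hy, map_neg, map_add]
      have e1 : (⟨(t : SL2), t.2⟩ : ↥(Tn δ : Subgroup SL2)) = t := rfl
      have e2 : (⟨(t : SL2)⁻¹, (Tn δ).inv_mem t.2⟩ : ↥(Tn δ : Subgroup SL2)) = t⁻¹ := rfl
      rw [e1, e2, conj_thF, conj_thF, inv_inv]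
      linear_combination (-1 : ℂ) * hinv
  rw [Finset.sum_congr rfl (fun t _ => hterm t), Finset.sum_add_distrib, sum_scalar_Tn h2,
    Finset.sum_neg_distrib, Finset.sum_add_distrib]
  simp only [Finset.sum_const, Finset.card_univ, nsmul_eq_mul, mul_one]
  have hcard : (Fintype.card ↥(Tn δ : Subgroup SL2) : ℂ) = (Fintype.card F : ℂ) + 1 := by
    rw [← Nat.card_eq_fintype_card, card_Tn_cast hδ hodd]
  rw [hcard]
  have hq1 : (Fintype.card F : ℂ) + 1 ≠ 0 := by
    have : Fintype.card F + 1 ≠ 0 := by omega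
    exact_mod_cast this
  field_simp
  ring

/-- the values of `Ψ_ω - Ind θ` on the unipotent subgroup -/
theorem PhiT_uu' (hδ : ¬ IsSquare δ) (hodd : Odd (Fintype.card F))
    (θ : ↥(Tn δ : Subgroup SL2) →* ℂˣ) (ψ : AddChar F ℂ) (hψ : ψ.IsPrimitive) {ν : F}
    (hν : quadraticChar F ν = -1) (b : F) :
    PhiT θ ψ ν (uu b) = -1 + (if b = 0 then (Fintype.card F : ℂ) else 0) := by
  by_cases hb : b = 0
  · rw [if_pos hb, hb, uu_zero, PhiT_one hδ hodd]; ring
  · rw [if_neg hb, PhiT_uu hδ hodd θ ψ hψ hν hb]; ring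

/-- the inner product of `Ind (ω ⊗ ψ_c)` with `Ψ_ω - Ind θ` -/
theorem inner_indZU_PhiT (hδ : ¬ IsSquare δ) (hodd : Odd (Fintype.card F))
    (θ : ↥(Tn δ : Subgroup SL2) →* ℂˣ) (ψ : AddChar F ℂ) (hψ : ψ.IsPrimitive) {ν : F}
    (hν : quadraticChar F ν = -1) {c : F} (hc : c ≠ 0) :
    classInner (indFun (ZU : Subgroup SL2) (lamC (eps θ) ψ c)) (PhiT θ ψ ν) = 1 := by
  classical
  letI : Fintype ↥(ZU : Subgroup SL2) := Fintype.ofFinite _
  have h2 : (2 : F) ≠ 0 := Ring.two_ne_zero (ringChar_ne_two_of_odd hodd)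
  have hq0 : (Fintype.card F : ℂ) ≠ 0 := by
    exact_mod_cast Fintype.card_ne_zero
  rw [frobenius_reciprocity _ _ _ (PhiT_isClassFunction θ ψ ν), classInner_apply, card_ZU hodd,
    sum_ZU h2]
  have hs : ∑ b : F, ψ (c * b) = 0 := by
    have := AddChar.sum_mulShift c hψ
    rw [if_neg hc, Nat.cast_zero] at this
    simp_rw [mul_comm c]
    exact this
  have hcq : conj (Fintype.card F : ℂ) = (Fintype.card F : ℂ) := Complex.conj_natCast _
  have hbase : ∑ b : F, ψ (c * b) * conj (PhiT θ ψ ν (uu b)) = (Fintype.card F : ℂ) := by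
    have hterm : ∀ b : F, ψ (c * b) * conj (PhiT θ ψ ν (uu b))
        = -ψ (c * b) + (if b = 0 then (Fintype.card F : ℂ) else 0) := by
      intro b
      rw [PhiT_uu' hδ hodd θ ψ hψ hν b]
      by_cases hb : b = 0
      · rw [if_pos hb, hb, mul_zero, AddChar.map_zero_eq_one, map_add, map_neg, map_one, hcq]
        ring
      · rw [if_neg hb, add_zero, map_neg, map_one]
        ring
    rw [Finset.sum_congr rfl (fun b _ => hterm b), Finset.sum_add_distrib,
      Finset.sum_neg_distrib, hs, Finset.sum_ite_eq', if_pos (Finset.mem_univ _)]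
    ring
  have h1 : ∑ b : F, lamC (eps θ) ψ c ⟨uu b, uu_mem_ZU b⟩ *
      conj (PhiT θ ψ ν ((⟨uu b, uu_mem_ZU b⟩ : ↥(ZU : Subgroup SL2)) : SL2))
      = (Fintype.card F : ℂ) := by
    rw [← hbase]
    apply Finset.sum_congr rfl
    intro b _
    congr 1
    exact lamF_uu _ ψ c b
  have h3 : ∑ b : F, lamC (eps θ) ψ c
      ⟨negOne * uu b, (ZU).mul_mem negOne_mem_ZU (uu_mem_ZU b)⟩ *
      conj (PhiT θ ψ ν ((⟨negOne * uu b, (ZU).mul_mem negOne_mem_ZU (uu_mem_ZU b)⟩ :
        ↥(ZU : Subgroup SL2)) : SL2)) = (Fintype.card F : ℂ) := by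
    rw [← hbase]
    apply Finset.sum_congr rfl
    intro b _
    have e1 : lamC (eps θ) ψ c ⟨negOne * uu b, (ZU).mul_mem negOne_mem_ZU (uu_mem_ZU b)⟩
        = eps θ * ψ (c * b) := lamF_neg_uu h2 _ ψ c b
    rw [e1]
    change eps θ * ψ (c * b) * conj (PhiT θ ψ ν (negOne * uu b)) = _
    rw [PhiT_neg h2, (starRingEnd ℂ).map_mul, conj_eps]
    linear_combination (ψ (c * b) * conj (PhiT θ ψ ν (uu b))) * eps_mul_self θ
  rw [h1, h3]
  field_simp
  ring

/-- the norm of `Ψ_ω - Ind θ` -/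
theorem norm_PhiT (hδ : ¬ IsSquare δ) (hodd : Odd (Fintype.card F))
    (θ : ↥(Tn δ : Subgroup SL2) →* ℂˣ) (ψ : AddChar F ℂ) (hψ : ψ.IsPrimitive) {ν : F}
    (hν : quadraticChar F ν = -1) [Fintype ↥(Tn δ : Subgroup SL2)] :
    classInner (PhiT θ ψ ν) (PhiT θ ψ ν)
      = 1 + (∑ t : ↥(Tn δ : Subgroup SL2), thF θ t ^ 2) / ((Fintype.card F : ℂ) + 1) := by
  have hν0 : ν ≠ 0 := by
    intro h
    rw [h, quadraticChar_zero] at hν
    norm_num at hν
  have h1 : classInner (PhiT θ ψ ν) (PhiT θ ψ ν)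
      = classInner (PsiZ (eps θ) ψ ν) (PhiT θ ψ ν)
        - classInner (indFun (Tn δ : Subgroup SL2) (thF θ)) (PhiT θ ψ ν) := by
    exact classInner_sub_left _ _ _
  rw [h1, inner_indT_PhiT hδ hodd]
  unfold PsiZ
  rw [classInner_add_left, inner_indZU_PhiT hδ hodd θ ψ hψ hν one_ne_zero,
    inner_indZU_PhiT hδ hodd θ ψ hψ hν hν0]
  ring

/-- the cuspidal character attached to a character `θ` of the torus with `θ² ≠ 1` -/
theorem PhiT_isIrr (hδ : ¬ IsSquare δ) (hodd : Odd (Fintype.card F))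
    (θ : ↥(Tn δ : Subgroup SL2) →* ℂˣ) (hne : ∃ t, θ t ^ 2 ≠ 1) (ψ : AddChar F ℂ)
    (hψ : ψ.IsPrimitive) {ν : F} (hν : quadraticChar F ν = -1) :
    IsIrrCharacter SL2 (PhiT θ ψ ν) := by
  classical
  letI : Fintype ↥(Tn δ : Subgroup SL2) := Fintype.ofFinite _
  have h2 : (2 : F) ≠ 0 := Ring.two_ne_zero (ringChar_ne_two_of_odd hodd)
  have hnorm := norm_PhiT hδ hodd θ ψ hψ hν
  rw [sum_thF_sq_of_ne θ hne, zero_div, add_zero] at hnorm
  obtain ⟨a, ha | ha⟩ := exists_irr_of_norm_one (PhiT_isGeneralizedCharacter h2 θ ψ ν) hnorm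
  · rw [ha]; exact a.2
  · exfalso
    obtain ⟨n, hn⟩ := exists_nat_degree (isCharacter_of_isIrrCharacter a.2)
    have h1 := PhiT_one hδ hodd θ ψ ν
    rw [ha, Pi.neg_apply, hn] at h1
    have hq : 2 ≤ Fintype.card F := Fintype.one_lt_card
    have : ((n + Fintype.card F : ℕ) : ℂ) = ((1 : ℕ) : ℂ) := by
      push_cast
      linear_combination -h1
    have := Nat.cast_injective this
    omega

end torus

end Cfsg.Agent.H9.SL2Chars
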