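import Mathlib
import Cfsg.Agent.H9.DegreeGraphSL2
import Cfsg.Agent.H9.SL2CuspNorm

set_option autoImplicit false

/-!
# The degrees `q + 1` and `q - 1` occur for PSL₂(q), `q > 5` odd
-/

namespace Cfsg.Agent.H9.DegreeGraphSL2

open Cfsg Matrix Cfsg.Agent.Lib.helper3.IndFun Cfsg.Agent.Lib.helper3.Irr
open Cfsg.Agent.H9.PrincipalSeries Cfsg.Agent.S2307 Cfsg.Agent.H9.SL2Chars
open Cfsg.Agent.H9.PSL2Degrees
open Cfsg.Agent.H9.NonsplitTorus (Tn mem_Tn)

variable {F : Type*} [Field F] [Fintype F]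

local notation "SL2" => Matrix.SpecialLinearGroup (Fin 2) F
local notation "PSL2" => Matrix.ProjectiveSpecialLinearGroup (Fin 2) F
local notation "negOne" => (Cfsg.Agent.S2325.negOne : Matrix.SpecialLinearGroup (Fin 2) F)

/-- the central character of a principal series character -/
theorem R_negOne_mul [DecidableEq F] (α : MulChar F ℂ) (g : SL2) :
    indFun (Bor : Subgroup SL2) (theta α) (negOne * g)
      = α (-1) * indFun (Bor : Subgroup SL2) (theta α) g := by
  rw [Cfsg.Agent.H9.PrincipalSeries.R_apply, Cfsg.Agent.H9.PrincipalSeries.R_apply,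
    Cfsg.Agent.S2508.coe_negOne_mul]
  have hneg : ∀ x : F, α (-x) = α (-1) * α x := by
    intro x
    rw [← neg_one_mul, map_mul]
  simp only [Matrix.neg_apply]
  rw [mul_add, Finset.mul_sum]
  congr 1
  · apply Finset.sum_congr rfl
    intro c _
    have hiff : (-g.1 1 0 + (-g.1 1 1 - -g.1 0 0) * c - -g.1 0 1 * c ^ 2 = 0) ↔
        (g.1 1 0 + (g.1 1 1 - g.1 0 0) * c - g.1 0 1 * c ^ 2 = 0) := by
      constructor
      · intro h; linear_combination -h
      · intro h; linear_combination -h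
    have hval : α (-g.1 0 0 + -g.1 0 1 * c) = α (-1) * α (g.1 0 0 + g.1 0 1 * c) := by
      rw [← hneg (g.1 0 0 + g.1 0 1 * c)]
      congr 1
      ring
    rw [mul_ite, mul_zero]
    exact if_congr hiff hval rfl
  · rw [mul_ite, mul_zero]
    exact if_congr neg_eq_zero (hneg _) rfl

/-- a multiplicative character with non-trivial square which is trivial at `-1` -/
theorem exists_alpha (hq : 5 < Fintype.card F) :
    ∃ α : MulChar F ℂ, α ^ 2 ≠ 1 ∧ α (-1) = 1 := by
  have hn0 : Fintype.card F - 1 ≠ 0 := by omega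
  obtain ⟨β, hβ⟩ := MulChar.exists_mulChar_orderOf F (dvd_refl (Fintype.card F - 1))
    (Complex.isPrimitiveRoot_exp (Fintype.card F - 1) hn0)
  refine ⟨β ^ 2, ?_, ?_⟩
  · rw [← pow_mul]
    intro h
    have := orderOf_dvd_of_pow_eq_one h
    rw [hβ] at this
    have := Nat.le_of_dvd (by norm_num) this
    omega
  · rw [MulChar.pow_apply' _ two_ne_zero, ← map_pow]
    simp

/-- the degree `q + 1` occurs for PSL₂(q), `q > 5` odd -/
theorem add_one_mem_charDegrees_psl2 (hq : 5 < Fintype.card F) :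
    Fintype.card F + 1 ∈ charDegrees PSL2 := by
  classical
  obtain ⟨α, hα, hα1⟩ := exists_alpha (F := F) hq
  have hirr : IsIrrCharacter SL2 (indFun (Bor : Subgroup SL2) (theta α)) :=
    (Cfsg.Agent.S2306.result α).mpr hα
  apply mem_charDegrees_psl2 hirr
  · intro g n hn
    rcases (Cfsg.Agent.S2508.mem_center_iff' n).mp hn with rfl | rfl
    · rw [mul_one]
    · rw [Cfsg.Agent.S2325.negOne_comm, R_negOne_mul, hα1, one_mul]
  · rw [R_one]
    push_cast
    ring

section torus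

variable [DecidableEq F] {δ : F}

/-- a character of the non-split torus with non-trivial square which is trivial at `-1` -/
theorem exists_theta (hδ : ¬ IsSquare δ) (hodd : Odd (Fintype.card F))
    (hq : 5 < Fintype.card F) :
    ∃ θ : ↥(Tn δ : Subgroup SL2) →* ℂˣ, (∃ t, θ t ^ 2 ≠ 1) ∧ eps θ = 1 := by
  haveI := Cfsg.Agent.H9.NonsplitTorus.isCyclic_Tn (F := F) hδ
  obtain ⟨t₀, ht₀⟩ := IsCyclic.exists_generator (α := ↥(Tn δ : Subgroup SL2))
  obtain ⟨g, hg, hy⟩ := Cfsg.Agent.H9.NonsplitTorus.exists_nonscalar hδ hodd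
  have hcard := Cfsg.Agent.H9.NonsplitTorus.card_Tn hδ hodd g hg hy
  have ho : orderOf t₀ = Fintype.card F + 1 := by
    rw [orderOf_eq_card_of_forall_mem_zpowers ht₀, hcard]
  have hn0 : Fintype.card F + 1 ≠ 0 := Nat.succ_ne_zero _
  have hζ := Complex.isPrimitiveRoot_exp (Fintype.card F + 1) hn0
  set ζu : ℂˣ := (hζ.isUnit hn0).unit with hζu
  have hζu' : IsPrimitiveRoot ζu (Fintype.card F + 1) := by
    rw [← IsPrimitiveRoot.coe_units_iff]
    exact hζ
  have hoζ : orderOf ζu = Fintype.card F + 1 := hζu'.eq_orderOf.symm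
  have hdvd : orderOf ζu ∣ orderOf t₀ := by rw [hoζ, ho]
  set η : ↥(Tn δ : Subgroup SL2) →* ℂˣ := monoidHomOfForallMemZpowers ht₀ hdvd with hη
  have hgen : η t₀ = ζu := monoidHomOfForallMemZpowers_apply_gen ht₀ hdvd
  refine ⟨(powMonoidHom 2).comp η, ⟨t₀, ?_⟩, ?_⟩
  · rw [MonoidHom.comp_apply, powMonoidHom_apply, hgen, ← pow_mul]
    intro h
    have := orderOf_dvd_of_pow_eq_one h
    rw [hoζ] at this
    have := Nat.le_of_dvd (by norm_num) this
    omega
  · unfold eps thF
    rw [MonoidHom.comp_apply, powMonoidHom_apply, ← map_pow]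
    have : (⟨negOne, negOne_mem_Tn⟩ : ↥(Tn δ : Subgroup SL2)) ^ 2 = 1 := by
      apply Subtype.ext
      rw [SubgroupClass.coe_pow, pow_two, Cfsg.Agent.S2508.negOne_mul_negOne]
      rfl
    rw [this, map_one, Units.val_one]

end torus

/-- the degree `q - 1` occurs for PSL₂(q), `q > 5` odd -/
theorem sub_one_mem_charDegrees_psl2 (hodd : Odd (Fintype.card F)) (hq : 5 < Fintype.card F) :
    Fintype.card F - 1 ∈ charDegrees PSL2 := by
  classical
  have h2 : (2 : F) ≠ 0 := Ring.two_ne_zero (ringChar_ne_two_of_odd hodd)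
  obtain ⟨δ, hδq⟩ := exists_nonsquare (F := F) hodd
  have hδ : ¬ IsSquare δ := (quadraticChar_neg_one_iff_not_isSquare).mp hδq
  set ψ := AddChar.FiniteField.primitiveChar_to_Complex F with hψdef
  have hψ : ψ.IsPrimitive := AddChar.FiniteField.primitiveChar_to_Complex_isPrimitive F
  obtain ⟨ν, hν⟩ := exists_nonsquare (F := F) hodd
  obtain ⟨θ, hne, heps⟩ := exists_theta (F := F) hδ hodd hq
  have hirr := PhiT_isIrr hδ hodd θ hne ψ hψ hν
  apply mem_charDegrees_psl2 hirr
  · intro g n hn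
    rcases (Cfsg.Agent.S2508.mem_center_iff' n).mp hn with rfl | rfl
    · rw [mul_one]
    · rw [Cfsg.Agent.S2325.negOne_comm, PhiT_neg h2, heps, one_mul]
  · rw [PhiT_one hδ hodd]
    have hq1 : 1 ≤ Fintype.card F := Fintype.card_pos
    push_cast [Nat.cast_sub hq1]
    ring

/-- the degree `q` occurs for PSL₂(q), `q ≥ 4` -/
theorem card_mem_charDegrees_psl2 (hq : 4 ≤ Fintype.card F) :
    Fintype.card F ∈ charDegrees PSL2 := by
  obtain ⟨⟨χ, h1⟩, -, -⟩ := exists_degrees_sl2 (F := F) hq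
  exact mem_charDegrees_psl2 χ.2 (degree_q_central hq χ.2 h1) h1

end Cfsg.Agent.H9.DegreeGraphSL2
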