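import Cfsg.Agent.S2431
import Cfsg.Agent.H9.SL2OddCls
import Cfsg.Agent.H9.GfsSimple

/-!
# The `2`-fusion system of `PSL₂(q)`, `q ≡ ±1 (mod 8)`, is simple
-/

set_option autoImplicit false

namespace Cfsg.Agent.H9.PSL2Fus

open Matrix Cfsg
open Cfsg.Agent.S2428 Cfsg.Agent.H9.NonsplitTorus Cfsg.Agent.Lib.Helper8.SL2Odd
open Cfsg.Agent.H9.SylowTwoDicyclic Cfsg.Agent.S2431

variable {F : Type*} [Field F] [Fintype F]

local notation "SL2" => Matrix.SpecialLinearGroup (Fin 2) F

/-- the torus, its normalizer and the central involution of `SL₂(q)` -/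
theorem exists_setup (hodd : Odd (Fintype.card F)) :
    ∃ (A N : Subgroup SL2), Setup A N (-1 : SL2) ∧
      ((Fintype.card F % 8 = 1 ∨ Fintype.card F % 8 = 7) → 8 ∣ Nat.card A) := by
  have h2 : (2 : F) ≠ 0 := two_ne_zero' hodd
  have hq := Cfsg.Agent.S2430.three_le hodd
  have hmod : Fintype.card F % 4 = 1 ∨ Fintype.card F % 4 = 3 := by
    rcases hodd with ⟨k, hk⟩
    omega
  rcases hmod with hmod | hmod
  · refine ⟨D, M, ?_, ?_⟩
    · refine
      { cyc := Cfsg.Agent.S2430.isCyclic_D
        le := D_le_M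
        norm := normalizer_D_eq hodd hmod
        cent := fun g hg hgg => Cfsg.Agent.S2430.D_cent hodd g hg hgg
        inv := ?_
        sq := ?_
        zc := negOne_mem_center
        z1 := negOne_ne_one h2
        zz := negOne_mul_negOne
        invol := fun a _ haa => eq_of_sq_eq_one h2 a haa
        cardN := by rw [card_M, card_D]
        four := by rw [card_D]; omega
        part := by rw [card_D]; exact factorization_two_split hodd hmod }
      · intro g hg hgD a ha
        rcases hg with hg | ⟨g1, g2⟩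
        · exact absurd hg hgD
        · exact anti_inverts g a g1 g2 ha
      · intro g hg hgD
        rcases hg with hg | ⟨g1, g2⟩
        · exact absurd hg hgD
        · apply Subtype.ext
          rw [sq_of_anti g g1 g2]
          simp
    · intro h8
      rw [card_D]
      omega
  · have hchar : ringChar F ≠ 2 := by
      intro h'
      have := FiniteField.even_card_of_char_two h'
      rw [Nat.odd_iff] at hodd
      omega
    obtain ⟨δ, hδ⟩ := FiniteField.exists_nonsquare hchar
    obtain ⟨g₀, hg₀, hy₀⟩ := exists_nonscalar hδ hodd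
    have hcT := card_Tn hδ hodd g₀ hg₀ hy₀
    refine ⟨Tn δ, Mn δ, ?_, ?_⟩
    · refine
      { cyc := isCyclic_Tn hδ
        le := Tn_le_Mn δ
        norm := normalizer_eq hδ hodd
        cent := ?_
        inv := ?_
        sq := ?_
        zc := negOne_mem_center
        z1 := negOne_ne_one h2
        zz := negOne_mul_negOne
        invol := fun a _ haa => eq_of_sq_eq_one h2 a haa
        cardN := by rw [card_Mn hδ hodd, hcT]
        four := by rw [hcT]; omega
        part := by rw [hcT]; exact factorization_two_nonsplit hodd hmod }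
      · intro g hg hgg
        refine centralizer_eq δ g hg (y_ne_zero hδ g hg ?_ ?_)
        · intro h1
          apply hgg
          have : g = 1 := Subtype.ext h1
          rw [this, mul_one]
        · intro h1
          apply hgg
          have : g = -1 := Subtype.ext h1
          rw [this]
          simp
      · intro g hg hgT a ha
        rcases hg with hg | ⟨g1, g2⟩
        · exact absurd hg hgT
        · exact Cfsg.Agent.H9.NonsplitTorus.anti_inverts δ g a g1 g2 ha
      · intro g hg hgT
        rcases hg with hg | ⟨g1, g2⟩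
        · exact absurd hg hgT
        · apply Subtype.ext
          rw [Cfsg.Agent.H9.NonsplitTorus.sq_of_anti δ g g1 g2]
          simp
    · intro h8
      rw [hcT]
      omega

omit [Fintype F] in
/-- an element of `SL₂` with square `-1` has trace zero -/
theorem trace_eq_zero_of_sq (z : SL2) (hz : z * z = -1) : z.1.trace = 0 := by
  have h1 : z.1 * z.1 = -1 := by
    rw [← Matrix.SpecialLinearGroup.coe_mul, hz]
    simp
  have hd : z.1 0 0 * z.1 1 1 - z.1 0 1 * z.1 1 0 = 1 := by
    rw [← Matrix.det_fin_two]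
    exact z.2
  have e00 := congrFun (congrFun h1 0) 0
  have e01 := congrFun (congrFun h1 0) 1
  simp only [Matrix.mul_apply, Fin.sum_univ_two, Matrix.neg_apply, Matrix.one_apply_eq] at e00
  have n01 : (0 : Fin 2) ≠ 1 := by decide
  simp only [Matrix.mul_apply, Fin.sum_univ_two, Matrix.neg_apply, Matrix.one_apply_ne n01,
    neg_zero] at e01
  rw [Matrix.trace_fin_two]
  linear_combination (-(z.1 0 0 + z.1 1 1) + z.1 1 1) * hd + (z.1 1 1) * e00 - (z.1 1 0) * e01

/-- the elements of `SL₂(q)` with square `-1` are conjugate -/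
theorem isConj_of_sq_neg_one (hodd : Fintype.card F % 2 = 1) (u v : SL2) (hu : u * u = -1)
    (hv : v * v = -1) : IsConj u v := by
  have h2 : (2 : F) ≠ 0 := two_ne_zero' (Nat.odd_iff.mpr hodd)
  have hns : ∀ w : SL2, w * w = -1 →
      ¬ ∃ a : F, (w : Matrix (Fin 2) (Fin 2) F) = a • (1 : Matrix (Fin 2) (Fin 2) F) := by
    rintro w hw ⟨a, ha⟩
    have ht := trace_eq_zero_of_sq w hw
    rw [ha, Matrix.trace_smul, Matrix.trace_one, Fintype.card_fin, smul_eq_mul] at ht
    have ha0 : a = 0 := by
      have : a * 2 = 0 := by simpa using ht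
      exact (mul_eq_zero.1 this).resolve_right h2
    have hd := w.2
    rw [ha, ha0, zero_smul, Matrix.det_zero] at hd
    exact zero_ne_one hd
  apply Cfsg.Agent.H9.SL2OddCls.isConj_of_trace_eq hodd u v (hns u hu) (hns v hv)
  · rw [trace_eq_zero_of_sq u hu, trace_eq_zero_of_sq v hv]
  · rw [trace_eq_zero_of_sq v hv]
    intro h
    apply h2
    have : (2 : F) * 2 = 0 := by linear_combination -h
    exact (mul_eq_zero.1 this).elim id id

theorem mod_eight_of_sixteen_dvd {q : ℕ} (hodd : q % 2 = 1) (h16 : 16 ∣ q ^ 2 - 1) :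
    q % 8 = 1 ∨ q % 8 = 7 := by
  have hq : 1 ≤ q ^ 2 := Nat.one_le_pow _ _ (by omega)
  have h1 : q ^ 2 % 16 = 1 := by
    obtain ⟨k, hk⟩ := h16
    omega
  rw [Nat.pow_mod] at h1
  have hr : q % 16 < 16 := Nat.mod_lt _ (by norm_num)
  have e : q % 8 = q % 16 % 8 := by omega
  have e2 : q % 16 % 2 = 1 := by omega
  rw [e]
  generalize q % 16 = r at *
  interval_cases r <;> simp_all

/-- **the `2`-fusion system of `PSL₂(q)`, `16 ∣ q² - 1`, is simple** -/
theorem fusion_simple (hodd : Fintype.card F % 2 = 1) (h16 : 16 ∣ Fintype.card F ^ 2 - 1)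
    (S : Sylow 2 (Matrix.ProjectiveSpecialLinearGroup (Fin 2) F)) :
    (groupFusionSystem (S : Subgroup (Matrix.ProjectiveSpecialLinearGroup (Fin 2) F))).IsSimple 2 := by
  have hodd' : Odd (Fintype.card F) := Nat.odd_iff.mpr hodd
  have h2 : (2 : F) ≠ 0 := two_ne_zero' hodd'
  have h8 := mod_eight_of_sixteen_dvd hodd h16
  obtain ⟨A, N, hset, hA8⟩ := exists_setup hodd'
  have h8A := hA8 h8
  have h0 : Nat.card A ≠ 0 := Nat.card_pos.ne'
  -- a Sylow `2`-subgroup of `SL₂` inside `N`
  obtain ⟨Q⟩ : Nonempty (Sylow 2 N) := inferInstance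
  obtain ⟨S₀, hS₀⟩ : ∃ S₀ : Subgroup SL2, S₀ = (Q : Subgroup N).map N.subtype := ⟨_, rfl⟩
  have hS₀N : S₀ ≤ N := by
    rw [hS₀]
    rintro _ ⟨q, -, rfl⟩
    exact q.2
  have hcard : Nat.card S₀ = 2 ^ (Nat.card SL2).factorization 2 := by
    rw [hS₀, Subgroup.card_map_of_injective N.subtype_injective, Q.card_eq_multiplicity, hset.cardN,
      hset.part, Nat.factorization_mul two_ne_zero h0, Finsupp.add_apply,
      Nat.Prime.factorization_self Nat.prime_two, add_comm]
  obtain ⟨Sh, hSh⟩ : ∃ Sh : Sylow 2 SL2, (Sh : Subgroup SL2) = S₀ := ⟨Sylow.ofCard S₀ hcard, rfl⟩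
  have hShN : (Sh : Subgroup SL2) ≤ N := by rw [hSh]; exact hS₀N
  obtain ⟨hcent, hnorm, -⟩ := core hset Sh hShN
  have hnorm' := hnorm h8A
  -- the centre
  have hZ : ∀ c : SL2, c ∈ Subgroup.center SL2 ↔ c = 1 ∨ c = -1 := by
    intro c
    constructor
    · intro hc
      apply (hcent c).mp
      rw [Subgroup.mem_centralizer_iff]
      intro s _
      exact (Subgroup.mem_center_iff.mp hc s)
    · rintro (rfl | rfl)
      · exact Subgroup.one_mem _
      · exact negOne_mem_center
  have hZS : Subgroup.center SL2 ≤ (Sh : Subgroup SL2) := by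
    intro c hc
    rw [← hnorm']
    rw [Subgroup.mem_normalizer_iff]
    intro s
    rw [(Subgroup.mem_center_iff.mp hc s).symm, mul_inv_cancel_right]
  -- the image in `PSL₂`
  obtain ⟨π, hπ⟩ : ∃ π : SL2 →* Matrix.ProjectiveSpecialLinearGroup (Fin 2) F,
      π = QuotientGroup.mk' (Subgroup.center SL2) := ⟨_, rfl⟩
  have hπs : Function.Surjective π := by
    rw [hπ]
    exact QuotientGroup.mk'_surjective _
  have hker : π.ker = Subgroup.center SL2 := by
    rw [hπ]
    exact QuotientGroup.ker_mk' _
  have hπ1 : ∀ g : SL2, π g = 1 ↔ g = 1 ∨ g = -1 := by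
    intro g
    rw [← MonoidHom.mem_ker, hker, hZ]
  obtain ⟨S0, hS0⟩ : ∃ S0 : Subgroup (Matrix.ProjectiveSpecialLinearGroup (Fin 2) F),
      S0 = (Sh : Subgroup SL2).map π := ⟨_, rfl⟩
  have hcomap : S0.comap π = (Sh : Subgroup SL2) := by
    rw [hS0, Subgroup.comap_map_eq, hker]
    exact sup_eq_left.mpr hZS
  have hmemS0 : ∀ g : SL2, π g ∈ S0 ↔ g ∈ (Sh : Subgroup SL2) := by
    intro g
    rw [← hcomap, Subgroup.mem_comap]
  have hpS0 : IsPGroup 2 S0 := by
    rw [hS0]
    exact Sh.isPGroup'.map π
  have hidx : ¬ 2 ∣ S0.index := by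
    rw [← Subgroup.index_comap_of_surjective S0 hπs, hcomap]
    exact Sh.not_dvd_index
  have hcardS0 : Nat.card S0 =
      2 ^ (Nat.card (Matrix.ProjectiveSpecialLinearGroup (Fin 2) F)).factorization 2 := by
    have := (hpS0.toSylow hidx).card_eq_multiplicity
    rwa [IsPGroup.toSylow_coe] at this
  -- the elements outside the torus
  have hnotle : ¬ (Sh : Subgroup SL2) ≤ A := by
    intro hle
    have hdvd := Subgroup.card_dvd_of_le hle
    rw [hSh, hcard, hset.part] at hdvd
    exact Nat.pow_succ_factorization_not_dvd h0 Nat.prime_two hdvd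
  obtain ⟨g0, hg0S, hg0A⟩ := SetLike.not_le_iff_exists.mp hnotle
  have hsq : ∀ g ∈ (Sh : Subgroup SL2), g ∉ A → g * g = -1 :=
    fun g hg hgA => hset.sq g (hShN hg) hgA
  have hnegA : (-1 : SL2) ∈ A := by
    obtain ⟨a, ha⟩ := hset.cyc.exists_generator
    have h4 := hset.four
    -- an element of order two of the cyclic group `A`
    have h2A : 2 ∣ Nat.card A := dvd_trans (by norm_num) h4
    obtain ⟨x, hx⟩ := exists_prime_orderOf_dvd_card' 2 h2A
    have hxx : (x : SL2) * x = 1 := by
      have := pow_orderOf_eq_one x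
      rw [hx, pow_two] at this
      exact congrArg Subtype.val this
    rcases hset.invol x x.2 hxx with h | h
    · exfalso
      have : x = 1 := Subtype.ext h
      rw [this, orderOf_one] at hx
      omega
    · rw [← h]
      exact x.2
  -- the involutions of `PSL₂` are conjugate
  have hinv : ∀ x y : Matrix.ProjectiveSpecialLinearGroup (Fin 2) F, x ≠ 1 → x * x = 1 → y ≠ 1 →
      y * y = 1 → ∃ c, c * x * c⁻¹ = y := by
    intro x y hx1 hxx hy1 hyy
    obtain ⟨u, rfl⟩ := hπs x
    obtain ⟨v, rfl⟩ := hπs y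
    have key : ∀ w : SL2, π w ≠ 1 → π w * π w = 1 → w * w = -1 := by
      intro w hw1 hww
      rw [← map_mul, hπ1] at hww
      rcases hww with h | h
      · exfalso
        apply hw1
        rw [hπ1]
        exact eq_of_sq_eq_one h2 w h
      · exact h
    obtain ⟨c, hc⟩ := isConj_iff.mp (isConj_of_sq_neg_one hodd u v (key u hx1 hxx) (key v hy1 hyy))
    exact ⟨π c, by rw [← map_inv, ← map_mul, ← map_mul, hc]⟩
  have hinvol : ∀ g ∈ (Sh : Subgroup SL2), g ∉ A → π g ≠ 1 ∧ π g * π g = 1 := by
    intro g hg hgA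
    constructor
    · intro h
      rcases (hπ1 g).mp h with rfl | rfl
      · exact hgA (Subgroup.one_mem _)
      · exact hgA hnegA
    · rw [← map_mul, hsq g hg hgA, hπ1]
      exact Or.inr rfl
  apply Cfsg.Agent.H9.GfsSimple.isSimple_of_certificate 2 S0 hcardS0
  · -- nontrivial
    intro h
    have h1 : π g0 ∈ S0 := (hmemS0 g0).mpr hg0S
    rw [h, Subgroup.mem_bot] at h1
    exact (hinvol g0 hg0S hg0A).1 h1
  · -- self-normalizing
    intro x hx
    obtain ⟨g, rfl⟩ := hπs x
    rw [hmemS0, ← hnorm']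
    apply Subgroup.mem_normalizer_fintype
    intro s hs
    rw [SetLike.mem_coe, ← hmemS0, map_mul, map_mul, map_inv]
    exact (Subgroup.mem_normalizer_iff.mp hx (π s)).mp ((hmemS0 s).mpr hs)
  · -- strongly closed subgroups
    intro T hTS hT
    by_cases hTbot : T = ⊥
    · exact Or.inl hTbot
    right
    apply le_antisymm hTS
    -- an involution of `T`
    have hTp : IsPGroup 2 T := hpS0.to_le hTS
    have hTcard : 2 ∣ Nat.card T := by
      obtain ⟨n, hn⟩ := IsPGroup.iff_card.mp hTp
      rcases Nat.eq_zero_or_pos n with h | h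
      · exfalso
        apply hTbot
        rw [h, pow_zero] at hn
        exact Subgroup.card_eq_one.mp hn
      · rw [hn]
        exact dvd_pow_self 2 h.ne'
    obtain ⟨t, ht⟩ := exists_prime_orderOf_dvd_card' 2 hTcard
    have ht1 : (t : Matrix.ProjectiveSpecialLinearGroup (Fin 2) F) ≠ 1 := by
      intro h
      have : t = 1 := Subtype.ext h
      rw [this, orderOf_one] at ht
      omega
    have htt : (t : Matrix.ProjectiveSpecialLinearGroup (Fin 2) F) * t = 1 := by
      have := pow_orderOf_eq_one t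
      rw [ht, pow_two] at this
      exact congrArg Subtype.val this
    -- the images of the elements outside the torus lie in `T`
    have hout : ∀ g ∈ (Sh : Subgroup SL2), g ∉ A → π g ∈ T := by
      intro g hg hgA
      obtain ⟨i1, i2⟩ := hinvol g hg hgA
      obtain ⟨c, hc⟩ := hinv t (π g) ht1 htt i1 i2
      rw [← hc]
      apply hT t t.2 c
      rw [hc]
      exact (hmemS0 g).mpr hg
    rw [hS0]
    rintro _ ⟨g, hg, rfl⟩
    by_cases hgA : g ∈ A
    · have h1 : g * g0 ∉ A := by
        intro h
        apply hg0A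
        have := A.mul_mem (A.inv_mem hgA) h
        rwa [inv_mul_cancel_left] at this
      have h2 := hout (g * g0) ((Sh : Subgroup SL2).mul_mem hg hg0S) h1
      have h3 := hout g0 hg0S hg0A
      have := T.mul_mem h2 (T.inv_mem h3)
      rwa [map_mul, mul_inv_cancel_right] at this
    · exact hout g hg hgA

end Cfsg.Agent.H9.PSL2Fus
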