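import Mathlib
import Cfsg.Prelude.Def_Characters
import Cfsg.Prelude.Def_Blocks
import Cfsg.Agent.Lib.helper3.ClassMul
import Cfsg.Agent.Lib.helper3.DefectZero
import Cfsg.Agent.Lib.helper3.LocalM3

set_option autoImplicit false
set_option linter.style.haveILetI false
set_option linter.unusedSectionVars false

/-!
# A piece of part (A) of S4737: a central character kills `Ω^` modulo `2`

If `S` is a conjugation-invariant set of elements of a finite group `H`, and `z ≠ 1` is an
involution commuting with every element of `S` with `S z = S`, then for every irreducible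
character `ξ` of `H` the central character value `(∑ t ∈ S, ξ t) / ξ 1` lies in every
`2`-modular maximal ideal: its square is `ω_ξ((S^)^2)` and every coefficient of `(S^)^2` is even.
-/

namespace Cfsg.Agent.H9.S4737A

open Cfsg Module Cfsg.Agent.Lib.helper3.IndFun Cfsg.Agent.Lib.helper3.CharBasic
open Cfsg.Agent.Lib.helper3.Irr Cfsg.Agent.Lib.helper3.Central Cfsg.Agent.Lib.helper3.LocalM
open scoped ComplexConjugate
open Classical

variable {H : Type*} [Group H] [Fintype H]

/-- A conjugation-invariant sum of group elements acts as a scalar in an irreducible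
representation (trace form). -/
theorem sum_mul_of_conjInvariant {ξ : H → ℂ} (hξ : IsIrrCharacter H ξ) (S : Finset H)
    (hS : ∀ s ∈ S, ∀ h : H, h * s * h⁻¹ ∈ S) (s : H) :
    ∑ t ∈ S, ξ (s * t) = (∑ t ∈ S, ξ t) / ξ 1 * ξ s := by
  obtain ⟨n, ρ, hirr, rfl⟩ := hξ
  haveI := hirr
  obtain ⟨T, hT⟩ : ∃ T : (Fin n → ℂ) →ₗ[ℂ] (Fin n → ℂ), T = ∑ t ∈ S, ρ t := ⟨_, rfl⟩
  have hcomm : ∀ h v, T (ρ h v) = ρ h (T v) := by
    intro h v
    rw [hT]
    simp only [LinearMap.sum_apply, map_sum]
    apply Finset.sum_nbij' (fun t => h⁻¹ * t * h) (fun t => h * t * h⁻¹)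
    · intro t ht
      have := hS t ht h⁻¹
      simpa using this
    · intro t ht
      exact hS t ht h
    · intro t _
      group
    · intro t _
      group
    · intro t _
      rw [← Module.End.mul_apply, ← Module.End.mul_apply, ← map_mul, ← map_mul]
      congr 2
      group
  obtain ⟨c, hc⟩ := exists_eq_smul_id ρ T hcomm
  have hV := finrank_ne_zero_of_irreducible ρ
  have htr : ∑ t ∈ S, ρ.character t = c * (finrank ℂ (Fin n → ℂ) : ℂ) := by
    have h1 : LinearMap.trace ℂ _ T = ∑ t ∈ S, ρ.character t := by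
      rw [hT, map_sum]
      rfl
    rw [← h1, hc, map_smul, LinearMap.trace_id, smul_eq_mul]
  have h2 : LinearMap.trace ℂ _ (ρ s * T) = ∑ t ∈ S, ρ.character (s * t) := by
    rw [hT, Finset.mul_sum, map_sum]
    apply Finset.sum_congr rfl
    intro y _
    rw [← map_mul]
    rfl
  rw [← h2, hc, mul_smul_comm, map_smul, Representation.char_one, smul_eq_mul, htr]
  have : LinearMap.trace ℂ _ (ρ s * LinearMap.id) = ρ.character s := rfl
  rw [this]
  field_simp

/-- The number of ways of writing `c = s * t` with `s, t ∈ S`. -/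
noncomputable def sqCount (S : Finset H) (c : H) : ℕ := (S.filter (fun s => s⁻¹ * c ∈ S)).card

theorem sqCount_conj (S : Finset H) (hS : ∀ s ∈ S, ∀ h : H, h * s * h⁻¹ ∈ S) (c h : H) :
    sqCount S (h * c * h⁻¹) = sqCount S c := by
  unfold sqCount
  apply Finset.card_nbij' (fun s => h⁻¹ * s * h) (fun s => h * s * h⁻¹)
  · intro s hs
    simp only [Finset.coe_filter, Set.mem_ofPred_eq] at hs ⊢
    refine ⟨by simpa using hS s hs.1 h⁻¹, ?_⟩
    have := hS _ hs.2 h⁻¹
    have h2 : h⁻¹ * (s⁻¹ * (h * c * h⁻¹)) * h⁻¹⁻¹ = (h⁻¹ * s * h)⁻¹ * c := by group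
    rw [h2] at this
    exact this
  · intro s hs
    simp only [Finset.coe_filter, Set.mem_ofPred_eq] at hs ⊢
    refine ⟨hS s hs.1 h, ?_⟩
    have := hS _ hs.2 h
    have h2 : h * (s⁻¹ * c) * h⁻¹ = (h * s * h⁻¹)⁻¹ * (h * c * h⁻¹) := by group
    rw [h2] at this
    exact this
  · intro s _
    group
  · intro s _
    group

theorem two_dvd_sqCount (S : Finset H) (z : H) (hz1 : z ≠ 1) (hz2 : z * z = 1)
    (hzS : ∀ s ∈ S, s * z = z * s ∧ s * z ∈ S) (c : H) : 2 ∣ sqCount S c := by
  unfold sqCount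
  have hzinv : z⁻¹ = z := inv_eq_of_mul_eq_one_left hz2
  have h := Finset.sum_involution (s := S.filter (fun s => s⁻¹ * c ∈ S))
    (f := fun _ => (1 : ZMod 2)) (fun s _ => s * z)
    (by intro a _; decide)
    (by
      intro a _ _ h
      apply hz1
      exact mul_left_cancel (h.trans (mul_one a).symm))
    (by
      intro a ha
      rw [Finset.mem_filter] at ha ⊢
      refine ⟨(hzS a ha.1).2, ?_⟩
      have h1 := hzS _ ha.2
      have h2 : (a * z)⁻¹ * c = z * (a⁻¹ * c) := by rw [mul_inv_rev, hzinv, mul_assoc]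
      rw [h2, ← h1.1]
      exact h1.2)
    (by
      intro a _
      rw [mul_assoc, hz2, mul_one])
  rw [Finset.sum_const, nsmul_eq_mul, mul_one] at h
  exact (ZMod.natCast_eq_zero_iff _ 2).mp h

theorem sum_sum_eq_sqCount (ξ : H → ℂ) (S : Finset H) :
    ∑ s ∈ S, ∑ t ∈ S, ξ (s * t) = ∑ c : H, ξ c * (sqCount S c : ℂ) := by
  have h1 : ∀ s ∈ S, ∑ t ∈ S, ξ (s * t) = ∑ c : H, if s⁻¹ * c ∈ S then ξ c else 0 := by
    intro s _
    rw [← Finset.sum_filter]
    apply Finset.sum_nbij' (fun t => s * t) (fun c => s⁻¹ * c)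
    · intro t ht
      simp only [Finset.mem_filter, Finset.mem_univ, true_and]
      rw [inv_mul_cancel_left]
      exact ht
    · intro c hc
      simp only [Finset.mem_filter, Finset.mem_univ, true_and] at hc
      exact hc
    · intro t _
      exact inv_mul_cancel_left s t
    · intro c _
      exact mul_inv_cancel_left s c
    · intro t _
      rfl
  rw [Finset.sum_congr rfl h1, Finset.sum_comm]
  apply Finset.sum_congr rfl
  intro c _
  unfold sqCount
  rw [← Finset.sum_filter, Finset.sum_const, nsmul_eq_mul, mul_comm]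

theorem isIntegral_sum_div_of_conjInvariant {ξ : H → ℂ} (hξ : IsIrrCharacter H ξ) (S : Finset H)
    (hS : ∀ s ∈ S, ∀ h : H, h * s * h⁻¹ ∈ S) : IsIntegral ℤ ((∑ t ∈ S, ξ t) / ξ 1) := by
  obtain ⟨n, ρ, hirr, rfl⟩ := hξ
  haveI := hirr
  have h := Cfsg.Agent.Lib.helper3.BrauerInd.isIntegral_sum_class_div ρ
    (fun g => if g ∈ S then 1 else 0)
    (by
      intro g h
      have : h * g * h⁻¹ ∈ S ↔ g ∈ S := by
        constructor
        · intro h1
          have := hS _ h1 h⁻¹
          have h2 : h⁻¹ * (h * g * h⁻¹) * h⁻¹⁻¹ = g := by group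
          rw [h2] at this
          exact this
        · intro h1
          exact hS g h1 h
      simp only [this])
    (by
      intro g
      split_ifs
      · exact isIntegral_one
      · exact isIntegral_zero)
  rw [Representation.char_one]
  convert h using 2
  rw [← Finset.sum_subset (Finset.subset_univ S)]
  · apply Finset.sum_congr rfl
    intro t ht
    rw [if_pos ht, mul_one]
  · intro x _ hx
    rw [if_neg hx, mul_zero]

/-- **Key lemma for part (A).** -/
theorem memLocalIdeal_sum_of_involution {M : Ideal AlgInt} (hM : IsPModular 2 M) {ξ : H → ℂ}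
    (hξ : IsIrrCharacter H ξ) (S : Finset H) (hS : ∀ s ∈ S, ∀ h : H, h * s * h⁻¹ ∈ S) (z : H)
    (hz1 : z ≠ 1) (hz2 : z * z = 1) (hzS : ∀ s ∈ S, s * z = z * s ∧ s * z ∈ S) :
    MemLocalIdeal M ((∑ t ∈ S, ξ t) / ξ 1) := by
  haveI : M.IsPrime := isPrime_of_isPModular hM
  have hξ1 := apply_one_ne_zero hξ
  -- the square
  have hsq : ((∑ t ∈ S, ξ t) / ξ 1) ^ 2
      = 2 * ((∑ c : H, ξ c * ((sqCount S c / 2 : ℕ) : ℂ)) / ξ 1) := by
    have h1 : ∑ s ∈ S, ∑ t ∈ S, ξ (s * t) = (∑ t ∈ S, ξ t) / ξ 1 * ∑ s ∈ S, ξ s := by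
      rw [Finset.sum_congr rfl (fun s _ => sum_mul_of_conjInvariant hξ S hS s), Finset.mul_sum]
    rw [sum_sum_eq_sqCount] at h1
    have h2 : ∑ c : H, ξ c * (sqCount S c : ℂ)
        = 2 * ∑ c : H, ξ c * ((sqCount S c / 2 : ℕ) : ℂ) := by
      rw [Finset.mul_sum]
      apply Finset.sum_congr rfl
      intro c _
      obtain ⟨m, hm⟩ := two_dvd_sqCount S z hz1 hz2 hzS c
      rw [hm, Nat.mul_div_cancel_left m (by norm_num)]
      push_cast
      ring
    rw [h2] at h1
    calc ((∑ t ∈ S, ξ t) / ξ 1) ^ 2 = ((∑ t ∈ S, ξ t) / ξ 1 * ∑ s ∈ S, ξ s) / ξ 1 := by ring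
      _ = (2 * ∑ c : H, ξ c * ((sqCount S c / 2 : ℕ) : ℂ)) / ξ 1 := by rw [h1]
      _ = 2 * ((∑ c : H, ξ c * ((sqCount S c / 2 : ℕ) : ℂ)) / ξ 1) := by ring
  -- integrality
  have hint1 := isIntegral_sum_div_of_conjInvariant hξ S hS
  have hint2 : IsIntegral ℤ ((∑ c : H, ξ c * ((sqCount S c / 2 : ℕ) : ℂ)) / ξ 1) := by
    obtain ⟨n, ρ, hirr, rfl⟩ := hξ
    haveI := hirr
    have h := Cfsg.Agent.Lib.helper3.BrauerInd.isIntegral_sum_class_div ρ
      (fun c => ((sqCount S c / 2 : ℕ) : ℂ))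
      (by
        intro g h
        simp only [sqCount_conj S hS g h])
      (by
        intro g
        rw [← map_natCast (algebraMap ℤ ℂ)]
        exact isIntegral_algebraMap)
    rw [Representation.char_one]
    exact h
  obtain ⟨w, hw⟩ : ∃ w : AlgInt, (w : ℂ) = (∑ t ∈ S, ξ t) / ξ 1 := ⟨⟨_, hint1⟩, rfl⟩
  obtain ⟨y, hy⟩ : ∃ y : AlgInt, (y : ℂ) = (∑ c : H, ξ c * ((sqCount S c / 2 : ℕ) : ℂ)) / ξ 1 :=
    ⟨⟨_, hint2⟩, rfl⟩
  have h3 : w ^ 2 = (2 : AlgInt) * y := by
    apply Subtype.ext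
    push_cast
    rw [hw, hy, hsq]
    rfl
  have h4 : w ^ 2 ∈ M := by
    rw [h3]
    have h2M : (2 : AlgInt) ∈ M := by
      have := hM.2.2
      simpa using this
    exact M.mul_mem_right _ h2M
  have h5 : w ∈ M := Ideal.IsPrime.mem_of_pow_mem inferInstance 2 h4
  rw [← hw]
  exact memLocalIdeal_of_mem h5 (Ideal.IsPrime.ne_top inferInstance)

/-- Special case: a group with a central involution; `S` = the elements of square one. -/
theorem memLocalIdeal_omega_of_central_involution {M : Ideal AlgInt} (hM : IsPModular 2 M)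
    {ξ : H → ℂ} (hξ : IsIrrCharacter H ξ) (z : H) (hz1 : z ≠ 1) (hz2 : z ^ 2 = 1)
    (hzc : ∀ h : H, h * z = z * h) :
    MemLocalIdeal M ((∑ t ∈ Finset.univ.filter (fun t : H => t ^ 2 = 1), ξ t) / ξ 1) := by
  apply memLocalIdeal_sum_of_involution hM hξ _ _ z hz1 (by rw [← pow_two]; exact hz2)
  · intro s hs
    simp only [Finset.mem_filter, Finset.mem_univ, true_and] at hs ⊢
    refine ⟨hzc s, ?_⟩
    rw [(show Commute s z from hzc s).mul_pow, hs, hz2, one_mul]
  · intro s hs h
    simp only [Finset.mem_filter, Finset.mem_univ, true_and] at hs ⊢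
    rw [conj_pow, hs]
    group

/-- The same with `finsum`, in the shape of hypothesis `hA` of `S4737Rank.card_le_of_partA`. -/
theorem memLocalIdeal_finsum_of_central_involution {C : Type*} [Group C] [Finite C]
    {M : Ideal AlgInt} (hM : IsPModular 2 M) {ξ : C → ℂ} (hξ : IsIrrCharacter C ξ) (z : C)
    (hz1 : z ≠ 1) (hz2 : z ^ 2 = 1) (hzc : ∀ h : C, h * z = z * h) :
    MemLocalIdeal M (∑ᶠ t ∈ {t : C | t ^ 2 = 1}, ξ t / ξ 1) := by
  haveI : Fintype C := Fintype.ofFinite C
  have h1 := memLocalIdeal_omega_of_central_involution hM hξ z hz1 hz2 hzc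
  have h2 : {t : C | t ^ 2 = 1}
      = ((Finset.univ.filter (fun t : C => t ^ 2 = 1) : Finset C) : Set C) := by
    ext t
    simp
  rw [h2, finsum_mem_coe_finset, ← Finset.sum_div]
  exact h1


end Cfsg.Agent.H9.S4737A

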