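import Mathlib
import Cfsg.Prelude.Def_Characters
import Cfsg.Prelude.Def_Blocks
import Cfsg.Agent.Lib.helper3.ClassMul
import Cfsg.Agent.Lib.helper3.DefectZero
import Cfsg.Agent.Lib.helper3.LocalM3
import Cfsg.Agent.H9.S4737A

set_option autoImplicit false
set_option linter.style.haveILetI false
set_option linter.unusedSectionVars false

/-!
# Layer I of S4741 modulo the Brauer-pair step

`exists_defectZero_nonsingular_of_partA`: `p`-separated pairwise non-conjugate elements `x i` with
centralizers of order prime to `p` give distinct characters `χ i` of `p`-defect zero with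
`det (χ i (x j))` outside the local ideal, provided the central character value on the sum of all
`p`-elements lies in the local ideal for every character of positive defect.
-/

namespace Cfsg.Agent.H9.PSepRank

open Cfsg Module
open scoped ComplexConjugate

/-! ## Abstract linear algebra -/

/-- A matrix of full row rank has a nonsingular maximal minor. -/
theorem exists_minor {k : Type*} [Field k] {I Z : Type*} [Fintype I] [Fintype Z] [DecidableEq I]
    (A : Matrix I Z k) (hA : A.rank = Fintype.card I) :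
    ∃ e : I → Z, Function.Injective e ∧ (A.submatrix id e).det ≠ 0 := by
  classical
  have hspan : Submodule.span k (Set.range A.col) = ⊤ := by
    rw [← Matrix.range_mulVecLin]
    apply Submodule.eq_top_of_finrank_eq
    rw [Module.finrank_fintype_fun_eq_card]
    exact hA
  obtain ⟨κ, a, ha, hsp, hli⟩ := exists_linearIndependent' k A.col
  rw [hspan] at hsp
  let b : Module.Basis κ k (I → k) := Module.Basis.mk hli hsp.ge
  have f : I ≃ κ := (Pi.basisFun k I).indexEquiv b
  refine ⟨a ∘ f, ha.comp f.injective, ?_⟩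
  have hli2 : LinearIndependent k (A.submatrix id (a ∘ f)).col := by
    have : (A.submatrix id (a ∘ f)).col = (A.col ∘ a) ∘ f := by
      ext i j
      rfl
    rw [this]
    exact hli.comp f f.injective
  have hu := Matrix.linearIndependent_cols_iff_isUnit.mp hli2
  exact ((Matrix.isUnit_iff_isUnit_det _).mp hu).ne_zero

theorem exists_minor_of_mul_eq_diagonal {k : Type*} [Field k] {I Z : Type*} [Fintype I]
    [Fintype Z] [DecidableEq I] (A : Matrix I Z k) (B : Matrix Z I k) (d : I → k)
    (hd : ∀ i, d i ≠ 0) (h : A * B = Matrix.diagonal d) :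
    ∃ e : I → Z, Function.Injective e ∧ (A.submatrix id e).det ≠ 0 := by
  classical
  apply exists_minor
  have h1 : (A * B).rank = Fintype.card I := by
    rw [h, Matrix.rank_diagonal]
    exact Fintype.card_congr (Equiv.subtypeUnivEquiv hd)
  apply le_antisymm (Matrix.rank_le_card_height A)
  rw [← h1]
  exact Matrix.rank_mul_le_left A B

theorem exists_minor_of_sum_eq {R : Type*} [CommRing R] (M : Ideal R) [hM : M.IsMaximal]
    {I X : Type*} [Fintype I] [Fintype X] [DecidableEq I]
    (w : X → R) (a : I → X → R) (b : X → I → R) (d : I → R) (hd : ∀ i, d i ∉ M)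
    (h : ∀ i j, ∑ χ, w χ * a i χ * b χ j = if i = j then d i else 0) :
    ∃ e : I → X, Function.Injective e ∧ (∀ i, w (e i) ∉ M) ∧
      Matrix.det (Matrix.of fun i j => a i (e j)) ∉ M := by
  classical
  letI : Field (R ⧸ M) := Ideal.Quotient.field M
  obtain ⟨e, he, hdet⟩ := exists_minor_of_mul_eq_diagonal
    (Matrix.of fun (i : I) (χ : {χ // w χ ∉ M}) => Ideal.Quotient.mk M (a i χ.1))
    (Matrix.of fun (χ : {χ // w χ ∉ M}) (j : I) => Ideal.Quotient.mk M (w χ.1 * b χ.1 j))
    (fun i => Ideal.Quotient.mk M (d i))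
    (by
      intro i hi
      exact hd i (Ideal.Quotient.eq_zero_iff_mem.mp hi))
    (by
      ext i j
      rw [Matrix.mul_apply, Matrix.diagonal_apply]
      simp only [Matrix.of_apply]
      have h1 : ∑ χ : {χ // w χ ∉ M},
          Ideal.Quotient.mk M (a i χ.1) * Ideal.Quotient.mk M (w χ.1 * b χ.1 j)
          = ∑ χ : X, Ideal.Quotient.mk M (w χ * a i χ * b χ j) := by
        rw [← Finset.sum_subtype (Finset.univ.filter (fun χ : X => w χ ∉ M))
          (fun χ => by simp)
          (fun χ => Ideal.Quotient.mk M (a i χ) * Ideal.Quotient.mk M (w χ * b χ j))]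
        rw [Finset.sum_filter]
        apply Finset.sum_congr rfl
        intro χ _
        by_cases hχ : w χ ∉ M
        · rw [if_pos hχ, ← map_mul]
          congr 1
          ring
        · rw [if_neg hχ]
          rw [not_not] at hχ
          symm
          rw [Ideal.Quotient.eq_zero_iff_mem]
          rw [mul_assoc]
          exact M.mul_mem_right _ hχ
      rw [h1, ← map_sum, h i j]
      split_ifs
      · rfl
      · exact map_zero _)
  refine ⟨fun i => (e i).1, fun i j hij => he (Subtype.ext hij), fun i => (e i).2, ?_⟩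
  intro hmem
  apply hdet
  have h2 := RingHom.map_det (Ideal.Quotient.mk M) (Matrix.of fun i j => a i (e j).1)
  rw [Ideal.Quotient.eq_zero_iff_mem.mpr hmem] at h2
  rw [h2]
  rfl

/-! ## The group-theoretic part -/

section group

open Cfsg.Agent.Lib.helper3.IndFun Cfsg.Agent.Lib.helper3.CharBasic
open Cfsg.Agent.Lib.helper3.Irr Cfsg.Agent.Lib.helper3.Central Cfsg.Agent.Lib.helper3.Lin
open Cfsg.Agent.Lib.helper3.LocalM Cfsg.Agent.H9.S4737A
open Classical

variable {G : Type*} [Group G] [Fintype G]

/-- The `p`-elements. -/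
noncomputable def pElts (p : ℕ) (G : Type*) [Group G] [Fintype G] : Finset G :=
  Finset.univ.filter (fun u : G => ∃ k : ℕ, orderOf u = p ^ k)

theorem mem_pElts {p : ℕ} {u : G} : u ∈ pElts p G ↔ ∃ k : ℕ, orderOf u = p ^ k := by
  simp [pElts]

theorem orderOf_conj' (g u : G) : orderOf (g * u * g⁻¹) = orderOf u :=
  (MulAut.conj g).orderOf_eq u

theorem pElts_conj {p : ℕ} : ∀ s ∈ pElts p G, ∀ h : G, h * s * h⁻¹ ∈ pElts p G := by
  intro s hs h
  rw [mem_pElts] at hs ⊢
  rw [orderOf_conj']
  exact hs

theorem one_mem_pElts {p : ℕ} : (1 : G) ∈ pElts p G :=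
  mem_pElts.mpr ⟨0, by rw [orderOf_one, pow_zero]⟩

/-- The class-multiplication identity for separated elements. -/
theorem sep_identity (p : ℕ) {ι : Type*} (x : ι → G)
    (hx : ∀ i j : ι, IsConj (x i) (x j) → i = j)
    (hsep : ∀ i j : ι, ∀ g h : G, IsConj (x i) g → IsConj (x j) h → ∀ k : ℕ, 0 < k →
      orderOf (g * h⁻¹) ≠ p ^ k) (i j : ι) :
    ∑ χ : IrrCharacter G, (∑ t ∈ pElts p G, (χ : G → ℂ) t) / (χ : G → ℂ) 1 * (χ : G → ℂ) (x i)
        * conj ((χ : G → ℂ) (x j))
      = if i = j then (Nat.card (Subgroup.centralizer ({x i} : Set G)) : ℂ) else 0 := by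
  have h1 : ∀ χ : IrrCharacter G,
      (∑ t ∈ pElts p G, (χ : G → ℂ) t) / (χ : G → ℂ) 1 * (χ : G → ℂ) (x i)
        * conj ((χ : G → ℂ) (x j))
      = ∑ t ∈ pElts p G, (χ : G → ℂ) (x i * t) * conj ((χ : G → ℂ) (x j)) := by
    intro χ
    rw [← Finset.sum_mul, sum_mul_of_conjInvariant χ.2 (pElts p G) pElts_conj (x i)]
  rw [Finset.sum_congr rfl (fun χ _ => h1 χ), Finset.sum_comm]
  have hterm : ∀ t ∈ pElts p G,
      ∑ χ : IrrCharacter G, (χ : G → ℂ) (x i * t) * conj ((χ : G → ℂ) (x j))
        = if t = 1 then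
            (if i = j then (Nat.card (Subgroup.centralizer ({x i} : Set G)) : ℂ) else 0)
          else 0 := by
    intro t ht
    by_cases ht1 : t = 1
    · rw [if_pos ht1, ht1, mul_one]
      by_cases hij : i = j
      · rw [if_pos hij, ← hij]
        exact (column_orthogonality (x i) (x i)).1 (IsConj.refl _)
      · rw [if_neg hij]
        exact (column_orthogonality (x i) (x j)).2 (fun h => hij (hx i j h))
    · rw [if_neg ht1]
      apply (column_orthogonality (x i * t) (x j)).2
      intro hc
      obtain ⟨k, hk⟩ := mem_pElts.mp ht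
      have hk0 : 0 < k := by
        rcases Nat.eq_zero_or_pos k with h0 | h0
        · rw [h0, pow_zero, orderOf_eq_one_iff] at hk
          exact absurd hk ht1
        · exact h0
      apply hsep j i (x i * t) (x i) hc.symm (IsConj.refl _) k hk0
      rw [← hk, ← orderOf_conj' (x i) t]
  rw [Finset.sum_congr rfl hterm, Finset.sum_ite_eq', if_pos one_mem_pElts]

end group

open Cfsg.Agent.Lib.helper3.IndFun Cfsg.Agent.Lib.helper3.CharBasic
open Cfsg.Agent.Lib.helper3.Irr Cfsg.Agent.Lib.helper3.Central Cfsg.Agent.Lib.helper3.Lin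
open Cfsg.Agent.Lib.helper3.LocalM Cfsg.Agent.H9.S4737A

/-- **Layer I of S4741 modulo the Brauer-pair step `hA`.** -/
theorem exists_defectZero_nonsingular_of_partA {G : Type*} [Group G] [Finite G] (p : ℕ)
    [Fact p.Prime] (M : Ideal AlgInt) (hM : IsPModular p M)
    {ι : Type*} [Fintype ι] [DecidableEq ι] (x : ι → G)
    (hx : ∀ i j : ι, IsConj (x i) (x j) → i = j)
    (hC : ∀ i, ¬ p ∣ Nat.card (Subgroup.centralizer ({x i} : Set G)))
    (hsep : ∀ i j : ι, ∀ g h : G, IsConj (x i) g → IsConj (x j) h → ∀ k : ℕ, 0 < k →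
      orderOf (g * h⁻¹) ≠ p ^ k)
    (hA : ∀ χ : IrrCharacter G,
      (charDegree (χ : G → ℂ)).factorization p ≠ (Nat.card G).factorization p →
        MemLocalIdeal M (∑ᶠ u ∈ {u : G | ∃ k : ℕ, orderOf u = p ^ k},
          (χ : G → ℂ) u / (χ : G → ℂ) 1)) :
    ∃ χ : ι → IrrCharacter G, Function.Injective χ ∧
      (∀ i, (charDegree (χ i : G → ℂ)).factorization p = (Nat.card G).factorization p) ∧
      ¬ MemLocalIdeal M (Matrix.det (Matrix.of fun i j : ι => (χ i : G → ℂ) (x j))) := by
  classical
  haveI : Fintype G := Fintype.ofFinite G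
  haveI hMmax : M.IsMaximal := hM.2.1
  haveI : M.IsPrime := isPrime_of_isPModular hM
  have hint : ∀ (χ : IrrCharacter G) (g : G), IsIntegral ℤ ((χ : G → ℂ) g) := fun χ g =>
    isIntegral_of_isCharacter (isCharacter_of_isIrrCharacter χ.2) g
  obtain ⟨e, he, hwe, hdet⟩ := exists_minor_of_sum_eq M
    (fun χ : IrrCharacter G => (⟨(∑ t ∈ pElts p G, (χ : G → ℂ) t) / (χ : G → ℂ) 1,
      isIntegral_sum_div_of_conjInvariant χ.2 (pElts p G) pElts_conj⟩ : AlgInt))
    (fun (i : ι) χ => (⟨(χ : G → ℂ) (x i), hint χ (x i)⟩ : AlgInt))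
    (fun χ (j : ι) => (⟨conj ((χ : G → ℂ) (x j)),
      map_isIntegral_int (starRingEnd ℂ) (hint χ (x j))⟩ : AlgInt))
    (fun i => ((Nat.card (Subgroup.centralizer ({x i} : Set G)) : ℕ) : AlgInt))
    (by
      intro i h
      rw [natCast_mem_iff hM] at h
      exact hC i h)
    (by
      intro i j
      apply Subtype.ext
      have h1 := sep_identity p x hx hsep i j
      rw [AddSubmonoidClass.coe_finsetSum]
      simp only [MulMemClass.coe_mul]
      rw [h1]
      by_cases hij : i = j
      · rw [if_pos hij, if_pos hij]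
        simp
      · rw [if_neg hij, if_neg hij]
        simp)
  refine ⟨e, he, ?_, ?_⟩
  · intro i
    by_contra hne
    apply hwe i
    have h1 := hA (e i) hne
    have h2 : {u : G | ∃ k : ℕ, orderOf u = p ^ k} = ((pElts p G : Finset G) : Set G) := by
      ext t
      simp [mem_pElts]
    rw [h2, finsum_mem_coe_finset, ← Finset.sum_div] at h1
    exact mem_of_memLocalIdeal (z := ⟨_, isIntegral_sum_div_of_conjInvariant (e i).2
      (pElts p G) pElts_conj⟩) h1
  · intro hmem
    apply hdet
    have h3 : ((Matrix.det (Matrix.of fun i j =>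
        (⟨((e j : IrrCharacter G) : G → ℂ) (x i), hint (e j) (x i)⟩ : AlgInt)) : AlgInt) : ℂ)
        = Matrix.det (Matrix.of fun i j : ι => ((e i : IrrCharacter G) : G → ℂ) (x j)) := by
      have h4 := AlgHom.map_det (Subalgebra.val AlgInt) (Matrix.of fun i j =>
        (⟨((e j : IrrCharacter G) : G → ℂ) (x i), hint (e j) (x i)⟩ : AlgInt))
      rw [Subalgebra.coe_val] at h4
      rw [h4, ← Matrix.det_transpose]
      rfl
    rw [← h3] at hmem
    exact mem_of_memLocalIdeal hmem

end Cfsg.Agent.H9.PSepRank
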