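import Mathlib
import Cfsg.Agent.H2.ClassProdA
import Cfsg.Agent.Lib.Helper6.PSingDefs

/-!
# S4321 piece (C): `C_G(a)` centralizes every conjugate of `a`.  Verbatim stub signature from
`notes/S4321_stubs.lean.txt`, declared in helper6's namespace `Cfsg.Agent.Lib.Helper6.PSing`.
-/

set_option autoImplicit false
set_option linter.unusedVariables false
set_option linter.unusedSectionVars false

namespace Cfsg.Agent.Lib.Helper6.PSing

open Cfsg.Agent.H2.ClassProd

variable {G : Type*} [Group G] [Finite G]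

variable {p : ℕ} [Fact p.Prime]

/-- `p`-part and `p'`-part as integer powers -/
theorem parts_zpow_psc (x : G) :
    ∃ (i j : ℤ), x = x ^ i * x ^ j ∧ (∃ k : ℕ, (x ^ i) ^ p ^ k = 1) ∧
      (orderOf (x ^ j)).Coprime p := by
  have hp : p.Prime := Fact.out
  obtain ⟨k, m, hm, hn⟩ := Nat.exists_eq_pow_mul_and_not_dvd (orderOf_pos x).ne' p hp.ne_one
  have hcop : Nat.Coprime (p ^ k) m :=
    Nat.Coprime.pow_left k ((Nat.Prime.coprime_iff_not_dvd hp).2 hm)
  have hb := Nat.gcd_eq_gcd_ab (p ^ k) m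
  rw [Nat.Coprime] at hcop
  rw [hcop] at hb
  set A := Nat.gcdA (p ^ k) m with hA
  set B := Nat.gcdB (p ^ k) m with hB
  refine ⟨(m : ℤ) * B, ((p ^ k : ℕ) : ℤ) * A, ?_, ⟨k, ?_⟩, ?_⟩
  · rw [← zpow_add, add_comm, ← hb]
    simp
  · rw [← zpow_natCast, ← zpow_mul]
    have : (m : ℤ) * B * ((p ^ k : ℕ) : ℤ) = ((p ^ k * m : ℕ) : ℤ) * B := by push_cast; ring
    rw [this, ← hn, zpow_mul, zpow_natCast, pow_orderOf_eq_one, one_zpow]
  · have h1 : (x ^ (((p ^ k : ℕ) : ℤ) * A)) ^ m = 1 := by
      rw [← zpow_natCast, ← zpow_mul]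
      have : ((p ^ k : ℕ) : ℤ) * A * (m : ℤ) = ((p ^ k * m : ℕ) : ℤ) * A := by push_cast; ring
      rw [this, ← hn, zpow_mul, zpow_natCast, pow_orderOf_eq_one, one_zpow]
    have h2 : orderOf (x ^ (((p ^ k : ℕ) : ℤ) * A)) ∣ m := orderOf_dvd_of_pow_eq_one h1
    apply Nat.Coprime.symm
    rw [Nat.Prime.coprime_iff_not_dvd hp]
    intro h3
    exact hm (dvd_trans h3 h2)

/-- for commuting elements of coprime orders, the first factor is a power of the product -/
theorem left_mem_zpowers_mul_psc {a y : G} (h : Commute a y)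
    (hc : (orderOf a).Coprime (orderOf y)) : ∃ i : ℤ, a = (a * y) ^ i := by
  set m := orderOf a with hm
  set n := orderOf y with hn
  have hb := Nat.gcd_eq_gcd_ab n m
  have hc' : Nat.gcd n m = 1 := Nat.Coprime.symm hc
  rw [hc'] at hb
  have h1 : (a * y) ^ n = a ^ n := by
    rw [h.mul_pow, hn, pow_orderOf_eq_one, mul_one]
  refine ⟨(n : ℤ) * Nat.gcdA n m, ?_⟩
  rw [zpow_mul, zpow_natCast, h1]
  have h2 : a = a ^ ((n : ℤ) * Nat.gcdA n m + (m : ℤ) * Nat.gcdB n m) := by
    rw [← hb]; simp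
  have h3 : a ^ ((m : ℤ) * Nat.gcdB n m) = 1 := by
    rw [zpow_mul, zpow_natCast, hm, pow_orderOf_eq_one, one_zpow]
  have h4 : a ^ ((n : ℤ) * Nat.gcdA n m) = (a ^ n) ^ (Nat.gcdA n m) := by
    rw [zpow_mul, zpow_natCast]
  rw [zpow_add, h3, mul_one, h4] at h2
  exact h2

/-- an element commuting with `w ^ i` whenever it commutes with `w` -/
theorem commute_zpow_psc {v w : G} (h : v * w = w * v) (i : ℤ) : v * w ^ i = w ^ i * v :=
  (Commute.zpow_right (show Commute v w from h) i).eq

/-- (S6)+(S7) -/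
theorem centralizer_normal (a b : G) (hNK : NK p a b) (ha : PEl p a) (hnc : cs a ≠ 1)
    (hpb : p ∣ cs b) (hW : IsPGroup p ↥(Subgroup.normalClosure ({a} : Set G))) :
    ∀ x : G, x * a = a * x → ∀ g : G, x * (g * a * g⁻¹) = (g * a * g⁻¹) * x := by
  classical
  have hp : p.Prime := Fact.out
  set W := Subgroup.normalClosure ({a} : Set G) with hWdef
  have hWn : W.Normal := Subgroup.normalClosure_normal
  have haW : a ∈ W := Subgroup.subset_normalClosure (Set.mem_singleton a)
  have hconjW : ∀ g : G, g * a * g⁻¹ ∈ W := fun g => hWn.conj_mem a haW g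
  obtain ⟨n, hn⟩ := IsPGroup.iff_card.1 hW
  -- elements with `p ∤ cs e` are centralized by `W`
  have hWcent : ∀ e : G, ¬ p ∣ cs e → ∀ v ∈ W, v * e = e * v := by
    intro e hpe v hv
    have hc : (Nat.card ↥W).Coprime (cs e) := by
      rw [hn]
      exact Nat.Coprime.pow_left n ((Nat.Prime.coprime_iff_not_dvd hp).2 hpe)
    have := le_centralizer_of_coprime W e hc hv
    rw [mem_centralizer_singleton] at this
    exact this
  obtain ⟨ha1, ka, hka⟩ := ha
  have hka0 : ka ≠ 0 := by
    rintro rfl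
    rw [pow_zero, orderOf_eq_one_iff] at hka
    exact ha1 hka
  have hpa : p ∣ orderOf a := by rw [hka]; exact dvd_pow_self p hka0
  -- Claim 1: p'-elements of C(a)
  have claim1 : ∀ y : G, y * a = a * y → (orderOf y).Coprime p →
      ∀ g : G, y * (g * a * g⁻¹) = (g * a * g⁻¹) * y := by
    intro y hya hy g
    have hcomm : Commute a y := hya.symm
    have hcop : (orderOf a).Coprime (orderOf y) := by
      rw [hka]; exact Nat.Coprime.pow_left ka hy.symm
    obtain ⟨i, hi⟩ := left_mem_zpowers_mul_psc hcomm hcop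
    obtain ⟨j, hj⟩ := left_mem_zpowers_mul_psc hcomm.symm hcop.symm
    rw [hcomm.symm.eq] at hj
    set w := a * y with hw
    have hpw : p ∣ orderOf w := by
      rw [hw, hcomm.orderOf_mul_eq_mul_orderOf_of_coprime hcop]
      exact dvd_mul_of_dvd_left hpa _
    -- C(w) ≤ C(a)
    have hle : Subgroup.centralizer ({w} : Set G) ≤ Subgroup.centralizer ({a} : Set G) := by
      intro v hv
      rw [mem_centralizer_singleton] at hv ⊢
      rw [hi]
      exact commute_zpow_psc hv i
    have hdvd : cs a ∣ cs w := Subgroup.index_dvd_of_le hle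
    have hcw : (cs w).Coprime (cs b) := by
      rcases hNK w hpw with h | h
      · exfalso
        apply hnc
        have h9 := Nat.dvd_gcd hdvd (dvd_refl (cs a))
        rw [Nat.Coprime] at h
        rw [h] at h9
        exact Nat.dvd_one.1 h9
      · exact h
    have hpw' : ¬ p ∣ cs w := by
      intro h
      have h4 := Nat.dvd_gcd h hpb
      rw [hcw] at h4
      have := Nat.le_of_dvd one_pos h4
      have := hp.one_lt
      omega
    have h5 := hWcent w hpw' (g * a * g⁻¹) (hconjW g)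
    rw [hj]
    exact (commute_zpow_psc h5 j).symm
  -- Claim 2: p-elements of C(a)
  have claim2 : ∀ e : G, e * a = a * e → (∃ k : ℕ, e ^ p ^ k = 1) →
      ∀ g : G, e * (g * a * g⁻¹) = (g * a * g⁻¹) * e := by
    intro e hea ⟨k, hk⟩ g
    by_cases he1 : e = 1
    · rw [he1, one_mul, mul_one]
    by_cases hpe : p ∣ cs e
    · have hpoe : p ∣ orderOf e := by
        obtain ⟨j, -, hj⟩ := (Nat.dvd_prime_pow hp).1 (orderOf_dvd_of_pow_eq_one hk)
        have hj0 : j ≠ 0 := by
          rintro rfl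
          rw [pow_zero, orderOf_eq_one_iff] at hj
          exact he1 hj
        rw [hj]; exact dvd_pow_self p hj0
      have hcea : (cs e).Coprime (cs a) := by
        rcases hNK e hpoe with h | h
        · exact h
        · exfalso
          have h4 := Nat.dvd_gcd hpe hpb
          rw [h] at h4
          have := Nat.le_of_dvd one_pos h4
          have := hp.one_lt
          omega
      obtain ⟨c, hc, hce⟩ := conj_eq_conj_of_coprime e a hcea g⁻¹
      rw [mem_centralizer_singleton] at hc
      -- g⁻¹ e g = c e c⁻¹ commutes with a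
      have h6 : (g⁻¹ * e * g⁻¹⁻¹) * a = a * (g⁻¹ * e * g⁻¹⁻¹) := by
        rw [hce]
        calc c * e * c⁻¹ * a = c * e * (c⁻¹ * (a * c)) * c⁻¹ := by group
          _ = c * e * (c⁻¹ * (c * a)) * c⁻¹ := by rw [hc]
          _ = c * (e * a) * c⁻¹ := by group
          _ = c * (a * e) * c⁻¹ := by rw [hea]
          _ = (c * a) * e * c⁻¹ := by group
          _ = (a * c) * e * c⁻¹ := by rw [hc]
          _ = a * (c * e * c⁻¹) := by group
      calc e * (g * a * g⁻¹) = g * ((g⁻¹ * e * g⁻¹⁻¹) * a) * g⁻¹ := by group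
        _ = g * (a * (g⁻¹ * e * g⁻¹⁻¹)) * g⁻¹ := by rw [h6]
        _ = (g * a * g⁻¹) * e := by group
    · exact (hWcent e hpe (g * a * g⁻¹) (hconjW g)).symm
  -- general x
  intro x hxa g
  obtain ⟨i, j, hx, hs, hc⟩ := parts_zpow_psc (p := p) x
  have hxa' : a * x = x * a := hxa.symm
  have hsa : x ^ i * a = a * x ^ i := (commute_zpow_psc hxa' i).symm
  have hca : x ^ j * a = a * x ^ j := (commute_zpow_psc hxa' j).symm
  have h1 := claim2 (x ^ i) hsa hs g
  have h2 := claim1 (x ^ j) hca hc g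
  have key : ∀ s c t : G, x = s * c → s * t = t * s → c * t = t * c → x * t = t * x := by
    intro s c t hx h1 h2
    rw [hx]
    calc s * c * t = s * (c * t) := by rw [mul_assoc]
      _ = s * (t * c) := by rw [h2]
      _ = (s * t) * c := by rw [mul_assoc]
      _ = (t * s) * c := by rw [h1]
      _ = t * (s * c) := by rw [mul_assoc]
  exact key (x ^ i) (x ^ j) (g * a * g⁻¹) hx h1 h2

end Cfsg.Agent.Lib.Helper6.PSing
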