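import Mathlib
import Cfsg.Agent.S0246

/-!
# `Sp₄(F)`: the tensor decomposition `F⁴ = F² ⊗ F²` and the subgroup `SL₂(F) ≀ 2`
-/

set_option autoImplicit false
set_option linter.unusedSimpArgs false
set_option linter.unusedVariables false
set_option linter.style.haveILetI false

namespace Cfsg.Agent.H9.PSp4F

open Matrix

/-- the symplectic group of degree four -/
abbrev Sp4G (F : Type*) [Field F] : Type _ := ↥(Matrix.symplecticGroup (Fin 2) F)

variable {F : Type*} [Field F]

local notation "M2" => Matrix (Fin 2) (Fin 2) F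
local notation "M4" => Matrix (Fin 2 ⊕ Fin 2) (Fin 2 ⊕ Fin 2) F
local notation "Sp4" => Sp4G F
local notation "SL2" => Matrix.SpecialLinearGroup (Fin 2) F

/-- the Kronecker product: `m` acts on the hyperbolic pair, `m'` on the index of the plane -/
def kr (m m' : M2) : M4 :=
  fromBlocks (m 0 0 • m') (m 0 1 • m') (m 1 0 • m') (m 1 1 • m')

theorem kr_mul (m m' n n' : M2) : kr m m' * kr n n' = kr (m * n) (m' * n') := by
  unfold kr
  rw [fromBlocks_multiply]
  simp only [Matrix.mul_apply, Fin.sum_univ_two, smul_mul_smul_comm, add_smul]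

theorem kr_add_left (m n m' : M2) : kr (m + n) m' = kr m m' + kr n m' := by
  unfold kr
  rw [fromBlocks_add]
  simp only [Matrix.add_apply, add_smul]

theorem kr_add_right (m m' n' : M2) : kr m (m' + n') = kr m m' + kr m n' := by
  unfold kr
  rw [fromBlocks_add]
  simp only [smul_add]

theorem kr_zero_left (m' : M2) : kr 0 m' = 0 := by
  unfold kr
  simp only [Matrix.zero_apply, zero_smul, fromBlocks_zero]

theorem kr_zero_right (m : M2) : kr m 0 = 0 := by
  unfold kr
  simp only [smul_zero, fromBlocks_zero]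

theorem kr_smul_left (c : F) (m m' : M2) : kr (c • m) m' = c • kr m m' := by
  unfold kr
  rw [fromBlocks_smul]
  simp only [Matrix.smul_apply, smul_eq_mul, mul_smul]

theorem kr_smul_right (c : F) (m m' : M2) : kr m (c • m') = c • kr m m' := by
  unfold kr
  rw [fromBlocks_smul]
  simp only [smul_comm c]

theorem kr_neg_left (m m' : M2) : kr (-m) m' = -kr m m' := by
  have := kr_smul_left (-1 : F) m m'
  simpa using this

theorem kr_neg_right (m m' : M2) : kr m (-m') = -kr m m' := by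
  have := kr_smul_right (-1 : F) m m'
  simpa using this

theorem kr_one : kr (1 : M2) (1 : M2) = 1 := by
  unfold kr
  rw [← fromBlocks_one]
  simp

theorem kr_transpose (m m' : M2) : (kr m m')ᵀ = kr mᵀ m'ᵀ := by
  unfold kr
  rw [fromBlocks_transpose]
  simp only [transpose_smul, transpose_apply]

/-- the standard symplectic form of the plane -/
def J2 : M2 := !![0, -1; 1, 0]

theorem J_eq_kr : Matrix.J (Fin 2) F = kr J2 1 := by
  unfold kr J2 Matrix.J
  simp

theorem mul_J2_mul_transpose (x : M2) : x * J2 * xᵀ = x.det • J2 := by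
  rw [Matrix.det_fin_two]
  unfold J2
  ext i j
  fin_cases i <;> fin_cases j <;>
    simp [Matrix.mul_apply, Fin.sum_univ_two] <;> ring

/-- the projections onto the two planes -/
def P0 : M2 := !![1, 0; 0, 0]
def P1 : M2 := !![0, 0; 0, 1]
/-- the swap of the two planes -/
def Psw : M2 := !![0, 1; 1, 0]

theorem P0_mul_P0 : (P0 : M2) * P0 = P0 := by
  unfold P0; ext i j; fin_cases i <;> fin_cases j <;> simp [Matrix.mul_apply, Fin.sum_univ_two]
theorem P1_mul_P1 : (P1 : M2) * P1 = P1 := by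
  unfold P1; ext i j; fin_cases i <;> fin_cases j <;> simp [Matrix.mul_apply, Fin.sum_univ_two]
theorem P0_mul_P1 : (P0 : M2) * P1 = 0 := by
  unfold P0 P1; ext i j; fin_cases i <;> fin_cases j <;> simp [Matrix.mul_apply, Fin.sum_univ_two]
theorem P1_mul_P0 : (P1 : M2) * P0 = 0 := by
  unfold P0 P1; ext i j; fin_cases i <;> fin_cases j <;> simp [Matrix.mul_apply, Fin.sum_univ_two]
theorem P0_add_P1 : (P0 : M2) + P1 = 1 := by
  unfold P0 P1; ext i j; fin_cases i <;> fin_cases j <;> simp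
theorem P0_transpose : (P0 : M2)ᵀ = P0 := by
  unfold P0; ext i j; fin_cases i <;> fin_cases j <;> simp
theorem P1_transpose : (P1 : M2)ᵀ = P1 := by
  unfold P1; ext i j; fin_cases i <;> fin_cases j <;> simp
theorem Psw_transpose : (Psw : M2)ᵀ = Psw := by
  unfold Psw; ext i j; fin_cases i <;> fin_cases j <;> simp
theorem Psw_mul_Psw : (Psw : M2) * Psw = 1 := by
  unfold Psw; ext i j; fin_cases i <;> fin_cases j <;> simp [Matrix.mul_apply, Fin.sum_univ_two]
theorem Psw_mul_P0 : (Psw : M2) * P0 = P1 * Psw := by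
  unfold Psw P0 P1; ext i j; fin_cases i <;> fin_cases j <;> simp [Matrix.mul_apply, Fin.sum_univ_two]
theorem Psw_mul_P1 : (Psw : M2) * P1 = P0 * Psw := by
  unfold Psw P0 P1; ext i j; fin_cases i <;> fin_cases j <;> simp [Matrix.mul_apply, Fin.sum_univ_two]

/-- the block diagonal matrix -/
def dgM (x y : M2) : M4 := kr x P0 + kr y P1

theorem dgM_mul (x y x' y' : M2) : dgM x y * dgM x' y' = dgM (x * x') (y * y') := by
  unfold dgM
  rw [add_mul, mul_add, mul_add, kr_mul, kr_mul, kr_mul, kr_mul, P0_mul_P0, P1_mul_P1, P0_mul_P1,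
    P1_mul_P0, kr_zero_right, kr_zero_right, add_zero, zero_add]

theorem dgM_one : dgM (1 : M2) 1 = 1 := by
  unfold dgM
  rw [← kr_add_right, P0_add_P1, kr_one]

theorem dgM_same (x : M2) : dgM x x = kr x 1 := by
  unfold dgM
  rw [← kr_add_right, P0_add_P1]

theorem dgM_transpose (x y : M2) : (dgM x y)ᵀ = dgM xᵀ yᵀ := by
  unfold dgM
  rw [transpose_add, kr_transpose, kr_transpose, P0_transpose, P1_transpose]

theorem dgM_mul_kr (x y m m' : M2) : dgM x y * kr m m' = kr (x * m) (P0 * m') + kr (y * m) (P1 * m') := by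
  unfold dgM
  rw [add_mul, kr_mul, kr_mul]

theorem kr_mul_dgM (x y m m' : M2) : kr m m' * dgM x y = kr (m * x) (m' * P0) + kr (m * y) (m' * P1) := by
  unfold dgM
  rw [mul_add, kr_mul, kr_mul]

theorem dgM_mem (x y : M2) (hx : x.det = 1) (hy : y.det = 1) :
    dgM x y ∈ Matrix.symplecticGroup (Fin 2) F := by
  rw [SymplecticGroup.mem_iff, J_eq_kr, dgM_transpose, dgM_mul_kr, Matrix.mul_one,
    Matrix.mul_one]
  unfold dgM
  rw [add_mul, mul_add, mul_add, kr_mul, kr_mul, kr_mul, kr_mul, P0_mul_P0, P1_mul_P1, P0_mul_P1,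
    P1_mul_P0, kr_zero_right, kr_zero_right, add_zero, zero_add, mul_J2_mul_transpose,
    mul_J2_mul_transpose, hx, hy, one_smul, ← kr_add_right, P0_add_P1]

theorem kr_mem (m m' : M2) (h : m.det • (m' * m'ᵀ) = 1) :
    kr m m' ∈ Matrix.symplecticGroup (Fin 2) F := by
  rw [SymplecticGroup.mem_iff, J_eq_kr, kr_transpose, kr_mul, kr_mul, Matrix.mul_one,
    mul_J2_mul_transpose, kr_smul_left, ← kr_smul_right, h]

/-- the index of the hyperbolic pair -/
def hs : Fin 2 ⊕ Fin 2 → Fin 2 := Sum.elim (fun _ => 0) (fun _ => 1)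
/-- the index of the plane -/
def pl : Fin 2 ⊕ Fin 2 → Fin 2 := Sum.elim id id

@[simp] theorem hs_inl (a : Fin 2) : hs (Sum.inl a) = 0 := rfl
@[simp] theorem hs_inr (a : Fin 2) : hs (Sum.inr a) = 1 := rfl
@[simp] theorem pl_inl (a : Fin 2) : pl (Sum.inl a) = a := rfl
@[simp] theorem pl_inr (a : Fin 2) : pl (Sum.inr a) = a := rfl

theorem kr_apply (m m' : M2) (i j : Fin 2 ⊕ Fin 2) :
    kr m m' i j = m (hs i) (hs j) * m' (pl i) (pl j) := by
  unfold kr hs pl
  rcases i with i | i <;> rcases j with j | j <;> simp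

theorem fin2_cases (i : Fin 2) : i = 0 ∨ i = 1 := by
  fin_cases i
  · exact Or.inl rfl
  · exact Or.inr rfl

@[simp] theorem kr_inl_inl (m m' : M2) (a b : Fin 2) :
    kr m m' (Sum.inl a) (Sum.inl b) = m 0 0 * m' a b := kr_apply _ _ _ _
@[simp] theorem kr_inl_inr (m m' : M2) (a b : Fin 2) :
    kr m m' (Sum.inl a) (Sum.inr b) = m 0 1 * m' a b := kr_apply _ _ _ _
@[simp] theorem kr_inr_inl (m m' : M2) (a b : Fin 2) :
    kr m m' (Sum.inr a) (Sum.inl b) = m 1 0 * m' a b := kr_apply _ _ _ _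
@[simp] theorem kr_inr_inr (m m' : M2) (a b : Fin 2) :
    kr m m' (Sum.inr a) (Sum.inr b) = m 1 1 * m' a b := kr_apply _ _ _ _

/-! ### the subgroup `SL₂ ≀ 2` -/

/-- the block diagonal embedding of `SL₂ × SL₂` -/
def dg (x y : SL2) : Sp4 := ⟨dgM x.1 y.1, dgM_mem _ _ x.2 y.2⟩

theorem dg_val (x y : SL2) : (dg x y).1 = dgM x.1 y.1 := rfl

theorem dg_mul (x y x' y' : SL2) : dg x y * dg x' y' = dg (x * x') (y * y') := by
  apply Subtype.ext
  show dgM x.1 y.1 * dgM x'.1 y'.1 = dgM (x * x').1 (y * y').1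
  rw [dgM_mul]
  rfl

theorem dg_one : dg (1 : SL2) 1 = 1 := by
  apply Subtype.ext
  show dgM (1 : SL2).1 (1 : SL2).1 = 1
  rw [Matrix.SpecialLinearGroup.coe_one, dgM_one]

theorem dg_inv (x y : SL2) : (dg x y)⁻¹ = dg x⁻¹ y⁻¹ := by
  rw [inv_eq_iff_mul_eq_one, dg_mul, mul_inv_cancel, mul_inv_cancel, dg_one]

/-- the swap of the two planes -/
def tau : Sp4 := ⟨kr 1 Psw, kr_mem _ _ (by
  rw [Matrix.det_one, one_smul, Psw_transpose, Psw_mul_Psw])⟩

theorem tau_val : (tau : Sp4).1 = kr 1 Psw := rfl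

theorem tau_mul_tau : (tau : Sp4) * tau = 1 := by
  apply Subtype.ext
  show kr 1 Psw * kr 1 Psw = 1
  rw [kr_mul, Matrix.one_mul, Psw_mul_Psw, kr_one]

theorem tau_inv : (tau : Sp4)⁻¹ = tau := by
  rw [inv_eq_iff_mul_eq_one, tau_mul_tau]

theorem tau_mul_dg (x y : SL2) : tau * dg x y = dg y x * tau := by
  apply Subtype.ext
  show kr 1 Psw * dgM x.1 y.1 = dgM y.1 x.1 * kr 1 Psw
  rw [kr_mul_dgM, dgM_mul_kr, Matrix.one_mul, Matrix.one_mul, Matrix.mul_one, Matrix.mul_one,
    Psw_mul_P0, Psw_mul_P1, add_comm]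

theorem tau_mul_dg_mul_tau (x y : SL2) : tau * dg x y * tau = dg y x := by
  rw [tau_mul_dg, mul_assoc, tau_mul_tau, mul_one]

theorem dgM_apply (x y : M2) (i j : Fin 2 ⊕ Fin 2) :
    dgM x y i j = x (hs i) (hs j) * P0 (pl i) (pl j) + y (hs i) (hs j) * P1 (pl i) (pl j) := by
  unfold dgM
  rw [Matrix.add_apply, kr_apply, kr_apply]

@[simp] theorem dgM_inl_inl (x y : M2) (a b : Fin 2) :
    dgM x y (Sum.inl a) (Sum.inl b) = x 0 0 * P0 a b + y 0 0 * P1 a b := dgM_apply _ _ _ _
@[simp] theorem dgM_inl_inr (x y : M2) (a b : Fin 2) :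
    dgM x y (Sum.inl a) (Sum.inr b) = x 0 1 * P0 a b + y 0 1 * P1 a b := dgM_apply _ _ _ _
@[simp] theorem dgM_inr_inl (x y : M2) (a b : Fin 2) :
    dgM x y (Sum.inr a) (Sum.inl b) = x 1 0 * P0 a b + y 1 0 * P1 a b := dgM_apply _ _ _ _
@[simp] theorem dgM_inr_inr (x y : M2) (a b : Fin 2) :
    dgM x y (Sum.inr a) (Sum.inr b) = x 1 1 * P0 a b + y 1 1 * P1 a b := dgM_apply _ _ _ _

theorem dgM_injective {x y x' y' : M2} (h : dgM x y = dgM x' y') : x = x' ∧ y = y' := by
  constructor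
  · ext i j
    fin_cases i <;> fin_cases j
    · have := congrFun (congrFun h (Sum.inl 0)) (Sum.inl 0)
      simpa [P0, P1] using this
    · have := congrFun (congrFun h (Sum.inl 0)) (Sum.inr 0)
      simpa [P0, P1] using this
    · have := congrFun (congrFun h (Sum.inr 0)) (Sum.inl 0)
      simpa [P0, P1] using this
    · have := congrFun (congrFun h (Sum.inr 0)) (Sum.inr 0)
      simpa [P0, P1] using this
  · ext i j
    fin_cases i <;> fin_cases j
    · have := congrFun (congrFun h (Sum.inl 1)) (Sum.inl 1)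
      simpa [P0, P1] using this
    · have := congrFun (congrFun h (Sum.inl 1)) (Sum.inr 1)
      simpa [P0, P1] using this
    · have := congrFun (congrFun h (Sum.inr 1)) (Sum.inl 1)
      simpa [P0, P1] using this
    · have := congrFun (congrFun h (Sum.inr 1)) (Sum.inr 1)
      simpa [P0, P1] using this

theorem dg_injective {x y x' y' : SL2} (h : dg x y = dg x' y') : x = x' ∧ y = y' := by
  have h1 := dgM_injective (congrArg Subtype.val h)
  exact ⟨Subtype.ext h1.1, Subtype.ext h1.2⟩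

/-- the central involution -/
def zc : Sp4 := dg (-1) (-1)

/-- the involution with eigenspaces the two planes -/
def zz : Sp4 := dg (-1) 1

theorem zc_val : (zc : Sp4).1 = -1 := by
  show dgM (-1 : SL2).1 (-1 : SL2).1 = -1
  rw [Matrix.SpecialLinearGroup.coe_neg, Matrix.SpecialLinearGroup.coe_one, dgM_same, kr_neg_left,
    kr_one]

theorem zc_mul (g : Sp4) : zc * g = g * zc := by
  apply Subtype.ext
  show (zc : Sp4).1 * g.1 = g.1 * (zc : Sp4).1
  rw [zc_val, neg_mul, mul_neg, Matrix.one_mul, Matrix.mul_one]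

theorem zc_mul_zc : (zc : Sp4) * zc = 1 := by
  unfold zc
  rw [dg_mul, neg_mul_neg, one_mul, dg_one]

theorem zz_mul_zz : (zz : Sp4) * zz = 1 := by
  unfold zz
  rw [dg_mul, neg_mul_neg, one_mul, dg_one]

theorem zc_mul_zz : (zc : Sp4) * zz = dg 1 (-1) := by
  unfold zc zz
  rw [dg_mul, neg_mul_neg, one_mul, mul_one]

theorem tau_mul_zz : (tau : Sp4) * zz = zc * zz * tau := by
  rw [zc_mul_zz]
  exact tau_mul_dg _ _

end Cfsg.Agent.H9.PSp4F
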