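import Cfsg.Agent.H9.PSp4Fa

/-!
# `Sp₄(F)`: the centralizer modulo the centre of the involution `zz`, the centre, fusion of `tau`
-/

set_option autoImplicit false
set_option linter.unusedSimpArgs false
set_option linter.unusedVariables false
set_option linter.style.haveILetI false

namespace Cfsg.Agent.H9.PSp4F

open Matrix

variable {F : Type*} [Field F]

local notation "M2" => Matrix (Fin 2) (Fin 2) F
local notation "M4" => Matrix (Fin 2 ⊕ Fin 2) (Fin 2 ⊕ Fin 2) F
local notation "Sp4" => Sp4G F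
local notation "SL2" => Matrix.SpecialLinearGroup (Fin 2) F

/-- the diagonal of `zz` -/
def dz : Fin 2 ⊕ Fin 2 → F := Sum.elim ![-1, 1] ![-1, 1]

theorem zz_val : (zz : Sp4).1 = Matrix.diagonal dz := by
  show dgM (-1 : SL2).1 (1 : SL2).1 = _
  rw [Matrix.SpecialLinearGroup.coe_neg, Matrix.SpecialLinearGroup.coe_one]
  ext i j
  unfold dz
  rcases i with i | i <;> rcases j with j | j <;> rcases fin2_cases i with rfl | rfl <;>
    rcases fin2_cases j with rfl | rfl <;> simp [P0, P1]

theorem dz_eq (i : Fin 2 ⊕ Fin 2) : (dz i : F) = if pl i = 0 then -1 else 1 := by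
  unfold dz
  rcases i with i | i <;> rcases fin2_cases i with rfl | rfl <;> simp

/-- a matrix commuting with `zz` vanishes between the two planes -/
theorem apply_eq_zero_of_comm (h2 : (2 : F) ≠ 0) (g : M4) (h : g * Matrix.diagonal dz = Matrix.diagonal dz * g)
    (i j : Fin 2 ⊕ Fin 2) (hij : pl i ≠ pl j) : g i j = 0 := by
  have h1 := congrFun (congrFun h i) j
  rw [Matrix.mul_diagonal, Matrix.diagonal_mul, dz_eq, dz_eq] at h1
  have h3 : (2 : F) * g i j = 0 := by
    by_cases hi : pl i = 0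
    · have hj : pl j ≠ 0 := fun hj => hij (hi.trans hj.symm)
      rw [if_pos hi, if_neg hj] at h1
      linear_combination h1
    · have hj : pl j = 0 := by
        have : ∀ a b : Fin 2, a ≠ 0 → a ≠ b → b = 0 := by decide
        exact this _ _ hi hij
      rw [if_neg hi, if_pos hj] at h1
      linear_combination -h1
  exact (mul_eq_zero.mp h3).resolve_left h2

/-- the matrix of the restriction to a plane -/
def blk (g : M4) (a : Fin 2) : M2 :=
  !![g (Sum.inl a) (Sum.inl a), g (Sum.inl a) (Sum.inr a);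
     g (Sum.inr a) (Sum.inl a), g (Sum.inr a) (Sum.inr a)]

theorem eq_dgM_of_comm (h2 : (2 : F) ≠ 0) (g : M4)
    (h : g * Matrix.diagonal dz = Matrix.diagonal dz * g) : g = dgM (blk g 0) (blk g 1) := by
  have h0 := apply_eq_zero_of_comm h2 g h
  ext i j
  by_cases hij : pl i = pl j
  · unfold blk
    revert hij
    rcases i with i | i <;> rcases j with j | j <;> rcases fin2_cases i with rfl | rfl <;>
      rcases fin2_cases j with rfl | rfl <;> simp [P0, P1]
  · rw [h0 i j hij]
    revert hij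
    rcases i with i | i <;> rcases j with j | j <;> rcases fin2_cases i with rfl | rfl <;>
      rcases fin2_cases j with rfl | rfl <;> simp [P0, P1]

theorem det_eq_one_of_dgM_mem {x y : M2} (h : dgM x y ∈ Matrix.symplecticGroup (Fin 2) F) :
    x.det = 1 ∧ y.det = 1 := by
  rw [SymplecticGroup.mem_iff, J_eq_kr, dgM_transpose, dgM_mul_kr, Matrix.mul_one,
    Matrix.mul_one] at h
  unfold dgM at h
  rw [add_mul, mul_add, mul_add, kr_mul, kr_mul, kr_mul, kr_mul, P0_mul_P0, P1_mul_P1, P0_mul_P1,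
    P1_mul_P0, kr_zero_right, kr_zero_right, add_zero, zero_add, mul_J2_mul_transpose,
    mul_J2_mul_transpose] at h
  constructor
  · have := congrFun (congrFun h (Sum.inr 0)) (Sum.inl 0)
    simpa [P0, P1, J2] using this
  · have := congrFun (congrFun h (Sum.inr 1)) (Sum.inl 1)
    simpa [P0, P1, J2] using this

/-- the centralizer of `zz` -/
theorem exists_dg_of_comm (h2 : (2 : F) ≠ 0) (g : Sp4) (h : g * zz = zz * g) :
    ∃ x y : SL2, g = dg x y := by
  have h1 : g.1 * Matrix.diagonal dz = Matrix.diagonal dz * g.1 := by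
    rw [← zz_val]
    exact congrArg Subtype.val h
  have h3 := eq_dgM_of_comm h2 g.1 h1
  have h4 : dgM (blk g.1 0) (blk g.1 1) ∈ Matrix.symplecticGroup (Fin 2) F := by
    rw [← h3]
    exact g.2
  obtain ⟨hx, hy⟩ := det_eq_one_of_dgM_mem h4
  exact ⟨⟨_, hx⟩, ⟨_, hy⟩, Subtype.ext h3⟩

/-- the centralizer of `zz` modulo the centre -/
theorem exists_dg_of_comm_mod (h2 : (2 : F) ≠ 0) (g : Sp4)
    (h : g * zz = zz * g ∨ g * zz = zc * zz * g) :
    ∃ x y : SL2, g = dg x y ∨ g = dg x y * tau := by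
  rcases h with h | h
  · obtain ⟨x, y, hxy⟩ := exists_dg_of_comm h2 g h
    exact ⟨x, y, Or.inl hxy⟩
  · have h1 : (g * tau) * zz = zz * (g * tau) := by
      calc g * tau * zz = g * (zc * zz * tau) := by rw [mul_assoc, tau_mul_zz]
        _ = (g * zc) * zz * tau := by simp only [mul_assoc]
        _ = zc * (g * zz) * tau := by rw [← zc_mul g]; simp only [mul_assoc]
        _ = (zc * zc) * zz * g * tau := by rw [h]; simp only [mul_assoc]
        _ = zz * (g * tau) := by rw [zc_mul_zc, one_mul, mul_assoc]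
    obtain ⟨x, y, hxy⟩ := exists_dg_of_comm h2 (g * tau) h1
    refine ⟨x, y, Or.inr ?_⟩
    rw [← hxy, mul_assoc, tau_mul_tau, mul_one]

/-- the centre of `Sp₄(F)` -/
theorem mem_center_iff (c : Sp4) : c ∈ Subgroup.center Sp4 ↔ c = 1 ∨ c = zc := by
  constructor
  · intro hc
    obtain ⟨a, ha⟩ := Cfsg.Agent.S0246.center_eq_smul_one 2 c hc
    have h1 := c.2
    rw [SymplecticGroup.mem_iff, ha, J_eq_kr, ← kr_one, ← kr_smul_left, kr_transpose, kr_mul,
      kr_mul] at h1
    have h3 := congrFun (congrFun h1 (Sum.inr 0)) (Sum.inl 0)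
    have h4 : a * a = 1 := by
      simpa [J2, Matrix.mul_apply, Fin.sum_univ_two] using h3
    have h5 : (a - 1) * (a + 1) = 0 := by linear_combination h4
    rcases mul_eq_zero.mp h5 with h6 | h6
    · left
      apply Subtype.ext
      rw [ha, sub_eq_zero.mp h6, one_smul]
      rfl
    · right
      apply Subtype.ext
      rw [ha, zc_val, eq_neg_of_add_eq_zero_left h6, neg_smul, one_smul]
  · rintro (rfl | rfl)
    · exact Subgroup.one_mem _
    · rw [Subgroup.mem_center_iff]
      intro g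
      exact (zc_mul g).symm

/-- a matrix of determinant two -/
def mTwo : M2 := !![2, 0; 0, 1]
/-- half the rotation by an eighth of a turn -/
def hHalf : M2 := !![(2 : F)⁻¹, (2 : F)⁻¹; -(2 : F)⁻¹, (2 : F)⁻¹]

theorem hHalf_cond (h2 : (2 : F) ≠ 0) (m : M2) (hm : m.det = 2) :
    m.det • ((hHalf : M2) * hHalfᵀ) = 1 := by
  rw [hm]
  unfold hHalf
  have ht : (2 : F) * 2⁻¹ = 1 := mul_inv_cancel₀ h2
  generalize (2 : F)⁻¹ = t at *
  ext i j
  rw [Matrix.smul_apply, Matrix.mul_apply, Fin.sum_univ_two, Matrix.transpose_apply,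
    Matrix.transpose_apply]
  rcases fin2_cases i with rfl | rfl <;> rcases fin2_cases j with rfl | rfl
  · simp
    linear_combination (2 * t + 1) * ht
  · simp
  · simp
  · simp
    linear_combination (2 * t + 1) * ht

theorem hHalf_mul_Psw : (hHalf : M2) * Psw = (P0 - P1) * hHalf := by
  unfold hHalf Psw P0 P1
  ext i j
  rcases fin2_cases i with rfl | rfl <;> rcases fin2_cases j with rfl | rfl <;>
    simp [Matrix.mul_apply, Fin.sum_univ_two]

theorem hHalf_mul_diag : (hHalf : M2) * (P1 - P0) = Psw * hHalf := by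
  unfold hHalf Psw P0 P1
  ext i j
  rcases fin2_cases i with rfl | rfl <;> rcases fin2_cases j with rfl | rfl <;>
    simp [Matrix.mul_apply, Fin.sum_univ_two]

/-- the element `m ⊗ h/2` -/
def uel (h2 : (2 : F) ≠ 0) (m : M2) (hm : m.det = 2) : Sp4 :=
  ⟨kr m hHalf, kr_mem _ _ (hHalf_cond h2 m hm)⟩

theorem uel_mul_tau (h2 : (2 : F) ≠ 0) (m : M2) (hm : m.det = 2) :
    uel h2 m hm * tau = dg 1 (-1) * uel h2 m hm := by
  apply Subtype.ext
  show kr m hHalf * kr 1 Psw = dgM (1 : SL2).1 (-1 : SL2).1 * kr m hHalf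
  rw [kr_mul, dgM_mul_kr, Matrix.SpecialLinearGroup.coe_neg, Matrix.SpecialLinearGroup.coe_one,
    Matrix.mul_one, Matrix.one_mul, neg_mul, Matrix.one_mul, kr_neg_left, ← kr_neg_right,
    ← kr_add_right, hHalf_mul_Psw, sub_mul, sub_eq_add_neg]

theorem uel_mul_zz (h2 : (2 : F) ≠ 0) (m : M2) (hm : m.det = 2) :
    uel h2 m hm * zz = tau * uel h2 m hm := by
  apply Subtype.ext
  show kr m hHalf * dgM (-1 : SL2).1 (1 : SL2).1 = kr 1 Psw * kr m hHalf
  rw [kr_mul, kr_mul_dgM, Matrix.SpecialLinearGroup.coe_neg, Matrix.SpecialLinearGroup.coe_one,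
    Matrix.mul_one, Matrix.one_mul, mul_neg, Matrix.mul_one, kr_neg_left, ← kr_neg_right,
    ← kr_add_right, ← hHalf_mul_diag, mul_sub, sub_eq_add_neg, add_comm]

theorem mTwo_det : (mTwo : M2).det = 2 := by
  unfold mTwo
  rw [Matrix.det_fin_two]
  simp

/-- `tau` is conjugate to `dg 1 (-1)` -/
theorem exists_conj_tau (h2 : (2 : F) ≠ 0) : ∃ c : Sp4, c * tau * c⁻¹ = dg 1 (-1) := by
  refine ⟨uel h2 mTwo mTwo_det, ?_⟩
  rw [uel_mul_tau, mul_inv_cancel_right]

end Cfsg.Agent.H9.PSp4F
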