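import Cfsg.Agent.H9.PSp4Fb
import Cfsg.Agent.Lib.Lead.PGroup

/-!
# `Sp₄(F)`: the subgroup `Q ≀ 2` and its strongly closed subgroups
-/

set_option autoImplicit false
set_option linter.unusedSimpArgs false
set_option linter.unusedVariables false
set_option linter.style.haveILetI false

namespace Cfsg.Agent.H9.PSp4F

open Matrix

variable {F : Type*} [Field F]

local notation "M2" => Matrix (Fin 2) (Fin 2) F
local notation "M4" => Matrix (Fin 2 ⊕ Fin 2) (Fin 2 ⊕ Fin 2) F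
local notation "Sp4" => Sp4G F
local notation "SL2" => Matrix.SpecialLinearGroup (Fin 2) F

/-- the wreath product `Q ≀ 2` -/
def Stil (Q : Subgroup SL2) : Subgroup Sp4 where
  carrier := {g | ∃ u ∈ Q, ∃ v ∈ Q, g = dg u v ∨ g = dg u v * tau}
  one_mem' := ⟨1, Q.one_mem, 1, Q.one_mem, Or.inl dg_one.symm⟩
  mul_mem' := by
    rintro a b ⟨u, hu, v, hv, rfl | rfl⟩ ⟨u', hu', v', hv', rfl | rfl⟩
    · exact ⟨u * u', Q.mul_mem hu hu', v * v', Q.mul_mem hv hv', Or.inl (dg_mul _ _ _ _)⟩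
    · refine ⟨u * u', Q.mul_mem hu hu', v * v', Q.mul_mem hv hv', Or.inr ?_⟩
      rw [← mul_assoc, dg_mul]
    · refine ⟨u * v', Q.mul_mem hu hv', v * u', Q.mul_mem hv hu', Or.inr ?_⟩
      rw [mul_assoc, tau_mul_dg, ← mul_assoc, dg_mul]
    · refine ⟨u * v', Q.mul_mem hu hv', v * u', Q.mul_mem hv hu', Or.inl ?_⟩
      rw [mul_assoc, ← mul_assoc tau, tau_mul_dg, mul_assoc, tau_mul_tau, mul_one, dg_mul]
  inv_mem' := by
    rintro a ⟨u, hu, v, hv, rfl | rfl⟩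
    · exact ⟨u⁻¹, Q.inv_mem hu, v⁻¹, Q.inv_mem hv, Or.inl (dg_inv _ _)⟩
    · refine ⟨v⁻¹, Q.inv_mem hv, u⁻¹, Q.inv_mem hu, Or.inr ?_⟩
      rw [_root_.mul_inv_rev, tau_inv, dg_inv, tau_mul_dg]

theorem mem_Stil {Q : Subgroup SL2} {g : Sp4} :
    g ∈ Stil Q ↔ ∃ u ∈ Q, ∃ v ∈ Q, g = dg u v ∨ g = dg u v * tau := Iff.rfl

theorem dg_mem_Stil {Q : Subgroup SL2} {u v : SL2} (hu : u ∈ Q) (hv : v ∈ Q) : dg u v ∈ Stil Q :=
  ⟨u, hu, v, hv, Or.inl rfl⟩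

theorem tau_mem_Stil (Q : Subgroup SL2) : tau ∈ Stil Q :=
  ⟨1, Q.one_mem, 1, Q.one_mem, Or.inr (by rw [dg_one, one_mul])⟩

theorem zc_ne_one (h2 : (2 : F) ≠ 0) : (zc : Sp4) ≠ 1 := by
  intro h
  have h1 := congrArg Subtype.val h
  rw [zc_val] at h1
  have h3 := congrFun (congrFun h1 (Sum.inl 0)) (Sum.inl 0)
  rw [Submonoid.coe_one, Matrix.neg_apply, Matrix.one_apply_eq] at h3
  apply h2
  linear_combination -h3

theorem dg_mul_zz (x y : SL2) : dg x y * zz = zz * dg x y := by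
  unfold zz
  rw [dg_mul, dg_mul, mul_neg, neg_mul, mul_one, one_mul, mul_one, one_mul]

theorem dg_ne_dg_mul_tau (h2 : (2 : F) ≠ 0) (x y x' y' : SL2) : dg x y ≠ dg x' y' * tau := by
  intro h
  have h1 : dg x y * zz = zc * zz * dg x y := by
    conv_lhs => rw [h]
    rw [mul_assoc, tau_mul_zz, ← mul_assoc, ← mul_assoc, h, ← mul_assoc, ← zc_mul, mul_assoc zc,
      dg_mul_zz, ← mul_assoc]
  rw [dg_mul_zz, mul_assoc] at h1
  have h3 : (zc : Sp4) = 1 := by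
    have := mul_right_cancel (a := (1 : Sp4)) (b := zz * dg x y) (c := zc)
      (by rw [one_mul]; exact h1)
    exact this.symm
  exact zc_ne_one h2 h3

theorem dg_mem_Stil_iff (h2 : (2 : F) ≠ 0) {Q : Subgroup SL2} {u v : SL2} :
    dg u v ∈ Stil Q ↔ u ∈ Q ∧ v ∈ Q := by
  constructor
  · rintro ⟨u', hu', v', hv', h | h⟩
    · obtain ⟨rfl, rfl⟩ := dg_injective h
      exact ⟨hu', hv'⟩
    · exact absurd h (dg_ne_dg_mul_tau h2 _ _ _ _)
  · rintro ⟨hu, hv⟩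
    exact dg_mem_Stil hu hv

/-- the order of `Q ≀ 2` -/
theorem card_Stil [Finite F] (h2 : (2 : F) ≠ 0) (Q : Subgroup SL2) :
    Nat.card (Stil Q) = 2 * Nat.card Q ^ 2 := by
  classical
  have e : (↥Q × ↥Q) × Bool ≃ ↥(Stil Q) := by
    refine Equiv.ofBijective (fun t => if t.2 then ⟨dg t.1.1 t.1.2 * tau,
      ⟨_, t.1.1.2, _, t.1.2.2, Or.inr rfl⟩⟩ else ⟨dg t.1.1 t.1.2, dg_mem_Stil t.1.1.2 t.1.2.2⟩)
      ⟨?_, ?_⟩
    · rintro ⟨⟨u, v⟩, b⟩ ⟨⟨u', v'⟩, b'⟩ h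
      cases b <;> cases b'
      · have h1 : dg (u : SL2) v = dg u' v' := by simpa using congrArg Subtype.val h
        obtain ⟨h3, h4⟩ := dg_injective h1
        rw [Subtype.ext h3, Subtype.ext h4]
      · have h1 : dg (u : SL2) v = dg u' v' * tau := by simpa using congrArg Subtype.val h
        exact absurd h1 (dg_ne_dg_mul_tau h2 _ _ _ _)
      · have h1 : dg (u : SL2) v * tau = dg u' v' := by simpa using congrArg Subtype.val h
        exact absurd h1.symm (dg_ne_dg_mul_tau h2 _ _ _ _)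
      · have h1 : dg (u : SL2) v * tau = dg u' v' * tau := by simpa using congrArg Subtype.val h
        obtain ⟨h3, h4⟩ := dg_injective (mul_right_cancel h1)
        rw [Subtype.ext h3, Subtype.ext h4]
    · rintro ⟨g, u, hu, v, hv, rfl | rfl⟩
      · exact ⟨⟨⟨⟨u, hu⟩, ⟨v, hv⟩⟩, false⟩, by simp⟩
      · exact ⟨⟨⟨⟨u, hu⟩, ⟨v, hv⟩⟩, true⟩, by simp⟩
  rw [← Nat.card_congr e, Nat.card_prod, Nat.card_prod, Nat.card_eq_fintype_card (α := Bool),
    Fintype.card_bool]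
  ring

/-- the hypotheses on the Sylow `2`-subgroup `Q` of `SL₂(F)` and its cyclic subgroup `B` -/
structure QHyp (Q B : Subgroup SL2) : Prop where
  neg : (-1 : SL2) ∈ Q
  cen : ∀ u ∈ Q, (∀ w ∈ Q, u * w = w * u) → u = 1 ∨ u = -1
  BQ : B ≤ Q
  c0 : ∃ c ∈ B, c * c = -1
  b0 : ∃ b ∈ Q, b ∉ B
  sq : ∀ v ∈ Q, v ∉ B → v * v = -1

theorem negOne_sq : (-1 : SL2) * (-1) = 1 := by rw [neg_mul_neg, one_mul]

theorem inv_sq_of_sq {w : SL2} (h : w * w = -1) : w⁻¹ * w⁻¹ = -1 := by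
  rw [← _root_.mul_inv_rev, h, inv_eq_iff_mul_eq_one, negOne_sq]

theorem conj_sq_of_sq {w : SL2} (v : SL2) (h : w * w = -1) :
    (v * w * v⁻¹) * (v * w * v⁻¹) = -1 := by
  have : (v * w * v⁻¹) * (v * w * v⁻¹) = v * (w * w) * v⁻¹ := by group
  rw [this, h, mul_neg, mul_one, neg_mul, mul_inv_cancel]

end Cfsg.Agent.H9.PSp4F
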