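import Cfsg.Agent.H9.PSp4Fc
import Cfsg.Agent.H9.PSL2Fus

/-!
# `Sp₄(F)`: the strongly closed subgroups of `Q ≀ 2`
-/

set_option autoImplicit false
set_option linter.unusedSimpArgs false
set_option linter.unusedVariables false
set_option linter.style.haveILetI false

namespace Cfsg.Agent.H9.PSp4F

open Matrix

variable {F : Type*} [Field F] [Fintype F]

local notation "M2" => Matrix (Fin 2) (Fin 2) F
local notation "M4" => Matrix (Fin 2 ⊕ Fin 2) (Fin 2 ⊕ Fin 2) F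
local notation "Sp4" => Sp4G F
local notation "SL2" => Matrix.SpecialLinearGroup (Fin 2) F

section sc

theorem conj_mem_T {Q : Subgroup SL2} {T : Subgroup Sp4} (hcl : ∀ x ∈ T, ∀ g : Sp4, g * x * g⁻¹ ∈ Stil Q → g * x * g⁻¹ ∈ T)
    (hTS : T ≤ Stil Q) {x s : Sp4} (hx : x ∈ T) (hs : s ∈ Stil Q) : s * x * s⁻¹ ∈ T :=
  hcl x hx s ((Stil Q).mul_mem ((Stil Q).mul_mem hs (hTS hx)) ((Stil Q).inv_mem hs))

theorem dg_swap_mem {Q : Subgroup SL2} {T : Subgroup Sp4} (hcl : ∀ x ∈ T, ∀ g : Sp4, g * x * g⁻¹ ∈ Stil Q → g * x * g⁻¹ ∈ T)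
    (hTS : T ≤ Stil Q) {u v : SL2} (h : dg u v ∈ T) : dg v u ∈ T := by
  have h1 := conj_mem_T hcl hTS h (tau_mem_Stil Q)
  rwa [tau_inv, tau_mul_dg_mul_tau] at h1

/-- if `T` contains an element of `Q × Q` with both components of order four then it contains
`Q × Q` -/
theorem all_dg_mem {Q B : Subgroup SL2} {T : Subgroup Sp4} (hodd : Fintype.card F % 2 = 1) (hQ : QHyp Q B)
    (hcl : ∀ x ∈ T, ∀ g : Sp4, g * x * g⁻¹ ∈ Stil Q → g * x * g⁻¹ ∈ T) (hTS : T ≤ Stil Q)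
    {u v : SL2} (huu : u * u = -1) (hvv : v * v = -1) (huv : dg u v ∈ T) :
    ∀ u' ∈ Q, ∀ v' ∈ Q, dg u' v' ∈ T := by
  -- all pairs of elements of order four
  have h1 : ∀ u' ∈ Q, ∀ v' ∈ Q, u' * u' = -1 → v' * v' = -1 → dg u' v' ∈ T := by
    intro u' hu' v' hv' hu'2 hv'2
    obtain ⟨a, ha⟩ := isConj_iff.mp (Cfsg.Agent.H9.PSL2Fus.isConj_of_sq_neg_one hodd u u' huu hu'2)
    obtain ⟨b, hb⟩ := isConj_iff.mp (Cfsg.Agent.H9.PSL2Fus.isConj_of_sq_neg_one hodd v v' hvv hv'2)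
    have h3 : dg a b * dg u v * (dg a b)⁻¹ = dg u' v' := by
      rw [dg_inv, dg_mul, dg_mul, ha, hb]
    rw [← h3]
    apply hcl _ huv
    rw [h3]
    exact dg_mem_Stil hu' hv'
  obtain ⟨c, hcB, hcc⟩ := hQ.c0
  have hcQ : c ∈ Q := hQ.BQ hcB
  obtain ⟨b, hbQ, hbB⟩ := hQ.b0
  -- quotients of elements of order four
  have h3 : ∀ v1 ∈ Q, ∀ v2 ∈ Q, v1 * v1 = -1 → v2 * v2 = -1 → dg 1 (v1 * v2⁻¹) ∈ T := by
    intro v1 hv1 v2 hv2 h11 h22
    have h4 := T.mul_mem (h1 c hcQ v1 hv1 hcc h11) (T.inv_mem (h1 c hcQ v2 hv2 hcc h22))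
    rwa [dg_inv, dg_mul, mul_inv_cancel] at h4
  have h4 : ∀ a ∈ B, dg 1 a ∈ T := by
    intro a ha
    have hab : a * b ∉ B := by
      intro h
      apply hbB
      have := B.mul_mem (B.inv_mem ha) h
      rwa [inv_mul_cancel_left] at this
    have h5 := h3 (a * b) (Q.mul_mem (hQ.BQ ha) hbQ) b hbQ
      (hQ.sq _ (Q.mul_mem (hQ.BQ ha) hbQ) hab) (hQ.sq _ hbQ hbB)
    rwa [mul_inv_cancel_right] at h5
  have h5 : ∀ w ∈ Q, dg 1 w ∈ T := by
    intro w hw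
    by_cases hwB : w ∈ B
    · exact h4 w hwB
    · have h6 := T.mul_mem (h3 w hw c hcQ (hQ.sq w hw hwB) hcc) (h4 c hcB)
      rwa [dg_mul, one_mul, inv_mul_cancel_right] at h6
  intro u' hu' v' hv'
  have h6 := T.mul_mem (dg_swap_mem hcl hTS (h5 u' hu')) (h5 v' hv')
  rwa [dg_mul, one_mul, mul_one] at h6

/-- if `T` contains `Q × Q` and `tau` then it is `Q ≀ 2` -/
theorem eq_Stil_of {Q : Subgroup SL2} {T : Subgroup Sp4} (hTS : T ≤ Stil Q) (h1 : ∀ u' ∈ Q, ∀ v' ∈ Q, dg u' v' ∈ T) (h2 : tau ∈ T) :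
    T = Stil Q := by
  apply le_antisymm hTS
  rintro g ⟨u, hu, v, hv, rfl | rfl⟩
  · exact h1 u hu v hv
  · exact T.mul_mem (h1 u hu v hv) h2

/-- if `T` contains `zz` then it is `Q ≀ 2` -/
theorem eq_Stil_of_zz {Q B : Subgroup SL2} {T : Subgroup Sp4} (hodd : Fintype.card F % 2 = 1) (hQ : QHyp Q B)
    (hcl : ∀ x ∈ T, ∀ g : Sp4, g * x * g⁻¹ ∈ Stil Q → g * x * g⁻¹ ∈ T) (hTS : T ≤ Stil Q)
    (hzc : zc ∈ T) (hzz : zz ∈ T) : T = Stil Q := by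
  have h2 : (2 : F) ≠ 0 := Cfsg.Agent.Lib.Helper8.SL2Odd.two_ne_zero' (Nat.odd_iff.mpr hodd)
  have h1 : dg 1 (-1) ∈ T := by
    rw [← zc_mul_zz]
    exact T.mul_mem hzc hzz
  obtain ⟨c, hc⟩ := exists_conj_tau h2
  have htau : tau ∈ T := by
    have h3 : c⁻¹ * dg 1 (-1) * c⁻¹⁻¹ = tau := by
      rw [← hc]
      group
    rw [← h3]
    apply hcl _ h1
    rw [h3]
    exact tau_mem_Stil Q
  obtain ⟨c0, hcB, hcc⟩ := hQ.c0
  have hcQ : c0 ∈ Q := hQ.BQ hcB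
  have h3 : dg c0 c0⁻¹ ∈ T := by
    have h4 := conj_mem_T hcl hTS htau (dg_mem_Stil hcQ Q.one_mem)
    have h5 : dg c0 1 * tau * (dg c0 1)⁻¹ = dg c0 c0⁻¹ * tau := by
      rw [dg_inv, mul_assoc, tau_mul_dg, ← mul_assoc, dg_mul, inv_one, mul_one, one_mul]
    rw [h5] at h4
    have h6 := T.mul_mem h4 htau
    rwa [mul_assoc, tau_mul_tau, mul_one] at h6
  exact eq_Stil_of hTS (all_dg_mem hodd hQ hcl hTS hcc (inv_sq_of_sq hcc) h3) htau

/-- the embedding of the first factor -/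
def dgL : SL2 →* Sp4 where
  toFun y := dg y 1
  map_one' := dg_one
  map_mul' a b := by rw [dg_mul, one_mul]

omit [Fintype F] in
theorem dgL_apply (y : SL2) : dgL y = dg y 1 := rfl

/-- if `T` contains an element of `Q × Q` with noncentral first component then it contains `zz` -/
theorem zz_mem_of_dg {Q B : Subgroup SL2} {T : Subgroup Sp4} (hQ : QHyp Q B) (hp : IsPGroup 2 Q)
    (hcl : ∀ x ∈ T, ∀ g : Sp4, g * x * g⁻¹ ∈ Stil Q → g * x * g⁻¹ ∈ T) (hTS : T ≤ Stil Q)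
    (u v : SL2) (hu : u ∈ Q) (hv : v ∈ Q) (huv : dg u v ∈ T) (hu1 : u ≠ 1) (hu2 : u ≠ -1) :
    zz ∈ T := by
  obtain ⟨N1, hN1⟩ : ∃ N1 : Subgroup SL2, N1 = T.comap dgL ⊓ Q := ⟨_, rfl⟩
  have hmem : ∀ y : SL2, y ∈ N1 ↔ dg y 1 ∈ T ∧ y ∈ Q := by
    intro y
    rw [hN1, Subgroup.mem_inf, Subgroup.mem_comap, dgL_apply]
  -- a nontrivial element
  obtain ⟨w, hw, hwu⟩ : ∃ w ∈ Q, u * w ≠ w * u := by
    by_contra hcon
    push Not at hcon
    rcases hQ.cen u hu hcon with h | h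
    · exact hu1 h
    · exact hu2 h
  have hc : u * w * u⁻¹ * w⁻¹ ∈ N1 := by
    rw [hmem]
    refine ⟨?_, Q.mul_mem (Q.mul_mem (Q.mul_mem hu hw) (Q.inv_mem hu)) (Q.inv_mem hw)⟩
    have h1 := conj_mem_T hcl hTS (T.inv_mem huv) (dg_mem_Stil hw Q.one_mem)
    have h3 := T.mul_mem huv h1
    have h4 : dg u v * (dg w 1 * (dg u v)⁻¹ * (dg w 1)⁻¹) = dg (u * w * u⁻¹ * w⁻¹) 1 := by
      rw [dg_inv, dg_inv, dg_mul, dg_mul, dg_mul, inv_one, mul_one, one_mul, mul_inv_cancel]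
      simp only [mul_assoc]
    rwa [h4] at h3
  have hc1 : u * w * u⁻¹ * w⁻¹ ≠ 1 := by
    intro h
    apply hwu
    calc u * w = (u * w * u⁻¹ * w⁻¹) * (w * u) := by group
      _ = w * u := by rw [h, one_mul]
  -- normality in `Q`
  haveI hnorm : (N1.subgroupOf Q).Normal := by
    constructor
    intro y hy q
    rw [Subgroup.mem_subgroupOf] at hy ⊢
    rw [hmem] at hy ⊢
    refine ⟨?_, (q * y * q⁻¹).2⟩
    have h1 := conj_mem_T hcl hTS hy.1 (dg_mem_Stil q.2 Q.one_mem)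
    have h3 : dg (q : SL2) 1 * dg (y : SL2) 1 * (dg (q : SL2) 1)⁻¹ =
        dg ((q * y * q⁻¹ : ↥Q) : SL2) 1 := by
      rw [dg_inv, dg_mul, dg_mul, inv_one, mul_one, mul_one]
      rfl
    rwa [h3] at h1
  have hne : N1.subgroupOf Q ≠ ⊥ := by
    intro h
    have h1 : (⟨_, ((hmem _).mp hc).2⟩ : ↥Q) ∈ N1.subgroupOf Q := by
      rw [Subgroup.mem_subgroupOf]
      exact hc
    rw [h, Subgroup.mem_bot] at h1
    exact hc1 (congrArg Subtype.val h1)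
  obtain ⟨z, hzN, hzZ, hz1⟩ :=
    Cfsg.Agent.Lib.Lead.PGroup.exists_mem_center_of_normal hp (N1.subgroupOf Q) hne
  rw [Subgroup.mem_subgroupOf, hmem] at hzN
  have hzcomm : ∀ w ∈ Q, (z : SL2) * w = w * z := by
    intro w hw
    have := Subgroup.mem_center_iff.mp hzZ ⟨w, hw⟩
    exact (congrArg Subtype.val this).symm
  rcases hQ.cen z z.2 hzcomm with h | h
  · exact absurd (Subtype.ext h) hz1
  · have := hzN.1
    rwa [h] at this

/-- **the strongly closed subgroups of `Q ≀ 2` properly containing the centre** -/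
theorem sc_Stil {Q B : Subgroup SL2} {T : Subgroup Sp4} (hodd : Fintype.card F % 2 = 1)
    (hQ : QHyp Q B) (hp : IsPGroup 2 Q)
    (hcl : ∀ x ∈ T, ∀ g : Sp4, g * x * g⁻¹ ∈ Stil Q → g * x * g⁻¹ ∈ T) (hTS : T ≤ Stil Q)
    (hzc : zc ∈ T) (hne : ∃ x ∈ T, x ≠ 1 ∧ x ≠ zc) : T = Stil Q := by
  obtain ⟨x, hxT, hx1, hxz⟩ := hne
  obtain ⟨u, hu, v, hv, rfl | rfl⟩ := hTS hxT
  · by_cases hu1 : u = 1 ∨ u = -1
    · by_cases hv1 : v = 1 ∨ v = -1
      · rcases hu1 with rfl | rfl <;> rcases hv1 with rfl | rfl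
        · exact absurd dg_one hx1
        · have h1 : zz ∈ T := by
            have := T.mul_mem hzc hxT
            rwa [← zc_mul_zz, ← mul_assoc, zc_mul_zc, one_mul] at this
          exact eq_Stil_of_zz hodd hQ hcl hTS hzc h1
        · exact eq_Stil_of_zz hodd hQ hcl hTS hzc hxT
        · exact absurd rfl hxz
      · push Not at hv1
        exact eq_Stil_of_zz hodd hQ hcl hTS hzc
          (zz_mem_of_dg hQ hp hcl hTS v u hv hu (dg_swap_mem hcl hTS hxT) hv1.1 hv1.2)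
    · push Not at hu1
      exact eq_Stil_of_zz hodd hQ hcl hTS hzc
        (zz_mem_of_dg hQ hp hcl hTS u v hu hv hxT hu1.1 hu1.2)
  · obtain ⟨c0, hcB, hcc⟩ := hQ.c0
    have hcQ : c0 ∈ Q := hQ.BQ hcB
    have h1 := conj_mem_T hcl hTS (T.inv_mem hxT) (dg_mem_Stil hcQ Q.one_mem)
    have h3 := T.mul_mem hxT h1
    have h4 : dg u v * tau * (dg c0 1 * (dg u v * tau)⁻¹ * (dg c0 1)⁻¹) =
        dg c0⁻¹ (v * c0 * v⁻¹) := by
      rw [_root_.mul_inv_rev, tau_inv, dg_inv, dg_inv, inv_one]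
      calc dg u v * tau * (dg c0 1 * (tau * dg u⁻¹ v⁻¹) * dg c0⁻¹ 1)
          = dg u v * (tau * dg c0 1 * tau) * dg u⁻¹ v⁻¹ * dg c0⁻¹ 1 := by
            simp only [mul_assoc]
        _ = dg c0⁻¹ (v * c0 * v⁻¹) := by
            rw [tau_mul_dg_mul_tau, dg_mul, dg_mul, dg_mul, mul_one, mul_inv_cancel, one_mul,
              mul_one]
    rw [h4] at h3
    have hall := all_dg_mem hodd hQ hcl hTS (inv_sq_of_sq hcc) (conj_sq_of_sq v hcc) h3
    have htau : tau ∈ T := by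
      have := T.mul_mem (T.inv_mem (hall u hu v hv)) hxT
      rwa [inv_mul_cancel_left] at this
    exact eq_Stil_of hTS hall htau

end sc

end Cfsg.Agent.H9.PSp4F
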