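import Cfsg.Agent.H9.PSp4Fd

/-!
# `Sp₄(F)`: the normalizer of `Q ≀ 2`
-/

set_option autoImplicit false
set_option linter.unusedSimpArgs false
set_option linter.unusedVariables false
set_option linter.unusedSectionVars false
set_option linter.style.haveILetI false

namespace Cfsg.Agent.H9.PSp4F

open Matrix

variable {F : Type*} [Field F]

local notation "M2" => Matrix (Fin 2) (Fin 2) F
local notation "M4" => Matrix (Fin 2 ⊕ Fin 2) (Fin 2 ⊕ Fin 2) F
local notation "Sp4" => Sp4G F
local notation "SL2" => Matrix.SpecialLinearGroup (Fin 2) F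

theorem sl2_ne_neg (h2 : (2 : F) ≠ 0) (v : SL2) : v ≠ -v := by
  intro h
  have h1 : ∀ i j, v.1 i j = 0 := by
    intro i j
    have h3 := congrArg (fun w : SL2 => w.1 i j) h
    simp only [Matrix.SpecialLinearGroup.coe_neg, Matrix.neg_apply] at h3
    have h4 : (2 : F) * v.1 i j = 0 := by linear_combination h3
    exact (mul_eq_zero.mp h4).resolve_left h2
  have h3 := v.2
  rw [Matrix.det_fin_two, h1, h1, h1, h1] at h3
  simp at h3

theorem one_ne_negOne (h2 : (2 : F) ≠ 0) : (1 : SL2) ≠ -1 := sl2_ne_neg h2 1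

theorem zz_ne_one (h2 : (2 : F) ≠ 0) : (zz : Sp4) ≠ 1 := by
  intro h
  rw [← dg_one] at h
  exact one_ne_negOne h2 (dg_injective h).1.symm

theorem zz_ne_zc (h2 : (2 : F) ≠ 0) : (zz : Sp4) ≠ zc := by
  intro h
  exact one_ne_negOne h2 (dg_injective h).2

theorem zc_mul_dg (u v : SL2) : zc * dg u v = dg (-u) (-v) := by
  unfold zc
  rw [dg_mul, neg_mul, neg_mul, one_mul, one_mul]

/-- the elements of `Q ≀ 2` that are central modulo the centre -/
theorem mem_of_central_mod (h2 : (2 : F) ≠ 0) {Q B : Subgroup SL2} (hQ : QHyp Q B) (x : Sp4)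
    (hx : x ∈ Stil Q) (hc : ∀ y ∈ Stil Q, x * y = y * x ∨ x * y = zc * y * x) :
    x = 1 ∨ x = zc ∨ x = zz ∨ x = zc * zz := by
  obtain ⟨c0, hcB, hcc⟩ := hQ.c0
  have hcQ : c0 ∈ Q := hQ.BQ hcB
  obtain ⟨u, hu, v, hv, rfl | rfl⟩ := hx
  · have hu1 : u = 1 ∨ u = -1 := by
      apply hQ.cen u hu
      intro w hw
      rcases hc (dg w 1) (dg_mem_Stil hw Q.one_mem) with h | h
      · rw [dg_mul, dg_mul] at h
        exact (dg_injective h).1
      · rw [mul_assoc, dg_mul, dg_mul, zc_mul_dg, one_mul, mul_one] at h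
        exact absurd (dg_injective h).2 (sl2_ne_neg h2 v)
    have hv1 : v = 1 ∨ v = -1 := by
      apply hQ.cen v hv
      intro w hw
      rcases hc (dg 1 w) (dg_mem_Stil Q.one_mem hw) with h | h
      · rw [dg_mul, dg_mul] at h
        exact (dg_injective h).2
      · rw [mul_assoc, dg_mul, dg_mul, zc_mul_dg, one_mul, mul_one] at h
        exact absurd (dg_injective h).1 (sl2_ne_neg h2 u)
    rcases hu1 with rfl | rfl <;> rcases hv1 with rfl | rfl
    · exact Or.inl dg_one
    · right; right; right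
      rw [zc_mul_zz]
    · right; right; left
      rfl
    · right; left
      rfl
  · exfalso
    have h1 : dg u v * tau * dg c0 1 = dg 1 (v * c0 * v⁻¹) * (dg u v * tau) := by
      rw [mul_assoc, tau_mul_dg, ← mul_assoc, ← mul_assoc, dg_mul, dg_mul, mul_one, one_mul,
        inv_mul_cancel_right]
    rcases hc (dg c0 1) (dg_mem_Stil hcQ Q.one_mem) with h | h
    · rw [h1] at h
      have h3 := (dg_injective (mul_right_cancel h)).1
      rw [← h3, one_mul] at hcc
      exact one_ne_negOne h2 hcc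
    · rw [h1, zc_mul_dg] at h
      have h3 := (dg_injective (mul_right_cancel h)).1
      have h4 : c0 = -1 := by rw [h3, neg_neg]
      rw [h4, negOne_sq] at hcc
      exact one_ne_negOne h2 hcc

theorem zz_mem_Stil {Q B : Subgroup SL2} (hQ : QHyp Q B) : zz ∈ Stil Q :=
  dg_mem_Stil hQ.neg Q.one_mem

theorem zc_mem_Stil {Q B : Subgroup SL2} (hQ : QHyp Q B) : zc ∈ Stil Q :=
  dg_mem_Stil hQ.neg hQ.neg

theorem zz_central_mod {Q : Subgroup SL2} (y : Sp4) (hy : y ∈ Stil Q) :
    zz * y = y * zz ∨ zz * y = zc * y * zz := by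
  obtain ⟨u, hu, v, hv, rfl | rfl⟩ := hy
  · left
    exact (dg_mul_zz u v).symm
  · right
    symm
    calc zc * (dg u v * tau) * zz = zc * (dg u v * (tau * zz)) := by simp only [mul_assoc]
      _ = zc * ((dg u v * zc) * (zz * tau)) := by rw [tau_mul_zz]; simp only [mul_assoc]
      _ = (zc * zc) * (dg u v * (zz * tau)) := by rw [← zc_mul (dg u v)]; simp only [mul_assoc]
      _ = zz * (dg u v * tau) := by
          rw [zc_mul_zc, one_mul, ← mul_assoc, dg_mul_zz, mul_assoc]

/-- **the normalizer of `Q ≀ 2`** -/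
theorem normalizer_Stil (h2 : (2 : F) ≠ 0) {Q B : Subgroup SL2} (hQ : QHyp Q B) (g : Sp4)
    (hg : g ∈ Subgroup.normalizer ((Stil Q : Subgroup Sp4) : Set Sp4)) :
    ∃ s ∈ Stil Q, ∃ b ∈ Subgroup.normalizer (Q : Set SL2), g = s * dg b b := by
  have hgn : ∀ x : Sp4, x ∈ Stil Q ↔ g * x * g⁻¹ ∈ Stil Q :=
    fun x => Subgroup.mem_normalizer_iff.mp hg x
  have hgn' : ∀ x : Sp4, x ∈ Stil Q → g⁻¹ * x * g ∈ Stil Q := by
    intro x hx
    rw [hgn]
    have : g * (g⁻¹ * x * g) * g⁻¹ = x := by group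
    rwa [this]
  -- the image of `zz`
  have h1 : g * zz * g⁻¹ = zz ∨ g * zz * g⁻¹ = zc * zz := by
    have h3 := mem_of_central_mod h2 hQ (g * zz * g⁻¹) ((hgn zz).mp (zz_mem_Stil hQ)) (by
      intro y hy
      rcases zz_central_mod (g⁻¹ * y * g) (hgn' y hy) with h | h
      · left
        calc g * zz * g⁻¹ * y = g * (zz * (g⁻¹ * y * g)) * g⁻¹ := by group
          _ = g * ((g⁻¹ * y * g) * zz) * g⁻¹ := by rw [h]
          _ = y * (g * zz * g⁻¹) := by group
      · right
        calc g * zz * g⁻¹ * y = g * (zz * (g⁻¹ * y * g)) * g⁻¹ := by group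
          _ = g * (zc * (g⁻¹ * y * g) * zz) * g⁻¹ := by rw [h]
          _ = (g * zc * g⁻¹) * y * (g * zz * g⁻¹) := by group
          _ = zc * y * (g * zz * g⁻¹) := by rw [← zc_mul g, mul_inv_cancel_right])
    rcases h3 with h | h | h | h
    · exfalso
      apply zz_ne_one h2
      calc zz = g⁻¹ * (g * zz * g⁻¹) * g := by group
        _ = 1 := by rw [h]; group
    · exfalso
      apply zz_ne_zc h2
      calc zz = g⁻¹ * (g * zz * g⁻¹) * g := by group
        _ = zc := by rw [h, mul_assoc, zc_mul, inv_mul_cancel_left]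
    · exact Or.inl h
    · exact Or.inr h
  have h3 : g * zz = zz * g ∨ g * zz = zc * zz * g := by
    rcases h1 with h | h
    · left
      calc g * zz = (g * zz * g⁻¹) * g := by group
        _ = zz * g := by rw [h]
    · right
      calc g * zz = (g * zz * g⁻¹) * g := by group
        _ = zc * zz * g := by rw [h]
  obtain ⟨a, b, hab⟩ := exists_dg_of_comm_mod h2 g h3
  -- reduction to the block diagonal case
  have key : ∀ a b : SL2, dg a b ∈ Subgroup.normalizer ((Stil Q : Subgroup Sp4) : Set Sp4) →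
      b ∈ Subgroup.normalizer (Q : Set SL2) ∧ a * b⁻¹ ∈ Q := by
    intro a b hn
    have hn1 : ∀ x : Sp4, x ∈ Stil Q ↔ dg a b * x * (dg a b)⁻¹ ∈ Stil Q :=
      fun x => Subgroup.mem_normalizer_iff.mp hn x
    constructor
    · rw [Subgroup.mem_normalizer_iff]
      intro q
      have := hn1 (dg 1 q)
      rw [dg_inv, dg_mul, dg_mul, mul_one, mul_inv_cancel, dg_mem_Stil_iff h2,
        dg_mem_Stil_iff h2] at this
      constructor
      · intro hq
        exact (this.mp ⟨Q.one_mem, hq⟩).2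
      · intro hq
        exact (this.mpr ⟨Q.one_mem, hq⟩).2
    · have := (hn1 tau).mp (tau_mem_Stil Q)
      rw [dg_inv, mul_assoc, tau_mul_dg, ← mul_assoc, dg_mul] at this
      have h5 := (Stil Q).mul_mem this (tau_mem_Stil Q)
      rw [mul_assoc, tau_mul_tau, mul_one, dg_mem_Stil_iff h2] at h5
      exact h5.1
  have hsplit : ∀ a b : SL2, dg a b = dg (a * b⁻¹) 1 * dg b b := by
    intro a b
    rw [dg_mul, one_mul, inv_mul_cancel_right]
  rcases hab with rfl | rfl
  · obtain ⟨hb, hab'⟩ := key a b hg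
    exact ⟨dg (a * b⁻¹) 1, dg_mem_Stil hab' Q.one_mem, b, hb, hsplit a b⟩
  · have hn : dg a b ∈ Subgroup.normalizer ((Stil Q : Subgroup Sp4) : Set Sp4) := by
      have h5 := Subgroup.mul_mem _ hg (Subgroup.le_normalizer (tau_mem_Stil Q))
      rwa [mul_assoc, tau_mul_tau, mul_one] at h5
    obtain ⟨hb, hab'⟩ := key a b hn
    refine ⟨dg (a * b⁻¹) 1 * tau, (Stil Q).mul_mem (dg_mem_Stil hab' Q.one_mem) (tau_mem_Stil Q),
      b, hb, ?_⟩
    rw [hsplit a b, mul_assoc, mul_assoc, tau_mul_dg]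

end Cfsg.Agent.H9.PSp4F
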