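import Cfsg.Agent.H9.PSp4Fe
import Cfsg.Agent.H9.GfsSimple3
import Cfsg.Agent.S2250

/-!
# `PSp₄(F)`, `F` of odd order: the certificate for the image of `Q ≀ 2`
-/

set_option autoImplicit false
set_option linter.unusedSimpArgs false
set_option linter.unusedVariables false
set_option linter.unusedSectionVars false
set_option linter.style.haveILetI false

namespace Cfsg.Agent.H9.PSp4F

open Matrix Cfsg Cfsg.Agent.H9.GfsSimple3

variable {F : Type*} [Field F] [Fintype F]

local notation "M2" => Matrix (Fin 2) (Fin 2) F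
local notation "Sp4" => Sp4G F
local notation "SL2" => Matrix.SpecialLinearGroup (Fin 2) F

/-- the projection onto `PSp₄(F)` -/
def prj : Sp4 →* Cfsg.PSp 2 F := QuotientGroup.mk' (Subgroup.center Sp4)

theorem prj_surjective : Function.Surjective (prj (F := F)) := QuotientGroup.mk'_surjective _

theorem prj_ker : (prj (F := F)).ker = Subgroup.center Sp4 := QuotientGroup.ker_mk' _

theorem prj_eq_one_iff (g : Sp4) : prj g = 1 ↔ g = 1 ∨ g = zc := by
  rw [← MonoidHom.mem_ker, prj_ker, mem_center_iff]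

theorem prj_eq_iff (g h : Sp4) : prj g = prj h ↔ g = h ∨ g = zc * h := by
  have : prj g = prj h ↔ prj (g * h⁻¹) = 1 := by
    rw [map_mul, map_inv, mul_inv_eq_one]
  rw [this, prj_eq_one_iff, mul_inv_eq_one, mul_inv_eq_iff_eq_mul]

theorem prj_zc : prj (zc : Sp4) = 1 := (prj_eq_one_iff _).mpr (Or.inr rfl)

/-- a centric subgroup: it contains every `p`-element of its centralizer -/
theorem centricIn_of_commute' {G : Type*} [Group G] (p : ℕ) [hp : Fact p.Prime] (S0 R : Subgroup G)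
    (hS0 : IsPGroup p S0) (hR : R ≤ S0)
    (h : ∀ z : G, ∀ k : ℕ, z ^ p ^ k = 1 → (∀ x ∈ R, z * x = x * z) → z ∈ R) :
    CentricIn S0 R := by
  refine ⟨hR, ?_⟩
  intro g hg y hyU hcomm
  refine ⟨g⁻¹ * y * g, ?_, by group⟩
  obtain ⟨k, hk⟩ := hS0 ⟨y, hyU⟩
  have hk' : y ^ p ^ k = 1 := congrArg Subtype.val hk
  apply h (g⁻¹ * y * g) k
  · have : (g⁻¹ * y * g) ^ p ^ k = g⁻¹ * y ^ p ^ k * g := by
      have := conj_pow (a := g⁻¹) (b := y) (i := p ^ k)
      rw [inv_inv] at this
      exact this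
    rw [this, hk']
    group
  · intro x hx
    have h1 := hcomm x hx
    calc g⁻¹ * y * g * x = g⁻¹ * (y * (g * x * g⁻¹)) * g := by group
      _ = g⁻¹ * (g * x * g⁻¹ * y) * g := by rw [h1]
      _ = x * (g⁻¹ * y * g) := by group

/-- a finite `p`-subgroup lies in its `genSub` -/
theorem le_genSub_self {G : Type*} [Group G] [Finite G] (p : ℕ) [hp : Fact p.Prime]
    (S0 : Subgroup G) (hS0 : IsPGroup p S0) : S0 ≤ genSub p S0 := by
  intro u hu
  apply Subgroup.subset_closure
  refine ⟨Subgroup.le_normalizer hu, S0, ?_, ?_⟩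
  · refine ⟨le_rfl, ?_⟩
    intro g hg y hy _
    -- conjugation by `g` is a bijection of `S0`
    have hinj : Function.Injective (fun x : S0 => (⟨g * x * g⁻¹, hg x x.2⟩ : S0)) := by
      intro a b hab
      have h1 : g * (a : G) * g⁻¹ = g * (b : G) * g⁻¹ := congrArg Subtype.val hab
      exact Subtype.ext (mul_left_cancel (mul_right_cancel h1))
    obtain ⟨x, hx⟩ := (Finite.injective_iff_surjective.mp hinj) ⟨y, hy⟩
    exact ⟨x, x.2, (congrArg Subtype.val hx).symm⟩
  · apply Subgroup.subset_closure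
    refine ⟨Subgroup.le_normalizer hu, ?_⟩
    obtain ⟨k, hk⟩ := hS0 ⟨u, hu⟩
    have hk' : u ^ p ^ k = 1 := congrArg Subtype.val hk
    obtain ⟨j, -, hj⟩ := (Nat.dvd_prime_pow hp.out).mp (orderOf_dvd_of_pow_eq_one hk')
    exact ⟨j, hj⟩

/-- the order of `Q ≀ 2` is the `2`-part of the order of `Sp₄(F)` -/
theorem card_Stil_eq (hodd : Fintype.card F % 2 = 1) (Q : Subgroup SL2)
    (hcardQ : Nat.card Q = 2 ^ (Nat.card SL2).factorization 2) :
    Nat.card (Stil Q) = 2 ^ (Nat.card Sp4).factorization 2 := by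
  classical
  have h2 : (2 : F) ≠ 0 := Cfsg.Agent.Lib.Helper8.SL2Odd.two_ne_zero' (Nat.odd_iff.mpr hodd)
  have hW : Nat.card (Cfsg.Agent.Helper4.Wreath.Wr (Fin 2) SL2) = Nat.card SL2 ^ 2 * 2 := by
    rw [SemidirectProduct.card, Nat.card_fun, Nat.card_perm, Nat.card_eq_fintype_card (α := Fin 2),
      Fintype.card_fin]
    rfl
  have h0 : Nat.card SL2 ≠ 0 := Nat.card_pos.ne'
  rw [card_Stil h2, hcardQ, Cfsg.Agent.S2250.v2_card_Sp (Nat.odd_iff.mpr hodd) 2, hW,
    Nat.factorization_mul (pow_ne_zero _ h0) two_ne_zero, Nat.factorization_pow, Finsupp.add_apply,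
    Finsupp.smul_apply, Nat.Prime.factorization_self Nat.prime_two, smul_eq_mul, ← pow_mul,
    pow_succ, mul_comm ((Nat.card SL2).factorization 2) 2, mul_comm]

end Cfsg.Agent.H9.PSp4F
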