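import Cfsg.Agent.H9.PSp4Ff

/-!
# `PSp₄(F)`, `F` of odd order: the certificate for the image of `Q ≀ 2`
-/

set_option autoImplicit false
set_option linter.unusedSimpArgs false
set_option linter.unusedVariables false
set_option linter.unusedSectionVars false
set_option linter.style.haveILetI false

namespace Cfsg.Agent.H9.PSp4F

open Matrix Cfsg Cfsg.Agent.H9.GfsSimple3

variable {F : Type*} [Field F] [Fintype F]

local notation "M2" => Matrix (Fin 2) (Fin 2) F
local notation "Sp4" => Sp4G F
local notation "SL2" => Matrix.SpecialLinearGroup (Fin 2) F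

theorem comap_map_Stil {Q B : Subgroup SL2} (hQ : QHyp Q B) :
    ((Stil Q).map prj).comap prj = Stil Q := by
  rw [Subgroup.comap_map_eq, prj_ker]
  apply sup_eq_left.mpr
  intro c hc
  rcases (mem_center_iff c).mp hc with rfl | rfl
  · exact Subgroup.one_mem _
  · exact zc_mem_Stil hQ

theorem prj_mem_iff {Q B : Subgroup SL2} (hQ : QHyp Q B) (g : Sp4) :
    prj g ∈ (Stil Q).map prj ↔ g ∈ Stil Q := by
  rw [← Subgroup.mem_comap, comap_map_Stil hQ]

theorem isPGroup_Stil (hodd : Fintype.card F % 2 = 1) (Q : Subgroup SL2)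
    (hcardQ : Nat.card Q = 2 ^ (Nat.card SL2).factorization 2) : IsPGroup 2 (Stil Q) :=
  IsPGroup.of_card (card_Stil_eq hodd Q hcardQ)

/-- **the certificate, given the action of the diagonal normalizer** -/
theorem cert2_of_Q (hodd : Fintype.card F % 2 = 1) {Q B : Subgroup SL2} (hQ : QHyp Q B)
    (hcardQ : Nat.card Q = 2 ^ (Nat.card SL2).factorization 2)
    (hD : ∀ b ∈ Subgroup.normalizer (Q : Set SL2), prj (dg b b) ∈ genSub 2 ((Stil Q).map prj)) :
    Cert2 2 ((Stil Q).map (prj (F := F))) := by
  have h2 : (2 : F) ≠ 0 := Cfsg.Agent.Lib.Helper8.SL2Odd.two_ne_zero' (Nat.odd_iff.mpr hodd)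
  have hpQ : IsPGroup 2 Q := IsPGroup.of_card hcardQ
  have hpS : IsPGroup 2 (Stil Q) := isPGroup_Stil hodd Q hcardQ
  have hpS0 : IsPGroup 2 ((Stil Q).map (prj (F := F))) := hpS.map prj
  have hcardS := card_Stil_eq hodd Q hcardQ
  refine ⟨?_, ?_, ?_, ?_⟩
  · -- the order
    have hidx : ¬ 2 ∣ ((Stil Q).map (prj (F := F))).index := by
      rw [← Subgroup.index_comap_of_surjective _ prj_surjective, comap_map_Stil hQ]
      exact (Sylow.ofCard (Stil Q) hcardS).not_dvd_index
    have := (hpS0.toSylow hidx).card_eq_multiplicity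
    rwa [IsPGroup.toSylow_coe] at this
  · -- nontrivial
    intro h
    have h1 : prj (tau : Sp4) ∈ (Stil Q).map prj := Subgroup.mem_map_of_mem _ (tau_mem_Stil Q)
    rw [h, Subgroup.mem_bot, prj_eq_one_iff] at h1
    rcases h1 with h1 | h1
    · have := dg_ne_dg_mul_tau h2 (1 : SL2) 1 1 1
      rw [dg_one, one_mul] at this
      exact this h1.symm
    · have := dg_ne_dg_mul_tau h2 (-1 : SL2) (-1) 1 1
      rw [dg_one, one_mul] at this
      exact this h1.symm
  · -- strongly closed subgroups
    intro T hTS hT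
    by_cases hex : ∃ x ∈ T.comap prj, x ≠ 1 ∧ x ≠ zc
    · right
      have h1 : T.comap prj = Stil Q := by
        apply sc_Stil hodd hQ hpQ
        · intro x hx g hg
          rw [Subgroup.mem_comap, map_mul, map_mul, map_inv]
          apply hT _ hx
          rw [← map_inv, ← map_mul, ← map_mul]
          exact Subgroup.mem_map_of_mem _ hg
        · intro x hx
          rw [← prj_mem_iff hQ]
          exact hTS hx
        · rw [Subgroup.mem_comap, prj_zc]
          exact T.one_mem
        · exact hex
      rw [← h1, Subgroup.map_comap_eq_self_of_surjective prj_surjective]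
    · left
      push Not at hex
      rw [Subgroup.eq_bot_iff_forall]
      intro t ht
      obtain ⟨x, rfl⟩ := prj_surjective t
      rw [prj_eq_one_iff]
      by_contra hcon
      push Not at hcon
      exact hcon.2 (hex x ht hcon.1)
  · -- the normalizer
    intro g hg
    obtain ⟨g', rfl⟩ := prj_surjective g
    have hg' : g' ∈ Subgroup.normalizer ((Stil Q : Subgroup Sp4) : Set Sp4) := by
      rw [Subgroup.mem_normalizer_iff] at hg ⊢
      intro x
      rw [← prj_mem_iff hQ, hg, ← map_inv, ← map_mul, ← map_mul, prj_mem_iff hQ]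
    obtain ⟨s, hs, b, hb, rfl⟩ := normalizer_Stil h2 hQ g' hg'
    refine ⟨prj (s * dg b b), ?_, fun x _ => rfl⟩
    rw [map_mul]
    exact Subgroup.mul_mem _ (le_genSub_self 2 _ hpS0 (Subgroup.mem_map_of_mem _ hs)) (hD b hb)

end Cfsg.Agent.H9.PSp4F
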