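import Cfsg.Agent.H9.PSp4Fg
import Cfsg.Agent.H9.SylowTwoDicyclic2

/-!
# `PSp₄(F)`, `|F| ≡ ±1 (mod 8)`: the certificate
-/

set_option autoImplicit false
set_option linter.unusedSimpArgs false
set_option linter.unusedVariables false
set_option linter.unusedSectionVars false
set_option linter.style.haveILetI false

namespace Cfsg.Agent.H9.PSp4F

open Matrix Cfsg Cfsg.Agent.H9.GfsSimple3 Cfsg.Agent.H9.SylowTwoDicyclic

variable {F : Type*} [Field F] [Fintype F]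

local notation "M2" => Matrix (Fin 2) (Fin 2) F
local notation "Sp4" => Sp4G F
local notation "SL2" => Matrix.SpecialLinearGroup (Fin 2) F

/-- the hypotheses `QHyp` for a Sylow `2`-subgroup of a torus normalizer -/
theorem qhyp_of_setup {A N : Subgroup SL2} (hset : Setup A N (-1 : SL2)) (Sh : Sylow 2 SL2)
    (hShN : (Sh : Subgroup SL2) ≤ N) : QHyp (Sh : Subgroup SL2) (A ⊓ (Sh : Subgroup SL2)) := by
  obtain ⟨hcent, -, -⟩ := core hset Sh hShN
  obtain ⟨t, w, htA, htS, hto, hwS, hwA⟩ := hset.exists_tw Sh hShN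
  have hv2 := hset.two_le
  obtain ⟨v, hv⟩ : ∃ v, v = (Nat.card A).factorization 2 := ⟨_, rfl⟩
  rw [← hv] at hto hv2
  refine ⟨(hset.z_mem Sh hShN).2, ?_, inf_le_right, ?_, ⟨w, hwS, fun h => hwA h.1⟩, ?_⟩
  · intro u hu hcomm
    apply (hcent u).mp
    rw [Subgroup.mem_centralizer_iff]
    intro s hs
    exact (hcomm s hs).symm
  · -- an element of order four
    refine ⟨t ^ 2 ^ (v - 2), ⟨Subgroup.pow_mem _ htA _, Subgroup.pow_mem _ htS _⟩, ?_⟩
    have hsA : t ^ 2 ^ (v - 2) * t ^ 2 ^ (v - 2) ∈ A :=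
      A.mul_mem (Subgroup.pow_mem _ htA _) (Subgroup.pow_mem _ htA _)
    have he : t ^ 2 ^ (v - 2) * t ^ 2 ^ (v - 2) = t ^ 2 ^ (v - 1) := by
      rw [← pow_add, ← two_mul, ← pow_succ', show v - 2 + 1 = v - 1 by omega]
    have hss : (t ^ 2 ^ (v - 2) * t ^ 2 ^ (v - 2)) * (t ^ 2 ^ (v - 2) * t ^ 2 ^ (v - 2)) = 1 := by
      rw [he, ← pow_add, ← two_mul, ← pow_succ', show v - 1 + 1 = v by omega, ← hto]
      exact pow_orderOf_eq_one t
    rcases hset.invol _ hsA hss with h' | h'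
    · exfalso
      rw [he] at h'
      have hd := orderOf_dvd_of_pow_eq_one h'
      rw [hto] at hd
      have := (Nat.pow_dvd_pow_iff_le_right (by norm_num : 1 < 2)).1 hd
      omega
    · exact h'
  · intro x hx hxB
    apply hset.sq x (hShN hx)
    intro hxA
    exact hxB ⟨hxA, hx⟩

/-- **the certificate for `|F| ≡ ±1 (mod 8)`** -/
theorem exists_cert2_one (hodd : Fintype.card F % 2 = 1)
    (h8 : Fintype.card F % 8 = 1 ∨ Fintype.card F % 8 = 7) :
    ∃ S0 : Subgroup (Cfsg.PSp 2 F), Cert2 2 S0 := by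
  have hodd' : Odd (Fintype.card F) := Nat.odd_iff.mpr hodd
  obtain ⟨A, N, hset, hA8⟩ := Cfsg.Agent.H9.PSL2Fus.exists_setup hodd'
  have h8A := hA8 h8
  have h0 : Nat.card A ≠ 0 := Nat.card_pos.ne'
  obtain ⟨Q⟩ : Nonempty (Sylow 2 N) := inferInstance
  obtain ⟨S₀, hS₀⟩ : ∃ S₀ : Subgroup SL2, S₀ = (Q : Subgroup N).map N.subtype := ⟨_, rfl⟩
  have hS₀N : S₀ ≤ N := by
    rw [hS₀]
    rintro _ ⟨q, -, rfl⟩
    exact q.2
  have hcard : Nat.card S₀ = 2 ^ (Nat.card SL2).factorization 2 := by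
    rw [hS₀, Subgroup.card_map_of_injective N.subtype_injective, Q.card_eq_multiplicity, hset.cardN,
      hset.part, Nat.factorization_mul two_ne_zero h0, Finsupp.add_apply,
      Nat.Prime.factorization_self Nat.prime_two, add_comm]
  obtain ⟨Sh, hSh⟩ : ∃ Sh : Sylow 2 SL2, (Sh : Subgroup SL2) = S₀ := ⟨Sylow.ofCard S₀ hcard, rfl⟩
  have hShN : (Sh : Subgroup SL2) ≤ N := by rw [hSh]; exact hS₀N
  obtain ⟨-, hnorm, -⟩ := core hset Sh hShN
  have hnorm' := hnorm h8A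
  have hQ := qhyp_of_setup hset Sh hShN
  refine ⟨_, cert2_of_Q hodd hQ (by rw [hSh]; exact hcard) ?_⟩
  intro b hb
  rw [hnorm'] at hb
  have hpS0 : IsPGroup 2 ((Stil (Sh : Subgroup SL2)).map (prj (F := F))) :=
    (isPGroup_Stil hodd _ (by rw [hSh]; exact hcard)).map prj
  exact le_genSub_self 2 _ hpS0 (Subgroup.mem_map_of_mem _ (dg_mem_Stil hb hb))

end Cfsg.Agent.H9.PSp4F
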