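import Cfsg.Agent.H9.PSp4Fe

/-!
# The quaternion group and an element of order three normalizing it in `SL₂(F)`
-/

set_option autoImplicit false
set_option linter.unusedSimpArgs false
set_option linter.unusedVariables false
set_option linter.unusedSectionVars false
set_option linter.style.haveILetI false

namespace Cfsg.Agent.H9.PSp4F

open Matrix

variable {F : Type*} [Field F]

local notation "M2" => Matrix (Fin 2) (Fin 2) F
local notation "SL2" => Matrix.SpecialLinearGroup (Fin 2) F

theorem m2_ext {A B : M2} (h00 : A 0 0 = B 0 0) (h01 : A 0 1 = B 0 1) (h10 : A 1 0 = B 1 0)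
    (h11 : A 1 1 = B 1 1) : A = B := by
  ext i j
  rcases fin2_cases i with rfl | rfl <;> rcases fin2_cases j with rfl | rfl <;> assumption

/-- the quaternion units -/
def qiM : M2 := !![0, 1; -1, 0]
def qjM (α β : F) : M2 := !![α, β; β, -α]
def qkM (α β : F) : M2 := !![β, -α; -α, -β]
/-- twice the element of order three -/
def wM (α β : F) : M2 := !![-1 + α + β, 1 + β - α; -1 + β - α, -1 - α - β]
/-- twice its inverse -/
def wbM (α β : F) : M2 := !![-1 - α - β, -1 - β + α; 1 - β + α, -1 + α + β]
/-- the matrix `1 + i` -/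
def mI : M2 := !![1, 1; -1, 1]

theorem qiM_mul_qiM : (qiM : M2) * qiM = -1 := by
  apply m2_ext <;> rw [Matrix.mul_apply, Fin.sum_univ_two] <;> simp [qiM]

theorem qiM_mul_qjM (α β : F) : qiM * qjM α β = qkM α β := by
  apply m2_ext <;> rw [Matrix.mul_apply, Fin.sum_univ_two] <;> simp [qiM, qjM, qkM]

theorem qjM_mul_qiM (α β : F) : qjM α β * qiM = -qkM α β := by
  apply m2_ext <;> rw [Matrix.mul_apply, Fin.sum_univ_two] <;> simp [qiM, qjM, qkM]

theorem qjM_mul_qjM (α β : F) (hab : α ^ 2 + β ^ 2 = -1) : qjM α β * qjM α β = -1 := by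
  apply m2_ext <;> rw [Matrix.mul_apply, Fin.sum_univ_two] <;> simp [qjM]
  · linear_combination hab
  · ring
  · ring
  · linear_combination hab

theorem wM_mul_qiM (α β : F) (hab : α ^ 2 + β ^ 2 = -1) : wM α β * qiM = qkM α β * wM α β := by
  apply m2_ext <;> rw [Matrix.mul_apply, Matrix.mul_apply, Fin.sum_univ_two, Fin.sum_univ_two] <;>
    simp [qiM, qkM, wM]
  · linear_combination (-1 : F) * hab
  · linear_combination (-1 : F) * hab
  · linear_combination hab
  · linear_combination (-1 : F) * hab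

theorem wM_mul_qjM (α β : F) (hab : α ^ 2 + β ^ 2 = -1) : wM α β * qjM α β = qiM * wM α β := by
  apply m2_ext <;> rw [Matrix.mul_apply, Matrix.mul_apply, Fin.sum_univ_two, Fin.sum_univ_two] <;>
    simp [qiM, qjM, wM]
  · linear_combination hab
  · linear_combination hab
  · linear_combination (-1 : F) * hab
  · linear_combination hab

theorem wM_mul_wbM (α β : F) (hab : α ^ 2 + β ^ 2 = -1) : wM α β * wbM α β = (4 : F) • 1 := by
  apply m2_ext <;> rw [Matrix.mul_apply, Fin.sum_univ_two] <;> simp [wM, wbM]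
  · linear_combination (-2 : F) * hab
  · ring
  · ring
  · linear_combination (-2 : F) * hab

theorem wbM_mul_wM (α β : F) (hab : α ^ 2 + β ^ 2 = -1) : wbM α β * wM α β = (4 : F) • 1 := by
  apply m2_ext <;> rw [Matrix.mul_apply, Fin.sum_univ_two] <;> simp [wM, wbM]
  · linear_combination (-2 : F) * hab
  · ring
  · ring
  · linear_combination (-2 : F) * hab

theorem det_wM (α β : F) (hab : α ^ 2 + β ^ 2 = -1) : (wM α β).det = 4 := by
  rw [Matrix.det_fin_two]
  simp [wM]
  linear_combination (-2 : F) * hab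

theorem mI_mul_wM (α β : F) (hab : α ^ 2 + β ^ 2 = -1) :
    mI * wM α β = wbM α β * (-qkM α β) * mI := by
  apply m2_ext <;>
    rw [Matrix.mul_apply, Matrix.mul_apply, Fin.sum_univ_two, Fin.sum_univ_two, Matrix.mul_apply,
      Matrix.mul_apply, Fin.sum_univ_two, Fin.sum_univ_two] <;>
    simp [qkM, wM, wbM, mI]
  · linear_combination (-2 : F) * hab
  · ring
  · ring
  · linear_combination (-2 : F) * hab

theorem mI_mul_qiM : (mI : M2) * qiM = qiM * mI := by
  apply m2_ext <;> rw [Matrix.mul_apply, Matrix.mul_apply, Fin.sum_univ_two, Fin.sum_univ_two] <;>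
    simp [qiM, mI]

theorem mI_mul_qjM (α β : F) : mI * qjM α β = qkM α β * mI := by
  apply m2_ext <;> rw [Matrix.mul_apply, Matrix.mul_apply, Fin.sum_univ_two, Fin.sum_univ_two] <;>
    simp [qjM, qkM, mI] <;> ring

theorem det_mI : (mI : M2).det = 2 := by
  rw [Matrix.det_fin_two]
  simp [mI]
  norm_num

theorem det_qiM : (qiM : M2).det = 1 := by
  rw [Matrix.det_fin_two]
  simp [qiM]

theorem det_qjM (α β : F) (hab : α ^ 2 + β ^ 2 = -1) : (qjM α β).det = 1 := by
  rw [Matrix.det_fin_two]
  simp [qjM]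
  linear_combination (-1 : F) * hab

end Cfsg.Agent.H9.PSp4F
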