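import Cfsg.Agent.H9.PSp4Fi

/-!
# The quaternion group `Q₈` in `SL₂(F)`
-/

set_option autoImplicit false
set_option linter.unusedSimpArgs false
set_option linter.unusedVariables false
set_option linter.unusedSectionVars false
set_option linter.style.haveILetI false

namespace Cfsg.Agent.H9.PSp4F

open Matrix

variable {F : Type*} [Field F]

local notation "M2" => Matrix (Fin 2) (Fin 2) F
local notation "SL2" => Matrix.SpecialLinearGroup (Fin 2) F

theorem qiM_mul_qkM (α β : F) : qiM * qkM α β = -qjM α β := by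
  apply m2_ext <;> rw [Matrix.mul_apply, Fin.sum_univ_two] <;> simp [qiM, qjM, qkM]

theorem qkM_mul_qiM (α β : F) : qkM α β * qiM = qjM α β := by
  apply m2_ext <;> rw [Matrix.mul_apply, Fin.sum_univ_two] <;> simp [qiM, qjM, qkM]

theorem qjM_mul_qkM (α β : F) (hab : α ^ 2 + β ^ 2 = -1) : qjM α β * qkM α β = qiM := by
  apply m2_ext <;> rw [Matrix.mul_apply, Fin.sum_univ_two] <;> simp [qiM, qjM, qkM]
  · ring
  · linear_combination (-1 : F) * hab
  · linear_combination hab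
  · ring

theorem qkM_mul_qjM (α β : F) (hab : α ^ 2 + β ^ 2 = -1) : qkM α β * qjM α β = -qiM := by
  apply m2_ext <;> rw [Matrix.mul_apply, Fin.sum_univ_two] <;> simp [qiM, qjM, qkM]
  · ring
  · linear_combination hab
  · linear_combination (-1 : F) * hab
  · ring

theorem qkM_mul_qkM (α β : F) (hab : α ^ 2 + β ^ 2 = -1) : qkM α β * qkM α β = -1 := by
  apply m2_ext <;> rw [Matrix.mul_apply, Fin.sum_univ_two] <;> simp [qkM]
  · linear_combination hab
  · ring
  · ring
  · linear_combination hab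

theorem det_qkM (α β : F) (hab : α ^ 2 + β ^ 2 = -1) : (qkM α β).det = 1 := by
  rw [Matrix.det_fin_two]
  simp [qkM]
  linear_combination (-1 : F) * hab

/-- the parameters of the quaternion group -/
structure QPar (F : Type*) [Field F] where
  α : F
  β : F
  hab : α ^ 2 + β ^ 2 = -1

variable (P : QPar F)

def qi : SL2 := ⟨qiM, det_qiM⟩
def qj : SL2 := ⟨qjM P.α P.β, det_qjM _ _ P.hab⟩
def qk : SL2 := ⟨qkM P.α P.β, det_qkM _ _ P.hab⟩

theorem sl2_ext {x y : SL2} (h : x.1 = y.1) : x = y := Subtype.ext h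

@[simp] theorem qi_mul_qi : (qi : SL2) * qi = -1 := by
  apply sl2_ext
  rw [Matrix.SpecialLinearGroup.coe_mul, Matrix.SpecialLinearGroup.coe_neg,
    Matrix.SpecialLinearGroup.coe_one]
  exact qiM_mul_qiM

@[simp] theorem qj_mul_qj : qj P * qj P = -1 := by
  apply sl2_ext
  rw [Matrix.SpecialLinearGroup.coe_mul, Matrix.SpecialLinearGroup.coe_neg,
    Matrix.SpecialLinearGroup.coe_one]
  exact qjM_mul_qjM _ _ P.hab

@[simp] theorem qk_mul_qk : qk P * qk P = -1 := by
  apply sl2_ext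
  rw [Matrix.SpecialLinearGroup.coe_mul, Matrix.SpecialLinearGroup.coe_neg,
    Matrix.SpecialLinearGroup.coe_one]
  exact qkM_mul_qkM _ _ P.hab

@[simp] theorem qi_mul_qj : qi * qj P = qk P := by
  apply sl2_ext
  rw [Matrix.SpecialLinearGroup.coe_mul]
  exact qiM_mul_qjM _ _

@[simp] theorem qj_mul_qi : qj P * qi = -qk P := by
  apply sl2_ext
  rw [Matrix.SpecialLinearGroup.coe_mul, Matrix.SpecialLinearGroup.coe_neg]
  exact qjM_mul_qiM _ _

@[simp] theorem qi_mul_qk : qi * qk P = -qj P := by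
  apply sl2_ext
  rw [Matrix.SpecialLinearGroup.coe_mul, Matrix.SpecialLinearGroup.coe_neg]
  exact qiM_mul_qkM _ _

@[simp] theorem qk_mul_qi : qk P * qi = qj P := by
  apply sl2_ext
  rw [Matrix.SpecialLinearGroup.coe_mul]
  exact qkM_mul_qiM _ _

@[simp] theorem qj_mul_qk : qj P * qk P = qi := by
  apply sl2_ext
  rw [Matrix.SpecialLinearGroup.coe_mul]
  exact qjM_mul_qkM _ _ P.hab

@[simp] theorem qk_mul_qj : qk P * qj P = -qi := by
  apply sl2_ext
  rw [Matrix.SpecialLinearGroup.coe_mul, Matrix.SpecialLinearGroup.coe_neg]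
  exact qkM_mul_qjM _ _ P.hab

theorem qi_inv : (qi : SL2)⁻¹ = -qi := by
  apply inv_eq_of_mul_eq_one_right
  rw [mul_neg, qi_mul_qi, neg_neg]

theorem qj_inv : (qj P)⁻¹ = -qj P := by
  apply inv_eq_of_mul_eq_one_right
  rw [mul_neg, qj_mul_qj, neg_neg]

theorem qk_inv : (qk P)⁻¹ = -qk P := by
  apply inv_eq_of_mul_eq_one_right
  rw [mul_neg, qk_mul_qk, neg_neg]

/-- the quaternion group -/
def Q8 : Subgroup SL2 where
  carrier := {x | x = 1 ∨ x = -1 ∨ x = qi ∨ x = -qi ∨ x = qj P ∨ x = -qj P ∨ x = qk P ∨ x = -qk P}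
  one_mem' := Or.inl rfl
  mul_mem' := by
    rintro a b (rfl | rfl | rfl | rfl | rfl | rfl | rfl | rfl)
      (rfl | rfl | rfl | rfl | rfl | rfl | rfl | rfl) <;>
      simp only [Set.mem_setOf_eq, one_mul, mul_one, neg_mul, mul_neg, neg_neg, qi_mul_qi,
        qj_mul_qj, qk_mul_qk, qi_mul_qj, qj_mul_qi, qi_mul_qk, qk_mul_qi, qj_mul_qk, qk_mul_qj,
        true_or, or_true]
  inv_mem' := by
    rintro a (rfl | rfl | rfl | rfl | rfl | rfl | rfl | rfl) <;>
      simp only [Set.mem_setOf_eq, inv_one, inv_neg, qi_inv, qj_inv, qk_inv, neg_neg, true_or,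
        or_true]

theorem mem_Q8 {x : SL2} : x ∈ Q8 P ↔
    x = 1 ∨ x = -1 ∨ x = qi ∨ x = -qi ∨ x = qj P ∨ x = -qj P ∨ x = qk P ∨ x = -qk P := Iff.rfl

theorem qi_mem : qi ∈ Q8 P := by rw [mem_Q8]; simp
theorem qj_mem : qj P ∈ Q8 P := by rw [mem_Q8]; simp
theorem qk_mem : qk P ∈ Q8 P := by rw [mem_Q8]; simp
theorem negOne_mem : (-1 : SL2) ∈ Q8 P := by rw [mem_Q8]; simp

end Cfsg.Agent.H9.PSp4F
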