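import Cfsg.Agent.H9.PSp4Fj

/-!
# The quaternion group `Q₈` in `SL₂(F)`: centralizer, order, the hypotheses `QHyp`
-/

set_option autoImplicit false
set_option linter.unusedSimpArgs false
set_option linter.unusedVariables false
set_option linter.unusedSectionVars false
set_option linter.style.haveILetI false

namespace Cfsg.Agent.H9.PSp4F

open Matrix

variable {F : Type*} [Field F]

local notation "M2" => Matrix (Fin 2) (Fin 2) F
local notation "SL2" => Matrix.SpecialLinearGroup (Fin 2) F

variable (P : QPar F)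

theorem par_ne_zero (h : P.α = 0 ∧ P.β = 0) : False := by
  have := P.hab
  rw [h.1, h.2] at this
  have h1 : (0 : F) = -1 := by simpa using this
  have h3 : (1 : F) = 0 := by linear_combination h1
  exact one_ne_zero h3

/-- the shape of a matrix commuting with `i` -/
theorem shape_of_comm_qi (y : SL2) (h : y * qi = qi * y) : y.1 1 0 = -y.1 0 1 ∧ y.1 1 1 = y.1 0 0 := by
  have hm : y.1 * qiM = qiM * y.1 := congrArg Subtype.val h
  have e00 := congrFun (congrFun hm 0) 0
  have e01 := congrFun (congrFun hm 0) 1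
  rw [Matrix.mul_apply, Matrix.mul_apply, Fin.sum_univ_two, Fin.sum_univ_two] at e00 e01
  simp [qiM] at e00 e01
  constructor
  · linear_combination -e00
  · linear_combination -e01

/-- a matrix of `SL₂` commuting with `i` and `j` is `± 1` -/
theorem eq_one_or_of_comm (h2 : (2 : F) ≠ 0) (y : SL2) (hi : y * qi = qi * y)
    (hj : y * qj P = qj P * y) : y = 1 ∨ y = -1 := by
  obtain ⟨hc, hd⟩ := shape_of_comm_qi y hi
  have hm : y.1 * qjM P.α P.β = qjM P.α P.β * y.1 := congrArg Subtype.val hj
  have e00 := congrFun (congrFun hm 0) 0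
  have e01 := congrFun (congrFun hm 0) 1
  rw [Matrix.mul_apply, Matrix.mul_apply, Fin.sum_univ_two, Fin.sum_univ_two] at e00 e01
  simp [qjM] at e00 e01
  rw [hc] at e00
  rw [hd] at e01
  have hb : y.1 0 1 = 0 := by
    by_contra hb
    apply par_ne_zero P
    constructor
    · have : (2 : F) * y.1 0 1 * P.α = 0 := by linear_combination -e01
      rcases mul_eq_zero.mp this with h | h
      · exact absurd ((mul_eq_zero.mp h).resolve_left h2) hb
      · exact h
    · have : (2 : F) * y.1 0 1 * P.β = 0 := by linear_combination e00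
      rcases mul_eq_zero.mp this with h | h
      · exact absurd ((mul_eq_zero.mp h).resolve_left h2) hb
      · exact h
  have hdet := y.2
  rw [Matrix.det_fin_two, hc, hd, hb] at hdet
  have ha : (y.1 0 0 - 1) * (y.1 0 0 + 1) = 0 := by linear_combination hdet
  rcases mul_eq_zero.mp ha with h | h
  · left
    apply sl2_ext
    rw [Matrix.SpecialLinearGroup.coe_one]
    apply m2_ext
    · rw [Matrix.one_apply_eq]; linear_combination h
    · rw [hb]; simp
    · rw [hc, hb]; simp
    · rw [hd, Matrix.one_apply_eq]; linear_combination h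
  · right
    apply sl2_ext
    rw [Matrix.SpecialLinearGroup.coe_neg, Matrix.SpecialLinearGroup.coe_one]
    apply m2_ext
    · rw [Matrix.neg_apply, Matrix.one_apply_eq]; linear_combination h
    · rw [hb]; simp
    · rw [hc, hb]; simp
    · rw [hd, Matrix.neg_apply, Matrix.one_apply_eq]; linear_combination h

/-- a matrix of `SL₂` commuting with `i` and carrying `j` to `k` forces `2` to be a square -/
theorem isSquare_two_of_conj (h2 : (2 : F) ≠ 0) (y : SL2) (hi : y * qi = qi * y)
    (hj : y * qj P = qk P * y) : IsSquare (2 : F) := by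
  obtain ⟨hc, hd⟩ := shape_of_comm_qi y hi
  have hm : y.1 * qjM P.α P.β = qkM P.α P.β * y.1 := congrArg Subtype.val hj
  have e00 := congrFun (congrFun hm 0) 0
  have e01 := congrFun (congrFun hm 0) 1
  rw [Matrix.mul_apply, Matrix.mul_apply, Fin.sum_univ_two, Fin.sum_univ_two] at e00 e01
  simp [qjM, qkM] at e00 e01
  rw [hc] at e00
  rw [hd] at e01
  have hab : y.1 0 0 = y.1 0 1 := by
    by_contra hne
    have hne' : y.1 0 0 - y.1 0 1 ≠ 0 := sub_ne_zero.mpr hne
    apply par_ne_zero P
    have h1 : (y.1 0 0 - y.1 0 1) * (P.α - P.β) = 0 := by linear_combination e00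
    have h3 : (y.1 0 0 - y.1 0 1) * (P.α + P.β) = 0 := by linear_combination e01
    have h4 := (mul_eq_zero.mp h1).resolve_left hne'
    have h5 := (mul_eq_zero.mp h3).resolve_left hne'
    have h6 : (2 : F) * P.α = 0 := by linear_combination h4 + h5
    have h7 : (2 : F) * P.β = 0 := by linear_combination h5 - h4
    exact ⟨(mul_eq_zero.mp h6).resolve_left h2, (mul_eq_zero.mp h7).resolve_left h2⟩
  have hdet := y.2
  rw [Matrix.det_fin_two, hc, hd, hab] at hdet
  refine ⟨2 * y.1 0 1, ?_⟩
  linear_combination (-2 : F) * hdet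

theorem qj_not_mem_zpowers (h2 : (2 : F) ≠ 0) : qj P ∉ Subgroup.zpowers (qi : SL2) := by
  rintro ⟨n, hn⟩
  have h1 : qj P * qi = qi * qj P := by
    rw [← hn]
    exact ((Commute.refl (qi : SL2)).zpow_left n).eq
  rw [qj_mul_qi, qi_mul_qj] at h1
  exact sl2_ne_neg h2 (qk P) h1.symm

theorem negOne_mem_zpowers : (-1 : SL2) ∈ Subgroup.zpowers (qi : SL2) := by
  rw [← qi_mul_qi]
  exact Subgroup.mul_mem _ (Subgroup.mem_zpowers _) (Subgroup.mem_zpowers _)

theorem neg_qi_mem_zpowers : -(qi : SL2) ∈ Subgroup.zpowers (qi : SL2) := by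
  rw [← qi_inv]
  exact Subgroup.inv_mem _ (Subgroup.mem_zpowers _)

/-- the hypotheses `QHyp` for the quaternion group -/
theorem qhyp_Q8 (h2 : (2 : F) ≠ 0) : QHyp (Q8 P) (Subgroup.zpowers (qi : SL2)) := by
  refine ⟨negOne_mem P, ?_, ?_, ⟨qi, Subgroup.mem_zpowers _, qi_mul_qi⟩,
    ⟨qj P, qj_mem P, qj_not_mem_zpowers P h2⟩, ?_⟩
  · intro u hu hcomm
    exact eq_one_or_of_comm P h2 u (hcomm _ (qi_mem P)) (hcomm _ (qj_mem P))
  · rw [Subgroup.zpowers_le]
    exact qi_mem P
  · rintro v (rfl | rfl | rfl | rfl | rfl | rfl | rfl | rfl) hv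
    · exact absurd (Subgroup.one_mem _) hv
    · exact absurd negOne_mem_zpowers hv
    · exact absurd (Subgroup.mem_zpowers _) hv
    · exact absurd neg_qi_mem_zpowers hv
    · exact qj_mul_qj P
    · rw [neg_mul_neg, qj_mul_qj]
    · exact qk_mul_qk P
    · rw [neg_mul_neg, qk_mul_qk]

/-- the order of the quaternion group -/
theorem card_Q8 [Finite F] (h2 : (2 : F) ≠ 0) : Nat.card (Q8 P) = 8 := by
  have hle : Nat.card (Q8 P) ≤ 8 := by
    have hmem : ∀ k : Fin 8, (![1, -1, qi, -qi, qj P, -qj P, qk P, -qk P] : Fin 8 → SL2) k ∈ Q8 P := by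
      intro k
      rw [mem_Q8]
      fin_cases k <;> simp
    have hsurj : Function.Surjective (fun k : Fin 8 =>
        (⟨(![1, -1, qi, -qi, qj P, -qj P, qk P, -qk P] : Fin 8 → SL2) k, hmem k⟩ : ↥(Q8 P))) := by
      rintro ⟨x, hx⟩
      rcases hx with rfl | rfl | rfl | rfl | rfl | rfl | rfl | rfl
      · exact ⟨0, rfl⟩
      · exact ⟨1, rfl⟩
      · exact ⟨2, rfl⟩
      · exact ⟨3, rfl⟩
      · exact ⟨4, rfl⟩
      · exact ⟨5, rfl⟩
      · exact ⟨6, rfl⟩
      · exact ⟨7, rfl⟩
    have := Nat.card_le_card_of_surjective _ hsurj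
    rwa [Nat.card_eq_fintype_card (α := Fin 8), Fintype.card_fin] at this
  have hB : Nat.card (Subgroup.zpowers (qi : SL2)) = 4 := by
    rw [Nat.card_zpowers]
    have : orderOf (qi : SL2) = 2 ^ (1 + 1) := by
      apply orderOf_eq_prime_pow
      · rw [pow_one, pow_two, qi_mul_qi]
        exact fun h => one_ne_negOne h2 h.symm
      · have : (qi : SL2) ^ 2 ^ (1 + 1) = (qi * qi) * (qi * qi) := by
          norm_num [pow_succ, mul_assoc]
        rw [this, qi_mul_qi, negOne_sq]
    rw [this]
    norm_num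
  have hBQ : Subgroup.zpowers (qi : SL2) ≤ Q8 P := (qhyp_Q8 P h2).BQ
  have hdvd := Subgroup.card_dvd_of_le hBQ
  rw [hB] at hdvd
  obtain ⟨m, hm⟩ := hdvd
  have hne : Nat.card (Q8 P) ≠ 4 := by
    intro h
    have := Subgroup.eq_of_le_of_card_ge hBQ (by rw [hB, h])
    apply qj_not_mem_zpowers P h2
    rw [this]
    exact qj_mem P
  have hpos : 0 < Nat.card (Q8 P) := Nat.card_pos
  omega

end Cfsg.Agent.H9.PSp4F
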