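import Cfsg.Agent.H9.PSp4Fk

/-!
# The normalizer of the quaternion group `Q₈` in `SL₂(F)`, `2` a nonsquare
-/

set_option autoImplicit false
set_option linter.unusedSimpArgs false
set_option linter.unusedVariables false
set_option linter.unusedSectionVars false
set_option linter.style.haveILetI false

namespace Cfsg.Agent.H9.PSp4F

open Matrix

variable {F : Type*} [Field F]

local notation "M2" => Matrix (Fin 2) (Fin 2) F
local notation "SL2" => Matrix.SpecialLinearGroup (Fin 2) F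

theorem det_wbM (α β : F) (hab : α ^ 2 + β ^ 2 = -1) : (wbM α β).det = 4 := by
  rw [Matrix.det_fin_two]
  simp [wbM]
  linear_combination (-2 : F) * hab

theorem half_sq_mul_four (h2 : (2 : F) ≠ 0) : ((2 : F)⁻¹) ^ 2 * 4 = 1 := by
  field_simp
  norm_num

variable (P : QPar F) (h2 : (2 : F) ≠ 0)

/-- the element of order three -/
def om : SL2 := ⟨(2 : F)⁻¹ • wM P.α P.β, by
  rw [Matrix.det_smul, Fintype.card_fin, det_wM _ _ P.hab, half_sq_mul_four h2]⟩

/-- its inverse -/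
def omb : SL2 := ⟨(2 : F)⁻¹ • wbM P.α P.β, by
  rw [Matrix.det_smul, Fintype.card_fin, det_wbM _ _ P.hab, half_sq_mul_four h2]⟩

theorem om_mul_omb : om P h2 * omb P h2 = 1 := by
  apply sl2_ext
  show ((2 : F)⁻¹ • wM P.α P.β) * ((2 : F)⁻¹ • wbM P.α P.β) = 1
  rw [smul_mul_smul_comm, wM_mul_wbM _ _ P.hab, smul_smul, ← pow_two,
    half_sq_mul_four h2, one_smul]

theorem om_inv : (om P h2)⁻¹ = omb P h2 := inv_eq_of_mul_eq_one_right (om_mul_omb P h2)

theorem om_mul_qi : om P h2 * qi = qk P * om P h2 := by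
  apply sl2_ext
  show ((2 : F)⁻¹ • wM P.α P.β) * qiM = qkM P.α P.β * ((2 : F)⁻¹ • wM P.α P.β)
  rw [smul_mul_assoc, mul_smul_comm, wM_mul_qiM _ _ P.hab]

theorem om_mul_qj : om P h2 * qj P = qi * om P h2 := by
  apply sl2_ext
  show ((2 : F)⁻¹ • wM P.α P.β) * qjM P.α P.β = qiM * ((2 : F)⁻¹ • wM P.α P.β)
  rw [smul_mul_assoc, mul_smul_comm, wM_mul_qjM _ _ P.hab]

theorem om_mul_qk : om P h2 * qk P = qj P * om P h2 := by
  rw [← qi_mul_qj, ← mul_assoc, om_mul_qi, mul_assoc, om_mul_qj, ← mul_assoc, qk_mul_qi]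

theorem om_conj_qi : om P h2 * qi * (om P h2)⁻¹ = qk P := by
  rw [om_mul_qi, mul_inv_cancel_right]

theorem om_conj_qj : om P h2 * qj P * (om P h2)⁻¹ = qi := by
  rw [om_mul_qj, mul_inv_cancel_right]

theorem om_conj_qk : om P h2 * qk P * (om P h2)⁻¹ = qj P := by
  rw [om_mul_qk, mul_inv_cancel_right]

theorem neg_conj (a x : SL2) : a * (-x) * a⁻¹ = -(a * x * a⁻¹) := by
  rw [mul_neg, neg_mul]

theorem om_conj_mem (y : SL2) (hy : y ∈ Q8 P) : om P h2 * y * (om P h2)⁻¹ ∈ Q8 P := by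
  rw [mem_Q8] at hy
  rcases hy with rfl | rfl | rfl | rfl | rfl | rfl | rfl | rfl
  · rw [mul_one, mul_inv_cancel]; exact Subgroup.one_mem _
  · rw [neg_conj, mul_one, mul_inv_cancel]; exact negOne_mem P
  · rw [om_conj_qi]; exact qk_mem P
  · rw [neg_conj, om_conj_qi]; rw [mem_Q8]; simp
  · rw [om_conj_qj]; exact qi_mem P
  · rw [neg_conj, om_conj_qj]; rw [mem_Q8]; simp
  · rw [om_conj_qk]; exact qj_mem P
  · rw [neg_conj, om_conj_qk]; rw [mem_Q8]; simp

/-- the group `SL₂(3)` -/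
def NN : Subgroup SL2 := Subgroup.closure {qi, qj P, om P h2}

theorem qi_mem_NN : qi ∈ NN P h2 := Subgroup.subset_closure (by simp)
theorem qj_mem_NN : qj P ∈ NN P h2 := Subgroup.subset_closure (by simp)
theorem om_mem_NN : om P h2 ∈ NN P h2 := Subgroup.subset_closure (by simp)

theorem NN_le_normalizer [Finite F] : NN P h2 ≤ Subgroup.normalizer ((Q8 P : Subgroup SL2) : Set SL2) := by
  unfold NN
  rw [Subgroup.closure_le]
  rintro x (rfl | rfl | rfl)
  · exact Subgroup.le_normalizer (qi_mem P)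
  · exact Subgroup.le_normalizer (qj_mem P)
  · apply Subgroup.mem_normalizer_fintype
    intro y hy
    exact om_conj_mem P h2 y hy

/-- the elements of order four of `Q₈` are conjugate to `i` under `SL₂(3)` -/
theorem exists_conj_qi (t : SL2) (ht : t ∈ Q8 P) (htt : t * t = -1) :
    ∃ n ∈ NN P h2, n * t * n⁻¹ = qi := by
  rw [mem_Q8] at ht
  rcases ht with rfl | rfl | rfl | rfl | rfl | rfl | rfl | rfl
  · exfalso
    rw [one_mul] at htt
    exact one_ne_negOne h2 htt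
  · exfalso
    rw [negOne_sq] at htt
    exact one_ne_negOne h2 htt
  · exact ⟨1, Subgroup.one_mem _, by rw [one_mul, inv_one, mul_one]⟩
  · refine ⟨qj P, qj_mem_NN P h2, ?_⟩
    rw [neg_conj, qj_mul_qi, qj_inv, neg_mul_neg, qk_mul_qj, neg_neg]
  · exact ⟨om P h2, om_mem_NN P h2, om_conj_qj P h2⟩
  · refine ⟨om P h2 * qi, Subgroup.mul_mem _ (om_mem_NN P h2) (qi_mem_NN P h2), ?_⟩
    have h1 : qi * -qj P * (qi : SL2)⁻¹ = qj P := by
      simp only [qi_inv, mul_neg, neg_mul, neg_neg, qi_mul_qj, qk_mul_qi]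
    calc om P h2 * qi * -qj P * (om P h2 * qi)⁻¹
        = om P h2 * (qi * -qj P * (qi : SL2)⁻¹) * (om P h2)⁻¹ := by group
      _ = qi := by rw [h1, om_conj_qj]
  · refine ⟨(om P h2)⁻¹, Subgroup.inv_mem _ (om_mem_NN P h2), ?_⟩
    rw [inv_inv, ← om_conj_qi P h2]
    group
  · refine ⟨(om P h2)⁻¹ * qi, Subgroup.mul_mem _ (Subgroup.inv_mem _ (om_mem_NN P h2))
      (qi_mem_NN P h2), ?_⟩
    have h1 : qi * -qk P * (qi : SL2)⁻¹ = qk P := by
      simp only [qi_inv, mul_neg, neg_mul, neg_neg, qi_mul_qk, qj_mul_qi]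
    calc (om P h2)⁻¹ * qi * -qk P * ((om P h2)⁻¹ * qi)⁻¹
        = (om P h2)⁻¹ * (qi * -qk P * (qi : SL2)⁻¹) * om P h2 := by group
      _ = qi := by
        rw [h1, ← om_conj_qi P h2]
        group

end Cfsg.Agent.H9.PSp4F
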