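import Cfsg.Agent.H9.PSp4Fl

/-!
# The normalizer of the quaternion group `Q₈` in `SL₂(F)`, `2` a nonsquare
-/

set_option autoImplicit false
set_option linter.unusedSimpArgs false
set_option linter.unusedVariables false
set_option linter.unusedSectionVars false
set_option linter.style.haveILetI false

namespace Cfsg.Agent.H9.PSp4F

open Matrix

variable {F : Type*} [Field F]

local notation "M2" => Matrix (Fin 2) (Fin 2) F
local notation "SL2" => Matrix.SpecialLinearGroup (Fin 2) F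

variable (P : QPar F) (h2 : (2 : F) ≠ 0)

theorem negOne_mem_NN : (-1 : SL2) ∈ NN P h2 := by
  rw [← qi_mul_qi]
  exact Subgroup.mul_mem _ (qi_mem_NN P h2) (qi_mem_NN P h2)

theorem conj_negOne (x : SL2) : x * (-1) * x⁻¹ = -1 := by
  rw [mul_neg, mul_one, neg_mul, mul_inv_cancel]

/-- **the normalizer of `Q₈` is `SL₂(3)`** -/
theorem normalizer_Q8_le [Finite F] (hns : ¬ IsSquare (2 : F)) :
    Subgroup.normalizer ((Q8 P : Subgroup SL2) : Set SL2) ≤ NN P h2 := by
  intro x hx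
  have hxn : ∀ y : SL2, y ∈ Q8 P → x * y * x⁻¹ ∈ Q8 P :=
    fun y hy => (Subgroup.mem_normalizer_iff.mp hx y).mp hy
  have ht : x * qi * x⁻¹ ∈ Q8 P := hxn _ (qi_mem P)
  have htt : (x * qi * x⁻¹) * (x * qi * x⁻¹) = -1 := by
    have : (x * qi * x⁻¹) * (x * qi * x⁻¹) = x * (qi * qi) * x⁻¹ := by group
    rw [this, qi_mul_qi, conj_negOne]
  obtain ⟨n, hn, hnt⟩ := exists_conj_qi P h2 _ ht htt
  have hyi : (n * x) * qi = qi * (n * x) := by
    calc n * x * qi = (n * (x * qi * x⁻¹) * n⁻¹) * (n * x) := by group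
      _ = qi * (n * x) := by rw [hnt]
  have hyN : n * x ∈ Subgroup.normalizer ((Q8 P : Subgroup SL2) : Set SL2) :=
    Subgroup.mul_mem _ (NN_le_normalizer P h2 hn) hx
  have hyn : ∀ y : SL2, y ∈ Q8 P → (n * x) * y * (n * x)⁻¹ ∈ Q8 P :=
    fun y hy => (Subgroup.mem_normalizer_iff.mp hyN y).mp hy
  obtain ⟨t2, ht2⟩ : ∃ t2 : SL2, t2 = (n * x) * qj P * (n * x)⁻¹ := ⟨_, rfl⟩
  have ht2Q : t2 ∈ Q8 P := by rw [ht2]; exact hyn _ (qj_mem P)
  have hyj : (n * x) * qj P = t2 * (n * x) := by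
    rw [ht2, inv_mul_cancel_right]
  have ht2t : t2 * t2 = -1 := by
    have : t2 * t2 = (n * x) * (qj P * qj P) * (n * x)⁻¹ := by rw [ht2]; group
    rw [this, qj_mul_qj, conj_negOne]
  have hanti : t2 * qi = -(qi * t2) := by
    have h1 : t2 * qi = (n * x) * (qj P * qi) * (n * x)⁻¹ := by
      calc t2 * qi = (n * x) * qj P * ((n * x)⁻¹ * (qi * (n * x))) * (n * x)⁻¹ := by
            rw [ht2]; group
        _ = (n * x) * qj P * ((n * x)⁻¹ * ((n * x) * qi)) * (n * x)⁻¹ := by rw [hyi]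
        _ = (n * x) * (qj P * qi) * (n * x)⁻¹ := by group
    have h3 : qi * t2 = (n * x) * (qi * qj P) * (n * x)⁻¹ := by
      calc qi * t2 = (qi * (n * x)) * qj P * (n * x)⁻¹ := by rw [ht2]; group
        _ = ((n * x) * qi) * qj P * (n * x)⁻¹ := by rw [hyi]
        _ = (n * x) * (qi * qj P) * (n * x)⁻¹ := by group
    rw [h1, h3, qj_mul_qi, qi_mul_qj, mul_neg, neg_mul]
  have hxeq : ∀ y : SL2, y ∈ NN P h2 → n * x = y → x ∈ NN P h2 := by
    intro y hy hxy
    have : x = n⁻¹ * y := by rw [← hxy, inv_mul_cancel_left]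
    rw [this]
    exact Subgroup.mul_mem _ (Subgroup.inv_mem _ hn) hy
  rw [mem_Q8] at ht2Q
  rcases ht2Q with h | h | h | h | h | h | h | h
  · exfalso
    rw [h, one_mul] at ht2t
    exact one_ne_negOne h2 ht2t
  · exfalso
    rw [h, negOne_sq] at ht2t
    exact one_ne_negOne h2 ht2t
  · exfalso
    rw [h, qi_mul_qi, neg_neg] at hanti
    exact one_ne_negOne h2 hanti.symm
  · exfalso
    simp only [h, neg_mul, mul_neg, qi_mul_qi, neg_neg] at hanti
    exact one_ne_negOne h2 hanti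
  · rw [h] at hyj
    rcases eq_one_or_of_comm P h2 (n * x) hyi hyj with h1 | h1
    · exact hxeq 1 (Subgroup.one_mem _) h1
    · exact hxeq (-1) (negOne_mem_NN P h2) h1
  · rw [h] at hyj
    have h1 : (qi * (n * x)) * qi = qi * (qi * (n * x)) := by
      rw [mul_assoc, hyi]
    have h3 : (qi * (n * x)) * qj P = qj P * (qi * (n * x)) := by
      calc qi * (n * x) * qj P = qi * (n * x * qj P) := by rw [mul_assoc]
        _ = (qi * -qj P) * (n * x) := by rw [hyj, mul_assoc]
        _ = (qj P * qi) * (n * x) := by rw [mul_neg, qi_mul_qj, qj_mul_qi]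
        _ = qj P * (qi * (n * x)) := by rw [mul_assoc]
    have hx' : ∀ y : SL2, y ∈ NN P h2 → qi * (n * x) = y → x ∈ NN P h2 := by
      intro y hy hxy
      apply hxeq ((qi : SL2)⁻¹ * y) (Subgroup.mul_mem _ (Subgroup.inv_mem _ (qi_mem_NN P h2)) hy)
      rw [← hxy, inv_mul_cancel_left]
    rcases eq_one_or_of_comm P h2 (qi * (n * x)) h1 h3 with h4 | h4
    · exact hx' 1 (Subgroup.one_mem _) h4
    · exact hx' (-1) (negOne_mem_NN P h2) h4
  · exfalso
    rw [h] at hyj
    exact hns (isSquare_two_of_conj P h2 (n * x) hyi hyj)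
  · exfalso
    rw [h] at hyj
    have h1 : (qi * (n * x)) * qi = qi * (qi * (n * x)) := by
      rw [mul_assoc, hyi]
    have h3 : (qi * (n * x)) * qj P = qk P * (qi * (n * x)) := by
      calc qi * (n * x) * qj P = qi * (n * x * qj P) := by rw [mul_assoc]
        _ = (qi * -qk P) * (n * x) := by rw [hyj, mul_assoc]
        _ = (qk P * qi) * (n * x) := by rw [mul_neg, qi_mul_qk, neg_neg, qk_mul_qi]
        _ = qk P * (qi * (n * x)) := by rw [mul_assoc]
    exact hns (isSquare_two_of_conj P h2 _ h1 h3)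

end Cfsg.Agent.H9.PSp4F
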