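import Cfsg.Agent.H9.PSp4Fm

/-!
# `Sp₄(F)`: the extraspecial group `2^{1+4}_-` inside `Q₈ ≀ 2` and two elements normalizing it
-/

set_option autoImplicit false
set_option linter.unusedSimpArgs false
set_option linter.unusedVariables false
set_option linter.unusedSectionVars false
set_option linter.style.haveILetI false

namespace Cfsg.Agent.H9.PSp4F

open Matrix

variable {F : Type*} [Field F]

local notation "M2" => Matrix (Fin 2) (Fin 2) F
local notation "Sp4" => Sp4G F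
local notation "SL2" => Matrix.SpecialLinearGroup (Fin 2) F

variable (P : QPar F) (h2 : (2 : F) ≠ 0)

/-- the diagonal embedding -/
def dgD : SL2 →* Sp4 where
  toFun y := dg y y
  map_one' := dg_one
  map_mul' a b := by rw [dg_mul]

theorem dgD_apply (y : SL2) : dgD y = dg y y := rfl

theorem dg_same_val (y : SL2) : (dg y y).1 = kr y.1 1 := by
  rw [dg_val, dgM_same]

theorem dgD_mul_tau (y : SL2) : dg y y * tau = tau * dg y y := (tau_mul_dg y y).symm

/-- the extraspecial group -/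
def Et : Subgroup Sp4 := Subgroup.closure {dg qi qi, dg (qj P) (qj P), zz, tau}

theorem a1_mem : dg (qi : SL2) qi ∈ Et P := Subgroup.subset_closure (by simp)
theorem b1_mem : dg (qj P) (qj P) ∈ Et P := Subgroup.subset_closure (by simp)
theorem zz_mem_Et : zz ∈ Et P := Subgroup.subset_closure (by simp)
theorem tau_mem_Et : tau ∈ Et P := Subgroup.subset_closure (by simp)

theorem zc_mem_Et : zc ∈ Et P := by
  have := (Et P).mul_mem (a1_mem P) (a1_mem P)
  rwa [dg_mul, qi_mul_qi] at this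

theorem Et_le_Stil : Et P ≤ Stil (Q8 P) := by
  unfold Et
  rw [Subgroup.closure_le]
  rintro x (rfl | rfl | rfl | rfl)
  · exact dg_mem_Stil (qi_mem P) (qi_mem P)
  · exact dg_mem_Stil (qj_mem P) (qj_mem P)
  · exact dg_mem_Stil (negOne_mem P) (Subgroup.one_mem _)
  · exact tau_mem_Stil _

theorem zc_eq_dg_neg : (zc : Sp4) = dg (-1) (-1) := rfl

theorem neg_dg (x y : SL2) : dg (-x) (-y) = zc * dg x y := by
  rw [zc_mul_dg]

/-! ### the relations -/

theorem b1_mul_a1 : dg (qj P) (qj P) * dg qi qi = zc * dg qi qi * dg (qj P) (qj P) := by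
  rw [dg_mul, mul_assoc, dg_mul, qj_mul_qi, qi_mul_qj, neg_dg]

theorem a1_mul_b1 : dg qi qi * dg (qj P) (qj P) = zc * dg (qj P) (qj P) * dg qi qi := by
  rw [mul_assoc, b1_mul_a1, ← mul_assoc, ← mul_assoc, zc_mul_zc, one_mul]

theorem zz_mul_tau : (zz : Sp4) * tau = zc * tau * zz := by
  rw [mul_assoc, tau_mul_zz, ← mul_assoc, ← mul_assoc, zc_mul_zc, one_mul]

/-- the element `u = (1 + i) ⊗ h/2` -/
def uE : Sp4 := uel h2 mI det_mI

theorem uE_val : (uE h2 : Sp4).1 = kr mI hHalf := rfl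

theorem uE_mul_a1 : uE h2 * dg qi qi = dg qi qi * uE h2 := by
  apply Subtype.ext
  show kr mI hHalf * (dg (qi : SL2) qi).1 = (dg (qi : SL2) qi).1 * kr mI hHalf
  rw [dg_same_val, kr_mul, kr_mul, Matrix.mul_one, Matrix.one_mul]
  show kr (mI * qiM) hHalf = kr (qiM * mI) hHalf
  rw [mI_mul_qiM]

theorem uE_mul_b1 : uE h2 * dg (qj P) (qj P) = dg (qk P) (qk P) * uE h2 := by
  apply Subtype.ext
  show kr mI hHalf * (dg (qj P) (qj P)).1 = (dg (qk P) (qk P)).1 * kr mI hHalf
  rw [dg_same_val, dg_same_val, kr_mul, kr_mul, Matrix.mul_one, Matrix.one_mul]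
  show kr (mI * qjM P.α P.β) hHalf = kr (qkM P.α P.β * mI) hHalf
  rw [mI_mul_qjM]

theorem uE_mul_zz : uE h2 * zz = tau * uE h2 := uel_mul_zz h2 mI det_mI

theorem uE_mul_tau : uE h2 * tau = zc * zz * uE h2 := by
  rw [zc_mul_zz]
  exact uel_mul_tau h2 mI det_mI

/-- the diagonal element of order three -/
def dE : Sp4 := dg (om P h2) (om P h2)

theorem dE_mul_a1 : dE P h2 * dg qi qi = dg (qk P) (qk P) * dE P h2 := by
  unfold dE
  rw [dg_mul, dg_mul, om_mul_qi]

theorem dE_mul_b1 : dE P h2 * dg (qj P) (qj P) = dg qi qi * dE P h2 := by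
  unfold dE
  rw [dg_mul, dg_mul, om_mul_qj]

theorem dE_mul_zz : dE P h2 * zz = zz * dE P h2 := dg_mul_zz _ _

theorem dE_mul_tau : dE P h2 * tau = tau * dE P h2 := dgD_mul_tau _

theorem qk_eq : dg (qk P) (qk P) = dg qi qi * dg (qj P) (qj P) := by
  rw [dg_mul, qi_mul_qj]

theorem qk_mem_Et : dg (qk P) (qk P) ∈ Et P := by
  rw [qk_eq]
  exact (Et P).mul_mem (a1_mem P) (b1_mem P)

/-- conjugation by an element carries `Et` into itself if it does so on the generators -/
theorem mem_normalizer_Et [Finite F] (g : Sp4) (h1 : g * dg qi qi * g⁻¹ ∈ Et P)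
    (h3 : g * dg (qj P) (qj P) * g⁻¹ ∈ Et P) (h4 : g * zz * g⁻¹ ∈ Et P)
    (h5 : g * tau * g⁻¹ ∈ Et P) : g ∈ Subgroup.normalizer ((Et P : Subgroup Sp4) : Set Sp4) := by
  apply Subgroup.mem_normalizer_fintype
  have hle : Et P ≤ (Et P).comap (MulAut.conj g).toMonoidHom := by
    conv_lhs => unfold Et
    rw [Subgroup.closure_le]
    rintro x (rfl | rfl | rfl | rfl)
    · exact h1
    · exact h3
    · exact h4
    · exact h5
  intro y hy
  exact hle hy

theorem uE_mem_normalizer [Finite F] :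
    uE h2 ∈ Subgroup.normalizer ((Et P : Subgroup Sp4) : Set Sp4) := by
  apply mem_normalizer_Et
  · rw [uE_mul_a1, mul_inv_cancel_right]; exact a1_mem P
  · rw [uE_mul_b1, mul_inv_cancel_right]; exact qk_mem_Et P
  · rw [uE_mul_zz, mul_inv_cancel_right]; exact tau_mem_Et P
  · rw [uE_mul_tau, mul_inv_cancel_right]
    exact (Et P).mul_mem (zc_mem_Et P) (zz_mem_Et P)

theorem dE_mem_normalizer [Finite F] :
    dE P h2 ∈ Subgroup.normalizer ((Et P : Subgroup Sp4) : Set Sp4) := by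
  apply mem_normalizer_Et
  · rw [dE_mul_a1, mul_inv_cancel_right]; exact qk_mem_Et P
  · rw [dE_mul_b1, mul_inv_cancel_right]; exact a1_mem P
  · rw [dE_mul_zz, mul_inv_cancel_right]; exact zz_mem_Et P
  · rw [dE_mul_tau, mul_inv_cancel_right]; exact tau_mem_Et P

/-- `u` inverts `d` modulo `Et` -/
theorem uE_mul_dE : uE h2 * dE P h2 = (dE P h2)⁻¹ * dg (-qk P) (-qk P) * uE h2 := by
  unfold dE
  rw [dg_inv, dg_mul, om_inv]
  apply Subtype.ext
  show kr mI hHalf * (dg (om P h2) (om P h2)).1 =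
    (dg (omb P h2 * -qk P) (omb P h2 * -qk P)).1 * kr mI hHalf
  rw [dg_same_val, dg_same_val, kr_mul, kr_mul, Matrix.mul_one, Matrix.one_mul]
  show kr (mI * ((2 : F)⁻¹ • wM P.α P.β)) hHalf =
    kr (((2 : F)⁻¹ • wbM P.α P.β) * (-qkM P.α P.β) * mI) hHalf
  rw [mul_smul_comm, mI_mul_wM _ _ P.hab, smul_mul_assoc, smul_mul_assoc]

theorem negqk_mem_Et : dg (-qk P) (-qk P) ∈ Et P := by
  rw [neg_dg]
  exact (Et P).mul_mem (zc_mem_Et P) (qk_mem_Et P)

theorem mI_mul_mI : (mI : M2) * mI = (2 : F) • qiM := by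
  apply m2_ext <;> rw [Matrix.mul_apply, Fin.sum_univ_two] <;> simp [qiM, mI] <;> norm_num

include h2 in
theorem hHalf_mul_hHalf : (hHalf : M2) * hHalf = (2 : F)⁻¹ • qiM := by
  have ht : (2 : F) * 2⁻¹ = 1 := mul_inv_cancel₀ h2
  unfold hHalf
  generalize (2 : F)⁻¹ = t at *
  apply m2_ext <;> rw [Matrix.mul_apply, Fin.sum_univ_two] <;> simp [qiM]
  · linear_combination t * ht
  · linear_combination (-t) * ht

/-- the fourth power of `u` -/
theorem uE_pow_four : uE h2 ^ 4 = 1 := by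
  have h1 : (uE h2 * uE h2 : Sp4).1 = kr qiM qiM := by
    show kr mI hHalf * kr mI hHalf = kr qiM qiM
    rw [kr_mul, mI_mul_mI, hHalf_mul_hHalf h2, kr_smul_left, kr_smul_right, smul_smul,
      mul_inv_cancel₀ h2, one_smul]
  have h3 : uE h2 ^ 4 = (uE h2 * uE h2) * (uE h2 * uE h2) := by
    rw [pow_succ, pow_succ, pow_succ, pow_one]
    simp only [mul_assoc]
  rw [h3]
  apply Subtype.ext
  show (uE h2 * uE h2 : Sp4).1 * (uE h2 * uE h2 : Sp4).1 = 1
  rw [h1, kr_mul, qiM_mul_qiM, kr_neg_left, kr_neg_right, neg_neg, kr_one]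

end Cfsg.Agent.H9.PSp4F
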