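import Cfsg.Agent.H9.PSp4Fn

/-!
# `Sp₄(F)`: the extraspecial group `2^{1+4}_-` is self-centralizing modulo the centre
-/

set_option autoImplicit false
set_option linter.unusedSimpArgs false
set_option linter.unusedVariables false
set_option linter.unusedSectionVars false
set_option linter.style.haveILetI false

namespace Cfsg.Agent.H9.PSp4F

open Matrix

variable {F : Type*} [Field F]

local notation "M2" => Matrix (Fin 2) (Fin 2) F
local notation "Sp4" => Sp4G F
local notation "SL2" => Matrix.SpecialLinearGroup (Fin 2) F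

/-- `y` commutes with `e` modulo the centre -/
def CM (y e : Sp4) : Prop := y * e = e * y ∨ y * e = zc * e * y

theorem comm_mul_right {y e f : Sp4} (h : y * e = e * y) (hf : f * e = e * f) :
    (y * f) * e = e * (y * f) := by
  rw [mul_assoc, hf, ← mul_assoc, h, mul_assoc]

theorem anti_mul_right {y e f : Sp4} (h : y * e = zc * e * y) (hf : f * e = e * f) :
    (y * f) * e = zc * e * (y * f) := by
  rw [mul_assoc, hf, ← mul_assoc, h, mul_assoc]

theorem fix_mul_right {y e f : Sp4} (h : y * e = zc * e * y) (hf : f * e = zc * e * f) :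
    (y * f) * e = e * (y * f) := by
  calc y * f * e = y * (zc * e * f) := by rw [mul_assoc, hf]
    _ = (y * zc) * (e * f) := by simp only [mul_assoc]
    _ = zc * (y * e) * f := by rw [← zc_mul y]; simp only [mul_assoc]
    _ = (zc * zc) * e * (y * f) := by rw [h]; simp only [mul_assoc]
    _ = e * (y * f) := by rw [zc_mul_zc, one_mul]

theorem cm_mul_right {y e f : Sp4} (h : CM y e) (hf : f * e = e * f) : CM (y * f) e := by
  rcases h with h | h
  · exact Or.inl (comm_mul_right h hf)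
  · exact Or.inr (anti_mul_right h hf)

theorem adjust (y g f : Sp4) (hfg : f * g = zc * g * f) (h : CM y g) :
    ∃ e, (e = 1 ∨ e = f) ∧ (y * e) * g = g * (y * e) := by
  rcases h with h | h
  · exact ⟨1, Or.inl rfl, by rw [mul_one]; exact h⟩
  · exact ⟨f, Or.inr rfl, fix_mul_right h hfg⟩

theorem cm_of {y k e f : Sp4} (h : CM y k) (he : e = 1 ∨ e = f) (hfk : f * k = k * f) :
    CM (y * e) k := by
  rcases he with rfl | rfl
  · rwa [mul_one]
  · exact cm_mul_right h hfk

theorem comm_of {y k e f : Sp4} (h : y * k = k * y) (he : e = 1 ∨ e = f) (hfk : f * k = k * f) :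
    (y * e) * k = k * (y * e) := by
  rcases he with rfl | rfl
  · rwa [mul_one]
  · exact comm_mul_right h hfk

variable (P : QPar F) (h2 : (2 : F) ≠ 0)

include h2 in
/-- an element commuting with the four generators is central -/
theorem eq_one_or_zc_of_comm (y : Sp4) (h1 : y * dg qi qi = dg qi qi * y)
    (h3 : y * dg (qj P) (qj P) = dg (qj P) (qj P) * y) (h4 : y * zz = zz * y)
    (h5 : y * tau = tau * y) : y = 1 ∨ y = zc := by
  obtain ⟨x1, x2, rfl⟩ := exists_dg_of_comm h2 y h4
  rw [tau_mul_dg] at h5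
  obtain ⟨h6, -⟩ := dg_injective (mul_right_cancel h5)
  subst h6
  rw [dg_mul, dg_mul] at h1 h3
  rcases eq_one_or_of_comm P h2 x1 (dg_injective h1).1 (dg_injective h3).1 with h | h
  · left
    rw [h, dg_one]
  · right
    rw [h]
    rfl

include h2 in
/-- **the extraspecial group contains its centralizer modulo the centre** -/
theorem mem_Et_of_cm (y : Sp4) (h1 : CM y (dg qi qi)) (h3 : CM y (dg (qj P) (qj P)))
    (h4 : CM y zz) (h5 : CM y tau) : y ∈ Et P := by
  have ca1b1 := a1_mul_b1 P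
  have cb1a1 := b1_mul_a1 P
  have ca1zz : dg (qi : SL2) qi * zz = zz * dg qi qi := dg_mul_zz _ _
  have cb1zz : dg (qj P) (qj P) * zz = zz * dg (qj P) (qj P) := dg_mul_zz _ _
  have ca1tau : dg (qi : SL2) qi * tau = tau * dg qi qi := dgD_mul_tau _
  have cb1tau : dg (qj P) (qj P) * tau = tau * dg (qj P) (qj P) := dgD_mul_tau _
  obtain ⟨e1, he1, hy1⟩ := adjust y _ _ cb1a1 h1
  have h3' := cm_of h3 he1 rfl
  have h4' := cm_of h4 he1 cb1zz
  have h5' := cm_of h5 he1 cb1tau
  obtain ⟨e2, he2, hy2⟩ := adjust (y * e1) _ _ ca1b1 h3'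
  have hy1' := comm_of hy1 he2 rfl
  have h4'' := cm_of h4' he2 ca1zz
  have h5'' := cm_of h5' he2 ca1tau
  obtain ⟨e3, he3, hy3⟩ := adjust (y * e1 * e2) _ _ tau_mul_zz h4''
  have hy1'' := comm_of hy1' he3 ca1tau.symm
  have hy2' := comm_of hy2 he3 cb1tau.symm
  have h5''' := cm_of h5'' he3 rfl
  obtain ⟨e4, he4, hy4⟩ := adjust (y * e1 * e2 * e3) _ _ zz_mul_tau h5'''
  have hy1''' := comm_of hy1'' he4 ca1zz.symm
  have hy2'' := comm_of hy2' he4 cb1zz.symm
  have hy3' := comm_of hy3 he4 rfl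
  have hfin := eq_one_or_zc_of_comm P h2 _ hy1''' hy2'' hy3' hy4
  have hmem : ∀ e f : Sp4, f ∈ Et P → (e = 1 ∨ e = f) → e ∈ Et P := by
    rintro e f hf (rfl | rfl)
    · exact Subgroup.one_mem _
    · exact hf
  have he1m := hmem e1 _ (b1_mem P) he1
  have he2m := hmem e2 _ (a1_mem P) he2
  have he3m := hmem e3 _ (tau_mem_Et P) he3
  have he4m := hmem e4 _ (zz_mem_Et P) he4
  have hy : y = (y * e1 * e2 * e3 * e4) * (e4⁻¹ * e3⁻¹ * e2⁻¹ * e1⁻¹) := by group
  rw [hy]
  apply Subgroup.mul_mem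
  · rcases hfin with h | h
    · rw [h]; exact Subgroup.one_mem _
    · rw [h]; exact zc_mem_Et P
  · exact Subgroup.mul_mem _ (Subgroup.mul_mem _ (Subgroup.mul_mem _ (Subgroup.inv_mem _ he4m)
      (Subgroup.inv_mem _ he3m)) (Subgroup.inv_mem _ he2m)) (Subgroup.inv_mem _ he1m)

/-- the cube of the element of order three is central -/
theorem om_cube : om P h2 * om P h2 * om P h2 = 1 ∨ om P h2 * om P h2 * om P h2 = -1 := by
  apply eq_one_or_of_comm P h2
  · calc om P h2 * om P h2 * om P h2 * qi = om P h2 * om P h2 * (om P h2 * qi) := by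
          simp only [mul_assoc]
      _ = om P h2 * (om P h2 * qk P) * om P h2 := by rw [om_mul_qi]; simp only [mul_assoc]
      _ = (om P h2 * qj P) * om P h2 * om P h2 := by rw [om_mul_qk]; simp only [mul_assoc]
      _ = qi * (om P h2 * om P h2 * om P h2) := by rw [om_mul_qj]; simp only [mul_assoc]
  · calc om P h2 * om P h2 * om P h2 * qj P = om P h2 * om P h2 * (om P h2 * qj P) := by
          simp only [mul_assoc]
      _ = om P h2 * (om P h2 * qi) * om P h2 := by rw [om_mul_qj]; simp only [mul_assoc]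
      _ = (om P h2 * qk P) * om P h2 * om P h2 := by rw [om_mul_qi]; simp only [mul_assoc]
      _ = qj P * (om P h2 * om P h2 * om P h2) := by rw [om_mul_qk]; simp only [mul_assoc]

theorem dE_cube : dE P h2 * dE P h2 * dE P h2 = 1 ∨ dE P h2 * dE P h2 * dE P h2 = zc := by
  unfold dE
  rw [dg_mul, dg_mul]
  rcases om_cube P h2 with h | h
  · left; rw [h, dg_one]
  · right; rw [h]; rfl

/-- the diagonal element normalizes `Q₈ ≀ 2` -/
theorem dE_mem_normalizer_Stil [Finite F] :
    dE P h2 ∈ Subgroup.normalizer ((Stil (Q8 P) : Subgroup Sp4) : Set Sp4) := by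
  apply Subgroup.mem_normalizer_fintype
  have h1 : ∀ u v : SL2, u ∈ Q8 P → v ∈ Q8 P → dE P h2 * dg u v * (dE P h2)⁻¹ ∈ Stil (Q8 P) := by
    intro u v hu hv
    unfold dE
    rw [dg_inv, dg_mul, dg_mul]
    exact dg_mem_Stil (om_conj_mem P h2 u hu) (om_conj_mem P h2 v hv)
  rintro s ⟨u, hu, v, hv, rfl | rfl⟩
  · exact h1 u v hu hv
  · have : dE P h2 * (dg u v * tau) * (dE P h2)⁻¹ = (dE P h2 * dg u v * (dE P h2)⁻¹) * tau := by
      have h3 : tau * (dE P h2)⁻¹ = (dE P h2)⁻¹ * tau := by
        rw [eq_inv_mul_iff_mul_eq, ← mul_assoc, dE_mul_tau, mul_assoc, mul_inv_cancel, mul_one]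
      rw [mul_assoc, mul_assoc, h3]
      simp only [mul_assoc]
    rw [SetLike.mem_coe, this]
    exact (Stil (Q8 P)).mul_mem (h1 u v hu hv) (tau_mem_Stil _)

end Cfsg.Agent.H9.PSp4F
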