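import Cfsg.Agent.H9.PSp4Fo
import Cfsg.Agent.H9.PSp4Fh

/-!
# `PSp₄(F)`, `|F| ≡ ±3 (mod 8)`: the certificate
-/

set_option autoImplicit false
set_option linter.unusedSimpArgs false
set_option linter.unusedVariables false
set_option linter.unusedSectionVars false
set_option linter.style.haveILetI false

namespace Cfsg.Agent.H9.PSp4F

open Matrix Cfsg Cfsg.Agent.H9.GfsSimple3

theorem grp_aux {G : Type*} [Group G] (d u e : G) (h : u * d = d⁻¹ * e * u) :
    d = (d * d * d) * ((d⁻¹ * u * d) * u⁻¹ * e⁻¹) := by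
  have he : e = d * u * d * u⁻¹ := by
    calc e = d * (d⁻¹ * e * u) * u⁻¹ := by group
      _ = d * (u * d) * u⁻¹ := by rw [h]
      _ = d * u * d * u⁻¹ := by group
  subst he
  group

theorem orderOf_eq_two_pow_of_pow_four {G : Type*} [Group G] (g : G) (h : g ^ 4 = 1) :
    ∃ k : ℕ, orderOf g = 2 ^ k := by
  have h1 : orderOf g ∣ 2 ^ 2 := orderOf_dvd_of_pow_eq_one (by norm_num; exact h)
  obtain ⟨j, -, hj⟩ := (Nat.dvd_prime_pow Nat.prime_two).mp h1
  exact ⟨j, hj⟩

variable {F : Type*} [Field F] [Fintype F]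

local notation "M2" => Matrix (Fin 2) (Fin 2) F
local notation "Sp4" => Sp4G F
local notation "SL2" => Matrix.SpecialLinearGroup (Fin 2) F

/-- the `2`-part of the order of `SL₂(F)` for `|F| ≡ ±3 (mod 8)` -/
theorem v2_card_SL2 (h8 : Fintype.card F % 8 = 3 ∨ Fintype.card F % 8 = 5) :
    (Nat.card SL2).factorization 2 = 3 := by
  rw [Cfsg.Agent.S2250.card_SL2]
  obtain ⟨q, hq⟩ : ∃ q, q = Fintype.card F := ⟨_, rfl⟩
  rw [← hq] at h8 ⊢
  have hq1 : 1 ≤ q ^ 2 := Nat.one_le_pow _ _ (by omega)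
  obtain ⟨m, hm, hmodd⟩ : ∃ m, q * (q ^ 2 - 1) = 2 ^ 3 * m ∧ ¬ 2 ∣ m := by
    rcases h8 with h | h
    · obtain ⟨k, hk⟩ : ∃ k, q = 8 * k + 3 := ⟨q / 8, by omega⟩
      refine ⟨q * (8 * k ^ 2 + 6 * k + 1), ?_, ?_⟩
      · have : q ^ 2 - 1 = 8 * (8 * k ^ 2 + 6 * k + 1) := by
          rw [hk]
          have : (8 * k + 3) ^ 2 = 8 * (8 * k ^ 2 + 6 * k + 1) + 1 := by ring
          omega
        rw [this]
        ring
      · rw [Nat.Prime.dvd_mul Nat.prime_two]
        rintro (h' | h')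
        · omega
        · have : 8 * k ^ 2 + 6 * k + 1 = 2 * (4 * k ^ 2 + 3 * k) + 1 := by ring
          omega
    · obtain ⟨k, hk⟩ : ∃ k, q = 8 * k + 5 := ⟨q / 8, by omega⟩
      refine ⟨q * (8 * k ^ 2 + 10 * k + 3), ?_, ?_⟩
      · have : q ^ 2 - 1 = 8 * (8 * k ^ 2 + 10 * k + 3) := by
          rw [hk]
          have : (8 * k + 5) ^ 2 = 8 * (8 * k ^ 2 + 10 * k + 3) + 1 := by ring
          omega
        rw [this]
        ring
      · rw [Nat.Prime.dvd_mul Nat.prime_two]
        rintro (h' | h')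
        · omega
        · have : 8 * k ^ 2 + 10 * k + 3 = 2 * (4 * k ^ 2 + 5 * k + 1) + 1 := by ring
          omega
  rw [hm]
  have hm0 : m ≠ 0 := by
    rintro rfl
    exact hmodd (dvd_zero _)
  rw [Nat.factorization_mul (by norm_num) hm0, Nat.factorization_pow, Finsupp.add_apply,
    Finsupp.smul_apply, Nat.Prime.factorization_self Nat.prime_two,
    Nat.factorization_eq_zero_of_not_dvd hmodd]
  rfl

/-- parameters for the quaternion group exist -/
theorem exists_qpar : Nonempty (QPar F) := by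
  obtain ⟨p, hp⟩ := CharP.exists F
  haveI := hp
  haveI : Fact p.Prime := ⟨CharP.char_is_prime F p⟩
  obtain ⟨a, b, hab⟩ := CharP.sq_add_sq F p (-1)
  exact ⟨⟨a, b, by simpa using hab⟩⟩

variable (P : QPar F) (h2 : (2 : F) ≠ 0)

include h2 in
/-- the image of the extraspecial group is centric -/
theorem centricIn_Et (hpS0 : IsPGroup 2 ((Stil (Q8 P)).map (prj (F := F)))) :
    CentricIn ((Stil (Q8 P)).map (prj (F := F))) ((Et P).map prj) := by
  apply centricIn_of_commute' 2 _ _ hpS0 (Subgroup.map_mono (Et_le_Stil P))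
  intro z k _ hz
  obtain ⟨y, rfl⟩ := prj_surjective z
  have hcm : ∀ e ∈ Et P, CM y e := by
    intro e he
    have := hz (prj e) (Subgroup.mem_map_of_mem _ he)
    rw [← map_mul, ← map_mul, prj_eq_iff] at this
    rcases this with h | h
    · exact Or.inl h
    · exact Or.inr (by rw [h, mul_assoc])
  exact Subgroup.mem_map_of_mem _ (mem_Et_of_cm P h2 y (hcm _ (a1_mem P)) (hcm _ (b1_mem P))
    (hcm _ (zz_mem_Et P)) (hcm _ (tau_mem_Et P)))

/-- the diagonal element of order three lies in the subgroup generated by the `2`-elements of the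
normalizer of the image of the extraspecial group -/
theorem prj_dE_mem_pNormGen (hpS0 : IsPGroup 2 ((Stil (Q8 P)).map (prj (F := F)))) :
    prj (dE P h2) ∈ pNormGen 2 ((Et P).map (prj (F := F))) := by
  have hN : ∀ g : Sp4, g ∈ Subgroup.normalizer ((Et P : Subgroup Sp4) : Set Sp4) →
      prj g ∈ Subgroup.normalizer (((Et P).map (prj (F := F)) : Subgroup (Cfsg.PSp 2 F)) :
        Set (Cfsg.PSp 2 F)) := by
    intro g hg
    exact Subgroup.le_normalizer_map _ (Subgroup.mem_map_of_mem _ hg)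
  have hu := uE_mem_normalizer P h2
  have hd := dE_mem_normalizer P h2
  -- the three factors
  have m1 : prj ((dE P h2)⁻¹ * uE h2 * dE P h2) ∈ pNormGen 2 ((Et P).map (prj (F := F))) := by
    apply Subgroup.subset_closure
    refine ⟨hN _ (Subgroup.mul_mem _ (Subgroup.mul_mem _ (Subgroup.inv_mem _ hd) hu) hd), ?_⟩
    apply orderOf_eq_two_pow_of_pow_four
    rw [← map_pow]
    have : ((dE P h2)⁻¹ * uE h2 * dE P h2) ^ 4 = (dE P h2)⁻¹ * uE h2 ^ 4 * dE P h2 := by
      have := conj_pow (a := (dE P h2)⁻¹) (b := uE h2) (i := 4)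
      rw [inv_inv] at this
      exact this
    rw [this, uE_pow_four, mul_one, inv_mul_cancel, map_one]
  have m2 : (prj (uE h2))⁻¹ ∈ pNormGen 2 ((Et P).map (prj (F := F))) := by
    apply Subgroup.inv_mem
    apply Subgroup.subset_closure
    refine ⟨hN _ hu, ?_⟩
    apply orderOf_eq_two_pow_of_pow_four
    rw [← map_pow, uE_pow_four, map_one]
  have m3 : (prj (dg (-qk P) (-qk P)))⁻¹ ∈ pNormGen 2 ((Et P).map (prj (F := F))) := by
    apply Subgroup.inv_mem
    apply Subgroup.subset_closure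
    refine ⟨hN _ (Subgroup.le_normalizer (negqk_mem_Et P)), ?_⟩
    apply orderOf_eq_two_pow_of_pow_four
    rw [← map_pow]
    have : dg (-qk P) (-qk P) ^ 4 = 1 := by
      have h3 : dg (-qk P) (-qk P) ^ 4 =
          (dg (-qk P) (-qk P) * dg (-qk P) (-qk P)) * (dg (-qk P) (-qk P) * dg (-qk P) (-qk P)) := by
        rw [pow_succ, pow_succ, pow_succ, pow_one]
        simp only [mul_assoc]
      rw [h3, dg_mul, dg_mul, neg_mul_neg, qk_mul_qk, negOne_sq, dg_one]
    rw [this, map_one]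
  have key := grp_aux (dE P h2) (uE h2) (dg (-qk P) (-qk P)) (uE_mul_dE P h2)
  have hcube : prj (dE P h2 * dE P h2 * dE P h2) = 1 := by
    rw [prj_eq_one_iff]
    exact dE_cube P h2
  rw [key, map_mul, hcube, one_mul, map_mul, map_mul, map_inv, map_inv]
  exact Subgroup.mul_mem _ (Subgroup.mul_mem _ m1 m2) m3

/-- **the certificate for `|F| ≡ ±3 (mod 8)`** -/
theorem exists_cert2_three (hodd : Fintype.card F % 2 = 1)
    (h8 : Fintype.card F % 8 = 3 ∨ Fintype.card F % 8 = 5) :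
    ∃ S0 : Subgroup (Cfsg.PSp 2 F), Cert2 2 S0 := by
  have h2 : (2 : F) ≠ 0 := Cfsg.Agent.Lib.Helper8.SL2Odd.two_ne_zero' (Nat.odd_iff.mpr hodd)
  have hns : ¬ IsSquare (2 : F) := by
    rw [FiniteField.isSquare_two_iff]
    omega
  obtain ⟨P⟩ := exists_qpar (F := F)
  have hcardQ : Nat.card (Q8 P) = 2 ^ (Nat.card SL2).factorization 2 := by
    rw [card_Q8 P h2, v2_card_SL2 h8]
    norm_num
  have hQ := qhyp_Q8 P h2
  have hpS0 : IsPGroup 2 ((Stil (Q8 P)).map (prj (F := F))) :=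
    (isPGroup_Stil hodd _ hcardQ).map prj
  refine ⟨_, cert2_of_Q hodd hQ hcardQ ?_⟩
  intro b hb
  have hbN := normalizer_Q8_le P h2 hns hb
  have hle : NN P h2 ≤ (genSub 2 ((Stil (Q8 P)).map (prj (F := F)))).comap
      ((prj (F := F)).comp dgD) := by
    unfold NN
    rw [Subgroup.closure_le]
    rintro x (rfl | rfl | rfl)
    · exact le_genSub_self 2 _ hpS0
        (Subgroup.mem_map_of_mem _ (dg_mem_Stil (qi_mem P) (qi_mem P)))
    · exact le_genSub_self 2 _ hpS0
        (Subgroup.mem_map_of_mem _ (dg_mem_Stil (qj_mem P) (qj_mem P)))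
    · apply Subgroup.subset_closure
      refine ⟨?_, (Et P).map prj, centricIn_Et P h2 hpS0, prj_dE_mem_pNormGen P h2 hpS0⟩
      exact Subgroup.le_normalizer_map _
        (Subgroup.mem_map_of_mem _ (dE_mem_normalizer_Stil P h2))
  exact hle hbN

end Cfsg.Agent.H9.PSp4F
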