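import Mathlib
import Cfsg.Prelude.Def_GeometricClasses

set_option autoImplicit false
set_option linter.style.haveILetI false
set_option linter.unusedSectionVars false

/-! The standard group `4 ∘ 2^{1+4}` (two-qubit Pauli group with scalars of order four) inside
`GL₄(F)`: definitions and basic relations. Index convention: `k = 2 s₁ + s₂`. -/

namespace Cfsg.Agent.H9.Pauli4

open Matrix

section defs

variable {F : Type*} [Field F]

/-- `X ⊗ 1`: swaps `0 ↔ 2`, `1 ↔ 3` -/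
def X1m : Matrix (Fin 4) (Fin 4) F := !![0, 0, 1, 0; 0, 0, 0, 1; 1, 0, 0, 0; 0, 1, 0, 0]

/-- `1 ⊗ X`: swaps `0 ↔ 1`, `2 ↔ 3` -/
def X2m : Matrix (Fin 4) (Fin 4) F := !![0, 1, 0, 0; 1, 0, 0, 0; 0, 0, 0, 1; 0, 0, 1, 0]

theorem X1m_sq : (X1m : Matrix (Fin 4) (Fin 4) F) * X1m = 1 := by
  ext i j
  fin_cases i <;> fin_cases j <;> simp [X1m, Matrix.mul_apply, Fin.sum_univ_four]

theorem X2m_sq : (X2m : Matrix (Fin 4) (Fin 4) F) * X2m = 1 := by
  ext i j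
  fin_cases i <;> fin_cases j <;> simp [X2m, Matrix.mul_apply, Fin.sum_univ_four]

/-- `X ⊗ 1` as an element of `GL₄` -/
def X1g : GL (Fin 4) F := ⟨X1m, X1m, X1m_sq, X1m_sq⟩

/-- `1 ⊗ X` as an element of `GL₄` -/
def X2g : GL (Fin 4) F := ⟨X2m, X2m, X2m_sq, X2m_sq⟩

/-- invertible diagonal matrices -/
def dg4 (d : Fin 4 → F) (hd : ∀ i, d i ≠ 0) : GL (Fin 4) F :=
  ⟨Matrix.diagonal d, Matrix.diagonal (fun i => (d i)⁻¹),
    by rw [Matrix.diagonal_mul_diagonal, ← Matrix.diagonal_one]; congr 1; funext i; exact mul_inv_cancel₀ (hd i),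
    by rw [Matrix.diagonal_mul_diagonal, ← Matrix.diagonal_one]; congr 1; funext i; exact inv_mul_cancel₀ (hd i)⟩

@[simp] theorem dg4_val (d : Fin 4 → F) (hd : ∀ i, d i ≠ 0) :
    ((dg4 d hd : GL (Fin 4) F) : Matrix (Fin 4) (Fin 4) F) = Matrix.diagonal d := rfl

@[simp] theorem X1g_val : ((X1g : GL (Fin 4) F) : Matrix (Fin 4) (Fin 4) F) = X1m := rfl

@[simp] theorem X2g_val : ((X2g : GL (Fin 4) F) : Matrix (Fin 4) (Fin 4) F) = X2m := rfl

/-- sign patterns of `Z ⊗ 1` and `1 ⊗ Z` -/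
def z1d : Fin 4 → F := ![1, 1, -1, -1]

def z2d : Fin 4 → F := ![1, -1, 1, -1]

theorem z1d_ne_zero : ∀ i, (z1d : Fin 4 → F) i ≠ 0 := by
  intro i
  fin_cases i <;> simp [z1d]

theorem z2d_ne_zero : ∀ i, (z2d : Fin 4 → F) i ≠ 0 := by
  intro i
  fin_cases i <;> simp [z2d]

/-- `Z ⊗ 1` -/
def Z1g : GL (Fin 4) F := dg4 z1d z1d_ne_zero

/-- `1 ⊗ Z` -/
def Z2g : GL (Fin 4) F := dg4 z2d z2d_ne_zero

/-- scalar matrices -/
def sc4 (c : F) (hc : c ≠ 0) : GL (Fin 4) F := dg4 (fun _ => c) (fun _ => hc)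

/-- the standard group `4 ∘ 2^{1+4}` -/
def Pstd (i : F) (hi : i ≠ 0) : Subgroup (GL (Fin 4) F) :=
  Subgroup.closure {sc4 i hi, X1g, Z1g, X2g, Z2g}

end defs

end Cfsg.Agent.H9.Pauli4
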