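import Mathlib
import Cfsg.Agent.H9.Pauli4A

set_option autoImplicit false
set_option linter.style.haveILetI false
set_option linter.unusedSectionVars false

/-! Relations in the standard group `4 ∘ 2^{1+4}`; commutation up to sign; the commutant. -/

namespace Cfsg.Agent.H9.Pauli4

open Matrix

section rel

variable {F : Type*} [Field F]

theorem X1m_mul_diag (d : Fin 4 → F) :
    (X1m : Matrix (Fin 4) (Fin 4) F) * Matrix.diagonal d
      = Matrix.diagonal ![d 2, d 3, d 0, d 1] * X1m := by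
  ext i j
  rw [Matrix.diagonal_mul, Matrix.mul_diagonal]
  fin_cases i <;> fin_cases j <;> simp [X1m]

theorem X2m_mul_diag (d : Fin 4 → F) :
    (X2m : Matrix (Fin 4) (Fin 4) F) * Matrix.diagonal d
      = Matrix.diagonal ![d 1, d 0, d 3, d 2] * X2m := by
  ext i j
  rw [Matrix.diagonal_mul, Matrix.mul_diagonal]
  fin_cases i <;> fin_cases j <;> simp [X2m]

theorem X1m_X2m : (X1m : Matrix (Fin 4) (Fin 4) F) * X2m = X2m * X1m := by
  ext i j
  fin_cases i <;> fin_cases j <;> simp [X1m, X2m, Matrix.mul_apply, Fin.sum_univ_four]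

theorem dg4_mul (d e : Fin 4 → F) (hd : ∀ i, d i ≠ 0) (he : ∀ i, e i ≠ 0) :
    dg4 d hd * dg4 e he = dg4 (fun i => d i * e i) (fun i => mul_ne_zero (hd i) (he i)) := by
  apply Units.ext
  rw [Units.val_mul, dg4_val, dg4_val, dg4_val, Matrix.diagonal_mul_diagonal]

theorem dg4_congr (d e : Fin 4 → F) (hd : ∀ i, d i ≠ 0) (h : d = e) :
    dg4 d hd = dg4 e (by rw [← h]; exact hd) := by
  subst h; rfl

theorem dg4_inv (d : Fin 4 → F) (hd : ∀ i, d i ≠ 0) :
    (dg4 d hd)⁻¹ = dg4 (fun i => (d i)⁻¹) (fun i => inv_ne_zero (hd i)) := by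
  apply Units.ext
  rfl

theorem dg4_comm (d e : Fin 4 → F) (hd : ∀ i, d i ≠ 0) (he : ∀ i, e i ≠ 0) :
    dg4 d hd * dg4 e he = dg4 e he * dg4 d hd := by
  rw [dg4_mul, dg4_mul]
  apply dg4_congr
  funext i
  exact mul_comm _ _

theorem diagonal_const4 (c : F) :
    Matrix.diagonal (fun _ : Fin 4 => c) = c • (1 : Matrix (Fin 4) (Fin 4) F) := by
  ext i j
  by_cases hij : i = j
  · subst hij; simp
  · simp [hij]

theorem sc4_val (c : F) (hc : c ≠ 0) :
    ((sc4 c hc : GL (Fin 4) F) : Matrix (Fin 4) (Fin 4) F) = c • (1 : Matrix (Fin 4) (Fin 4) F) := by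
  unfold sc4
  rw [dg4_val, diagonal_const4]

/-- scalar matrices are central -/
theorem sc4_comm (c : F) (hc : c ≠ 0) (m : GL (Fin 4) F) : sc4 c hc * m = m * sc4 c hc := by
  apply Units.ext
  rw [Units.val_mul, Units.val_mul, sc4_val, Matrix.smul_mul, Matrix.one_mul, Matrix.mul_smul,
    Matrix.mul_one]

theorem sc4_mul (c e : F) (hc : c ≠ 0) (he : e ≠ 0) :
    sc4 c hc * sc4 e he = sc4 (c * e) (mul_ne_zero hc he) := by
  unfold sc4
  rw [dg4_mul]

theorem sc4_one : sc4 (1 : F) one_ne_zero = 1 := by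
  apply Units.ext
  rw [sc4_val, one_smul]
  rfl

/-- the scalar `-1` -/
def neg4 : GL (Fin 4) F := sc4 (-1) (neg_ne_zero.2 one_ne_zero)

theorem neg4_mul_neg4 : (neg4 : GL (Fin 4) F) * neg4 = 1 := by
  unfold neg4
  rw [sc4_mul]
  have : ((-1 : F) * -1) = 1 := by ring
  rw [← sc4_one]
  apply dg4_congr
  funext _
  exact this

theorem neg4_comm (m : GL (Fin 4) F) : neg4 * m = m * neg4 := sc4_comm _ _ m

theorem X1g_mul_dg4 (d : Fin 4 → F) (hd : ∀ i, d i ≠ 0) :
    X1g * dg4 d hd = dg4 ![d 2, d 3, d 0, d 1] (by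
      intro i; fin_cases i
      · exact hd 2
      · exact hd 3
      · exact hd 0
      · exact hd 1) * X1g := by
  apply Units.ext
  rw [Units.val_mul, Units.val_mul, dg4_val, dg4_val, X1g_val, X1m_mul_diag]

theorem X2g_mul_dg4 (d : Fin 4 → F) (hd : ∀ i, d i ≠ 0) :
    X2g * dg4 d hd = dg4 ![d 1, d 0, d 3, d 2] (by
      intro i; fin_cases i
      · exact hd 1
      · exact hd 0
      · exact hd 3
      · exact hd 2) * X2g := by
  apply Units.ext
  rw [Units.val_mul, Units.val_mul, dg4_val, dg4_val, X2g_val, X2m_mul_diag]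

theorem X1g_X2g : (X1g : GL (Fin 4) F) * X2g = X2g * X1g := by
  apply Units.ext
  rw [Units.val_mul, Units.val_mul, X1g_val, X2g_val, X1m_X2m]

theorem X1g_Z1g : (X1g : GL (Fin 4) F) * Z1g = neg4 * (Z1g * X1g) := by
  unfold Z1g neg4 sc4
  rw [X1g_mul_dg4, ← mul_assoc, dg4_mul]
  congr 1
  apply dg4_congr
  funext i
  fin_cases i <;> simp [z1d]

theorem X1g_Z2g : (X1g : GL (Fin 4) F) * Z2g = Z2g * X1g := by
  unfold Z2g
  rw [X1g_mul_dg4]
  congr 1

theorem X2g_Z1g : (X2g : GL (Fin 4) F) * Z1g = Z1g * X2g := by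
  unfold Z1g
  rw [X2g_mul_dg4]
  congr 1

theorem X2g_Z2g : (X2g : GL (Fin 4) F) * Z2g = neg4 * (Z2g * X2g) := by
  unfold Z2g neg4 sc4
  rw [X2g_mul_dg4, ← mul_assoc, dg4_mul]
  congr 1
  apply dg4_congr
  funext i
  fin_cases i <;> simp [z2d]

theorem Z1g_Z2g : (Z1g : GL (Fin 4) F) * Z2g = Z2g * Z1g := dg4_comm _ _ _ _

end rel

section commutant

variable {F : Type*} [Field F]

/-- a matrix commuting with the four generators is scalar -/
theorem scalar_of_commute_gens (h2 : (2 : F) ≠ 0) (M : Matrix (Fin 4) (Fin 4) F)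
    (h1 : M * X1m = X1m * M) (h2' : M * X2m = X2m * M)
    (h3 : M * Matrix.diagonal z1d = Matrix.diagonal z1d * M)
    (h4 : M * Matrix.diagonal z2d = Matrix.diagonal z2d * M) :
    ∃ c : F, M = c • (1 : Matrix (Fin 4) (Fin 4) F) := by
  have e3 : ∀ i j, M i j * z1d j = z1d i * M i j := by
    intro i j
    have := congrFun (congrFun h3 i) j
    rwa [Matrix.mul_diagonal, Matrix.diagonal_mul] at this
  have e4 : ∀ i j, M i j * z2d j = z2d i * M i j := by
    intro i j
    have := congrFun (congrFun h4 i) j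
    rwa [Matrix.mul_diagonal, Matrix.diagonal_mul] at this
  have hoff : ∀ i j, i ≠ j → M i j = 0 := by
    intro i j hij
    have a := e3 i j
    have b := e4 i j
    fin_cases i <;> fin_cases j <;> simp [z1d, z2d] at a b hij ⊢
    all_goals
      first
      | (apply (mul_right_inj' h2).1; linear_combination a)
      | (apply (mul_right_inj' h2).1; linear_combination -a)
      | (apply (mul_right_inj' h2).1; linear_combination b)
      | (apply (mul_right_inj' h2).1; linear_combination -b)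
  have e1 : ∀ i j : Fin 4, (M * (X1m : Matrix (Fin 4) (Fin 4) F)) i j
      = ((X1m : Matrix (Fin 4) (Fin 4) F) * M) i j := fun i j => by rw [h1]
  have e2 : ∀ i j : Fin 4, (M * (X2m : Matrix (Fin 4) (Fin 4) F)) i j
      = ((X2m : Matrix (Fin 4) (Fin 4) F) * M) i j := fun i j => by rw [h2']
  have d02 : M 0 0 = M 2 2 := by
    have := e1 0 2
    simpa [X1m, Matrix.mul_apply, Fin.sum_univ_four] using this
  have d13 : M 1 1 = M 3 3 := by
    have := e1 1 3
    simpa [X1m, Matrix.mul_apply, Fin.sum_univ_four] using this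
  have d01 : M 0 0 = M 1 1 := by
    have := e2 0 1
    simpa [X2m, Matrix.mul_apply, Fin.sum_univ_four] using this
  refine ⟨M 0 0, ?_⟩
  ext i j
  by_cases hij : i = j
  · subst hij
    rw [Matrix.smul_apply, Matrix.one_apply_eq, smul_eq_mul, mul_one]
    fin_cases i
    · rfl
    · exact d01.symm
    · exact d02.symm
    · exact d13.symm.trans d01.symm
  · rw [hoff i j hij, Matrix.smul_apply, Matrix.one_apply_ne hij, smul_zero]

end commutant

end Cfsg.Agent.H9.Pauli4
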