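import Mathlib
import Cfsg.Agent.H9.Pauli4B

set_option autoImplicit false
set_option linter.style.haveILetI false
set_option linter.unusedSectionVars false

/-! The standard group `4 ∘ 2^{1+4}`: commutators are signs; non-scalar elements have trace
zero. -/

namespace Cfsg.Agent.H9.Pauli4

open Matrix

section sign

variable {F : Type*} [Field F]

/-- the two signs `1`, `-1` as elements of `GL₄` -/
def IsSign (z : GL (Fin 4) F) : Prop := z = 1 ∨ z = neg4

theorem IsSign.comm {z : GL (Fin 4) F} (hz : IsSign z) (m : GL (Fin 4) F) : z * m = m * z := by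
  rcases hz with rfl | rfl
  · rw [one_mul, mul_one]
  · exact neg4_comm m

theorem IsSign.mul {z w : GL (Fin 4) F} (hz : IsSign z) (hw : IsSign w) : IsSign (z * w) := by
  rcases hz with rfl | rfl <;> rcases hw with rfl | rfl
  · left; rw [one_mul]
  · right; rw [one_mul]
  · right; rw [mul_one]
  · left; exact neg4_mul_neg4

theorem IsSign.mul_self {z : GL (Fin 4) F} (hz : IsSign z) : z * z = 1 := by
  rcases hz with rfl | rfl
  · rw [one_mul]
  · exact neg4_mul_neg4

theorem IsSign.inv {z : GL (Fin 4) F} (hz : IsSign z) : z⁻¹ = z :=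
  inv_eq_of_mul_eq_one_left hz.mul_self

theorem isSign_one : IsSign (1 : GL (Fin 4) F) := Or.inl rfl

theorem isSign_neg4 : IsSign (neg4 : GL (Fin 4) F) := Or.inr rfl

/-- commuting up to a sign -/
def PM (a b : GL (Fin 4) F) : Prop := ∃ z : GL (Fin 4) F, IsSign z ∧ a * b = z * (b * a)

theorem PM.symm {a b : GL (Fin 4) F} (h : PM a b) : PM b a := by
  obtain ⟨z, hz, h⟩ := h
  refine ⟨z, hz, ?_⟩
  rw [h, ← mul_assoc, hz.mul_self, one_mul]

theorem PM.mul_left {a a' b : GL (Fin 4) F} (h : PM a b) (h' : PM a' b) : PM (a * a') b := by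
  obtain ⟨z, hz, h⟩ := h
  obtain ⟨z', hz', h'⟩ := h'
  refine ⟨z' * z, hz'.mul hz, ?_⟩
  calc a * a' * b = a * (a' * b) := by group
    _ = a * (z' * (b * a')) := by rw [h']
    _ = z' * (a * b) * a' := by rw [← mul_assoc a z', ← hz'.comm a]; group
    _ = z' * (z * (b * a)) * a' := by rw [h]
    _ = z' * z * (b * (a * a')) := by group

theorem PM.one_left (b : GL (Fin 4) F) : PM 1 b :=
  ⟨1, isSign_one, by rw [one_mul, mul_one, one_mul]⟩

theorem PM.inv_left {a b : GL (Fin 4) F} (h : PM a b) : PM a⁻¹ b := by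
  obtain ⟨z, hz, h⟩ := h
  refine ⟨z, hz, ?_⟩
  -- a * b = z * b * a  ⇒  a⁻¹ * b = z * b * a⁻¹
  have h1 : b = a⁻¹ * (z * (b * a)) := by rw [← h]; group
  have h2 : a⁻¹ * (z * (b * a)) = z * (a⁻¹ * b) * a := by
    rw [← mul_assoc a⁻¹ z, ← hz.comm a⁻¹]; group
  rw [h2] at h1
  calc a⁻¹ * b = z * z * (a⁻¹ * b) := by rw [hz.mul_self, one_mul]
    _ = z * ((z * (a⁻¹ * b) * a) * a⁻¹) := by group
    _ = z * (b * a⁻¹) := by rw [← h1]

theorem PM.mul_right {a b b' : GL (Fin 4) F} (h : PM a b) (h' : PM a b') : PM a (b * b') :=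
  (h.symm.mul_left h'.symm).symm

theorem PM.inv_right {a b : GL (Fin 4) F} (h : PM a b) : PM a b⁻¹ := h.symm.inv_left.symm

theorem PM.one_right (a : GL (Fin 4) F) : PM a 1 := (PM.one_left a).symm

theorem PM.of_comm {a b : GL (Fin 4) F} (h : a * b = b * a) : PM a b :=
  ⟨1, isSign_one, by rw [one_mul]; exact h⟩

theorem PM.refl (a : GL (Fin 4) F) : PM a a := PM.of_comm rfl

theorem PM.sc4_left (c : F) (hc : c ≠ 0) (b : GL (Fin 4) F) : PM (sc4 c hc) b :=
  PM.of_comm (sc4_comm c hc b)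

end sign

section mem

variable {F : Type*} [Field F] (i : F) (hi : i ≠ 0)

theorem sc4_i_mem : sc4 i hi ∈ Pstd i hi := Subgroup.subset_closure (by simp)

theorem X1g_mem : (X1g : GL (Fin 4) F) ∈ Pstd i hi := Subgroup.subset_closure (by simp)

theorem Z1g_mem : (Z1g : GL (Fin 4) F) ∈ Pstd i hi := Subgroup.subset_closure (by simp)

theorem X2g_mem : (X2g : GL (Fin 4) F) ∈ Pstd i hi := Subgroup.subset_closure (by simp)

theorem Z2g_mem : (Z2g : GL (Fin 4) F) ∈ Pstd i hi := Subgroup.subset_closure (by simp)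

theorem neg4_mem (hi2 : i ^ 2 = -1) : (neg4 : GL (Fin 4) F) ∈ Pstd i hi := by
  have : (neg4 : GL (Fin 4) F) = sc4 i hi * sc4 i hi := by
    unfold neg4
    rw [sc4_mul]
    apply dg4_congr
    funext _
    rw [← hi2, pow_two]
  rw [this]
  exact Subgroup.mul_mem _ (sc4_i_mem i hi) (sc4_i_mem i hi)

/-- a generator of the standard group -/
def IsGen (y : GL (Fin 4) F) : Prop := y = X1g ∨ y = Z1g ∨ y = X2g ∨ y = Z2g

theorem IsGen.mem {y : GL (Fin 4) F} (h : IsGen y) : y ∈ Pstd i hi := by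
  rcases h with rfl | rfl | rfl | rfl
  · exact X1g_mem i hi
  · exact Z1g_mem i hi
  · exact X2g_mem i hi
  · exact Z2g_mem i hi

theorem PM_gen_gen {y y' : GL (Fin 4) F} (h : IsGen y) (h' : IsGen y') : PM y y' := by
  rcases h with rfl | rfl | rfl | rfl <;> rcases h' with rfl | rfl | rfl | rfl
  · exact PM.refl _
  · exact ⟨neg4, isSign_neg4, X1g_Z1g⟩
  · exact PM.of_comm X1g_X2g
  · exact PM.of_comm X1g_Z2g
  · exact PM.symm (a := X1g) (b := Z1g) ⟨neg4, isSign_neg4, X1g_Z1g⟩
  · exact PM.refl _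
  · exact PM.of_comm X2g_Z1g.symm
  · exact PM.of_comm Z1g_Z2g
  · exact PM.of_comm X1g_X2g.symm
  · exact PM.of_comm X2g_Z1g
  · exact PM.refl _
  · exact ⟨neg4, isSign_neg4, X2g_Z2g⟩
  · exact PM.of_comm X1g_Z2g.symm
  · exact PM.of_comm Z1g_Z2g.symm
  · exact PM.symm (a := X2g) (b := Z2g) ⟨neg4, isSign_neg4, X2g_Z2g⟩
  · exact PM.refl _

/-- any two elements of the standard group commute up to a sign -/
theorem PM_of_mem {a b : GL (Fin 4) F} (ha : a ∈ Pstd i hi) (hb : b ∈ Pstd i hi) : PM a b := by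
  have key : ∀ y : GL (Fin 4) F, (y = sc4 i hi ∨ IsGen y) → ∀ b ∈ Pstd i hi, PM y b := by
    intro y hy b hb
    unfold Pstd at hb
    induction hb using Subgroup.closure_induction with
    | mem s hs =>
      rcases hy with rfl | hy
      · exact PM.sc4_left _ _ _
      · simp only [Set.mem_insert_iff, Set.mem_singleton_iff] at hs
        rcases hs with rfl | hs
        · exact (PM.sc4_left _ _ _).symm
        · exact PM_gen_gen hy hs
    | one => exact PM.one_right _
    | mul s t _ _ hs ht => exact hs.mul_right ht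
    | inv s _ hs => exact hs.inv_right
  unfold Pstd at ha
  induction ha using Subgroup.closure_induction with
  | mem s hs =>
    simp only [Set.mem_insert_iff, Set.mem_singleton_iff] at hs
    exact key s hs b hb
  | one => exact PM.one_left _
  | mul s t _ _ hs ht => exact hs.mul_left ht
  | inv s _ hs => exact hs.inv_left

end mem

end Cfsg.Agent.H9.Pauli4
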