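import Mathlib
import Cfsg.Agent.H9.Pauli4C

set_option autoImplicit false
set_option linter.style.haveILetI false
set_option linter.unusedSectionVars false

/-! The standard group `4 ∘ 2^{1+4}`: traces, the averaging identity, and the trace formula for
elements of the normalizer. -/

namespace Cfsg.Agent.H9.Pauli4

open Matrix

section center

variable {F : Type*} [Field F] (i : F) (hi : i ≠ 0)

/-- an element of `GL₄` commuting with the four generators is scalar -/
theorem scalar_of_commute (h2 : (2 : F) ≠ 0) (s : GL (Fin 4) F)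
    (h : ∀ y : GL (Fin 4) F, IsGen y → y * s = s * y) :
    ∃ c : F, (s : Matrix (Fin 4) (Fin 4) F) = c • (1 : Matrix (Fin 4) (Fin 4) F) := by
  have e : ∀ y : GL (Fin 4) F, IsGen y →
      (s : Matrix (Fin 4) (Fin 4) F) * (y : Matrix (Fin 4) (Fin 4) F)
        = (y : Matrix (Fin 4) (Fin 4) F) * (s : Matrix (Fin 4) (Fin 4) F) := by
    intro y hy
    have := congrArg (fun u : GL (Fin 4) F => (u : Matrix (Fin 4) (Fin 4) F)) (h y hy)
    simp only [Units.val_mul] at this
    exact this.symm
  refine scalar_of_commute_gens h2 _ ?_ ?_ ?_ ?_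
  · exact e X1g (Or.inl rfl)
  · exact e X2g (Or.inr (Or.inr (Or.inl rfl)))
  · exact e Z1g (Or.inr (Or.inl rfl))
  · exact e Z2g (Or.inr (Or.inr (Or.inr rfl)))

/-- a non-scalar element of the standard group anticommutes with some generator -/
theorem exists_anticommute (h2 : (2 : F) ≠ 0) (s : GL (Fin 4) F) (hs : s ∈ Pstd i hi)
    (hns : ∀ c : F, (s : Matrix (Fin 4) (Fin 4) F) ≠ c • (1 : Matrix (Fin 4) (Fin 4) F)) :
    ∃ y : GL (Fin 4) F, IsGen y ∧ y * s = neg4 * (s * y) := by
  by_contra hcon
  push Not at hcon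
  obtain ⟨c, hc⟩ := scalar_of_commute h2 s (by
    intro y hy
    obtain ⟨z, hz, hyz⟩ := PM_of_mem i hi (hy.mem i hi) hs
    rcases hz with rfl | rfl
    · rw [hyz, one_mul]
    · exact absurd hyz (hcon y hy))
  exact hns c hc

/-- non-scalar elements of the standard group have trace zero -/
theorem trace_eq_zero (h2 : (2 : F) ≠ 0) (s : GL (Fin 4) F) (hs : s ∈ Pstd i hi)
    (hns : ∀ c : F, (s : Matrix (Fin 4) (Fin 4) F) ≠ c • (1 : Matrix (Fin 4) (Fin 4) F)) :
    Matrix.trace (s : Matrix (Fin 4) (Fin 4) F) = 0 := by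
  obtain ⟨y, hy, hys⟩ := exists_anticommute i hi h2 s hs hns
  have h1 : y * s * y⁻¹ = neg4 * s := by
    rw [hys]; group
  have h2' := congrArg (fun u : GL (Fin 4) F => Matrix.trace (u : Matrix (Fin 4) (Fin 4) F)) h1
  simp only [Units.val_mul] at h2'
  rw [Matrix.trace_units_conj] at h2'
  unfold neg4 at h2'
  rw [sc4_val, Matrix.smul_mul, Matrix.one_mul, Matrix.trace_smul, smul_eq_mul] at h2'
  apply (mul_right_inj' h2).1
  linear_combination h2'

end center

end Cfsg.Agent.H9.Pauli4
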