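import Mathlib
import Cfsg.Agent.H9.Pauli4D

set_option autoImplicit false
set_option linter.style.haveILetI false
set_option linter.unusedSectionVars false

/-! The standard group `4 ∘ 2^{1+4}`: the averaging identity and the trace formula for
elements of the normalizer. -/

namespace Cfsg.Agent.H9.Pauli4

open Matrix

section avg

variable {F : Type*} [Field F] (i : F) (hi : i ≠ 0)

/-- a matrix commuting with all elements of the standard group is scalar -/
theorem scalar_of_commute_mem (h2 : (2 : F) ≠ 0) (M : Matrix (Fin 4) (Fin 4) F)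
    (h : ∀ y : GL (Fin 4) F, y ∈ Pstd i hi →
      (y : Matrix (Fin 4) (Fin 4) F) * M = M * (y : Matrix (Fin 4) (Fin 4) F)) :
    ∃ c : F, M = c • (1 : Matrix (Fin 4) (Fin 4) F) := by
  refine scalar_of_commute_gens h2 M ?_ ?_ ?_ ?_
  · exact (h X1g (X1g_mem i hi)).symm
  · exact (h X2g (X2g_mem i hi)).symm
  · exact (h Z1g (Z1g_mem i hi)).symm
  · exact (h Z2g (Z2g_mem i hi)).symm

/-- the averaging identity -/
theorem sum_conj_eq (h2 : (2 : F) ≠ 0) [Fintype ↥(Pstd i hi)] (M : Matrix (Fin 4) (Fin 4) F) :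
    ∃ c : F, (∑ y : ↥(Pstd i hi), ((y : GL (Fin 4) F) : Matrix (Fin 4) (Fin 4) F) * M *
        (((y : GL (Fin 4) F)⁻¹ : GL (Fin 4) F) : Matrix (Fin 4) (Fin 4) F)) = c • 1 ∧
      4 * c = (Fintype.card ↥(Pstd i hi) : F) * Matrix.trace M := by
  obtain ⟨S, hS⟩ : ∃ S, S = ∑ y : ↥(Pstd i hi), ((y : GL (Fin 4) F) : Matrix (Fin 4) (Fin 4) F) * M *
        (((y : GL (Fin 4) F)⁻¹ : GL (Fin 4) F) : Matrix (Fin 4) (Fin 4) F) := ⟨_, rfl⟩
  have hcomm : ∀ s : GL (Fin 4) F, s ∈ Pstd i hi →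
      (s : Matrix (Fin 4) (Fin 4) F) * S = S * (s : Matrix (Fin 4) (Fin 4) F) := by
    intro s hs
    have h1 : (s : Matrix (Fin 4) (Fin 4) F) * S * ((s⁻¹ : GL (Fin 4) F) : Matrix (Fin 4) (Fin 4) F)
        = S := by
      rw [hS, Finset.mul_sum, Finset.sum_mul]
      refine Fintype.sum_equiv (Equiv.mulLeft (⟨s, hs⟩ : ↥(Pstd i hi))) _ _ ?_
      intro y
      simp only [Equiv.coe_mulLeft, Subgroup.coe_mul, _root_.mul_inv_rev, Units.val_mul]
      simp only [Matrix.mul_assoc]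
    calc (s : Matrix (Fin 4) (Fin 4) F) * S
        = (s : Matrix (Fin 4) (Fin 4) F) * S * (((s⁻¹ : GL (Fin 4) F) : Matrix (Fin 4) (Fin 4) F)
          * (s : Matrix (Fin 4) (Fin 4) F)) := by rw [Units.inv_mul, Matrix.mul_one]
      _ = ((s : Matrix (Fin 4) (Fin 4) F) * S * ((s⁻¹ : GL (Fin 4) F) : Matrix (Fin 4) (Fin 4) F))
          * (s : Matrix (Fin 4) (Fin 4) F) := by simp only [Matrix.mul_assoc]
      _ = S * (s : Matrix (Fin 4) (Fin 4) F) := by rw [h1]
  obtain ⟨c, hc⟩ := scalar_of_commute_mem i hi h2 S hcomm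
  refine ⟨c, by rw [← hS, hc], ?_⟩
  have ht : Matrix.trace S = (Fintype.card ↥(Pstd i hi) : F) * Matrix.trace M := by
    rw [hS, Matrix.trace_sum]
    have : ∀ y : ↥(Pstd i hi), Matrix.trace (((y : GL (Fin 4) F) : Matrix (Fin 4) (Fin 4) F) * M *
        (((y : GL (Fin 4) F)⁻¹ : GL (Fin 4) F) : Matrix (Fin 4) (Fin 4) F)) = Matrix.trace M := by
      intro y
      exact Matrix.trace_units_conj (y : GL (Fin 4) F) M
    rw [Finset.sum_congr rfl (fun y _ => this y), Finset.sum_const, Finset.card_univ, nsmul_eq_mul]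
  rw [← ht, hc, Matrix.trace_smul, Matrix.trace_one, Fintype.card_fin, smul_eq_mul]
  push_cast
  ring

end avg

section formula

variable {F : Type*} [Field F] [Fintype F] [DecidableEq F] (i : F) (hi : i ≠ 0)

/-- centralizer of `g` in the standard group, as a subgroup of it -/
def CP (g : GL (Fin 4) F) : Subgroup ↥(Pstd i hi) :=
  (Subgroup.centralizer {g}).subgroupOf (Pstd i hi)

theorem mem_CP (g : GL (Fin 4) F) (y : ↥(Pstd i hi)) :
    y ∈ CP i hi g ↔ (y : GL (Fin 4) F) * g = g * y := by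
  unfold CP
  rw [Subgroup.mem_subgroupOf, Subgroup.mem_centralizer_singleton_iff]

theorem conj_mem_of_normalizer (g : GL (Fin 4) F)
    (hg : g ∈ Subgroup.normalizer (Pstd i hi : Set (GL (Fin 4) F))) (y : GL (Fin 4) F)
    (hy : y ∈ Pstd i hi) : g * y * g⁻¹ ∈ Pstd i hi :=
  (Subgroup.mem_normalizer_iff.1 hg y).1 hy

theorem comm_mem_of_normalizer (g : GL (Fin 4) F)
    (hg : g ∈ Subgroup.normalizer (Pstd i hi : Set (GL (Fin 4) F))) (y : GL (Fin 4) F)
    (hy : y ∈ Pstd i hi) : y * g * y⁻¹ * g⁻¹ ∈ Pstd i hi := by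
  have : y * g * y⁻¹ * g⁻¹ = y * (g * y⁻¹ * g⁻¹) := by group
  rw [this]
  exact Subgroup.mul_mem _ hy (conj_mem_of_normalizer i hi g hg _ (Subgroup.inv_mem _ hy))

/-- a `GL` element whose matrix is scalar is central -/
theorem central_of_scalar (k : GL (Fin 4) F) (c : F)
    (hc : (k : Matrix (Fin 4) (Fin 4) F) = c • (1 : Matrix (Fin 4) (Fin 4) F)) (m : GL (Fin 4) F) :
    k * m = m * k := by
  apply Units.ext
  rw [Units.val_mul, Units.val_mul, hc, Matrix.smul_mul, Matrix.one_mul, Matrix.mul_smul,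
    Matrix.mul_one]

/-- a scalar commutator with an element of the normalizer, a power of which is scalar and of
order prime to two, is trivial -/
theorem comm_eq_one_of_scalar (hcard : Nat.card ↥(Pstd i hi) = 64) (r : ℕ) (hr : Nat.Coprime r 64)
    (g : GL (Fin 4) F) (z : F)
    (hz : ((g ^ r : GL (Fin 4) F) : Matrix (Fin 4) (Fin 4) F) = z • (1 : Matrix (Fin 4) (Fin 4) F))
    (y : GL (Fin 4) F) (hk : y * g * y⁻¹ * g⁻¹ ∈ Pstd i hi) (c : F)
    (hc : ((y * g * y⁻¹ * g⁻¹ : GL (Fin 4) F) : Matrix (Fin 4) (Fin 4) F)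
      = c • (1 : Matrix (Fin 4) (Fin 4) F)) :
    y * g * y⁻¹ * g⁻¹ = 1 := by
  obtain ⟨k, hkdef⟩ : ∃ k, k = y * g * y⁻¹ * g⁻¹ := ⟨_, rfl⟩
  rw [← hkdef] at hk hc ⊢
  have hkc := central_of_scalar k c hc
  have hgc := central_of_scalar (g ^ r) z hz
  have h1 : y * g * y⁻¹ = k * g := by rw [hkdef]; group
  have h2 : (y * g * y⁻¹) ^ r = g ^ r := by
    rw [conj_pow, ← hgc y]
    group
  have h3 : (k * g) ^ r = k ^ r * g ^ r := (show Commute k g from hkc g).mul_pow r
  have h4 : k ^ r = 1 := by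
    rw [h1, h3] at h2
    exact mul_eq_right.1 h2
  have h5 : k ^ 64 = 1 := by
    have := pow_card_eq_one' (x := (⟨k, hk⟩ : ↥(Pstd i hi)))
    rw [hcard] at this
    have := congrArg (fun u : ↥(Pstd i hi) => (u : GL (Fin 4) F)) this
    simpa using this
  have h6 := pow_gcd_eq_one.2 ⟨h4, h5⟩
  rw [Nat.Coprime.gcd_eq_one hr, pow_one] at h6
  exact h6

/-- the trace formula for elements of the normalizer -/
theorem trace_formula (h2 : (2 : F) ≠ 0) (hcard : Nat.card ↥(Pstd i hi) = 64) (r : ℕ)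
    (hr : Nat.Coprime r 64) (g : GL (Fin 4) F)
    (hg : g ∈ Subgroup.normalizer (Pstd i hi : Set (GL (Fin 4) F))) (z : F)
    (hz : ((g ^ r : GL (Fin 4) F) : Matrix (Fin 4) (Fin 4) F) = z • (1 : Matrix (Fin 4) (Fin 4) F)) :
    4 * Matrix.trace (g : Matrix (Fin 4) (Fin 4) F) *
      Matrix.trace ((g⁻¹ : GL (Fin 4) F) : Matrix (Fin 4) (Fin 4) F)
      = (Nat.card ↥(CP i hi g) : F) := by
  classical
  haveI : Fintype ↥(Pstd i hi) := Fintype.ofFinite _
  obtain ⟨c, hS, hc⟩ := sum_conj_eq i hi h2 (g : Matrix (Fin 4) (Fin 4) F)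
  have hcardF : (Fintype.card ↥(Pstd i hi) : F) = 64 := by
    rw [← Nat.card_eq_fintype_card, hcard]
    norm_num
  rw [hcardF] at hc
  -- multiply by the inverse
  have h1 := congrArg (fun S => S * ((g⁻¹ : GL (Fin 4) F) : Matrix (Fin 4) (Fin 4) F)) hS
  simp only [Finset.sum_mul] at h1
  have h3 := congrArg Matrix.trace h1
  rw [Matrix.trace_sum, Matrix.smul_mul, Matrix.one_mul, Matrix.trace_smul, smul_eq_mul] at h3
  have hterm : ∀ y : ↥(Pstd i hi),
      Matrix.trace (((y : GL (Fin 4) F) : Matrix (Fin 4) (Fin 4) F) * (g : Matrix (Fin 4) (Fin 4) F) *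
        (((y : GL (Fin 4) F)⁻¹ : GL (Fin 4) F) : Matrix (Fin 4) (Fin 4) F) *
        ((g⁻¹ : GL (Fin 4) F) : Matrix (Fin 4) (Fin 4) F))
      = if y ∈ CP i hi g then (4 : F) else 0 := by
    intro y
    have hmat : ((y : GL (Fin 4) F) : Matrix (Fin 4) (Fin 4) F) * (g : Matrix (Fin 4) (Fin 4) F) *
        (((y : GL (Fin 4) F)⁻¹ : GL (Fin 4) F) : Matrix (Fin 4) (Fin 4) F) *
        ((g⁻¹ : GL (Fin 4) F) : Matrix (Fin 4) (Fin 4) F)
        = (((y : GL (Fin 4) F) * g * (y : GL (Fin 4) F)⁻¹ * g⁻¹ : GL (Fin 4) F) :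
          Matrix (Fin 4) (Fin 4) F) := by
      simp only [Units.val_mul]
    rw [hmat]
    have hk := comm_mem_of_normalizer i hi g hg y y.2
    split_ifs with hy
    · have : (y : GL (Fin 4) F) * g * (y : GL (Fin 4) F)⁻¹ * g⁻¹ = 1 := by
        rw [(mem_CP i hi g y).1 hy]
        group
      rw [this, Units.val_one, Matrix.trace_one, Fintype.card_fin]
      norm_num
    · apply trace_eq_zero i hi h2 _ hk
      intro c' hc'
      apply hy
      rw [mem_CP]
      have h := comm_eq_one_of_scalar i hi hcard r hr g z hz y hk c' hc'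
      calc (y : GL (Fin 4) F) * g = ((y : GL (Fin 4) F) * g * (y : GL (Fin 4) F)⁻¹ * g⁻¹) * (g * y) := by
            group
        _ = g * y := by rw [h, one_mul]
  rw [Finset.sum_congr rfl (fun y _ => hterm y), Finset.sum_ite, Finset.sum_const_zero, add_zero,
    Finset.sum_const, nsmul_eq_mul] at h3
  have hcardC : (Nat.card ↥(CP i hi g) : F)
      = ((Finset.univ.filter (fun y : ↥(Pstd i hi) => y ∈ CP i hi g)).card : F) := by
    rw [Nat.card_eq_fintype_card, Fintype.card_subtype]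
  rw [hcardC]
  have h16 : (16 : F) ≠ 0 := by
    have : (16 : F) = 2 ^ 4 := by norm_num
    rw [this]
    exact pow_ne_zero 4 h2
  apply (mul_right_inj' h16).1
  linear_combination (-4 : F) * h3 - (Matrix.trace ((g⁻¹ : GL (Fin 4) F) : Matrix (Fin 4) (Fin 4) F)) * hc

end formula

end Cfsg.Agent.H9.Pauli4
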