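import Mathlib
import Cfsg.Agent.H9.Pauli4E

set_option autoImplicit false
set_option linter.style.haveILetI false
set_option linter.unusedSectionVars false

/-! The standard group `4 ∘ 2^{1+4}`: counting fixed points of elements of the normalizer. -/

namespace Cfsg.Agent.H9.Pauli4

open Matrix

section generic

variable {G : Type*} [Group G]

/-- fixed point congruence for conjugation on a finite subgroup -/
theorem card_modEq_centralizer (D : Subgroup G) [Finite D] (g : G) (r : ℕ) [Fact r.Prime]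
    (hD : ∀ y ∈ D, g * y * g⁻¹ ∈ D) (hr : ∀ y ∈ D, g ^ r * y = y * g ^ r) :
    Nat.card D ≡ Nat.card ↥(D ⊓ Subgroup.centralizer {g}) [MOD r] := by
  classical
  have : Fintype D := Fintype.ofFinite _
  let f : Function.End D := fun w => ⟨g * w.1 * g⁻¹, hD w.1 w.2⟩
  have hfpow : ∀ k : ℕ, ∀ w : D, ((f ^ k) w).1 = g ^ k * w.1 * (g ^ k)⁻¹ := by
    intro k
    induction k with
    | zero =>
      intro w
      rw [pow_zero, pow_zero, one_mul, inv_one, mul_one]
      rfl
    | succ k ih =>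
      intro w
      rw [pow_succ', pow_succ']
      change (f ((f ^ k) w)).1 = _
      change g * ((f ^ k) w).1 * g⁻¹ = _
      rw [ih w]
      group
  have hf : f ^ r ^ 1 = 1 := by
    rw [pow_one]
    funext w
    apply Subtype.ext
    rw [hfpow, hr w.1 w.2, mul_inv_cancel_right]
    rfl
  have h := Equiv.Perm.card_fixedPoints_modEq (f := f) hf
  rw [Fintype.card_eq_nat_card, Fintype.card_eq_nat_card] at h
  have e : Function.fixedPoints f ≃ ↥(D ⊓ Subgroup.centralizer {g}) :=
    { toFun := fun w => ⟨w.1.1, Subgroup.mem_inf.2 ⟨w.1.2, by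
        have h1 : f w.1 = w.1 := w.2
        have h2 : g * w.1.1 * g⁻¹ = w.1.1 := congrArg Subtype.val h1
        rw [Subgroup.mem_centralizer_singleton_iff]
        calc w.1.1 * g = (g * w.1.1 * g⁻¹) * g := by rw [h2]
          _ = g * w.1.1 := by group⟩⟩
      invFun := fun w => ⟨⟨w.1, (Subgroup.mem_inf.1 w.2).1⟩, by
        have h1 := (Subgroup.mem_inf.1 w.2).2
        rw [Subgroup.mem_centralizer_singleton_iff] at h1
        change f ⟨w.1, _⟩ = ⟨w.1, _⟩
        apply Subtype.ext
        change g * w.1 * g⁻¹ = w.1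
        rw [← h1]
        group⟩
      left_inv := fun w => rfl
      right_inv := fun w => rfl }
  rw [Nat.card_congr e] at h
  exact h

end generic

section count

variable {F : Type*} [Field F] [Fintype F] [DecidableEq F] (i : F) (hi : i ≠ 0)

theorem card_CP_eq (g : GL (Fin 4) F) :
    Nat.card ↥(CP i hi g) = Nat.card ↥(Pstd i hi ⊓ Subgroup.centralizer {g}) := by
  unfold CP
  rw [← Subgroup.inf_subgroupOf_left]
  exact Nat.card_congr (Subgroup.subgroupOfEquivOfLe inf_le_left).toEquiv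

theorem orderOf_sc4_i (h2 : (2 : F) ≠ 0) (hi2 : i ^ 2 = -1) : orderOf (sc4 i hi) = 4 := by
  have h1 : (sc4 i hi) ^ 2 = neg4 := by
    rw [pow_two, sc4_mul]
    unfold neg4
    apply dg4_congr
    funext _
    rw [← hi2, pow_two]
  have : Fact (Nat.Prime 2) := ⟨Nat.prime_two⟩
  have h := orderOf_eq_prime_pow (x := sc4 i hi) (p := 2) (n := 1) ?_ ?_
  · rw [h]; norm_num
  · rw [pow_one, h1]
    intro h
    have := congrArg (fun u : GL (Fin 4) F => (u : Matrix (Fin 4) (Fin 4) F) 0 0) h
    simp only [neg4, sc4, dg4_val, Matrix.diagonal_apply_eq, Units.val_one, Matrix.one_apply_eq]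
      at this
    apply h2
    linear_combination -this
  · have : (2 : ℕ) ^ (1 + 1) = 2 * 2 := by norm_num
    rw [this, pow_mul, h1, pow_two, neg4_mul_neg4]

theorem zpowers_le_inf_centralizer (g : GL (Fin 4) F) :
    Subgroup.zpowers (sc4 i hi) ≤ Pstd i hi ⊓ Subgroup.centralizer {g} := by
  rw [Subgroup.zpowers_le, Subgroup.mem_inf, Subgroup.mem_centralizer_singleton_iff]
  exact ⟨sc4_i_mem i hi, sc4_comm i hi g⟩

theorem card_inf_cases (h2 : (2 : F) ≠ 0) (hi2 : i ^ 2 = -1)
    (hcard : Nat.card ↥(Pstd i hi) = 64) (D : Subgroup (GL (Fin 4) F))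
    (hD : Subgroup.zpowers (sc4 i hi) ≤ D) (hDP : D ≤ Pstd i hi) :
    Nat.card ↥D = 4 ∨ Nat.card ↥D = 8 ∨ Nat.card ↥D = 16 ∨
      Nat.card ↥D = 32 ∨ Nat.card ↥D = 64 := by
  have h4 : 4 ∣ Nat.card ↥D := by
    have := Subgroup.card_dvd_of_le hD
    rwa [Nat.card_zpowers, orderOf_sc4_i i hi h2 hi2] at this
  have h64 : Nat.card ↥D ∣ 2 ^ 6 := by
    have := Subgroup.card_dvd_of_le hDP
    rwa [hcard] at this
  obtain ⟨k, hk6, hk⟩ := (Nat.dvd_prime_pow Nat.prime_two).1 h64
  rw [hk] at h4 ⊢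
  interval_cases k <;> first | (exfalso; revert h4; norm_num; done) | norm_num

/-- an element of `GL₄` centralizing the standard group is scalar -/
theorem scalar_of_card_eq (h2 : (2 : F) ≠ 0) (hcard : Nat.card ↥(Pstd i hi) = 64)
    (g : GL (Fin 4) F)
    (h : Nat.card ↥(Pstd i hi ⊓ Subgroup.centralizer {g}) = 64) :
    ∃ c : F, (g : Matrix (Fin 4) (Fin 4) F) = c • (1 : Matrix (Fin 4) (Fin 4) F) := by
  have heq : Pstd i hi ⊓ Subgroup.centralizer {g} = Pstd i hi :=
    Subgroup.eq_of_le_of_card_ge inf_le_left (by rw [h, hcard])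
  apply scalar_of_commute h2 g
  intro y hy
  have : y ∈ Pstd i hi ⊓ Subgroup.centralizer {g} := by
    rw [heq]
    exact hy.mem i hi
  exact Subgroup.mem_centralizer_singleton_iff.1 (Subgroup.mem_inf.1 this).2

/-- the congruence for the centralizer in the standard group -/
theorem card_inf_modEq (r : ℕ) [Fact r.Prime] (g : GL (Fin 4) F)
    (z : F)
    (hz : ((g ^ r : GL (Fin 4) F) : Matrix (Fin 4) (Fin 4) F) = z • (1 : Matrix (Fin 4) (Fin 4) F))
    (D : Subgroup (GL (Fin 4) F)) (hD : ∀ y ∈ D, g * y * g⁻¹ ∈ D) :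
    Nat.card ↥D ≡ Nat.card ↥(D ⊓ Subgroup.centralizer {g}) [MOD r] := by
  haveI : Finite ↥D := Finite.of_injective (fun y : ↥D => (y : GL (Fin 4) F)) Subtype.val_injective
  exact card_modEq_centralizer D g r hD (fun y _ => central_of_scalar (g ^ r) z hz y)

end count

end Cfsg.Agent.H9.Pauli4
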