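import Mathlib
import Cfsg.Agent.H9.Pauli4F

set_option autoImplicit false
set_option linter.style.haveILetI false
set_option linter.unusedSectionVars false

/-! The standard group `4 ∘ 2^{1+4}`: determinants, scalars and the centralizer of a non-scalar
element. -/

namespace Cfsg.Agent.H9.Pauli4

open Matrix

section det

variable {F : Type*} [Field F] (i : F) (hi : i ≠ 0)

theorem det_X1m : Matrix.det (X1m : Matrix (Fin 4) (Fin 4) F) = 1 := by
  simp [X1m, Matrix.det_succ_row_zero, Fin.sum_univ_succ, Fin.succAbove]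

theorem det_X2m : Matrix.det (X2m : Matrix (Fin 4) (Fin 4) F) = 1 := by
  simp [X2m, Matrix.det_succ_row_zero, Fin.sum_univ_succ, Fin.succAbove]

/-- all elements of the standard group have determinant one -/
theorem det_eq_one_of_mem (hi2 : i ^ 2 = -1) (y : GL (Fin 4) F) (hy : y ∈ Pstd i hi) :
    Matrix.det (y : Matrix (Fin 4) (Fin 4) F) = 1 := by
  unfold Pstd at hy
  induction hy using Subgroup.closure_induction with
  | mem y hy =>
    rcases hy with rfl | rfl | rfl | rfl | rfl
    · unfold sc4
      rw [dg4_val, Matrix.det_diagonal, Fin.prod_univ_four]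
      linear_combination (i ^ 2 - 1) * hi2
    · rw [X1g_val, det_X1m]
    · unfold Z1g
      rw [dg4_val, Matrix.det_diagonal, Fin.prod_univ_four]
      simp [z1d]
    · rw [X2g_val, det_X2m]
    · unfold Z2g
      rw [dg4_val, Matrix.det_diagonal, Fin.prod_univ_four]
      simp [z2d]
  | one => simp
  | mul a b _ _ ha hb => rw [Units.val_mul, Matrix.det_mul, ha, hb, one_mul]
  | inv a _ ha =>
    have h1 : Matrix.det ((a * a⁻¹ : GL (Fin 4) F) : Matrix (Fin 4) (Fin 4) F) = 1 := by
      rw [mul_inv_cancel, Units.val_one, Matrix.det_one]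
    rw [Units.val_mul, Matrix.det_mul, ha, one_mul] at h1
    exact h1

/-- scalar elements of the standard group are powers of the generating scalar -/
theorem scalar_mem_zpowers (hi2 : i ^ 2 = -1) (y : GL (Fin 4) F) (hy : y ∈ Pstd i hi) (c : F)
    (hc : (y : Matrix (Fin 4) (Fin 4) F) = c • (1 : Matrix (Fin 4) (Fin 4) F)) :
    y ∈ Subgroup.zpowers (sc4 i hi) := by
  have hdet := det_eq_one_of_mem i hi hi2 y hy
  rw [hc, Matrix.det_smul, Matrix.det_one, mul_one, Fintype.card_fin] at hdet
  have hfac : (c - 1) * ((c + 1) * ((c - i) * (c + i))) = 0 := by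
    linear_combination hdet - (c ^ 2 - 1) * hi2
  have hpow : ∀ k : ℕ, (((sc4 i hi) ^ k : GL (Fin 4) F) : Matrix (Fin 4) (Fin 4) F)
      = (i ^ k) • (1 : Matrix (Fin 4) (Fin 4) F) := by
    intro k
    rw [Units.val_pow_eq_pow_val, sc4_val, smul_pow, one_pow]
  have key : ∀ k : ℕ, c = i ^ k → y ∈ Subgroup.zpowers (sc4 i hi) := by
    intro k hk
    have : y = (sc4 i hi) ^ k := by
      apply Units.ext
      rw [hpow, hc, hk]
    rw [this]
    exact Subgroup.pow_mem _ (Subgroup.mem_zpowers _) k
  rcases mul_eq_zero.1 hfac with h | h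
  · exact key 0 (by rw [pow_zero]; linear_combination h)
  rcases mul_eq_zero.1 h with h | h
  · exact key 2 (by rw [hi2]; linear_combination h)
  rcases mul_eq_zero.1 h with h | h
  · exact key 1 (by rw [pow_one]; linear_combination h)
  · exact key 3 (by
      have : i ^ 3 = -i := by linear_combination i * hi2
      rw [this]; linear_combination h)

end det

section half

variable {F : Type*} [Field F] [Fintype F] [DecidableEq F] (i : F) (hi : i ≠ 0)

theorem neg4_ne_one (h2 : (2 : F) ≠ 0) : (neg4 : GL (Fin 4) F) ≠ 1 := by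
  intro h
  have := congrArg (fun u : GL (Fin 4) F => (u : Matrix (Fin 4) (Fin 4) F) 0 0) h
  simp only [neg4, sc4, dg4_val, Matrix.diagonal_apply_eq, Units.val_one, Matrix.one_apply_eq]
    at this
  apply h2
  linear_combination -this

/-- the centralizer in the standard group of a non-scalar element has order `32` -/
theorem card_centralizer_of_not_scalar (h2 : (2 : F) ≠ 0) (hcard : Nat.card ↥(Pstd i hi) = 64)
    (s : GL (Fin 4) F) (hs : s ∈ Pstd i hi)
    (hns : ∀ c : F, (s : Matrix (Fin 4) (Fin 4) F) ≠ c • (1 : Matrix (Fin 4) (Fin 4) F)) :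
    Nat.card ↥(Pstd i hi ⊓ Subgroup.centralizer {s}) = 32 := by
  obtain ⟨a, ha, has⟩ := exists_anticommute i hi h2 s hs hns
  have haP : a ∈ Pstd i hi := ha.mem i hi
  have hidx : ((Subgroup.centralizer {s}).subgroupOf (Pstd i hi)).index = 2 := by
    rw [Subgroup.index_eq_two_iff]
    refine ⟨⟨a, haP⟩, ?_⟩
    intro b
    rw [Subgroup.mem_subgroupOf, Subgroup.mem_subgroupOf, Subgroup.mem_centralizer_singleton_iff,
      Subgroup.mem_centralizer_singleton_iff, Subgroup.coe_mul]
    obtain ⟨z, hz, hbz⟩ := PM_of_mem i hi b.2 hs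
    have hbas : (b : GL (Fin 4) F) * a * s = neg4 * z * (s * ((b : GL (Fin 4) F) * a)) := by
      calc (b : GL (Fin 4) F) * a * s = (b : GL (Fin 4) F) * (a * s) := by group
        _ = (b : GL (Fin 4) F) * (neg4 * (s * a)) := by rw [has]
        _ = neg4 * (((b : GL (Fin 4) F) * s) * a) := by
          rw [← mul_assoc (b : GL (Fin 4) F), ← neg4_comm]
          group
        _ = neg4 * ((z * (s * (b : GL (Fin 4) F))) * a) := by rw [hbz]
        _ = neg4 * z * (s * ((b : GL (Fin 4) F) * a)) := by group
    rcases hz with rfl | rfl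
    · -- `b` commutes with `s`
      rw [one_mul] at hbz
      rw [mul_one] at hbas
      refine Or.inr ⟨hbz, ?_⟩
      intro h
      rw [h] at hbas
      have h1 : 1 * (s * ((b : GL (Fin 4) F) * a)) = neg4 * (s * ((b : GL (Fin 4) F) * a)) := by
        rw [one_mul]; exact hbas
      exact neg4_ne_one h2 (mul_right_cancel h1).symm
    · rw [neg4_mul_neg4, one_mul] at hbas
      refine Or.inl ⟨hbas, ?_⟩
      intro h
      rw [h] at hbz
      have h1 : 1 * (s * (b : GL (Fin 4) F)) = neg4 * (s * (b : GL (Fin 4) F)) := by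
        rw [one_mul]; exact hbz
      exact neg4_ne_one h2 (mul_right_cancel h1).symm
  have hmul := Subgroup.card_mul_index ((Subgroup.centralizer {s}).subgroupOf (Pstd i hi))
  rw [hidx, hcard] at hmul
  have hc := card_CP_eq i hi s
  unfold CP at hc
  rw [← hc]
  omega

end half

end Cfsg.Agent.H9.Pauli4
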