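import Mathlib
import Cfsg.Agent.H9.Pauli4G

set_option autoImplicit false
set_option linter.style.haveILetI false
set_option linter.unusedSectionVars false

/-! The standard group `4 ∘ 2^{1+4}`: elements of the normalizer a prime power of which is
scalar. -/

namespace Cfsg.Agent.H9.Pauli4

open Matrix

section cases

variable {F : Type*} [Field F] [Fintype F] [DecidableEq F] (i : F) (hi : i ≠ 0)

/-- the possible orders of the centralizer in the standard group of an element of the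
normalizer, a prime power of which is scalar -/
theorem card_centralizer_cases (h2 : (2 : F) ≠ 0) (hi2 : i ^ 2 = -1)
    (hcard : Nat.card ↥(Pstd i hi) = 64) (r : ℕ) [Fact r.Prime] (g : GL (Fin 4) F)
    (hg : g ∈ Subgroup.normalizer (Pstd i hi : Set (GL (Fin 4) F))) (z : F)
    (hz : ((g ^ r : GL (Fin 4) F) : Matrix (Fin 4) (Fin 4) F) = z • (1 : Matrix (Fin 4) (Fin 4) F)) :
    (Nat.card ↥(Pstd i hi ⊓ Subgroup.centralizer {g}) = 4 ∨
      Nat.card ↥(Pstd i hi ⊓ Subgroup.centralizer {g}) = 8 ∨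
      Nat.card ↥(Pstd i hi ⊓ Subgroup.centralizer {g}) = 16 ∨
      Nat.card ↥(Pstd i hi ⊓ Subgroup.centralizer {g}) = 32 ∨
      Nat.card ↥(Pstd i hi ⊓ Subgroup.centralizer {g}) = 64) ∧
    64 ≡ Nat.card ↥(Pstd i hi ⊓ Subgroup.centralizer {g}) [MOD r] := by
  refine ⟨card_inf_cases i hi h2 hi2 hcard _ (zpowers_le_inf_centralizer i hi g) inf_le_left, ?_⟩
  have := card_inf_modEq r g z hz (Pstd i hi)
    (fun y hy => conj_mem_of_normalizer i hi g hg y hy)
  rwa [hcard] at this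

/-- no element of the normalizer with seventh power scalar has centralizer of order `8` -/
theorem card_centralizer_ne_eight (h2 : (2 : F) ≠ 0) (hi2 : i ^ 2 = -1)
    (hcard : Nat.card ↥(Pstd i hi) = 64) (g : GL (Fin 4) F)
    (hg : g ∈ Subgroup.normalizer (Pstd i hi : Set (GL (Fin 4) F))) (z : F)
    (hz : ((g ^ 7 : GL (Fin 4) F) : Matrix (Fin 4) (Fin 4) F) = z • (1 : Matrix (Fin 4) (Fin 4) F)) :
    Nat.card ↥(Pstd i hi ⊓ Subgroup.centralizer {g}) ≠ 8 := by
  intro h8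
  have : Fact (Nat.Prime 7) := ⟨by norm_num⟩
  have hZ4 : Nat.card ↥(Subgroup.zpowers (sc4 i hi)) = 4 := by
    rw [Nat.card_zpowers, orderOf_sc4_i i hi h2 hi2]
  -- a non-scalar element of the centralizer
  obtain ⟨y₀, hy₀C, hy₀Z⟩ : ∃ y₀ ∈ Pstd i hi ⊓ Subgroup.centralizer {g},
      y₀ ∉ Subgroup.zpowers (sc4 i hi) := by
    by_contra hcon
    push Not at hcon
    have hle : Pstd i hi ⊓ Subgroup.centralizer {g} ≤ Subgroup.zpowers (sc4 i hi) := hcon
    have := Subgroup.card_le_of_le hle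
    rw [h8, hZ4] at this
    omega
  have hy₀P : y₀ ∈ Pstd i hi := (Subgroup.mem_inf.1 hy₀C).1
  have hy₀g : y₀ * g = g * y₀ := Subgroup.mem_centralizer_singleton_iff.1 (Subgroup.mem_inf.1 hy₀C).2
  have hns : ∀ c : F, (y₀ : Matrix (Fin 4) (Fin 4) F) ≠ c • (1 : Matrix (Fin 4) (Fin 4) F) :=
    fun c hc => hy₀Z (scalar_mem_zpowers i hi hi2 y₀ hy₀P c hc)
  have hD32 := card_centralizer_of_not_scalar i hi h2 hcard y₀ hy₀P hns
  -- the centralizer of `y₀` is stable
  have hstab : ∀ y ∈ Pstd i hi ⊓ Subgroup.centralizer {y₀},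
      g * y * g⁻¹ ∈ Pstd i hi ⊓ Subgroup.centralizer {y₀} := by
    intro y hy
    obtain ⟨hyP, hyc⟩ := Subgroup.mem_inf.1 hy
    rw [Subgroup.mem_centralizer_singleton_iff] at hyc
    refine Subgroup.mem_inf.2 ⟨conj_mem_of_normalizer i hi g hg y hyP, ?_⟩
    rw [Subgroup.mem_centralizer_singleton_iff]
    have h1 : g⁻¹ * y₀ = y₀ * g⁻¹ := by
      calc g⁻¹ * y₀ = g⁻¹ * (y₀ * g) * g⁻¹ := by group
        _ = g⁻¹ * (g * y₀) * g⁻¹ := by rw [hy₀g]
        _ = y₀ * g⁻¹ := by group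
    calc g * y * g⁻¹ * y₀ = g * y * (g⁻¹ * y₀) := by group
      _ = g * y * (y₀ * g⁻¹) := by rw [h1]
      _ = g * (y * y₀) * g⁻¹ := by group
      _ = g * (y₀ * y) * g⁻¹ := by rw [hyc]
      _ = (g * y₀) * y * g⁻¹ := by group
      _ = (y₀ * g) * y * g⁻¹ := by rw [hy₀g]
      _ = y₀ * (g * y * g⁻¹) := by group
  have hmod := card_inf_modEq 7 g z hz (Pstd i hi ⊓ Subgroup.centralizer {y₀}) hstab
  rw [hD32] at hmod
  -- the fixed points
  have hle1 : Pstd i hi ⊓ Subgroup.centralizer {y₀} ⊓ Subgroup.centralizer {g}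
      ≤ Pstd i hi ⊓ Subgroup.centralizer {g} := by
    intro y hy
    obtain ⟨hy1, hy2⟩ := Subgroup.mem_inf.1 hy
    exact Subgroup.mem_inf.2 ⟨(Subgroup.mem_inf.1 hy1).1, hy2⟩
  have hle2 : Subgroup.zpowers (sc4 i hi)
      ≤ Pstd i hi ⊓ Subgroup.centralizer {y₀} ⊓ Subgroup.centralizer {g} := by
    rw [Subgroup.zpowers_le]
    refine Subgroup.mem_inf.2 ⟨Subgroup.mem_inf.2 ⟨sc4_i_mem i hi, ?_⟩, ?_⟩
    · rw [Subgroup.mem_centralizer_singleton_iff]
      exact sc4_comm i hi y₀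
    · rw [Subgroup.mem_centralizer_singleton_iff]
      exact sc4_comm i hi g
  have hd1 := Subgroup.card_dvd_of_le hle1
  have hd2 := Subgroup.card_dvd_of_le hle2
  rw [h8] at hd1
  rw [hZ4] at hd2
  obtain ⟨n, hn⟩ : ∃ n, n = Nat.card ↥(Pstd i hi ⊓ Subgroup.centralizer {y₀} ⊓
      Subgroup.centralizer {g}) := ⟨_, rfl⟩
  rw [← hn] at hd1 hd2 hmod
  have hn8 : n ≤ 8 := Nat.le_of_dvd (by norm_num) hd1
  have hn4 : n = 4 := by
    interval_cases n <;> first | rfl | (exfalso; revert hmod; decide)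
  have heq : Subgroup.zpowers (sc4 i hi)
      = Pstd i hi ⊓ Subgroup.centralizer {y₀} ⊓ Subgroup.centralizer {g} := by
    haveI : Finite ↥(Pstd i hi ⊓ Subgroup.centralizer {y₀} ⊓ Subgroup.centralizer {g}) :=
      Finite.of_injective (fun y => (y : GL (Fin 4) F)) Subtype.val_injective
    exact Subgroup.eq_of_le_of_card_ge hle2 (by rw [← hn, hn4, hZ4])
  apply hy₀Z
  rw [heq]
  refine Subgroup.mem_inf.2 ⟨Subgroup.mem_inf.2 ⟨hy₀P, ?_⟩, (Subgroup.mem_inf.1 hy₀C).2⟩
  rw [Subgroup.mem_centralizer_singleton_iff]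

/-- a prime dividing one of `60, 56, 48, 32` is at most seven -/
theorem prime_le_seven (r : ℕ) (hr : r.Prime) (h : r ∣ 3360) : r ≤ 7 := by
  have h1 : (3360 : ℕ) = 2 ^ 5 * (3 * (5 * 7)) := by norm_num
  rw [h1] at h
  rcases (Nat.Prime.dvd_mul hr).1 h with h | h
  · have := (Nat.prime_dvd_prime_iff_eq hr Nat.prime_two).1 (hr.dvd_of_dvd_pow h)
    omega
  rcases (Nat.Prime.dvd_mul hr).1 h with h | h
  · have := (Nat.prime_dvd_prime_iff_eq hr Nat.prime_three).1 h
    omega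
  rcases (Nat.Prime.dvd_mul hr).1 h with h | h
  · have := (Nat.prime_dvd_prime_iff_eq hr Nat.prime_five).1 h
    omega
  · have := (Nat.prime_dvd_prime_iff_eq hr (by norm_num : Nat.Prime 7)).1 h
    omega

/-- an element of the normalizer with `r`-th power scalar, `r ≥ 7` prime, is scalar -/
theorem scalar_of_seven_le (h2 : (2 : F) ≠ 0) (hi2 : i ^ 2 = -1)
    (hcard : Nat.card ↥(Pstd i hi) = 64) (r : ℕ) [hr : Fact r.Prime] (hr7 : 7 ≤ r)
    (g : GL (Fin 4) F)
    (hg : g ∈ Subgroup.normalizer (Pstd i hi : Set (GL (Fin 4) F))) (z : F)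
    (hz : ((g ^ r : GL (Fin 4) F) : Matrix (Fin 4) (Fin 4) F) = z • (1 : Matrix (Fin 4) (Fin 4) F)) :
    ∃ c : F, (g : Matrix (Fin 4) (Fin 4) F) = c • (1 : Matrix (Fin 4) (Fin 4) F) := by
  obtain ⟨hcases, hmod⟩ := card_centralizer_cases i hi h2 hi2 hcard r g hg z hz
  have hd : ∀ n : ℕ, Nat.card ↥(Pstd i hi ⊓ Subgroup.centralizer {g}) = n → n ≤ 64 →
      r ∣ 64 - n := by
    intro n hn hle
    rw [hn] at hmod
    exact (Nat.modEq_iff_dvd' hle).1 hmod.symm
  rcases hcases with h | h | h | h | h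
  · have := prime_le_seven r hr.out ((hd 4 h (by norm_num)).trans (by norm_num))
    have h60 : r ∣ 60 := hd 4 h (by norm_num)
    have : r = 7 := by omega
    rw [this] at h60
    omega
  · have := prime_le_seven r hr.out ((hd 8 h (by norm_num)).trans (by norm_num))
    have : r = 7 := by omega
    subst this
    exact absurd h (card_centralizer_ne_eight i hi h2 hi2 hcard g hg z hz)
  · have := prime_le_seven r hr.out ((hd 16 h (by norm_num)).trans (by norm_num))
    have h48 : r ∣ 48 := hd 16 h (by norm_num)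
    have : r = 7 := by omega
    rw [this] at h48
    omega
  · have := prime_le_seven r hr.out ((hd 32 h (by norm_num)).trans (by norm_num))
    have h32 : r ∣ 32 := hd 32 h (by norm_num)
    have : r = 7 := by omega
    rw [this] at h32
    omega
  · exact scalar_of_card_eq i hi h2 hcard g h

/-- the trace condition for elements of the normalizer with scalar cube -/
theorem trace_three (h2 : (2 : F) ≠ 0) (hi2 : i ^ 2 = -1)
    (hcard : Nat.card ↥(Pstd i hi) = 64) (g : GL (Fin 4) F)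
    (hg : g ∈ Subgroup.normalizer (Pstd i hi : Set (GL (Fin 4) F))) (z : F)
    (hz : ((g ^ 3 : GL (Fin 4) F) : Matrix (Fin 4) (Fin 4) F) = z • (1 : Matrix (Fin 4) (Fin 4) F))
    (hns : ∀ c : F, (g : Matrix (Fin 4) (Fin 4) F) ≠ c • (1 : Matrix (Fin 4) (Fin 4) F)) :
    4 * Matrix.trace (g : Matrix (Fin 4) (Fin 4) F) *
        Matrix.trace ((g⁻¹ : GL (Fin 4) F) : Matrix (Fin 4) (Fin 4) F) = 4 ∨
      4 * Matrix.trace (g : Matrix (Fin 4) (Fin 4) F) *
        Matrix.trace ((g⁻¹ : GL (Fin 4) F) : Matrix (Fin 4) (Fin 4) F) = 16 := by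
  have : Fact (Nat.Prime 3) := ⟨Nat.prime_three⟩
  obtain ⟨hcases, hmod⟩ := card_centralizer_cases i hi h2 hi2 hcard 3 g hg z hz
  have hf := trace_formula i hi h2 hcard 3 (by norm_num) g hg z hz
  rw [card_CP_eq] at hf
  rcases hcases with h | h | h | h | h
  · left; rw [hf, h]; norm_num
  · rw [h] at hmod; exact absurd hmod (by decide)
  · right; rw [hf, h]; norm_num
  · rw [h] at hmod; exact absurd hmod (by decide)
  · obtain ⟨c, hc⟩ := scalar_of_card_eq i hi h2 hcard g h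
    exact absurd hc (hns c)

/-- the trace condition for elements of the normalizer with scalar fifth power -/
theorem trace_five (h2 : (2 : F) ≠ 0) (hi2 : i ^ 2 = -1)
    (hcard : Nat.card ↥(Pstd i hi) = 64) (g : GL (Fin 4) F)
    (hg : g ∈ Subgroup.normalizer (Pstd i hi : Set (GL (Fin 4) F))) (z : F)
    (hz : ((g ^ 5 : GL (Fin 4) F) : Matrix (Fin 4) (Fin 4) F) = z • (1 : Matrix (Fin 4) (Fin 4) F))
    (hns : ∀ c : F, (g : Matrix (Fin 4) (Fin 4) F) ≠ c • (1 : Matrix (Fin 4) (Fin 4) F)) :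
    4 * Matrix.trace (g : Matrix (Fin 4) (Fin 4) F) *
        Matrix.trace ((g⁻¹ : GL (Fin 4) F) : Matrix (Fin 4) (Fin 4) F) = 4 := by
  have : Fact (Nat.Prime 5) := ⟨Nat.prime_five⟩
  obtain ⟨hcases, hmod⟩ := card_centralizer_cases i hi h2 hi2 hcard 5 g hg z hz
  have hf := trace_formula i hi h2 hcard 5 (by norm_num) g hg z hz
  rw [card_CP_eq] at hf
  rcases hcases with h | h | h | h | h
  · rw [hf, h]; norm_num
  · rw [h] at hmod; exact absurd hmod (by decide)
  · rw [h] at hmod; exact absurd hmod (by decide)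
  · rw [h] at hmod; exact absurd hmod (by decide)
  · obtain ⟨c, hc⟩ := scalar_of_card_eq i hi h2 hcard g h
    exact absurd hc (hns c)

end cases

end Cfsg.Agent.H9.Pauli4
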