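import Mathlib
import Cfsg.Agent.H9.Pauli4H

set_option autoImplicit false
set_option linter.style.haveILetI false
set_option linter.unusedSectionVars false

/-! The standard group `4 ∘ 2^{1+4}`: unipotent elements of order five of the normalizer. -/

namespace Cfsg.Agent.H9.Pauli4

open Matrix

section unip

variable {F : Type*} [Field F] [Fintype F] [DecidableEq F] (i : F) (hi : i ≠ 0)

theorem inv_val_of_mul_eq_one (g : GL (Fin 4) F) (B : Matrix (Fin 4) (Fin 4) F)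
    (h : (g : Matrix (Fin 4) (Fin 4) F) * B = 1) :
    ((g⁻¹ : GL (Fin 4) F) : Matrix (Fin 4) (Fin 4) F) = B := by
  calc ((g⁻¹ : GL (Fin 4) F) : Matrix (Fin 4) (Fin 4) F)
      = ((g⁻¹ : GL (Fin 4) F) : Matrix (Fin 4) (Fin 4) F) * ((g : Matrix (Fin 4) (Fin 4) F) * B) := by
        rw [h, Matrix.mul_one]
    _ = B := by rw [← Matrix.mul_assoc, Units.inv_mul, Matrix.one_mul]

theorem trace_comm_unip (g y : GL (Fin 4) F) (N : Matrix (Fin 4) (Fin 4) F)
    (hN : (g : Matrix (Fin 4) (Fin 4) F) = 1 + N) (hN2 : N * N = 0) :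
    Matrix.trace ((y * g * y⁻¹ * g⁻¹ : GL (Fin 4) F) : Matrix (Fin 4) (Fin 4) F)
      = 4 - Matrix.trace ((y : Matrix (Fin 4) (Fin 4) F) * N *
        ((y⁻¹ : GL (Fin 4) F) : Matrix (Fin 4) (Fin 4) F) * N) := by
  have hginv : ((g⁻¹ : GL (Fin 4) F) : Matrix (Fin 4) (Fin 4) F) = 1 - N := by
    apply inv_val_of_mul_eq_one
    rw [hN]
    calc (1 + N) * (1 - N) = 1 - N * N := by noncomm_ring
      _ = 1 := by rw [hN2, sub_zero]
  obtain ⟨Y, hY⟩ : ∃ Y, Y = (y : Matrix (Fin 4) (Fin 4) F) := ⟨_, rfl⟩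
  obtain ⟨Yi, hYi⟩ : ∃ Yi, Yi = ((y⁻¹ : GL (Fin 4) F) : Matrix (Fin 4) (Fin 4) F) := ⟨_, rfl⟩
  have hYYi : Y * Yi = 1 := by rw [hY, hYi, Units.mul_inv]
  obtain ⟨M, hM⟩ : ∃ M, M = Y * N * Yi := ⟨_, rfl⟩
  have htM : Matrix.trace M = Matrix.trace N := by
    rw [hM, hY, hYi]
    exact Matrix.trace_units_conj y N
  have e1 : ((y * g * y⁻¹ * g⁻¹ : GL (Fin 4) F) : Matrix (Fin 4) (Fin 4) F)
      = 1 + M - N - M * N := by
    simp only [Units.val_mul]
    rw [hginv, hN, ← hY, ← hYi]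
    calc Y * (1 + N) * Yi * (1 - N) = (Y * Yi + Y * N * Yi) * (1 - N) := by noncomm_ring
      _ = (1 + M) * (1 - N) := by rw [hYYi, hM]
      _ = 1 + M - N - M * N := by noncomm_ring
  rw [e1, ← hY, ← hYi, ← hM]
  simp only [Matrix.trace_sub, Matrix.trace_add, Matrix.trace_one, Fintype.card_fin, htM]
  push_cast
  ring

/-- an element `1 + N` with `N ^ 2 = 0` of order dividing five in the normalizer of the standard
group is trivial -/
theorem eq_one_of_unipotent (h2 : (2 : F) ≠ 0) (h3 : (3 : F) ≠ 0)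
    (hcard : Nat.card ↥(Pstd i hi) = 64) (g : GL (Fin 4) F)
    (hg : g ∈ Subgroup.normalizer (Pstd i hi : Set (GL (Fin 4) F))) (hg5 : g ^ 5 = 1)
    (N : Matrix (Fin 4) (Fin 4) F) (hN : (g : Matrix (Fin 4) (Fin 4) F) = 1 + N)
    (hN2 : N * N = 0) : g = 1 := by
  by_contra hne
  -- some element of the standard group does not commute with `g`
  obtain ⟨y, hyP, hyg⟩ : ∃ y ∈ Pstd i hi, y * g ≠ g * y := by
    by_contra hcon
    push Not at hcon
    obtain ⟨c, hc⟩ := scalar_of_commute h2 g (fun y hy => hcon y (hy.mem i hi))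
    apply hne
    have hNc : N = (c - 1) • (1 : Matrix (Fin 4) (Fin 4) F) := by
      have : N = (g : Matrix (Fin 4) (Fin 4) F) - 1 := by rw [hN]; abel
      rw [this, hc, sub_smul, one_smul]
    have h00 := congrFun (congrFun hN2 0) 0
    rw [hNc, Matrix.smul_mul, Matrix.one_mul, Matrix.smul_apply, Matrix.smul_apply,
      Matrix.one_apply_eq, smul_eq_mul, smul_eq_mul, mul_one, Matrix.zero_apply] at h00
    have hc1 : c = 1 := by
      have := mul_self_eq_zero.1 h00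
      linear_combination this
    apply Units.ext
    rw [hc, hc1, one_smul, Units.val_one]
  have hg1 : ((g ^ 5 : GL (Fin 4) F) : Matrix (Fin 4) (Fin 4) F)
      = (1 : F) • (1 : Matrix (Fin 4) (Fin 4) F) := by
    rw [hg5, one_smul, Units.val_one]
  have hg2N : g ^ 2 ∈ Subgroup.normalizer (Pstd i hi : Set (GL (Fin 4) F)) :=
    Subgroup.pow_mem _ hg 2
  have hg25 : ((((g ^ 2) ^ 5 : GL (Fin 4) F)) : Matrix (Fin 4) (Fin 4) F)
      = (1 : F) • (1 : Matrix (Fin 4) (Fin 4) F) := by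
    rw [← pow_mul, mul_comm, pow_mul, hg5, one_pow, one_smul, Units.val_one]
  have hk1 := comm_mem_of_normalizer i hi g hg y hyP
  have hk2 := comm_mem_of_normalizer i hi (g ^ 2) hg2N y hyP
  have ht1 : Matrix.trace ((y * g * y⁻¹ * g⁻¹ : GL (Fin 4) F) : Matrix (Fin 4) (Fin 4) F) = 0 := by
    apply trace_eq_zero i hi h2 _ hk1
    intro c hc
    apply hyg
    have h := comm_eq_one_of_scalar i hi hcard 5 (by norm_num) g 1 hg1 y hk1 c hc
    calc y * g = (y * g * y⁻¹ * g⁻¹) * (g * y) := by group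
      _ = g * y := by rw [h, one_mul]
  have ht2 : Matrix.trace ((y * g ^ 2 * y⁻¹ * (g ^ 2)⁻¹ : GL (Fin 4) F) :
      Matrix (Fin 4) (Fin 4) F) = 0 := by
    apply trace_eq_zero i hi h2 _ hk2
    intro c hc
    apply hyg
    have h := comm_eq_one_of_scalar i hi hcard 5 (by norm_num) (g ^ 2) 1 hg25 y hk2 c hc
    have h' : y * g ^ 2 = g ^ 2 * y := by
      calc y * g ^ 2 = (y * g ^ 2 * y⁻¹ * (g ^ 2)⁻¹) * (g ^ 2 * y) := by group
        _ = g ^ 2 * y := by rw [h, one_mul]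
    have h6 : g = (g ^ 2) ^ 3 := by
      rw [← pow_mul]
      calc g = g ^ 5 * g := by rw [hg5, one_mul]
        _ = g ^ (2 * 3) := by rw [← pow_succ]
    have hc' : Commute y (g ^ 2) := h'
    rw [h6]
    exact (hc'.pow_right 3).eq
  -- matrix computations
  have hg2 : ((g ^ 2 : GL (Fin 4) F) : Matrix (Fin 4) (Fin 4) F) = 1 + (2 : F) • N := by
    rw [Units.val_pow_eq_pow_val, hN, pow_two]
    calc (1 + N) * (1 + N) = 1 + (N + N) + N * N := by noncomm_ring
      _ = 1 + (2 : F) • N := by rw [hN2, add_zero, two_smul]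
  have hN2' : ((2 : F) • N) * ((2 : F) • N) = 0 := by
    rw [Matrix.smul_mul, Matrix.mul_smul, hN2, smul_zero, smul_zero]
  rw [trace_comm_unip g y N hN hN2] at ht1
  rw [trace_comm_unip (g ^ 2) y _ hg2 hN2'] at ht2
  simp only [Matrix.mul_smul, Matrix.smul_mul, Matrix.trace_smul, smul_eq_mul] at ht2
  have h12 : (12 : F) = 0 := by
    linear_combination 4 * ht1 - ht2
  have : (12 : F) = 2 ^ 2 * 3 := by norm_num
  rw [this] at h12
  rcases mul_eq_zero.1 h12 with h | h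
  · exact h2 (pow_eq_zero_iff (by norm_num) |>.1 h)
  · exact h3 h

end unip

end Cfsg.Agent.H9.Pauli4
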