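import Mathlib
import Cfsg.Agent.H9.Pauli4I

set_option autoImplicit false
set_option linter.style.haveILetI false
set_option linter.unusedSectionVars false

/-! The standard group `4 ∘ 2^{1+4}`: membership in the normalizer; sign diagonals. -/

namespace Cfsg.Agent.H9.Pauli4

open Matrix

section norm

variable {F : Type*} [Field F] [Fintype F] [DecidableEq F] (i : F) (hi : i ≠ 0)

/-- membership in the normalizer of the standard group, through the generators -/
theorem mem_normalizer_Pstd (n : GL (Fin 4) F)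
    (hX1 : n * X1g * n⁻¹ ∈ Pstd i hi) (hZ1 : n * Z1g * n⁻¹ ∈ Pstd i hi)
    (hX2 : n * X2g * n⁻¹ ∈ Pstd i hi) (hZ2 : n * Z2g * n⁻¹ ∈ Pstd i hi) :
    n ∈ Subgroup.normalizer (Pstd i hi : Set (GL (Fin 4) F)) := by
  apply Subgroup.mem_normalizer_fintype
  intro s hs
  rw [SetLike.mem_coe] at hs ⊢
  have hs' := hs
  unfold Pstd at hs'
  induction hs' using Subgroup.closure_induction with
  | mem y hy =>
    rcases hy with rfl | rfl | rfl | rfl | rfl
    · rw [← sc4_comm, mul_inv_cancel_right]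
      exact sc4_i_mem i hi
    · exact hX1
    · exact hZ1
    · exact hX2
    · exact hZ2
  | one => simp
  | mul a b ha' hb' ha hb =>
    have : n * (a * b) * n⁻¹ = (n * a * n⁻¹) * (n * b * n⁻¹) := by group
    rw [this]
    exact Subgroup.mul_mem _ (ha ha') (hb hb')
  | inv a ha' ha =>
    have : n * a⁻¹ * n⁻¹ = (n * a * n⁻¹)⁻¹ := by group
    rw [this]
    exact Subgroup.inv_mem _ (ha ha')

/-- a criterion in terms of relations -/
theorem mem_normalizer_of_rel (n a b c d : GL (Fin 4) F)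
    (ha : a ∈ Pstd i hi) (hb : b ∈ Pstd i hi) (hc : c ∈ Pstd i hi) (hd : d ∈ Pstd i hi)
    (hX1 : n * X1g = a * n) (hZ1 : n * Z1g = b * n) (hX2 : n * X2g = c * n)
    (hZ2 : n * Z2g = d * n) :
    n ∈ Subgroup.normalizer (Pstd i hi : Set (GL (Fin 4) F)) := by
  apply mem_normalizer_Pstd
  · rw [hX1, mul_inv_cancel_right]; exact ha
  · rw [hZ1, mul_inv_cancel_right]; exact hb
  · rw [hX2, mul_inv_cancel_right]; exact hc
  · rw [hZ2, mul_inv_cancel_right]; exact hd

/-- scalar matrices normalize the standard group -/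
theorem sc4_mem_normalizer (c : F) (hc : c ≠ 0) :
    sc4 c hc ∈ Subgroup.normalizer (Pstd i hi : Set (GL (Fin 4) F)) := by
  apply mem_normalizer_of_rel i hi _ X1g Z1g X2g Z2g (X1g_mem i hi) (Z1g_mem i hi) (X2g_mem i hi)
    (Z2g_mem i hi) <;> exact sc4_comm c hc _

/-- a sign -/
def IsPM (u : F) : Prop := u = 1 ∨ u = -1

theorem IsPM.ne_zero {u : F} (h : IsPM u) : u ≠ 0 := by
  rcases h with rfl | rfl
  · exact one_ne_zero
  · exact neg_ne_zero.2 one_ne_zero

theorem IsPM.mul_self {u : F} (h : IsPM u) : u * u = 1 := by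
  rcases h with rfl | rfl <;> ring

theorem IsPM.mul {u v : F} (hu : IsPM u) (hv : IsPM v) : IsPM (u * v) := by
  rcases hu with rfl | rfl <;> rcases hv with rfl | rfl
  · left; ring
  · right; ring
  · right; ring
  · left; ring

theorem dg4_eq_of_val (d : Fin 4 → F) (hd : ∀ k, d k ≠ 0) (y : GL (Fin 4) F)
    (h : (y : Matrix (Fin 4) (Fin 4) F) = Matrix.diagonal d) : dg4 d hd = y := by
  apply Units.ext
  rw [dg4_val, h]

theorem pat1_mem (hi2 : i ^ 2 = -1) (u v : F) (hu : IsPM u) (hv : IsPM v)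
    (hd : ∀ k, (![u, v, u, v] : Fin 4 → F) k ≠ 0) :
    dg4 ![u, v, u, v] hd ∈ Pstd i hi := by
  rcases hu with rfl | rfl <;> rcases hv with rfl | rfl
  · have : dg4 ![(1 : F), 1, 1, 1] hd = 1 := by
      apply dg4_eq_of_val
      rw [Units.val_one, ← Matrix.diagonal_one]
      congr 1
      funext k
      fin_cases k <;> rfl
    rw [this]
    exact Subgroup.one_mem _
  · have : dg4 ![(1 : F), -1, 1, -1] hd = Z2g := by
      apply dg4_eq_of_val
      rfl
    rw [this]
    exact Z2g_mem i hi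
  · have : dg4 ![(-1 : F), 1, -1, 1] hd = neg4 * Z2g := by
      apply dg4_eq_of_val
      unfold neg4 sc4 Z2g
      rw [Units.val_mul, dg4_val, dg4_val, Matrix.diagonal_mul_diagonal]
      congr 1
      funext k
      fin_cases k <;> simp [z2d]
    rw [this]
    exact Subgroup.mul_mem _ (neg4_mem i hi hi2) (Z2g_mem i hi)
  · have : dg4 ![(-1 : F), -1, -1, -1] hd = neg4 := by
      apply dg4_eq_of_val
      unfold neg4 sc4
      rw [dg4_val]
      congr 1
      funext k
      fin_cases k <;> rfl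
    rw [this]
    exact neg4_mem i hi hi2

theorem pat2_mem (hi2 : i ^ 2 = -1) (u v : F) (hu : IsPM u) (hv : IsPM v)
    (hd : ∀ k, (![u, u, v, v] : Fin 4 → F) k ≠ 0) :
    dg4 ![u, u, v, v] hd ∈ Pstd i hi := by
  rcases hu with rfl | rfl <;> rcases hv with rfl | rfl
  · have : dg4 ![(1 : F), 1, 1, 1] hd = 1 := by
      apply dg4_eq_of_val
      rw [Units.val_one, ← Matrix.diagonal_one]
      congr 1
      funext k
      fin_cases k <;> rfl
    rw [this]
    exact Subgroup.one_mem _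
  · have : dg4 ![(1 : F), 1, -1, -1] hd = Z1g := by
      apply dg4_eq_of_val
      rfl
    rw [this]
    exact Z1g_mem i hi
  · have : dg4 ![(-1 : F), -1, 1, 1] hd = neg4 * Z1g := by
      apply dg4_eq_of_val
      unfold neg4 sc4 Z1g
      rw [Units.val_mul, dg4_val, dg4_val, Matrix.diagonal_mul_diagonal]
      congr 1
      funext k
      fin_cases k <;> simp [z1d]
    rw [this]
    exact Subgroup.mul_mem _ (neg4_mem i hi hi2) (Z1g_mem i hi)
  · have : dg4 ![(-1 : F), -1, -1, -1] hd = neg4 := by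
      apply dg4_eq_of_val
      unfold neg4 sc4
      rw [dg4_val]
      congr 1
      funext k
      fin_cases k <;> rfl
    rw [this]
    exact neg4_mem i hi hi2

/-- sign diagonal matrices normalize the standard group -/
theorem sign_diag_mem_normalizer (hi2 : i ^ 2 = -1) (ε : Fin 4 → F) (hε : ∀ k, IsPM (ε k)) :
    dg4 ε (fun k => (hε k).ne_zero) ∈ Subgroup.normalizer (Pstd i hi : Set (GL (Fin 4) F)) := by
  have h1 : ∀ k, (![ε 0 * ε 2, ε 1 * ε 3, ε 0 * ε 2, ε 1 * ε 3] : Fin 4 → F) k ≠ 0 := by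
    intro k
    fin_cases k
    · exact ((hε 0).mul (hε 2)).ne_zero
    · exact ((hε 1).mul (hε 3)).ne_zero
    · exact ((hε 0).mul (hε 2)).ne_zero
    · exact ((hε 1).mul (hε 3)).ne_zero
  have h2 : ∀ k, (![ε 0 * ε 1, ε 0 * ε 1, ε 2 * ε 3, ε 2 * ε 3] : Fin 4 → F) k ≠ 0 := by
    intro k
    fin_cases k
    · exact ((hε 0).mul (hε 1)).ne_zero
    · exact ((hε 0).mul (hε 1)).ne_zero
    · exact ((hε 2).mul (hε 3)).ne_zero
    · exact ((hε 2).mul (hε 3)).ne_zero
  have e0 := (hε 0).mul_self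
  have e1 := (hε 1).mul_self
  have e2 := (hε 2).mul_self
  have e3 := (hε 3).mul_self
  apply mem_normalizer_of_rel i hi _ (dg4 _ h1 * X1g) Z1g (dg4 _ h2 * X2g) Z2g
    (Subgroup.mul_mem _ (pat1_mem i hi hi2 _ _ ((hε 0).mul (hε 2)) ((hε 1).mul (hε 3)) h1)
      (X1g_mem i hi)) (Z1g_mem i hi)
    (Subgroup.mul_mem _ (pat2_mem i hi hi2 _ _ ((hε 0).mul (hε 1)) ((hε 2).mul (hε 3)) h2)
      (X2g_mem i hi)) (Z2g_mem i hi)
  · rw [mul_assoc, X1g_mul_dg4, ← mul_assoc, dg4_mul]
    congr 1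
    apply dg4_congr
    funext k
    fin_cases k
    · show ε 0 = ε 0 * ε 2 * ε 2
      linear_combination (-ε 0) * e2
    · show ε 1 = ε 1 * ε 3 * ε 3
      linear_combination (-ε 1) * e3
    · show ε 2 = ε 0 * ε 2 * ε 0
      linear_combination (-ε 2) * e0
    · show ε 3 = ε 1 * ε 3 * ε 1
      linear_combination (-ε 3) * e1
  · exact dg4_comm _ _ _ _
  · rw [mul_assoc, X2g_mul_dg4, ← mul_assoc, dg4_mul]
    congr 1
    apply dg4_congr
    funext k
    fin_cases k
    · show ε 0 = ε 0 * ε 1 * ε 1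
      linear_combination (-ε 0) * e1
    · show ε 1 = ε 0 * ε 1 * ε 0
      linear_combination (-ε 1) * e0
    · show ε 2 = ε 2 * ε 3 * ε 3
      linear_combination (-ε 2) * e3
    · show ε 3 = ε 2 * ε 3 * ε 2
      linear_combination (-ε 3) * e2
  · exact dg4_comm _ _ _ _

end norm

end Cfsg.Agent.H9.Pauli4
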