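import Mathlib
import Cfsg.Agent.H9.Pauli4J
import Cfsg.Agent.H9.Ex27B

set_option autoImplicit false
set_option linter.style.haveILetI false
set_option linter.unusedSectionVars false

/-! The standard group `4 ∘ 2^{1+4}`: elements with scalar square are conjugate into the
normalizer. -/

namespace Cfsg.Agent.H9.Pauli4

open Matrix Module

section diag

variable {F : Type*} [Field F] {n : ℕ}

/-- a square matrix whose eigenspaces span is diagonalizable -/
theorem exists_diag_of_iSup_fin (M : Matrix (Fin n) (Fin n) F)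
    (h : ⨆ μ, Module.End.eigenspace (Matrix.toLin' M) μ = ⊤) :
    ∃ (k : GL (Fin n) F) (d : Fin n → F),
      M * (k : Matrix (Fin n) (Fin n) F) = (k : Matrix (Fin n) (Fin n) F) * Matrix.diagonal d ∧
      ∀ i, ∃ v : Fin n → F, v ≠ 0 ∧ M *ᵥ v = d i • v := by
  classical
  obtain ⟨b₀, χ₀, hb₀⟩ := Cfsg.Agent.H9.Ex27.exists_eigenbasis_of_iSup (Matrix.toLin' M) h
  have hfr : finrank F (Fin n → F) = n := Module.finrank_fin_fun F
  let b : Basis (Fin n) F (Fin n → F) := b₀.reindex (finCongr hfr)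
  let d : Fin n → F := fun i => χ₀ ((finCongr hfr).symm i)
  have hb : ∀ i, M *ᵥ (b i) = d i • b i := by
    intro i
    have := hb₀ ((finCongr hfr).symm i)
    rw [Matrix.toLin'_apply] at this
    show M *ᵥ (b₀.reindex (finCongr hfr) i) = _
    rw [Basis.reindex_apply]
    exact this
  let kM : Matrix (Fin n) (Fin n) F := (Pi.basisFun F (Fin n)).toMatrix b
  have hkM : ∀ i j, kM i j = b j i := by
    intro i j
    show (Pi.basisFun F (Fin n)).repr (b j) i = b j i
    rw [Pi.basisFun_repr]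
  haveI : Invertible kM := (Pi.basisFun F (Fin n)).invertibleToMatrix b
  refine ⟨unitOfInvertible kM, d, ?_, ?_⟩
  · show M * kM = kM * Matrix.diagonal d
    ext i j
    rw [Matrix.mul_diagonal, Matrix.mul_apply]
    have h1 := congrFun (hb j) i
    rw [Matrix.mulVec, dotProduct] at h1
    simp only [hkM]
    rw [h1, Pi.smul_apply, smul_eq_mul, mul_comm]
  · intro i
    exact ⟨b i, b.ne_zero i, hb i⟩

/-- a matrix with square one is diagonalizable in characteristic not two -/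
theorem iSup_eigenspace_of_sq_fin (h2 : (2 : F) ≠ 0)
    (M : Matrix (Fin n) (Fin n) F) (hM : M * M = 1) :
    ⨆ μ, Module.End.eigenspace (Matrix.toLin' M) μ = ⊤ := by
  rw [eq_top_iff]
  intro v _
  have hMv : ∀ w : Fin n → F, M *ᵥ (M *ᵥ w) = w := by
    intro w
    rw [Matrix.mulVec_mulVec, hM, Matrix.one_mulVec]
  have h1 : (2 : F)⁻¹ • (v + M *ᵥ v) ∈ Module.End.eigenspace (Matrix.toLin' M) 1 := by
    rw [Module.End.mem_eigenspace_iff, Matrix.toLin'_apply, Matrix.mulVec_smul, Matrix.mulVec_add,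
      hMv, one_smul, add_comm]
  have h3 : (2 : F)⁻¹ • (v - M *ᵥ v) ∈ Module.End.eigenspace (Matrix.toLin' M) (-1) := by
    rw [Module.End.mem_eigenspace_iff, Matrix.toLin'_apply, Matrix.mulVec_smul, Matrix.mulVec_sub,
      hMv, neg_smul, one_smul, ← smul_neg, neg_sub]
  have e : v = (2 : F)⁻¹ • (v + M *ᵥ v) + (2 : F)⁻¹ • (v - M *ᵥ v) := by
    rw [← smul_add]
    have : v + M *ᵥ v + (v - M *ᵥ v) = (2 : F) • v := by rw [two_smul]; abel
    rw [this, smul_smul, inv_mul_cancel₀ h2, one_smul]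
  rw [e]
  exact Submodule.add_mem _ (Submodule.mem_iSup_of_mem 1 h1) (Submodule.mem_iSup_of_mem (-1) h3)

end diag

section adjust

variable {F : Type*} [Field F] [Fintype F] [DecidableEq F] (i : F) (hi : i ≠ 0)

/-- adjusting the determinant of a conjugating matrix by elements of the centralizer -/
theorem exists_adjust4 (x n : GL (Fin 4) F) (k₀ : GL (Fin 4) F) (hk : k₀⁻¹ * x * k₀ = n)
    (hcomm : ∀ μ : Fˣ, ∃ c : GL (Fin 4) F, Matrix.GeneralLinearGroup.det c = μ ∧ c * n = n * c)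
    (δ : Fˣ) :
    ∃ k : GL (Fin 4) F, Matrix.GeneralLinearGroup.det k = δ ∧ k⁻¹ * x * k = n := by
  obtain ⟨T, hTdet, hT⟩ := hcomm (δ * (Matrix.GeneralLinearGroup.det k₀)⁻¹)
  refine ⟨k₀ * T, ?_, ?_⟩
  · rw [map_mul, hTdet, mul_comm δ, mul_inv_cancel_left]
  · calc (k₀ * T)⁻¹ * x * (k₀ * T) = T⁻¹ * (k₀⁻¹ * x * k₀) * T := by group
      _ = T⁻¹ * n * T := by rw [hk]
      _ = T⁻¹ * (T * n) := by rw [hT]; group
      _ = n := by group

theorem det_dg4 (d : Fin 4 → F) (hd : ∀ k, d k ≠ 0) :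
    ((Matrix.GeneralLinearGroup.det (dg4 d hd) : Fˣ) : F) = d 0 * d 1 * d 2 * d 3 := by
  rw [Matrix.GeneralLinearGroup.val_det_apply, dg4_val, Matrix.det_diagonal, Fin.prod_univ_four]

/-- the diagonal matrix `diag(t, 1, 1, 1)` -/
def tdiag (t : Fˣ) : GL (Fin 4) F := dg4 ![(t : F), 1, 1, 1] (by
  intro k; fin_cases k
  · exact t.ne_zero
  · exact one_ne_zero
  · exact one_ne_zero
  · exact one_ne_zero)

theorem det_tdiag (t : Fˣ) : Matrix.GeneralLinearGroup.det (tdiag t) = t := by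
  apply Units.ext
  unfold tdiag
  rw [det_dg4]
  simp

/-- elements with scalar square, the scalar being a square, are conjugate into the normalizer -/
theorem conj_sq4 (h2 : (2 : F) ≠ 0) (hi2 : i ^ 2 = -1)
    (x : GL (Fin 4) F) (c : F) (hc0 : c ≠ 0)
    (hx : (x : Matrix (Fin 4) (Fin 4) F) * x = (c ^ 2) • (1 : Matrix (Fin 4) (Fin 4) F))
    (δ : Fˣ) :
    ∃ k : GL (Fin 4) F, Matrix.GeneralLinearGroup.det k = δ ∧
      k⁻¹ * x * k ∈ Subgroup.normalizer (Pstd i hi : Set (GL (Fin 4) F)) := by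
  obtain ⟨y, hy⟩ : ∃ y, y = c⁻¹ • (x : Matrix (Fin 4) (Fin 4) F) := ⟨_, rfl⟩
  have hxy : (x : Matrix (Fin 4) (Fin 4) F) = c • y := by
    rw [hy, smul_smul, mul_inv_cancel₀ hc0, one_smul]
  have hy2 : y * y = 1 := by
    rw [hy]
    simp only [Matrix.smul_mul, Matrix.mul_smul, smul_smul]
    rw [hx, smul_smul]
    have : c⁻¹ * c⁻¹ * c ^ 2 = 1 := by field_simp
    rw [this, one_smul]
  obtain ⟨k₀, ε, hkd, hev⟩ := exists_diag_of_iSup_fin y (iSup_eigenspace_of_sq_fin h2 y hy2)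
  have hε : ∀ k, IsPM (ε k) := by
    intro k
    obtain ⟨v, hv0, hv⟩ := hev k
    have h1 : y *ᵥ (y *ᵥ v) = v := by
      rw [Matrix.mulVec_mulVec, hy2, Matrix.one_mulVec]
    rw [hv, Matrix.mulVec_smul, hv, smul_smul] at h1
    have h2' : (ε k * ε k - 1) • v = 0 := by rw [sub_smul, h1, one_smul, sub_self]
    rcases smul_eq_zero.1 h2' with h | h
    · have : (ε k - 1) * (ε k + 1) = 0 := by linear_combination h
      rcases mul_eq_zero.1 this with h' | h'
      · left; linear_combination h'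
      · right; linear_combination h'
    · exact absurd h hv0
  have hE : x * k₀ = k₀ * (sc4 c hc0 * dg4 ε (fun k => (hε k).ne_zero)) := by
    apply Units.ext
    rw [Units.val_mul, Units.val_mul, Units.val_mul, sc4_val, dg4_val, hxy, Matrix.smul_mul, hkd,
      Matrix.smul_mul, Matrix.one_mul, Matrix.mul_smul]
  have hconj : k₀⁻¹ * x * k₀ = sc4 c hc0 * dg4 ε (fun k => (hε k).ne_zero) := by
    rw [mul_assoc, hE, inv_mul_cancel_left]
  obtain ⟨k, hkdet, hkx⟩ := exists_adjust4 x _ k₀ hconj (by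
    intro μ
    refine ⟨tdiag μ, det_tdiag μ, ?_⟩
    unfold tdiag
    rw [← mul_assoc, ← sc4_comm, mul_assoc, mul_assoc, dg4_comm]) δ
  refine ⟨k, hkdet, ?_⟩
  rw [hkx]
  exact Subgroup.mul_mem _ (sc4_mem_normalizer i hi c hc0) (sign_diag_mem_normalizer i hi hi2 ε hε)

end adjust

end Cfsg.Agent.H9.Pauli4
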