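import Mathlib
import Cfsg.Agent.H9.Pauli4K

set_option autoImplicit false
set_option linter.style.haveILetI false
set_option linter.unusedSectionVars false
set_option linter.unreachableTactic false
set_option linter.unusedTactic false

/-! The standard group `4 ∘ 2^{1+4}`: explicit elements of orders three and five in the
normalizer. -/

namespace Cfsg.Agent.H9.Pauli4

open Matrix

section mk

variable {F : Type*} [Field F]

/-- an invertible matrix from an inverse up to a scalar -/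
def glOfMul (M N : Matrix (Fin 4) (Fin 4) F) (c : F) (hc : c ≠ 0)
    (h1 : M * N = c • (1 : Matrix (Fin 4) (Fin 4) F))
    (h2 : N * M = c • (1 : Matrix (Fin 4) (Fin 4) F)) : GL (Fin 4) F :=
  ⟨M, c⁻¹ • N, by rw [Matrix.mul_smul, h1, smul_smul, inv_mul_cancel₀ hc, one_smul],
    by rw [Matrix.smul_mul, h2, smul_smul, inv_mul_cancel₀ hc, one_smul]⟩

@[simp] theorem glOfMul_val (M N : Matrix (Fin 4) (Fin 4) F) (c : F) (hc : c ≠ 0)
    (h1 : M * N = c • (1 : Matrix (Fin 4) (Fin 4) F))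
    (h2 : N * M = c • (1 : Matrix (Fin 4) (Fin 4) F)) :
    ((glOfMul M N c hc h1 h2 : GL (Fin 4) F) : Matrix (Fin 4) (Fin 4) F) = M := rfl

theorem Z1g_val : ((Z1g : GL (Fin 4) F) : Matrix (Fin 4) (Fin 4) F) = Matrix.diagonal z1d := rfl

theorem Z2g_val : ((Z2g : GL (Fin 4) F) : Matrix (Fin 4) (Fin 4) F) = Matrix.diagonal z2d := rfl

end mk

section three

variable {F : Type*} [Field F]

/-- the permutation matrix of a three-cycle fixing the first basis vector -/
def T3m : Matrix (Fin 4) (Fin 4) F := !![1, 0, 0, 0; 0, 0, 1, 0; 0, 0, 0, 1; 0, 1, 0, 0]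

def T3i : Matrix (Fin 4) (Fin 4) F := !![1, 0, 0, 0; 0, 0, 0, 1; 0, 1, 0, 0; 0, 0, 1, 0]

theorem T3m_mul_T3i : (T3m : Matrix (Fin 4) (Fin 4) F) * T3i = 1 := by
  ext i j
  fin_cases i <;> fin_cases j <;> simp [T3m, T3i, Matrix.mul_apply, Fin.sum_univ_four]

theorem T3i_mul_T3m : (T3i : Matrix (Fin 4) (Fin 4) F) * T3m = 1 := by
  ext i j
  fin_cases i <;> fin_cases j <;> simp [T3m, T3i, Matrix.mul_apply, Fin.sum_univ_four]

theorem T3m_sq : (T3m : Matrix (Fin 4) (Fin 4) F) * T3m = T3i := by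
  ext i j
  fin_cases i <;> fin_cases j <;> simp [T3m, T3i, Matrix.mul_apply, Fin.sum_univ_four]

theorem T3m_X1m : (T3m : Matrix (Fin 4) (Fin 4) F) * X1m = X2m * T3m := by
  ext i j
  fin_cases i <;> fin_cases j <;> simp [T3m, X1m, X2m, Matrix.mul_apply, Fin.sum_univ_four]

theorem T3m_X2m : (T3m : Matrix (Fin 4) (Fin 4) F) * X2m = X1m * X2m * T3m := by
  ext i j
  fin_cases i <;> fin_cases j <;> simp [T3m, X1m, X2m, Matrix.mul_apply, Fin.sum_univ_four]

theorem T3m_Z1 : (T3m : Matrix (Fin 4) (Fin 4) F) * Matrix.diagonal z1d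
    = Matrix.diagonal z1d * Matrix.diagonal z2d * T3m := by
  ext i j
  fin_cases i <;> fin_cases j <;> simp [T3m, z1d, z2d, Matrix.mul_apply, Fin.sum_univ_four]

theorem T3m_Z2 : (T3m : Matrix (Fin 4) (Fin 4) F) * Matrix.diagonal z2d
    = Matrix.diagonal z1d * T3m := by
  ext i j
  fin_cases i <;> fin_cases j <;> simp [T3m, z1d, z2d, Matrix.mul_apply, Fin.sum_univ_four]

/-- the three-cycle as an element of `GL₄` -/
def T3g : GL (Fin 4) F := ⟨T3m, T3i, T3m_mul_T3i, T3i_mul_T3m⟩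

@[simp] theorem T3g_val : ((T3g : GL (Fin 4) F) : Matrix (Fin 4) (Fin 4) F) = T3m := rfl

end three

section threeN

variable {F : Type*} [Field F] [Fintype F] [DecidableEq F] (i : F) (hi : i ≠ 0)

theorem T3g_mem_normalizer :
    (T3g : GL (Fin 4) F) ∈ Subgroup.normalizer (Pstd i hi : Set (GL (Fin 4) F)) := by
  apply mem_normalizer_of_rel i hi _ X2g (Z1g * Z2g) (X1g * X2g) Z1g (X2g_mem i hi)
    (Subgroup.mul_mem _ (Z1g_mem i hi) (Z2g_mem i hi))
    (Subgroup.mul_mem _ (X1g_mem i hi) (X2g_mem i hi)) (Z1g_mem i hi)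
  · apply Units.ext
    simp only [Units.val_mul, T3g_val, X1g_val, X2g_val]
    exact T3m_X1m
  · apply Units.ext
    simp only [Units.val_mul, T3g_val, Z1g_val, Z2g_val]
    exact T3m_Z1
  · apply Units.ext
    simp only [Units.val_mul, T3g_val, X1g_val, X2g_val]
    exact T3m_X2m
  · apply Units.ext
    simp only [Units.val_mul, T3g_val, Z1g_val, Z2g_val]
    exact T3m_Z2

theorem T3g_comm_tdiag (t : Fˣ) : tdiag t * (T3g : GL (Fin 4) F) = T3g * tdiag t := by
  apply Units.ext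
  unfold tdiag
  simp only [Units.val_mul, T3g_val, dg4_val]
  ext a b
  rw [Matrix.diagonal_mul, Matrix.mul_diagonal]
  fin_cases a <;> fin_cases b <;> simp [T3m]

theorem sc4_neg_i_mem (hi2 : i ^ 2 = -1) :
    sc4 (-i) (neg_ne_zero.2 hi) ∈ Pstd i hi := by
  have : sc4 (-i) (neg_ne_zero.2 hi) = neg4 * sc4 i hi := by
    unfold neg4
    rw [sc4_mul]
    unfold sc4
    apply dg4_congr
    funext _
    ring
  rw [this]
  exact Subgroup.mul_mem _ (neg4_mem i hi hi2) (sc4_i_mem i hi)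

end threeN

section threeA

variable {F : Type*} [Field F] (i : F)

/-- twice the element `1 ⊗ g` of order three -/
def Gam : Matrix (Fin 4) (Fin 4) F :=
  !![-1 - i, 1 - i, 0, 0; -1 - i, -1 + i, 0, 0; 0, 0, -1 - i, 1 - i; 0, 0, -1 - i, -1 + i]

theorem Gam_X2m (hi2 : i ^ 2 = -1) : (Gam i : Matrix (Fin 4) (Fin 4) F) * X2m
    = ((-i) • (1 : Matrix (Fin 4) (Fin 4) F)) * X2m * Matrix.diagonal z2d * Gam i := by
  ext a b
  simp only [Matrix.mul_apply, Fin.sum_univ_four, Matrix.smul_apply, Matrix.one_apply,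
    Matrix.diagonal_apply]
  fin_cases a <;> fin_cases b <;> simp [Gam, X2m, z2d] <;>
    first | ring1 | linear_combination hi2 | linear_combination -hi2

theorem Gam_Z2 : (Gam i : Matrix (Fin 4) (Fin 4) F) * Matrix.diagonal z2d = X2m * Gam i := by
  ext a b
  simp only [Matrix.mul_apply, Fin.sum_univ_four, Matrix.diagonal_apply]
  fin_cases a <;> fin_cases b <;> simp [Gam, X2m, z2d] <;> ring1

theorem Gam_X1m : (Gam i : Matrix (Fin 4) (Fin 4) F) * X1m = X1m * Gam i := by
  ext a b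
  simp only [Matrix.mul_apply, Fin.sum_univ_four]
  fin_cases a <;> fin_cases b <;> simp [Gam, X1m]

theorem Gam_Z1 : (Gam i : Matrix (Fin 4) (Fin 4) F) * Matrix.diagonal z1d
    = Matrix.diagonal z1d * Gam i := by
  ext a b
  simp only [Matrix.mul_apply, Fin.sum_univ_four, Matrix.diagonal_apply]
  fin_cases a <;> fin_cases b <;> simp [Gam, z1d]

theorem Gam_sq (hi2 : i ^ 2 = -1) : (Gam i : Matrix (Fin 4) (Fin 4) F) * Gam i + (2 : F) • Gam i
    + (4 : F) • (1 : Matrix (Fin 4) (Fin 4) F) = 0 := by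
  ext a b
  simp only [Matrix.add_apply, Matrix.mul_apply, Fin.sum_univ_four, Matrix.smul_apply,
    Matrix.one_apply, Matrix.zero_apply]
  fin_cases a <;> fin_cases b <;> simp [Gam] <;>
    first | ring1 | linear_combination hi2 | linear_combination -hi2 | linear_combination 2 * hi2

end threeA

end Cfsg.Agent.H9.Pauli4
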