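import Mathlib
import Cfsg.Agent.H9.SemisimpleConj
import Cfsg.Agent.Lib.Helper8.PrimeOrdA
import Cfsg.Agent.Lib.Helper8.PrimeOrdC

set_option autoImplicit false
set_option linter.style.haveILetI false
set_option linter.unusedSectionVars false

/-! Matrices of order three in dimension four when the field has no primitive cube roots of
unity: the two conjugacy classes. -/

namespace Cfsg.Agent.H9.Pauli4

open Matrix Polynomial Cfsg.Agent.Lib.Helper8.PrimeOrd

section poly

universe u

variable {F : Type u} [Field F]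

/-- the polynomial `X² + X + 1` -/
noncomputable def fpoly : F[X] := X ^ 2 + X + 1

theorem fpoly_monic : (fpoly : F[X]).Monic := by
  unfold fpoly
  monicity!

theorem fpoly_natDegree : (fpoly : F[X]).natDegree = 2 := by
  unfold fpoly
  compute_degree!

theorem X_pow_three_sub_one : (X ^ 3 - 1 : F[X]) = (X - 1) * fpoly := by
  unfold fpoly
  ring

theorem fpoly_eval_one : (fpoly : F[X]).eval 1 = 3 := by
  unfold fpoly
  simp
  norm_num

/-- `X² + X + 1` is irreducible when there are no primitive cube roots of unity -/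
theorem fpoly_irreducible (hno : ∀ ω : F, ω ^ 2 + ω + 1 ≠ 0) : Irreducible (fpoly : F[X]) := by
  apply irreducible_of_degree_le_three_of_not_isRoot
  · rw [fpoly_natDegree]
    decide
  · intro x hx
    apply hno x
    unfold fpoly at hx
    simpa using hx

/-- the family `X - 1`, `X² + X + 1` -/
noncomputable def fam3 : Fin 2 → F[X] := ![X - 1, fpoly]

theorem fam3_isFam (hirr : Irreducible (fpoly : F[X])) : IsFam (fam3 : Fin 2 → F[X]) := by
  refine ⟨?_, ?_, ?_⟩
  · intro j
    fin_cases j
    · show (X - 1 : F[X]).Monic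
      have := monic_X_sub_C (1 : F)
      rwa [C_1] at this
    · exact fpoly_monic
  · intro j
    fin_cases j
    · show Irreducible (X - 1 : F[X])
      have := irreducible_X_sub_C (1 : F)
      rwa [C_1] at this
    · exact hirr
  · intro j k hjk
    fin_cases j <;> fin_cases k
    · rfl
    · exfalso
      have h1 : (X - 1 : F[X]) = fpoly := hjk
      have := congrArg natDegree h1
      rw [fpoly_natDegree] at this
      have h2 : (X - 1 : F[X]).natDegree = 1 := by
        have := natDegree_X_sub_C (1 : F)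
        rwa [C_1] at this
      omega
    · exfalso
      have h1 : fpoly = (X - 1 : F[X]) := hjk
      have := congrArg natDegree h1
      rw [fpoly_natDegree] at this
      have h2 : (X - 1 : F[X]).natDegree = 1 := by
        have := natDegree_X_sub_C (1 : F)
        rwa [C_1] at this
      omega
    · rfl

/-- the characteristic polynomial of a matrix of order three -/
theorem charpoly_cases (h3 : (3 : F) ≠ 0) (hirr : Irreducible (fpoly : F[X]))
    (M : Matrix (Fin 4) (Fin 4) F) (hM : M ^ 3 = 1) (hM1 : M ≠ 1) :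
    (aeval M (fpoly : F[X]) = 0 ∧ M.charpoly = fpoly ^ 2) ∨
      (aeval M (fpoly : F[X]) ≠ 0 ∧ M.charpoly = (X - 1) ^ 2 * fpoly) := by
  have hP := fam3_isFam hirr
  have hss : Module.End.IsSemisimple (Matrix.toLin' M) :=
    Cfsg.Agent.H9.SemisimpleConj.isSemisimple_of_pow_eq_one M 3 (by exact_mod_cast h3) hM
  have hX1m : (X - 1 : F[X]).Monic := hP.monic 0
  have hX1i : Irreducible (X - 1 : F[X]) := hP.irred 0
  obtain ⟨e, he⟩ := exists_fe (fam3 : Fin 2 → F[X]) _ M.charpoly rfl (Matrix.charpoly_monic M) (by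
    intro h hm hi hd
    have h1 := dvd_X_pow_sub_one M 3 hM hi hd
    rw [X_pow_three_sub_one] at h1
    rcases (hi.prime.dvd_mul).1 h1 with h2 | h2
    · exact ⟨0, eq_of_monic_of_associated hm hX1m (hi.associated_of_dvd hX1i h2)⟩
    · exact ⟨1, eq_of_monic_of_associated hm fpoly_monic (hi.associated_of_dvd hirr h2)⟩)
  have hfe : fe (fam3 : Fin 2 → F[X]) e = (X - 1) ^ e 0 * fpoly ^ e 1 := by
    unfold fe
    rw [Fin.prod_univ_two]
    rfl
  have hdeg : 4 = e 0 * 1 + e 1 * 2 := by
    have h1 := natDegree_fe hP e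
    rw [← he, Matrix.charpoly_natDegree_eq_dim, Fintype.card_fin, Fin.sum_univ_two] at h1
    have h2 : (fam3 0 : F[X]).natDegree = 1 := by
      show (X - 1 : F[X]).natDegree = 1
      have := natDegree_X_sub_C (1 : F)
      rwa [C_1] at this
    have h3' : (fam3 1 : F[X]).natDegree = 2 := fpoly_natDegree
    rw [h2, h3'] at h1
    exact h1
  rw [hfe] at he
  have hcases : (e 0 = 4 ∧ e 1 = 0) ∨ (e 0 = 2 ∧ e 1 = 1) ∨ (e 0 = 0 ∧ e 1 = 2) := by omega
  rcases hcases with ⟨h0, h1⟩ | ⟨h0, h1⟩ | ⟨h0, h1⟩
  · exfalso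
    apply hM1
    apply eq_one_of_semisimple M hss 4
    rw [he, h0, h1, pow_zero, mul_one]
  · right
    rw [h0, h1, pow_one] at he
    refine ⟨?_, he⟩
    intro h0'
    have hd : (X - 1 : F[X]) ∣ M.charpoly := by
      rw [he]
      exact Dvd.dvd.mul_right (dvd_pow_self _ (by norm_num)) _
    have h2 := dvd_of_aeval_eq_zero M fpoly h0' hX1i hd
    have h4 : (X - C (1 : F)) ∣ fpoly := by rwa [C_1]
    rw [dvd_iff_isRoot, IsRoot.def, fpoly_eval_one] at h4
    exact h3 h4
  · left
    rw [h0, h1, pow_zero, one_mul] at he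
    refine ⟨?_, he⟩
    apply aeval_eq_zero_of_semisimple M hss fpoly 2
    rw [he]

end poly

end Cfsg.Agent.H9.Pauli4
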