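import Mathlib
import Cfsg.Agent.H9.Pauli4L
import Cfsg.Agent.H9.Pauli4M

set_option autoImplicit false
set_option linter.style.haveILetI false
set_option linter.unusedSectionVars false
set_option linter.unreachableTactic false
set_option linter.unusedTactic false

/-! The standard group `4 ∘ 2^{1+4}`: elements of order three are conjugate into the normalizer
when the field has no primitive cube roots of unity. -/

namespace Cfsg.Agent.H9.Pauli4

open Matrix Polynomial

section cent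

variable {F : Type*} [Field F] (i : F)

/-- matrices commuting with `1 ⊗ g`, acting on the first two coordinates -/
def Cab (a b : F) : Matrix (Fin 4) (Fin 4) F :=
  !![a + b * (-1 - i), b * (1 - i), 0, 0; b * (-1 - i), a + b * (-1 + i), 0, 0; 0, 0, 1, 0;
    0, 0, 0, 1]

theorem det_Cab (hi2 : i ^ 2 = -1) (a b : F) :
    Matrix.det (Cab i a b) = (a - b) ^ 2 + 3 * b ^ 2 := by
  simp [Cab, Matrix.det_succ_row_zero, Fin.sum_univ_succ, Fin.succAbove]
  linear_combination (- b ^ 2 - b ^ 2) * hi2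

theorem Cab_mul_Gam (a b : F) : Cab i a b * Gam i = Gam i * Cab i a b := by
  ext x y
  simp only [Matrix.mul_apply, Fin.sum_univ_four]
  fin_cases x <;> fin_cases y <;> simp [Gam, Cab] <;> ring1

end cent

section gag

variable {F : Type*} [Field F] [Fintype F] [DecidableEq F] (i : F) (hi : i ≠ 0)

theorem four_ne_zero_of (h2 : (2 : F) ≠ 0) : (-4 : F) ≠ 0 := by
  have : (-4 : F) = -(2 * 2) := by norm_num
  rw [this]
  exact neg_ne_zero.2 (mul_ne_zero h2 h2)

/-- twice the element `1 ⊗ g`, as an element of `GL₄` -/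
def Gag (h2 : (2 : F) ≠ 0) (hi2 : i ^ 2 = -1) : GL (Fin 4) F :=
  glOfMul (Gam i) (Gam i + (2 : F) • (1 : Matrix (Fin 4) (Fin 4) F)) (-4) (four_ne_zero_of h2)
    (by
      have := Gam_sq i hi2
      rw [Matrix.mul_add, Matrix.mul_smul, Matrix.mul_one]
      rw [neg_smul]
      exact eq_neg_of_add_eq_zero_left this)
    (by
      have := Gam_sq i hi2
      rw [Matrix.add_mul, Matrix.smul_mul, Matrix.one_mul]
      rw [neg_smul]
      exact eq_neg_of_add_eq_zero_left this)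

theorem Gag_val (h2 : (2 : F) ≠ 0) (hi2 : i ^ 2 = -1) :
    ((Gag i h2 hi2 : GL (Fin 4) F) : Matrix (Fin 4) (Fin 4) F) = Gam i := rfl

theorem Gag_mem_normalizer (h2 : (2 : F) ≠ 0) (hi2 : i ^ 2 = -1) :
    Gag i h2 hi2 ∈ Subgroup.normalizer (Pstd i hi : Set (GL (Fin 4) F)) := by
  apply mem_normalizer_of_rel i hi _ X1g Z1g (sc4 (-i) (neg_ne_zero.2 hi) * X2g * Z2g) X2g
    (X1g_mem i hi) (Z1g_mem i hi)
    (Subgroup.mul_mem _ (Subgroup.mul_mem _ (sc4_neg_i_mem i hi hi2) (X2g_mem i hi)) (Z2g_mem i hi))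
    (X2g_mem i hi)
  · apply Units.ext
    simp only [Units.val_mul, Gag_val, X1g_val]
    exact Gam_X1m i
  · apply Units.ext
    simp only [Units.val_mul, Gag_val, Z1g_val]
    exact Gam_Z1 i
  · apply Units.ext
    simp only [Units.val_mul, Gag_val, X2g_val, Z2g_val, sc4_val]
    exact Gam_X2m i hi2
  · apply Units.ext
    simp only [Units.val_mul, Gag_val, X2g_val, Z2g_val]
    exact Gam_Z2 i

/-- the element `1 ⊗ g` of order three -/
def G3g (h2 : (2 : F) ≠ 0) (hi2 : i ^ 2 = -1) : GL (Fin 4) F :=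
  sc4 (2⁻¹) (inv_ne_zero h2) * Gag i h2 hi2

theorem G3g_val (h2 : (2 : F) ≠ 0) (hi2 : i ^ 2 = -1) :
    ((G3g i h2 hi2 : GL (Fin 4) F) : Matrix (Fin 4) (Fin 4) F) = (2⁻¹ : F) • Gam i := by
  unfold G3g
  rw [Units.val_mul, sc4_val, Gag_val, Matrix.smul_mul, Matrix.one_mul]

theorem G3g_mem_normalizer (h2 : (2 : F) ≠ 0) (hi2 : i ^ 2 = -1) :
    G3g i h2 hi2 ∈ Subgroup.normalizer (Pstd i hi : Set (GL (Fin 4) F)) :=
  Subgroup.mul_mem _ (sc4_mem_normalizer i hi _ _) (Gag_mem_normalizer i hi h2 hi2)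

theorem aeval_G3 (h2 : (2 : F) ≠ 0) (hi2 : i ^ 2 = -1) :
    aeval ((2⁻¹ : F) • Gam i) (fpoly : F[X]) = 0 := by
  unfold fpoly
  rw [map_add, map_add, map_pow, aeval_X, map_one, pow_two, Matrix.smul_mul, Matrix.mul_smul,
    smul_smul]
  have h := Gam_sq i hi2
  have h4 : (2⁻¹ : F) * 2⁻¹ * 4 = 1 := by
    have : (4 : F) = 2 * 2 := by norm_num
    rw [this]
    field_simp
  have h5 : (2⁻¹ : F) * 2⁻¹ * 2 = 2⁻¹ := by field_simp
  calc ((2⁻¹ : F) * 2⁻¹) • (Gam i * Gam i) + (2⁻¹ : F) • Gam i + 1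
      = ((2⁻¹ : F) * 2⁻¹) • (Gam i * Gam i + (2 : F) • Gam i
        + (4 : F) • (1 : Matrix (Fin 4) (Fin 4) F)) := by
        rw [smul_add, smul_add, smul_smul, smul_smul, h4, h5, one_smul]
    _ = 0 := by rw [h, smul_zero]

/-- every unit is the determinant of an element commuting with `1 ⊗ g` -/
theorem exists_comm_G3g (h2 : (2 : F) ≠ 0) (h3 : (3 : F) ≠ 0) (hi2 : i ^ 2 = -1)
    (hodd : Fintype.card F % 2 = 1) (μ : Fˣ) :
    ∃ c : GL (Fin 4) F, Matrix.GeneralLinearGroup.det c = μ ∧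
      c * G3g i h2 hi2 = G3g i h2 hi2 * c := by
  obtain ⟨u, v, huv⟩ := FiniteField.exists_root_sum_quadratic (R := F)
    (f := (X : F[X]) ^ 2) (g := C (3 : F) * X ^ 2 - C (μ : F)) (by simp)
    (by
      rw [degree_sub_C (by rw [degree_C_mul_X_pow 2 h3]; norm_num), degree_C_mul_X_pow 2 h3]
      rfl) hodd
  simp only [eval_pow, eval_X, eval_sub, eval_mul, eval_C] at huv
  have hdet : Matrix.det (Cab i (u + v) v) = (μ : F) := by
    rw [det_Cab i hi2]
    linear_combination huv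
  have hdet0 : Matrix.det (Cab i (u + v) v) ≠ 0 := by
    rw [hdet]
    exact μ.ne_zero
  refine ⟨Matrix.GeneralLinearGroup.mkOfDetNeZero (Cab i (u + v) v) hdet0, ?_, ?_⟩
  · apply Units.ext
    rw [Matrix.GeneralLinearGroup.val_det_apply]
    exact hdet
  · unfold G3g
    rw [← mul_assoc, ← sc4_comm, mul_assoc, mul_assoc]
    congr 1
    apply Units.ext
    rw [Units.val_mul, Units.val_mul, Gag_val]
    exact Cab_mul_Gam i _ _

end gag

end Cfsg.Agent.H9.Pauli4
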