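import Mathlib
import Cfsg.Agent.H9.Pauli4N

set_option autoImplicit false
set_option linter.style.haveILetI false
set_option linter.unusedSectionVars false

/-! The standard group `4 ∘ 2^{1+4}`: elements of order three are conjugate into the normalizer
when the field has no primitive cube roots of unity. -/

namespace Cfsg.Agent.H9.Pauli4

open Matrix Polynomial

section conj

universe u

variable {F : Type u} [Field F] [Fintype F] [DecidableEq F] (i : F) (hi : i ≠ 0)

/-- semisimple elements of `GL₄` with the same characteristic polynomial are conjugate -/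
theorem exists_conj_of_charpoly (x n : GL (Fin 4) F)
    (hx : Module.End.IsSemisimple (Matrix.toLin' (x : Matrix (Fin 4) (Fin 4) F)))
    (hn : Module.End.IsSemisimple (Matrix.toLin' (n : Matrix (Fin 4) (Fin 4) F)))
    (hc : (x : Matrix (Fin 4) (Fin 4) F).charpoly = (n : Matrix (Fin 4) (Fin 4) F).charpoly) :
    ∃ k₀ : GL (Fin 4) F, k₀⁻¹ * x * k₀ = n := by
  obtain ⟨P, hP⟩ := Cfsg.Agent.H9.SemisimpleConj.exists_gl_conj _ _ hx hn hc
  refine ⟨P⁻¹, ?_⟩
  rw [inv_inv, mul_inv_eq_iff_eq_mul]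
  apply Units.ext
  rw [Units.val_mul, Units.val_mul]
  exact hP

theorem val_pow_three (x : GL (Fin 4) F) (hx : x ^ 3 = 1) :
    (x : Matrix (Fin 4) (Fin 4) F) ^ 3 = 1 := by
  rw [← Units.val_pow_eq_pow_val, hx, Units.val_one]

/-- elements of order three are conjugate into the normalizer of the standard group, by
matrices of any determinant -/
theorem conj_cube4 (h2 : (2 : F) ≠ 0) (h3 : (3 : F) ≠ 0) (hi2 : i ^ 2 = -1)
    (hodd : Fintype.card F % 2 = 1) (hno : ∀ ω : F, ω ^ 2 + ω + 1 ≠ 0)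
    (x : GL (Fin 4) F) (hx : x ^ 3 = 1) (hx1 : x ≠ 1) (δ : Fˣ) :
    ∃ k : GL (Fin 4) F, Matrix.GeneralLinearGroup.det k = δ ∧
      k⁻¹ * x * k ∈ Subgroup.normalizer (Pstd i hi : Set (GL (Fin 4) F)) := by
  have hirr : Irreducible (fpoly : F[X]) := fpoly_irreducible hno
  have h3' : ((3 : ℕ) : F) ≠ 0 := by exact_mod_cast h3
  have hxm := val_pow_three x hx
  have hxm1 : (x : Matrix (Fin 4) (Fin 4) F) ≠ 1 := by
    intro h
    apply hx1
    apply Units.ext
    rw [h, Units.val_one]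
  have hxss := Cfsg.Agent.H9.SemisimpleConj.isSemisimple_of_pow_eq_one _ 3 h3' hxm
  rcases charpoly_cases h3 hirr _ hxm hxm1 with ⟨hx0, hxc⟩ | ⟨hx0, hxc⟩
  · -- the class of `1 ⊗ g`
    have hG0 : aeval ((G3g i h2 hi2 : GL (Fin 4) F) : Matrix (Fin 4) (Fin 4) F) (fpoly : F[X]) = 0 := by
      rw [G3g_val]
      exact aeval_G3 i h2 hi2
    have hG3 : ((G3g i h2 hi2 : GL (Fin 4) F) : Matrix (Fin 4) (Fin 4) F) ^ 3 = 1 := by
      have h1 : aeval ((G3g i h2 hi2 : GL (Fin 4) F) : Matrix (Fin 4) (Fin 4) F)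
          (X ^ 3 - 1 : F[X]) = 0 := by
        rw [X_pow_three_sub_one, map_mul, hG0, mul_zero]
      rw [map_sub, map_pow, aeval_X, map_one, sub_eq_zero] at h1
      exact h1
    have hG1 : ((G3g i h2 hi2 : GL (Fin 4) F) : Matrix (Fin 4) (Fin 4) F) ≠ 1 := by
      intro h
      rw [h] at hG0
      unfold fpoly at hG0
      rw [map_add, map_add, map_pow, aeval_X, map_one, one_pow] at hG0
      have := congrFun (congrFun hG0 0) 0
      simp only [Matrix.add_apply, Matrix.one_apply_eq, Matrix.zero_apply] at this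
      apply h3
      linear_combination this
    have hGss := Cfsg.Agent.H9.SemisimpleConj.isSemisimple_of_pow_eq_one _ 3 h3' hG3
    have hGc : ((G3g i h2 hi2 : GL (Fin 4) F) : Matrix (Fin 4) (Fin 4) F).charpoly = fpoly ^ 2 := by
      rcases charpoly_cases h3 hirr _ hG3 hG1 with ⟨_, h⟩ | ⟨h, _⟩
      · exact h
      · exact absurd hG0 h
    obtain ⟨k₀, hk₀⟩ := exists_conj_of_charpoly x (G3g i h2 hi2) hxss hGss (by rw [hxc, hGc])
    obtain ⟨k, hkdet, hkx⟩ := exists_adjust4 x _ k₀ hk₀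
      (exists_comm_G3g i h2 h3 hi2 hodd) δ
    refine ⟨k, hkdet, ?_⟩
    rw [hkx]
    exact G3g_mem_normalizer i hi h2 hi2
  · -- the class of the three-cycle
    have hT3 : ((T3g : GL (Fin 4) F) : Matrix (Fin 4) (Fin 4) F) ^ 3 = 1 := by
      rw [T3g_val, pow_succ, pow_two, T3m_sq, T3i_mul_T3m]
    have hT1 : ((T3g : GL (Fin 4) F) : Matrix (Fin 4) (Fin 4) F) ≠ 1 := by
      intro h
      have := congrFun (congrFun h 1) 1
      simp [T3m] at this
    have hT0 : aeval ((T3g : GL (Fin 4) F) : Matrix (Fin 4) (Fin 4) F) (fpoly : F[X]) ≠ 0 := by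
      intro h
      unfold fpoly at h
      rw [map_add, map_add, map_pow, aeval_X, map_one, pow_two, T3g_val, T3m_sq] at h
      have := congrFun (congrFun h 0) 0
      simp only [Matrix.add_apply, Matrix.one_apply_eq, Matrix.zero_apply] at this
      simp [T3m, T3i] at this
      apply h3
      linear_combination this
    have hTss := Cfsg.Agent.H9.SemisimpleConj.isSemisimple_of_pow_eq_one _ 3 h3' hT3
    have hTc : ((T3g : GL (Fin 4) F) : Matrix (Fin 4) (Fin 4) F).charpoly
        = (X - 1) ^ 2 * fpoly := by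
      rcases charpoly_cases h3 hirr _ hT3 hT1 with ⟨h, _⟩ | ⟨_, h⟩
      · exact absurd h hT0
      · exact h
    obtain ⟨k₀, hk₀⟩ := exists_conj_of_charpoly x T3g hxss hTss (by rw [hxc, hTc])
    obtain ⟨k, hkdet, hkx⟩ := exists_adjust4 x _ k₀ hk₀
      (fun μ => ⟨tdiag μ, det_tdiag μ, T3g_comm_tdiag μ⟩) δ
    refine ⟨k, hkdet, ?_⟩
    rw [hkx]
    exact T3g_mem_normalizer i hi

end conj

end Cfsg.Agent.H9.Pauli4
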