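import Mathlib
import Cfsg.Agent.H9.Pauli4L

set_option autoImplicit false
set_option linter.style.haveILetI false
set_option linter.unusedSectionVars false
set_option linter.unreachableTactic false
set_option linter.unusedTactic false

/-! The standard group `4 ∘ 2^{1+4}`: an explicit element of order five in the normalizer. -/

namespace Cfsg.Agent.H9.Pauli4

open Matrix

section five

variable {F : Type*} [Field F] (i : F)

/-- twice an element of order five of the normalizer -/
def M5m : Matrix (Fin 4) (Fin 4) F :=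
  !![-i, -i, 1, -1; -i, i, 1, 1; -i, -i, -1, 1; -i, i, -1, -1]

/-- four times the inverse of `M5m` -/
def M5i : Matrix (Fin 4) (Fin 4) F :=
  !![i, i, i, i; i, -i, i, -i; 1, 1, -1, -1; -1, 1, 1, -1]

/-- half the square of `M5m` -/
def M5s : Matrix (Fin 4) (Fin 4) F :=
  !![-1, -i, -i, 1; -i, -1, -1, i; -1, i, -i, -1; i, -1, 1, i]

theorem M5m_mul_M5i (hi2 : i ^ 2 = -1) :
    (M5m i : Matrix (Fin 4) (Fin 4) F) * M5i i = (4 : F) • (1 : Matrix (Fin 4) (Fin 4) F) := by
  ext a b
  simp only [Matrix.mul_apply, Fin.sum_univ_four, Matrix.smul_apply, Matrix.one_apply]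
  fin_cases a <;> fin_cases b <;> simp [M5m, M5i] <;>
    first | ring1 | linear_combination hi2 | linear_combination -hi2 | linear_combination 2 * hi2 | linear_combination (-2) * hi2 | linear_combination 4 * hi2 | linear_combination (-4) * hi2 | linear_combination 6 * hi2 | linear_combination (-6) * hi2 | linear_combination 3 * hi2 | linear_combination (-3) * hi2 | linear_combination 8 * hi2 | linear_combination (-8) * hi2

theorem M5i_mul_M5m (hi2 : i ^ 2 = -1) :
    (M5i i : Matrix (Fin 4) (Fin 4) F) * M5m i = (4 : F) • (1 : Matrix (Fin 4) (Fin 4) F) := by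
  ext a b
  simp only [Matrix.mul_apply, Fin.sum_univ_four, Matrix.smul_apply, Matrix.one_apply]
  fin_cases a <;> fin_cases b <;> simp [M5m, M5i] <;>
    first | ring1 | linear_combination hi2 | linear_combination -hi2 | linear_combination 2 * hi2 | linear_combination (-2) * hi2 | linear_combination 4 * hi2 | linear_combination (-4) * hi2 | linear_combination 6 * hi2 | linear_combination (-6) * hi2 | linear_combination 3 * hi2 | linear_combination (-3) * hi2 | linear_combination 8 * hi2 | linear_combination (-8) * hi2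

theorem M5m_sq (hi2 : i ^ 2 = -1) :
    (M5m i : Matrix (Fin 4) (Fin 4) F) * M5m i = (2 : F) • M5s i := by
  ext a b
  simp only [Matrix.mul_apply, Fin.sum_univ_four, Matrix.smul_apply]
  fin_cases a <;> fin_cases b <;> simp [M5m, M5s] <;>
    first | ring1 | linear_combination hi2 | linear_combination -hi2 | linear_combination 2 * hi2 | linear_combination (-2) * hi2 | linear_combination 4 * hi2 | linear_combination (-4) * hi2 | linear_combination 6 * hi2 | linear_combination (-6) * hi2 | linear_combination 3 * hi2 | linear_combination (-3) * hi2 | linear_combination 8 * hi2 | linear_combination (-8) * hi2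

theorem M5s_sq (hi2 : i ^ 2 = -1) :
    (M5s i : Matrix (Fin 4) (Fin 4) F) * M5s i = (2 : F) • M5i i := by
  ext a b
  simp only [Matrix.mul_apply, Fin.sum_univ_four, Matrix.smul_apply]
  fin_cases a <;> fin_cases b <;> simp [M5i, M5s] <;>
    first | ring1 | linear_combination hi2 | linear_combination -hi2 | linear_combination 2 * hi2 | linear_combination (-2) * hi2 | linear_combination 4 * hi2 | linear_combination (-4) * hi2 | linear_combination 6 * hi2 | linear_combination (-6) * hi2 | linear_combination 3 * hi2 | linear_combination (-3) * hi2 | linear_combination 8 * hi2 | linear_combination (-8) * hi2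

theorem M5m_X1m (hi2 : i ^ 2 = -1) : (M5m i : Matrix (Fin 4) (Fin 4) F) * X1m
    = ((-i) • (1 : Matrix (Fin 4) (Fin 4) F)) * X1m * Matrix.diagonal z1d * X2m * M5m i := by
  ext a b
  simp only [Matrix.mul_apply, Fin.sum_univ_four, Matrix.smul_apply, Matrix.one_apply,
    Matrix.diagonal_apply]
  fin_cases a <;> fin_cases b <;> simp [M5m, X1m, X2m, z1d] <;>
    first | ring1 | linear_combination hi2 | linear_combination -hi2

theorem M5m_Z1 : (M5m i : Matrix (Fin 4) (Fin 4) F) * Matrix.diagonal z1d = X1m * M5m i := by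
  ext a b
  simp only [Matrix.mul_apply, Fin.sum_univ_four, Matrix.diagonal_apply]
  fin_cases a <;> fin_cases b <;> simp [M5m, X1m, z1d]

theorem M5m_X2m : (M5m i : Matrix (Fin 4) (Fin 4) F) * X2m
    = X1m * Matrix.diagonal z2d * M5m i := by
  ext a b
  simp only [Matrix.mul_apply, Fin.sum_univ_four, Matrix.diagonal_apply]
  fin_cases a <;> fin_cases b <;> simp [M5m, X1m, X2m, z2d]

theorem M5m_Z2 : (M5m i : Matrix (Fin 4) (Fin 4) F) * Matrix.diagonal z2d = X2m * M5m i := by
  ext a b
  simp only [Matrix.mul_apply, Fin.sum_univ_four, Matrix.diagonal_apply]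
  fin_cases a <;> fin_cases b <;> simp [M5m, X2m, z2d]

end five

section fiveN

variable {F : Type*} [Field F] [Fintype F] [DecidableEq F] (i : F) (hi : i ≠ 0)

theorem four_ne_zero_of' (h2 : (2 : F) ≠ 0) : (4 : F) ≠ 0 := by
  have : (4 : F) = 2 * 2 := by norm_num
  rw [this]
  exact mul_ne_zero h2 h2

/-- twice the element of order five, as an element of `GL₄` -/
def M5g (h2 : (2 : F) ≠ 0) (hi2 : i ^ 2 = -1) : GL (Fin 4) F :=
  glOfMul (M5m i) (M5i i) 4 (four_ne_zero_of' h2) (M5m_mul_M5i i hi2) (M5i_mul_M5m i hi2)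

theorem M5g_val (h2 : (2 : F) ≠ 0) (hi2 : i ^ 2 = -1) :
    ((M5g i h2 hi2 : GL (Fin 4) F) : Matrix (Fin 4) (Fin 4) F) = M5m i := rfl

theorem M5g_mem_normalizer (h2 : (2 : F) ≠ 0) (hi2 : i ^ 2 = -1) :
    M5g i h2 hi2 ∈ Subgroup.normalizer (Pstd i hi : Set (GL (Fin 4) F)) := by
  apply mem_normalizer_of_rel i hi _ (sc4 (-i) (neg_ne_zero.2 hi) * X1g * Z1g * X2g) X1g
    (X1g * Z2g) X2g
    (Subgroup.mul_mem _ (Subgroup.mul_mem _ (Subgroup.mul_mem _ (sc4_neg_i_mem i hi hi2)
      (X1g_mem i hi)) (Z1g_mem i hi)) (X2g_mem i hi))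
    (X1g_mem i hi) (Subgroup.mul_mem _ (X1g_mem i hi) (Z2g_mem i hi)) (X2g_mem i hi)
  · apply Units.ext
    simp only [Units.val_mul, M5g_val, X1g_val, X2g_val, Z1g_val, sc4_val]
    exact M5m_X1m i hi2
  · apply Units.ext
    simp only [Units.val_mul, M5g_val, X1g_val, Z1g_val]
    exact M5m_Z1 i
  · apply Units.ext
    simp only [Units.val_mul, M5g_val, X1g_val, X2g_val, Z2g_val]
    exact M5m_X2m i
  · apply Units.ext
    simp only [Units.val_mul, M5g_val, X2g_val, Z2g_val]
    exact M5m_Z2 i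

/-- the element of order five -/
def G5g (h2 : (2 : F) ≠ 0) (hi2 : i ^ 2 = -1) : GL (Fin 4) F :=
  sc4 (2⁻¹) (inv_ne_zero h2) * M5g i h2 hi2

theorem G5g_val (h2 : (2 : F) ≠ 0) (hi2 : i ^ 2 = -1) :
    ((G5g i h2 hi2 : GL (Fin 4) F) : Matrix (Fin 4) (Fin 4) F) = (2⁻¹ : F) • M5m i := by
  unfold G5g
  rw [Units.val_mul, sc4_val, M5g_val, Matrix.smul_mul, Matrix.one_mul]

theorem G5g_mem_normalizer (h2 : (2 : F) ≠ 0) (hi2 : i ^ 2 = -1) :
    G5g i h2 hi2 ∈ Subgroup.normalizer (Pstd i hi : Set (GL (Fin 4) F)) :=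
  Subgroup.mul_mem _ (sc4_mem_normalizer i hi _ _) (M5g_mem_normalizer i hi h2 hi2)

theorem M5m_pow_five (hi2 : i ^ 2 = -1) :
    (M5m i : Matrix (Fin 4) (Fin 4) F) ^ 5 = (32 : F) • (1 : Matrix (Fin 4) (Fin 4) F) := by
  have e : (M5m i : Matrix (Fin 4) (Fin 4) F) ^ 5 = (M5m i * M5m i) * (M5m i * M5m i) * M5m i := by
    rw [pow_succ, pow_succ, pow_succ, pow_succ, pow_one]
    simp only [Matrix.mul_assoc]
  rw [e, M5m_sq i hi2, Matrix.smul_mul, Matrix.mul_smul, M5s_sq i hi2, smul_smul, smul_smul,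
    Matrix.smul_mul, M5i_mul_M5m i hi2, smul_smul]
  norm_num

theorem G5g_pow_five (h2 : (2 : F) ≠ 0) (hi2 : i ^ 2 = -1) : (G5g i h2 hi2) ^ 5 = 1 := by
  apply Units.ext
  rw [Units.val_pow_eq_pow_val, G5g_val, smul_pow, M5m_pow_five i hi2, smul_smul, Units.val_one]
  have : (2⁻¹ : F) ^ 5 * 32 = 1 := by
    have : (32 : F) = 2 ^ 5 := by norm_num
    rw [this, ← mul_pow, inv_mul_cancel₀ h2, one_pow]
  rw [this, one_smul]

theorem G5g_ne_one (h2 : (2 : F) ≠ 0) (hi2 : i ^ 2 = -1) : G5g i h2 hi2 ≠ 1 := by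
  intro h
  have h1 := congrArg (fun u : GL (Fin 4) F => (u : Matrix (Fin 4) (Fin 4) F) 0 2) h
  simp only [G5g_val, Units.val_one] at h1
  simp [M5m] at h1
  exact h2 h1

end fiveN

end Cfsg.Agent.H9.Pauli4
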