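import Mathlib
import Cfsg.Agent.H9.SemisimpleConj

set_option autoImplicit false
set_option linter.style.haveILetI false
set_option linter.unusedSectionVars false

/-! Operators of prime order `r` on a space of dimension the order of `q` modulo `r` are
irreducible; elements of order five in dimension four. -/

namespace Cfsg.Agent.H9.Pauli4

open Module Polynomial Cfsg.Agent.H9.IrredOp

section count

variable {F : Type*} [Field F] [Finite F] {V : Type*} [AddCommGroup V] [Module F V]
  [FiniteDimensional F V]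

/-- fixed point congruence for an invariant subspace -/
theorem card_modEq_fixed (u : Module.End F V) (r : ℕ) (hr : r.Prime) (hu : u ^ r = 1)
    (W : Submodule F V) (hW : ∀ w ∈ W, u w ∈ W) :
    Nat.card W ≡ Nat.card (W ⊓ LinearMap.ker (u - 1) : Submodule F V) [MOD r] := by
  classical
  have : Fact r.Prime := ⟨hr⟩
  have : Finite V := Module.finite_of_finite F
  have : Fintype W := Fintype.ofFinite _
  let f : Function.End W := fun w => ⟨u w.1, hW w.1 w.2⟩
  have hfpow : ∀ k : ℕ, ∀ w : W, ((f ^ k) w).1 = (u ^ k) w.1 := by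
    intro k
    induction k with
    | zero => intro w; rfl
    | succ k ih =>
      intro w
      rw [pow_succ', pow_succ']
      change (f ((f ^ k) w)).1 = u ((u ^ k) w.1)
      rw [← ih w]
  have hf : f ^ r ^ 1 = 1 := by
    rw [pow_one]
    funext w
    apply Subtype.ext
    rw [hfpow, hu]
    rfl
  have h := Equiv.Perm.card_fixedPoints_modEq (f := f) hf
  rw [Fintype.card_eq_nat_card, Fintype.card_eq_nat_card] at h
  have e : Function.fixedPoints f ≃ (W ⊓ LinearMap.ker (u - 1) : Submodule F V) :=
    { toFun := fun w => ⟨w.1.1, Submodule.mem_inf.2 ⟨w.1.2, by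
        have h1 : f w.1 = w.1 := w.2
        have h2 : u w.1.1 = w.1.1 := congrArg Subtype.val h1
        rw [LinearMap.mem_ker, LinearMap.sub_apply, h2]
        simp⟩⟩
      invFun := fun w => ⟨⟨w.1, (Submodule.mem_inf.1 w.2).1⟩, by
        have h1 := (Submodule.mem_inf.1 w.2).2
        rw [LinearMap.mem_ker, LinearMap.sub_apply, sub_eq_zero] at h1
        change f ⟨w.1, _⟩ = ⟨w.1, _⟩
        apply Subtype.ext
        exact h1⟩
      left_inv := fun w => rfl
      right_inv := fun w => rfl }
  rw [Nat.card_congr e] at h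
  exact h

/-- an operator of prime order `r` on a space whose dimension is the order of `q` modulo `r`
is irreducible -/
theorem irred_of_order (q : ℕ) (hq : Nat.card F = q) (r d : ℕ) (hr : r.Prime)
    (hord : orderOf (q : ZMod r) = d) (hd : finrank F V = d) (hd0 : 0 < d)
    (u : Module.End F V) (hu : u ^ r = 1) (hu1 : u ≠ 1) : Irred u := by
  have key : ∀ W : Submodule F V, (∀ w ∈ W, u w ∈ W) →
      (q : ZMod r) ^ finrank F W
        = (q : ZMod r) ^ finrank F (W ⊓ LinearMap.ker (u - 1) : Submodule F V) := by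
    intro W hW
    have h := card_modEq_fixed u r hr hu W hW
    have e1 : Nat.card W = q ^ finrank F W := by
      rw [Module.natCard_eq_pow_finrank (K := F) (V := W), hq]
    have e2 : Nat.card (W ⊓ LinearMap.ker (u - 1) : Submodule F V)
        = q ^ finrank F (W ⊓ LinearMap.ker (u - 1) : Submodule F V) := by
      rw [Module.natCard_eq_pow_finrank (K := F)
        (V := (W ⊓ LinearMap.ker (u - 1) : Submodule F V)), hq]
    rw [e1, e2] at h
    have := (ZMod.natCast_eq_natCast_iff _ _ _).2 h
    push_cast at this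
    exact this
  have hqd : (q : ZMod r) ^ d = 1 := by rw [← hord]; exact pow_orderOf_eq_one _
  have hdvd : ∀ m : ℕ, (q : ZMod r) ^ m = 1 → m ≤ d → m = 0 ∨ m = d := by
    intro m hm hle
    have := orderOf_dvd_of_pow_eq_one hm
    rw [hord] at this
    rcases Nat.eq_zero_or_pos m with h | h
    · left; exact h
    · right; exact le_antisymm hle (Nat.le_of_dvd h this)
  -- the fixed space is trivial
  have hker : LinearMap.ker (u - 1) = ⊥ := by
    have h1 := key ⊤ (fun _ _ => Submodule.mem_top)
    rw [finrank_top, hd, hqd, top_inf_eq] at h1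
    have hle : finrank F (LinearMap.ker (u - 1)) ≤ d := by
      rw [← hd]; exact Submodule.finrank_le _
    rcases hdvd _ h1.symm hle with h | h
    · exact Submodule.finrank_eq_zero.1 h
    · exfalso
      apply hu1
      have htop : LinearMap.ker (u - 1) = ⊤ := by
        apply Submodule.eq_top_of_finrank_eq
        rw [h, hd]
      apply LinearMap.ext
      intro v
      have : v ∈ LinearMap.ker (u - 1) := by rw [htop]; exact Submodule.mem_top
      rw [LinearMap.mem_ker, LinearMap.sub_apply, sub_eq_zero] at this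
      rw [this]
  refine ⟨?_, ?_⟩
  · apply Module.nontrivial_of_finrank_pos (R := F)
    rw [hd]; exact hd0
  · intro U hU
    have h1 := key U (fun w hw => hU hw)
    rw [hker, inf_bot_eq, finrank_bot, pow_zero] at h1
    have hle : finrank F U ≤ d := by
      rw [← hd]; exact Submodule.finrank_le _
    rcases hdvd _ h1 hle with h | h
    · left; exact Submodule.finrank_eq_zero.1 h
    · right
      apply Submodule.eq_top_of_finrank_eq
      rw [h, hd]

end count

section five

variable {F : Type*} [Field F] {V : Type*} [AddCommGroup V] [Module F V] [FiniteDimensional F V]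

/-- the fifth cyclotomic polynomial -/
noncomputable def phi5 : F[X] := X ^ 4 + X ^ 3 + X ^ 2 + X + 1

theorem phi5_monic : (phi5 : F[X]).Monic := by
  unfold phi5
  monicity!

theorem phi5_natDegree : (phi5 : F[X]).natDegree = 4 := by
  unfold phi5
  compute_degree!

theorem X_pow_five_sub_one : (X ^ 5 - 1 : F[X]) = (X - 1) * phi5 := by
  unfold phi5
  ring

/-- the minimal polynomial of an irreducible operator of order five in dimension four -/
theorem minpoly_eq_phi5 (u : Module.End F V) (hI : Irred u) (hu : u ^ 5 = 1)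
    (hdim : finrank F V = 4) : minpoly F u = phi5 := by
  have hint : IsIntegral F u := Algebra.IsIntegral.isIntegral u
  have hirr := hI.minpoly_irreducible
  have hdeg : (minpoly F u).natDegree = 4 := by
    rw [← Cfsg.Agent.H9.SemisimpleConj.Irred.charpoly_eq hI, LinearMap.charpoly_natDegree, hdim]
  have hdvd : minpoly F u ∣ (X - 1) * phi5 := by
    rw [← X_pow_five_sub_one]
    apply minpoly.dvd
    rw [map_sub, map_pow, aeval_X, map_one, hu, sub_self]
  rcases (hirr.prime.dvd_mul).1 hdvd with h | h
  · exfalso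
    have h1 : (X - 1 : F[X]) ≠ 0 := by
      have := X_sub_C_ne_zero (1 : F)
      rwa [C_1] at this
    have h2 := natDegree_le_of_dvd h h1
    have h3 : (X - 1 : F[X]).natDegree = 1 := by
      have := natDegree_X_sub_C (1 : F)
      rwa [C_1] at this
    omega
  · exact (eq_of_monic_of_dvd_of_natDegree_le (minpoly.monic hint) phi5_monic h
      (by rw [phi5_natDegree, hdeg])).symm

end five

section mat

open Matrix

variable {F : Type*} [Field F] [Fintype F] [DecidableEq F]

/-- a linear equivalence intertwining two matrices gives a conjugating element of `GL` -/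
theorem exists_gl_of_equiv {ι : Type*} [Fintype ι] [DecidableEq ι] (M N : Matrix ι ι F)
    (φ : (ι → F) ≃ₗ[F] (ι → F))
    (hφ : ∀ v, φ (Matrix.toLin' M v) = Matrix.toLin' N (φ v)) :
    ∃ P : GL ι F, (P : Matrix ι ι F) * M = N * (P : Matrix ι ι F) := by
  have h1 : LinearMap.toMatrix' (φ : (ι → F) →ₗ[F] (ι → F)) *
      LinearMap.toMatrix' (φ.symm : (ι → F) →ₗ[F] (ι → F)) = 1 := by
    rw [← LinearMap.toMatrix'_comp, LinearEquiv.comp_symm, LinearMap.toMatrix'_id]
  have h2 : LinearMap.toMatrix' (φ.symm : (ι → F) →ₗ[F] (ι → F)) *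
      LinearMap.toMatrix' (φ : (ι → F) →ₗ[F] (ι → F)) = 1 := by
    rw [← LinearMap.toMatrix'_comp, LinearEquiv.symm_comp, LinearMap.toMatrix'_id]
  refine ⟨⟨LinearMap.toMatrix' (φ : (ι → F) →ₗ[F] (ι → F)),
    LinearMap.toMatrix' (φ.symm : (ι → F) →ₗ[F] (ι → F)), h1, h2⟩, ?_⟩
  change LinearMap.toMatrix' (φ : (ι → F) →ₗ[F] (ι → F)) * M = N * LinearMap.toMatrix' _
  apply Matrix.toLin'.injective
  rw [Matrix.toLin'_mul, Matrix.toLin'_mul, Matrix.toLin'_toMatrix']
  apply LinearMap.ext
  intro v
  rw [LinearMap.comp_apply, LinearMap.comp_apply]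
  exact hφ v

/-- an element of order five of `GL₄(F)` is irreducible when `|F|` has order four modulo five -/
theorem irred_of_pow_five (q : ℕ) (hq : Nat.card F = q) (hord : orderOf (q : ZMod 5) = 4)
    (x : GL (Fin 4) F) (hx : x ^ 5 = 1) (hx1 : x ≠ 1) :
    Irred (Matrix.toLin' (x : Matrix (Fin 4) (Fin 4) F)) := by
  apply irred_of_order q hq 5 4 Nat.prime_five hord (by rw [Module.finrank_fin_fun]) (by norm_num)
  · rw [← Matrix.toLin'_pow, ← Units.val_pow_eq_pow_val, hx, Units.val_one, Matrix.toLin'_one]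
    rfl
  · intro h
    apply hx1
    apply Units.ext
    rw [Units.val_one]
    apply Matrix.toLin'.injective
    rw [h, Matrix.toLin'_one]
    rfl

/-- two elements of order five of `GL₄(F)` are conjugate when `|F|` has order four modulo five -/
theorem exists_conj_of_pow_five (q : ℕ) (hq : Nat.card F = q) (hord : orderOf (q : ZMod 5) = 4)
    (x n : GL (Fin 4) F) (hx : x ^ 5 = 1) (hx1 : x ≠ 1) (hn : n ^ 5 = 1) (hn1 : n ≠ 1) :
    ∃ k₀ : GL (Fin 4) F, k₀⁻¹ * x * k₀ = n := by
  have hIx := irred_of_pow_five q hq hord x hx hx1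
  have hIn := irred_of_pow_five q hq hord n hn hn1
  have hpx : (Matrix.toLin' (x : Matrix (Fin 4) (Fin 4) F)) ^ 5 = 1 := by
    rw [← Matrix.toLin'_pow, ← Units.val_pow_eq_pow_val, hx, Units.val_one, Matrix.toLin'_one]
    rfl
  have hpn : (Matrix.toLin' (n : Matrix (Fin 4) (Fin 4) F)) ^ 5 = 1 := by
    rw [← Matrix.toLin'_pow, ← Units.val_pow_eq_pow_val, hn, Units.val_one, Matrix.toLin'_one]
    rfl
  have hdim : finrank F (Fin 4 → F) = 4 := Module.finrank_fin_fun F
  have hmin : minpoly F (Matrix.toLin' (x : Matrix (Fin 4) (Fin 4) F))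
      = minpoly F (Matrix.toLin' (n : Matrix (Fin 4) (Fin 4) F)) := by
    rw [minpoly_eq_phi5 _ hIx hpx hdim, minpoly_eq_phi5 _ hIn hpn hdim]
  obtain ⟨φ, hφ⟩ := Cfsg.Agent.H9.SemisimpleConj.exists_equiv_of_irred hIx hIn hmin
  obtain ⟨P, hP⟩ := exists_gl_of_equiv _ _ φ hφ
  refine ⟨P⁻¹, ?_⟩
  rw [inv_inv, mul_inv_eq_iff_eq_mul]
  apply Units.ext
  rw [Units.val_mul, Units.val_mul]
  exact hP

/-- the centralizer of an irreducible element of `GL₄` has elements of all determinants -/
theorem exists_comm_of_irred (n : GL (Fin 4) F)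
    (hI : Irred (Matrix.toLin' (n : Matrix (Fin 4) (Fin 4) F))) (μ : Fˣ) :
    ∃ c : GL (Fin 4) F, Matrix.GeneralLinearGroup.det c = μ ∧ c * n = n * c := by
  obtain ⟨c, hc, hdet⟩ := hI.exists_commute_det (μ : F)
  have hdet' : Matrix.det (LinearMap.toMatrix' c) = (μ : F) := by
    rw [LinearMap.det_toMatrix', hdet]
  have hdet0 : Matrix.det (LinearMap.toMatrix' c) ≠ 0 := by
    rw [hdet']
    exact μ.ne_zero
  refine ⟨Matrix.GeneralLinearGroup.mkOfDetNeZero (LinearMap.toMatrix' c) hdet0, ?_, ?_⟩
  · apply Units.ext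
    rw [Matrix.GeneralLinearGroup.val_det_apply]
    exact hdet'
  · apply Units.ext
    rw [Units.val_mul, Units.val_mul]
    change LinearMap.toMatrix' c * (n : Matrix (Fin 4) (Fin 4) F)
      = (n : Matrix (Fin 4) (Fin 4) F) * LinearMap.toMatrix' c
    apply Matrix.toLin'.injective
    rw [Matrix.toLin'_mul, Matrix.toLin'_mul, Matrix.toLin'_toMatrix']
    exact hc.eq

end mat

end Cfsg.Agent.H9.Pauli4
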