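import Mathlib
import Cfsg.Agent.H9.Pauli4O
import Cfsg.Agent.H9.Pauli4P
import Cfsg.Agent.H9.Pauli4Q

set_option autoImplicit false
set_option linter.style.haveILetI false
set_option linter.unusedSectionVars false
set_option linter.unreachableTactic false
set_option linter.unusedTactic false

/-! The standard group `4 ∘ 2^{1+4}`: elements of order five; explicit elements with no conjugate
in the normalizer. -/

namespace Cfsg.Agent.H9.Pauli4

open Matrix

section five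

variable {F : Type*} [Field F] [Fintype F] [DecidableEq F] (i : F) (hi : i ≠ 0)

/-- elements of order five are conjugate into the normalizer of the standard group, by matrices
of any determinant, when `|F|` has order four modulo five -/
theorem conj_five4 (h2 : (2 : F) ≠ 0) (hi2 : i ^ 2 = -1) (q : ℕ) (hq : Nat.card F = q)
    (hord : orderOf (q : ZMod 5) = 4) (x : GL (Fin 4) F) (hx : x ^ 5 = 1) (hx1 : x ≠ 1) (δ : Fˣ) :
    ∃ k : GL (Fin 4) F, Matrix.GeneralLinearGroup.det k = δ ∧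
      k⁻¹ * x * k ∈ Subgroup.normalizer (Pstd i hi : Set (GL (Fin 4) F)) := by
  obtain ⟨k₀, hk₀⟩ := exists_conj_of_pow_five q hq hord x (G5g i h2 hi2) hx hx1
    (G5g_pow_five i h2 hi2) (G5g_ne_one i h2 hi2)
  obtain ⟨k, hkdet, hkx⟩ := exists_adjust4 x _ k₀ hk₀
    (exists_comm_of_irred _ (irred_of_pow_five q hq hord _ (G5g_pow_five i h2 hi2)
      (G5g_ne_one i h2 hi2))) δ
  refine ⟨k, hkdet, ?_⟩
  rw [hkx]
  exact G5g_mem_normalizer i hi h2 hi2

end five

section transport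

variable {F : Type*} [Field F]

theorem conj_pow_scalar (x k : GL (Fin 4) F) (r : ℕ) (z : F)
    (hz : ((x ^ r : GL (Fin 4) F) : Matrix (Fin 4) (Fin 4) F) = z • (1 : Matrix (Fin 4) (Fin 4) F)) :
    (((k⁻¹ * x * k) ^ r : GL (Fin 4) F) : Matrix (Fin 4) (Fin 4) F)
      = z • (1 : Matrix (Fin 4) (Fin 4) F) := by
  have h1 : (k⁻¹ * x * k) ^ r = k⁻¹ * x ^ r * k := by
    have := conj_pow (a := k⁻¹) (b := x) (i := r)
    rw [inv_inv] at this
    exact this
  rw [h1, Units.val_mul, Units.val_mul, hz, Matrix.mul_smul, Matrix.mul_one, Matrix.smul_mul,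
    Units.inv_mul]

theorem conj_not_scalar (x k : GL (Fin 4) F)
    (hns : ∀ c : F, (x : Matrix (Fin 4) (Fin 4) F) ≠ c • (1 : Matrix (Fin 4) (Fin 4) F)) (c : F) :
    ((k⁻¹ * x * k : GL (Fin 4) F) : Matrix (Fin 4) (Fin 4) F)
      ≠ c • (1 : Matrix (Fin 4) (Fin 4) F) := by
  intro h
  apply hns c
  have h1 : x = k * (k⁻¹ * x * k) * k⁻¹ := by group
  rw [h1, Units.val_mul, Units.val_mul, h, Matrix.mul_smul, Matrix.mul_one, Matrix.smul_mul,
    Units.mul_inv]

theorem trace_conj (x k : GL (Fin 4) F) :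
    Matrix.trace ((k⁻¹ * x * k : GL (Fin 4) F) : Matrix (Fin 4) (Fin 4) F)
      = Matrix.trace (x : Matrix (Fin 4) (Fin 4) F) := by
  rw [Units.val_mul, Units.val_mul]
  exact Matrix.trace_units_conj' k _

theorem trace_conj_inv (x k : GL (Fin 4) F) :
    Matrix.trace (((k⁻¹ * x * k)⁻¹ : GL (Fin 4) F) : Matrix (Fin 4) (Fin 4) F)
      = Matrix.trace ((x⁻¹ : GL (Fin 4) F) : Matrix (Fin 4) (Fin 4) F) := by
  have : (k⁻¹ * x * k)⁻¹ = k⁻¹ * x⁻¹ * k := by group
  rw [this]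
  exact trace_conj x⁻¹ k

end transport

section obstruct

variable {F : Type*} [Field F] [Fintype F] [DecidableEq F] (i : F) (hi : i ≠ 0)

/-- the diagonal element `diag(1, ω, ω, ω)` -/
def x3 (ω : F) (hω0 : ω ≠ 0) : GL (Fin 4) F := dg4 ![1, ω, ω, ω] (by
  intro k; fin_cases k
  · exact one_ne_zero
  · exact hω0
  · exact hω0
  · exact hω0)

theorem x3_pow (ω : F) (hω0 : ω ≠ 0) (hω3 : ω ^ 3 = 1) : (x3 ω hω0) ^ 3 = 1 := by
  apply Units.ext
  unfold x3
  rw [Units.val_pow_eq_pow_val, dg4_val, Matrix.diagonal_pow, Units.val_one, ← Matrix.diagonal_one]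
  congr 1
  funext k
  fin_cases k <;> simp [hω3]

theorem det_x3 (ω : F) (hω0 : ω ≠ 0) (hω3 : ω ^ 3 = 1) :
    Matrix.det ((x3 ω hω0 : GL (Fin 4) F) : Matrix (Fin 4) (Fin 4) F) = 1 := by
  unfold x3
  rw [dg4_val, Matrix.det_diagonal, Fin.prod_univ_four]
  simp
  linear_combination hω3

theorem x3_not_scalar (ω : F) (hω0 : ω ≠ 0) (hω1 : ω ≠ 1) (c : F) :
    ((x3 ω hω0 : GL (Fin 4) F) : Matrix (Fin 4) (Fin 4) F)
      ≠ c • (1 : Matrix (Fin 4) (Fin 4) F) := by
  intro h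
  have h0 := congrFun (congrFun h 0) 0
  have h1 := congrFun (congrFun h 1) 1
  unfold x3 at h0 h1
  simp at h0 h1
  exact hω1 (h1.trans h0.symm)

/-- `diag(1, ω, ω, ω)` has no conjugate in the normalizer of the standard group -/
theorem no_conj_three (h2 : (2 : F) ≠ 0) (h3 : (3 : F) ≠ 0) (hi2 : i ^ 2 = -1)
    (hcard : Nat.card ↥(Pstd i hi) = 64) (ω : F) (hω0 : ω ≠ 0) (hω : ω ^ 2 + ω + 1 = 0)
    (hω1 : ω ≠ 1) (k : GL (Fin 4) F)
    (hk : k⁻¹ * x3 ω hω0 * k ∈ Subgroup.normalizer (Pstd i hi : Set (GL (Fin 4) F))) : False := by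
  have hω3 : ω ^ 3 = 1 := by linear_combination (ω - 1) * hω
  have hz : (((x3 ω hω0) ^ 3 : GL (Fin 4) F) : Matrix (Fin 4) (Fin 4) F)
      = (1 : F) • (1 : Matrix (Fin 4) (Fin 4) F) := by
    rw [x3_pow ω hω0 hω3, Units.val_one, one_smul]
  have h := trace_three i hi h2 hi2 hcard _ hk 1 (conj_pow_scalar _ k 3 1 hz)
    (conj_not_scalar _ k (x3_not_scalar ω hω0 hω1))
  rw [trace_conj, trace_conj_inv] at h
  have ht1 : Matrix.trace ((x3 ω hω0 : GL (Fin 4) F) : Matrix (Fin 4) (Fin 4) F) = 1 + 3 * ω := by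
    unfold x3
    rw [dg4_val, Matrix.trace_diagonal, Fin.sum_univ_four]
    simp
    ring
  have ht2 : Matrix.trace (((x3 ω hω0)⁻¹ : GL (Fin 4) F) : Matrix (Fin 4) (Fin 4) F)
      = 1 + 3 * ω ^ 2 := by
    unfold x3
    rw [dg4_inv, dg4_val, Matrix.trace_diagonal, Fin.sum_univ_four]
    have : ω⁻¹ = ω ^ 2 := by
      apply inv_eq_of_mul_eq_one_right
      linear_combination hω3
    simp [this]
    ring
  rw [ht1, ht2] at h
  have h7 : (1 + 3 * ω) * (1 + 3 * ω ^ 2) = 7 := by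
    linear_combination 9 * hω3 + 3 * hω
  rcases h with h | h
  · have : (2 : F) ^ 3 * 3 = 0 := by linear_combination h - 4 * h7
    rcases mul_eq_zero.1 this with h' | h'
    · exact h2 (pow_eq_zero_iff (by norm_num) |>.1 h')
    · exact h3 h'
  · have : (2 : F) ^ 2 * 3 = 0 := by linear_combination h - 4 * h7
    rcases mul_eq_zero.1 this with h' | h'
    · exact h2 (pow_eq_zero_iff (by norm_num) |>.1 h')
    · exact h3 h'

end obstruct

end Cfsg.Agent.H9.Pauli4
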