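import Mathlib
import Cfsg.Agent.H9.Pauli4R

set_option autoImplicit false
set_option linter.style.haveILetI false
set_option linter.unusedSectionVars false
set_option linter.unreachableTactic false
set_option linter.unusedTactic false

/-! The standard group `4 ∘ 2^{1+4}`: elements of order five with no conjugate in the
normalizer. -/

namespace Cfsg.Agent.H9.Pauli4

open Matrix

section golden

variable {F : Type*} [Field F] (t : F)

/-- an element of order five with eigenvalues `ζ, ζ⁻¹, 1, 1` -/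
def x5m : Matrix (Fin 4) (Fin 4) F := !![0, -1, 0, 0; 1, t, 0, 0; 0, 0, 1, 0; 0, 0, 0, 1]

def x5i : Matrix (Fin 4) (Fin 4) F := !![t, 1, 0, 0; -1, 0, 0, 0; 0, 0, 1, 0; 0, 0, 0, 1]

def x5s : Matrix (Fin 4) (Fin 4) F := !![-1, -t, 0, 0; t, -t, 0, 0; 0, 0, 1, 0; 0, 0, 0, 1]

theorem x5m_mul_x5i : (x5m t : Matrix (Fin 4) (Fin 4) F) * x5i t = 1 := by
  ext a b
  simp only [Matrix.mul_apply, Fin.sum_univ_four]
  fin_cases a <;> fin_cases b <;> simp [x5m, x5i]

theorem x5i_mul_x5m : (x5i t : Matrix (Fin 4) (Fin 4) F) * x5m t = 1 := by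
  ext a b
  simp only [Matrix.mul_apply, Fin.sum_univ_four]
  fin_cases a <;> fin_cases b <;> simp [x5m, x5i]

theorem x5m_sq (ht : t ^ 2 + t - 1 = 0) : (x5m t : Matrix (Fin 4) (Fin 4) F) * x5m t = x5s t := by
  ext a b
  simp only [Matrix.mul_apply, Fin.sum_univ_four]
  fin_cases a <;> fin_cases b <;> simp [x5m, x5s] <;> linear_combination ht

theorem x5s_sq (ht : t ^ 2 + t - 1 = 0) : (x5s t : Matrix (Fin 4) (Fin 4) F) * x5s t = x5i t := by
  ext a b
  simp only [Matrix.mul_apply, Fin.sum_univ_four]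
  fin_cases a <;> fin_cases b <;> simp [x5i, x5s] <;>
    first | linear_combination ht | linear_combination -ht | linear_combination t * ht | linear_combination (-t) * ht | linear_combination (t - 1) * ht | linear_combination (1 - t) * ht | linear_combination (t + 1) * ht | linear_combination (-t - 1) * ht

/-- the element of order five -/
def x5 : GL (Fin 4) F := ⟨x5m t, x5i t, x5m_mul_x5i t, x5i_mul_x5m t⟩

theorem x5_val : ((x5 t : GL (Fin 4) F) : Matrix (Fin 4) (Fin 4) F) = x5m t := rfl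

theorem x5_inv_val : (((x5 t)⁻¹ : GL (Fin 4) F) : Matrix (Fin 4) (Fin 4) F) = x5i t := rfl

theorem x5_pow (ht : t ^ 2 + t - 1 = 0) : (x5 t) ^ 5 = 1 := by
  apply Units.ext
  rw [Units.val_pow_eq_pow_val, x5_val, Units.val_one]
  have e : (x5m t : Matrix (Fin 4) (Fin 4) F) ^ 5 = (x5m t * x5m t) * (x5m t * x5m t) * x5m t := by
    rw [pow_succ, pow_succ, pow_succ, pow_succ, pow_one]
    simp only [Matrix.mul_assoc]
  rw [e, x5m_sq t ht, x5s_sq t ht, x5i_mul_x5m]

theorem det_x5 : Matrix.det ((x5 t : GL (Fin 4) F) : Matrix (Fin 4) (Fin 4) F) = 1 := by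
  rw [x5_val]
  simp [x5m, Matrix.det_succ_row_zero, Fin.sum_univ_succ, Fin.succAbove]

theorem x5_not_scalar (c : F) :
    ((x5 t : GL (Fin 4) F) : Matrix (Fin 4) (Fin 4) F) ≠ c • (1 : Matrix (Fin 4) (Fin 4) F) := by
  intro h
  have h0 := congrFun (congrFun h 1) 0
  rw [x5_val] at h0
  simp [x5m] at h0

end golden

section unip

variable {F : Type*} [Field F]

def xum : Matrix (Fin 4) (Fin 4) F := !![1, 1, 0, 0; 0, 1, 0, 0; 0, 0, 1, 0; 0, 0, 0, 1]

def xui : Matrix (Fin 4) (Fin 4) F := !![1, -1, 0, 0; 0, 1, 0, 0; 0, 0, 1, 0; 0, 0, 0, 1]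

def xun : Matrix (Fin 4) (Fin 4) F := !![0, 1, 0, 0; 0, 0, 0, 0; 0, 0, 0, 0; 0, 0, 0, 0]

theorem xum_mul_xui : (xum : Matrix (Fin 4) (Fin 4) F) * xui = 1 := by
  ext a b
  simp only [Matrix.mul_apply, Fin.sum_univ_four]
  fin_cases a <;> fin_cases b <;> simp [xum, xui]

theorem xui_mul_xum : (xui : Matrix (Fin 4) (Fin 4) F) * xum = 1 := by
  ext a b
  simp only [Matrix.mul_apply, Fin.sum_univ_four]
  fin_cases a <;> fin_cases b <;> simp [xum, xui]

theorem xum_eq : (xum : Matrix (Fin 4) (Fin 4) F) = 1 + xun := by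
  ext a b
  fin_cases a <;> fin_cases b <;> simp [xum, xun]

theorem xun_sq : (xun : Matrix (Fin 4) (Fin 4) F) * xun = 0 := by
  ext a b
  simp only [Matrix.mul_apply, Fin.sum_univ_four]
  fin_cases a <;> fin_cases b <;> simp [xun]

/-- a transvection -/
def xu : GL (Fin 4) F := ⟨xum, xui, xum_mul_xui, xui_mul_xum⟩

theorem xu_val : ((xu : GL (Fin 4) F) : Matrix (Fin 4) (Fin 4) F) = xum := rfl

theorem xu_pow (h5 : (5 : F) = 0) : (xu : GL (Fin 4) F) ^ 5 = 1 := by
  apply Units.ext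
  rw [Units.val_pow_eq_pow_val, xu_val, Units.val_one, xum_eq]
  have e : (1 + xun : Matrix (Fin 4) (Fin 4) F) ^ 5
      = (1 : Matrix (Fin 4) (Fin 4) F) + (5 : F) • (xun : Matrix (Fin 4) (Fin 4) F) := by
    have h2 : (1 + xun : Matrix (Fin 4) (Fin 4) F) * (1 + xun)
        = (1 : Matrix (Fin 4) (Fin 4) F) + (2 : F) • (xun : Matrix (Fin 4) (Fin 4) F) := by
      rw [Matrix.add_mul, Matrix.mul_add, Matrix.mul_add, xun_sq]
      simp only [Matrix.one_mul, Matrix.mul_one]
      rw [add_zero, two_smul]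
      abel
    have h4 : ((1 : Matrix (Fin 4) (Fin 4) F) + (2 : F) • (xun : Matrix (Fin 4) (Fin 4) F))
        * ((1 : Matrix (Fin 4) (Fin 4) F) + (2 : F) • (xun : Matrix (Fin 4) (Fin 4) F))
        = (1 : Matrix (Fin 4) (Fin 4) F) + (4 : F) • (xun : Matrix (Fin 4) (Fin 4) F) := by
      simp only [Matrix.add_mul, Matrix.mul_add, Matrix.smul_mul, Matrix.mul_smul, xun_sq,
        Matrix.one_mul, Matrix.mul_one, smul_zero, add_zero]
      module
    have e5 : (1 + xun : Matrix (Fin 4) (Fin 4) F) ^ 5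
        = ((1 + xun) * (1 + xun)) * ((1 + xun) * (1 + xun)) * (1 + xun) := by
      rw [pow_succ, pow_succ, pow_succ, pow_succ, pow_one]
      simp only [Matrix.mul_assoc]
    rw [e5, h2, h4]
    simp only [Matrix.add_mul, Matrix.mul_add, Matrix.smul_mul, Matrix.mul_smul, xun_sq,
      Matrix.one_mul, Matrix.mul_one, smul_zero, add_zero]
    module
  rw [e, h5, zero_smul, add_zero]

theorem det_xu : Matrix.det ((xu : GL (Fin 4) F) : Matrix (Fin 4) (Fin 4) F) = 1 := by
  rw [xu_val]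
  simp [xum, Matrix.det_succ_row_zero, Fin.sum_univ_succ, Fin.succAbove]

theorem xu_not_scalar (c : F) :
    ((xu : GL (Fin 4) F) : Matrix (Fin 4) (Fin 4) F) ≠ c • (1 : Matrix (Fin 4) (Fin 4) F) := by
  intro h
  have h0 := congrFun (congrFun h 0) 1
  rw [xu_val] at h0
  simp [xum] at h0

end unip

section obstruct5

variable {F : Type*} [Field F] [Fintype F] [DecidableEq F] (i : F) (hi : i ≠ 0)

/-- the element `x5 t` has no conjugate in the normalizer of the standard group -/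
theorem no_conj_five (h2 : (2 : F) ≠ 0) (h5 : (5 : F) ≠ 0) (hi2 : i ^ 2 = -1)
    (hcard : Nat.card ↥(Pstd i hi) = 64) (t : F) (ht : t ^ 2 + t - 1 = 0) (k : GL (Fin 4) F)
    (hk : k⁻¹ * x5 t * k ∈ Subgroup.normalizer (Pstd i hi : Set (GL (Fin 4) F))) : False := by
  have hz : (((x5 t) ^ 5 : GL (Fin 4) F) : Matrix (Fin 4) (Fin 4) F)
      = (1 : F) • (1 : Matrix (Fin 4) (Fin 4) F) := by
    rw [x5_pow t ht, Units.val_one, one_smul]
  have h := trace_five i hi h2 hi2 hcard _ hk 1 (conj_pow_scalar _ k 5 1 hz)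
    (conj_not_scalar _ k (x5_not_scalar t))
  rw [trace_conj, trace_conj_inv, x5_val, x5_inv_val] at h
  have ht1 : Matrix.trace (x5m t) = t + 2 := by
    rw [Matrix.trace, Fin.sum_univ_four]
    simp [x5m]
    ring
  have ht2 : Matrix.trace (x5i t) = t + 2 := by
    rw [Matrix.trace, Fin.sum_univ_four]
    simp [x5i]
    ring
  rw [ht1, ht2] at h
  have h4 : (4 : F) ≠ 0 := four_ne_zero_of' h2
  have h1 : (t + 2) * (t + 2) = 1 := by
    apply (mul_right_inj' h4).1
    linear_combination h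
  -- `3 t + 4 = 0`
  have h3t : 3 * t + 4 = 0 := by linear_combination h1 - ht
  apply h5
  linear_combination (-9 : F) * ht + (3 * t - 1) * h3t

/-- the transvection has no conjugate in the normalizer of the standard group in
characteristic five -/
theorem no_conj_unip (h2 : (2 : F) ≠ 0) (h3 : (3 : F) ≠ 0) (h5 : (5 : F) = 0)
    (hcard : Nat.card ↥(Pstd i hi) = 64) (k : GL (Fin 4) F)
    (hk : k⁻¹ * xu * k ∈ Subgroup.normalizer (Pstd i hi : Set (GL (Fin 4) F))) : False := by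
  have hg5 : (k⁻¹ * xu * k) ^ 5 = 1 := by
    have := conj_pow (a := k⁻¹) (b := (xu : GL (Fin 4) F)) (i := 5)
    rw [inv_inv] at this
    rw [this, xu_pow h5]
    group
  have hN : ((k⁻¹ * xu * k : GL (Fin 4) F) : Matrix (Fin 4) (Fin 4) F)
      = 1 + ((k⁻¹ : GL (Fin 4) F) : Matrix (Fin 4) (Fin 4) F) * xun
        * (k : Matrix (Fin 4) (Fin 4) F) := by
    rw [Units.val_mul, Units.val_mul, xu_val, xum_eq, Matrix.mul_add, Matrix.add_mul,
      Matrix.mul_one, Units.inv_mul]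
  have hN2 : (((k⁻¹ : GL (Fin 4) F) : Matrix (Fin 4) (Fin 4) F) * xun
        * (k : Matrix (Fin 4) (Fin 4) F)) * (((k⁻¹ : GL (Fin 4) F) : Matrix (Fin 4) (Fin 4) F) * xun
        * (k : Matrix (Fin 4) (Fin 4) F)) = 0 := by
    calc (((k⁻¹ : GL (Fin 4) F) : Matrix (Fin 4) (Fin 4) F) * xun
        * (k : Matrix (Fin 4) (Fin 4) F)) * (((k⁻¹ : GL (Fin 4) F) : Matrix (Fin 4) (Fin 4) F) * xun
        * (k : Matrix (Fin 4) (Fin 4) F))
        = ((k⁻¹ : GL (Fin 4) F) : Matrix (Fin 4) (Fin 4) F) * (xun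
          * ((k : Matrix (Fin 4) (Fin 4) F) * ((k⁻¹ : GL (Fin 4) F) : Matrix (Fin 4) (Fin 4) F))
          * xun) * (k : Matrix (Fin 4) (Fin 4) F) := by simp only [Matrix.mul_assoc]
      _ = 0 := by rw [Units.mul_inv, Matrix.mul_one, xun_sq, Matrix.mul_zero, Matrix.zero_mul]
  have h1 := eq_one_of_unipotent i hi h2 h3 hcard _ hk hg5 _ hN hN2
  have h2' : (xu : GL (Fin 4) F) = 1 := by
    calc (xu : GL (Fin 4) F) = k * (k⁻¹ * xu * k) * k⁻¹ := by group
      _ = 1 := by rw [h1]; group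
  apply xu_not_scalar (F := F) 1
  rw [h2', Units.val_one, one_smul]

end obstruct5

end Cfsg.Agent.H9.Pauli4
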