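import Mathlib

set_option autoImplicit false
set_option linter.style.haveILetI false
set_option linter.unusedSectionVars false

/-! Arithmetic for the normalizer of `4 ∘ 2^{1+4}` in `SL₄(p)`: cube roots of unity and the
golden ratio. -/

namespace Cfsg.Agent.H9.Pauli4

theorem zmod5_cases : ∀ a : ZMod 5, a = 0 ∨ a = 1 ∨ a = 4 ∨ a ^ 2 = 4 := by decide

theorem zmod5_a : (1 : ZMod 5) = 1 * 1 := by decide

theorem zmod5_b : (4 : ZMod 5) = 2 * 2 := by decide

theorem zmod5_c : ¬ (4 : ZMod 5) = 1 := by decide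

theorem zmod5_d : (4 : ZMod 5) ^ 2 = 1 := by decide

section arith

variable {F : Type*} [Field F] [Fintype F]

/-- there are no primitive cube roots of unity when `p ≡ 2 (mod 3)` -/
theorem no_omega {p : ℕ} (hF : Fintype.card F = p) (hp3 : p % 3 = 2) (h3 : (3 : F) ≠ 0) :
    ∀ ω : F, ω ^ 2 + ω + 1 ≠ 0 := by
  classical
  intro ω hω
  have hω3 : ω ^ 3 = 1 := by linear_combination (ω - 1) * hω
  have hω1 : ω ≠ 1 := by
    rintro rfl
    apply h3
    linear_combination hω
  have hω0 : ω ≠ 0 := by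
    rintro rfl
    simp at hω3
  let u : Fˣ := Units.mk0 ω hω0
  have hu3 : u ^ 3 = 1 := by
    apply Units.ext
    rw [Units.val_pow_eq_pow_val, Units.val_mk0, hω3, Units.val_one]
  have hu1 : u ≠ 1 := by
    intro h
    apply hω1
    have := congrArg Units.val h
    rwa [Units.val_mk0, Units.val_one] at this
  have hord : orderOf u = 3 := orderOf_eq_prime hu3 hu1
  have hdvd : 3 ∣ Fintype.card Fˣ := by
    rw [← hord]
    exact orderOf_dvd_card
  rw [Fintype.card_units, hF] at hdvd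
  omega

/-- the golden ratio exists when `p ≡ ±1 (mod 5)` and `p ≡ 1 (mod 4)` -/
theorem exists_golden {p : ℕ} [hp : Fact p.Prime] [CharP F p] (hp4 : p % 4 = 1) (hp5 : p ≠ 5)
    (hord : orderOf (p : ZMod 5) ≠ 4) (h2 : (2 : F) ≠ 0) : ∃ t : F, t ^ 2 + t - 1 = 0 := by
  have : Fact (Nat.Prime 5) := ⟨Nat.prime_five⟩
  have hp0 : (p : ZMod 5) ≠ 0 := by
    intro h
    rw [ZMod.natCast_eq_zero_iff] at h
    exact hp5 ((Nat.prime_dvd_prime_iff_eq Nat.prime_five hp.out).1 h).symm
  have key := zmod5_cases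
  have hsq : IsSquare (p : ZMod 5) := by
    rcases key (p : ZMod 5) with h | h | h | h
    · exact absurd h hp0
    · rw [h]; exact ⟨1, zmod5_a⟩
    · rw [h]; exact ⟨2, zmod5_b⟩
    · exfalso
      apply hord
      have : Fact (Nat.Prime 2) := ⟨Nat.prime_two⟩
      have := orderOf_eq_prime_pow (x := (p : ZMod 5)) (p := 2) (n := 1) (by
        rw [pow_one, h]; exact zmod5_c) (by
        have : (2 : ℕ) ^ (1 + 1) = 2 * 2 := by norm_num
        rw [this, pow_mul, h]; exact zmod5_d)
      rw [this]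
      norm_num
  have hsq5 : IsSquare ((5 : ℕ) : ZMod p) :=
    (ZMod.exists_sq_eq_prime_iff_of_mod_four_eq_one hp4 (by norm_num)).2 hsq
  obtain ⟨s, hs⟩ := hsq5
  let φ := ZMod.castHom (dvd_refl p) F
  have hs' : φ s * φ s = 5 := by
    rw [← map_mul, ← hs, map_natCast]
    norm_num
  refine ⟨(φ s - 1) / 2, ?_⟩
  field_simp
  linear_combination hs'

end arith

end Cfsg.Agent.H9.Pauli4
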