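import Mathlib
import Cfsg.Agent.H9.SemisimpleConj
import Cfsg.Agent.Lib.Helper8.GUConjD
import Cfsg.Agent.Lib.Helper8.UnitaryA
import Cfsg.Agent.S2587

set_option autoImplicit false
set_option linter.style.haveILetI false
set_option linter.unusedSectionVars false

/-! Centralizers of semisimple unitary matrices contain unitary matrices of every determinant
of norm one; conjugacy in `GL` of unitary matrices gives conjugacy by unitary matrices of
prescribed determinant. -/

namespace Cfsg.Agent.H9.Pauli4

open Module Cfsg.Agent.H9.IrredOp Cfsg.Agent.Lib.Helper8.SUReg Cfsg.Agent.Lib.Helper8.GUConj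

section commdet

universe u

variable {F : Type u} [Field F] [Finite F] {V : Type u} [AddCommGroup V] [Module F V]
  [FiniteDimensional F V]

/-- a semisimple operator on a nonzero space commutes with operators of every determinant -/
theorem exists_commute_det_of_semisimple (X : End F V) (hss : X.IsSemisimple) (hV : Nontrivial V)
    (d : F) : ∃ c : End F V, Commute c X ∧ LinearMap.det c = d := by
  obtain ⟨U, C, _, _, _, _, _, _, A, X', e, he, hirr⟩ :=
    Cfsg.Agent.H9.SemisimpleConj.exists_split X hss hV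
  obtain ⟨cA, hcA, hdet⟩ := hirr.exists_commute_det d
  refine ⟨(e : (U × C) →ₗ[F] V) ∘ₗ (cA.prodMap LinearMap.id) ∘ₗ (e.symm : V →ₗ[F] (U × C)), ?_, ?_⟩
  · apply LinearMap.ext
    intro v
    obtain ⟨p, rfl⟩ := e.surjective v
    obtain ⟨u, c⟩ := p
    simp only [Module.End.mul_apply, LinearMap.comp_apply, LinearEquiv.coe_coe,
      LinearEquiv.symm_apply_apply, he, LinearMap.prodMap_apply, LinearMap.id_apply]
    congr 2
    exact LinearMap.congr_fun hcA.eq u
  · rw [LinearMap.det_conj, LinearMap.det_prodMap, LinearMap.det_id, mul_one, hdet]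

end commdet

section matrix

variable {F : Type*} [Field F] [Fintype F] [DecidableEq F] {n : ℕ}

/-- a semisimple matrix commutes with matrices of every determinant -/
theorem exists_comm_matrix_det (hn : 0 < n) (M : Matrix (Fin n) (Fin n) F)
    (hss : Module.End.IsSemisimple (Matrix.toLin' M)) (d : F) :
    ∃ a : Matrix (Fin n) (Fin n) F, a.det = d ∧ a * M = M * a := by
  have hV : Nontrivial (Fin n → F) := by
    have : Nonempty (Fin n) := ⟨⟨0, hn⟩⟩
    infer_instance
  obtain ⟨c, hc, hdet⟩ := exists_commute_det_of_semisimple (Matrix.toLin' M) hss hV d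
  refine ⟨LinearMap.toMatrix' c, ?_, ?_⟩
  · rw [LinearMap.det_toMatrix', hdet]
  · apply Matrix.toLin'.injective
    rw [Matrix.toLin'_mul, Matrix.toLin'_mul, Matrix.toLin'_toMatrix']
    exact hc.eq

variable (σ : F →+* F)

omit [Fintype F] [DecidableEq F] in
theorem comm_of_inv (m mi y : Matrix (Fin n) (Fin n) F) (h1 : m * mi = 1) (h2 : mi * m = 1)
    (hm : m * y = y * m) : mi * y = y * mi := by
  calc mi * y = mi * y * (m * mi) := by rw [h1, Matrix.mul_one]
    _ = mi * (y * m) * mi := by simp only [Matrix.mul_assoc]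
    _ = mi * (m * y) * mi := by rw [hm]
    _ = (mi * m) * y * mi := by simp only [Matrix.mul_assoc]
    _ = y * mi := by rw [h2, Matrix.one_mul]

/-- from a matrix commuting with a unitary matrix to a unitary one, with determinant
`d / σ d` -/
theorem exists_unitary_comm_det (hσ2 : ∀ a : F, σ (σ a) = a) (hσne : σ ≠ RingHom.id F)
    (htr : ∀ b : F, σ b = b → ∃ y : F, y + σ y = b)
    (x a : Matrix (Fin n) (Fin n) F) (hx : adj σ x * x = 1) (ha : a.det ≠ 0)
    (hax : a * x = x * a) :
    ∃ h : Matrix (Fin n) (Fin n) F, adj σ h * h = 1 ∧ h * x = x * h ∧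
      h.det * σ a.det = a.det := by
  have hx' : x * adj σ x = 1 := mul_eq_one_comm.1 hx
  -- the adjoint of `a` commutes with `x`
  have hax' : adj σ a * x = x * adj σ a := by
    have e := congrArg (adj σ) hax
    rw [adj_mul, adj_mul] at e
    calc adj σ a * x = (x * adj σ x) * (adj σ a * x) := by rw [hx', Matrix.one_mul]
      _ = x * (adj σ x * adj σ a) * x := by simp only [Matrix.mul_assoc]
      _ = x * (adj σ a * adj σ x) * x := by rw [e]
      _ = x * adj σ a * (adj σ x * x) := by simp only [Matrix.mul_assoc]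
      _ = x * adj σ a := by rw [hx, Matrix.mul_one]
  obtain ⟨s, hs⟩ : ∃ s, s = adj σ a * a := ⟨_, rfl⟩
  have hsH : adj σ s = s := by rw [hs, adj_mul, adj_adj σ hσ2]
  have hsdet : s.det ≠ 0 := by
    rw [hs, Matrix.det_mul, det_adj]
    exact mul_ne_zero (by rw [Ne, map_eq_zero]; exact ha) ha
  have hsx : s * x = x * s := by
    rw [hs, Matrix.mul_assoc, hax, ← Matrix.mul_assoc, hax', Matrix.mul_assoc]
  obtain ⟨p, hp⟩ := exists_norm_hermitian σ hσ2 hσne htr s hsH hsdet
  obtain ⟨t, ht⟩ : ∃ t, t = Polynomial.aeval s p := ⟨_, rfl⟩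
  rw [← ht] at hp
  have htx : t * x = x * t := by
    rw [ht]
    exact (commute_aeval s x hsx p).eq
  have htadj : adj σ t = Polynomial.aeval s (p.map σ) := by
    rw [ht, adj_aeval, hsH]
  have httc : adj σ t * t = t * adj σ t := by
    rw [htadj, ht, ← map_mul, ← map_mul, mul_comm]
  have htdet : t.det ≠ 0 := by
    intro h0
    apply hsdet
    rw [← hp, Matrix.det_mul, h0, mul_zero]
  have hadet : (adj σ a).det ≠ 0 := by
    rw [det_adj, Ne, map_eq_zero]
    exact ha
  have hadjtdet : (adj σ t).det ≠ 0 := by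
    rw [det_adj, Ne, map_eq_zero]
    exact htdet
  obtain ⟨ti, hti⟩ : ∃ ti, ti = t⁻¹ := ⟨_, rfl⟩
  obtain ⟨ai, hai⟩ : ∃ ai, ai = (adj σ a)⁻¹ := ⟨_, rfl⟩
  have htt : t * ti = 1 := by rw [hti]; exact Matrix.mul_nonsing_inv t (IsUnit.mk0 _ htdet)
  have htt' : ti * t = 1 := mul_eq_one_comm.1 htt
  have haa : adj σ a * ai = 1 := by rw [hai]; exact Matrix.mul_nonsing_inv _ (IsUnit.mk0 _ hadet)
  have haa' : ai * adj σ a = 1 := mul_eq_one_comm.1 haa
  have htix := comm_of_inv t ti x htt htt' htx
  have haix := comm_of_inv (adj σ a) ai x haa haa' hax'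
  -- `adj t` commutes with `ti`
  have hatti : ti * adj σ t = adj σ t * ti := comm_of_inv t ti (adj σ t) htt htt' httc.symm
  have hadj_inv : ∀ m mi : Matrix (Fin n) (Fin n) F, m * mi = 1 → adj σ mi * adj σ m = 1 := by
    intro m mi h
    rw [← adj_mul, h, adj_one]
  -- the two unitary factors
  have h₁U : adj σ (a * ti) * (a * ti) = 1 := by
    rw [adj_mul]
    calc adj σ ti * adj σ a * (a * ti) = adj σ ti * s * ti := by
          rw [hs]; simp only [Matrix.mul_assoc]
      _ = adj σ ti * (adj σ t * t) * ti := by rw [hp]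
      _ = (adj σ ti * adj σ t) * (t * ti) := by simp only [Matrix.mul_assoc]
      _ = 1 := by rw [hadj_inv t ti htt, htt, Matrix.mul_one]
  have hainv : adj σ ai * a = 1 := by
    have := hadj_inv (adj σ a) ai haa
    rwa [adj_adj σ hσ2] at this
  have e1 : (adj σ ai * ai) * (adj σ t * t) = 1 := by
    rw [hp, hs]
    calc adj σ ai * ai * (adj σ a * a) = adj σ ai * (ai * adj σ a) * a := by
          simp only [Matrix.mul_assoc]
      _ = 1 := by rw [haa', Matrix.mul_one, hainv]
  have h₂U : adj σ (ai * t) * (ai * t) = 1 := by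
    rw [adj_mul]
    have e2 : adj σ ai * ai = ti * adj σ ti := by
      have e3 : adj σ ti * adj σ t = 1 := hadj_inv t ti htt
      have e4 : adj σ t * adj σ ti = 1 := mul_eq_one_comm.1 e3
      calc adj σ ai * ai = (adj σ ai * ai) * ((adj σ t * t) * (ti * adj σ ti)) := by
            have : (adj σ t * t) * (ti * adj σ ti) = 1 := by
              calc (adj σ t * t) * (ti * adj σ ti) = adj σ t * (t * ti) * adj σ ti := by
                    simp only [Matrix.mul_assoc]
                _ = 1 := by rw [htt, Matrix.mul_one, e4]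
            rw [this, Matrix.mul_one]
        _ = ((adj σ ai * ai) * (adj σ t * t)) * (ti * adj σ ti) := by
            simp only [Matrix.mul_assoc]
        _ = ti * adj σ ti := by rw [e1, Matrix.one_mul]
    have e3 : adj σ ti * adj σ t = 1 := hadj_inv t ti htt
    calc adj σ t * adj σ ai * (ai * t) = adj σ t * (adj σ ai * ai) * t := by
          simp only [Matrix.mul_assoc]
      _ = adj σ t * (ti * adj σ ti) * t := by rw [e2]
      _ = (adj σ t * ti) * adj σ ti * t := by simp only [Matrix.mul_assoc]
      _ = (ti * adj σ t) * adj σ ti * t := by rw [hatti]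
      _ = ti * (adj σ t * adj σ ti) * t := by simp only [Matrix.mul_assoc]
      _ = 1 := by rw [mul_eq_one_comm.1 e3, Matrix.mul_one, htt']
  refine ⟨(a * ti) * (ai * t), ?_, ?_, ?_⟩
  · rw [adj_mul]
    calc adj σ (ai * t) * adj σ (a * ti) * (a * ti * (ai * t))
        = adj σ (ai * t) * (adj σ (a * ti) * (a * ti)) * (ai * t) := by
          simp only [Matrix.mul_assoc]
      _ = 1 := by rw [h₁U, Matrix.mul_one, h₂U]
  · calc a * ti * (ai * t) * x = a * ti * (ai * (t * x)) := by simp only [Matrix.mul_assoc]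
      _ = a * ti * (ai * (x * t)) := by rw [htx]
      _ = a * ti * ((ai * x) * t) := by simp only [Matrix.mul_assoc]
      _ = a * ti * ((x * ai) * t) := by rw [haix]
      _ = a * (ti * x) * (ai * t) := by simp only [Matrix.mul_assoc]
      _ = a * (x * ti) * (ai * t) := by rw [htix]
      _ = (a * x) * ti * (ai * t) := by simp only [Matrix.mul_assoc]
      _ = (x * a) * ti * (ai * t) := by rw [hax]
      _ = x * (a * ti * (ai * t)) := by simp only [Matrix.mul_assoc]
  · have d1 : ti.det * t.det = 1 := by rw [← Matrix.det_mul, htt', Matrix.det_one]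
    have d2 : ai.det * σ a.det = 1 := by
      rw [← det_adj, ← Matrix.det_mul, haa', Matrix.det_one]
    rw [Matrix.det_mul, Matrix.det_mul, Matrix.det_mul]
    calc a.det * ti.det * (ai.det * t.det) * σ a.det
        = a.det * (ti.det * t.det) * (ai.det * σ a.det) := by ring
      _ = a.det := by rw [d1, d2, mul_one, mul_one]

end matrix

end Cfsg.Agent.H9.Pauli4
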