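import Mathlib
import Cfsg.Agent.H9.Pauli4U1
import Cfsg.Agent.Lib.Helper8.SURegE

set_option autoImplicit false
set_option linter.style.haveILetI false
set_option linter.unusedSectionVars false

/-! Unitary conjugacy with prescribed determinant for semisimple unitary matrices. -/

namespace Cfsg.Agent.H9.Pauli4

open Module Cfsg.Agent.Lib.Helper8.SUReg Cfsg.Agent.Lib.Helper8.GUConj

section conjU

variable {F : Type*} [Field F] [Fintype F] [DecidableEq F] {n q : ℕ} (σ : F →+* F)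

omit [Fintype F] [DecidableEq F] in
/-- Hilbert 90 for the involution `σ` -/
theorem hilbert90 (hσ2 : ∀ a : F, σ (σ a) = a) (hσne : σ ≠ RingHom.id F) (μ : F)
    (hμ : μ * σ μ = 1) : ∃ d : F, d ≠ 0 ∧ μ * σ d = d := by
  by_cases h1 : 1 + μ = 0
  · have hb : ∃ b : F, σ b ≠ b := by
      by_contra hcon
      push Not at hcon
      exact hσne (RingHom.ext hcon)
    obtain ⟨b, hb⟩ := hb
    refine ⟨b - σ b, fun h => hb (sub_eq_zero.1 h).symm, ?_⟩
    have hμ' : μ = -1 := by linear_combination h1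
    rw [hμ', map_sub, hσ2]
    ring
  · refine ⟨1 + μ, h1, ?_⟩
    rw [map_add, map_one]
    linear_combination hμ

/-- the centralizer of a semisimple unitary matrix in the unitary group has all determinants of
norm one -/
theorem cent_det_U (hn : 0 < n) (hσ2 : ∀ a : F, σ (σ a) = a) (hσne : σ ≠ RingHom.id F)
    (htr : ∀ b : F, σ b = b → ∃ y : F, y + σ y = b)
    (x : Matrix (Fin n) (Fin n) F) (hx : adj σ x * x = 1)
    (hss : Module.End.IsSemisimple (Matrix.toLin' x)) (μ : F) (hμ : μ * σ μ = 1) :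
    ∃ h : Matrix (Fin n) (Fin n) F, adj σ h * h = 1 ∧ h * x = x * h ∧ h.det = μ := by
  obtain ⟨d, hd0, hd⟩ := hilbert90 σ hσ2 hσne μ hμ
  obtain ⟨a, hadet, hax⟩ := exists_comm_matrix_det hn x hss d
  obtain ⟨h, hU, hhx, hdet⟩ := exists_unitary_comm_det σ hσ2 hσne htr x a hx
    (by rw [hadet]; exact hd0) hax
  refine ⟨h, hU, hhx, ?_⟩
  rw [hadet] at hdet
  have hσd : σ d ≠ 0 := by rw [Ne, map_eq_zero]; exact hd0
  apply mul_right_cancel₀ hσd
  rw [hdet, hd]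

/-- conjugacy in `GL` of a semisimple unitary element to a unitary element gives conjugacy by a
unitary element of prescribed determinant of norm one -/
theorem conj_U (hn : 0 < n) (hF : Fintype.card F = q ^ 2) (hσ : ∀ x, σ x = x ^ q)
    (hσ2 : ∀ a : F, σ (σ a) = a) (hσne : σ ≠ RingHom.id F)
    (x m : GL (Fin n) F) (hxU : x ∈ Cfsg.GU n F q) (hmU : m ∈ Cfsg.GU n F q)
    (hss : Module.End.IsSemisimple (Matrix.toLin' (x : Matrix (Fin n) (Fin n) F)))
    (k₀ : GL (Fin n) F) (hk : k₀⁻¹ * x * k₀ = m) (δ : Fˣ) (hδ : (δ : F) * σ δ = 1) :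
    ∃ k : GL (Fin n) F, k ∈ Cfsg.GU n F q ∧ Matrix.GeneralLinearGroup.det k = δ ∧
      k⁻¹ * x * k = m := by
  obtain ⟨σe, hσe⟩ : ∃ σe : F ≃+* F, σe = RingEquiv.ofRingHom σ σ (RingHom.ext hσ2)
    (RingHom.ext hσ2) := ⟨_, rfl⟩
  have hσe_ne : σe ≠ RingEquiv.refl F := by
    intro h
    apply hσne
    ext y
    have := congrArg (fun f : F ≃+* F => f y) h
    rw [hσe] at this
    exact this
  have htr : ∀ b : F, σ b = b → ∃ y : F, y + σ y = b := fun b hb => by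
    have := Cfsg.Agent.Lib.Helper8.Unitary.tr_surj (σ := σe) hσe_ne (by
      intro a; rw [hσe]; exact hσ2 a) b (by rw [hσe]; exact hb)
    rw [hσe] at this
    exact this
  have hconj : IsConj ((⟨x, hxU⟩ : ↥(Cfsg.GU n F q)) : GL (Fin n) F)
      ((⟨m, hmU⟩ : ↥(Cfsg.GU n F q)) : GL (Fin n) F) := by
    rw [isConj_iff]
    exact ⟨k₀⁻¹, by rw [inv_inv]; exact hk⟩
  obtain ⟨c, hc⟩ := isConj_iff.1 ((Cfsg.Agent.S2587.result hF _ _).2 hconj)
  have hc' : (c : GL (Fin n) F) * x * (c : GL (Fin n) F)⁻¹ = m := by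
    have := congrArg (fun u : ↥(Cfsg.GU n F q) => (u : GL (Fin n) F)) hc
    exact this
  obtain ⟨k₁, hk₁⟩ : ∃ k₁ : GL (Fin n) F, k₁ = (c : GL (Fin n) F)⁻¹ := ⟨_, rfl⟩
  have hk₁U : k₁ ∈ Cfsg.GU n F q := by
    rw [hk₁]
    exact Subgroup.inv_mem _ c.2
  have hk₁x : k₁⁻¹ * x * k₁ = m := by
    rw [hk₁, inv_inv]
    exact hc'
  have hdet1 := det_of_mem_GU σ hσ k₁ hk₁U
  obtain ⟨t, ht⟩ : ∃ t : Fˣ, t = δ * (Matrix.GeneralLinearGroup.det k₁)⁻¹ := ⟨_, rfl⟩
  have h1 : ((Matrix.GeneralLinearGroup.det k₁ : Fˣ) : F)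
      = (k₁ : Matrix (Fin n) (Fin n) F).det := Matrix.GeneralLinearGroup.val_det_apply k₁
  have h2 : (t : F) * (k₁ : Matrix (Fin n) (Fin n) F).det = δ := by
    rw [ht, Units.val_mul, ← h1, mul_assoc, ← Units.val_mul, inv_mul_cancel, Units.val_one,
      mul_one]
  have htn : (t : F) * σ (t : F) = 1 := by
    have h3 : ((t : F) * σ (t : F)) * ((k₁ : Matrix (Fin n) (Fin n) F).det
        * σ (k₁ : Matrix (Fin n) (Fin n) F).det) = 1 := by
      rw [← hδ, ← h2, map_mul]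
      ring
    rw [hdet1, mul_one] at h3
    exact h3
  obtain ⟨h, hhU, hhx, hhdet⟩ := cent_det_U σ hn hσ2 hσne htr (x : Matrix (Fin n) (Fin n) F)
    ((mem_GU_iff σ hσ x).1 hxU) hss (t : F) htn
  have hhu : IsUnit h.det := by rw [hhdet]; exact t.isUnit
  obtain ⟨T, hT⟩ : ∃ T : GL (Fin n) F, (T : Matrix (Fin n) (Fin n) F) = h :=
    ⟨Matrix.GeneralLinearGroup.mk'' h hhu, rfl⟩
  have hTU : T ∈ Cfsg.GU n F q := by
    rw [mem_GU_iff σ hσ, hT]
    exact hhU
  have hTx : T * x = x * T := by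
    apply Units.ext
    rw [Units.val_mul, Units.val_mul, hT]
    exact hhx
  refine ⟨T * k₁, Subgroup.mul_mem _ hTU hk₁U, ?_, ?_⟩
  · apply Units.ext
    rw [Matrix.GeneralLinearGroup.val_det_apply, Units.val_mul, Matrix.det_mul, hT, hhdet, h2]
  · calc (T * k₁)⁻¹ * x * (T * k₁) = k₁⁻¹ * (T⁻¹ * (x * T)) * k₁ := by group
      _ = k₁⁻¹ * (T⁻¹ * (T * x)) * k₁ := by rw [hTx]
      _ = k₁⁻¹ * x * k₁ := by group
      _ = m := hk₁x

end conjU

end Cfsg.Agent.H9.Pauli4
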