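import Mathlib
import Cfsg.Agent.H9.Pauli4P
import Cfsg.Agent.H9.Pauli4N
import Cfsg.Agent.H9.Pauli4U2
import Cfsg.Agent.Lib.Lead.PauliForm

set_option autoImplicit false
set_option linter.style.haveILetI false
set_option linter.unusedSectionVars false
set_option linter.unreachableTactic false
set_option linter.unusedTactic false

/-! The standard group `4 ∘ 2^{1+4}` inside the unitary group `GU₄(q)`, `q ≡ 3 (mod 4)`. -/

namespace Cfsg.Agent.H9.Pauli4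

open Matrix Cfsg Cfsg.Agent.Lib.Helper8.SUReg

section unitary

variable {F : Type*} [Field F] [Fintype F] [DecidableEq F] {q : ℕ} (σ : F →+* F)

theorem adj_X1m_mul : adj σ (X1m : Matrix (Fin 4) (Fin 4) F) * X1m = 1 := by
  ext a b
  rw [Matrix.mul_apply, Fin.sum_univ_four]
  simp only [adj_apply]
  fin_cases a <;> fin_cases b <;> simp [X1m]

theorem adj_X2m_mul : adj σ (X2m : Matrix (Fin 4) (Fin 4) F) * X2m = 1 := by
  ext a b
  rw [Matrix.mul_apply, Fin.sum_univ_four]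
  simp only [adj_apply]
  fin_cases a <;> fin_cases b <;> simp [X2m]

theorem adj_T3m_mul : adj σ (T3m : Matrix (Fin 4) (Fin 4) F) * T3m = 1 := by
  ext a b
  rw [Matrix.mul_apply, Fin.sum_univ_four]
  simp only [adj_apply]
  fin_cases a <;> fin_cases b <;> simp [T3m]

theorem adj_diag4_mul (d : Fin 4 → F) (hd : ∀ k, d k * σ (d k) = 1) :
    adj σ (Matrix.diagonal d) * Matrix.diagonal d = 1 := by
  rw [adj_diagonal, Matrix.diagonal_mul_diagonal, ← Matrix.diagonal_one]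
  congr 1
  funext k
  rw [mul_comm]
  exact hd k

theorem X1g_mem_GU (hσ : ∀ x, σ x = x ^ q) : (X1g : GL (Fin 4) F) ∈ Cfsg.GU 4 F q := by
  rw [mem_GU_iff σ hσ, X1g_val]
  exact adj_X1m_mul σ

theorem X2g_mem_GU (hσ : ∀ x, σ x = x ^ q) : (X2g : GL (Fin 4) F) ∈ Cfsg.GU 4 F q := by
  rw [mem_GU_iff σ hσ, X2g_val]
  exact adj_X2m_mul σ

theorem T3g_mem_GU (hσ : ∀ x, σ x = x ^ q) : (T3g : GL (Fin 4) F) ∈ Cfsg.GU 4 F q := by
  rw [mem_GU_iff σ hσ, T3g_val]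
  exact adj_T3m_mul σ

theorem dg4_mem_GU (hσ : ∀ x, σ x = x ^ q) (d : Fin 4 → F) (hd0 : ∀ k, d k ≠ 0)
    (hd : ∀ k, d k * σ (d k) = 1) : dg4 d hd0 ∈ Cfsg.GU 4 F q := by
  rw [mem_GU_iff σ hσ, dg4_val]
  exact adj_diag4_mul σ d hd

theorem sc4_mem_GU (hσ : ∀ x, σ x = x ^ q) (c : F) (hc0 : c ≠ 0) (hc : c * σ c = 1) :
    sc4 c hc0 ∈ Cfsg.GU 4 F q :=
  dg4_mem_GU σ hσ _ _ (fun _ => hc)

theorem isPM_norm {u : F} (hu : IsPM u) : u * σ u = 1 := by
  rcases hu with rfl | rfl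
  · rw [map_one, mul_one]
  · rw [map_neg, map_one]; ring

theorem z1d_norm : ∀ k, (z1d : Fin 4 → F) k * σ (z1d k) = 1 := by
  intro k
  fin_cases k <;> simp [z1d]

theorem z2d_norm : ∀ k, (z2d : Fin 4 → F) k * σ (z2d k) = 1 := by
  intro k
  fin_cases k <;> simp [z2d]

theorem Z1g_mem_GU (hσ : ∀ x, σ x = x ^ q) : (Z1g : GL (Fin 4) F) ∈ Cfsg.GU 4 F q :=
  dg4_mem_GU σ hσ _ _ (z1d_norm σ)

theorem Z2g_mem_GU (hσ : ∀ x, σ x = x ^ q) : (Z2g : GL (Fin 4) F) ∈ Cfsg.GU 4 F q :=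
  dg4_mem_GU σ hσ _ _ (z2d_norm σ)

variable (i : F)

theorem sigma_two_inv : σ (2⁻¹ : F) = 2⁻¹ := by
  rw [map_inv₀, map_ofNat]

theorem adj_G3_mul (h2 : (2 : F) ≠ 0) (hi2 : i ^ 2 = -1) (hσi : σ i = -i) :
    adj σ ((2⁻¹ : F) • Gam i) * ((2⁻¹ : F) • Gam i) = 1 := by
  rw [adj_smul, sigma_two_inv, Matrix.smul_mul, Matrix.mul_smul, smul_smul]
  have h4 : (2⁻¹ : F) * 2⁻¹ * 4 = 1 := by
    have : (4 : F) = 2 * 2 := by norm_num
    rw [this]
    field_simp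
  have h : adj σ (Gam i) * Gam i = (4 : F) • (1 : Matrix (Fin 4) (Fin 4) F) := by
    ext a b
    rw [Matrix.mul_apply, Fin.sum_univ_four]
    simp only [adj_apply, Matrix.smul_apply, Matrix.one_apply]
    fin_cases a <;> fin_cases b <;> simp [Gam, hσi] <;>
      first | ring1 | linear_combination hi2 | linear_combination -hi2 | linear_combination 2 * hi2 | linear_combination (-2) * hi2
  rw [h, smul_smul, h4, one_smul]

theorem G3g_mem_GU (hσ : ∀ x, σ x = x ^ q) (h2 : (2 : F) ≠ 0) (hi2 : i ^ 2 = -1)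
    (hσi : σ i = -i) : G3g i h2 hi2 ∈ Cfsg.GU 4 F q := by
  rw [mem_GU_iff σ hσ, G3g_val]
  exact adj_G3_mul σ i h2 hi2 hσi

theorem adj_M5m (hσi : σ i = -i) : adj σ (M5m i) = M5i i := by
  ext a b
  rw [adj_apply]
  fin_cases a <;> fin_cases b <;> simp [M5m, M5i, hσi]

theorem G5g_mem_GU (hσ : ∀ x, σ x = x ^ q) (h2 : (2 : F) ≠ 0) (hi2 : i ^ 2 = -1)
    (hσi : σ i = -i) : G5g i h2 hi2 ∈ Cfsg.GU 4 F q := by
  rw [mem_GU_iff σ hσ, G5g_val, adj_smul, sigma_two_inv, Matrix.smul_mul, Matrix.mul_smul,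
    smul_smul, adj_M5m σ i hσi, M5i_mul_M5m i hi2, smul_smul]
  have h4 : (2⁻¹ : F) * 2⁻¹ * 4 = 1 := by
    have : (4 : F) = 2 * 2 := by norm_num
    rw [this]
    field_simp
  rw [h4, one_smul]

end unitary

section stdform

variable {F : Type*} [Field F] [Fintype F] [DecidableEq F] {q : ℕ} (σ : F →+* F)

omit [Fintype F] [DecidableEq F] in
/-- if `s` and `g s g⁻¹` are unitary then the Gram matrix `adj g * g` commutes with `s` -/
theorem gram_comm4 {n : ℕ} (g gi s : Matrix (Fin n) (Fin n) F) (hg : g * gi = 1)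
    (hs : adj σ s * s = 1) (hc : adj σ (g * s * gi) * (g * s * gi) = 1) :
    (adj σ g * g) * s = s * (adj σ g * g) := by
  have hgi : gi * g = 1 := mul_eq_one_comm.1 hg
  have hs' : s * adj σ s = 1 := mul_eq_one_comm.1 hs
  have h1 : adj σ g * adj σ gi = 1 := by rw [← adj_mul, hgi, adj_one]
  rw [adj_mul, adj_mul] at hc
  have h2 : adj σ s * (adj σ g * g) * s = adj σ g * g := by
    calc adj σ s * (adj σ g * g) * s
        = (adj σ g * adj σ gi) * (adj σ s * (adj σ g * g) * s) * (gi * g) := by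
          rw [h1, hgi, Matrix.one_mul, Matrix.mul_one]
      _ = adj σ g * (adj σ gi * (adj σ s * adj σ g) * (g * s * gi)) * g := by
          simp only [Matrix.mul_assoc]
      _ = adj σ g * g := by rw [hc, Matrix.mul_one]
  calc (adj σ g * g) * s = (s * adj σ s) * ((adj σ g * g) * s) := by rw [hs', Matrix.one_mul]
    _ = s * (adj σ s * (adj σ g * g) * s) := by simp only [Matrix.mul_assoc]
    _ = s * (adj σ g * g) := by rw [h2]

/-- the image of a square root of `-1` under the Frobenius map, `q ≡ 3 (mod 4)` -/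
theorem sigma_i (hσ : ∀ x, σ x = x ^ q) (hq4 : q % 4 = 3) (i : F) (hi2 : i ^ 2 = -1) :
    σ i = -i := by
  rw [hσ]
  have hq : q = 4 * (q / 4) + 3 := by omega
  have hi4 : i ^ 4 = 1 := by
    have : i ^ 4 = (i ^ 2) ^ 2 := by ring
    rw [this, hi2]; ring
  rw [hq, pow_add, pow_mul, hi4, one_pow, one_mul]
  have : i ^ 3 = i ^ 2 * i := by ring
  rw [this, hi2]; ring

/-- a symplectic-type group of order `2^6` inside `GU₄(q)`, `q ≡ 3 (mod 4)`, is conjugate to the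
standard one by a unitary matrix -/
theorem exists_unitary_pauli_form (hσ : ∀ x, σ x = x ^ q)
    (hσne : σ ≠ RingHom.id F) (hσ2 : ∀ a, σ (σ a) = a) (h2 : (2 : F) ≠ 0)
    (R : Subgroup (GL (Fin 4) F)) (hRs : Cfsg.Geo.IsSymplecticTypeGroup 2 R)
    (hRi : Cfsg.Geo.ActsAbsolutelyIrreducibly (Cfsg.Geo.matrixSet R))
    (hRU : R ≤ Cfsg.GU 4 F q) (hR6 : Nat.card R = 2 ^ 6)
    (hRZ : Nat.card (Subgroup.center R) = 4) :
    ∃ (i : F) (hi : i ≠ 0) (G₁ : GL (Fin 4) F), i ^ 2 = -1 ∧ G₁ ∈ Cfsg.GU 4 F q ∧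
      R = (Pstd i hi).map (MulAut.conj G₁).toMonoidHom := by
  obtain ⟨i, hi, G₀, hi2, hRG⟩ :=
    Cfsg.Agent.Lib.Lead.PauliForm.exists_pauli_form h2 R hRs hRi hR6 hRZ
  obtain ⟨g, hg⟩ : ∃ g : Matrix (Fin 4) (Fin 4) F, g = (G₀ : Matrix (Fin 4) (Fin 4) F) := ⟨_, rfl⟩
  obtain ⟨gi, hgi⟩ : ∃ gi : Matrix (Fin 4) (Fin 4) F,
      gi = ((G₀⁻¹ : GL (Fin 4) F) : Matrix (Fin 4) (Fin 4) F) := ⟨_, rfl⟩
  have hggi : g * gi = 1 := by
    rw [hg, hgi, ← Units.val_mul, mul_inv_cancel]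
    rfl
  have hgig : gi * g = 1 := mul_eq_one_comm.1 hggi
  obtain ⟨A, hA⟩ : ∃ A, A = adj σ g * g := ⟨_, rfl⟩
  have hconjU : ∀ s ∈ Pstd i hi,
      adj σ (g * (s : Matrix (Fin 4) (Fin 4) F) * gi) * (g * s * gi) = 1 := by
    intro s hs
    have hmem : G₀ * s * G₀⁻¹ ∈ R := by rw [hRG]; exact ⟨s, hs, rfl⟩
    have := (mem_GU_iff σ hσ _).1 (hRU hmem)
    rwa [Units.val_mul, Units.val_mul, ← hg, ← hgi] at this
  have hA1 : A * X1m = X1m * A := by
    rw [hA]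
    refine gram_comm4 σ g gi X1m hggi (adj_X1m_mul σ) ?_
    have := hconjU X1g (X1g_mem i hi)
    rwa [X1g_val] at this
  have hA2 : A * X2m = X2m * A := by
    rw [hA]
    refine gram_comm4 σ g gi X2m hggi (adj_X2m_mul σ) ?_
    have := hconjU X2g (X2g_mem i hi)
    rwa [X2g_val] at this
  have hA3 : A * Matrix.diagonal z1d = Matrix.diagonal z1d * A := by
    rw [hA]
    refine gram_comm4 σ g gi _ hggi (adj_diag4_mul σ _ (z1d_norm σ)) ?_
    have := hconjU Z1g (Z1g_mem i hi)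
    rwa [Z1g_val] at this
  have hA4 : A * Matrix.diagonal z2d = Matrix.diagonal z2d * A := by
    rw [hA]
    refine gram_comm4 σ g gi _ hggi (adj_diag4_mul σ _ (z2d_norm σ)) ?_
    have := hconjU Z2g (Z2g_mem i hi)
    rwa [Z2g_val] at this
  obtain ⟨κ, hκ⟩ := scalar_of_commute_gens h2 A hA1 hA2 hA3 hA4
  have hκ0 : κ ≠ 0 := by
    intro h0
    rw [h0, zero_smul] at hκ
    have h1 : A * (gi * adj σ gi) = 1 := by
      rw [hA]
      calc adj σ g * g * (gi * adj σ gi) = adj σ g * (g * gi) * adj σ gi := by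
            simp only [Matrix.mul_assoc]
        _ = 1 := by rw [hggi, Matrix.mul_one, ← adj_mul, hgig, adj_one]
    rw [hκ, Matrix.zero_mul] at h1
    exact zero_ne_one h1
  have hκσ : σ κ = κ := by
    have h1 : adj σ A = A := by rw [hA, adj_mul, adj_adj σ hσ2]
    rw [hκ, adj_smul, adj_one] at h1
    have := congrFun (congrFun h1 0) 0
    simpa using this
  obtain ⟨σe, hσe⟩ : ∃ σe : F ≃+* F, σe = RingEquiv.ofRingHom σ σ (RingHom.ext hσ2)
    (RingHom.ext hσ2) := ⟨_, rfl⟩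
  have hσe_ne : σe ≠ RingEquiv.refl F := by
    intro h
    apply hσne
    ext y
    have := congrArg (fun f : F ≃+* F => f y) h
    rw [hσe] at this
    exact this
  obtain ⟨μ, hμ⟩ := Cfsg.Agent.Lib.Helper8.Unitary.norm_surj (σ := σe) hσe_ne
    (by intro a; rw [hσe]; exact hσ2 a) κ⁻¹
    (by rw [hσe]; show σ κ⁻¹ = κ⁻¹; rw [map_inv₀, hκσ])
  have hμ' : μ * σ μ = κ⁻¹ := by rw [hσe] at hμ; exact hμ
  have hμ0 : μ ≠ 0 := by
    intro h0
    rw [h0, zero_mul] at hμ'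
    exact inv_ne_zero hκ0 hμ'.symm
  obtain ⟨G₁, hG₁⟩ : ∃ G₁, G₁ = sc4 μ hμ0 * G₀ := ⟨_, rfl⟩
  refine ⟨i, hi, G₁, hi2, ?_, ?_⟩
  · rw [mem_GU_iff σ hσ, hG₁, Units.val_mul, sc4_val, Matrix.smul_mul,
      Matrix.one_mul, adj_smul, Matrix.smul_mul, Matrix.mul_smul, smul_smul, ← hg, ← hA, hκ,
      smul_smul]
    have : σ μ * μ * κ = 1 := by
      rw [mul_comm (σ μ), hμ', inv_mul_cancel₀ hκ0]
    rw [this, one_smul]
  · have hconj : MulAut.conj G₁ = MulAut.conj G₀ := by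
      apply MulEquiv.ext
      intro s
      rw [MulAut.conj_apply, MulAut.conj_apply, hG₁]
      have hZ := sc4_comm μ hμ0 (G₀ * s * G₀⁻¹)
      calc sc4 μ hμ0 * G₀ * s * (sc4 μ hμ0 * G₀)⁻¹
          = (sc4 μ hμ0 * (G₀ * s * G₀⁻¹)) * (sc4 μ hμ0)⁻¹ := by group
        _ = G₀ * s * G₀⁻¹ := by rw [hZ]; group
    rw [hconj]
    exact hRG

end stdform

end Cfsg.Agent.H9.Pauli4
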