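import Mathlib
import Cfsg.Agent.H9.Pauli4Q
import Cfsg.Agent.H9.Pauli4M
import Cfsg.Agent.Lib.Helper8.PrimeOrdD
import Cfsg.Agent.Lib.Helper8.SUCountC

set_option autoImplicit false
set_option linter.style.haveILetI false
set_option linter.unusedSectionVars false
set_option linter.unreachableTactic false
set_option linter.unusedTactic false

/-! Characteristic polynomials of unitary matrices of small prime order. -/

namespace Cfsg.Agent.H9.Pauli4

open Matrix Polynomial Cfsg.Agent.Lib.Helper8.SelfRec Cfsg.Agent.Lib.Helper8.PrimeOrd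
  Cfsg.Agent.Lib.Helper8.SUReg

section tools

universe u

variable {K : Type u} [Field K] (θ : K →+* K)

theorem reverse_X_sub_C (a : K) : (X - C a : K[X]).reverse = 1 - C a * X := by
  have h1 : (X - C a : K[X]) = X + C (-a) := by rw [C_neg, sub_eq_add_neg]
  have h2 : (X : K[X]).reverse = 1 := by
    have := reverse_mul_X_pow (1 : K[X]) 1
    rw [one_mul, pow_one] at this
    rw [this]
    have h3 := reverse_C (1 : K)
    rw [C_1] at h3
    exact h3
  rw [h1, reverse_add_C, h2, natDegree_X, pow_one, C_neg]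
  ring

theorem rc_X_sub_C (a : K) (ha : a ≠ 0) : rc θ (X - C a : K[X]) = X - C (θ a)⁻¹ := by
  have hθa : θ a ≠ 0 := (map_ne_zero θ).2 ha
  unfold rc rv
  rw [Polynomial.map_sub, map_X, map_C, reverse_X_sub_C, coeff_sub, coeff_X_zero, coeff_C_zero,
    zero_sub, map_neg, inv_neg, C_neg]
  have h1 : C (θ a)⁻¹ * C (θ a) = (1 : K[X]) := by
    rw [← C_mul, inv_mul_cancel₀ hθa, C_1]
  linear_combination X * h1

/-- the palindromic quadratic `X² - t X + 1` -/
noncomputable def qpoly (t : K) : K[X] := X ^ 2 - C t * X + 1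

theorem qpoly_monic (t : K) : (qpoly t).Monic := by
  unfold qpoly
  monicity!

theorem qpoly_natDegree (t : K) : (qpoly t).natDegree = 2 := by
  unfold qpoly
  compute_degree!

theorem qpoly_coeff_zero (t : K) : (qpoly t).coeff 0 = 1 := by
  unfold qpoly
  simp

theorem qpoly_map (t : K) : (qpoly t).map θ = qpoly (θ t) := by
  unfold qpoly
  simp

theorem qpoly_reverse (t : K) : (qpoly t).reverse = qpoly t := by
  have h1 : qpoly t = X * (X - C t) + C 1 := by
    unfold qpoly
    rw [C_1]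
    ring
  have h2 : (X : K[X]).reverse = 1 := by
    have := reverse_mul_X_pow (1 : K[X]) 1
    rw [one_mul, pow_one] at this
    rw [this]
    have h3 := reverse_C (1 : K)
    rw [C_1] at h3
    exact h3
  have h3 : (X * (X - C t) : K[X]).natDegree = 2 := by
    rw [natDegree_mul X_ne_zero (X_sub_C_ne_zero t), natDegree_X, natDegree_X_sub_C]
  conv_lhs => rw [h1]
  rw [reverse_add_C, reverse_mul_of_domain, h2, reverse_X_sub_C, h3, C_1]
  unfold qpoly
  ring

theorem rc_qpoly (t : K) : rc θ (qpoly t) = qpoly (θ t) := by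
  unfold rc rv
  rw [qpoly_map, qpoly_reverse, qpoly_coeff_zero, map_one, inv_one, C_1, one_mul]

end tools

section mult

universe u v

variable {F : Type u} [Field F] {ι : Type v} [Fintype ι] [DecidableEq ι] (σ : F →+* F)

/-- the multiplicities of the irreducible factors of the characteristic polynomial of a unitary
matrix are symmetric under the twisted reciprocal -/
theorem mult_symm_U {n : ℕ} (M : Matrix (Fin n) (Fin n) F) (hMU : adj σ M * M = 1)
    (P : ι → F[X]) (hP : IsFam P) (h0 : ∀ j, (P j).coeff 0 ≠ 0) (s : ι → ι)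
    (hs : Function.Involutive s) (hrc : ∀ j, rc σ (P j) = P (s j)) (e : ι → ℕ)
    (he : M.charpoly = fe P e) : e ∘ s = e := by
  obtain ⟨hSR, _⟩ := Cfsg.Agent.Lib.Helper8.SUCount.isSR_charpoly (σ := σ) M hMU
  have h := hSR.2.2
  rw [he] at h
  exact comp_eq_of_rv_fe σ hP h0 s hs hrc e _ h

end mult

section three

universe u

variable {F : Type u} [Field F] (σ : F →+* F)

/-- the linear factors of `X³ - 1` -/
noncomputable def fam3U (ω : F) : Fin 3 → F[X] := ![X - 1, X - C ω, X - C (ω ^ 2)]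

theorem fam3U_coeff_zero (ω : F) (j : Fin 3) :
    (fam3U ω j).coeff 0 = ![-1, -ω, -ω ^ 2] j := by
  fin_cases j
  · show (X - 1 : F[X]).coeff 0 = -1
    simp
  · show (X - C ω : F[X]).coeff 0 = -ω
    simp
  · show (X - C (ω ^ 2) : F[X]).coeff 0 = -ω ^ 2
    rw [coeff_sub, coeff_X_zero, coeff_C_zero, zero_sub]

theorem omega_facts (h3 : (3 : F) ≠ 0) (ω : F) (hω : ω ^ 2 + ω + 1 = 0) :
    ω ≠ 0 ∧ ω ≠ 1 ∧ ω ^ 2 ≠ 1 ∧ ω ^ 2 ≠ ω ∧ ω ^ 3 = 1 := by
  have hω3 : ω ^ 3 = 1 := by linear_combination (ω - 1) * hω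
  have h1 : ω ≠ 1 := by
    rintro rfl
    apply h3
    linear_combination hω
  have h0 : ω ≠ 0 := by
    rintro rfl
    simp at hω3
  refine ⟨h0, h1, ?_, ?_, hω3⟩
  · intro h
    apply h1
    have : ω * ω ^ 2 = 1 := by linear_combination hω3
    rw [h, mul_one] at this
    exact this
  · intro h
    apply h1
    have : ω * (ω - 1) = 0 := by linear_combination h
    rcases mul_eq_zero.1 this with h' | h'
    · exact absurd h' h0
    · linear_combination h'

theorem fam3U_isFam (h3 : (3 : F) ≠ 0) (ω : F) (hω : ω ^ 2 + ω + 1 = 0) :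
    IsFam (fam3U ω) := by
  obtain ⟨h0, h1, h21, h2ω, _⟩ := omega_facts h3 ω hω
  refine ⟨?_, ?_, ?_⟩
  · intro j
    fin_cases j
    · show (X - 1 : F[X]).Monic
      have := monic_X_sub_C (1 : F)
      rwa [C_1] at this
    · exact monic_X_sub_C ω
    · exact monic_X_sub_C (ω ^ 2)
  · intro j
    fin_cases j
    · show Irreducible (X - 1 : F[X])
      have := irreducible_X_sub_C (1 : F)
      rwa [C_1] at this
    · exact irreducible_X_sub_C ω
    · exact irreducible_X_sub_C (ω ^ 2)
  · intro j k hjk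
    have h := congrArg (fun f : F[X] => f.coeff 0) hjk
    simp only [fam3U_coeff_zero] at h
    fin_cases j <;> fin_cases k
    · rfl
    · exfalso
      have h' : (-1 : F) = -ω := h
      exact h1 (neg_injective h').symm
    · exfalso
      have h' : (-1 : F) = -ω ^ 2 := h
      exact h21 (neg_injective h').symm
    · exfalso
      have h' : -ω = (-1 : F) := h
      exact h1 (neg_injective h')
    · rfl
    · exfalso
      have h' : -ω = -ω ^ 2 := h
      exact h2ω (neg_injective h').symm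
    · exfalso
      have h' : -ω ^ 2 = (-1 : F) := h
      exact h21 (neg_injective h')
    · exfalso
      have h' : -ω ^ 2 = -ω := h
      exact h2ω (neg_injective h')
    · rfl

theorem X_pow_three_sub_one_split (ω : F) (hω : ω ^ 2 + ω + 1 = 0) :
    (X ^ 3 - 1 : F[X]) = (X - 1) * ((X - C ω) * (X - C (ω ^ 2))) := by
  have hw : (C ω : F[X]) ^ 2 + C ω + 1 = 0 := by
    rw [← C_pow, ← C_add, ← C_1, ← C_add, hω, C_0]
  rw [C_pow]
  linear_combination ((X : F[X]) ^ 2 - C ω * X + C ω - 1) * hw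

theorem fpoly_split (ω : F) (hω : ω ^ 2 + ω + 1 = 0) :
    (fpoly : F[X]) = (X - C ω) * (X - C (ω ^ 2)) := by
  have hw : (C ω : F[X]) ^ 2 + C ω + 1 = 0 := by
    rw [← C_pow, ← C_add, ← C_1, ← C_add, hω, C_0]
  unfold fpoly
  rw [C_pow]
  linear_combination ((X : F[X]) - C ω + 1) * hw

/-- the characteristic polynomial of a unitary matrix of order three, when the cube roots of
unity are fixed by the field involution -/
theorem charpoly_cases_U3 (h3 : (3 : F) ≠ 0) (ω : F) (hω : ω ^ 2 + ω + 1 = 0) (hσω : σ ω = ω)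
    (M : Matrix (Fin 4) (Fin 4) F) (hMU : adj σ M * M = 1) (hM : M ^ 3 = 1) (hM1 : M ≠ 1) :
    (aeval M (fpoly : F[X]) = 0 ∧ M.charpoly = fpoly ^ 2) ∨
      (aeval M (fpoly : F[X]) ≠ 0 ∧ M.charpoly = (X - 1) ^ 2 * fpoly) := by
  obtain ⟨hω0, hω1, h21, h2ω, hω3⟩ := omega_facts h3 ω hω
  have hP := fam3U_isFam h3 ω hω
  have hss : Module.End.IsSemisimple (Matrix.toLin' M) :=
    Cfsg.Agent.H9.SemisimpleConj.isSemisimple_of_pow_eq_one M 3 (by exact_mod_cast h3) hM
  have hX1m : (X - 1 : F[X]).Monic := hP.monic 0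
  have hX1i : Irreducible (X - 1 : F[X]) := hP.irred 0
  obtain ⟨e, he⟩ := exists_fe (fam3U ω) _ M.charpoly rfl (Matrix.charpoly_monic M) (by
    intro h hm hi hd
    have h1 := dvd_X_pow_sub_one M 3 hM hi hd
    rw [X_pow_three_sub_one_split ω hω] at h1
    rcases (hi.prime.dvd_mul).1 h1 with h2 | h2
    · exact ⟨0, eq_of_monic_of_associated hm hX1m (hi.associated_of_dvd hX1i h2)⟩
    · rcases (hi.prime.dvd_mul).1 h2 with h4 | h4
      · exact ⟨1, eq_of_monic_of_associated hm (hP.monic 1) (hi.associated_of_dvd (hP.irred 1) h4)⟩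
      · exact ⟨2, eq_of_monic_of_associated hm (hP.monic 2) (hi.associated_of_dvd (hP.irred 2) h4)⟩)
  have hinv : ω⁻¹ = ω ^ 2 := by
    apply inv_eq_of_mul_eq_one_right
    linear_combination hω3
  have hinv2 : (ω ^ 2)⁻¹ = ω := by
    apply inv_eq_of_mul_eq_one_right
    linear_combination hω3
  have hsym := mult_symm_U σ M hMU (fam3U ω) hP (by
      intro j
      rw [fam3U_coeff_zero]
      fin_cases j
      · exact neg_ne_zero.2 one_ne_zero
      · exact neg_ne_zero.2 hω0
      · exact neg_ne_zero.2 (pow_ne_zero 2 hω0))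
    ![0, 2, 1] (by intro j; fin_cases j <;> rfl) (by
      intro j
      fin_cases j
      · exact rc_X_sub_one σ
      · show rc σ (X - C ω) = X - C (ω ^ 2)
        rw [rc_X_sub_C σ ω hω0, hσω, hinv]
      · show rc σ (X - C (ω ^ 2)) = X - C ω
        rw [rc_X_sub_C σ _ (pow_ne_zero 2 hω0), map_pow, hσω, hinv2]) e he
  have h12 : e 2 = e 1 := congrFun hsym 1
  have hfe : fe (fam3U ω) e = (X - 1) ^ e 0 * ((X - C ω) ^ e 1 * (X - C (ω ^ 2)) ^ e 2) := by
    unfold fe
    rw [Fin.prod_univ_three, mul_assoc]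
    rfl
  have hdeg : 4 = e 0 + e 1 + e 2 := by
    have h1 := natDegree_fe hP e
    rw [← he, Matrix.charpoly_natDegree_eq_dim, Fintype.card_fin, Fin.sum_univ_three] at h1
    have h2 : (fam3U ω 0 : F[X]).natDegree = 1 := by
      show (X - 1 : F[X]).natDegree = 1
      have := natDegree_X_sub_C (1 : F)
      rwa [C_1] at this
    have h3' : (fam3U ω 1 : F[X]).natDegree = 1 := natDegree_X_sub_C ω
    have h4' : (fam3U ω 2 : F[X]).natDegree = 1 := natDegree_X_sub_C (ω ^ 2)
    rw [h2, h3', h4'] at h1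
    omega
  rw [hfe, h12, ← mul_pow, ← fpoly_split ω hω] at he
  have hcases : (e 0 = 4 ∧ e 1 = 0) ∨ (e 0 = 2 ∧ e 1 = 1) ∨ (e 0 = 0 ∧ e 1 = 2) := by omega
  rcases hcases with ⟨h0, h1⟩ | ⟨h0, h1⟩ | ⟨h0, h1⟩
  · exfalso
    apply hM1
    apply eq_one_of_semisimple M hss 4
    rw [he, h0, h1, pow_zero, mul_one]
  · right
    rw [h0, h1, pow_one] at he
    refine ⟨?_, he⟩
    intro h0'
    have hd : (X - 1 : F[X]) ∣ M.charpoly := by
      rw [he]
      exact Dvd.dvd.mul_right (dvd_pow_self _ (by norm_num)) _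
    have h2 := dvd_of_aeval_eq_zero M fpoly h0' hX1i hd
    have h4 : (X - C (1 : F)) ∣ fpoly := by rwa [C_1]
    rw [dvd_iff_isRoot, IsRoot.def, fpoly_eval_one] at h4
    exact h3 h4
  · left
    rw [h0, h1, pow_zero, one_mul] at he
    refine ⟨?_, he⟩
    apply aeval_eq_zero_of_semisimple M hss fpoly 2
    rw [he]

end three

section five

universe u

variable {F : Type u} [Field F] (σ : F →+* F)

/-- the factors of `X⁵ - 1` over a field containing `√5` but no fifth roots of unity -/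
noncomputable def fam5U (t₁ t₂ : F) : Fin 3 → F[X] := ![X - 1, qpoly t₁, qpoly t₂]

theorem qpoly_irreducible (t : F) (ht : t ^ 2 + t - 1 = 0)
    (hno : ∀ ζ : F, ζ ^ 4 + ζ ^ 3 + ζ ^ 2 + ζ + 1 ≠ 0) : Irreducible (qpoly t) := by
  apply irreducible_of_degree_le_three_of_not_isRoot
  · rw [qpoly_natDegree]
    decide
  · intro ζ hζ
    apply hno ζ
    unfold qpoly at hζ
    have h : ζ ^ 2 - t * ζ + 1 = 0 := by simpa using hζ
    linear_combination (ζ ^ 2 + (1 + t) * ζ + 1) * h + ζ ^ 2 * ht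

theorem phi5_split (t : F) (ht : t ^ 2 + t - 1 = 0) :
    (phi5 : F[X]) = qpoly t * qpoly (-1 - t) := by
  have hw : (C t : F[X]) ^ 2 + C t - 1 = 0 := by
    rw [← C_pow, ← C_add, ← C_1, ← C_sub, ht, C_0]
  unfold phi5 qpoly
  rw [C_sub, C_neg, C_1]
  linear_combination (X : F[X]) ^ 2 * hw

theorem qpoly_coeff_one (t : F) : (qpoly t).coeff 1 = -t := by
  unfold qpoly
  simp [coeff_one]

theorem fam5U_isFam (t₁ t₂ : F) (ht₁ : t₁ ^ 2 + t₁ - 1 = 0) (ht₂ : t₂ ^ 2 + t₂ - 1 = 0)
    (hne : t₁ ≠ t₂) (hno : ∀ ζ : F, ζ ^ 4 + ζ ^ 3 + ζ ^ 2 + ζ + 1 ≠ 0) :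
    IsFam (fam5U t₁ t₂) := by
  have hd1 : (X - 1 : F[X]).natDegree = 1 := by
    have := natDegree_X_sub_C (1 : F)
    rwa [C_1] at this
  refine ⟨?_, ?_, ?_⟩
  · intro j
    fin_cases j
    · show (X - 1 : F[X]).Monic
      have := monic_X_sub_C (1 : F)
      rwa [C_1] at this
    · exact qpoly_monic t₁
    · exact qpoly_monic t₂
  · intro j
    fin_cases j
    · show Irreducible (X - 1 : F[X])
      have := irreducible_X_sub_C (1 : F)
      rwa [C_1] at this
    · exact qpoly_irreducible t₁ ht₁ hno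
    · exact qpoly_irreducible t₂ ht₂ hno
  · intro j k hjk
    fin_cases j <;> fin_cases k
    · rfl
    · exfalso
      have h1 : (X - 1 : F[X]) = qpoly t₁ := hjk
      have := congrArg natDegree h1
      rw [qpoly_natDegree, hd1] at this
      omega
    · exfalso
      have h1 : (X - 1 : F[X]) = qpoly t₂ := hjk
      have := congrArg natDegree h1
      rw [qpoly_natDegree, hd1] at this
      omega
    · exfalso
      have h1 : qpoly t₁ = (X - 1 : F[X]) := hjk
      have := congrArg natDegree h1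
      rw [qpoly_natDegree, hd1] at this
      omega
    · rfl
    · exfalso
      have h1 : qpoly t₁ = qpoly t₂ := hjk
      have := congrArg (fun f : F[X] => f.coeff 1) h1
      simp only [qpoly_coeff_one] at this
      exact hne (neg_injective this)
    · exfalso
      have h1 : qpoly t₂ = (X - 1 : F[X]) := hjk
      have := congrArg natDegree h1
      rw [qpoly_natDegree, hd1] at this
      omega
    · exfalso
      have h1 : qpoly t₂ = qpoly t₁ := hjk
      have := congrArg (fun f : F[X] => f.coeff 1) h1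
      simp only [qpoly_coeff_one] at this
      exact hne (neg_injective this).symm
    · rfl

/-- the characteristic polynomial of a unitary matrix of order five, when the field contains no
fifth roots of unity and the involution moves `√5` -/
theorem charpoly_U5 (h5 : (5 : F) ≠ 0) (t₁ t₂ : F) (ht₁ : t₁ ^ 2 + t₁ - 1 = 0)
    (ht₂ : t₂ = -1 - t₁) (hne : t₁ ≠ t₂) (hσ1 : σ t₁ = t₂) (hσ2 : σ t₂ = t₁)
    (hno : ∀ ζ : F, ζ ^ 4 + ζ ^ 3 + ζ ^ 2 + ζ + 1 ≠ 0)
    (M : Matrix (Fin 4) (Fin 4) F) (hMU : adj σ M * M = 1) (hM : M ^ 5 = 1) (hM1 : M ≠ 1) :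
    M.charpoly = phi5 := by
  have ht₂' : t₂ ^ 2 + t₂ - 1 = 0 := by rw [ht₂]; linear_combination ht₁
  have hP := fam5U_isFam t₁ t₂ ht₁ ht₂' hne hno
  have hss : Module.End.IsSemisimple (Matrix.toLin' M) :=
    Cfsg.Agent.H9.SemisimpleConj.isSemisimple_of_pow_eq_one M 5 (by exact_mod_cast h5) hM
  have hX1m : (X - 1 : F[X]).Monic := hP.monic 0
  have hX1i : Irreducible (X - 1 : F[X]) := hP.irred 0
  obtain ⟨e, he⟩ := exists_fe (fam5U t₁ t₂) _ M.charpoly rfl (Matrix.charpoly_monic M) (by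
    intro h hm hi hd
    have h1 := dvd_X_pow_sub_one M 5 hM hi hd
    rw [X_pow_five_sub_one, phi5_split t₁ ht₁, ← ht₂] at h1
    rcases (hi.prime.dvd_mul).1 h1 with h2 | h2
    · exact ⟨0, eq_of_monic_of_associated hm hX1m (hi.associated_of_dvd hX1i h2)⟩
    · rcases (hi.prime.dvd_mul).1 h2 with h4 | h4
      · exact ⟨1, eq_of_monic_of_associated hm (hP.monic 1) (hi.associated_of_dvd (hP.irred 1) h4)⟩
      · exact ⟨2, eq_of_monic_of_associated hm (hP.monic 2) (hi.associated_of_dvd (hP.irred 2) h4)⟩)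
  have hsym := mult_symm_U σ M hMU (fam5U t₁ t₂) hP (by
      intro j
      fin_cases j
      · show (X - 1 : F[X]).coeff 0 ≠ 0
        simp
      · show (qpoly t₁).coeff 0 ≠ 0
        rw [qpoly_coeff_zero]; exact one_ne_zero
      · show (qpoly t₂).coeff 0 ≠ 0
        rw [qpoly_coeff_zero]; exact one_ne_zero)
    ![0, 2, 1] (by intro j; fin_cases j <;> rfl) (by
      intro j
      fin_cases j
      · exact rc_X_sub_one σ
      · show rc σ (qpoly t₁) = qpoly t₂
        rw [rc_qpoly, hσ1]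
      · show rc σ (qpoly t₂) = qpoly t₁
        rw [rc_qpoly, hσ2]) e he
  have h12 : e 2 = e 1 := congrFun hsym 1
  have hfe : fe (fam5U t₁ t₂) e = (X - 1) ^ e 0 * (qpoly t₁ ^ e 1 * qpoly t₂ ^ e 2) := by
    unfold fe
    rw [Fin.prod_univ_three, mul_assoc]
    rfl
  have hdeg : 4 = e 0 + 2 * e 1 + 2 * e 2 := by
    have h1 := natDegree_fe hP e
    rw [← he, Matrix.charpoly_natDegree_eq_dim, Fintype.card_fin, Fin.sum_univ_three] at h1
    have h2 : (fam5U t₁ t₂ 0 : F[X]).natDegree = 1 := by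
      show (X - 1 : F[X]).natDegree = 1
      have := natDegree_X_sub_C (1 : F)
      rwa [C_1] at this
    have h3' : (fam5U t₁ t₂ 1 : F[X]).natDegree = 2 := qpoly_natDegree t₁
    have h4' : (fam5U t₁ t₂ 2 : F[X]).natDegree = 2 := qpoly_natDegree t₂
    rw [h2, h3', h4'] at h1
    omega
  rw [hfe, h12, ← mul_pow, ht₂, ← phi5_split t₁ ht₁] at he
  have hcases : (e 0 = 4 ∧ e 1 = 0) ∨ (e 0 = 0 ∧ e 1 = 1) := by omega
  rcases hcases with ⟨h0, h1⟩ | ⟨h0, h1⟩
  · exfalso
    apply hM1
    apply eq_one_of_semisimple M hss 4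
    rw [he, h0, h1, pow_zero, mul_one]
  · rw [he, h0, h1, pow_zero, one_mul, pow_one]

end five

section two

universe u

variable {F : Type u} [Field F] (σ : F →+* F)

/-- the two linear factors of `X² - c²` -/
noncomputable def fam2U (c : F) : Fin 2 → F[X] := ![X - C c, X - C (-c)]

theorem fam2U_isFam (h2 : (2 : F) ≠ 0) (c : F) (hc0 : c ≠ 0) : IsFam (fam2U c) := by
  refine ⟨?_, ?_, ?_⟩
  · intro j
    fin_cases j
    · exact monic_X_sub_C c
    · exact monic_X_sub_C (-c)
  · intro j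
    fin_cases j
    · exact irreducible_X_sub_C c
    · exact irreducible_X_sub_C (-c)
  · have hne : c ≠ -c := by
      intro h
      have : 2 * c = 0 := by linear_combination h
      rcases mul_eq_zero.1 this with h' | h'
      · exact h2 h'
      · exact hc0 h'
    intro j k hjk
    fin_cases j <;> fin_cases k
    · rfl
    · exfalso
      have h1 : (X - C c : F[X]) = X - C (-c) := hjk
      have := congrArg (fun f : F[X] => f.coeff 0) h1
      simp only [coeff_sub, coeff_X_zero, coeff_C_zero, zero_sub] at this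
      exact hne (neg_injective this)
    · exfalso
      have h1 : (X - C (-c) : F[X]) = X - C c := hjk
      have := congrArg (fun f : F[X] => f.coeff 0) h1
      simp only [coeff_sub, coeff_X_zero, coeff_C_zero, zero_sub] at this
      exact hne (neg_injective this).symm
    · rfl

/-- the characteristic polynomial of a unitary matrix with square `c²`, where `c` has norm `-1` -/
theorem charpoly_U2 (h2 : (2 : F) ≠ 0) (c : F) (hc0 : c ≠ 0) (hσc : σ c = -c⁻¹)
    (M : Matrix (Fin 4) (Fin 4) F) (hMU : adj σ M * M = 1)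
    (hM : M * M = (c ^ 2) • (1 : Matrix (Fin 4) (Fin 4) F)) :
    M.charpoly = (X - C c) ^ 2 * (X - C (-c)) ^ 2 := by
  have hP := fam2U_isFam h2 c hc0
  have hsplit : (X ^ 2 - C (c ^ 2) : F[X]) = (X - C c) * (X - C (-c)) := by
    rw [C_neg, C_pow]
    ring
  obtain ⟨e, he⟩ := exists_fe (fam2U c) _ M.charpoly rfl (Matrix.charpoly_monic M) (by
    intro h hm hi hd
    have h1 := dvd_of_aeval_eq_zero M (X ^ 2 - C (c ^ 2) : F[X]) (by
      rw [map_sub, map_pow, aeval_X, aeval_C, pow_two, hM, Algebra.algebraMap_eq_smul_one,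
        sub_self]) hi hd
    rw [hsplit] at h1
    rcases (hi.prime.dvd_mul).1 h1 with h4 | h4
    · exact ⟨0, eq_of_monic_of_associated hm (hP.monic 0) (hi.associated_of_dvd (hP.irred 0) h4)⟩
    · exact ⟨1, eq_of_monic_of_associated hm (hP.monic 1) (hi.associated_of_dvd (hP.irred 1) h4)⟩)
  have hsym := mult_symm_U σ M hMU (fam2U c) hP (by
      intro j
      fin_cases j
      · show (X - C c : F[X]).coeff 0 ≠ 0
        rw [coeff_sub, coeff_X_zero, coeff_C_zero, zero_sub]
        exact neg_ne_zero.2 hc0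
      · show (X - C (-c) : F[X]).coeff 0 ≠ 0
        rw [coeff_sub, coeff_X_zero, coeff_C_zero, zero_sub, neg_neg]
        exact hc0)
    ![1, 0] (by intro j; fin_cases j <;> rfl) (by
      intro j
      fin_cases j
      · show rc σ (X - C c) = X - C (-c)
        rw [rc_X_sub_C σ c hc0, hσc, inv_neg, inv_inv]
      · show rc σ (X - C (-c)) = X - C c
        rw [rc_X_sub_C σ _ (neg_ne_zero.2 hc0), map_neg, hσc, neg_neg, inv_inv]) e he
  have h12 : e 1 = e 0 := congrFun hsym 0
  have hfe : fe (fam2U c) e = (X - C c) ^ e 0 * (X - C (-c)) ^ e 1 := by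
    unfold fe
    rw [Fin.prod_univ_two]
    rfl
  have hdeg : 4 = e 0 + e 1 := by
    have h1 := natDegree_fe hP e
    rw [← he, Matrix.charpoly_natDegree_eq_dim, Fintype.card_fin, Fin.sum_univ_two] at h1
    have h3' : (fam2U c 0 : F[X]).natDegree = 1 := natDegree_X_sub_C c
    have h4' : (fam2U c 1 : F[X]).natDegree = 1 := natDegree_X_sub_C (-c)
    rw [h3', h4'] at h1
    omega
  have h0 : e 0 = 2 := by omega
  have h1 : e 1 = 2 := by omega
  rw [he, hfe, h0, h1]

end two

end Cfsg.Agent.H9.Pauli4
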