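import Mathlib
import Cfsg.Agent.H9.Pauli4R
import Cfsg.Agent.H9.Pauli4U3
import Cfsg.Agent.H9.Pauli4U4

set_option autoImplicit false
set_option linter.style.haveILetI false
set_option linter.unusedSectionVars false
set_option linter.unreachableTactic false
set_option linter.unusedTactic false

/-! Elements of order three and five of `GU₄(q)` are unitarily conjugate into the normalizer of
the standard group `4 ∘ 2^{1+4}`. -/

namespace Cfsg.Agent.H9.Pauli4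

open Matrix Polynomial Cfsg.Agent.Lib.Helper8.SUReg

section conj

universe u

variable {F : Type u} [Field F] [Fintype F] [DecidableEq F] {q : ℕ} (σ : F →+* F) (i : F)
  (hi : i ≠ 0)

/-- unitary elements of order three are unitarily conjugate into the normalizer of the standard
group, by matrices of any determinant of norm one -/
theorem conj_cube_U4 (hF : Fintype.card F = q ^ 2) (hσ : ∀ x, σ x = x ^ q)
    (hσ2 : ∀ a : F, σ (σ a) = a) (hσne : σ ≠ RingHom.id F)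
    (h2 : (2 : F) ≠ 0) (h3 : (3 : F) ≠ 0) (hi2 : i ^ 2 = -1) (hσi : σ i = -i)
    (ω : F) (hω : ω ^ 2 + ω + 1 = 0) (hσω : σ ω = ω)
    (x : GL (Fin 4) F) (hxU : x ∈ Cfsg.GU 4 F q) (hx : x ^ 3 = 1) (hx1 : x ≠ 1)
    (δ : Fˣ) (hδ : (δ : F) * σ δ = 1) :
    ∃ k : GL (Fin 4) F, k ∈ Cfsg.GU 4 F q ∧ Matrix.GeneralLinearGroup.det k = δ ∧
      k⁻¹ * x * k ∈ Subgroup.normalizer (Pstd i hi : Set (GL (Fin 4) F)) := by
  have h3' : ((3 : ℕ) : F) ≠ 0 := by exact_mod_cast h3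
  have hxm := val_pow_three x hx
  have hxm1 : (x : Matrix (Fin 4) (Fin 4) F) ≠ 1 := by
    intro h
    apply hx1
    apply Units.ext
    rw [h, Units.val_one]
  have hxss := Cfsg.Agent.H9.SemisimpleConj.isSemisimple_of_pow_eq_one _ 3 h3' hxm
  have hxU' := (mem_GU_iff σ hσ x).1 hxU
  rcases charpoly_cases_U3 σ h3 ω hω hσω _ hxU' hxm hxm1 with ⟨hx0, hxc⟩ | ⟨hx0, hxc⟩
  · -- the class of `1 ⊗ g`
    have hGU := G3g_mem_GU σ i hσ h2 hi2 hσi
    have hGU' := (mem_GU_iff σ hσ _).1 hGU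
    have hG0 : aeval ((G3g i h2 hi2 : GL (Fin 4) F) : Matrix (Fin 4) (Fin 4) F) (fpoly : F[X]) = 0 := by
      rw [G3g_val]
      exact aeval_G3 i h2 hi2
    have hG3 : ((G3g i h2 hi2 : GL (Fin 4) F) : Matrix (Fin 4) (Fin 4) F) ^ 3 = 1 := by
      have h1 : aeval ((G3g i h2 hi2 : GL (Fin 4) F) : Matrix (Fin 4) (Fin 4) F)
          (X ^ 3 - 1 : F[X]) = 0 := by
        rw [X_pow_three_sub_one, map_mul, hG0, mul_zero]
      rw [map_sub, map_pow, aeval_X, map_one, sub_eq_zero] at h1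
      exact h1
    have hG1 : ((G3g i h2 hi2 : GL (Fin 4) F) : Matrix (Fin 4) (Fin 4) F) ≠ 1 := by
      intro h
      rw [h] at hG0
      unfold fpoly at hG0
      rw [map_add, map_add, map_pow, aeval_X, map_one, one_pow] at hG0
      have := congrFun (congrFun hG0 0) 0
      simp only [Matrix.add_apply, Matrix.one_apply_eq, Matrix.zero_apply] at this
      apply h3
      linear_combination this
    have hGc : ((G3g i h2 hi2 : GL (Fin 4) F) : Matrix (Fin 4) (Fin 4) F).charpoly = fpoly ^ 2 := by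
      rcases charpoly_cases_U3 σ h3 ω hω hσω _ hGU' hG3 hG1 with ⟨_, h⟩ | ⟨h, _⟩
      · exact h
      · exact absurd hG0 h
    have hGss := Cfsg.Agent.H9.SemisimpleConj.isSemisimple_of_pow_eq_one _ 3 h3' hG3
    obtain ⟨k₀, hk₀⟩ := exists_conj_of_charpoly x (G3g i h2 hi2) hxss hGss (by rw [hxc, hGc])
    obtain ⟨k, hkU, hkdet, hkx⟩ := conj_U σ (by norm_num) hF hσ hσ2 hσne x _ hxU hGU hxss k₀ hk₀
      δ hδ
    refine ⟨k, hkU, hkdet, ?_⟩
    rw [hkx]
    exact G3g_mem_normalizer i hi h2 hi2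
  · -- the class of the three-cycle
    have hTU := T3g_mem_GU (q := q) σ hσ
    have hTU' := (mem_GU_iff σ hσ _).1 hTU
    have hT3 : ((T3g : GL (Fin 4) F) : Matrix (Fin 4) (Fin 4) F) ^ 3 = 1 := by
      rw [T3g_val, pow_succ, pow_two, T3m_sq, T3i_mul_T3m]
    have hT1 : ((T3g : GL (Fin 4) F) : Matrix (Fin 4) (Fin 4) F) ≠ 1 := by
      intro h
      have := congrFun (congrFun h 1) 1
      simp [T3m] at this
    have hT0 : aeval ((T3g : GL (Fin 4) F) : Matrix (Fin 4) (Fin 4) F) (fpoly : F[X]) ≠ 0 := by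
      intro h
      unfold fpoly at h
      rw [map_add, map_add, map_pow, aeval_X, map_one, pow_two, T3g_val, T3m_sq] at h
      have := congrFun (congrFun h 0) 0
      simp only [Matrix.add_apply, Matrix.one_apply_eq, Matrix.zero_apply] at this
      simp [T3m, T3i] at this
      apply h3
      linear_combination this
    have hTss := Cfsg.Agent.H9.SemisimpleConj.isSemisimple_of_pow_eq_one _ 3 h3' hT3
    have hTc : ((T3g : GL (Fin 4) F) : Matrix (Fin 4) (Fin 4) F).charpoly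
        = (X - 1) ^ 2 * fpoly := by
      rcases charpoly_cases_U3 σ h3 ω hω hσω _ hTU' hT3 hT1 with ⟨h, _⟩ | ⟨_, h⟩
      · exact absurd h hT0
      · exact h
    obtain ⟨k₀, hk₀⟩ := exists_conj_of_charpoly x T3g hxss hTss (by rw [hxc, hTc])
    obtain ⟨k, hkU, hkdet, hkx⟩ := conj_U σ (by norm_num) hF hσ hσ2 hσne x _ hxU hTU hxss k₀ hk₀
      δ hδ
    refine ⟨k, hkU, hkdet, ?_⟩
    rw [hkx]
    exact T3g_mem_normalizer i hi

/-- unitary elements of order five are unitarily conjugate into the normalizer of the standard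
group, by matrices of any determinant of norm one -/
theorem conj_five_U4 (hF : Fintype.card F = q ^ 2) (hσ : ∀ x, σ x = x ^ q)
    (hσ2 : ∀ a : F, σ (σ a) = a) (hσne : σ ≠ RingHom.id F)
    (h2 : (2 : F) ≠ 0) (h5 : (5 : F) ≠ 0) (hi2 : i ^ 2 = -1) (hσi : σ i = -i)
    (t₁ t₂ : F) (ht₁ : t₁ ^ 2 + t₁ - 1 = 0)
    (ht₂ : t₂ = -1 - t₁) (hne : t₁ ≠ t₂) (hσ1 : σ t₁ = t₂)
    (hno : ∀ ζ : F, ζ ^ 4 + ζ ^ 3 + ζ ^ 2 + ζ + 1 ≠ 0)
    (x : GL (Fin 4) F) (hxU : x ∈ Cfsg.GU 4 F q) (hx : x ^ 5 = 1) (hx1 : x ≠ 1)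
    (δ : Fˣ) (hδ : (δ : F) * σ δ = 1) :
    ∃ k : GL (Fin 4) F, k ∈ Cfsg.GU 4 F q ∧ Matrix.GeneralLinearGroup.det k = δ ∧
      k⁻¹ * x * k ∈ Subgroup.normalizer (Pstd i hi : Set (GL (Fin 4) F)) := by
  have h5' : ((5 : ℕ) : F) ≠ 0 := by exact_mod_cast h5
  have hσ2' : σ t₂ = t₁ := by rw [← hσ1, hσ2]
  have hxm : (x : Matrix (Fin 4) (Fin 4) F) ^ 5 = 1 := by
    rw [← Units.val_pow_eq_pow_val, hx, Units.val_one]
  have hxm1 : (x : Matrix (Fin 4) (Fin 4) F) ≠ 1 := by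
    intro h
    apply hx1
    apply Units.ext
    rw [h, Units.val_one]
  have hxss := Cfsg.Agent.H9.SemisimpleConj.isSemisimple_of_pow_eq_one _ 5 h5' hxm
  have hxU' := (mem_GU_iff σ hσ x).1 hxU
  have hxc := charpoly_U5 σ h5 t₁ t₂ ht₁ ht₂ hne hσ1 hσ2' hno _ hxU' hxm hxm1
  have hGU := G5g_mem_GU σ i hσ h2 hi2 hσi
  have hGU' := (mem_GU_iff σ hσ _).1 hGU
  have hG5 : ((G5g i h2 hi2 : GL (Fin 4) F) : Matrix (Fin 4) (Fin 4) F) ^ 5 = 1 := by
    rw [← Units.val_pow_eq_pow_val, G5g_pow_five, Units.val_one]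
  have hG1 : ((G5g i h2 hi2 : GL (Fin 4) F) : Matrix (Fin 4) (Fin 4) F) ≠ 1 := by
    intro h
    apply G5g_ne_one i h2 hi2
    apply Units.ext
    rw [h, Units.val_one]
  have hGss := Cfsg.Agent.H9.SemisimpleConj.isSemisimple_of_pow_eq_one _ 5 h5' hG5
  have hGc := charpoly_U5 σ h5 t₁ t₂ ht₁ ht₂ hne hσ1 hσ2' hno _ hGU' hG5 hG1
  obtain ⟨k₀, hk₀⟩ := exists_conj_of_charpoly x (G5g i h2 hi2) hxss hGss (by rw [hxc, hGc])
  obtain ⟨k, hkU, hkdet, hkx⟩ := conj_U σ (by norm_num) hF hσ hσ2 hσne x _ hxU hGU hxss k₀ hk₀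
    δ hδ
  refine ⟨k, hkU, hkdet, ?_⟩
  rw [hkx]
  exact G5g_mem_normalizer i hi h2 hi2

end conj

end Cfsg.Agent.H9.Pauli4
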