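import Mathlib
import Cfsg.Agent.H9.Pauli4U5

set_option autoImplicit false
set_option linter.style.haveILetI false
set_option linter.unusedSectionVars false
set_option linter.unreachableTactic false
set_option linter.unusedTactic false

/-! Elements of `GU₄(q)` with scalar square are unitarily conjugate into the normalizer of
the standard group `4 ∘ 2^{1+4}`. -/

namespace Cfsg.Agent.H9.Pauli4

open Matrix Polynomial Cfsg.Agent.Lib.Helper8.SUReg

section hadamard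

variable {F : Type*} [Field F]

/-- the matrix `(X + Z) ⊗ 1` -/
def W0m : Matrix (Fin 4) (Fin 4) F := !![1, 0, 1, 0; 0, 1, 0, 1; 1, 0, -1, 0; 0, 1, 0, -1]

theorem W0m_sq : (W0m : Matrix (Fin 4) (Fin 4) F) * W0m
    = (2 : F) • (1 : Matrix (Fin 4) (Fin 4) F) := by
  ext a b
  simp only [Matrix.mul_apply, Fin.sum_univ_four, Matrix.smul_apply, Matrix.one_apply]
  fin_cases a <;> fin_cases b <;> simp [W0m] <;> ring1

theorem W0m_X1m : (W0m : Matrix (Fin 4) (Fin 4) F) * X1m = Matrix.diagonal z1d * W0m := by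
  ext a b
  simp only [Matrix.mul_apply, Fin.sum_univ_four, Matrix.diagonal_apply]
  fin_cases a <;> fin_cases b <;> simp [W0m, X1m, z1d]

theorem W0m_Z1 : (W0m : Matrix (Fin 4) (Fin 4) F) * Matrix.diagonal z1d = X1m * W0m := by
  ext a b
  simp only [Matrix.mul_apply, Fin.sum_univ_four, Matrix.diagonal_apply]
  fin_cases a <;> fin_cases b <;> simp [W0m, X1m, z1d]

theorem W0m_X2m : (W0m : Matrix (Fin 4) (Fin 4) F) * X2m = X2m * W0m := by
  ext a b
  simp only [Matrix.mul_apply, Fin.sum_univ_four]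
  fin_cases a <;> fin_cases b <;> simp [W0m, X2m]

theorem W0m_Z2 : (W0m : Matrix (Fin 4) (Fin 4) F) * Matrix.diagonal z2d
    = Matrix.diagonal z2d * W0m := by
  ext a b
  simp only [Matrix.mul_apply, Fin.sum_univ_four, Matrix.diagonal_apply]
  fin_cases a <;> fin_cases b <;> simp [W0m, z2d]

theorem adj_W0m (σ : F →+* F) : adj σ (W0m : Matrix (Fin 4) (Fin 4) F) = W0m := by
  ext a b
  rw [adj_apply]
  fin_cases a <;> fin_cases b <;> simp [W0m]

end hadamard

section hadamardN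

variable {F : Type*} [Field F] [Fintype F] [DecidableEq F] (i : F) (hi : i ≠ 0)

/-- `(X + Z) ⊗ 1` as an element of `GL₄` -/
def W0g (h2 : (2 : F) ≠ 0) : GL (Fin 4) F := glOfMul W0m W0m 2 h2 W0m_sq W0m_sq

theorem W0g_val (h2 : (2 : F) ≠ 0) :
    ((W0g h2 : GL (Fin 4) F) : Matrix (Fin 4) (Fin 4) F) = W0m := rfl

theorem W0g_mem_normalizer (h2 : (2 : F) ≠ 0) :
    W0g h2 ∈ Subgroup.normalizer (Pstd i hi : Set (GL (Fin 4) F)) := by
  apply mem_normalizer_of_rel i hi _ Z1g X1g X2g Z2g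
    (Z1g_mem i hi) (X1g_mem i hi) (X2g_mem i hi) (Z2g_mem i hi)
  · apply Units.ext
    simp only [Units.val_mul, W0g_val, X1g_val, Z1g_val]
    exact W0m_X1m
  · apply Units.ext
    simp only [Units.val_mul, W0g_val, X1g_val, Z1g_val]
    exact W0m_Z1
  · apply Units.ext
    simp only [Units.val_mul, W0g_val, X2g_val]
    exact W0m_X2m
  · apply Units.ext
    simp only [Units.val_mul, W0g_val, Z2g_val]
    exact W0m_Z2

end hadamardN

section sq

universe u

variable {F : Type u} [Field F] [Fintype F] [DecidableEq F] {q : ℕ} (σ : F →+* F) (i : F)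
  (hi : i ≠ 0)

omit [Fintype F] [DecidableEq F] in
/-- matrices with non-zero scalar square are semisimple in odd characteristic -/
theorem isSemisimple_of_sq (h2 : (2 : F) ≠ 0) (M : Matrix (Fin 4) (Fin 4) F) (z : F)
    (hz0 : z ≠ 0) (hM : M * M = z • (1 : Matrix (Fin 4) (Fin 4) F)) :
    Module.End.IsSemisimple (Matrix.toLin' M) := by
  apply Module.End.isSemisimple_of_squarefree_aeval_eq_zero
    (p := (Polynomial.X : F[X]) ^ 2 - C z)
  · exact (separable_X_pow_sub_C z (by exact_mod_cast h2) hz0).squarefree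
  · rw [map_sub, map_pow, aeval_X, aeval_C, pow_two, Module.End.mul_eq_comp, ← Matrix.toLin'_mul,
      hM, Algebra.algebraMap_eq_smul_one, map_smul, Matrix.toLin'_one]
    exact sub_self _

/-- unitary elements with square `c²`, `c` of norm one, are unitarily conjugate into the
normalizer of the standard group -/
theorem conj_sq_U4a (hF : Fintype.card F = q ^ 2) (hσ : ∀ x, σ x = x ^ q)
    (hσ2 : ∀ a : F, σ (σ a) = a) (hσne : σ ≠ RingHom.id F)
    (h2 : (2 : F) ≠ 0) (hi2 : i ^ 2 = -1)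
    (x : GL (Fin 4) F) (hxU : x ∈ Cfsg.GU 4 F q) (c : F) (hc0 : c ≠ 0) (hcn : c * σ c = 1)
    (hx : (x : Matrix (Fin 4) (Fin 4) F) * x = (c ^ 2) • (1 : Matrix (Fin 4) (Fin 4) F))
    (δ : Fˣ) (hδ : (δ : F) * σ δ = 1) :
    ∃ k : GL (Fin 4) F, k ∈ Cfsg.GU 4 F q ∧ Matrix.GeneralLinearGroup.det k = δ ∧
      k⁻¹ * x * k ∈ Subgroup.normalizer (Pstd i hi : Set (GL (Fin 4) F)) := by
  obtain ⟨y, hy⟩ : ∃ y, y = c⁻¹ • (x : Matrix (Fin 4) (Fin 4) F) := ⟨_, rfl⟩
  have hxy : (x : Matrix (Fin 4) (Fin 4) F) = c • y := by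
    rw [hy, smul_smul, mul_inv_cancel₀ hc0, one_smul]
  have hy2 : y * y = 1 := by
    rw [hy]
    simp only [Matrix.smul_mul, Matrix.mul_smul, smul_smul]
    rw [hx, smul_smul]
    have : c⁻¹ * c⁻¹ * c ^ 2 = 1 := by field_simp
    rw [this, one_smul]
  obtain ⟨k₀, ε, hkd, hev⟩ := exists_diag_of_iSup_fin y (iSup_eigenspace_of_sq_fin h2 y hy2)
  have hε : ∀ k, IsPM (ε k) := by
    intro k
    obtain ⟨v, hv0, hv⟩ := hev k
    have h1 : y *ᵥ (y *ᵥ v) = v := by
      rw [Matrix.mulVec_mulVec, hy2, Matrix.one_mulVec]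
    rw [hv, Matrix.mulVec_smul, hv, smul_smul] at h1
    have h2' : (ε k * ε k - 1) • v = 0 := by rw [sub_smul, h1, one_smul, sub_self]
    rcases smul_eq_zero.1 h2' with h | h
    · have : (ε k - 1) * (ε k + 1) = 0 := by linear_combination h
      rcases mul_eq_zero.1 this with h' | h'
      · left; linear_combination h'
      · right; linear_combination h'
    · exact absurd h hv0
  have hE : x * k₀ = k₀ * (sc4 c hc0 * dg4 ε (fun k => (hε k).ne_zero)) := by
    apply Units.ext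
    rw [Units.val_mul, Units.val_mul, Units.val_mul, sc4_val, dg4_val, hxy, Matrix.smul_mul, hkd,
      Matrix.smul_mul, Matrix.one_mul, Matrix.mul_smul]
  have hconj : k₀⁻¹ * x * k₀ = sc4 c hc0 * dg4 ε (fun k => (hε k).ne_zero) := by
    rw [mul_assoc, hE, inv_mul_cancel_left]
  have hnU : sc4 c hc0 * dg4 ε (fun k => (hε k).ne_zero) ∈ Cfsg.GU 4 F q :=
    Subgroup.mul_mem _ (sc4_mem_GU σ hσ c hc0 hcn)
      (dg4_mem_GU σ hσ ε _ (fun k => isPM_norm σ (hε k)))
  have hc20 : c ^ 2 ≠ 0 := pow_ne_zero 2 hc0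
  obtain ⟨k, hkU, hkdet, hkx⟩ := conj_U σ (by norm_num) hF hσ hσ2 hσne x _ hxU hnU
    (isSemisimple_of_sq h2 _ _ hc20 hx) k₀ hconj δ hδ
  refine ⟨k, hkU, hkdet, ?_⟩
  rw [hkx]
  exact Subgroup.mul_mem _ (sc4_mem_normalizer i hi c hc0) (sign_diag_mem_normalizer i hi hi2 ε hε)

/-- unitary elements with square `c²`, `c` of norm minus one, are unitarily conjugate into the
normalizer of the standard group -/
theorem conj_sq_U4b (hF : Fintype.card F = q ^ 2) (hσ : ∀ x, σ x = x ^ q)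
    (hσ2 : ∀ a : F, σ (σ a) = a) (hσne : σ ≠ RingHom.id F)
    (h2 : (2 : F) ≠ 0)
    (x : GL (Fin 4) F) (hxU : x ∈ Cfsg.GU 4 F q) (c : F) (hc0 : c ≠ 0) (hcn : c * σ c = -1)
    (hc4 : c ^ 4 = -1)
    (hx : (x : Matrix (Fin 4) (Fin 4) F) * x = (c ^ 2) • (1 : Matrix (Fin 4) (Fin 4) F))
    (δ : Fˣ) (hδ : (δ : F) * σ δ = 1) :
    ∃ k : GL (Fin 4) F, k ∈ Cfsg.GU 4 F q ∧ Matrix.GeneralLinearGroup.det k = δ ∧
      k⁻¹ * x * k ∈ Subgroup.normalizer (Pstd i hi : Set (GL (Fin 4) F)) := by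
  have hσc : σ c = -c⁻¹ := by
    field_simp
    linear_combination hcn
  obtain ⟨s, hs⟩ : ∃ s, s = c + c⁻¹ := ⟨_, rfl⟩
  have hs2 : s ^ 2 = 2 := by
    rw [hs]
    field_simp
    linear_combination hc4
  have hs0 : s ≠ 0 := by
    rintro h
    rw [h] at hs2
    apply h2
    rw [← hs2]; ring
  have hσs : σ s = -s := by
    rw [hs, map_add, map_inv₀, hσc, inv_neg, inv_inv]
    ring
  obtain ⟨a, ha⟩ : ∃ a, a = c / s := ⟨_, rfl⟩
  have ha0 : a ≠ 0 := by rw [ha]; exact div_ne_zero hc0 hs0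
  have ha2 : a ^ 2 * 2 = c ^ 2 := by
    rw [ha, div_pow, hs2]
    field_simp
  have han : σ a * a * 2 = 1 := by
    rw [ha, map_div₀, hσs, hσc]
    field_simp
    linear_combination -hs2
  obtain ⟨n, hn⟩ : ∃ n, n = sc4 a ha0 * W0g h2 := ⟨_, rfl⟩
  have hnval : (n : Matrix (Fin 4) (Fin 4) F) = a • W0m := by
    rw [hn, Units.val_mul, sc4_val, W0g_val, Matrix.smul_mul, Matrix.one_mul]
  have hnU' : adj σ (n : Matrix (Fin 4) (Fin 4) F) * n = 1 := by
    rw [hnval, adj_smul, adj_W0m, Matrix.smul_mul, Matrix.mul_smul, smul_smul, W0m_sq, smul_smul,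
      han, one_smul]
  have hnU : n ∈ Cfsg.GU 4 F q := (mem_GU_iff σ hσ n).2 hnU'
  have hnn : (n : Matrix (Fin 4) (Fin 4) F) * n = (c ^ 2) • (1 : Matrix (Fin 4) (Fin 4) F) := by
    rw [hnval, Matrix.smul_mul, Matrix.mul_smul, smul_smul, W0m_sq, smul_smul, ← ha2]
    congr 1
    ring
  have hc20 : c ^ 2 ≠ 0 := pow_ne_zero 2 hc0
  have hxss := isSemisimple_of_sq h2 _ _ hc20 hx
  have hnss := isSemisimple_of_sq h2 _ _ hc20 hnn
  have hxc := charpoly_U2 σ h2 c hc0 hσc _ ((mem_GU_iff σ hσ x).1 hxU) hx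
  have hnc := charpoly_U2 σ h2 c hc0 hσc _ hnU' hnn
  obtain ⟨k₀, hk₀⟩ := exists_conj_of_charpoly x n hxss hnss (by rw [hxc, hnc])
  obtain ⟨k, hkU, hkdet, hkx⟩ := conj_U σ (by norm_num) hF hσ hσ2 hσne x _ hxU hnU hxss k₀ hk₀
    δ hδ
  refine ⟨k, hkU, hkdet, ?_⟩
  rw [hkx, hn]
  exact Subgroup.mul_mem _ (sc4_mem_normalizer i hi a ha0) (W0g_mem_normalizer i hi h2)

end sq

end Cfsg.Agent.H9.Pauli4
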