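import Mathlib
import Cfsg.Agent.H9.Pauli4I

set_option autoImplicit false
set_option linter.style.haveILetI false
set_option linter.unusedSectionVars false

/-! The standard group `4 ∘ 2^{1+4}`: the normalizer contains no transvections. -/

namespace Cfsg.Agent.H9.Pauli4

open Matrix

section rankone

variable {F : Type*} [Field F]

/-- the rank one property of `vecMulVec` -/
theorem vecMulVec_rank_one (v φ : Fin 4 → F) (M : Matrix (Fin 4) (Fin 4) F) :
    vecMulVec v φ * M * vecMulVec v φ = Matrix.trace (vecMulVec v φ * M) • vecMulVec v φ := by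
  rw [Matrix.vecMulVec_mul, Matrix.vecMulVec_mul_vecMulVec, Matrix.trace_vecMulVec]
  ext a b
  simp only [Matrix.vecMulVec_apply, Pi.smul_apply, Matrix.smul_apply, smul_eq_mul]
  rw [dotProduct_comm v]
  ring

variable (N : Matrix (Fin 4) (Fin 4) F)
  (hrk : ∀ M : Matrix (Fin 4) (Fin 4) F, N * M * N = Matrix.trace (N * M) • N)

include hrk

theorem rk_trace1 (Y Yi : Matrix (Fin 4) (Fin 4) F) :
    Matrix.trace (Y * N * Yi * N) = Matrix.trace (N * Y) * Matrix.trace (N * Yi) := by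
  have h1 : Y * N * Yi * N = (Y * N * Yi) * N := rfl
  rw [h1, Matrix.trace_mul_comm]
  have h2 : N * (Y * N * Yi) = (N * Y * N) * Yi := by simp only [Matrix.mul_assoc]
  rw [h2, hrk, Matrix.smul_mul, Matrix.trace_smul, smul_eq_mul]

theorem rk_trace2 (Y Yi Ci : Matrix (Fin 4) (Fin 4) F) :
    Matrix.trace (Y * N * Yi * N * Ci) = Matrix.trace (N * Yi) * Matrix.trace (N * (Ci * Y)) := by
  have h1 : Y * N * Yi * N * Ci = Y * (N * Yi * N * Ci) := by simp only [Matrix.mul_assoc]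
  rw [h1, Matrix.trace_mul_comm]
  have h2 : N * Yi * N * Ci * Y = (N * Yi * N) * (Ci * Y) := by simp only [Matrix.mul_assoc]
  rw [h2, hrk, Matrix.smul_mul, Matrix.trace_smul, smul_eq_mul]

end rankone

section main

variable {F : Type*} [Field F] [Fintype F] [DecidableEq F] (i : F) (hi : i ≠ 0)

/-- the matrix of a commutator with a unipotent element `1 + N`, `N² = 0` -/
theorem val_comm_unip (g y : GL (Fin 4) F) (N : Matrix (Fin 4) (Fin 4) F)
    (hN : (g : Matrix (Fin 4) (Fin 4) F) = 1 + N) (hN2 : N * N = 0) :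
    ((y * g * y⁻¹ * g⁻¹ : GL (Fin 4) F) : Matrix (Fin 4) (Fin 4) F)
      = 1 + (y : Matrix (Fin 4) (Fin 4) F) * N
          * ((y⁻¹ : GL (Fin 4) F) : Matrix (Fin 4) (Fin 4) F) - N
        - (y : Matrix (Fin 4) (Fin 4) F) * N
          * ((y⁻¹ : GL (Fin 4) F) : Matrix (Fin 4) (Fin 4) F) * N := by
  have hginv : ((g⁻¹ : GL (Fin 4) F) : Matrix (Fin 4) (Fin 4) F) = 1 - N := by
    apply inv_val_of_mul_eq_one
    rw [hN]
    calc (1 + N) * (1 - N) = 1 - N * N := by noncomm_ring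
      _ = 1 := by rw [hN2, sub_zero]
  obtain ⟨Y, hY⟩ : ∃ Y, Y = (y : Matrix (Fin 4) (Fin 4) F) := ⟨_, rfl⟩
  obtain ⟨Yi, hYi⟩ : ∃ Yi, Yi = ((y⁻¹ : GL (Fin 4) F) : Matrix (Fin 4) (Fin 4) F) := ⟨_, rfl⟩
  have hYYi : Y * Yi = 1 := by rw [hY, hYi, Units.mul_inv]
  simp only [Units.val_mul]
  rw [hginv, hN, ← hY, ← hYi]
  calc Y * (1 + N) * Yi * (1 - N) = (Y * Yi + Y * N * Yi) * (1 - N) := by noncomm_ring
    _ = (1 + Y * N * Yi) * (1 - N) := by rw [hYYi]
    _ = 1 + Y * N * Yi - N - Y * N * Yi * N := by noncomm_ring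

variable (h2 : (2 : F) ≠ 0) (hi2 : i ^ 2 = -1) (hcard : Nat.card ↥(Pstd i hi) = 64)
  (g : GL (Fin 4) F) (hg : g ∈ Subgroup.normalizer (Pstd i hi : Set (GL (Fin 4) F)))
  (r : ℕ) (hr : Nat.Coprime r 64) (hgr : g ^ r = 1)
  (N : Matrix (Fin 4) (Fin 4) F) (hN : (g : Matrix (Fin 4) (Fin 4) F) = 1 + N)
  (hrk : ∀ M : Matrix (Fin 4) (Fin 4) F, N * M * N = Matrix.trace (N * M) • N)
  (htr : Matrix.trace N = 0)

include h2 hcard hg hr hgr hN hrk htr

/-- elements of the standard group on which the functional `tr (N ·)` vanishes commute with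
`1 + N` -/
theorem comm_of_trace_zero (w : GL (Fin 4) F) (hw : w ∈ Pstd i hi)
    (hℓ : Matrix.trace (N * (w : Matrix (Fin 4) (Fin 4) F)) = 0) : w * g = g * w := by
  have hN2 : N * N = 0 := by
    have := hrk 1
    rw [Matrix.mul_one, htr, zero_smul] at this
    exact this
  by_contra hne
  have hg1 : ((g ^ r : GL (Fin 4) F) : Matrix (Fin 4) (Fin 4) F)
      = (1 : F) • (1 : Matrix (Fin 4) (Fin 4) F) := by
    rw [hgr, one_smul, Units.val_one]
  have hk := comm_mem_of_normalizer i hi g hg w hw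
  have ht : Matrix.trace ((w * g * w⁻¹ * g⁻¹ : GL (Fin 4) F) : Matrix (Fin 4) (Fin 4) F) = 0 := by
    apply trace_eq_zero i hi h2 _ hk
    intro c hc
    apply hne
    have h := comm_eq_one_of_scalar i hi hcard r hr g 1 hg1 w hk c hc
    calc w * g = (w * g * w⁻¹ * g⁻¹) * (g * w) := by group
      _ = g * w := by rw [h, one_mul]
  rw [trace_comm_unip g w N hN hN2, rk_trace1 N hrk, hℓ, zero_mul, sub_zero] at ht
  have h4 : (4 : F) = 2 * 2 := by norm_num
  rw [h4] at ht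
  rcases mul_eq_zero.1 ht with h | h <;> exact h2 h

include hi2 in
/-- a unipotent element `1 + N`, `N` of rank one, of order prime to two in the normalizer of the
standard group is trivial -/
theorem eq_one_of_rank_one : g = 1 := by
  classical
  have hN2 : N * N = 0 := by
    have := hrk 1
    rw [Matrix.mul_one, htr, zero_smul] at this
    exact this
  by_contra hne
  -- some element of the standard group does not commute with `g`
  obtain ⟨y, hyP, hyg⟩ : ∃ y ∈ Pstd i hi, y * g ≠ g * y := by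
    by_contra hcon
    push Not at hcon
    obtain ⟨c, hc⟩ := scalar_of_commute h2 g (fun y hy => hcon y (hy.mem i hi))
    apply hne
    have hNc : N = (c - 1) • (1 : Matrix (Fin 4) (Fin 4) F) := by
      have : N = (g : Matrix (Fin 4) (Fin 4) F) - 1 := by rw [hN]; abel
      rw [this, hc, sub_smul, one_smul]
    have h00 := congrFun (congrFun hN2 0) 0
    rw [hNc, Matrix.smul_mul, Matrix.one_mul, Matrix.smul_apply, Matrix.smul_apply,
      Matrix.one_apply_eq, smul_eq_mul, smul_eq_mul, mul_one, Matrix.zero_apply] at h00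
    have hc1 : c = 1 := by
      have := mul_self_eq_zero.1 h00
      linear_combination this
    apply Units.ext
    rw [hc, hc1, one_smul, Units.val_one]
  have hg1 : ((g ^ r : GL (Fin 4) F) : Matrix (Fin 4) (Fin 4) F)
      = (1 : F) • (1 : Matrix (Fin 4) (Fin 4) F) := by
    rw [hgr, one_smul, Units.val_one]
  obtain ⟨k, hkdef⟩ : ∃ k, k = y * g * y⁻¹ * g⁻¹ := ⟨_, rfl⟩
  have hk : k ∈ Pstd i hi := by rw [hkdef]; exact comm_mem_of_normalizer i hi g hg y hyP
  have hkns : ∀ c : F, (k : Matrix (Fin 4) (Fin 4) F) ≠ c • (1 : Matrix (Fin 4) (Fin 4) F) := by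
    intro c hc
    apply hyg
    rw [hkdef] at hk hc
    have h := comm_eq_one_of_scalar i hi hcard r hr g 1 hg1 y hk c hc
    calc y * g = (y * g * y⁻¹ * g⁻¹) * (g * y) := by group
      _ = g * y := by rw [h, one_mul]
  have hyns : ∀ c : F, (y : Matrix (Fin 4) (Fin 4) F) ≠ c • (1 : Matrix (Fin 4) (Fin 4) F) := by
    intro c hc
    exact hyg (central_of_scalar y c hc g)
  have hℓy : Matrix.trace (N * ((y⁻¹ : GL (Fin 4) F) : Matrix (Fin 4) (Fin 4) F)) ≠ 0 := by
    intro h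
    have := comm_of_trace_zero i hi h2 hcard g hg r hr hgr N hN hrk htr y⁻¹
      (Subgroup.inv_mem _ hyP) h
    apply hyg
    calc y * g = y * (g * y⁻¹) * y := by group
      _ = y * (y⁻¹ * g) * y := by rw [this]
      _ = g * y := by group
  -- the key step
  have key : ∀ c : GL (Fin 4) F, c ∈ Pstd i hi → c * y = y * c →
      (∀ a : F, (c : Matrix (Fin 4) (Fin 4) F) ≠ a • (1 : Matrix (Fin 4) (Fin 4) F)) →
      (∀ a : F, ((k * c⁻¹ : GL (Fin 4) F) : Matrix (Fin 4) (Fin 4) F)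
        ≠ a • (1 : Matrix (Fin 4) (Fin 4) F)) → (c⁻¹ * y) * g = g * (c⁻¹ * y) := by
    intro c hcP hcy hcns hkcns
    apply comm_of_trace_zero i hi h2 hcard g hg r hr hgr N hN hrk htr _
      (Subgroup.mul_mem _ (Subgroup.inv_mem _ hcP) hyP)
    have hcins : ∀ a : F, ((c⁻¹ : GL (Fin 4) F) : Matrix (Fin 4) (Fin 4) F)
        ≠ a • (1 : Matrix (Fin 4) (Fin 4) F) := by
      intro a ha
      have h1 := central_of_scalar c⁻¹ a ha
      obtain ⟨w, hw, hcw⟩ := exists_anticommute i hi h2 c hcP hcns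
      have h3 : w * c = c * w := by
        have := h1 w
        calc w * c = c * (c⁻¹ * w) * c := by group
          _ = c * (w * c⁻¹) * c := by rw [this]
          _ = c * w := by group
      rw [h3] at hcw
      have : (neg4 : GL (Fin 4) F) = 1 := by
        calc (neg4 : GL (Fin 4) F) = (neg4 * (c * w)) * (c * w)⁻¹ := by group
          _ = 1 := by rw [← hcw]; group
      exact neg4_ne_one h2 this
    have ht0 : Matrix.trace ((k * c⁻¹ : GL (Fin 4) F) : Matrix (Fin 4) (Fin 4) F) = 0 :=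
      trace_eq_zero i hi h2 _ (Subgroup.mul_mem _ hk (Subgroup.inv_mem _ hcP)) hkcns
    have htc : Matrix.trace ((c⁻¹ : GL (Fin 4) F) : Matrix (Fin 4) (Fin 4) F) = 0 :=
      trace_eq_zero i hi h2 _ (Subgroup.inv_mem _ hcP) hcins
    obtain ⟨Y, hY⟩ : ∃ Y, Y = (y : Matrix (Fin 4) (Fin 4) F) := ⟨_, rfl⟩
    obtain ⟨Yi, hYi⟩ : ∃ Yi, Yi = ((y⁻¹ : GL (Fin 4) F) : Matrix (Fin 4) (Fin 4) F) := ⟨_, rfl⟩
    obtain ⟨Ci, hCi⟩ : ∃ Ci, Ci = ((c⁻¹ : GL (Fin 4) F) : Matrix (Fin 4) (Fin 4) F) := ⟨_, rfl⟩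
    have hcomm : Yi * Ci * Y = Ci := by
      rw [hY, hYi, hCi, ← Units.val_mul, ← Units.val_mul]
      congr 1
      calc y⁻¹ * c⁻¹ * y = (c * y)⁻¹ * y := by group
        _ = (y * c)⁻¹ * y := by rw [hcy]
        _ = c⁻¹ := by group
    rw [Units.val_mul, hkdef, val_comm_unip g y N hN hN2, ← hY, ← hYi, ← hCi] at ht0
    have e : (1 + Y * N * Yi - N - Y * N * Yi * N) * Ci
        = Ci + Y * N * Yi * Ci - N * Ci - Y * N * Yi * N * Ci := by noncomm_ring
    rw [e, Matrix.trace_sub, Matrix.trace_sub, Matrix.trace_add, rk_trace2 N hrk] at ht0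
    have e2 : Matrix.trace (Y * N * Yi * Ci) = Matrix.trace (N * Ci) := by
      have h1 : Y * N * Yi * Ci = Y * (N * Yi * Ci) := by simp only [Matrix.mul_assoc]
      rw [h1, Matrix.trace_mul_comm]
      have h2' : N * Yi * Ci * Y = N * (Yi * Ci * Y) := by simp only [Matrix.mul_assoc]
      rw [h2', hcomm]
    rw [e2] at ht0
    rw [← hCi] at htc
    rw [htc] at ht0
    rw [Units.val_mul, ← hCi, ← hY]
    have h0 : Matrix.trace (N * Yi) * Matrix.trace (N * (Ci * Y)) = 0 := by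
      linear_combination -ht0
    rcases mul_eq_zero.1 h0 with h | h
    · rw [hYi] at h
      exact absurd h hℓy
    · exact h
  -- counting
  obtain ⟨Zs, hZs⟩ : ∃ Zs : Set (GL (Fin 4) F),
      Zs = (Subgroup.zpowers (sc4 i hi) : Set (GL (Fin 4) F)) := ⟨_, rfl⟩
  have hZcard : Zs.ncard = 4 := by
    rw [hZs, ← Nat.card_coe_set_eq]
    show Nat.card ↥(Subgroup.zpowers (sc4 i hi)) = 4
    rw [Nat.card_zpowers, orderOf_sc4_i i hi h2 hi2]
  have hZfin : Zs.Finite := Set.toFinite _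
  obtain ⟨S, hS⟩ : ∃ S : Set (GL (Fin 4) F),
      S = ((fun z => z * 1) '' Zs ∪ (fun z => z * k) '' Zs)
        ∪ ((fun z => z * y⁻¹) '' Zs ∪ (fun z => z * (k * y⁻¹)) '' Zs) := ⟨_, rfl⟩
  have hScard : S.ncard ≤ 16 := by
    rw [hS]
    have h1 := Set.ncard_image_le (f := fun z : GL (Fin 4) F => z * 1) hZfin
    have h2' := Set.ncard_image_le (f := fun z : GL (Fin 4) F => z * k) hZfin
    have h3 := Set.ncard_image_le (f := fun z : GL (Fin 4) F => z * y⁻¹) hZfin
    have h4 := Set.ncard_image_le (f := fun z : GL (Fin 4) F => z * (k * y⁻¹)) hZfin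
    have h5 := Set.ncard_union_le ((fun z : GL (Fin 4) F => z * 1) '' Zs)
      ((fun z : GL (Fin 4) F => z * k) '' Zs)
    have h6 := Set.ncard_union_le ((fun z : GL (Fin 4) F => z * y⁻¹) '' Zs)
      ((fun z : GL (Fin 4) F => z * (k * y⁻¹)) '' Zs)
    have h7 := Set.ncard_union_le (((fun z : GL (Fin 4) F => z * 1) '' Zs)
      ∪ ((fun z : GL (Fin 4) F => z * k) '' Zs)) (((fun z : GL (Fin 4) F => z * y⁻¹) '' Zs)
      ∪ ((fun z : GL (Fin 4) F => z * (k * y⁻¹)) '' Zs))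
    omega
  have hDcard : ((Pstd i hi ⊓ Subgroup.centralizer {y} : Subgroup (GL (Fin 4) F)) :
      Set (GL (Fin 4) F)).ncard = 32 := by
    rw [← Nat.card_coe_set_eq]
    exact card_centralizer_of_not_scalar i hi h2 hcard y hyP hyns
  obtain ⟨c, hcD, hcS⟩ := Set.exists_mem_notMem_of_ncard_lt_ncard
    (s := S) (t := ((Pstd i hi ⊓ Subgroup.centralizer {y} : Subgroup (GL (Fin 4) F)) :
      Set (GL (Fin 4) F))) (by rw [hDcard]; omega) (Set.toFinite _)
  rw [SetLike.mem_coe, Subgroup.mem_inf, Subgroup.mem_centralizer_singleton_iff] at hcD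
  obtain ⟨hcP, hcy⟩ := hcD
  have hcy' : c * y = y * c := hcy
  -- scalar elements of the standard group lie in `Zs`
  have hscal : ∀ w : GL (Fin 4) F, w ∈ Pstd i hi → ∀ a : F,
      (w : Matrix (Fin 4) (Fin 4) F) = a • (1 : Matrix (Fin 4) (Fin 4) F) → w ∈ Zs := by
    intro w hw a ha
    rw [hZs]
    exact scalar_mem_zpowers i hi hi2 w hw a ha
  have hZinv : ∀ w : GL (Fin 4) F, w ∈ Zs → w⁻¹ ∈ Zs := by
    intro w hw
    rw [hZs] at hw ⊢
    exact Subgroup.inv_mem _ hw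
  have hc1 : ∀ a : F, (c : Matrix (Fin 4) (Fin 4) F) ≠ a • (1 : Matrix (Fin 4) (Fin 4) F) := by
    intro a ha
    apply hcS
    rw [hS]
    left; left
    exact ⟨c, hscal c hcP a ha, mul_one c⟩
  have hc2 : ∀ a : F, ((k * c⁻¹ : GL (Fin 4) F) : Matrix (Fin 4) (Fin 4) F)
      ≠ a • (1 : Matrix (Fin 4) (Fin 4) F) := by
    intro a ha
    apply hcS
    rw [hS]
    left; right
    refine ⟨(k * c⁻¹)⁻¹, hZinv _ (hscal _ (Subgroup.mul_mem _ hk (Subgroup.inv_mem _ hcP)) a ha), ?_⟩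
    show (k * c⁻¹)⁻¹ * k = c
    group
  have hc3 : ∀ a : F, ((c * y : GL (Fin 4) F) : Matrix (Fin 4) (Fin 4) F)
      ≠ a • (1 : Matrix (Fin 4) (Fin 4) F) := by
    intro a ha
    apply hcS
    rw [hS]
    right; left
    refine ⟨c * y, hscal _ (Subgroup.mul_mem _ hcP hyP) a ha, ?_⟩
    show c * y * y⁻¹ = c
    group
  have hc4 : ∀ a : F, ((k * (c * y)⁻¹ : GL (Fin 4) F) : Matrix (Fin 4) (Fin 4) F)
      ≠ a • (1 : Matrix (Fin 4) (Fin 4) F) := by
    intro a ha
    apply hcS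
    rw [hS]
    right; right
    refine ⟨(k * (c * y)⁻¹)⁻¹, hZinv _ (hscal _ (Subgroup.mul_mem _ hk
      (Subgroup.inv_mem _ (Subgroup.mul_mem _ hcP hyP))) a ha), ?_⟩
    show (k * (c * y)⁻¹)⁻¹ * (k * y⁻¹) = c
    group
  have e1 := key c hcP hcy' hc1 hc2
  have e2 := key (c * y) (Subgroup.mul_mem _ hcP hyP) (by rw [hcy', mul_assoc, hcy']) hc3 hc4
  have e3 : (c * y)⁻¹ * y = c⁻¹ := by
    calc (c * y)⁻¹ * y = (y * c)⁻¹ * y := by rw [hcy']
      _ = c⁻¹ := by group
  rw [e3] at e2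
  apply hyg
  have e4 : c * g = g * c := by
    calc c * g = c * (g * c⁻¹) * c := by group
      _ = c * (c⁻¹ * g) * c := by rw [e2]
      _ = g * c := by group
  calc y * g = c * ((c⁻¹ * y) * g) := by group
    _ = c * (g * (c⁻¹ * y)) := by rw [e1]
    _ = (c * g) * (c⁻¹ * y) := by group
    _ = (g * c) * (c⁻¹ * y) := by rw [e4]
    _ = g * y := by group

end main

end Cfsg.Agent.H9.Pauli4
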