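import Mathlib
import Cfsg.Agent.H9.Pauli4S
import Cfsg.Agent.H9.Pauli4U3
import Cfsg.Agent.H9.Pauli4U7

set_option autoImplicit false
set_option linter.style.haveILetI false
set_option linter.unusedSectionVars false
set_option linter.unreachableTactic false
set_option linter.unusedTactic false

/-! Explicit unitary elements of order three and five with no conjugate in the normalizer of the
standard group `4 ∘ 2^{1+4}`. -/

namespace Cfsg.Agent.H9.Pauli4

open Matrix Cfsg.Agent.Lib.Helper8.SUReg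

section three

variable {F : Type*} [Field F] [Fintype F] [DecidableEq F] {q : ℕ} (σ : F →+* F)

/-- the diagonal element of order three is unitary when `ω` has norm one -/
theorem x3_mem_GU (hσ : ∀ x, σ x = x ^ q) (ω : F) (hω0 : ω ≠ 0) (hωn : ω * σ ω = 1) :
    x3 ω hω0 ∈ Cfsg.GU 4 F q := by
  unfold x3
  apply dg4_mem_GU σ hσ
  intro k
  fin_cases k
  · show (1 : F) * σ 1 = 1
    rw [map_one, mul_one]
  · exact hωn
  · exact hωn
  · exact hωn

end three

section transv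

variable {F : Type*} [Field F] (i : F)

/-- an isotropic vector -/
def tvv : Fin 4 → F := ![1, 1 + i, 0, 0]

/-- `i` times its conjugate -/
def tvφ : Fin 4 → F := ![i, i + 1, 0, 0]

/-- the nilpotent part of a unitary transvection in characteristic three -/
def xtN : Matrix (Fin 4) (Fin 4) F := vecMulVec (tvv i) (tvφ i)

theorem xtN_trace (hi2 : i ^ 2 = -1) (h3 : (3 : F) = 0) : Matrix.trace (xtN i) = 0 := by
  unfold xtN
  rw [Matrix.trace_vecMulVec]
  simp [tvv, tvφ, dotProduct, Fin.sum_univ_four]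
  linear_combination hi2 + i * h3

theorem xtN_rank_one (M : Matrix (Fin 4) (Fin 4) F) :
    xtN i * M * xtN i = Matrix.trace (xtN i * M) • xtN i :=
  vecMulVec_rank_one _ _ M

theorem xtN_sq (hi2 : i ^ 2 = -1) (h3 : (3 : F) = 0) : xtN i * xtN i = 0 := by
  have := xtN_rank_one i 1
  rw [Matrix.mul_one, xtN_trace i hi2 h3, zero_smul] at this
  exact this

/-- a unitary transvection in characteristic three -/
def xt (hi2 : i ^ 2 = -1) (h3 : (3 : F) = 0) : GL (Fin 4) F :=
  ⟨1 + xtN i, 1 - xtN i, by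
    calc (1 + xtN i) * (1 - xtN i) = 1 - xtN i * xtN i := by noncomm_ring
      _ = 1 := by rw [xtN_sq i hi2 h3, sub_zero], by
    calc (1 - xtN i) * (1 + xtN i) = 1 - xtN i * xtN i := by noncomm_ring
      _ = 1 := by rw [xtN_sq i hi2 h3, sub_zero]⟩

theorem xt_val (hi2 : i ^ 2 = -1) (h3 : (3 : F) = 0) :
    ((xt i hi2 h3 : GL (Fin 4) F) : Matrix (Fin 4) (Fin 4) F) = 1 + xtN i := rfl

theorem xt_pow (hi2 : i ^ 2 = -1) (h3 : (3 : F) = 0) : (xt i hi2 h3) ^ 3 = 1 := by
  apply Units.ext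
  rw [Units.val_pow_eq_pow_val, xt_val, Units.val_one]
  have hsq := xtN_sq i hi2 h3
  have e : (1 + xtN i : Matrix (Fin 4) (Fin 4) F) ^ 3
      = 1 + (3 : F) • xtN i + (3 : F) • (xtN i * xtN i) + xtN i * xtN i * xtN i := by
    rw [pow_succ, pow_two]
    simp only [Matrix.add_mul, Matrix.mul_add, Matrix.one_mul, Matrix.mul_one]
    module
  rw [e, hsq, h3, zero_smul, zero_smul, Matrix.zero_mul, add_zero, add_zero, add_zero]

theorem det_xt (hi2 : i ^ 2 = -1) (h3 : (3 : F) = 0) :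
    Matrix.det ((xt i hi2 h3 : GL (Fin 4) F) : Matrix (Fin 4) (Fin 4) F) = 1 := by
  rw [xt_val]
  unfold xtN
  rw [Matrix.vecMulVec_eq Unit, Matrix.det_one_add_replicateCol_mul_replicateRow]
  simp [tvv, tvφ, dotProduct, Fin.sum_univ_four]
  linear_combination hi2 + i * h3

theorem xt_not_scalar (hi : i ≠ 0) (hi2 : i ^ 2 = -1) (h3 : (3 : F) = 0) (c : F) :
    ((xt i hi2 h3 : GL (Fin 4) F) : Matrix (Fin 4) (Fin 4) F)
      ≠ c • (1 : Matrix (Fin 4) (Fin 4) F) := by
  intro h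
  have h0 := congrFun (congrFun h 1) 0
  rw [xt_val] at h0
  simp [xtN, tvv, tvφ] at h0
  rcases h0 with h0 | h0
  · have : i ^ 2 = 1 := by
      have : i = -1 := by linear_combination h0
      rw [this]; ring
    rw [hi2] at this
    have h2 : (2 : F) = 0 := by linear_combination -this
    have : (1 : F) = 0 := by linear_combination h3 - h2
    exact one_ne_zero this
  · exact hi h0

theorem adj_xtN (σ : F →+* F) (hi2 : i ^ 2 = -1) (hσi : σ i = -i) :
    adj σ (xtN i) = -xtN i := by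
  ext a b
  rw [adj_apply, Matrix.neg_apply]
  fin_cases a <;> fin_cases b <;> simp [xtN, tvv, tvφ, Matrix.vecMulVec_apply, hσi] <;>
    first | ring1 | linear_combination hi2 | linear_combination -hi2 | linear_combination 2 * hi2 | linear_combination (-2) * hi2

theorem adj_xt_mul (σ : F →+* F) (hi2 : i ^ 2 = -1) (h3 : (3 : F) = 0) (hσi : σ i = -i) :
    adj σ (1 + xtN i) * (1 + xtN i) = 1 := by
  rw [adj_add, adj_one, adj_xtN i σ hi2 hσi]
  calc (1 + -xtN i) * (1 + xtN i) = 1 - xtN i * xtN i := by noncomm_ring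
    _ = 1 := by rw [xtN_sq i hi2 h3, sub_zero]

end transv

section transvN

variable {F : Type*} [Field F] [Fintype F] [DecidableEq F] {q : ℕ} (σ : F →+* F) (i : F)
  (hi : i ≠ 0)

theorem xt_mem_GU (hσ : ∀ x, σ x = x ^ q) (hi2 : i ^ 2 = -1) (h3 : (3 : F) = 0)
    (hσi : σ i = -i) : xt i hi2 h3 ∈ Cfsg.GU 4 F q := by
  rw [mem_GU_iff σ hσ, xt_val]
  exact adj_xt_mul i σ hi2 h3 hσi

/-- the unitary transvection has no conjugate in the normalizer of the standard group -/
theorem no_conj_transv (h2 : (2 : F) ≠ 0) (hi2 : i ^ 2 = -1) (h3 : (3 : F) = 0)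
    (hcard : Nat.card ↥(Pstd i hi) = 64) (k : GL (Fin 4) F)
    (hk : k⁻¹ * xt i hi2 h3 * k ∈ Subgroup.normalizer (Pstd i hi : Set (GL (Fin 4) F))) :
    False := by
  obtain ⟨Ki, hKi⟩ : ∃ Ki, Ki = ((k⁻¹ : GL (Fin 4) F) : Matrix (Fin 4) (Fin 4) F) := ⟨_, rfl⟩
  obtain ⟨K, hK⟩ : ∃ K, K = (k : Matrix (Fin 4) (Fin 4) F) := ⟨_, rfl⟩
  have hKKi : K * Ki = 1 := by rw [hK, hKi, Units.mul_inv]
  have hKiK : Ki * K = 1 := by rw [hK, hKi, Units.inv_mul]
  have hg3 : (k⁻¹ * xt i hi2 h3 * k) ^ 3 = 1 := by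
    have := conj_pow (a := k⁻¹) (b := (xt i hi2 h3 : GL (Fin 4) F)) (i := 3)
    rw [inv_inv] at this
    rw [this, xt_pow i hi2 h3]
    group
  have hN : ((k⁻¹ * xt i hi2 h3 * k : GL (Fin 4) F) : Matrix (Fin 4) (Fin 4) F)
      = 1 + Ki * xtN i * K := by
    rw [Units.val_mul, Units.val_mul, xt_val, ← hK, ← hKi, Matrix.mul_add, Matrix.add_mul,
      Matrix.mul_one, hKiK]
  have hrk : ∀ M : Matrix (Fin 4) (Fin 4) F,
      (Ki * xtN i * K) * M * (Ki * xtN i * K)
        = Matrix.trace ((Ki * xtN i * K) * M) • (Ki * xtN i * K) := by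
    intro M
    have h1 := xtN_rank_one i (K * M * Ki)
    calc (Ki * xtN i * K) * M * (Ki * xtN i * K)
        = Ki * (xtN i * (K * M * Ki) * xtN i) * K := by simp only [Matrix.mul_assoc]
      _ = Ki * (Matrix.trace (xtN i * (K * M * Ki)) • xtN i) * K := by rw [h1]
      _ = Matrix.trace (xtN i * (K * M * Ki)) • (Ki * xtN i * K) := by
          rw [Matrix.mul_smul, Matrix.smul_mul]
      _ = Matrix.trace ((Ki * xtN i * K) * M) • (Ki * xtN i * K) := by
          congr 1
          have e : xtN i * (K * M * Ki) = (xtN i * K * M) * Ki := by simp only [Matrix.mul_assoc]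
          rw [e, Matrix.trace_mul_comm]
          simp only [Matrix.mul_assoc]
  have htr : Matrix.trace (Ki * xtN i * K) = 0 := by
    have e : Ki * xtN i * K = Ki * (xtN i * K) := by simp only [Matrix.mul_assoc]
    rw [e, Matrix.trace_mul_comm, Matrix.mul_assoc, hKKi, Matrix.mul_one, xtN_trace i hi2 h3]
  have h1 := eq_one_of_rank_one i hi h2 hi2 hcard _ hk 3 (by norm_num) hg3 _ hN hrk htr
  have h2' : (xt i hi2 h3 : GL (Fin 4) F) = 1 := by
    calc (xt i hi2 h3 : GL (Fin 4) F) = k * (k⁻¹ * xt i hi2 h3 * k) * k⁻¹ := by group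
      _ = 1 := by rw [h1]; group
  apply xt_not_scalar i hi hi2 h3 1
  rw [h2', Units.val_one, one_smul]

end transvN

section fiveU

variable {F : Type*} [Field F] (σ : F →+* F) (a b : F)

/-- two copies of a unitary `2 × 2` block -/
def x5Um : Matrix (Fin 4) (Fin 4) F :=
  !![a, b, 0, 0; -σ b, σ a, 0, 0; 0, 0, a, b; 0, 0, -σ b, σ a]

def x5Ui : Matrix (Fin 4) (Fin 4) F :=
  !![σ a, -b, 0, 0; σ b, a, 0, 0; 0, 0, σ a, -b; 0, 0, σ b, a]

theorem x5Um_mul_x5Ui (hn : a * σ a + b * σ b = 1) : x5Um σ a b * x5Ui σ a b = 1 := by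
  ext u v
  simp only [Matrix.mul_apply, Fin.sum_univ_four]
  fin_cases u <;> fin_cases v <;> simp [x5Um, x5Ui] <;>
    first | ring1 | linear_combination hn | linear_combination -hn

theorem x5Ui_mul_x5Um (hn : a * σ a + b * σ b = 1) : x5Ui σ a b * x5Um σ a b = 1 := by
  ext u v
  simp only [Matrix.mul_apply, Fin.sum_univ_four]
  fin_cases u <;> fin_cases v <;> simp [x5Um, x5Ui] <;>
    first | ring1 | linear_combination hn | linear_combination -hn

theorem x5Um_sq (hn : a * σ a + b * σ b = 1) :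
    x5Um σ a b * x5Um σ a b = (a + σ a) • x5Um σ a b - 1 := by
  ext u v
  simp only [Matrix.mul_apply, Fin.sum_univ_four, Matrix.sub_apply, Matrix.smul_apply,
    Matrix.one_apply]
  fin_cases u <;> fin_cases v <;> simp [x5Um] <;>
    first | ring1 | linear_combination hn | linear_combination -hn

/-- a matrix with `M² = t M - 1`, `t² + t - 1 = 0`, has order dividing five -/
theorem pow_five_of_sq (M : Matrix (Fin 4) (Fin 4) F) (t : F) (ht : t ^ 2 + t - 1 = 0)
    (hM : M * M = t • M - 1) : M ^ 5 = 1 := by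
  have h3 : M * M * M = (t ^ 2 - 1) • M - t • (1 : Matrix (Fin 4) (Fin 4) F) := by
    rw [hM, Matrix.sub_mul, Matrix.smul_mul, hM, Matrix.one_mul]
    module
  have h5 : M ^ 5 = (M * M) * (M * M * M) := by
    rw [pow_succ, pow_succ, pow_succ, pow_succ, pow_one]
    simp only [Matrix.mul_assoc]
  rw [h5, h3, hM]
  simp only [Matrix.sub_mul, Matrix.mul_sub, Matrix.smul_mul, Matrix.mul_smul, Matrix.one_mul,
    Matrix.mul_one, hM]
  have e1 : t ^ 4 - 3 * t ^ 2 + 1 = 0 := by linear_combination (t ^ 2 - t - 1) * ht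
  have e2 : t ^ 3 - 2 * t + 1 = 0 := by linear_combination (t - 1) * ht
  have : (t ^ 2 - 1) • (t • (t • M - 1) - M) - t • (t • M - 1)
      = (t ^ 4 - 3 * t ^ 2 + 1) • M - (t ^ 3 - 2 * t + 1) • (1 : Matrix (Fin 4) (Fin 4) F) + 1 := by
    module
  rw [this, e1, e2, zero_smul, zero_smul, sub_zero, zero_add]

/-- the unitary element of order five -/
def x5U (hn : a * σ a + b * σ b = 1) : GL (Fin 4) F :=
  ⟨x5Um σ a b, x5Ui σ a b, x5Um_mul_x5Ui σ a b hn, x5Ui_mul_x5Um σ a b hn⟩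

theorem x5U_val (hn : a * σ a + b * σ b = 1) :
    ((x5U σ a b hn : GL (Fin 4) F) : Matrix (Fin 4) (Fin 4) F) = x5Um σ a b := rfl

theorem x5U_inv_val (hn : a * σ a + b * σ b = 1) :
    (((x5U σ a b hn)⁻¹ : GL (Fin 4) F) : Matrix (Fin 4) (Fin 4) F) = x5Ui σ a b := rfl

theorem x5U_pow (hn : a * σ a + b * σ b = 1) (ht : (a + σ a) ^ 2 + (a + σ a) - 1 = 0) :
    (x5U σ a b hn) ^ 5 = 1 := by
  apply Units.ext
  rw [Units.val_pow_eq_pow_val, x5U_val, Units.val_one]
  exact pow_five_of_sq _ _ ht (x5Um_sq σ a b hn)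

theorem det_x5U (hn : a * σ a + b * σ b = 1) :
    Matrix.det ((x5U σ a b hn : GL (Fin 4) F) : Matrix (Fin 4) (Fin 4) F) = 1 := by
  rw [x5U_val]
  simp [x5Um, Matrix.det_succ_row_zero, Fin.sum_univ_succ, Fin.succAbove]
  linear_combination (a * σ a + b * σ b + 1) * hn

theorem adj_x5Um (hσ2 : ∀ c : F, σ (σ c) = c) : adj σ (x5Um σ a b) = x5Ui σ a b := by
  ext u v
  rw [adj_apply]
  fin_cases u <;> fin_cases v <;> simp [x5Um, x5Ui, hσ2]

theorem x5U_not_scalar (h5 : (5 : F) ≠ 0) (hn : a * σ a + b * σ b = 1)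
    (ht : (a + σ a) ^ 2 + (a + σ a) - 1 = 0) (c : F) :
    ((x5U σ a b hn : GL (Fin 4) F) : Matrix (Fin 4) (Fin 4) F)
      ≠ c • (1 : Matrix (Fin 4) (Fin 4) F) := by
  intro h
  rw [x5U_val] at h
  have h01 := congrFun (congrFun h 0) 1
  have h00 := congrFun (congrFun h 0) 0
  have h11 := congrFun (congrFun h 1) 1
  simp [x5Um] at h01 h00 h11
  rw [h01, zero_mul, add_zero, h11, h00] at hn
  rw [h11, h00] at ht
  -- `c² = 1` and `(2c)² + 2c - 1 = 0`
  have h1 : (c - 1) * (c + 1) = 0 := by linear_combination hn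
  rcases mul_eq_zero.1 h1 with h' | h'
  · have hc : c = 1 := by linear_combination h'
    rw [hc] at ht
    apply h5
    linear_combination ht
  · have hc : c = -1 := by linear_combination h'
    rw [hc] at ht
    have : (1 : F) = 0 := by linear_combination ht
    exact one_ne_zero this

end fiveU

section fiveUN

variable {F : Type*} [Field F] [Fintype F] [DecidableEq F] {q : ℕ} (σ : F →+* F) (i : F)
  (hi : i ≠ 0) (a b : F)

theorem x5U_mem_GU (hσ : ∀ x, σ x = x ^ q) (hσ2 : ∀ c : F, σ (σ c) = c)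
    (hn : a * σ a + b * σ b = 1) : x5U σ a b hn ∈ Cfsg.GU 4 F q := by
  rw [mem_GU_iff σ hσ, x5U_val, adj_x5Um σ a b hσ2]
  exact x5Ui_mul_x5Um σ a b hn

/-- the unitary element of order five has no conjugate in the normalizer of the standard
group -/
theorem no_conj_five_U (h2 : (2 : F) ≠ 0) (h5 : (5 : F) ≠ 0) (hi2 : i ^ 2 = -1)
    (hcard : Nat.card ↥(Pstd i hi) = 64) (hn : a * σ a + b * σ b = 1)
    (ht : (a + σ a) ^ 2 + (a + σ a) - 1 = 0) (k : GL (Fin 4) F)
    (hk : k⁻¹ * x5U σ a b hn * k ∈ Subgroup.normalizer (Pstd i hi : Set (GL (Fin 4) F))) :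
    False := by
  have hz : (((x5U σ a b hn) ^ 5 : GL (Fin 4) F) : Matrix (Fin 4) (Fin 4) F)
      = (1 : F) • (1 : Matrix (Fin 4) (Fin 4) F) := by
    rw [x5U_pow σ a b hn ht, Units.val_one, one_smul]
  have h := trace_five i hi h2 hi2 hcard _ hk 1 (conj_pow_scalar _ k 5 1 hz)
    (conj_not_scalar _ k (x5U_not_scalar σ a b h5 hn ht))
  rw [trace_conj, trace_conj_inv, x5U_val, x5U_inv_val] at h
  have ht1 : Matrix.trace (x5Um σ a b) = 2 * (a + σ a) := by
    rw [Matrix.trace, Fin.sum_univ_four]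
    simp [x5Um]
    ring
  have ht2 : Matrix.trace (x5Ui σ a b) = 2 * (a + σ a) := by
    rw [Matrix.trace, Fin.sum_univ_four]
    simp [x5Ui]
    ring
  rw [ht1, ht2] at h
  obtain ⟨t, htdef⟩ : ∃ t, t = a + σ a := ⟨_, rfl⟩
  rw [← htdef] at h ht
  have h4 : (4 : F) ≠ 0 := four_ne_zero_of' h2
  have h1 : 4 * t ^ 2 - 1 = 0 := by
    apply (mul_right_inj' h4).1
    linear_combination h
  apply h5
  linear_combination (4 * t + 7) * h1 - 4 * (4 * t + 3) * ht

end fiveUN

end Cfsg.Agent.H9.Pauli4
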