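import Mathlib
import Cfsg.Agent.H9.Pauli4T
import Cfsg.Agent.Lib.Helper8.UnitaryA

set_option autoImplicit false
set_option linter.style.haveILetI false
set_option linter.unusedSectionVars false

/-! Arithmetic in the field with `p²` elements for the normalizer of `4 ∘ 2^{1+4}` in `SU₄(p)`. -/

namespace Cfsg.Agent.H9.Pauli4

section arith

variable {F : Type*} [Field F] [Fintype F] {p : ℕ}

theorem ringChar_ne_two_of (h2 : (2 : F) ≠ 0) : ringChar F ≠ 2 := by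
  intro h
  apply h2
  have := ringChar.Nat.cast_ringChar (R := F)
  rw [h] at this
  exact_mod_cast this

variable (σ : F →+* F)

/-- elements fixed by the Frobenius map `x ↦ x ^ p` of the field with `p²` elements are
squares -/
theorem isSquare_of_fixed (hF : Fintype.card F = p ^ 2) (hσ : ∀ x, σ x = x ^ p)
    (h2 : (2 : F) ≠ 0) (hpodd : p % 2 = 1) (d : F) (hd : σ d = d) : IsSquare d := by
  by_cases hd0 : d = 0
  · rw [hd0]
    exact ⟨0, by ring⟩
  rw [FiniteField.isSquare_iff (ringChar_ne_two_of h2) hd0, hF]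
  rw [hσ] at hd
  have hp1 : 1 ≤ p := by omega
  have h1 : d ^ (p - 1) = 1 := by
    have : d ^ (p - 1) * d = d := by rw [← pow_succ, Nat.sub_add_cancel hp1, hd]
    exact mul_right_cancel₀ hd0 (by rw [this, one_mul])
  have h3 : p ^ 2 / 2 = (p - 1) * ((p + 1) / 2) := by
    obtain ⟨m, hm⟩ : ∃ m, p = 2 * m + 1 := ⟨p / 2, by omega⟩
    subst hm
    have e1 : (2 * m + 1) ^ 2 = 2 * (2 * m * (m + 1)) + 1 := by ring
    have e2 : (2 * m + 1 + 1) / 2 = m + 1 := by omega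
    have e3 : 2 * m + 1 - 1 = 2 * m := by omega
    rw [e1, e2, e3]
    omega
  rw [h3, pow_mul, h1, one_pow]

/-- fourth roots of unity are squares when `p ≡ 3 (mod 4)` -/
theorem exists_sqrt_of_pow_four (hF : Fintype.card F = p ^ 2) (h2 : (2 : F) ≠ 0)
    (hp4 : p % 4 = 3) (z : F) (hz : z ^ 4 = 1) : ∃ c : F, c ^ 2 = z := by
  have hz0 : z ≠ 0 := by
    rintro rfl
    simp at hz
  have hsq : IsSquare z := by
    rw [FiniteField.isSquare_iff (ringChar_ne_two_of h2) hz0, hF]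
    obtain ⟨m, hm⟩ : ∃ m, p = 4 * m + 3 := ⟨p / 4, by omega⟩
    subst hm
    have e : (4 * m + 3) ^ 2 / 2 = 4 * (2 * m ^ 2 + 3 * m + 1) := by
      have : (4 * m + 3) ^ 2 = 2 * (4 * (2 * m ^ 2 + 3 * m + 1)) + 1 := by ring
      rw [this]
      omega
    rw [e, pow_mul, hz, one_pow]
  obtain ⟨c, hc⟩ := hsq
  exact ⟨c, by rw [hc, pow_two]⟩

omit [Fintype F] in
/-- the norm of a square root of a fourth root of unity is a sign -/
theorem norm_sq_eq_one (hσ : ∀ x, σ x = x ^ p) (hp4 : p % 4 = 3) (c : F)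
    (hc4 : (c ^ 2) ^ 4 = 1) : (c * σ c) ^ 2 = 1 := by
  rw [hσ, ← pow_succ', ← pow_mul]
  obtain ⟨m, hm⟩ : ∃ m, p = 4 * m + 3 := ⟨p / 4, by omega⟩
  subst hm
  have : (4 * m + 3 + 1) * 2 = 2 * 4 * (m + 1) := by ring
  rw [this, pow_mul, pow_mul, hc4, one_pow]

omit [Fintype F] in
/-- the norm of a fourth root of unity is one -/
theorem norm_pow_four (hσ : ∀ x, σ x = x ^ p) (hp4 : p % 4 = 3) (z : F)
    (hz4 : z ^ 4 = 1) : z * σ z = 1 := by
  rw [hσ, ← pow_succ']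
  obtain ⟨m, hm⟩ : ∃ m, p = 4 * m + 3 := ⟨p / 4, by omega⟩
  subst hm
  have : 4 * m + 3 + 1 = 4 * (m + 1) := by ring
  rw [this, pow_mul, hz4, one_pow]

/-- there are no primitive fifth roots of unity when `p` has order four modulo five -/
theorem no_fifth_root [Fact p.Prime] (hF : Fintype.card F = p ^ 2) (h5 : (5 : F) ≠ 0)
    (hord : orderOf (p : ZMod 5) = 4) : ∀ ζ : F, ζ ^ 4 + ζ ^ 3 + ζ ^ 2 + ζ + 1 ≠ 0 := by
  classical
  intro ζ hζ
  have hζ5 : ζ ^ 5 = 1 := by linear_combination (ζ - 1) * hζ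
  have hζ1 : ζ ≠ 1 := by
    rintro rfl
    apply h5
    linear_combination hζ
  have hζ0 : ζ ≠ 0 := by
    rintro rfl
    simp at hζ5
  let u : Fˣ := Units.mk0 ζ hζ0
  have hu5 : u ^ 5 = 1 := by
    apply Units.ext
    rw [Units.val_pow_eq_pow_val, Units.val_mk0, hζ5, Units.val_one]
  have hu1 : u ≠ 1 := by
    intro h
    apply hζ1
    have := congrArg Units.val h
    rwa [Units.val_mk0, Units.val_one] at this
  have : Fact (Nat.Prime 5) := ⟨Nat.prime_five⟩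
  have hordu : orderOf u = 5 := orderOf_eq_prime hu5 hu1
  have hdvd : 5 ∣ Fintype.card Fˣ := by
    rw [← hordu]
    exact orderOf_dvd_card
  rw [Fintype.card_units, hF] at hdvd
  have hpos : 1 ≤ p ^ 2 := Nat.one_le_pow _ _ (Nat.Prime.pos Fact.out)
  have hp2 : ((p : ZMod 5)) ^ 2 = 1 := by
    have h1 : ((p ^ 2 - 1 : ℕ) : ZMod 5) = 0 := (ZMod.natCast_eq_zero_iff _ 5).2 hdvd
    rw [Nat.cast_sub hpos, Nat.cast_pow, Nat.cast_one] at h1
    linear_combination h1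
  have h4 := orderOf_dvd_of_pow_eq_one hp2
  rw [hord] at h4
  norm_num at h4

/-- a root of `t² + t - 1` moved by the Frobenius map, when there are no primitive fifth roots
of unity -/
theorem exists_t_moved (hF : Fintype.card F = p ^ 2) (hσ : ∀ x, σ x = x ^ p)
    (h2 : (2 : F) ≠ 0) (hpodd : p % 2 = 1)
    (hno : ∀ ζ : F, ζ ^ 4 + ζ ^ 3 + ζ ^ 2 + ζ + 1 ≠ 0) :
    ∃ t₁ : F, t₁ ^ 2 + t₁ - 1 = 0 ∧ σ t₁ ≠ t₁ := by
  obtain ⟨s, hs⟩ := isSquare_of_fixed σ hF hσ h2 hpodd (5 : F) (map_ofNat σ 5)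
  obtain ⟨t₁, ht₁def⟩ : ∃ t₁, t₁ = (s - 1) / 2 := ⟨_, rfl⟩
  have ht₁ : t₁ ^ 2 + t₁ - 1 = 0 := by
    rw [ht₁def]
    field_simp
    linear_combination -hs
  refine ⟨t₁, ht₁, ?_⟩
  intro hfix
  have hD : σ (t₁ ^ 2 - 4) = t₁ ^ 2 - 4 := by
    rw [map_sub, map_pow, hfix, map_ofNat]
  obtain ⟨e, he⟩ := isSquare_of_fixed σ hF hσ h2 hpodd _ hD
  obtain ⟨ζ, hζdef⟩ : ∃ ζ, ζ = (t₁ + e) / 2 := ⟨_, rfl⟩
  have hq : ζ ^ 2 - t₁ * ζ + 1 = 0 := by
    rw [hζdef]
    field_simp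
    linear_combination -he
  apply hno ζ
  linear_combination (ζ ^ 2 + (1 + t₁) * ζ + 1) * hq + ζ ^ 2 * ht₁

/-- the golden ratio in the prime field when `p ≡ ±1 (mod 5)` -/
theorem exists_golden_fixed [hp : Fact p.Prime] [CharP F p] (hp2 : p ≠ 2) (hp5 : p ≠ 5)
    (hord : orderOf (p : ZMod 5) ≠ 4) : ∃ t : F, t ^ 2 + t - 1 = 0 ∧ t ^ p = t := by
  have : Fact (Nat.Prime 5) := ⟨Nat.prime_five⟩
  have hp0 : (p : ZMod 5) ≠ 0 := by
    intro h
    rw [ZMod.natCast_eq_zero_iff] at h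
    exact hp5 ((Nat.prime_dvd_prime_iff_eq Nat.prime_five hp.out).1 h).symm
  have key := zmod5_cases
  have hsq : IsSquare (p : ZMod 5) := by
    rcases key (p : ZMod 5) with h | h | h | h
    · exact absurd h hp0
    · rw [h]; exact ⟨1, zmod5_a⟩
    · rw [h]; exact ⟨2, zmod5_b⟩
    · exfalso
      apply hord
      have : Fact (Nat.Prime 2) := ⟨Nat.prime_two⟩
      have := orderOf_eq_prime_pow (x := (p : ZMod 5)) (p := 2) (n := 1) (by
        rw [pow_one, h]; exact zmod5_c) (by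
        have : (2 : ℕ) ^ (1 + 1) = 2 * 2 := by norm_num
        rw [this, pow_mul, h]; exact zmod5_d)
      rw [this]
      norm_num
  have hsq5 : IsSquare ((5 : ℕ) : ZMod p) :=
    (ZMod.exists_sq_eq_prime_iff_of_mod_four_eq_one (p := 5) (q := p) (by norm_num) hp2).1 hsq
  obtain ⟨s, hs⟩ := hsq5
  have h2' : (2 : ZMod p) ≠ 0 := by
    intro h
    have h' : ((2 : ℕ) : ZMod p) = 0 := by exact_mod_cast h
    rw [ZMod.natCast_eq_zero_iff] at h'
    exact hp2 ((Nat.prime_dvd_prime_iff_eq hp.out Nat.prime_two).1 h')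
  obtain ⟨τ, hτdef⟩ : ∃ τ : ZMod p, τ = (s - 1) / 2 := ⟨_, rfl⟩
  have hτ : τ ^ 2 + τ - 1 = 0 := by
    rw [hτdef]
    field_simp
    have hs' : s * s = 5 := by rw [← hs]; norm_num
    linear_combination hs'
  let φ := ZMod.castHom (dvd_refl p) F
  refine ⟨φ τ, ?_, ?_⟩
  · rw [← map_pow, ← map_add, ← map_one φ, ← map_sub, hτ, map_zero]
  · rw [← map_pow, ZMod.pow_card]

/-- a unitary `2 × 2` block with prescribed trace in the fixed field -/
theorem exists_unitary_block (hσ2 : ∀ a : F, σ (σ a) = a) (hσne : σ ≠ RingHom.id F) (t : F)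
    (ht : σ t = t) : ∃ a b : F, a + σ a = t ∧ a * σ a + b * σ b = 1 := by
  obtain ⟨σe, hσe⟩ : ∃ σe : F ≃+* F, σe = RingEquiv.ofRingHom σ σ (RingHom.ext hσ2)
    (RingHom.ext hσ2) := ⟨_, rfl⟩
  have hσe_ne : σe ≠ RingEquiv.refl F := by
    intro h
    apply hσne
    ext y
    have := congrArg (fun f : F ≃+* F => f y) h
    rw [hσe] at this
    exact this
  have hσe2 : ∀ a : F, σe (σe a) = a := by
    intro a; rw [hσe]; exact hσ2 a
  obtain ⟨a, ha⟩ := Cfsg.Agent.Lib.Helper8.Unitary.tr_surj (σ := σe) hσe_ne hσe2 t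
    (by rw [hσe]; exact ht)
  have ha' : a + σ a = t := by rw [hσe] at ha; exact ha
  obtain ⟨b, hb⟩ := Cfsg.Agent.Lib.Helper8.Unitary.norm_surj (σ := σe) hσe_ne hσe2 (1 - a * σ a)
    (by
      rw [hσe]
      show σ (1 - a * σ a) = 1 - a * σ a
      rw [map_sub, map_one, map_mul, hσ2]
      ring)
  have hb' : b * σ b = 1 - a * σ a := by rw [hσe] at hb; exact hb
  exact ⟨a, b, ha', by rw [hb']; ring⟩

end arith

end Cfsg.Agent.H9.Pauli4
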