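import Mathlib

set_option autoImplicit false

namespace Cfsg.Agent.H9.PerfCentral

open scoped commutatorElement

/-- in a perfect group, an element all of whose commutators are central is central -/
theorem mem_center_of_commutator_mem_center {G : Type*} [Group G] (hG : commutator G = ⊤) (A : G)
    (h : ∀ B : G, ⁅A, B⁆ ∈ Subgroup.center G) : A ∈ Subgroup.center G := by
  let f : G →* Subgroup.center G :=
    { toFun := fun B => ⟨⁅A, B⁆, h B⟩
      map_one' := by
        apply Subtype.ext
        simp
      map_mul' := by
        intro B C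
        apply Subtype.ext
        change ⁅A, B * C⁆ = ⁅A, B⁆ * ⁅A, C⁆
        have hc := Subgroup.mem_center_iff.1 (h C)
        have h1 : ⁅A, B * C⁆ = ⁅A, B⁆ * (B * ⁅A, C⁆ * B⁻¹) := by
          simp only [commutatorElement_def]
          group
        rw [h1, hc B, mul_assoc, mul_inv_cancel, mul_one] }
  have hle : commutator G ≤ f.ker := by
    rw [commutator_def, Subgroup.commutator_le]
    intro x _ y _
    rw [MonoidHom.mem_ker, map_commutatorElement, commutatorElement_eq_one_iff_mul_comm]
    exact Subtype.ext (Subgroup.mem_center_iff.1 (f x).2 (f y).1).symm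
  rw [hG] at hle
  rw [Subgroup.mem_center_iff]
  intro B
  have hB : f B = 1 := hle (Subgroup.mem_top B)
  have hB' : ⁅A, B⁆ = 1 := congrArg Subtype.val hB
  rw [commutatorElement_eq_one_iff_mul_comm] at hB'
  exact hB'.symm

/-- the central quotient of the image of a perfect group under a homomorphism with central
kernel -/
theorem nonempty_mulEquiv {G H : Type*} [Group G] [Group H] (hG : commutator G = ⊤)
    (ρ : G →* H) (hker : ρ.ker ≤ Subgroup.center G) (S : Subgroup H) (hS : S = ρ.range) :
    Nonempty (S ⧸ Subgroup.center S ≃* G ⧸ Subgroup.center G) := by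
  let ρ' : G →* S := ρ.codRestrict S (fun p => by rw [hS]; exact ⟨p, rfl⟩)
  have hρ'_surj : Function.Surjective ρ' := by
    rintro ⟨w, hw⟩
    rw [hS] at hw
    obtain ⟨p, rfl⟩ := hw
    exact ⟨p, rfl⟩
  let Φ : G →* S ⧸ Subgroup.center S := (QuotientGroup.mk' (Subgroup.center S)).comp ρ'
  have hΦ_surj : Function.Surjective Φ := (QuotientGroup.mk'_surjective _).comp hρ'_surj
  have hkerΦ : Φ.ker = Subgroup.center G := by
    ext A
    rw [MonoidHom.mem_ker]
    have hΦ : Φ A = 1 ↔ ρ' A ∈ Subgroup.center S := by
      change (QuotientGroup.mk' _ (ρ' A)) = 1 ↔ _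
      rw [QuotientGroup.mk'_apply, QuotientGroup.eq_one_iff]
    rw [hΦ]
    constructor
    · intro h
      rw [Subgroup.mem_center_iff] at h
      apply mem_center_of_commutator_mem_center hG
      intro B
      apply hker
      rw [MonoidHom.mem_ker, map_commutatorElement, commutatorElement_eq_one_iff_mul_comm]
      have := congrArg Subtype.val (h (ρ' B))
      exact this.symm
    · intro h
      rw [Subgroup.mem_center_iff] at h ⊢
      intro w
      obtain ⟨B, rfl⟩ := hρ'_surj w
      rw [← map_mul, ← map_mul, h B]
  exact ⟨(QuotientGroup.quotientKerEquivOfSurjective Φ hΦ_surj).symm.trans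
    (QuotientGroup.quotientMulEquivOfEq hkerΦ)⟩

end Cfsg.Agent.H9.PerfCentral
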