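import Mathlib

set_option autoImplicit false

namespace Cfsg.Agent.H9.PerfSolv

open scoped commutatorElement

/-- a subgroup of prime index is maximal -/
theorem isCoatom_of_index_prime {G : Type*} [Group G] (H : Subgroup G) (hp : H.index.Prime) :
    IsCoatom H := by
  constructor
  · intro h
    rw [h, Subgroup.index_top] at hp
    exact Nat.not_prime_one hp
  · intro K hK
    have hle : H ≤ K := le_of_lt hK
    have hmul := Subgroup.relIndex_mul_index hle
    have hdvd : K.index ∣ H.index := Dvd.intro_left _ hmul
    rcases (Nat.dvd_prime hp).1 hdvd with h1 | h1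
    · exact Subgroup.index_eq_one.1 h1
    · exfalso
      rw [h1] at hmul
      have hpos : 0 < H.index := hp.pos
      have : H.relIndex K = 1 := by
        have := Nat.eq_of_mul_eq_mul_right hpos (by rw [hmul, one_mul] : H.relIndex K * H.index = 1 * H.index)
        exact this
      have hKH : K ≤ H := Subgroup.relIndex_eq_one.1 this
      exact (not_le_of_gt hK) hKH

/-- a group of order six is solvable -/
theorem isSolvable_of_card_six {Q : Type*} [Group Q] (h6 : Nat.card Q = 6) : Group.IsSolvable Q := by
  have : Finite Q := Nat.finite_of_card_ne_zero (by rw [h6]; norm_num)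
  have : Fact (Nat.Prime 3) := ⟨by norm_num⟩
  have : Fact (Nat.Prime 2) := ⟨by norm_num⟩
  obtain ⟨P, hP⟩ := Sylow.exists_subgroup_card_pow_prime (G := Q) 3 (n := 1) (by rw [h6]; norm_num)
  rw [pow_one] at hP
  have hidx : P.index = 2 := by
    have := P.card_mul_index
    rw [hP, h6] at this
    omega
  have hn : P.Normal := Subgroup.normal_of_index_eq_two hidx
  have hcP : IsCyclic P := isCyclic_of_prime_card hP
  have hq : Nat.card (Q ⧸ P) = 2 := by rw [← Subgroup.index_eq_card]; exact hidx
  have hcQ : IsCyclic (Q ⧸ P) := isCyclic_of_prime_card hq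
  have hs1 : Group.IsSolvable P := Group.isSolvable_of_comm (fun a b => (IsCyclic.commGroup (α := P)).mul_comm a b)
  have hs2 : Group.IsSolvable (Q ⧸ P) :=
    Group.isSolvable_of_comm (fun a b => (IsCyclic.commGroup (α := Q ⧸ P)).mul_comm a b)
  exact Group.isSolvable_of_ker_le_range P.subtype (QuotientGroup.mk' P) (by
    rw [QuotientGroup.ker_mk', Subgroup.range_subtype])

end Cfsg.Agent.H9.PerfSolv
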