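import Mathlib
import Cfsg.Agent.H9.PerfSolvA

set_option autoImplicit false

namespace Cfsg.Agent.H9.PerfSolv

open Matrix
open scoped commutatorElement

variable {R : Type*} [CommRing R]

/-- elementary matrices in `SL₃` -/
def xe (i j : Fin 3) (a : R) : Matrix.SpecialLinearGroup (Fin 3) R :=
  ⟨if i = j then 1 else Matrix.transvection i j a, by
    split_ifs with h
    · exact Matrix.det_one
    · exact Matrix.det_transvection_of_ne i j h a⟩

theorem xe_val {i j : Fin 3} (h : i ≠ j) (a : R) :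
    (xe i j a : Matrix.SpecialLinearGroup (Fin 3) R).1 = Matrix.transvection i j a := by
  change (if i = j then 1 else Matrix.transvection i j a) = _
  rw [if_neg h]

theorem xe_comm {i j k : Fin 3} (hij : i ≠ j) (hik : i ≠ k) (hkj : k ≠ j) (a b : R) :
    ⁅(xe i k a : Matrix.SpecialLinearGroup (Fin 3) R), xe k j b⁆ = xe i j (a * b) := by
  have key : (xe i k a : Matrix.SpecialLinearGroup (Fin 3) R) * xe k j b =
      xe i j (a * b) * xe k j b * xe i k a := by
    apply Subtype.ext
    simp only [Matrix.SpecialLinearGroup.coe_mul, xe_val hij, xe_val hik, xe_val hkj]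
    simp only [Matrix.transvection, add_mul, mul_add, one_mul, mul_one,
      Matrix.single_mul_single_same, Matrix.single_mul_single_of_ne _ _ _ _ hkj.symm,
      Matrix.single_mul_single_of_ne _ _ _ _ hij.symm]
    simp
    abel
  rw [commutatorElement_def, key]
  group

theorem xe_self (i : Fin 3) (a : R) : (xe i i a : Matrix.SpecialLinearGroup (Fin 3) R) = 1 := by
  apply Subtype.ext
  change (if i = i then 1 else Matrix.transvection i i a) = _
  rw [if_pos rfl]
  rfl

/-- the elementary subgroup -/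
def E (R : Type*) [CommRing R] : Subgroup (Matrix.SpecialLinearGroup (Fin 3) R) :=
  Subgroup.closure {g | ∃ i j : Fin 3, ∃ a : R, g = xe i j a}

theorem xe_mem (i j : Fin 3) (a : R) : xe i j a ∈ E R :=
  Subgroup.subset_closure ⟨i, j, a, rfl⟩

theorem exists_third : ∀ i j : Fin 3, i ≠ j → ∃ k : Fin 3, i ≠ k ∧ k ≠ j := by decide

theorem E_perfect : ⁅E R, E R⁆ = E R := by
  apply le_antisymm
  · exact Subgroup.commutator_le_self _
  · unfold E
    rw [Subgroup.closure_le]
    rintro g ⟨i, j, a, rfl⟩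
    by_cases hij : i = j
    · rw [hij, xe_self]
      exact Subgroup.one_mem _
    · obtain ⟨k, hik, hkj⟩ := exists_third i j hij
      have h := xe_comm hij hik hkj a (1 : R)
      rw [mul_one] at h
      rw [← h]
      exact Subgroup.commutator_mem_commutator (xe_mem i k a) (xe_mem k j 1)

theorem commutator_E : commutator (E R) = ⊤ := by
  have h := Subgroup.map_subtype_commutator (E R)
  rw [E_perfect] at h
  apply Subgroup.map_injective (E R).subtype_injective
  rw [h, ← MonoidHom.range_eq_map, Subgroup.range_subtype]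

/-- the coefficient ring -/
abbrev RR (m : ℕ) : Type := ZMod (2 ^ (m + 1))

/-- reduction of coefficients mod 2 -/
def cst (m : ℕ) : RR m →+* ZMod 2 := ZMod.castHom (dvd_pow_self 2 (Nat.succ_ne_zero m)) (ZMod 2)

/-- reduction mod 2 -/
def red (m : ℕ) : Matrix.SpecialLinearGroup (Fin 3) (RR m) →* Matrix.SpecialLinearGroup (Fin 3) (ZMod 2) :=
  Matrix.SpecialLinearGroup.map (cst m)

theorem red_val (m : ℕ) (g : Matrix.SpecialLinearGroup (Fin 3) (RR m)) (i j : Fin 3) :
    (red m g).1 i j = cst m (g.1 i j) := rfl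

theorem red_xe (m : ℕ) (i j : Fin 3) (a : RR m) : red m (xe i j a) = xe i j (cst m a) := by
  apply Subtype.ext
  ext r s
  rw [red_val]
  by_cases hij : i = j
  · rw [hij, xe_self, xe_self]
    simp [Matrix.one_apply]
  · rw [xe_val hij, xe_val hij]
    simp only [Matrix.transvection, Matrix.add_apply, Matrix.one_apply, Matrix.single_apply, map_add]
    split_ifs <;> simp

/-- the first basis vector -/
def e1 : Fin 3 → ZMod 2 := Pi.single 0 1

/-- the action of the elementary group on `𝔽₂³` -/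
@[reducible] def act (m : ℕ) : MulAction (E (RR m)) (Fin 3 → ZMod 2) :=
  MulAction.compHom (Fin 3 → ZMod 2) ((red m).comp (E (RR m)).subtype)

theorem act_def (m : ℕ) (g : E (RR m)) (v : Fin 3 → ZMod 2) :
    (letI := act m; g • v) = (red m g.1).1 *ᵥ v := rfl

/-- the maximal subgroup -/
def HH (m : ℕ) : Subgroup (E (RR m)) := letI := act m; MulAction.stabilizer (E (RR m)) e1

theorem mem_HH (m : ℕ) (g : E (RR m)) : g ∈ HH m ↔ (red m g.1).1 *ᵥ e1 = e1 := by
  unfold HH
  let _ := act m
  rw [MulAction.mem_stabilizer_iff]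
  rfl

/-- words in the elementary matrices over `𝔽₂` -/
def ev2 (l : List (Fin 3 × Fin 3)) : Matrix (Fin 3) (Fin 3) (ZMod 2) :=
  (l.map (fun p => (xe p.1 p.2 (1 : ZMod 2)).1)).prod

/-- the word leading from `e1` to `v` -/
def wd (v : Fin 3 → ZMod 2) : List (Fin 3 × Fin 3) :=
  if v 0 = 1 then (if v 1 = 1 then [(1,0)] else []) ++ (if v 2 = 1 then [(2,0)] else [])
  else if v 1 = 1 then (if v 2 = 1 then [(2,1)] else []) ++ [(0,1),(1,0)]
  else [(0,2),(2,0)]

set_option maxRecDepth 100000 in
theorem ev2_wd : ∀ v : Fin 3 → ZMod 2, v ≠ 0 → ev2 (wd v) *ᵥ e1 = v := by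
  decide

/-- lifting words -/
def gl (m : ℕ) (l : List (Fin 3 × Fin 3)) : E (RR m) :=
  (l.map (fun p => (⟨xe p.1 p.2 1, xe_mem _ _ _⟩ : E (RR m)))).prod

theorem red_gl (m : ℕ) (l : List (Fin 3 × Fin 3)) : (red m (gl m l).1).1 = ev2 l := by
  induction l with
  | nil => simp [gl, ev2]
  | cons p l ih =>
    have h1 : gl m (p :: l) = ⟨xe p.1 p.2 1, xe_mem _ _ _⟩ * gl m l := by
      simp [gl]
    have h2 : ev2 (p :: l) = (xe p.1 p.2 (1 : ZMod 2)).1 * ev2 l := by
      simp [ev2]
    rw [h1, h2, Subgroup.coe_mul, map_mul, Matrix.SpecialLinearGroup.coe_mul, ih, red_xe, map_one]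

theorem e1_ne_zero : e1 ≠ 0 := by decide

theorem card_nonzero : Set.ncard {v : Fin 3 → ZMod 2 | v ≠ 0} = 7 := by
  rw [Set.ncard_eq_toFinset_card']
  decide

theorem orbit_e1 (m : ℕ) : (letI := act m; MulAction.orbit (E (RR m)) e1) = {v | v ≠ 0} := by
  letI := act m
  ext v
  constructor
  · rintro ⟨g, rfl⟩ h0
    change (red m g.1).1 *ᵥ e1 = 0 at h0
    have h1 : (red m (g⁻¹).1).1 * (red m g.1).1 = 1 := by
      rw [← Matrix.SpecialLinearGroup.coe_mul, ← map_mul, ← Subgroup.coe_mul, inv_mul_cancel]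
      simp
    apply e1_ne_zero
    have h2 : ((red m (g⁻¹).1).1 * (red m g.1).1) *ᵥ e1 = 0 := by
      rw [← Matrix.mulVec_mulVec, h0, Matrix.mulVec_zero]
    rw [h1, Matrix.one_mulVec] at h2
    exact h2
  · intro hv
    refine ⟨gl m (wd v), ?_⟩
    change (red m (gl m (wd v)).1).1 *ᵥ e1 = v
    rw [red_gl, ev2_wd v hv]

theorem index_HH (m : ℕ) : (HH m).index = 7 := by
  unfold HH
  letI := act m
  rw [MulAction.index_stabilizer, orbit_e1, card_nonzero]

theorem isCoatom_HH (m : ℕ) : IsCoatom (HH m) :=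
  isCoatom_of_index_prime _ (by rw [index_HH]; norm_num)

end Cfsg.Agent.H9.PerfSolv
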