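import Mathlib
import Cfsg.Agent.H9.PerfSolvB

set_option autoImplicit false

namespace Cfsg.Agent.H9.PerfSolv

open Matrix
open scoped commutatorElement

/-- the lower right block -/
def blk (M : Matrix (Fin 3) (Fin 3) (ZMod 2)) : Matrix (Fin 2) (Fin 2) (ZMod 2) :=
  M.submatrix Fin.succ Fin.succ

theorem col_of_fix {M : Matrix (Fin 3) (Fin 3) (ZMod 2)} (h : M *ᵥ e1 = e1) (i : Fin 2) :
    M i.succ 0 = 0 := by
  have := congrFun h i.succ
  unfold e1 at this
  rw [Matrix.mulVec_single_one] at this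
  rw [Matrix.col_apply] at this
  rw [this]
  simp [Fin.succ_ne_zero]

theorem blk_mul {M M' : Matrix (Fin 3) (Fin 3) (ZMod 2)} (h : ∀ i : Fin 2, M i.succ 0 = 0) :
    blk (M * M') = blk M * blk M' := by
  ext i j
  simp only [blk, Matrix.submatrix_apply, Matrix.mul_apply, Fin.sum_univ_succ, h i, zero_mul,
    zero_add]

set_option maxRecDepth 100000 in
theorem sq_of_blk : ∀ M : Matrix (Fin 3) (Fin 3) (ZMod 2), M *ᵥ e1 = e1 → blk M = 1 → M * M = 1 := by
  decide

theorem fix_of_mem {m : ℕ} (h : HH m) : (red m h.1.1).1 *ᵥ e1 = e1 := (mem_HH m h.1).1 h.2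

/-- the action on the quotient space, as matrices -/
def beta0 (m : ℕ) : HH m →* Matrix (Fin 2) (Fin 2) (ZMod 2) where
  toFun h := blk (red m h.1.1).1
  map_one' := by
    change blk (red m (1 : Matrix.SpecialLinearGroup (Fin 3) (RR m))).1 = 1
    rw [map_one]
    ext i j
    simp [blk, Matrix.one_apply]
  map_mul' a b := by
    change blk (red m (a.1.1 * b.1.1)).1 = _
    rw [map_mul, Matrix.SpecialLinearGroup.coe_mul, blk_mul (col_of_fix (fix_of_mem a))]

/-- the action on the quotient space -/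
def beta (m : ℕ) : HH m →* (Matrix (Fin 2) (Fin 2) (ZMod 2))ˣ := (beta0 m).toHomUnits

theorem beta_val (m : ℕ) (h : HH m) : (beta m h).1 = blk (red m h.1.1).1 := rfl

theorem exists_two_mul (m : ℕ) (x : RR m) (hx : cst m x = 0) : ∃ y : RR m, x = 2 * y := by
  have h1 : x = ((x.val : ℕ) : RR m) := (ZMod.natCast_zmod_val x).symm
  rw [h1, map_natCast, ZMod.natCast_eq_zero_iff] at hx
  obtain ⟨t, ht⟩ := hx
  refine ⟨(t : RR m), ?_⟩
  rw [h1, ht]
  push_cast
  rfl

theorem two_pow_eq_zero (m : ℕ) : (2 : RR m) ^ (m + 1) = 0 := by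
  have : ((2 ^ (m + 1) : ℕ) : RR m) = 0 := ZMod.natCast_self _
  push_cast at this
  exact this

theorem pow_eq_one_of_red (m : ℕ) (N : Matrix.SpecialLinearGroup (Fin 3) (RR m))
    (hN : red m N = 1) : N ^ (2 ^ m) = 1 := by
  have h0 : ∃ A : Matrix (Fin 3) (Fin 3) (RR m), N.1 = 1 + (2 : RR m) • A := by
    have hx : ∀ i j, ∃ y : RR m, N.1 i j - (1 : Matrix (Fin 3) (Fin 3) (RR m)) i j = 2 * y := by
      intro i j
      apply exists_two_mul
      rw [map_sub, ← red_val, hN]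
      simp only [Matrix.SpecialLinearGroup.coe_one, Matrix.one_apply]
      split_ifs <;> simp
    choose A hA using hx
    refine ⟨Matrix.of A, ?_⟩
    ext i j
    have := hA i j
    simp only [Matrix.add_apply, Matrix.smul_apply, Matrix.of_apply, smul_eq_mul]
    rw [← this]
    ring
  have h1 : ∀ i : ℕ, ∃ A : Matrix (Fin 3) (Fin 3) (RR m), N.1 ^ (2 ^ i) = 1 + ((2 : RR m) ^ (i + 1)) • A := by
    intro i
    induction i with
    | zero => simpa using h0
    | succ i ih =>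
      obtain ⟨A, hA⟩ := ih
      refine ⟨A + ((2 : RR m) ^ i) • (A * A), ?_⟩
      have e0 : (2 : ℕ) ^ (i + 1) = 2 ^ i * 2 := pow_succ 2 i
      have e00 : N.1 ^ 2 ^ (i + 1) = (N.1 ^ 2 ^ i) * (N.1 ^ 2 ^ i) := by
        rw [e0, pow_mul, pow_two]
      rw [e00, hA]
      simp only [add_mul, mul_add, one_mul, mul_one, Matrix.smul_mul, Matrix.mul_smul, smul_add,
        smul_smul]
      have e1 : (2 : RR m) ^ (i + 1 + 1) = (2 : RR m) ^ (i + 1) + (2 : RR m) ^ (i + 1) := by ring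
      have e2 : (2 : RR m) ^ (i + 1 + 1) * (2 : RR m) ^ i = (2 : RR m) ^ (i + 1) * (2 : RR m) ^ (i + 1) := by
        ring
      rw [e2, e1, add_smul]
      abel
  obtain ⟨A, hA⟩ := h1 m
  apply Subtype.ext
  rw [Matrix.SpecialLinearGroup.coe_pow, hA, two_pow_eq_zero, zero_smul, add_zero]
  rfl

theorem isPGroup_ker (m : ℕ) : IsPGroup 2 (beta m).ker := by
  rintro ⟨h, hh⟩
  refine ⟨m + 1, ?_⟩
  have hh' : beta m h = 1 := MonoidHom.mem_ker.1 hh
  have hb : blk (red m h.1.1).1 = 1 := by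
    rw [← beta_val, hh']
    rfl
  have hsq := sq_of_blk _ (fix_of_mem h) hb
  have hred : red m (h.1.1 * h.1.1) = 1 := by
    apply Subtype.ext
    rw [map_mul, Matrix.SpecialLinearGroup.coe_mul, hsq]
    rfl
  have hp := pow_eq_one_of_red m _ hred
  have e0 : (2 : ℕ) ^ (m + 1) = 2 * 2 ^ m := pow_succ' 2 m
  have key : (⟨h, hh⟩ : (beta m).ker) ^ (2 * 2 ^ m) = 1 := by
    apply Subtype.ext
    apply Subtype.ext
    apply Subtype.ext
    rw [pow_mul, pow_two]
    have : (((⟨h, hh⟩ : (beta m).ker) * (⟨h, hh⟩ : (beta m).ker)) ^ 2 ^ m).1.1.1 =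
        (h.1.1 * h.1.1) ^ 2 ^ m := rfl
    rw [this, hp]
    rfl
  exact (congrArg (fun n => (⟨h, hh⟩ : (beta m).ker) ^ n) e0).trans key

theorem card_GL2 : Nat.card (Matrix (Fin 2) (Fin 2) (ZMod 2))ˣ = 6 := by
  have := Matrix.card_GL_field (𝔽 := ZMod 2) 2
  rw [this]
  simp [Fin.prod_univ_two]

theorem isSolvable_HH (m : ℕ) : Group.IsSolvable (HH m) := by
  have : Fact (Nat.Prime 2) := ⟨Nat.prime_two⟩
  have h1 : Group.IsNilpotent (beta m).ker := (isPGroup_ker m).isNilpotent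
  have h2 : Group.IsSolvable (beta m).ker := inferInstance
  have h3 : Group.IsSolvable (Matrix (Fin 2) (Fin 2) (ZMod 2))ˣ := isSolvable_of_card_six card_GL2
  exact Group.isSolvable_of_ker_le_range (beta m).ker.subtype (beta m) (by
    rw [Subgroup.range_subtype])

end Cfsg.Agent.H9.PerfSolv
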