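import Mathlib
import Cfsg.Agent.H9.PerfSolvC

set_option autoImplicit false

namespace Cfsg.Agent.H9.PerfSolv

open Matrix
open scoped commutatorElement

theorem cst_two_pow (m n : ℕ) (hn : 1 ≤ n) : cst m ((2 : RR m) ^ n) = 0 := by
  rw [map_pow, map_ofNat]
  have : (2 : ZMod 2) = 0 := by decide
  rw [this, zero_pow (by omega)]

theorem xe_mem_HH (m : ℕ) (i j : Fin 3) (a : RR m) (ha : cst m a = 0) :
    (⟨xe i j a, xe_mem i j a⟩ : E (RR m)) ∈ HH m := by
  rw [mem_HH]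
  change (red m (xe i j a)).1 *ᵥ e1 = e1
  rw [red_xe, ha]
  have : (xe i j (0 : ZMod 2)) = 1 := by
    by_cases hij : i = j
    · rw [hij, xe_self]
    · apply Subtype.ext
      rw [xe_val hij]
      simp [Matrix.transvection]
  rw [this]
  simp

/-- elementary elements of the maximal subgroup -/
def xH (m : ℕ) (i j : Fin 3) (n : ℕ) (hn : 1 ≤ n) : HH m :=
  ⟨⟨xe i j ((2 : RR m) ^ n), xe_mem i j _⟩, xe_mem_HH m i j _ (cst_two_pow m n hn)⟩

theorem xH_comm (m : ℕ) {i j k : Fin 3} (hij : i ≠ j) (hik : i ≠ k) (hkj : k ≠ j) (a b : ℕ)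
    (ha : 1 ≤ a) (hb : 1 ≤ b) :
    ⁅xH m i k a ha, xH m k j b hb⁆ = xH m i j (a + b) (by omega) := by
  apply Subtype.ext
  apply Subtype.ext
  have h := xe_comm hij hik hkj ((2 : RR m) ^ a) ((2 : RR m) ^ b)
  rw [← pow_add] at h
  exact h

theorem xH_mem_derived (m : ℕ) (n : ℕ) : ∀ i j : Fin 3, i ≠ j →
    xH m i j (2 ^ n) Nat.one_le_two_pow ∈ derivedSeries (HH m) n := by
  induction n with
  | zero =>
    intro i j _
    rw [derivedSeries_zero]
    exact Subgroup.mem_top _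
  | succ n ih =>
    intro i j hij
    obtain ⟨k, hik, hkj⟩ := exists_third i j hij
    rw [derivedSeries_succ]
    have h := xH_comm m hij hik hkj (2 ^ n) (2 ^ n) Nat.one_le_two_pow Nat.one_le_two_pow
    have e : xH m i j (2 ^ (n + 1)) Nat.one_le_two_pow = xH m i j (2 ^ n + 2 ^ n) (by
        have := Nat.one_le_two_pow (n := n); omega) := by
      apply Subtype.ext
      apply Subtype.ext
      change xe i j ((2 : RR m) ^ (2 ^ (n + 1))) = xe i j ((2 : RR m) ^ (2 ^ n + 2 ^ n))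
      have : 2 ^ (n + 1) = 2 ^ n + 2 ^ n := by ring
      rw [this]
    rw [e, ← h]
    exact Subgroup.commutator_mem_commutator (ih i k hik) (ih k j hkj)

theorem xH_ne_one (d : ℕ) : xH (2 ^ d) 0 2 (2 ^ d) Nat.one_le_two_pow ≠ 1 := by
  intro h
  have h1 : (xe 0 2 ((2 : RR (2 ^ d)) ^ (2 ^ d))).1 0 2 = (1 : Matrix (Fin 3) (Fin 3) (RR (2 ^ d))) 0 2 := by
    have := congrArg (fun x : HH (2 ^ d) => x.1.1.1 0 2) h
    exact this
  rw [xe_val (by decide)] at h1
  simp [Matrix.transvection] at h1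
  have h2 : ((2 ^ (2 ^ d) : ℕ) : RR (2 ^ d)) = 0 := by
    push_cast
    exact h1
  rw [ZMod.natCast_eq_zero_iff] at h2
  have h3 := Nat.le_of_dvd (by positivity) h2
  have h4 : 2 ^ (2 ^ d) < 2 ^ (2 ^ d + 1) := Nat.pow_lt_pow_right (by norm_num) (by omega)
  omega

theorem main (d : ℕ) :
    ∃ (G : Type) (_ : Group G) (_ : Finite G) (H : Subgroup G), commutator G = ⊤ ∧ IsCoatom H ∧
      Group.IsSolvable H ∧ derivedSeries H d ≠ ⊥ := by
  refine ⟨E (RR (2 ^ d)), inferInstance, inferInstance, HH (2 ^ d), commutator_E, isCoatom_HH _,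
    isSolvable_HH _, ?_⟩
  intro h
  have := xH_mem_derived (2 ^ d) d 0 2 (by decide)
  rw [h, Subgroup.mem_bot] at this
  exact xH_ne_one d this

end Cfsg.Agent.H9.PerfSolv
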