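import Mathlib

set_option autoImplicit false

/-! A free subgroup of `SL₂(K[X])` on countably many generators, by ping-pong on degrees, with
bounds on the degrees of the entries of words. -/

namespace Cfsg.Agent.H9.PingPongSL2

open Polynomial Matrix

section Poly

variable {K : Type*} [Field K]

/-- `δ < n` -/
def Lt (n : ℕ) (a b : K[X]) : Prop := b ≠ 0 ∧ a.natDegree < b.natDegree + n

/-- `δ = n` -/
def Eqd (n : ℕ) (a b : K[X]) : Prop := b ≠ 0 ∧ a.natDegree = b.natDegree + n

theorem step {n : ℕ} (hn : 1 ≤ n) {f a b : K[X]} (hf : f ≠ 0) (hfn : f.natDegree = n)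
    (h : Lt n a b) : Eqd n (a + f * b) b := by
  obtain ⟨hb, hlt⟩ := h
  have hfb : (f * b).natDegree = n + b.natDegree := by
    rw [natDegree_mul hf hb, hfn]
  refine ⟨hb, ?_⟩
  rw [natDegree_add_eq_right_of_natDegree_lt (by rw [hfb]; omega), hfb, add_comm]

theorem prestep {n : ℕ} (hn : 1 ≤ n) {f a b : K[X]} (hf : f ≠ 0) (hfn : f.natDegree = n)
    (hne : ¬ (a = 0 ∧ b = 0)) (h : ¬ Eqd n b a) : Lt n a (f * a + b) := by
  by_cases ha : a = 0
  · subst ha
    have hb : b ≠ 0 := fun hb => hne ⟨rfl, hb⟩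
    rw [mul_zero, zero_add]
    refine ⟨hb, ?_⟩
    rw [natDegree_zero]
    omega
  · have hfa : (f * a).natDegree = n + a.natDegree := by
      rw [natDegree_mul hf ha, hfn]
    have hfa0 : f * a ≠ 0 := mul_ne_zero hf ha
    by_cases hb : b = 0
    · subst hb
      rw [add_zero]
      refine ⟨hfa0, ?_⟩
      rw [hfa]
      omega
    · rcases lt_trichotomy b.natDegree (a.natDegree + n) with hlt | heq | hgt
      · have hd : (f * a + b).natDegree = n + a.natDegree := by
          rw [natDegree_add_eq_left_of_natDegree_lt (by rw [hfa]; omega), hfa]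
        refine ⟨?_, by rw [hd]; omega⟩
        intro h0
        rw [h0, natDegree_zero] at hd
        omega
      · exact absurd ⟨ha, heq⟩ h
      · have hd : (f * a + b).natDegree = b.natDegree := by
          rw [natDegree_add_eq_right_of_natDegree_lt (by rw [hfa]; omega)]
        refine ⟨?_, by rw [hd]; omega⟩
        intro h0
        rw [h0, natDegree_zero] at hd
        omega

theorem not_eqd_eqd {m n : ℕ} (hm : 1 ≤ m) {a b : K[X]} (h1 : Eqd m a b) (h2 : Eqd n b a) :
    False := by
  have := h1.2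
  have := h2.2
  omega

theorem eqd_unique {m n : ℕ} {a b : K[X]} (h1 : Eqd m a b) (h2 : Eqd n a b) : m = n := by
  have := h1.2
  have := h2.2
  omega

end Poly

section Group

universe u

variable (K : Type u) [Field K]

local notation "SL2X" => Matrix.SpecialLinearGroup (Fin 2) K[X]

/-- the free generators -/
noncomputable def gen (n : ℕ) : SL2X :=
  ⟨!![1 + X ^ (2 * n), X ^ n; X ^ n, 1], by rw [det_fin_two_of]; ring⟩

/-- their inverses -/
noncomputable def genInv (n : ℕ) : SL2X :=
  ⟨!![1, -X ^ n; -X ^ n, 1 + X ^ (2 * n)], by rw [det_fin_two_of]; ring⟩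

theorem coe_gen (n : ℕ) :
    ((gen K n : SL2X) : Matrix (Fin 2) (Fin 2) K[X]) = !![1 + X ^ (2 * n), X ^ n; X ^ n, 1] := rfl

theorem coe_genInv (n : ℕ) :
    ((genInv K n : SL2X) : Matrix (Fin 2) (Fin 2) K[X]) =
      !![1, -X ^ n; -X ^ n, 1 + X ^ (2 * n)] := rfl

theorem inv_gen (n : ℕ) : (gen K n)⁻¹ = genInv K n := by
  apply inv_eq_of_mul_eq_one_right
  apply Subtype.ext
  rw [Matrix.SpecialLinearGroup.coe_mul, coe_gen, coe_genInv, Matrix.SpecialLinearGroup.coe_one]
  apply Matrix.ext
  intro i j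
  fin_cases i <;> fin_cases j <;> simp [Matrix.mul_apply, Fin.sum_univ_two] <;> ring

/-- non-zero vectors -/
abbrev NZ := {v : Fin 2 → K[X] // v ≠ 0}

noncomputable instance instMulActionNZ : MulAction SL2X (NZ K) where
  smul g v := ⟨g • v.1, by
    intro h
    apply v.2
    have := congrArg (fun u => g⁻¹ • u) h
    simpa using this⟩
  one_smul v := Subtype.ext (one_smul _ v.1)
  mul_smul g h v := Subtype.ext (mul_smul g h v.1)

theorem coe_smul_NZ (g : SL2X) (v : NZ K) : (g • v).1 = g • v.1 := rfl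

theorem gen_smul (n : ℕ) (v : Fin 2 → K[X]) :
    gen K n • v = ![v 0 + X ^ n * (X ^ n * v 0 + v 1), X ^ n * v 0 + v 1] := by
  rw [Matrix.SpecialLinearGroup.smul_def, Matrix.smul_eq_mulVec, coe_gen]
  funext i
  fin_cases i <;> simp [Matrix.mulVec, dotProduct, Fin.sum_univ_two] <;> ring

theorem genInv_smul (n : ℕ) (v : Fin 2 → K[X]) :
    genInv K n • v = ![-X ^ n * v 1 + v 0, v 1 + -X ^ n * (-X ^ n * v 1 + v 0)] := by
  rw [Matrix.SpecialLinearGroup.smul_def, Matrix.smul_eq_mulVec, coe_genInv]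
  funext i
  fin_cases i <;> simp [Matrix.mulVec, dotProduct, Fin.sum_univ_two] <;> ring

/-- ping-pong sets -/
def Xs (i : ℕ) : Set (NZ K) := {v | Eqd (i + 1) (v.1 0) (v.1 1)}

/-- ping-pong sets -/
def Ys (i : ℕ) : Set (NZ K) := {v | Eqd (i + 1) (v.1 1) (v.1 0)}

theorem ne_zero_iff (v : NZ K) : ¬ (v.1 0 = 0 ∧ v.1 1 = 0) := by
  rintro ⟨h0, h1⟩
  apply v.2
  funext i
  fin_cases i
  · exact h0
  · exact h1

theorem gen_maps (i : ℕ) (v : NZ K) (hv : v ∉ Ys K i) : gen K (i + 1) • v ∈ Xs K i := by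
  change Eqd (i + 1) ((gen K (i + 1) • v.1) 0) ((gen K (i + 1) • v.1) 1)
  rw [gen_smul]
  have hX : (X ^ (i + 1) : K[X]) ≠ 0 := pow_ne_zero _ X_ne_zero
  have hXd : (X ^ (i + 1) : K[X]).natDegree = i + 1 := natDegree_X_pow _
  have h1 := prestep (by omega) hX hXd (ne_zero_iff K v) hv
  exact step (by omega) hX hXd h1

theorem genInv_maps (i : ℕ) (v : NZ K) (hv : v ∉ Xs K i) : genInv K (i + 1) • v ∈ Ys K i := by
  change Eqd (i + 1) ((genInv K (i + 1) • v.1) 1) ((genInv K (i + 1) • v.1) 0)
  rw [genInv_smul]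
  have hX : (-X ^ (i + 1) : K[X]) ≠ 0 := neg_ne_zero.2 (pow_ne_zero _ X_ne_zero)
  have hXd : (-X ^ (i + 1) : K[X]).natDegree = i + 1 := by rw [natDegree_neg, natDegree_X_pow]
  have hne : ¬ (v.1 1 = 0 ∧ v.1 0 = 0) := fun h => ne_zero_iff K v ⟨h.2, h.1⟩
  have h1 := prestep (by omega) hX hXd hne hv
  exact step (by omega) hX hXd h1

/-- the homomorphism from the free group -/
noncomputable def phi : FreeGroup ℕ →* SL2X := FreeGroup.lift (fun i => gen K (i + 1))

theorem phi_aux_injective :
    Function.Injective (FreeGroup.lift (fun i : ULift.{u} ℕ => gen K (i.down + 1))) := by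
  apply FreeGroup.injective_lift_of_ping_pong (fun i : ULift.{u} ℕ => gen K (i.down + 1))
    (fun i => Xs K i.down) (fun i => Ys K i.down)
  · intro i
    refine ⟨⟨![X ^ (i.down + 1), 1], ?_⟩, ?_⟩
    · intro h
      have := congrFun h 1
      simp at this
    · change Eqd (i.down + 1) (X ^ (i.down + 1)) 1
      refine ⟨one_ne_zero, ?_⟩
      rw [natDegree_X_pow, natDegree_one, zero_add]
  · intro i j hij
    rw [Function.onFun, Set.disjoint_left]
    intro v h1 h2
    apply hij
    have := eqd_unique h1 h2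
    apply ULift.ext
    omega
  · intro i j hij
    rw [Function.onFun, Set.disjoint_left]
    intro v h1 h2
    apply hij
    have := eqd_unique h1 h2
    apply ULift.ext
    omega
  · intro i j
    rw [Set.disjoint_left]
    intro v h1 h2
    exact not_eqd_eqd (by omega) h1 h2
  · intro i
    rintro _ ⟨v, hv, rfl⟩
    exact gen_maps K i.down v hv
  · intro i
    rintro _ ⟨v, hv, rfl⟩
    change (gen K (i.down + 1))⁻¹ • v ∈ Ys K i.down
    rw [inv_gen]
    exact genInv_maps K i.down v hv

theorem phi_injective : Function.Injective (phi K) := by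
  have h : phi K = (FreeGroup.lift (fun i : ULift.{u} ℕ => gen K (i.down + 1))).comp
      (FreeGroup.freeGroupCongr Equiv.ulift.symm).toMonoidHom := by
    apply FreeGroup.ext_hom
    intro i
    simp [phi]
  rw [h, MonoidHom.coe_comp]
  exact (phi_aux_injective K).comp (MulEquiv.injective _)

end Group

section Bounds

universe u

variable (K : Type u) [Field K]

local notation "SL2X" => Matrix.SpecialLinearGroup (Fin 2) K[X]

theorem phi_not_scalar {w : FreeGroup ℕ} (hw : w ≠ 1) :
    ¬ ∃ r : K[X], ((phi K w : SL2X) : Matrix (Fin 2) (Fin 2) K[X]) =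
      r • (1 : Matrix (Fin 2) (Fin 2) K[X]) := by
  rintro ⟨r, hr⟩
  have hdet := (phi K w).2
  rw [hr, det_smul, det_one, mul_one, Fintype.card_fin] at hdet
  have h1 : phi K (w ^ 2) = 1 := by
    apply Subtype.ext
    rw [map_pow, Matrix.SpecialLinearGroup.coe_pow, hr, _root_.smul_pow, one_pow, hdet, one_smul,
      Matrix.SpecialLinearGroup.coe_one]
  have h2 : w ^ 2 = 1 := phi_injective K (by rw [h1, map_one])
  apply hw
  apply pow_left_injective (two_ne_zero)
  simpa using h2

/-- a non-zero polynomial witnessing non-scalarity -/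
theorem exists_witness {w : FreeGroup ℕ} (hw : w ≠ 1) :
    ((phi K w : SL2X) : Matrix (Fin 2) (Fin 2) K[X]) 0 1 ≠ 0 ∨
    ((phi K w : SL2X) : Matrix (Fin 2) (Fin 2) K[X]) 1 0 ≠ 0 ∨
    ((phi K w : SL2X) : Matrix (Fin 2) (Fin 2) K[X]) 0 0 -
      ((phi K w : SL2X) : Matrix (Fin 2) (Fin 2) K[X]) 1 1 ≠ 0 := by
  by_contra hcon
  push Not at hcon
  obtain ⟨h1, h2, h3⟩ := hcon
  apply phi_not_scalar K hw
  refine ⟨((phi K w : SL2X) : Matrix (Fin 2) (Fin 2) K[X]) 0 0, ?_⟩
  apply Matrix.ext
  intro i j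
  fin_cases i <;> fin_cases j
  · simp
  · simpa using h1
  · simpa using h2
  · simp only [Fin.mk_one, Fin.isValue, Matrix.smul_apply, one_apply_eq, smul_eq_mul, mul_one]
    exact (sub_eq_zero.1 h3).symm

/-- all entries have degree at most `d` -/
def EntriesLE (M : Matrix (Fin 2) (Fin 2) K[X]) (d : ℕ) : Prop := ∀ i j, (M i j).natDegree ≤ d

theorem entriesLE_mul {A B : Matrix (Fin 2) (Fin 2) K[X]} {dA dB : ℕ} (hA : EntriesLE K A dA)
    (hB : EntriesLE K B dB) : EntriesLE K (A * B) (dA + dB) := by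
  intro i j
  rw [Matrix.mul_apply, Fin.sum_univ_two]
  refine (natDegree_add_le _ _).trans (max_le ?_ ?_)
  · exact natDegree_mul_le.trans (add_le_add (hA i 0) (hB 0 j))
  · exact natDegree_mul_le.trans (add_le_add (hA i 1) (hB 1 j))

theorem entriesLE_one : EntriesLE K 1 0 := by
  intro i j
  fin_cases i <;> fin_cases j <;> simp

theorem entriesLE_gen (n : ℕ) : EntriesLE K (gen K n).1 (2 * n) := by
  intro i j
  have h1 : (1 + X ^ (2 * n) : K[X]).natDegree ≤ 2 * n :=
    (natDegree_add_le _ _).trans (max_le (by simp) (natDegree_X_pow_le _))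
  have h2 : (X ^ n : K[X]).natDegree ≤ 2 * n := (natDegree_X_pow_le _).trans (by omega)
  fin_cases i <;> fin_cases j
  · exact h1
  · exact h2
  · exact h2
  · change (1 : K[X]).natDegree ≤ _
    simp

theorem entriesLE_genInv (n : ℕ) : EntriesLE K (genInv K n).1 (2 * n) := by
  intro i j
  have h1 : (1 + X ^ (2 * n) : K[X]).natDegree ≤ 2 * n :=
    (natDegree_add_le _ _).trans (max_le (by simp) (natDegree_X_pow_le _))
  have h2 : (-X ^ n : K[X]).natDegree ≤ 2 * n := by
    rw [natDegree_neg]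
    exact (natDegree_X_pow_le _).trans (by omega)
  fin_cases i <;> fin_cases j
  · change (1 : K[X]).natDegree ≤ _
    simp
  · exact h2
  · exact h2
  · exact h1

/-- the degree bound attached to a word -/
def bnd (L : List (ℕ × Bool)) : ℕ := (L.map (fun x => 2 * (x.1 + 1))).sum

theorem entriesLE_prod (L : List (ℕ × Bool)) :
    EntriesLE K ((L.map fun x => cond x.2 (gen K (x.1 + 1)) (gen K (x.1 + 1))⁻¹).prod :
      SL2X).1 (bnd L) := by
  induction L with
  | nil =>
    simp only [List.map_nil, List.prod_nil, bnd, List.sum_nil]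
    exact entriesLE_one K
  | cons x L ih =>
    rw [List.map_cons, List.prod_cons]
    have hb : bnd (x :: L) = 2 * (x.1 + 1) + bnd L := by
      simp [bnd]
    rw [hb]
    change EntriesLE K (_ * _) _
    apply entriesLE_mul K _ ih
    cases x.2
    · rw [cond_false, inv_gen]
      exact entriesLE_genInv K _
    · rw [cond_true]
      exact entriesLE_gen K _

theorem entriesLE_phi (w : FreeGroup ℕ) : EntriesLE K (phi K w).1 (bnd w.toWord) := by
  have h : phi K w = (w.toWord.map fun x => cond x.2 (gen K (x.1 + 1)) (gen K (x.1 + 1))⁻¹).prod := by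
    conv_lhs => rw [← FreeGroup.mk_toWord (x := w)]
    rfl
  rw [h]
  exact entriesLE_prod K _

end Bounds

end Cfsg.Agent.H9.PingPongSL2
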