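import Mathlib
import Cfsg.Prelude.Def_ClassicalGeometry

set_option autoImplicit false

namespace Cfsg.Agent.H9.Plus4

open Matrix

universe u
variable {F : Type u} [Field F]

/-- the index type of the four-dimensional hyperbolic space -/
abbrev I4 : Type := Fin 2 ⊕ Fin 2

/-- row index of a coordinate, for the identification with `2 × 2` matrices
`[[x₀, x₁], [-y₁, y₀]]` -/
def rw : I4 → Fin 2
  | .inl _ => 0
  | .inr _ => 1

/-- column index -/
def cl : I4 → Fin 2
  | .inl i => i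
  | .inr i => 1 - i

/-- sign -/
def sg : I4 → F
  | .inl _ => 1
  | .inr i => if i = 0 then 1 else -1

/-- the matrix of `M ↦ A M B'` -/
def T (A B' : Matrix (Fin 2) (Fin 2) F) : Matrix I4 I4 F :=
  Matrix.of fun κ l => sg κ * sg l * A (rw κ) (rw l) * B' (cl l) (cl κ)

theorem T_one : T (1 : Matrix (Fin 2) (Fin 2) F) 1 = 1 := by
  ext κ l
  rcases κ with i | i <;> rcases l with j | j <;> fin_cases i <;> fin_cases j <;>
    simp [T, rw, cl, sg, Matrix.one_apply]

theorem T_mul (A B' A2 B2' : Matrix (Fin 2) (Fin 2) F) :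
    T A B' * T A2 B2' = T (A * A2) (B2' * B') := by
  ext κ l
  rcases κ with i | i <;> rcases l with j | j <;> fin_cases i <;> fin_cases j <;>
    simp [T, rw, cl, sg, Matrix.mul_apply, Fintype.sum_sum_type, Fin.sum_univ_two] <;> ring

/-- the quadratic form -/
def Q4 (v : I4 → F) : F := v (.inl 0) * v (.inr 0) + v (.inl 1) * v (.inr 1)

theorem quadFormPlus_eq (v : I4 → F) : Cfsg.quadFormPlus 2 F v = Q4 v := by
  simp [Cfsg.quadFormPlus, Q4, Fin.sum_univ_two]

theorem Q4_T (A B' : Matrix (Fin 2) (Fin 2) F) (v : I4 → F) :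
    Q4 (T A B' *ᵥ v) = A.det * B'.det * Q4 v := by
  simp [Q4, T, rw, cl, sg, Matrix.mulVec, dotProduct, Fintype.sum_sum_type, Fin.sum_univ_two,
    Matrix.det_fin_two]
  ring

theorem T_smul_left (c : F) (A B' : Matrix (Fin 2) (Fin 2) F) : T (c • A) B' = c • T A B' := by
  ext κ l
  simp [T]
  ring

theorem T_smul_right (c : F) (A B' : Matrix (Fin 2) (Fin 2) F) : T A (c • B') = c • T A B' := by
  ext κ l
  simp [T]
  ring



/-- the action of pairs as a monoid hom to matrices -/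
noncomputable def Rhat : GL (Fin 2) F × GL (Fin 2) F →* Matrix I4 I4 F where
  toFun g := T g.1.1 (g.2⁻¹).1
  map_one' := by simp [T_one]
  map_mul' g h := by
    simp only [Prod.fst_mul, Prod.snd_mul, Units.val_mul, _root_.mul_inv_rev, T_mul]

/-- into `GL₄` -/
noncomputable def R0 : GL (Fin 2) F × GL (Fin 2) F →* GL I4 F := Rhat.toHomUnits

theorem R0_val (g : GL (Fin 2) F × GL (Fin 2) F) : (R0 g).1 = T g.1.1 (g.2⁻¹).1 := rfl

/-- the quotient of the determinants -/
noncomputable def dd : GL (Fin 2) F × GL (Fin 2) F →* Fˣ :=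
  (Matrix.GeneralLinearGroup.det.comp (MonoidHom.fst _ _)) *
    ((Matrix.GeneralLinearGroup.det.comp (MonoidHom.snd _ _))⁻¹)

theorem dd_apply (g : GL (Fin 2) F × GL (Fin 2) F) :
    dd g = Matrix.GeneralLinearGroup.det g.1 * (Matrix.GeneralLinearGroup.det g.2)⁻¹ := rfl

/-- pairs with equal determinants -/
noncomputable def GG : Subgroup (GL (Fin 2) F × GL (Fin 2) F) := dd.ker

theorem mem_GG (g : GL (Fin 2) F × GL (Fin 2) F) :
    g ∈ (GG : Subgroup (GL (Fin 2) F × GL (Fin 2) F)) ↔ g.1.1.det = g.2.1.det := by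
  unfold GG
  rw [MonoidHom.mem_ker, dd_apply, mul_inv_eq_one, Units.ext_iff]
  rfl

theorem det_inv_val (B : GL (Fin 2) F) : (B⁻¹).1.det = (B.1.det)⁻¹ := by
  have h : B.1.det * (B⁻¹).1.det = 1 := by
    rw [← Matrix.det_mul, ← Units.val_mul, mul_inv_cancel, Units.val_one, Matrix.det_one]
  exact eq_inv_of_mul_eq_one_right h

theorem det_ne_zero (g : GL (Fin 2) F) : g.1.det ≠ 0 :=
  (Matrix.isUnit_iff_isUnit_det g.1 |>.1 g.isUnit).ne_zero

theorem R0_mem (g : GL (Fin 2) F × GL (Fin 2) F) (hg : g ∈ (GG : Subgroup _)) :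
    R0 g ∈ Cfsg.isometryGroup F (Cfsg.quadFormPlus 2 F) := by
  intro u _
  change Cfsg.quadFormPlus 2 F ((R0 g).1 *ᵥ u) = Cfsg.quadFormPlus 2 F u
  rw [quadFormPlus_eq, quadFormPlus_eq, R0_val, Q4_T, det_inv_val, (mem_GG g).1 hg,
    mul_inv_cancel₀ (det_ne_zero g.2), one_mul]

local notation "OO" => Cfsg.isometryGroup F (Cfsg.quadFormPlus 2 F)

/-- the representation of `GG` in the orthogonal group -/
noncomputable def RO : (GG : Subgroup (GL (Fin 2) F × GL (Fin 2) F)) →* OO :=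
  (R0.comp (GG : Subgroup (GL (Fin 2) F × GL (Fin 2) F)).subtype).codRestrict _
    (fun g => R0_mem g.1 g.2)

theorem RO_val (g : (GG : Subgroup (GL (Fin 2) F × GL (Fin 2) F))) :
    ((RO g).1 : GL I4 F).1 = T g.1.1.1 (g.1.2⁻¹).1 := rfl

end Cfsg.Agent.H9.Plus4
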