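import Mathlib
import Cfsg.Agent.H9.Plus4

set_option autoImplicit false

namespace Cfsg.Agent.H9.Plus4

open Matrix

universe u
variable {F : Type u} [Field F]

local notation "OO" => Cfsg.isometryGroup F (Cfsg.quadFormPlus 2 F)
local notation "GG'" => (GG : Subgroup (GL (Fin 2) F × GL (Fin 2) F))

/-- the central scalars -/
noncomputable def zz : Fˣ →* GG' where
  toFun s := ⟨(Matrix.GeneralLinearGroup.scalar (Fin 2) s, Matrix.GeneralLinearGroup.scalar (Fin 2) s),
    by rw [mem_GG]⟩
  map_one' := by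
    apply Subtype.ext
    simp
  map_mul' s t := by
    apply Subtype.ext
    simp

theorem zz_injective : Function.Injective (zz : Fˣ →* GG') := by
  intro s t h
  have h1 := congrArg (fun g : GG' => (g.1.1.1 : Matrix (Fin 2) (Fin 2) F) 0 0) h
  simp [zz, Matrix.GeneralLinearGroup.coe_scalar] at h1
  exact Units.ext h1

theorem T_eq_one (A B' : Matrix (Fin 2) (Fin 2) F) (h : T A B' = 1) :
    ∃ a : F, a ≠ 0 ∧ A = a • 1 ∧ B' = a⁻¹ • 1 := by
  have e := fun κ l => congrFun (congrFun h κ) l
  have h00 := e (.inl 0) (.inl 0)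
  have h11 := e (.inl 1) (.inl 1)
  have h22 := e (.inr 0) (.inr 0)
  have h01 := e (.inl 0) (.inl 1)
  have h10 := e (.inl 1) (.inl 0)
  have h03 := e (.inl 0) (.inr 1)
  have h30 := e (.inr 1) (.inl 0)
  simp [T, rw, cl, sg] at h00 h11 h22 h01 h10 h03 h30
  have ha : A 0 0 ≠ 0 := left_ne_zero_of_mul_eq_one h00
  have hb : B' 0 0 ≠ 0 := right_ne_zero_of_mul_eq_one h00
  have hB10 : B' 1 0 = 0 := by
    rcases h01 with h | h
    · exact absurd h ha
    · exact h
  have hB01 : B' 0 1 = 0 := by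
    rcases h10 with h | h
    · exact absurd h ha
    · exact h
  have hA01 : A 0 1 = 0 := by
    rcases h03 with h | h
    · exact h
    · exact absurd h hb
  have hA10 : A 1 0 = 0 := by
    rcases h30 with h | h
    · exact h
    · exact absurd h hb
  have hB00 : B' 0 0 = (A 0 0)⁻¹ := eq_inv_of_mul_eq_one_right h00
  have hB11 : B' 1 1 = (A 0 0)⁻¹ := eq_inv_of_mul_eq_one_right h11
  have hA11 : A 1 1 = A 0 0 := by
    rw [hB11] at h22
    field_simp at h22
    exact h22
  refine ⟨A 0 0, ha, ?_, ?_⟩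
  · ext i j
    fin_cases i <;> fin_cases j <;> simp [hA01, hA10, hA11]
  · ext i j
    fin_cases i <;> fin_cases j <;> simp [hB01, hB10, hB00, hB11]



theorem scalar_val (s : Fˣ) :
    (Matrix.GeneralLinearGroup.scalar (Fin 2) s : GL (Fin 2) F).1 = (s : F) • 1 := by
  rw [Matrix.GeneralLinearGroup.coe_scalar, Matrix.scalar_apply, Matrix.smul_one_eq_diagonal]

theorem RO_zz (s : Fˣ) : RO (zz s : GG') = (1 : OO) := by
  apply Subtype.ext
  apply Units.ext
  rw [RO_val]
  change T (Matrix.GeneralLinearGroup.scalar (Fin 2) s : GL (Fin 2) F).1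
    ((Matrix.GeneralLinearGroup.scalar (Fin 2) s : GL (Fin 2) F)⁻¹).1 = 1
  rw [← map_inv, scalar_val, scalar_val, T_smul_left, T_smul_right, T_one, smul_smul]
  simp

theorem RO_ker : (RO : GG' →* OO).ker = (zz : Fˣ →* GG').range := by
  ext g
  rw [MonoidHom.mem_ker]
  constructor
  · intro h
    have h1 : T g.1.1.1 (g.1.2⁻¹).1 = 1 := by
      rw [← RO_val, h]; rfl
    obtain ⟨a, ha, hA, hB⟩ := T_eq_one _ _ h1
    refine ⟨Units.mk0 a ha, ?_⟩
    apply Subtype.ext
    apply Prod.ext
    · apply Units.ext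
      change (Matrix.GeneralLinearGroup.scalar (Fin 2) (Units.mk0 a ha) : GL (Fin 2) F).1 = g.1.1.1
      rw [scalar_val, hA]; rfl
    · have : (Matrix.GeneralLinearGroup.scalar (Fin 2) (Units.mk0 a ha) : GL (Fin 2) F)⁻¹ =
          g.1.2⁻¹ := by
        apply Units.ext
        rw [← map_inv, scalar_val, hB]
        simp
      exact inv_injective this
  · rintro ⟨s, rfl⟩
    exact RO_zz s

variable [Fintype F]

theorem card_ker : Nat.card (RO : GG' →* OO).ker = Fintype.card F - 1 := by
  classical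
  rw [RO_ker, Nat.card_congr (MonoidHom.ofInjective zz_injective).toEquiv.symm,
    Nat.card_eq_fintype_card, Fintype.card_units]



omit [Fintype F] in
/-- `diag(t, 1)` -/
noncomputable def Dg : Fˣ →* GL (Fin 2) F where
  toFun t := ⟨Matrix.diagonal ![(t : F), 1], Matrix.diagonal ![((t⁻¹ : Fˣ) : F), 1],
    by ext i j; fin_cases i <;> fin_cases j <;> simp,
    by ext i j; fin_cases i <;> fin_cases j <;> simp⟩
  map_one' := by
    apply Units.ext
    ext i j; fin_cases i <;> fin_cases j <;> simp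
  map_mul' s t := by
    apply Units.ext
    ext i j; fin_cases i <;> fin_cases j <;> simp

omit [Fintype F] in
theorem Dg_val (t : Fˣ) : (Dg t : GL (Fin 2) F).1 = Matrix.diagonal ![(t : F), 1] := rfl

omit [Fintype F] in
theorem det_Dg (t : Fˣ) : Matrix.GeneralLinearGroup.det (Dg t : GL (Fin 2) F) = t := by
  apply Units.ext
  change (Dg t : GL (Fin 2) F).1.det = t
  rw [Dg_val, Matrix.det_diagonal, Fin.prod_univ_two]
  simp

omit [Fintype F] in
theorem dd_surjective : Function.Surjective (dd : GL (Fin 2) F × GL (Fin 2) F →* Fˣ) := by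
  intro t
  refine ⟨(Dg t, 1), ?_⟩
  rw [dd_apply, det_Dg]
  simp

theorem card_GL2 : Nat.card (GL (Fin 2) F) =
    (Fintype.card F ^ 2 - 1) * (Fintype.card F ^ 2 - Fintype.card F) := by
  rw [Matrix.card_GL_field, Fin.prod_univ_two]
  simp

theorem card_GG : Nat.card GG' * (Fintype.card F - 1) = Nat.card (GL (Fin 2) F) ^ 2 := by
  classical
  have h := Subgroup.card_mul_index (GG : Subgroup (GL (Fin 2) F × GL (Fin 2) F))
  have hidx : (GG : Subgroup (GL (Fin 2) F × GL (Fin 2) F)).index = Fintype.card F - 1 := by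
    unfold GG
    rw [Subgroup.index_ker, MonoidHom.range_eq_top.2 dd_surjective, Subgroup.card_top,
      Nat.card_eq_fintype_card, Fintype.card_units]
  rw [hidx, Nat.card_prod] at h
  rw [h, pow_two]

theorem card_range : Nat.card (RO : GG' →* OO).range * (Fintype.card F - 1) ^ 2 =
    Nat.card (GL (Fin 2) F) ^ 2 := by
  have h := Subgroup.card_mul_index (RO : GG' →* OO).ker
  rw [Subgroup.index_ker, card_ker] at h
  rw [← card_GG, ← h]
  ring

end Cfsg.Agent.H9.Plus4
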