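import Mathlib
import Cfsg.Agent.H9.Plus4b
import Cfsg.Agent.S0287

set_option autoImplicit false

namespace Cfsg.Agent.H9.Plus4

open Matrix

universe u
variable {F : Type u} [Field F]

local notation "OO" => Cfsg.isometryGroup F (Cfsg.quadFormPlus 2 F)
local notation "GG'" => (GG : Subgroup (GL (Fin 2) F × GL (Fin 2) F))

/-- the matrix of `M ↦ adj M` -/
def tauM : Matrix I4 I4 F := Matrix.of fun κ l =>
  match κ, l with
  | .inl i, .inr j => if i = 0 ∧ j = 0 then 1 else 0
  | .inr i, .inl j => if i = 0 ∧ j = 0 then 1 else 0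
  | .inl i, .inl j => if i = 1 ∧ j = 1 then -1 else 0
  | .inr i, .inr j => if i = 1 ∧ j = 1 then -1 else 0

theorem tauM_sq : (tauM : Matrix I4 I4 F) * tauM = 1 := by
  ext κ l
  rcases κ with i | i <;> rcases l with j | j <;> fin_cases i <;> fin_cases j <;>
    simp [tauM, Matrix.mul_apply, Fintype.sum_sum_type]

theorem Q4_tauM (v : I4 → F) : Q4 (tauM *ᵥ v) = Q4 v := by
  simp [Q4, tauM, Matrix.mulVec, dotProduct, Fintype.sum_sum_type]
  ring

theorem tauM_T (A B' : Matrix (Fin 2) (Fin 2) F) :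
    tauM * T A B' * tauM = T (Matrix.adjugate B') (Matrix.adjugate A) := by
  ext κ l
  rcases κ with i | i <;> rcases l with j | j <;> fin_cases i <;> fin_cases j <;>
    simp [tauM, T, rw, cl, sg, Matrix.mul_apply, Fintype.sum_sum_type, Fin.sum_univ_two,
      Matrix.adjugate_fin_two] <;> ring

/-- `τ` as an isometry -/
def tau : OO := ⟨⟨tauM, tauM, tauM_sq, tauM_sq⟩, by
  intro u _
  change Cfsg.quadFormPlus 2 F (tauM *ᵥ u) = Cfsg.quadFormPlus 2 F u
  rw [quadFormPlus_eq, quadFormPlus_eq, Q4_tauM]⟩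

theorem tau_val : ((tau : OO).1 : GL I4 F).1 = tauM := rfl

theorem tau_sq : (tau : OO) * tau = 1 := by
  apply Subtype.ext
  apply Units.ext
  exact tauM_sq

theorem tau_inv : (tau : OO)⁻¹ = tau := inv_eq_of_mul_eq_one_right tau_sq



theorem adj_val (g : GL (Fin 2) F) : Matrix.adjugate g.1 = g.1.det • (g⁻¹).1 := by
  have h : g.1 * (g⁻¹).1 = 1 := by rw [← Units.val_mul, mul_inv_cancel, Units.val_one]
  calc Matrix.adjugate g.1 = Matrix.adjugate g.1 * (g.1 * (g⁻¹).1) := by rw [h, mul_one]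
    _ = (Matrix.adjugate g.1 * g.1) * (g⁻¹).1 := by rw [Matrix.mul_assoc]
    _ = g.1.det • (g⁻¹).1 := by rw [Matrix.adjugate_mul, Matrix.smul_mul, one_mul]

/-- swapping the two factors -/
noncomputable def sw : GG' →* GG' where
  toFun g := ⟨(g.1.2, g.1.1), by rw [mem_GG]; exact ((mem_GG g.1).1 g.2).symm⟩
  map_one' := rfl
  map_mul' _ _ := rfl

theorem sw_val (g : GG') : (sw g).1 = (g.1.2, g.1.1) := rfl

theorem tau_conj (g : GG') : (tau : OO) * RO g * tau = RO (sw g) := by
  apply Subtype.ext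
  apply Units.ext
  change tauM * T g.1.1.1 (g.1.2⁻¹).1 * tauM = T g.1.2.1 (g.1.1⁻¹).1
  rw [tauM_T, adj_val, adj_val, inv_inv, T_smul_left, T_smul_right, smul_smul, det_inv_val,
    (mem_GG g.1).1 g.2, inv_mul_cancel₀ (det_ne_zero g.1.2), one_smul]

theorem tau_not_mem : (tau : OO) ∉ (RO : GG' →* OO).range := by
  rintro ⟨g, hg⟩
  have h : T g.1.1.1 (g.1.2⁻¹).1 = tauM := by
    rw [← RO_val, hg]; rfl
  have e := fun κ l => congrFun (congrFun h κ) l
  have h11 := e (.inl 1) (.inl 1)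
  have h00 := e (.inl 0) (.inl 0)
  have h33 := e (.inr 1) (.inr 1)
  simp [T, rw, cl, sg, tauM] at h11 h00 h33
  rcases h00 with h0 | h0
  · rw [h0] at h11
    simp at h11
  · rw [h0] at h33
    simp at h33

variable [Fintype F]

theorem card_OO : Nat.card OO =
    2 * Fintype.card F ^ 2 * (Fintype.card F ^ 2 - 1) * (Fintype.card F ^ 2 - 1) := by
  rw [Cfsg.Agent.S0287.result (F := F) rfl 2 (by norm_num)]
  simp

theorem index_range : (RO : GG' →* OO).range.index = 2 := by
  have h := Subgroup.card_mul_index (RO : GG' →* OO).range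
  have h1 := card_range (F := F)
  rw [card_GL2] at h1
  rw [card_OO] at h
  set q := Fintype.card F with hq
  have hq1 : 1 < q := Fintype.one_lt_card
  obtain ⟨n, hn⟩ : ∃ n, q = n + 2 := ⟨q - 2, by omega⟩
  set N := Nat.card (RO : GG' →* OO).range with hN
  have e1 : q ^ 2 - q = q * (q - 1) := by
    rw [hn]; simp; ring_nf; omega
  rw [e1] at h1
  have hpos : 0 < (q - 1) ^ 2 := by
    have : 0 < q - 1 := by omega
    positivity
  have hNpos : 0 < N := Nat.card_pos
  have h2 : N * (RO : GG' →* OO).range.index * (q - 1) ^ 2 = N * 2 * (q - 1) ^ 2 := by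
    rw [h]
    have : N * 2 * (q - 1) ^ 2 = 2 * (N * (q - 1) ^ 2) := by ring
    rw [this, h1]
    ring
  have h3 := Nat.eq_of_mul_eq_mul_right hpos h2
  exact Nat.eq_of_mul_eq_mul_left hNpos h3

end Cfsg.Agent.H9.Plus4
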