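import Mathlib
import Cfsg.Agent.H9.Plus4c
import Cfsg.Agent.S0264

set_option autoImplicit false

namespace Cfsg.Agent.H9.Plus4

open Matrix
open scoped commutatorElement

universe u

/-- abstract bound for the commutator subgroup of a group with a subgroup of index two -/
theorem comm_le {O : Type*} [Group O] (N S0 : Subgroup O) (τ : O) (hτ : τ * τ = 1)
    (hcov : ∀ x : O, x ∈ N ∨ x * τ ∈ N)
    (hnorm : ∀ n ∈ N, ∀ s ∈ S0, n * s * n⁻¹ ∈ S0)
    (ha : ∀ x ∈ N, ∀ y ∈ N, ⁅x, y⁆ ∈ S0)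
    (hb : ∀ x ∈ N, ⁅τ, x⁆ ∈ S0) : commutator O ≤ S0 := by
  have hτi : τ⁻¹ = τ := inv_eq_of_mul_eq_one_right hτ
  have hform : ∀ x : O, x ∉ N → ∃ n ∈ N, x = n * τ := by
    intro x hx
    rcases hcov x with h | h
    · exact absurd h hx
    · exact ⟨x * τ, h, by rw [mul_assoc, hτ, mul_one]⟩
  -- the mixed case
  have hmix : ∀ n ∈ N, ∀ m ∈ N, ⁅n * τ, m⁆ ∈ S0 := by
    intro n hn m hm
    have e : ⁅n * τ, m⁆ = (n * ⁅τ, m⁆ * n⁻¹) * ⁅n, m⁆ := by
      simp only [commutatorElement_def]; group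
    rw [e]
    exact S0.mul_mem (hnorm n hn _ (hb m hm)) (ha n hn m hm)
  have hboth : ∀ n ∈ N, ∀ m ∈ N, ⁅n * τ, m * τ⁆ ∈ S0 := by
    intro n hn m hm
    have e : ⁅n * τ, m * τ⁆ = (n * ⁅τ, m * n⁻¹⁆ * n⁻¹) * ⁅n, m⁆ := by
      simp only [commutatorElement_def]; group
    rw [e]
    exact S0.mul_mem (hnorm n hn _ (hb _ (N.mul_mem hm (N.inv_mem hn)))) (ha n hn m hm)
  rw [commutator_def, Subgroup.commutator_le]
  intro x _ y _
  by_cases hx : x ∈ N <;> by_cases hy : y ∈ N
  · exact ha x hx y hy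
  · obtain ⟨m, hm, rfl⟩ := hform y hy
    rw [← commutatorElement_inv]
    exact S0.inv_mem (hmix m hm x hx)
  · obtain ⟨n, hn, rfl⟩ := hform x hx
    exact hmix n hn y hy
  · obtain ⟨n, hn, rfl⟩ := hform x hx
    obtain ⟨m, hm, rfl⟩ := hform y hy
    exact hboth n hn m hm



variable {F : Type u} [Field F]

local notation "OO" => Cfsg.isometryGroup F (Cfsg.quadFormPlus 2 F)
local notation "GG'" => (GG : Subgroup (GL (Fin 2) F × GL (Fin 2) F))
local notation "SL2" => Matrix.SpecialLinearGroup (Fin 2) F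

/-- determinant of the first component -/
noncomputable def dK : GG' →* Fˣ :=
  (Matrix.GeneralLinearGroup.det.comp (MonoidHom.fst _ _)).comp (GG : Subgroup _).subtype

theorem dK_apply (g : GG') : dK g = Matrix.GeneralLinearGroup.det g.1.1 := rfl

/-- pairs of determinant one -/
noncomputable def KK : Subgroup GG' := dK.ker

instance : (KK : Subgroup GG').Normal := by unfold KK; infer_instance

theorem mem_KK (g : GG') : g ∈ (KK : Subgroup GG') ↔ Matrix.GeneralLinearGroup.det g.1.1 = 1 := by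
  unfold KK
  rw [MonoidHom.mem_ker, dK_apply]

theorem det_snd (g : GG') : Matrix.GeneralLinearGroup.det g.1.2 = Matrix.GeneralLinearGroup.det g.1.1 := by
  apply Units.ext
  exact ((mem_GG g.1).1 g.2).symm

theorem comm_mem_KK (g h : GG') : ⁅g, h⁆ ∈ (KK : Subgroup GG') := by
  have hab : ∀ a b : Fˣ, a * b * a⁻¹ * b⁻¹ = 1 := by
    intro a b
    rw [mul_comm a b, mul_inv_cancel_right, mul_inv_cancel]
  unfold KK
  rw [MonoidHom.mem_ker, commutatorElement_def, map_mul, map_mul, map_mul, map_inv, map_inv]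
  exact hab _ _

theorem sw_mul_inv_mem (g : GG') : sw g * g⁻¹ ∈ (KK : Subgroup GG') := by
  rw [mem_KK]
  change Matrix.GeneralLinearGroup.det (g.1.2 * (g.1.1)⁻¹) = 1
  rw [map_mul, map_inv, det_snd, mul_inv_cancel]

/-- the inclusion of `SL₂ × SL₂` -/
noncomputable def inc : SL2 × SL2 →* GG' :=
  (MonoidHom.prodMap Matrix.SpecialLinearGroup.toGL Matrix.SpecialLinearGroup.toGL).codRestrict _
    (fun p => by
      rw [mem_GG]
      change (p.1.1).det = (p.2.1).det
      rw [p.1.2, p.2.2])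

theorem inc_val (p : SL2 × SL2) : (inc p).1 =
    (Matrix.SpecialLinearGroup.toGL p.1, Matrix.SpecialLinearGroup.toGL p.2) := rfl

theorem exists_SL_of_det (g : GL (Fin 2) F) (h : Matrix.GeneralLinearGroup.det g = 1) :
    ∃ A : SL2, Matrix.SpecialLinearGroup.toGL A = g := by
  refine ⟨⟨g.1, ?_⟩, ?_⟩
  · have := congrArg Units.val h
    exact this
  · apply Units.ext
    rfl

theorem range_inc : (inc : SL2 × SL2 →* GG').range = KK := by
  ext g
  rw [mem_KK]
  constructor
  · rintro ⟨p, rfl⟩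
    apply Units.ext
    change (p.1.1).det = 1
    exact p.1.2
  · intro h
    have h2 : Matrix.GeneralLinearGroup.det g.1.2 = 1 := by rw [det_snd, h]
    obtain ⟨X, hX⟩ := exists_SL_of_det _ h
    obtain ⟨Y, hY⟩ := exists_SL_of_det _ h2
    refine ⟨(X, Y), ?_⟩
    apply Subtype.ext
    rw [inc_val]
    exact Prod.ext hX hY

/-- the representation of `SL₂ × SL₂` -/
noncomputable def sig : SL2 × SL2 →* OO := RO.comp inc

theorem range_sig : (sig : SL2 × SL2 →* OO).range = (KK : Subgroup GG').map RO := by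
  unfold sig
  rw [MonoidHom.range_comp, range_inc]

end Cfsg.Agent.H9.Plus4
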