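import Mathlib
import Cfsg.Agent.H9.Plus4d

set_option autoImplicit false

namespace Cfsg.Agent.H9.Plus4

open Matrix
open scoped commutatorElement

universe u
variable {F : Type u} [Field F]

local notation "OO" => Cfsg.isometryGroup F (Cfsg.quadFormPlus 2 F)
local notation "GG'" => (GG : Subgroup (GL (Fin 2) F × GL (Fin 2) F))
local notation "SL2" => Matrix.SpecialLinearGroup (Fin 2) F

/-- `A ↦ (A, diag(det A, 1))` -/
noncomputable def iota1 : GL (Fin 2) F →* GG' :=
  (MonoidHom.prod (MonoidHom.id _) (Dg.comp Matrix.GeneralLinearGroup.det)).codRestrict _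
    (fun A => by
      rw [mem_GG]
      change A.1.det = (Dg (Matrix.GeneralLinearGroup.det A) : GL (Fin 2) F).1.det
      have := congrArg Units.val (det_Dg (Matrix.GeneralLinearGroup.det A))
      exact this.symm)

/-- `A ↦ (diag(det A, 1), A)` -/
noncomputable def iota2 : GL (Fin 2) F →* GG' :=
  (MonoidHom.prod (Dg.comp Matrix.GeneralLinearGroup.det) (MonoidHom.id _)).codRestrict _
    (fun A => by
      rw [mem_GG]
      change (Dg (Matrix.GeneralLinearGroup.det A) : GL (Fin 2) F).1.det = A.1.det
      have := congrArg Units.val (det_Dg (Matrix.GeneralLinearGroup.det A))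
      exact this)

theorem det_toGL (X : SL2) : Matrix.GeneralLinearGroup.det (Matrix.SpecialLinearGroup.toGL X) = 1 := by
  apply Units.ext
  change (X.1).det = 1
  exact X.2

theorem iota1_toGL (X : SL2) : iota1 (Matrix.SpecialLinearGroup.toGL X) = inc (X, 1) := by
  apply Subtype.ext
  change (Matrix.SpecialLinearGroup.toGL X, Dg (Matrix.GeneralLinearGroup.det
    (Matrix.SpecialLinearGroup.toGL X))) = (Matrix.SpecialLinearGroup.toGL X,
      Matrix.SpecialLinearGroup.toGL (1 : SL2))
  rw [det_toGL, map_one, map_one]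

theorem iota2_toGL (X : SL2) : iota2 (Matrix.SpecialLinearGroup.toGL X) = inc (1, X) := by
  apply Subtype.ext
  change (Dg (Matrix.GeneralLinearGroup.det (Matrix.SpecialLinearGroup.toGL X)),
    Matrix.SpecialLinearGroup.toGL X) = (Matrix.SpecialLinearGroup.toGL (1 : SL2),
      Matrix.SpecialLinearGroup.toGL X)
  rw [det_toGL, map_one, map_one]

variable [Fintype F]

theorem exists_ne (hF : 3 ≤ Fintype.card F) : ∃ a : F, a ≠ 0 ∧ a ≠ 1 := by
  classical
  by_contra h
  push Not at h
  have hsub : (Finset.univ : Finset F) ⊆ {0, 1} := by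
    intro a _
    by_cases ha : a = 0
    · simp [ha]
    · simp [h a ha]
  have := Finset.card_le_card hsub
  rw [Finset.card_univ] at this
  have h2 : ({0, 1} : Finset F).card ≤ 2 := Finset.card_le_two
  omega

theorem toGL_mem_commutator (hF : 3 ≤ Fintype.card F) (X : SL2) :
    Matrix.SpecialLinearGroup.toGL X ∈ commutator (GL (Fin 2) F) := by
  rw [Cfsg.Agent.S0264.result (F := F) 2 (fun _ => exists_ne hF), MonoidHom.mem_ker]
  exact det_toGL X

theorem map_comm_le {G H : Type*} [Group G] [Group H] (f : G →* H) :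
    (commutator G).map f ≤ commutator H := by
  rw [commutator_def, Subgroup.map_commutator, commutator_def]
  exact Subgroup.commutator_mono le_top le_top

theorem Omega_eq (hF : 3 ≤ Fintype.card F) :
    Cfsg.Omega F (Cfsg.quadFormPlus 2 F) = (sig : SL2 × SL2 →* OO).range := by
  rw [range_sig]
  apply le_antisymm
  · change commutator OO ≤ _
    apply comm_le (RO : GG' →* OO).range _ tau tau_sq
    · intro x
      by_cases hx : x ∈ (RO : GG' →* OO).range
      · exact Or.inl hx
      · right
        rw [Subgroup.mul_mem_iff_of_index_two index_range]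
        exact iff_of_false hx tau_not_mem
    · rintro _ ⟨g, rfl⟩ _ ⟨k, hk, rfl⟩
      refine ⟨g * k * g⁻¹, ?_, by simp⟩
      exact (inferInstance : (KK : Subgroup GG').Normal).conj_mem k hk g
    · rintro _ ⟨g, rfl⟩ _ ⟨h, rfl⟩
      exact ⟨⁅g, h⁆, comm_mem_KK g h, by rw [map_commutatorElement]⟩
    · rintro _ ⟨g, rfl⟩
      refine ⟨sw g * g⁻¹, sw_mul_inv_mem g, ?_⟩
      rw [map_mul, map_inv, ← tau_conj, commutatorElement_def, tau_inv]
  · rintro _ ⟨k, hk, rfl⟩
    rw [← range_inc] at hk
    obtain ⟨⟨X, Y⟩, rfl⟩ := hk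
    have hXY : inc (X, Y) = inc (X, 1) * inc (1, Y) := by
      rw [← map_mul]; simp
    rw [hXY, map_mul]
    apply Subgroup.mul_mem
    · rw [← iota1_toGL]
      exact map_comm_le (RO.comp iota1)
        (Subgroup.mem_map_of_mem _ (toGL_mem_commutator hF X))
    · rw [← iota2_toGL]
      exact map_comm_le (RO.comp iota2)
        (Subgroup.mem_map_of_mem _ (toGL_mem_commutator hF Y))

end Cfsg.Agent.H9.Plus4
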