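import Mathlib
import Cfsg.Agent.H9.Plus4e

set_option autoImplicit false

namespace Cfsg.Agent.H9.Plus4

open Matrix
open scoped commutatorElement

universe u
variable {F : Type u} [Field F]

local notation "OO" => Cfsg.isometryGroup F (Cfsg.quadFormPlus 2 F)
local notation "GG'" => (GG : Subgroup (GL (Fin 2) F × GL (Fin 2) F))
local notation "SL2" => Matrix.SpecialLinearGroup (Fin 2) F

theorem toGL_injective : Function.Injective
    (Matrix.SpecialLinearGroup.toGL : SL2 →* GL (Fin 2) F) := by
  intro X Y h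
  apply Subtype.ext
  exact congrArg Units.val h

/-- the kernel of `sig` consists of pairs with equal components -/
theorem sig_eq_one (p : SL2 × SL2) (h : sig p = (1 : OO)) : p.1 = p.2 := by
  have h1 : inc p ∈ (RO : GG' →* OO).ker := h
  rw [RO_ker] at h1
  obtain ⟨s, hs⟩ := h1
  have h2 := congrArg (fun g : GG' => g.1) hs
  simp only [inc_val] at h2
  have e1 : Matrix.SpecialLinearGroup.toGL p.1 = Matrix.GeneralLinearGroup.scalar (Fin 2) s :=
    (congrArg Prod.fst h2).symm
  have e2 : Matrix.SpecialLinearGroup.toGL p.2 = Matrix.GeneralLinearGroup.scalar (Fin 2) s :=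
    (congrArg Prod.snd h2).symm
  exact toGL_injective (e1.trans e2.symm)

theorem sig_central (p : SL2 × SL2) (h1 : p.1 ∈ Subgroup.center SL2)
    (h2 : p.2 ∈ Subgroup.center SL2) (g : GG') : RO g * sig p = sig p * RO g := by
  change RO g * RO (inc p) = RO (inc p) * RO g
  rw [← map_mul, ← map_mul]
  congr 1
  apply Subtype.ext
  rw [← Matrix.SpecialLinearGroup.toGL_mem_center_iff, Subgroup.mem_center_iff] at h1 h2
  change g.1 * (inc p).1 = (inc p).1 * g.1
  rw [inc_val]
  exact Prod.ext (h1 g.1.1) (h2 g.1.2)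

theorem center_of_sig_comm (p : SL2 × SL2)
    (h : ∀ p2 : SL2 × SL2, sig p2 * sig p = sig p * (sig p2 : OO)) :
    p.1 ∈ Subgroup.center SL2 ∧ p.2 ∈ Subgroup.center SL2 := by
  constructor
  · rw [Subgroup.mem_center_iff]
    intro X
    have h1 := h (X, 1)
    rw [← map_mul, ← map_mul] at h1
    have h2 : sig (((X, 1) * p)⁻¹ * (p * (X, 1))) = (1 : OO) := by
      rw [map_mul, map_inv, h1, inv_mul_cancel]
    have h3 := sig_eq_one _ h2
    simp only [Prod.fst_mul, Prod.snd_mul, Prod.fst_inv, Prod.snd_inv, mul_one, one_mul,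
      inv_mul_cancel] at h3
    exact (inv_mul_eq_one.1 h3)
  · rw [Subgroup.mem_center_iff]
    intro X
    have h1 := h (1, X)
    rw [← map_mul, ← map_mul] at h1
    have h2 : sig (((1, X) * p)⁻¹ * (p * (1, X))) = (1 : OO) := by
      rw [map_mul, map_inv, h1, inv_mul_cancel]
    have h3 := sig_eq_one _ h2
    simp only [Prod.fst_mul, Prod.snd_mul, Prod.fst_inv, Prod.snd_inv, mul_one, one_mul,
      inv_mul_cancel] at h3
    exact (inv_mul_eq_one.1 h3.symm)

end Cfsg.Agent.H9.Plus4
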