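import Mathlib

set_option autoImplicit false

/-! An element of prime order `r ≥ 5` normalizing a subgroup of order `8` and centralizing a
non-identity element of it centralizes the subgroup. -/

namespace Cfsg.Agent.H9.PrimeActsOnEight

variable {G : Type*} [Group G]

theorem centralizes (R : Subgroup G) [Finite R] (hR : Nat.card R = 8) (Y : G)
    (hY : Y ∈ Subgroup.normalizer (R : Set G)) (r : ℕ) [hr : Fact r.Prime] (hr5 : 5 ≤ r)
    (hord : orderOf Y = r) (Z : G) (hZR : Z ∈ R) (hZ1 : Z ≠ 1) (hZY : Y * Z * Y⁻¹ = Z) :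
    ∀ g ∈ R, Y * g * Y⁻¹ = g := by
  have hle : Subgroup.zpowers Y ≤ Subgroup.normalizer (R : Set G) := by
    rw [Subgroup.zpowers_le]
    exact hY
  -- the conjugation action
  letI : MulAction ↥(Subgroup.zpowers Y) ↥R :=
    { smul := fun y g => ⟨(y : G) * g * (y : G)⁻¹,
        (Subgroup.mem_set_normalizer_iff.1 (hle y.2) g).1 g.2⟩
      one_smul := by
        intro g
        apply Subtype.ext
        show ((1 : ↥(Subgroup.zpowers Y)) : G) * g * ((1 : ↥(Subgroup.zpowers Y)) : G)⁻¹ = g
        simp
      mul_smul := by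
        intro a b g
        apply Subtype.ext
        show ((a * b : ↥(Subgroup.zpowers Y)) : G) * g * ((a * b : ↥(Subgroup.zpowers Y)) : G)⁻¹
          = (a : G) * ((b : G) * g * (b : G)⁻¹) * (a : G)⁻¹
        rw [Subgroup.coe_mul]
        group }
  have hsmul : ∀ (y : ↥(Subgroup.zpowers Y)) (g : ↥R), ((y • g : ↥R) : G) = (y : G) * g * (y : G)⁻¹ :=
    fun _ _ => rfl
  have hp : IsPGroup r ↥(Subgroup.zpowers Y) := by
    apply IsPGroup.of_card (n := 1)
    rw [Nat.card_zpowers, hord, pow_one]
  have hmod := hp.card_modEq_card_fixedPoints ↥R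
  -- the fixed points form a subgroup
  let C : Subgroup ↥R :=
    { carrier := MulAction.fixedPoints ↥(Subgroup.zpowers Y) ↥R
      one_mem' := by
        intro y
        apply Subtype.ext
        rw [hsmul]
        simp
      mul_mem' := by
        intro a b ha hb y
        have ha' := congrArg Subtype.val (ha y)
        have hb' := congrArg Subtype.val (hb y)
        rw [hsmul] at ha' hb'
        apply Subtype.ext
        rw [hsmul, Subgroup.coe_mul]
        calc (y : G) * ((a : G) * b) * (y : G)⁻¹
            = ((y : G) * a * (y : G)⁻¹) * ((y : G) * b * (y : G)⁻¹) := by group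
          _ = (a : G) * b := by rw [ha', hb']
      inv_mem' := by
        intro a ha y
        have ha' := congrArg Subtype.val (ha y)
        rw [hsmul] at ha'
        apply Subtype.ext
        rw [hsmul, Subgroup.coe_inv]
        calc (y : G) * (a : G)⁻¹ * (y : G)⁻¹ = ((y : G) * a * (y : G)⁻¹)⁻¹ := by group
          _ = (a : G)⁻¹ := by rw [ha'] }
  have hCcard : Nat.card C = Nat.card (MulAction.fixedPoints ↥(Subgroup.zpowers Y) ↥R) := rfl
  rw [← hCcard, hR] at hmod
  have hdvd : Nat.card C ∣ 8 := by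
    rw [← hR]
    exact Subgroup.card_subgroup_dvd_card C
  -- `1` and `Z` are fixed
  have hZfix : (⟨Z, hZR⟩ : ↥R) ∈ C := by
    intro y
    apply Subtype.ext
    rw [hsmul]
    obtain ⟨k, hk⟩ := y.2
    show (y : G) * Z * (y : G)⁻¹ = Z
    rw [← hk]
    have hcomm : Commute Y Z := by
      show Y * Z = Z * Y
      calc Y * Z = (Y * Z * Y⁻¹) * Y := by group
        _ = Z * Y := by rw [hZY]
    have := (hcomm.zpow_left k)
    calc Y ^ k * Z * (Y ^ k)⁻¹ = Z * Y ^ k * (Y ^ k)⁻¹ := by rw [this.eq]
      _ = Z := by group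
  have hge : 2 ≤ Nat.card C := by
    have : Nontrivial C := by
      refine ⟨⟨⟨⟨Z, hZR⟩, hZfix⟩, 1, ?_⟩⟩
      intro h
      apply hZ1
      have := congrArg (fun c : C => ((c : ↥R) : G)) h
      simpa using this
    exact Finite.one_lt_card
  have h8 : Nat.card C = 8 := by
    have hle8 : Nat.card C ≤ 8 := Nat.le_of_dvd (by norm_num) hdvd
    have hd := (Nat.modEq_iff_dvd' hle8).1 hmod.symm
    have hprime := hr.out
    by_contra hne
    have hlt : Nat.card C < 8 := lt_of_le_of_ne hle8 hne
    have hpos : 0 < 8 - Nat.card C := by omega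
    have hle6 : 8 - Nat.card C ≤ 6 := by omega
    have hrle : r ≤ 8 - Nat.card C := Nat.le_of_dvd hpos hd
    -- `Nat.card C ∈ {2, 4}`
    have : Nat.card C = 2 ∨ Nat.card C = 4 := by
      have hdvd' : Nat.card C ∣ 2 ^ 3 := by norm_num; exact hdvd
      obtain ⟨k, hk3, hk⟩ := (Nat.dvd_prime_pow Nat.prime_two).1 hdvd'
      interval_cases k
      · omega
      · left; rw [hk]; norm_num
      · right; rw [hk]; norm_num
      · rw [hk] at hne; norm_num at hne
    rcases this with h | h
    · rw [h] at hd
      have hd6 : r ∣ 6 := hd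
      have h6 : r ≤ 6 := Nat.le_of_dvd (by norm_num) hd6
      have h56 : r = 5 ∨ r = 6 := by omega
      rcases h56 with h5 | h5
      · rw [h5] at hd6; norm_num at hd6
      · rw [h5] at hprime; norm_num at hprime
    · rw [h] at hrle
      omega
  have htop : C = ⊤ := by
    apply Subgroup.eq_top_of_card_eq
    rw [h8, hR]
  intro g hg
  have hgC : (⟨g, hg⟩ : ↥R) ∈ C := by rw [htop]; exact Subgroup.mem_top _
  have := congrArg Subtype.val (hgC ⟨Y, Subgroup.mem_zpowers Y⟩)
  rw [hsmul] at this
  exact this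

end Cfsg.Agent.H9.PrimeActsOnEight
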