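import Mathlib

set_option autoImplicit false

/-! Quadratic forms over finite fields: isotropic vectors, hyperbolic pairs, standard bases. -/

namespace Cfsg.Agent.H9.QuadFin

open Module QuadraticMap

section Basic

variable {F V : Type*} [Field F] [AddCommGroup V] [Module F V]

/-- two quadratic forms agreeing on a basis (values and polar values) are equal. -/
theorem ext_basis {ι : Type*} (Q Q' : QuadraticForm F V) (bm : Basis ι F V)
    (h1 : ∀ i, Q (bm i) = Q' (bm i))
    (h2 : ∀ i j, polar Q (bm i) (bm j) = polar Q' (bm i) (bm j)) : Q = Q' := by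
  classical
  let _ : LinearOrder ι := IsWellOrder.linearOrder WellOrderingRel
  rw [← toQuadraticMap_toBilin Q bm, ← toQuadraticMap_toBilin Q' bm]
  congr 1
  refine LinearMap.ext_basis bm bm ?_
  intro i j
  rw [toBilin_apply, toBilin_apply, h1, h2]

theorem nondeg_iff (Q : QuadraticForm F V) :
    (polarBilin Q).Nondegenerate ↔ ∀ x, (∀ y, polar Q x y = 0) → x = 0 := by
  constructor
  · intro h x hx
    exact h.1 x hx
  · intro h
    refine ⟨fun x hx => h x hx, fun y hy => h y (fun x => ?_)⟩
    rw [polar_comm]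
    exact hy x

end Basic

section Iso

variable {F V : Type*} [Field F] [Finite F] [AddCommGroup V] [Module F V] [FiniteDimensional F V]

/-- Chevalley–Warning: a quadratic form in at least three variables over a finite field has a
nontrivial zero. -/
theorem exists_isotropic (Q : QuadraticForm F V) (h : 3 ≤ finrank F V) :
    ∃ v : V, v ≠ 0 ∧ Q v = 0 := by
  classical
  have := Fintype.ofFinite F
  set n := finrank F V with hn
  let b : Basis (Fin n) F V := Module.finBasis F V
  let B' := Q.toBilin b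
  let f : MvPolynomial (Fin n) F :=
    ∑ i, ∑ j, MvPolynomial.C (B' (b i) (b j)) * MvPolynomial.X i * MvPolynomial.X j
  have hdeg : f.totalDegree < Fintype.card (Fin n) := by
    rw [Fintype.card_fin]
    refine lt_of_le_of_lt ?_ (show 2 < n from h)
    refine MvPolynomial.totalDegree_finsetSum_le (fun i _ => ?_)
    refine MvPolynomial.totalDegree_finsetSum_le (fun j _ => ?_)
    refine (MvPolynomial.totalDegree_mul _ _).trans ?_
    have h1 : (MvPolynomial.C (B' (b i) (b j)) * MvPolynomial.X i :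
        MvPolynomial (Fin n) F).totalDegree ≤ 1 := by
      refine (MvPolynomial.totalDegree_mul _ _).trans ?_
      rw [MvPolynomial.totalDegree_C, MvPolynomial.totalDegree_X, zero_add]
    have h2 : (MvPolynomial.X j : MvPolynomial (Fin n) F).totalDegree = 1 :=
      MvPolynomial.totalDegree_X j
    omega
  have heval : ∀ x : Fin n → F, MvPolynomial.eval x f = Q (∑ i, x i • b i) := by
    intro x
    have : Q (∑ i, x i • b i) = B' (∑ i, x i • b i) (∑ i, x i • b i) := by
      conv_lhs => rw [← toQuadraticMap_toBilin Q b]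
      rfl
    rw [this]
    simp only [f, map_sum, map_mul, MvPolynomial.eval_C, MvPolynomial.eval_X, LinearMap.sum_apply,
      map_smul, LinearMap.smul_apply, smul_eq_mul]
    rw [Finset.sum_comm]
    refine Finset.sum_congr rfl (fun i _ => ?_)
    rw [Finset.mul_sum]
    refine Finset.sum_congr rfl (fun j _ => ?_)
    ring
  by_contra hcon
  push Not at hcon
  obtain ⟨p, hp⟩ := CharP.exists F
  have := hp
  have : Fact p.Prime := ⟨CharP.char_is_prime F p⟩
  have hdvd := char_dvd_card_solutions p hdeg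
  have hone : Fintype.card { x : Fin n → F // MvPolynomial.eval x f = 0 } = 1 := by
    rw [Fintype.card_eq_one_iff]
    refine ⟨⟨0, by rw [heval]; simp⟩, ?_⟩
    rintro ⟨x, hx⟩
    rw [heval] at hx
    have h0 : ∑ i, x i • b i = 0 := by
      by_contra hne
      exact hcon _ hne hx
    apply Subtype.ext
    have hli := b.linearIndependent
    rw [Fintype.linearIndependent_iff] at hli
    funext i
    exact hli x h0 i
  rw [hone] at hdvd
  exact (Fact.out : p.Prime).one_lt.ne' (Nat.dvd_one.1 hdvd)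

end Iso

section Hyp

variable {F V : Type*} [Field F] [AddCommGroup V] [Module F V]

theorem polar_comp_lin {V' : Type*} [AddCommGroup V'] [Module F V'] (Q : QuadraticForm F V)
    (g : V' →ₗ[F] V) (x y : V') : polar (Q.comp g) x y = polar Q (g x) (g y) := by
  simp only [polar, comp_apply, map_add]

/-- completing an isotropic vector to a hyperbolic pair. -/
theorem exists_hyp_pair (Q : QuadraticForm F V) (hQ : (polarBilin Q).Nondegenerate) {e : V}
    (he : e ≠ 0) (hQe : Q e = 0) : ∃ f : V, Q f = 0 ∧ polar Q e f = 1 := by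
  have hnd := (nondeg_iff Q).1 hQ
  obtain ⟨w, hw⟩ : ∃ w, polar Q e w ≠ 0 := by
    by_contra hcon
    push Not at hcon
    exact he (hnd e hcon)
  set w' := (polar Q e w)⁻¹ • w with hw'
  have h1 : polar Q e w' = 1 := by
    rw [hw', polar_smul_right, smul_eq_mul, inv_mul_cancel₀ hw]
  clear_value w'
  refine ⟨w' - Q w' • e, ?_, ?_⟩
  · rw [sub_eq_add_neg, QuadraticMap.map_add (⇑Q), QuadraticMap.map_neg, QuadraticMap.map_smul, hQe,
      polar_neg_right, polar_smul_right, polar_comm, h1]
    simp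
  · rw [polar_sub_right, polar_smul_right, polar_self, hQe, h1]
    simp

/-- the orthogonal complement of a hyperbolic pair. -/
theorem exists_compl [FiniteDimensional F V] (Q : QuadraticForm F V)
    (hQ : (polarBilin Q).Nondegenerate) {e f : V} (he : Q e = 0) (hf : Q f = 0)
    (hef : polar Q e f = 1) :
    ∃ W : Submodule F V, finrank F W + 2 = finrank F V ∧
      (polarBilin (Q.comp W.subtype)).Nondegenerate ∧
      ∀ w ∈ W, polar Q e w = 0 ∧ polar Q f w = 0 := by
  have hnd := (nondeg_iff Q).1 hQ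
  let φ : V →ₗ[F] F × F := (polarBilin Q e).prod (polarBilin Q f)
  have hφ : ∀ v, φ v = (polar Q e v, polar Q f v) := fun v => rfl
  have hee : polar Q e e = 0 := by rw [polar_self, he]; simp
  have hff : polar Q f f = 0 := by rw [polar_self, hf]; simp
  have hfe : polar Q f e = 1 := by rw [polar_comm]; exact hef
  have hmem : ∀ w, w ∈ LinearMap.ker φ ↔ polar Q e w = 0 ∧ polar Q f w = 0 := by
    intro w
    rw [LinearMap.mem_ker, hφ, Prod.mk_eq_zero]
  have hsurj : LinearMap.range φ = ⊤ := by
    rw [eq_top_iff]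
    rintro ⟨a, b⟩ -
    refine ⟨a • f + b • e, ?_⟩
    rw [hφ, polar_add_right, polar_add_right, polar_smul_right, polar_smul_right,
      polar_smul_right, polar_smul_right, hee, hff, hef, hfe]
    simp
  refine ⟨LinearMap.ker φ, ?_, ?_, fun w hw => (hmem w).1 hw⟩
  · have := LinearMap.finrank_range_add_finrank_ker φ
    rw [hsurj, finrank_top, Module.finrank_prod, Module.finrank_self] at this
    omega
  · rw [nondeg_iff]
    intro x hx
    have hx0 : (x : V) = 0 := by
      apply hnd
      intro v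
      have hxm := (hmem x).1 x.2
      set v' : V := v - polar Q v f • e - polar Q v e • f with hv'
      have hv'm : v' ∈ LinearMap.ker φ := by
        rw [hmem, hv']
        constructor
        · rw [polar_sub_right, polar_sub_right, polar_smul_right, polar_smul_right, hee, hef,
            polar_comm Q v e]
          simp
        · rw [polar_sub_right, polar_sub_right, polar_smul_right, polar_smul_right, hff, hfe,
            polar_comm Q v f]
          simp
      have h0 := hx ⟨v', hv'm⟩
      rw [polar_comp_lin] at h0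
      change polar Q (x : V) v' = 0 at h0
      have hv : v = v' + polar Q v f • e + polar Q v e • f := by rw [hv']; abel
      rw [hv, polar_add_right, polar_add_right, h0, polar_smul_right, polar_smul_right,
        polar_comm Q (x : V) e, polar_comm Q (x : V) f, hxm.1, hxm.2]
      simp
    exact Subtype.ext hx0

/-- a hyperbolic family. -/
def IsHyp (Q : QuadraticForm F V) {k : ℕ} (e f : Fin k → V) : Prop :=
  (∀ i, Q (e i) = 0 ∧ Q (f i) = 0) ∧
  (∀ i j, polar Q (e i) (f j) = if i = j then 1 else 0) ∧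
  (∀ i j, polar Q (e i) (e j) = 0 ∧ polar Q (f i) (f j) = 0)

theorem IsHyp.cons (Q : QuadraticForm F V) {k : ℕ} {e f : Fin k → V} (h : IsHyp Q e f)
    {e₀ f₀ : V} (he : Q e₀ = 0) (hf : Q f₀ = 0) (hef : polar Q e₀ f₀ = 1)
    (hort : ∀ i, (polar Q e₀ (e i) = 0 ∧ polar Q e₀ (f i) = 0) ∧
      (polar Q f₀ (e i) = 0 ∧ polar Q f₀ (f i) = 0)) :
    IsHyp Q (Fin.cons e₀ e : Fin (k + 1) → V) (Fin.cons f₀ f : Fin (k + 1) → V) := by
  have hee : polar Q e₀ e₀ = 0 := by rw [polar_self, he]; simp
  have hff : polar Q f₀ f₀ = 0 := by rw [polar_self, hf]; simp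
  refine ⟨?_, ?_, ?_⟩
  · intro i
    refine Fin.cases ?_ (fun i => ?_) i
    · simp [he, hf]
    · simpa using h.1 i
  · intro i j
    refine Fin.cases ?_ (fun i => ?_) i <;> refine Fin.cases ?_ (fun j => ?_) j
    · simp [hef]
    · simp [(hort j).1.2, (Fin.succ_ne_zero j).symm]
    · rw [Fin.cons_succ, Fin.cons_zero, polar_comm, (hort i).2.1]
      simp [Fin.succ_ne_zero]
    · simp [h.2.1 i j]
  · intro i j
    refine Fin.cases ?_ (fun i => ?_) i <;> refine Fin.cases ?_ (fun j => ?_) j
    · simp [hee, hff]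
    · simp [(hort j).1.1, (hort j).2.2]
    · rw [Fin.cons_succ, Fin.cons_zero, Fin.cons_succ, Fin.cons_zero, polar_comm Q (e i),
        polar_comm Q (f i)]
      exact ⟨(hort i).1.1, (hort i).2.2⟩
    · simpa using h.2.2 i j

theorem IsHyp.map {V' : Type*} [AddCommGroup V'] [Module F V'] (Q : QuadraticForm F V)
    (g : V' →ₗ[F] V) {k : ℕ} {e f : Fin k → V'} (h : IsHyp (Q.comp g) e f) :
    IsHyp Q (fun i => g (e i)) (fun i => g (f i)) := by
  refine ⟨fun i => ?_, fun i j => ?_, fun i j => ?_⟩
  · simpa [comp_apply] using h.1 i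
  · simpa [polar_comp_lin] using h.2.1 i j
  · simpa [polar_comp_lin] using h.2.2 i j

end Hyp

section Peel

universe u v

variable {F : Type v} [Field F] [Finite F]

/-- peeling off `k` hyperbolic pairs from a nondegenerate quadratic space of dimension `2k + r`,
`r ≥ 1`. The remainder is returned as an abstract space with an isometric embedding. -/
theorem peel : ∀ (k : ℕ) (V : Type u) [AddCommGroup V] [Module F V] [FiniteDimensional F V]
    (Q : QuadraticForm F V) (_ : (polarBilin Q).Nondegenerate) (r : ℕ) (_ : 1 ≤ r)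
    (_ : finrank F V = 2 * k + r),
    ∃ (e f : Fin k → V) (R : Type u) (_ : AddCommGroup R) (_ : Module F R) (j : R →ₗ[F] V),
      IsHyp Q e f ∧ finrank F R = r ∧ (polarBilin (Q.comp j)).Nondegenerate ∧
      Function.Injective j ∧
      ∀ w i, polar Q (e i) (j w) = 0 ∧ polar Q (f i) (j w) = 0 := by
  intro k
  induction k with
  | zero =>
    intro V _ _ _ Q hQ r hr hV
    refine ⟨Fin.elim0, Fin.elim0, V, inferInstance, inferInstance, LinearMap.id,
      ⟨fun i => i.elim0, fun i => i.elim0, fun i => i.elim0⟩, by omega, ?_, fun _ _ h => h,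
      fun _ i => i.elim0⟩
    rw [nondeg_iff]
    intro x hx
    refine (nondeg_iff Q).1 hQ x (fun y => ?_)
    have := hx y
    rwa [polar_comp_lin] at this
  | succ k ih =>
    intro V _ _ _ Q hQ r hr hV
    obtain ⟨e₀, he₀, hQe₀⟩ := exists_isotropic Q (by omega)
    obtain ⟨f₀, hQf₀, hef⟩ := exists_hyp_pair Q hQ he₀ hQe₀
    obtain ⟨W, hWdim, hWnd, hWort⟩ := exists_compl Q hQ hQe₀ hQf₀ hef
    obtain ⟨e, f, R, iR1, iR2, j, hyp, hR, hRnd, hjinj, hjort⟩ :=
      ih W (Q.comp W.subtype) hWnd r hr (by omega)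
    refine ⟨Fin.cons e₀ (fun i => (e i : V)), Fin.cons f₀ (fun i => (f i : V)), R, iR1, iR2,
      W.subtype ∘ₗ j, ?_, hR, ?_, ?_, ?_⟩
    · refine IsHyp.cons Q (IsHyp.map Q W.subtype hyp) hQe₀ hQf₀ hef (fun i => ?_)
      exact ⟨⟨(hWort _ (e i).2).1, (hWort _ (f i).2).1⟩, ⟨(hWort _ (e i).2).2, (hWort _ (f i).2).2⟩⟩
    · exact hRnd
    · exact (Submodule.injective_subtype W).comp hjinj
    · intro w i
      refine Fin.cases ?_ (fun i => ?_) i
      · simp only [Fin.cons_zero]
        exact hWort _ (j w).2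
      · simp only [Fin.cons_succ]
        have := hjort w i
        rw [polar_comp_lin, polar_comp_lin] at this
        exact this

end Peel

section Aniso

variable {F V : Type*} [Field F] [Finite F] [AddCommGroup V] [Module F V] [FiniteDimensional F V]

/-- an anisotropic form in at least two variables over a finite field is universal. -/
theorem exists_eq_of_aniso (Q : QuadraticForm F V) (h2 : 2 ≤ finrank F V)
    (han : ∀ v, Q v = 0 → v = 0) (c : F) : ∃ x, Q x = c := by
  let Q' : QuadraticForm F (V × F) := Q.prod ((-c) • QuadraticMap.sq)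
  have hdim : 3 ≤ finrank F (V × F) := by
    rw [Module.finrank_prod, Module.finrank_self]; omega
  obtain ⟨⟨v, z⟩, hne, h0⟩ := exists_isotropic Q' hdim
  have h0' : Q v + (-c) * (z * z) = 0 := by simpa [Q'] using h0
  by_cases hz : z = 0
  · subst hz
    have h1 : Q v = 0 := by simpa using h0'
    have h2 := han v h1
    exact absurd (by rw [h2]; rfl) hne
  · refine ⟨z⁻¹ • v, ?_⟩
    rw [QuadraticMap.map_smul, smul_eq_mul]
    field_simp
    linear_combination h0'

/-- normal form of an anisotropic plane. -/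
theorem aniso_plane (Q : QuadraticForm F V) (hQ : (polarBilin Q).Nondegenerate)
    (hV : finrank F V = 2) (han : ∀ v, Q v = 0 → v = 0) :
    ∃ (x y : V) (ζ : F), Q x = 1 ∧ polar Q x y = 1 ∧ Q y = ζ ∧ ∀ t : F, t ^ 2 + t + ζ ≠ 0 := by
  have hnd := (nondeg_iff Q).1 hQ
  obtain ⟨x, hx⟩ := exists_eq_of_aniso Q hV.ge han 1
  have hx0 : x ≠ 0 := by
    rintro rfl
    rw [QuadraticMap.map_zero] at hx
    exact zero_ne_one hx
  obtain ⟨w, hw⟩ : ∃ w, polar Q x w ≠ 0 := by
    by_contra hcon
    push Not at hcon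
    exact hx0 (hnd x hcon)
  obtain ⟨y₀, hy₀⟩ : ∃ y₀, polar Q x y₀ = 1 :=
    ⟨(polar Q x w)⁻¹ • w, by rw [polar_smul_right, smul_eq_mul, inv_mul_cancel₀ hw]⟩
  -- a nonzero vector orthogonal to x
  obtain ⟨w', hw'0, hw'⟩ : ∃ w' : V, w' ≠ 0 ∧ polar Q x w' = 0 := by
    let φ : V →ₗ[F] F := polarBilin Q x
    have h1 := LinearMap.finrank_range_add_finrank_ker φ
    have h2 : finrank F (LinearMap.range φ) ≤ 1 := by
      have := Submodule.finrank_le (LinearMap.range φ)
      rwa [Module.finrank_self] at this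
    have h3 : LinearMap.ker φ ≠ ⊥ := by
      intro hbot
      rw [hbot, finrank_bot] at h1
      omega
    obtain ⟨b, hb, hb0⟩ := Submodule.exists_mem_ne_zero_of_ne_bot h3
    exact ⟨b, hb0, hb⟩
  -- choose y independent of x
  obtain ⟨y, hy, hind⟩ : ∃ y, polar Q x y = 1 ∧ ∀ t : F, t • x + y ≠ 0 := by
    by_cases h1 : ∀ t : F, t • x + y₀ ≠ 0
    · exact ⟨y₀, hy₀, h1⟩
    · push Not at h1
      obtain ⟨t₁, ht₁⟩ := h1
      refine ⟨y₀ + w', by rw [polar_add_right, hy₀, hw', add_zero], ?_⟩
      intro t₂ ht₂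
      have hw'x : w' = (t₁ - t₂) • x := by
        rw [sub_smul]
        have e1 : y₀ = -(t₁ • x) := eq_neg_of_add_eq_zero_right ht₁
        have e2 : w' = -(t₂ • x) - y₀ := by
          rw [← add_assoc] at ht₂
          rw [eq_neg_of_add_eq_zero_right ht₂]
          abel
        rw [e2, e1]
        abel
      have hne : t₁ - t₂ ≠ 0 := by
        intro h0
        rw [h0, zero_smul] at hw'x
        exact hw'0 hw'x
      have hxx : polar Q x x = 0 := by
        have := hw'
        rw [hw'x, polar_smul_right, smul_eq_mul] at this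
        exact (mul_eq_zero.1 this).resolve_left hne
      have e1 : y₀ = (-t₁) • x := by
        rw [neg_smul]; exact eq_neg_of_add_eq_zero_right ht₁
      rw [e1, polar_smul_right, hxx, smul_zero] at hy₀
      exact zero_ne_one hy₀
  refine ⟨x, y, Q y, hx, hy, rfl, ?_⟩
  intro t ht
  apply hind t
  apply han
  rw [QuadraticMap.map_add (⇑Q), QuadraticMap.map_smul, polar_smul_left, hx, hy]
  simp only [smul_eq_mul, mul_one]
  linear_combination ht

/-- a nondegenerate line. -/
theorem nondeg_line (Q : QuadraticForm F V) (hQ : (polarBilin Q).Nondegenerate)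
    (hV : finrank F V = 1) : ∃ x : V, polar Q x x ≠ 0 := by
  have hnd := (nondeg_iff Q).1 hQ
  obtain ⟨x, hx0⟩ : ∃ x : V, x ≠ 0 := by
    have : 0 < finrank F V := by omega
    exact Module.finrank_pos_iff_exists_ne_zero.1 this
  obtain ⟨w, hw⟩ : ∃ w, polar Q x w ≠ 0 := by
    by_contra hcon
    push Not at hcon
    exact hx0 (hnd x hcon)
  obtain ⟨c, rfl⟩ := (finrank_eq_one_iff_of_nonzero' x hx0).1 hV w
  refine ⟨x, ?_⟩
  intro h0
  rw [polar_smul_right, h0, smul_zero] at hw
  exact hw rfl

end Aniso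

section Std

universe u v

variable {F : Type v} [Field F] [Finite F] {V : Type u} [AddCommGroup V] [Module F V]
  [FiniteDimensional F V]

/-- even dimension: hyperbolic or elliptic family. -/
theorem even_cases (Q : QuadraticForm F V) (hQ : (polarBilin Q).Nondegenerate) (k : ℕ)
    (hV : finrank F V = 2 * k + 2) :
    (∃ e f : Fin (k + 1) → V, IsHyp Q e f) ∨
    (∃ (e f : Fin k → V) (x y : V) (ζ : F), IsHyp Q e f ∧ (∀ t : F, t ^ 2 + t + ζ ≠ 0) ∧
      (∀ i, (polar Q (e i) x = 0 ∧ polar Q (f i) x = 0) ∧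
        (polar Q (e i) y = 0 ∧ polar Q (f i) y = 0)) ∧
      Q x = 1 ∧ polar Q x y = 1 ∧ Q y = ζ) := by
  obtain ⟨e, f, R, iR1, iR2, j, hyp, hR, hRnd, hjinj, hjort⟩ := peel k V Q hQ 2 (by norm_num) hV
  have : Module.Finite F R := Module.finite_of_finrank_pos (by omega)
  by_cases han : ∀ v : R, (Q.comp j) v = 0 → v = 0
  · right
    obtain ⟨x, y, ζ, hx, hxy, hy, hζ⟩ := aniso_plane (Q.comp j) hRnd hR han
    refine ⟨e, f, j x, j y, ζ, hyp, hζ, fun i => ⟨hjort x i, hjort y i⟩, ?_, ?_, ?_⟩
    · simpa [comp_apply] using hx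
    · simpa [polar_comp_lin] using hxy
    · simpa [comp_apply] using hy
  · left
    push Not at han
    obtain ⟨v, hv, hv0⟩ := han
    obtain ⟨f', hf', hvf'⟩ := exists_hyp_pair (Q.comp j) hRnd hv0 hv
    refine ⟨Fin.cons (j v) e, Fin.cons (j f') f, ?_⟩
    refine IsHyp.cons Q hyp (by simpa [comp_apply] using hv) (by simpa [comp_apply] using hf')
      (by simpa [polar_comp_lin] using hvf') (fun i => ?_)
    rw [polar_comm Q (j v), polar_comm Q (j v), polar_comm Q (j f'), polar_comm Q (j f')]
    exact ⟨hjort v i, hjort f' i⟩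

/-- odd dimension: hyperbolic family plus a nonsingular vector. -/
theorem odd_cases (Q : QuadraticForm F V) (hQ : (polarBilin Q).Nondegenerate) (k : ℕ)
    (hV : finrank F V = 2 * k + 1) :
    ∃ (e f : Fin k → V) (x : V), IsHyp Q e f ∧ polar Q x x ≠ 0 ∧
      ∀ i, polar Q (e i) x = 0 ∧ polar Q (f i) x = 0 := by
  obtain ⟨e, f, R, iR1, iR2, j, hyp, hR, hRnd, hjinj, hjort⟩ := peel k V Q hQ 1 le_rfl hV
  have : Module.Finite F R := Module.finite_of_finrank_pos (by omega)
  obtain ⟨x, hx⟩ := nondeg_line (Q.comp j) hRnd hR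
  refine ⟨e, f, j x, hyp, ?_, fun i => hjort x i⟩
  rwa [polar_comp_lin] at hx

omit [Finite F] in
/-- a family with a dual family is linearly independent, hence a basis if it has the right size. -/
theorem exists_basis_of_dual {ι : Type*} [Fintype ι] [DecidableEq ι] (Q : QuadraticForm F V)
    (v w : ι → V) (h : ∀ i j, polar Q (v i) (w j) = if i = j then 1 else 0)
    (hcard : Fintype.card ι = finrank F V) : ∃ b : Basis ι F V, ⇑b = v := by
  have hli : LinearIndependent F v := by
    rw [Fintype.linearIndependent_iff]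
    intro g hg j
    have h1 : polarBilin Q (∑ i, g i • v i) (w j) = 0 := by rw [hg]; simp
    rw [map_sum, LinearMap.sum_apply] at h1
    simp only [map_smul, LinearMap.smul_apply, polarBilin_apply_apply, h, smul_eq_mul, mul_ite,
      mul_one, mul_zero, Finset.sum_ite_eq', Finset.mem_univ, if_true] at h1
    exact h1
  have hsp := hli.span_eq_top_of_card_eq_finrank' hcard
  exact ⟨Basis.mk hli hsp.ge, Basis.coe_mk hli hsp.ge⟩

omit [Finite F] [FiniteDimensional F V] in
theorem four_mul_sub_one_ne_zero {ζ : F} (hζ : ∀ t : F, t ^ 2 + t + ζ ≠ 0) : 4 * ζ - 1 ≠ 0 := by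
  intro h
  by_cases h2 : (2 : F) = 0
  · have h4 : (4 : F) = 0 := by
      have : (4 : F) = 2 * 2 := by norm_num
      rw [this, h2, mul_zero]
    rw [h4, zero_mul, zero_sub] at h
    exact one_ne_zero (neg_eq_zero.1 h)
  · apply hζ (-(1 / 2))
    field_simp
    linear_combination h

/-- hyperbolic basis from a hyperbolic family of full size. -/
theorem IsHyp.exists_basis (Q : QuadraticForm F V) {m : ℕ} {e f : Fin m → V} (h : IsHyp Q e f)
    (hV : finrank F V = 2 * m) :
    ∃ b : Basis (Fin m ⊕ Fin m) F V, ⇑b = Sum.elim e f := by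
  refine exists_basis_of_dual Q (Sum.elim e f) (Sum.elim f e) ?_ ?_
  · rintro (i | i) (j | j)
    · simp [h.2.1 i j]
    · simp [(h.2.2 i j).1]
    · simp [(h.2.2 i j).2]
    · rw [Sum.elim_inr, Sum.elim_inr, polar_comm, h.2.1 j i]
      simp [eq_comm]
  · rw [Fintype.card_sum, Fintype.card_fin, hV]; ring

/-- standard bases in even dimension. -/
theorem even_basis (Q : QuadraticForm F V) (hQ : (polarBilin Q).Nondegenerate) (k : ℕ)
    (hV : finrank F V = 2 * k + 2) :
    (∃ b : Basis (Fin (k + 1) ⊕ Fin (k + 1)) F V,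
      IsHyp Q (fun i => b (Sum.inl i)) (fun i => b (Sum.inr i))) ∨
    (∃ (b : Basis ((Fin k ⊕ Fin k) ⊕ Fin 2) F V) (ζ : F), (∀ t : F, t ^ 2 + t + ζ ≠ 0) ∧
      IsHyp Q (fun i => b (Sum.inl (Sum.inl i))) (fun i => b (Sum.inl (Sum.inr i))) ∧
      (∀ i (c : Fin 2), polar Q (b (Sum.inl (Sum.inl i))) (b (Sum.inr c)) = 0 ∧
        polar Q (b (Sum.inl (Sum.inr i))) (b (Sum.inr c)) = 0) ∧
      Q (b (Sum.inr 0)) = 1 ∧ polar Q (b (Sum.inr 0)) (b (Sum.inr 1)) = 1 ∧
      Q (b (Sum.inr 1)) = ζ) := by
  rcases even_cases Q hQ k hV with ⟨e, f, hyp⟩ | ⟨e, f, x, y, ζ, hyp, hζ, hort, hx, hxy, hy⟩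
  · left
    obtain ⟨b, hb⟩ := hyp.exists_basis Q (by omega)
    refine ⟨b, ?_⟩
    simpa [hb] using hyp
  · right
    have hD := four_mul_sub_one_ne_zero hζ
    have hxx : polar Q x x = 2 := by rw [polar_self, hx]; simp
    have hyy : polar Q y y = 2 * ζ := by rw [polar_self, hy]; simp
    have hyx : polar Q y x = 1 := by rw [polar_comm]; exact hxy
    set D : F := 4 * ζ - 1 with hDdef
    have hdual : ∀ i j : (Fin k ⊕ Fin k) ⊕ Fin 2,
        polar Q (Sum.elim (Sum.elim e f) ![x, y] i)
          (Sum.elim (Sum.elim f e) ![D⁻¹ • ((2 * ζ) • x - y), D⁻¹ • ((2 : F) • y - x)] j) =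
          if i = j then 1 else 0 := by
      rintro ((i | i) | i) ((j | j) | j)
      · simp [hyp.2.1 i j]
      · simp [(hyp.2.2 i j).1]
      · fin_cases j
        · simp [polar_smul_right, polar_sub_right, (hort i).1.1, (hort i).2.1]
        · simp [polar_smul_right, polar_sub_right, (hort i).1.1, (hort i).2.1]
      · simp [(hyp.2.2 i j).2]
      · rw [Sum.elim_inl, Sum.elim_inl, Sum.elim_inr, Sum.elim_inr, polar_comm, hyp.2.1 j i]
        simp [eq_comm]
      · fin_cases j
        · simp [polar_smul_right, polar_sub_right, (hort i).1.2, (hort i).2.2]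
        · simp [polar_smul_right, polar_sub_right, (hort i).1.2, (hort i).2.2]
      · fin_cases i
        · simp [polar_comm Q x (f j), (hort j).1.2]
        · simp [polar_comm Q y (f j), (hort j).2.2]
      · fin_cases i
        · simp [polar_comm Q x (e j), (hort j).1.1]
        · simp [polar_comm Q y (e j), (hort j).2.1]
      · fin_cases i <;> fin_cases j
        · simp [polar_smul_right, polar_sub_right, hxx, hxy]
          field_simp
          rw [hDdef]; ring
        · simp [polar_smul_right, polar_sub_right, hxx, hxy]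
        · simp [polar_smul_right, polar_sub_right, hyy, hyx]
        · simp [polar_smul_right, polar_sub_right, hyy, hyx]
          field_simp
          rw [hDdef]; ring
    have hex : ∃ b : Basis ((Fin k ⊕ Fin k) ⊕ Fin 2) F V,
        ⇑b = Sum.elim (Sum.elim e f) ![x, y] := by
      refine exists_basis_of_dual Q (Sum.elim (Sum.elim e f) ![x, y])
        (Sum.elim (Sum.elim f e) ![D⁻¹ • ((2 * ζ) • x - y), D⁻¹ • ((2 : F) • y - x)]) ?_ ?_
      · exact hdual
      · rw [Fintype.card_sum, Fintype.card_sum, Fintype.card_fin, Fintype.card_fin, hV]; ring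
    obtain ⟨b, hb⟩ := hex
    refine ⟨b, ζ, hζ, ?_, ?_, ?_, ?_, ?_⟩
    · simpa [hb] using hyp
    · intro i c
      fin_cases c
      · simpa [hb] using (hort i).1
      · simpa [hb] using (hort i).2
    · simpa [hb] using hx
    · simpa [hb] using hxy
    · simpa [hb] using hy

/-- standard basis in odd dimension. -/
theorem odd_basis (Q : QuadraticForm F V) (hQ : (polarBilin Q).Nondegenerate) (k : ℕ)
    (hV : finrank F V = 2 * k + 1) :
    ∃ b : Basis (Unit ⊕ (Fin k ⊕ Fin k)) F V,
      polar Q (b (Sum.inl ())) (b (Sum.inl ())) ≠ 0 ∧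
      IsHyp Q (fun i => b (Sum.inr (Sum.inl i))) (fun i => b (Sum.inr (Sum.inr i))) ∧
      ∀ i, polar Q (b (Sum.inl ())) (b (Sum.inr (Sum.inl i))) = 0 ∧
        polar Q (b (Sum.inl ())) (b (Sum.inr (Sum.inr i))) = 0 := by
  obtain ⟨e, f, x, hyp, hx, hort⟩ := odd_cases Q hQ k hV
  have hdual : ∀ i j : Unit ⊕ (Fin k ⊕ Fin k),
      polar Q (Sum.elim (fun _ : Unit => x) (Sum.elim e f) i)
        (Sum.elim (fun _ : Unit => (polar Q x x)⁻¹ • x) (Sum.elim f e) j) =
        if i = j then 1 else 0 := by
    rintro (i | i | i) (j | j | j)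
    · rw [Sum.elim_inl, Sum.elim_inl, polar_smul_right, smul_eq_mul, inv_mul_cancel₀ hx]
      simp
    · simp [polar_comm Q x (f j), (hort j).2]
    · simp [polar_comm Q x (e j), (hort j).1]
    · simp [polar_smul_right, (hort i).1]
    · simp [hyp.2.1 i j]
    · simp [(hyp.2.2 i j).1]
    · simp [polar_smul_right, (hort i).2]
    · simp [(hyp.2.2 i j).2]
    · rw [Sum.elim_inr, Sum.elim_inr, Sum.elim_inr, Sum.elim_inr, polar_comm, hyp.2.1 j i]
      simp [eq_comm]
  have hex : ∃ b : Basis (Unit ⊕ (Fin k ⊕ Fin k)) F V,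
      ⇑b = Sum.elim (fun _ : Unit => x) (Sum.elim e f) := by
    refine exists_basis_of_dual Q _ _ hdual ?_
    rw [Fintype.card_sum, Fintype.card_sum, Fintype.card_fin, Fintype.card_unit, hV]; ring
  obtain ⟨b, hb⟩ := hex
  refine ⟨b, ?_, ?_, ?_⟩
  · simpa [hb] using hx
  · simpa [hb] using hyp
  · intro i
    rw [hb]
    simp only [Sum.elim_inl, Sum.elim_inr]
    rw [polar_comm Q x (e i), polar_comm Q x (f i)]
    exact hort i

end Std

section Sim

variable {F V V₂ : Type*} [Field F] [AddCommGroup V] [Module F V] [AddCommGroup V₂] [Module F V₂]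

/-- a linear map defined on a basis scales the form by `c` as soon as it does so on the basis
(values and polar values). -/
theorem scaling_of_basis {ι : Type*} (Q₁ : QuadraticForm F V) (Q₂ : QuadraticForm F V₂)
    (b : Basis ι F V) (v' : ι → V₂) (c : F) (h1 : ∀ i, Q₂ (v' i) = c * Q₁ (b i))
    (h2 : ∀ i j, polar Q₂ (v' i) (v' j) = c * polar Q₁ (b i) (b j)) (v : V) :
    Q₂ (b.constr F v' v) = c * Q₁ v := by
  have key : Q₂.comp (b.constr F v') = c • Q₁ := by
    refine ext_basis _ _ b (fun i => ?_) (fun i j => ?_)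
    · rw [comp_apply, Basis.constr_basis, h1]
      rfl
    · rw [polar_comp_lin, Basis.constr_basis, Basis.constr_basis, h2, FunLike.coe_smul,
        polar_smul]
      rfl
  have := congrArg (fun q : QuadraticForm F V => q v) key
  simpa using this

/-- a scaling map (nonzero multiplier) from a nondegenerate form is injective. -/
theorem injective_of_scaling (Q₁ : QuadraticForm F V) (Q₂ : QuadraticForm F V₂)
    (hQ : (polarBilin Q₁).Nondegenerate) (g : V →ₗ[F] V₂) {c : F} (hc : c ≠ 0)
    (h : ∀ v, Q₂ (g v) = c * Q₁ v) : Function.Injective g := by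
  rw [injective_iff_map_eq_zero]
  intro v hv
  refine (nondeg_iff Q₁).1 hQ v (fun w => ?_)
  have h1 : polar Q₂ (g v) (g w) = c * polar Q₁ v w := by
    simp only [polar, ← map_add, h]
    ring
  rw [hv] at h1
  have h2 : polar Q₂ 0 (g w) = 0 := by simp [polar]
  rw [h2] at h1
  exact (mul_eq_zero.1 h1.symm).resolve_left hc

theorem exists_equiv_of_scaling [FiniteDimensional F V] (Q : QuadraticForm F V)
    (hQ : (polarBilin Q).Nondegenerate) (g : V →ₗ[F] V) {c : F} (hc : c ≠ 0)
    (h : ∀ v, Q (g v) = c * Q v) : ∃ g' : V ≃ₗ[F] V, ∀ v, Q (g' v) = c * Q v :=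
  ⟨LinearEquiv.ofInjectiveEndo g (injective_of_scaling Q Q hQ g hc h), fun v => by
    rw [← h v]; rfl⟩

end Sim

end Cfsg.Agent.H9.QuadFin
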