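import Mathlib
import Cfsg.Agent.H9.QuadFin
import Cfsg.Agent.S0287
import Cfsg.Agent.S0288

set_option autoImplicit false

/-! Isometries from a quadratic space with a standard basis to the standard forms
`quadFormPlus`, `quadFormMinus`. -/

namespace Cfsg.Agent.H9.QuadStd

open Cfsg.Agent.H9.QuadFin QuadraticMap Module

section

variable {F V V₂ : Type*} [Field F] [AddCommGroup V] [Module F V] [AddCommGroup V₂] [Module F V₂]

/-- the linear equivalence matching two bases is an isometry as soon as the Gram data agree. -/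
theorem isometry_of_bases {ι : Type*} (Q₁ : QuadraticForm F V) (Q₂ : QuadraticForm F V₂)
    (b : Basis ι F V) (b' : Basis ι F V₂) (h1 : ∀ i, Q₂ (b' i) = Q₁ (b i))
    (h2 : ∀ i j, polar Q₂ (b' i) (b' j) = polar Q₁ (b i) (b j)) (v : V) :
    Q₂ (b.equiv b' (Equiv.refl ι) v) = Q₁ v := by
  have e : ((b.equiv b' (Equiv.refl ι) : V ≃ₗ[F] V₂) : V →ₗ[F] V₂) = b.constr F b' := by
    refine b.ext (fun i => ?_)
    simp
  have h := scaling_of_basis Q₁ Q₂ b b' 1 (fun i => by rw [h1, one_mul])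
    (fun i j => by rw [h2, one_mul]) v
  rw [one_mul, ← e] at h
  exact h

/-- a space with a hyperbolic basis is isometric to `quadFormPlus`. -/
theorem iso_plus {m : ℕ} (Q : QuadraticForm F V) (b : Basis (Fin m ⊕ Fin m) F V)
    (hb : IsHyp Q (fun i => b (Sum.inl i)) (fun i => b (Sum.inr i))) :
    ∃ g : V ≃ₗ[F] (Fin m ⊕ Fin m → F), ∀ v, Cfsg.quadFormPlus m F (g v) = Q v := by
  classical
  refine ⟨b.equiv (Pi.basisFun F _) (Equiv.refl _), fun v => ?_⟩
  rw [← Cfsg.Agent.S0287.QP_apply]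
  refine isometry_of_bases Q (Cfsg.Agent.S0287.QP m) b (Pi.basisFun F _) (fun c => ?_)
    (fun c c' => ?_) v
  · rw [Pi.basisFun_apply, Cfsg.Agent.S0287.QP_single]
    rcases c with i | i
    · exact (hb.1 i).1.symm
    · exact (hb.1 i).2.symm
  · rw [Pi.basisFun_apply, Pi.basisFun_apply, ← polarBilin_apply_apply,
      Cfsg.Agent.S0287.polar_single]
    rcases c with i | i <;> rcases c' with j | j
    · simp [(hb.2.2 i j).1]
    · simp [hb.2.1 i j]
    · rw [polar_comm, hb.2.1 j i]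
      simp [eq_comm]
    · simp [(hb.2.2 i j).2]

/-- a space with an elliptic basis is isometric to `quadFormMinus`. -/
theorem iso_minus {k : ℕ} (Q : QuadraticForm F V) (b : Basis ((Fin k ⊕ Fin k) ⊕ Fin 2) F V) (ζ : F)
    (hb : IsHyp Q (fun i => b (Sum.inl (Sum.inl i))) (fun i => b (Sum.inl (Sum.inr i))))
    (hort : ∀ i (c : Fin 2), polar Q (b (Sum.inl (Sum.inl i))) (b (Sum.inr c)) = 0 ∧
        polar Q (b (Sum.inl (Sum.inr i))) (b (Sum.inr c)) = 0)
    (hx : Q (b (Sum.inr 0)) = 1) (hxy : polar Q (b (Sum.inr 0)) (b (Sum.inr 1)) = 1)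
    (hy : Q (b (Sum.inr 1)) = ζ) :
    ∃ g : V ≃ₗ[F] ((Fin k ⊕ Fin k) ⊕ Fin 2 → F), ∀ v, Cfsg.quadFormMinus k F 1 ζ (g v) = Q v := by
  classical
  have hxx : polar Q (b (Sum.inr 0)) (b (Sum.inr 0)) = 2 := by rw [polar_self, hx]; simp
  have hyy : polar Q (b (Sum.inr 1)) (b (Sum.inr 1)) = 2 * ζ := by rw [polar_self, hy]; simp
  have hyx : polar Q (b (Sum.inr 1)) (b (Sum.inr 0)) = 1 := by rw [polar_comm]; exact hxy
  refine ⟨b.equiv (Pi.basisFun F _) (Equiv.refl _), fun v => ?_⟩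
  rw [← Cfsg.Agent.S0288.QM_apply]
  refine isometry_of_bases Q (Cfsg.Agent.S0288.QM k 1 ζ) b (Pi.basisFun F _) (fun c => ?_)
    (fun c c' => ?_) v
  · rw [Pi.basisFun_apply]
    rcases c with (i | i) | i
    · rw [Cfsg.Agent.S0288.QM_single_inl]; exact (hb.1 i).1.symm
    · rw [Cfsg.Agent.S0288.QM_single_inl]; exact (hb.1 i).2.symm
    · rw [Cfsg.Agent.S0288.QM_single_inr]
      fin_cases i
      · simpa using hx.symm
      · simpa using hy.symm
  · rw [Pi.basisFun_apply, Pi.basisFun_apply, ← polarBilin_apply_apply]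
    rcases c with (i | i) | i <;> rcases c' with (j | j) | j
    · rw [Cfsg.Agent.S0288.polar_single_inl_inl]; simp [(hb.2.2 i j).1]
    · rw [Cfsg.Agent.S0288.polar_single_inl_inl]; simp [hb.2.1 i j]
    · rw [Cfsg.Agent.S0288.polar_single_inl_inr]; exact (hort i j).1.symm
    · rw [Cfsg.Agent.S0288.polar_single_inl_inl, polar_comm, hb.2.1 j i]; simp [eq_comm]
    · rw [Cfsg.Agent.S0288.polar_single_inl_inl]; simp [(hb.2.2 i j).2]
    · rw [Cfsg.Agent.S0288.polar_single_inl_inr]; exact (hort i j).2.symm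
    · rw [Cfsg.Agent.S0288.polar_single_inr_inl, polar_comm]; exact (hort j i).1.symm
    · rw [Cfsg.Agent.S0288.polar_single_inr_inl, polar_comm]; exact (hort j i).2.symm
    · fin_cases i <;> fin_cases j
      · simp only [Fin.zero_eta]
        rw [Cfsg.Agent.S0288.polar_single_00, hxx]
      · simp only [Fin.zero_eta, Fin.mk_one]
        rw [Cfsg.Agent.S0288.polar_single_01, hxy]
      · simp only [Fin.zero_eta, Fin.mk_one]
        rw [Cfsg.Agent.S0288.polar_single_10, hyx]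
      · simp only [Fin.mk_one]
        rw [Cfsg.Agent.S0288.polar_single_11, hyy]

end

section Classify

variable {F V : Type*} [Field F] [Finite F] [AddCommGroup V] [Module F V] [FiniteDimensional F V]

/-- classification of nondegenerate quadratic spaces of even dimension over a finite field. -/
theorem classify_even (Q : QuadraticForm F V) (hQ : (polarBilin Q).Nondegenerate) (k : ℕ)
    (hV : finrank F V = 2 * k + 2) :
    (∃ g : V ≃ₗ[F] (Fin (k + 1) ⊕ Fin (k + 1) → F), ∀ v, Cfsg.quadFormPlus (k + 1) F (g v) = Q v) ∨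
    (∃ (ζ : F) (_ : ∀ t : F, t ^ 2 + t + ζ ≠ 0) (g : V ≃ₗ[F] ((Fin k ⊕ Fin k) ⊕ Fin 2 → F)),
      ∀ v, Cfsg.quadFormMinus k F 1 ζ (g v) = Q v) := by
  rcases even_basis Q hQ k hV with ⟨b, hb⟩ | ⟨b, ζ, hζ, hb, hort, hx, hxy, hy⟩
  · exact Or.inl (iso_plus Q b hb)
  · exact Or.inr ⟨ζ, hζ, iso_minus Q b ζ hb hort hx hxy hy⟩

end Classify

end Cfsg.Agent.H9.QuadStd
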