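import Mathlib
import Cfsg.Agent.H9.QuadStd
import Cfsg.Agent.S0289
import Cfsg.Agent.S0290
import Cfsg.Agent.S2617

set_option autoImplicit false

/-! Quadratic forms over the field with two elements polarizing to the standard alternating
form. -/

namespace Cfsg.Agent.H9.QuadF2

open Cfsg.Agent.H9.QuadFin Cfsg.Agent.H9.QuadStd QuadraticMap Module Cfsg.Agent.S0287

/-- the ambient space. -/
abbrev VP (m : ℕ) := Fin m ⊕ Fin m → ZMod 2

/-- the polarization of the plus form. -/
def ff (m : ℕ) (u v : VP m) : ZMod 2 :=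
  Cfsg.quadFormPlus m (ZMod 2) (u + v) - Cfsg.quadFormPlus m (ZMod 2) u -
    Cfsg.quadFormPlus m (ZMod 2) v

theorem ff_eq (m : ℕ) (u v : VP m) : ff m u v = polarBilin (QP (F := ZMod 2) m) u v := by
  rw [polarBilin_apply_apply]
  simp only [ff, polar, QP_apply]

theorem ff_add_left (m : ℕ) (u v w : VP m) : ff m (u + v) w = ff m u w + ff m v w := by
  simp only [ff_eq, map_add, LinearMap.add_apply]

theorem ff_add_right (m : ℕ) (u v w : VP m) : ff m u (v + w) = ff m u v + ff m u w := by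
  simp only [ff_eq, map_add]

theorem ff_smul_right (m : ℕ) (c : ZMod 2) (u v : VP m) : ff m u (c • v) = c * ff m u v := by
  simp only [ff_eq, map_smul, smul_eq_mul]

theorem ff_smul_left (m : ℕ) (c : ZMod 2) (u v : VP m) : ff m (c • u) v = c * ff m u v := by
  simp only [ff_eq, map_smul, LinearMap.smul_apply, smul_eq_mul]

theorem ff_comm (m : ℕ) (u v : VP m) : ff m u v = ff m v u := by
  simp only [ff, add_comm u v]
  ring

theorem ff_self (m : ℕ) (u : VP m) : ff m u u = 0 := by
  rw [ff_eq, polarBilin_apply_apply, polar_self]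
  have : (2 : ℕ) • (QP (F := ZMod 2) m) u = 0 := by
    rw [two_nsmul]; exact CharTwo.add_self_eq_zero _
  exact this

theorem ff_nondeg (m : ℕ) (w : VP m) (h : ∀ v, ff m v w = 0) : w = 0 := by
  refine (nondeg_iff (QP (F := ZMod 2) m)).1 (Cfsg.Agent.S0287.nondegenerate m) w (fun v => ?_)
  rw [← polarBilin_apply_apply, ← ff_eq, ff_comm]
  exact h v

/-- the polarization condition. -/
def Pol (m : ℕ) (q : VP m → ZMod 2) : Prop :=
  ∀ u v : VP m, q (u + v) = q u + q v + ff m u v

theorem Pol.map_zero {m : ℕ} {q : VP m → ZMod 2} (hq : Pol m q) : q 0 = 0 := by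
  have h := hq 0 0
  have h2 : ff m 0 0 = 0 := ff_self m 0
  rw [h2, add_zero, add_zero] at h
  have h3 : q 0 + q 0 = 0 := CharTwo.add_self_eq_zero _
  rw [h3] at h
  exact h

/-- the quadratic form attached to a function with the polarization condition. -/
noncomputable def toQF (m : ℕ) (q : VP m → ZMod 2) (hq : Pol m q) :
    QuadraticForm (ZMod 2) (VP m) where
  toFun := q
  toFun_smul := by
    intro a x
    have ha : a = 0 ∨ a = 1 := by
      revert a
      decide
    rcases ha with rfl | rfl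
    · simp [hq.map_zero]
    · simp
  exists_companion' := ⟨polarBilin (QP (F := ZMod 2) m), fun x y => by rw [hq, ff_eq]⟩

theorem toQF_apply (m : ℕ) (q : VP m → ZMod 2) (hq : Pol m q) (v : VP m) :
    toQF m q hq v = q v := rfl

theorem toQF_polar (m : ℕ) (q : VP m → ZMod 2) (hq : Pol m q) (u v : VP m) :
    polar (toQF m q hq) u v = ff m u v := by
  simp only [polar, toQF_apply]
  rw [hq u v]
  ring

theorem toQF_nondeg (m : ℕ) (q : VP m → ZMod 2) (hq : Pol m q) :
    (polarBilin (toQF m q hq)).Nondegenerate := by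
  rw [nondeg_iff]
  intro x hx
  apply ff_nondeg m x
  intro v
  rw [ff_comm, ← toQF_polar m q hq]
  exact hx v

theorem pol_plus (m : ℕ) : Pol m (Cfsg.quadFormPlus m (ZMod 2)) := by
  intro u v
  simp only [ff]
  ring

/-- classification. -/
theorem classify (m : ℕ) (hm : 1 ≤ m) (q : VP m → ZMod 2) (hq : Pol m q) :
    (∃ g : VP m ≃ₗ[ZMod 2] VP m, ∀ v, q v = Cfsg.quadFormPlus m (ZMod 2) (g v)) ∨
    (∃ g : VP m ≃ₗ[ZMod 2] ((Fin (m - 1) ⊕ Fin (m - 1)) ⊕ Fin 2 → ZMod 2),
      ∀ v, q v = Cfsg.quadFormMinus (m - 1) (ZMod 2) 1 1 (g v)) := by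
  obtain ⟨k, rfl⟩ : ∃ k, m = k + 1 := ⟨m - 1, by omega⟩
  have hV : finrank (ZMod 2) (VP (k + 1)) = 2 * k + 2 := by
    rw [Module.finrank_pi, Fintype.card_sum, Fintype.card_fin]; ring
  rcases classify_even (toQF (k + 1) q hq) (toQF_nondeg _ q hq) k hV with
    ⟨g, hg⟩ | ⟨ζ, hζ, g, hg⟩
  · exact Or.inl ⟨g, fun v => (hg v).symm⟩
  · right
    have hζ1 : ζ = 1 := by
      have key : ∀ z : ZMod 2, (0 : ZMod 2) ^ 2 + 0 + z ≠ 0 → z = 1 := by decide
      exact key ζ (hζ 0)
    subst hζ1
    exact ⟨g, fun v => (hg v).symm⟩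

/-- the number of zeros is never half the number of vectors. -/
theorem card_zero_ne_half (m : ℕ) (hm : 1 ≤ m) (q : VP m → ZMod 2) (hq : Pol m q) :
    Nat.card {v : VP m // q v = 0} ≠ 2 ^ (2 * m - 1) := by
  have hF : Fintype.card (ZMod 2) = 2 := ZMod.card 2
  have h1 := Cfsg.Agent.S0289.result (F := ZMod 2) hF m hm
  have h2 := Cfsg.Agent.S0290.result (F := ZMod 2) hF m hm 1 1
    (Cfsg.Agent.S2617.aniso_of_rootless (by decide))
  obtain ⟨k, rfl⟩ : ∃ k, m = k + 1 := ⟨m - 1, by omega⟩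
  replace h2 : Nat.card {v : (Fin k ⊕ Fin k) ⊕ Fin 2 → ZMod 2 //
      Cfsg.quadFormMinus k (ZMod 2) 1 1 v = 0} =
      2 ^ (2 * (k + 1) - 1) + 2 ^ k - 2 ^ (k + 1) := h2
  simp only [Nat.add_sub_cancel] at h1
  have e1 : 2 ^ (k + 1) = 2 * 2 ^ k := by rw [pow_succ]; ring
  have e2 : 1 ≤ 2 ^ k := Nat.one_le_two_pow
  have e3 : 2 ^ (k + 1) ≤ 2 ^ (2 * (k + 1) - 1) := Nat.pow_le_pow_right (by norm_num) (by omega)
  rcases classify (k + 1) hm q hq with ⟨g, hg⟩ | ⟨g, hg⟩
  · have e : {v : VP (k + 1) // q v = 0} ≃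
        {v : VP (k + 1) // Cfsg.quadFormPlus (k + 1) (ZMod 2) v = 0} :=
      Equiv.subtypeEquiv g.toEquiv (fun v => by rw [hg v]; rfl)
    rw [Nat.card_congr e, h1]
    omega
  · have e : {v : VP (k + 1) // q v = 0} ≃
        {v : (Fin k ⊕ Fin k) ⊕ Fin 2 → ZMod 2 // Cfsg.quadFormMinus k (ZMod 2) 1 1 v = 0} :=
      Equiv.subtypeEquiv g.toEquiv (fun v => by rw [hg v]; rfl)
    rw [Nat.card_congr e, h2]
    omega

/-- translating a form by `f(·, w)`. -/
def tr (m : ℕ) (q : VP m → ZMod 2) (w : VP m) : VP m → ZMod 2 := fun v => q v + ff m v w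

theorem pol_tr (m : ℕ) (q : VP m → ZMod 2) (hq : Pol m q) (w : VP m) : Pol m (tr m q w) := by
  intro u v
  simp only [tr]
  rw [hq u v, ff_add_left]
  ring

/-- the translate by a singular vector is equivalent to the form (via a transvection). -/
theorem tr_equiv_of_zero (m : ℕ) (q : VP m → ZMod 2) (hq : Pol m q) (w : VP m) (hw : q w = 0) :
    ∃ g : VP m ≃ₗ[ZMod 2] VP m, ∀ v, tr m q w v = q (g v) := by
  let T : VP m →ₗ[ZMod 2] VP m :=
    LinearMap.id + ((polarBilin (QP (F := ZMod 2) m)).flip w).smulRight w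
  have hT : ∀ v, T v = v + ff m v w • w := by
    intro v
    simp only [T, LinearMap.add_apply, LinearMap.id_apply, LinearMap.smulRight_apply,
      LinearMap.flip_apply, ff_eq]
  have hinv : Function.Involutive T := by
    intro v
    rw [hT, hT, ff_add_left, ff_smul_left, ff_self, mul_zero, add_zero, add_assoc, ← add_smul,
      CharTwo.add_self_eq_zero, zero_smul, add_zero]
  refine ⟨LinearEquiv.ofInvolutive T hinv, fun v => ?_⟩
  rw [LinearEquiv.coe_ofInvolutive, hT, hq, ff_smul_right]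
  have h1 : q (ff m v w • w) = 0 := by
    have : ∀ c : ZMod 2, q (c • w) = 0 := by
      intro c
      have hc : c = 0 ∨ c = 1 := by
        revert c
        decide
      rcases hc with rfl | rfl
      · simp [hq.map_zero]
      · simpa using hw
    exact this _
  have h2 : ∀ c : ZMod 2, c * c = c := by decide
  rw [h1, h2, add_zero]
  rfl

/-- the translate by a nonsingular vector is not equivalent to the form. -/
theorem tr_not_equiv (m : ℕ) (hm : 1 ≤ m) (q : VP m → ZMod 2) (hq : Pol m q) (w : VP m)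
    (g : VP m ≃ₗ[ZMod 2] VP m) (hg : ∀ v, tr m q w v = q (g v)) : q w = 0 := by
  by_contra hw
  have hw1 : q w = 1 := by
    revert hw
    generalize q w = c
    revert c
    decide
  have e₁ : {v : VP m // tr m q w v = 0} ≃ {v : VP m // q v = 0} :=
    Equiv.subtypeEquiv g.toEquiv (fun v => by rw [hg v]; rfl)
  have e₂ : {v : VP m // tr m q w v = 0} ≃ {v : VP m // ¬ q v = 0} :=
    Equiv.subtypeEquiv (Equiv.addRight w) (fun v => by
      simp only [Equiv.coe_addRight, tr]
      rw [hq v w, hw1]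
      have e : q v + 1 + ff m v w = (q v + ff m v w) + 1 := by ring
      rw [e]
      generalize q v + ff m v w = c
      revert c
      decide)
  have h1 : Nat.card {v : VP m // q v = 0} = Nat.card {v : VP m // ¬ q v = 0} :=
    (Nat.card_congr e₁).symm.trans (Nat.card_congr e₂)
  have h2 : Nat.card {v : VP m // q v = 0} + Nat.card {v : VP m // ¬ q v = 0} = 2 ^ (2 * m) := by
    rw [← Nat.card_sum, Nat.card_congr (Equiv.sumCompl (fun v : VP m => q v = 0)),
      Nat.card_eq_fintype_card, Fintype.card_fun, Fintype.card_sum, Fintype.card_fin, ZMod.card,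
      two_mul]
  have h3 := card_zero_ne_half m hm q hq
  apply h3
  have e4 : 2 ^ (2 * m) = 2 * 2 ^ (2 * m - 1) := by
    rw [← pow_succ']
    congr 1
    omega
  omega

end Cfsg.Agent.H9.QuadF2
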