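import Mathlib
import Cfsg.Agent.Lib.Helper5.QuadCount
import Cfsg.Agent.S0287
import Cfsg.Agent.H9.QuadFin

set_option autoImplicit false

/-! Totally singular subspaces: dimension bound, and the zero count of a nondegenerate quadratic
space of dimension `2d` containing a totally singular `d`-space. -/

namespace Cfsg.Agent.H9.QuadHalf

open Cfsg.Agent.Lib.Helper5.QuadCount Cfsg.Agent.H9.QuadFin QuadraticMap Module

section TS

variable {F V : Type*} [Field F] [AddCommGroup V] [Module F V] [FiniteDimensional F V]

/-- a totally singular subspace of a nondegenerate quadratic space has at most half the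
dimension. -/
theorem two_mul_finrank_le (Q : QuadraticForm F V) (hQ : (polarBilin Q).Nondegenerate)
    (U : Submodule F V) (hU : ∀ u ∈ U, Q u = 0) : 2 * finrank F U ≤ finrank F V := by
  have hle : U ≤ LinearMap.BilinForm.orthogonal (polarBilin Q) U := by
    intro u hu
    rw [LinearMap.BilinForm.mem_orthogonal_iff]
    intro w hw
    rw [polarBilin_apply_apply]
    simp only [polar]
    rw [hU _ (U.add_mem hw hu), hU _ hw, hU _ hu]
    simp
  have h1 := LinearMap.BilinForm.finrank_orthogonal (B := polarBilin Q) hQ U
  have h2 := Submodule.finrank_mono hle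
  have h3 := Submodule.finrank_le U
  omega

end TS

section Half

universe u v

variable {F : Type v} [Field F] [Finite F]

/-- the linear map `c ↦ (0, c)`. -/
def up (d : ℕ) : (Fin d → F) →ₗ[F] (Fin (d + 1) → F) :=
  LinearMap.pi (Fin.cons (0 : (Fin d → F) →ₗ[F] F) (fun i => LinearMap.proj i))

omit [Finite F] in
@[simp] theorem up_zero (d : ℕ) (c : Fin d → F) : up d c 0 = 0 := by
  simp [up]

omit [Finite F] in
@[simp] theorem up_succ (d : ℕ) (c : Fin d → F) (i : Fin d) : up d c i.succ = c i := by
  simp [up]

/-- a nondegenerate space of dimension `2d` with a totally singular `d`-space has as many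
singular vectors as the hyperbolic space. -/
theorem card_zero_of_half :
    ∀ (d : ℕ) (V : Type u) [AddCommGroup V] [Module F V] [FiniteDimensional F V]
      (Q : QuadraticForm F V) (_ : (polarBilin Q).Nondegenerate) (_ : finrank F V = 2 * d)
      (ι : (Fin d → F) →ₗ[F] V) (_ : Function.Injective ι) (_ : ∀ c, Q (ι c) = 0),
      Nat.card {v : V // Q v = 0} = Cfsg.Agent.S0287.zP (Nat.card F) d := by
  intro d
  induction d with
  | zero =>
    intro V _ _ _ Q hQ hV ι hι h0
    have hsub : Subsingleton V := Module.finrank_zero_iff.1 (by simpa using hV)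
    have : Unique {v : V // Q v = 0} :=
      { default := ⟨0, QuadraticMap.map_zero Q⟩
        uniq := fun x => Subtype.ext (Subsingleton.elim _ _) }
    rw [Nat.card_unique]
    rfl
  | succ d ih =>
    intro V _ _ _ Q hQ hV ι hι h0
    have hq : 1 ≤ Nat.card F := Nat.card_pos
    have hiso : ∀ a b, polar Q (ι a) (ι b) = 0 := by
      intro a b
      simp only [polar]
      rw [← map_add, h0, h0, h0]
      simp
    set e : V := ι (Pi.single 0 1) with he
    have he0 : e ≠ 0 := by
      intro h
      have := hι (h.trans (map_zero ι).symm)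
      have h1 := congrFun this 0
      simp at h1
    have hQe : Q e = 0 := h0 _
    obtain ⟨f, hQf, hef⟩ := exists_hyp_pair Q hQ he0 hQe
    have hp : IsHP Q (e, f) := ⟨hQe, hQf, by rw [polarBilin_apply_apply]; exact hef⟩
    have hfe : polar Q f e = 1 := by rw [polar_comm]; exact hef
    let φ : (Fin d → F) →ₗ[F] F := (polarBilin Q f) ∘ₗ ι ∘ₗ up d
    let ι₀ : (Fin d → F) →ₗ[F] V := ι ∘ₗ up d - φ.smulRight e
    have hι₀ : ∀ c, ι₀ c = ι (up d c - φ c • Pi.single 0 1) := by
      intro c
      simp only [ι₀, LinearMap.sub_apply, LinearMap.comp_apply, LinearMap.smulRight_apply, map_sub,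
        map_smul, he]
    have hmem : ∀ c, ι₀ c ∈ perp Q e f := by
      intro c
      rw [mem_perp]
      constructor
      · rw [polarBilin_apply_apply, hι₀, he]
        exact hiso _ _
      · simp only [ι₀, LinearMap.sub_apply, LinearMap.comp_apply, LinearMap.smulRight_apply,
          map_sub, map_smul, polarBilin_apply_apply, hfe, φ]
        simp
    let ι' : (Fin d → F) →ₗ[F] perp Q e f := LinearMap.codRestrict (perp Q e f) ι₀ hmem
    have hι'inj : Function.Injective ι' := by
      rw [injective_iff_map_eq_zero]
      intro c hc
      have h1 : ι₀ c = 0 := by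
        have := congrArg Subtype.val hc
        simpa [ι'] using this
      rw [hι₀] at h1
      have h2 := hι (h1.trans (map_zero ι).symm)
      funext i
      have h3 := congrFun h2 i.succ
      simpa [Fin.succ_ne_zero] using h3
    have hι'0 : ∀ c, restr Q e f (ι' c) = 0 := by
      intro c
      rw [restr_apply]
      change Q (ι₀ c) = 0
      rw [hι₀]
      exact h0 _
    have hdim : finrank F (perp Q e f) = 2 * d := by
      have := finrank_perp hp
      omega
    have hih := ih (perp Q e f) (restr Q e f) (restr_nondegenerate hQ hp) hdim ι' hι'inj hι'0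
    rw [card_zero_eq hp, hih, Module.natCard_eq_pow_finrank (K := F) (V := perp Q e f), hdim,
      Cfsg.Agent.S0287.zP_rec _ hq, zero_add]

end Half

end Cfsg.Agent.H9.QuadHalf
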