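import Mathlib
import Cfsg.Prelude.Def_LieRecognition

/-!
Basic theory of the rank-one set-up `Cfsg.IsRankOneSetup G Ω a t Q`.
-/

set_option autoImplicit false
open scoped Pointwise

namespace Cfsg.Agent.H9.RankOne

open MulAction

variable {G Ω : Type*} [Group G] [MulAction G Ω] {a : Ω} {t : G} {Q : Subgroup G}

/-- The two point stabiliser `D = G_a ⊓ G_{t a}`. -/
abbrev DD (G : Type*) {Ω : Type*} [Group G] [MulAction G Ω] (a : Ω) (t : G) : Subgroup G :=
  stabilizer G a ⊓ stabilizer G (t • a)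

lemma tsmul_ne (hS : Cfsg.IsRankOneSetup G Ω a t Q) : t • a ≠ a :=
  fun h => hS.not_mem (by simpa [mem_stabilizer_iff] using h)

lemma t_inv (hS : Cfsg.IsRankOneSetup G Ω a t Q) : t⁻¹ = t := by
  rw [inv_eq_iff_mul_eq_one]; exact hS.mul_self

lemma t_smul_t_smul (hS : Cfsg.IsRankOneSetup G Ω a t Q) (c : Ω) : t • t • c = c := by
  rw [smul_smul, hS.mul_self, one_smul]

lemma Q_smul_a (hS : Cfsg.IsRankOneSetup G Ω a t Q) {q : G} (hq : q ∈ Q) : q • a = a :=
  hS.le hq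

lemma D_le_normalizer (hS : Cfsg.IsRankOneSetup G Ω a t Q) :
    DD G a t ≤ Subgroup.normalizer (Q : Set G) := by
  rw [Subgroup.le_normalizer_iff]
  intro h hh k hk
  exact hS.conj_mem h hh.1 k hk

/-- `G_a = Q D` elementwise. -/
lemma exists_mul_of_mem_stab (hS : Cfsg.IsRankOneSetup G Ω a t Q) {g : G}
    (hg : g ∈ stabilizer G a) : ∃ q ∈ Q, ∃ d ∈ DD G a t, g = q * d := by
  have h1 : g ∈ ((Q ⊔ DD G a t : Subgroup G) : Set G) := by
    have := hS.sup_eq
    rw [SetLike.mem_coe]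
    exact this ▸ hg
  rw [Subgroup.coe_mul_of_right_le_normalizer_left Q (DD G a t) (D_le_normalizer hS)] at h1
  obtain ⟨q, hq, d, hd, rfl⟩ := h1
  exact ⟨q, hq, d, hd, rfl⟩

lemma Q_inf_D (hS : Cfsg.IsRankOneSetup G Ω a t Q) {x : G} (hq : x ∈ Q) (hd : x ∈ DD G a t) :
    x = 1 := by
  have : x ∈ Q ⊓ stabilizer G (t • a) := ⟨hq, hd.2⟩
  rw [hS.inf_eq_bot] at this
  exact this

/-- `Q` is transitive on the points other than `a`. -/
lemma exists_Q_smul (hS : Cfsg.IsRankOneSetup G Ω a t Q) {c : Ω} (hc : c ≠ a) :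
    ∃ q ∈ Q, q • (t • a) = c := by
  have h2 : ∀ {a b c d : Ω} (_ : a ≠ b) (_ : c ≠ d), ∃ g : G, g • a = c ∧ g • b = d :=
    (MulAction.is_two_pretransitive_iff (G := G) (α := Ω)).1 hS.two_transitive
  obtain ⟨g, hga, hgc⟩ := h2 (a := a) (b := t • a) (c := a) (d := c) (tsmul_ne hS).symm hc.symm
  obtain ⟨q, hq, d, hd, rfl⟩ := exists_mul_of_mem_stab hS (g := g) hga
  refine ⟨q, hq, ?_⟩
  rw [mul_smul] at hgc
  have : d • t • a = t • a := hd.2
  rwa [this] at hgc

lemma Q_free_b (hS : Cfsg.IsRankOneSetup G Ω a t Q) {q : G} (hq : q ∈ Q)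
    (h : q • (t • a) = t • a) : q = 1 := by
  have : q ∈ Q ⊓ stabilizer G (t • a) := ⟨hq, h⟩
  rw [hS.inf_eq_bot] at this
  exact this

/-- `Q` acts freely on the points other than `a`. -/
lemma Q_free (hS : Cfsg.IsRankOneSetup G Ω a t Q) {q : G} (hq : q ∈ Q) {c : Ω} (hc : c ≠ a)
    (h : q • c = c) : q = 1 := by
  obtain ⟨x, hx, rfl⟩ := exists_Q_smul hS hc
  have h1 : (x⁻¹ * q * x) • (t • a) = t • a := by
    rw [mul_smul, mul_smul, h, inv_smul_smul]
  have h2 := Q_free_b hS (Q.mul_mem (Q.mul_mem (Q.inv_mem hx) hq) hx) h1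
  have : q = x * (x⁻¹ * q * x) * x⁻¹ := by group
  rw [this, h2]; group

/-- A non-identity element of `Q` fixes only `a`. -/
lemma fixed_of_Q (hS : Cfsg.IsRankOneSetup G Ω a t Q) {q : G} (hq : q ∈ Q) (hq1 : q ≠ 1) {c : Ω}
    (h : q • c = c) : c = a := by
  by_contra hc
  exact hq1 (Q_free hS hq hc h)

lemma Q_regular (hS : Cfsg.IsRankOneSetup G Ω a t Q) {b c : Ω} (hb : b ≠ a) (hc : c ≠ a) :
    ∃! x : Q, (x : G) • b = c := by
  obtain ⟨x1, hx1, rfl⟩ := exists_Q_smul hS hb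
  obtain ⟨x2, hx2, rfl⟩ := exists_Q_smul hS hc
  refine ⟨⟨x2 * x1⁻¹, Q.mul_mem hx2 (Q.inv_mem hx1)⟩, ?_, ?_⟩
  · show (x2 * x1⁻¹) • x1 • t • a = x2 • t • a
    rw [mul_smul, inv_smul_smul]
  · rintro ⟨y, hy⟩ hy'
    have hy' : y • x1 • t • a = x2 • t • a := hy'
    have h1 : (x2⁻¹ * y * x1) • (t • a) = t • a := by
      rw [mul_smul, mul_smul, hy', inv_smul_smul]
    have h2 := Q_free_b hS (Q.mul_mem (Q.mul_mem (Q.inv_mem hx2) hy) hx1) h1
    apply Subtype.ext
    show y = x2 * x1⁻¹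
    have : y = x2 * (x2⁻¹ * y * x1) * x1⁻¹ := by group
    rw [this, h2]; group

/-- The bijection `Q ≃ Ω ∖ {a}`. -/
noncomputable def equivQ (hS : Cfsg.IsRankOneSetup G Ω a t Q) : Q ≃ {c : Ω // c ≠ a} :=
  Equiv.ofBijective
    (fun x => ⟨(x : G) • t • a, fun h => tsmul_ne hS (by
      have h1 : (x : G)⁻¹ • ((x : G) • t • a) = (x : G)⁻¹ • a := by rw [h]
      rw [inv_smul_smul] at h1
      rw [h1, inv_smul_eq_iff, Q_smul_a hS x.2])⟩)
    ⟨fun x y h => by
        have h' : (x : G) • t • a = (y : G) • t • a := congrArg Subtype.val h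
        have hne : (y : G) • t • a ≠ a := by
          intro h0
          apply tsmul_ne hS
          have h1 : (y : G)⁻¹ • ((y : G) • t • a) = (y : G)⁻¹ • a := by rw [h0]
          rw [inv_smul_smul] at h1
          rw [h1, inv_smul_eq_iff, Q_smul_a hS y.2]
        exact (Q_regular hS (tsmul_ne hS) hne).unique h' rfl,
      fun c => by
        obtain ⟨q, hq, h⟩ := exists_Q_smul hS c.2
        exact ⟨⟨q, hq⟩, Subtype.ext h⟩⟩

section finite
variable [Finite G]

lemma finite_Ω (hS : Cfsg.IsRankOneSetup G Ω a t Q) : Finite Ω := by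
  classical
  have h1 : Finite {c : Ω // c ≠ a} := Finite.of_equiv _ (equivQ hS)
  exact Finite.of_equiv _ (Equiv.optionSubtypeNe a)

lemma card_Ω (hS : Cfsg.IsRankOneSetup G Ω a t Q) : Nat.card Ω = Nat.card Q + 1 := by
  classical
  have h1 : Finite {c : Ω // c ≠ a} := Finite.of_equiv _ (equivQ hS)
  rw [← Nat.card_congr (Equiv.optionSubtypeNe a), Finite.card_option, Nat.card_congr (equivQ hS)]

lemma card_stab (hS : Cfsg.IsRankOneSetup G Ω a t Q) :
    Nat.card (stabilizer G a) = Nat.card Q * Nat.card (DD G a t) := by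
  have e : (Q × DD G a t) ≃ stabilizer G a := by
    refine Equiv.ofBijective
      (fun p => ⟨(p.1 : G) * (p.2 : G), (stabilizer G a).mul_mem (hS.le p.1.2) p.2.2.1⟩) ⟨?_, ?_⟩
    · rintro ⟨⟨q1, hq1⟩, ⟨d1, hd1⟩⟩ ⟨⟨q2, hq2⟩, ⟨d2, hd2⟩⟩ h
      have h' : q1 * d1 = q2 * d2 := congrArg Subtype.val h
      have h3 : q2⁻¹ * q1 = d2 * d1⁻¹ := by
        calc q2⁻¹ * q1 = q2⁻¹ * (q1 * d1) * d1⁻¹ := by group
          _ = d2 * d1⁻¹ := by rw [h']; group
      have h4 : q2⁻¹ * q1 = 1 :=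
        Q_inf_D hS (Q.mul_mem (Q.inv_mem hq2) hq1)
          (h3 ▸ (DD G a t).mul_mem hd2 ((DD G a t).inv_mem hd1))
      have h5 : q1 = q2 := by
        have := inv_mul_eq_one.1 h4
        exact this.symm
      have h6 : d1 = d2 := by
        rw [h5] at h'
        exact mul_left_cancel h'
      subst h5; subst h6; rfl
    · rintro ⟨g, hg⟩
      obtain ⟨q, hq, d, hd, rfl⟩ := exists_mul_of_mem_stab hS hg
      exact ⟨(⟨q, hq⟩, ⟨d, hd⟩), rfl⟩
  rw [← Nat.card_congr e, Nat.card_prod]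

lemma isPretransitive (hS : Cfsg.IsRankOneSetup G Ω a t Q) : IsPretransitive G Ω :=
  @MulAction.isPretransitive_of_is_two_pretransitive G Ω _ _ hS.two_transitive

lemma card_G (hS : Cfsg.IsRankOneSetup G Ω a t Q) :
    Nat.card G = Nat.card Q * Nat.card (DD G a t) * (Nat.card Q + 1) := by
  have := isPretransitive hS
  rw [← card_Ω hS, ← card_stab hS, ← MulAction.index_stabilizer_of_transitive (G := G) (x := a),
    Subgroup.card_mul_index]

/-- An element of `D` whose square is trivial is trivial. -/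
lemma D_sq_eq_one (hS : Cfsg.IsRankOneSetup G Ω a t Q) {d : G} (hd : d ∈ DD G a t)
    (h : d * d = 1) : d = 1 := by
  have h1 : orderOf (⟨d, hd⟩ : DD G a t) ∣ 2 := by
    apply orderOf_dvd_of_pow_eq_one
    apply Subtype.ext
    rw [pow_two]; exact h
  have h2 : orderOf (⟨d, hd⟩ : DD G a t) ∣ Nat.card (DD G a t) := orderOf_dvd_natCard _
  have h3 : Nat.Coprime 2 (Nat.card (DD G a t)) := by
    rw [Nat.coprime_two_left]
    exact hS.odd_card
  have h4 : orderOf (⟨d, hd⟩ : DD G a t) = 1 :=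
    Nat.eq_one_of_dvd_coprimes h3 h1 h2
  rw [orderOf_eq_one_iff] at h4
  exact congrArg Subtype.val h4

/-- Elements of `G_a` of order dividing two lie in `Q`. -/
lemma invol_mem_Q (hS : Cfsg.IsRankOneSetup G Ω a t Q) {s : G} (hs : s ∈ stabilizer G a)
    (hss : s * s = 1) : s ∈ Q := by
  obtain ⟨q, hq, d, hd, rfl⟩ := exists_mul_of_mem_stab hS hs
  have h1 : d * d = (d * q⁻¹ * d⁻¹) * q⁻¹ := by
    have : d * q * d = q⁻¹ := by
      calc d * q * d = q⁻¹ * (q * d * (q * d)) := by group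
        _ = q⁻¹ := by rw [hss, mul_one]
    calc d * d = (d * q⁻¹ * d⁻¹) * (d * q * d) := by group
      _ = _ := by rw [this]
  have h2 : d * d ∈ Q := by
    rw [h1]
    exact Q.mul_mem (hS.conj_mem d hd.1 _ (Q.inv_mem hq)) (Q.inv_mem hq)
  have h3 : d * d = 1 := Q_inf_D hS h2 ((DD G a t).mul_mem hd hd)
  rw [D_sq_eq_one hS hd h3, mul_one]
  exact hq

/-- an involution of `G_a` fixes only `a`. -/
lemma invol_fixed (hS : Cfsg.IsRankOneSetup G Ω a t Q) {s : G} (hs : s ∈ stabilizer G a)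
    (hs1 : s ≠ 1) (hss : s * s = 1) {c : Ω} (h : s • c = c) : c = a :=
  fixed_of_Q hS (invol_mem_Q hS hs hss) hs1 h

/-- existence of an involution in `Q`. -/
lemma exists_invol (hS : Cfsg.IsRankOneSetup G Ω a t Q) : ∃ s ∈ Q, s ≠ 1 ∧ s * s = 1 := by
  have : Fact (Nat.Prime 2) := ⟨Nat.prime_two⟩
  obtain ⟨x, hx⟩ := exists_prime_orderOf_dvd_card' (G := Q) 2 hS.even_card.two_dvd
  refine ⟨x, x.2, ?_, ?_⟩
  · intro h
    have : x = 1 := Subtype.ext h
    rw [this, orderOf_one] at hx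
    norm_num at hx
  · have : x ^ 2 = 1 := hx ▸ pow_orderOf_eq_one x
    have := congrArg Subtype.val this
    rw [pow_two] at this
    exact this

omit [MulAction G Ω] in
/-- In a dihedral configuration: if `s u` has even order, some involution commutes with both. -/
lemma exists_central_invol {s u : G} (hs : s * s = 1) (hu : u * u = 1)
    (hev : Even (orderOf (s * u))) :
    ∃ w : G, w ≠ 1 ∧ w * w = 1 ∧ s * w = w * s ∧ u * w = w * u := by
  obtain ⟨k, hk⟩ := hev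
  have hpos : 0 < orderOf (s * u) := orderOf_pos _
  have hk0 : 0 < k := by omega
  refine ⟨(s * u) ^ k, ?_, ?_, ?_, ?_⟩
  · exact pow_ne_one_of_lt_orderOf hk0.ne' (by omega)
  · rw [← pow_add, ← hk, pow_orderOf_eq_one]
  · have hsi : s⁻¹ = s := inv_eq_iff_mul_eq_one.2 hs
    have hui : u⁻¹ = u := inv_eq_iff_mul_eq_one.2 hu
    have h1 : s * (s * u) ^ k * s⁻¹ = (s * (s * u) * s⁻¹) ^ k := by rw [conj_pow]
    have h2 : s * (s * u) * s⁻¹ = (s * u)⁻¹ := by
      rw [mul_inv_rev, hsi, hui]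
      calc s * (s * u) * s = (s * s) * u * s := by group
        _ = u * s := by rw [hs, one_mul]
    have h3 : ((s * u) ^ k)⁻¹ = (s * u) ^ k := by
      rw [inv_eq_iff_mul_eq_one, ← pow_add, ← hk, pow_orderOf_eq_one]
    have h4 : s * (s * u) ^ k * s⁻¹ = (s * u) ^ k := by
      rw [h1, h2, inv_pow, h3]
    calc s * (s * u) ^ k = s * (s * u) ^ k * s⁻¹ * s := by group
      _ = (s * u) ^ k * s := by rw [h4]
  · have hsi : s⁻¹ = s := inv_eq_iff_mul_eq_one.2 hs
    have hui : u⁻¹ = u := inv_eq_iff_mul_eq_one.2 hu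
    have h1 : u * (s * u) ^ k * u⁻¹ = (u * (s * u) * u⁻¹) ^ k := by rw [conj_pow]
    have h2 : u * (s * u) * u⁻¹ = (s * u)⁻¹ := by
      rw [mul_inv_rev, hsi, hui]
      calc u * (s * u) * u = u * s * (u * u) := by group
        _ = u * s := by rw [hu, mul_one]
    have h3 : ((s * u) ^ k)⁻¹ = (s * u) ^ k := by
      rw [inv_eq_iff_mul_eq_one, ← pow_add, ← hk, pow_orderOf_eq_one]
    have h4 : u * (s * u) ^ k * u⁻¹ = (s * u) ^ k := by
      rw [h1, h2, inv_pow, h3]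
    calc u * (s * u) ^ k = u * (s * u) ^ k * u⁻¹ * u := by group
      _ = (s * u) ^ k * u := by rw [h4]

/-- `s u` has odd order for involutions `s ∈ G_a`, `u ∉ G_a`. -/
lemma odd_orderOf_mul (hS : Cfsg.IsRankOneSetup G Ω a t Q) {s u : G} (hs : s ∈ stabilizer G a)
    (hs1 : s ≠ 1) (hss : s * s = 1) (hu : u ∉ stabilizer G a) (huu : u * u = 1) :
    Odd (orderOf (s * u)) := by
  rw [← Nat.not_even_iff_odd]
  intro hev
  obtain ⟨w, hw1, hww, hsw, huw⟩ := exists_central_invol hss huu hev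
  have hwa : w • a = a := by
    apply invol_fixed hS hs hs1 hss
    rw [smul_smul, hsw, mul_smul]
    have : s • a = a := hs
    rw [this]
  apply hu
  show u • a = a
  apply invol_fixed hS (s := w) hwa hw1 hww
  rw [smul_smul, ← huw, mul_smul, hwa]

omit [MulAction G Ω] [Finite G] in
/-- If `s u` has odd order, the involutions `s`, `u` are conjugate by a power `w` of `s u`
inverted by `s`. -/
lemma conj_of_odd_pow {s u : G} (hs : s * s = 1) (hu : u * u = 1) (hodd : Odd (orderOf (s * u))) :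
    ∃ n : ℕ, ((s * u) ^ n)⁻¹ * s * (s * u) ^ n = u ∧ s * (s * u) ^ n * s = ((s * u) ^ n)⁻¹ := by
  obtain ⟨m, hm⟩ := hodd
  have hsi : s⁻¹ = s := inv_eq_iff_mul_eq_one.2 hs
  have hui : u⁻¹ = u := inv_eq_iff_mul_eq_one.2 hu
  have hinv : s * (s * u) * s = (s * u)⁻¹ := by
    rw [mul_inv_rev, hsi, hui]
    calc s * (s * u) * s = (s * s) * u * s := by group
      _ = u * s := by rw [hs, one_mul]
  have hw : s * (s * u) ^ (m + 1) * s = ((s * u) ^ (m + 1))⁻¹ := by
    have h1 : s * (s * u) ^ (m + 1) * s⁻¹ = (s * (s * u) * s⁻¹) ^ (m + 1) := by rw [conj_pow]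
    rw [hsi] at h1
    rw [h1, hinv, inv_pow]
  refine ⟨m + 1, ?_, hw⟩
  have hsq : (s * u) ^ (m + 1) * (s * u) ^ (m + 1) = s * u := by
    rw [← pow_add]
    have : m + 1 + (m + 1) = orderOf (s * u) + 1 := by omega
    rw [this, pow_succ, pow_orderOf_eq_one, one_mul]
  calc ((s * u) ^ (m + 1))⁻¹ * s * (s * u) ^ (m + 1)
      = s * (s * ((s * u) ^ (m + 1))⁻¹ * s) * (s * u) ^ (m + 1) := by
        have : s * (s * ((s * u) ^ (m + 1))⁻¹ * s) = (s * s) * ((s * u) ^ (m + 1))⁻¹ * s := by group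
        rw [this, hs, one_mul]
    _ = s * ((s * u) ^ (m + 1) * (s * u) ^ (m + 1)) := by
        have : s * ((s * u) ^ (m + 1))⁻¹ * s = (s * u) ^ (m + 1) := by
          rw [← hw]
          calc s * (s * (s * u) ^ (m + 1) * s) * s = (s * s) * (s * u) ^ (m + 1) * (s * s) := by group
            _ = _ := by rw [hs, one_mul, mul_one]
        rw [this]; group
    _ = u := by rw [hsq, ← mul_assoc, hs, one_mul]

omit [MulAction G Ω] [Finite G] in
/-- If `s u` has odd order, the involutions `s`, `u` are conjugate by an element `w` inverted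
by `s`. -/
lemma conj_of_odd {s u : G} (hs : s * s = 1) (hu : u * u = 1) (hodd : Odd (orderOf (s * u))) :
    ∃ w : G, w⁻¹ * s * w = u ∧ s * w * s = w⁻¹ := by
  obtain ⟨n, h1, h2⟩ := conj_of_odd_pow hs hu hodd
  exact ⟨_, h1, h2⟩

/-- Any two involutions of `G` are conjugate. -/
lemma invol_conj (hS : Cfsg.IsRankOneSetup G Ω a t Q) {u v : G} (hu1 : u ≠ 1) (huu : u * u = 1)
    (hv1 : v ≠ 1) (hvv : v * v = 1) : ∃ g : G, g * u * g⁻¹ = v := by
  -- every involution is conjugate to every involution on the other side of `G_a`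
  have key : ∀ s u : G, s ∈ stabilizer G a → s ≠ 1 → s * s = 1 → u ∉ stabilizer G a → u * u = 1 →
      ∃ g : G, g * s * g⁻¹ = u := by
    intro s u hs hs1 hss hu huu
    obtain ⟨w, hw, _⟩ := conj_of_odd hss huu (odd_orderOf_mul hS hs hs1 hss hu huu)
    exact ⟨w⁻¹, by rw [inv_inv]; exact hw⟩
  obtain ⟨s0, hs0Q, hs01, hs0s⟩ := exists_invol hS
  have hs0 : s0 ∈ stabilizer G a := hS.le hs0Q
  have ht : t ∉ stabilizer G a := hS.not_mem
  -- every involution is conjugate to `t`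
  have toT : ∀ u : G, u ≠ 1 → u * u = 1 → ∃ g : G, g * u * g⁻¹ = t := by
    intro u hu1 huu
    by_cases hu : u ∈ stabilizer G a
    · exact key u t hu hu1 huu ht hS.mul_self
    · obtain ⟨g1, hg1⟩ := key s0 u hs0 hs01 hs0s hu huu
      obtain ⟨g2, hg2⟩ := key s0 t hs0 hs01 hs0s ht hS.mul_self
      refine ⟨g2 * g1⁻¹, ?_⟩
      rw [← hg1, ← hg2]; group
  obtain ⟨g1, hg1⟩ := toT u hu1 huu
  obtain ⟨g2, hg2⟩ := toT v hv1 hvv
  refine ⟨g2⁻¹ * g1, ?_⟩
  have : g2⁻¹ * g1 * u * (g2⁻¹ * g1)⁻¹ = g2⁻¹ * (g1 * u * g1⁻¹) * g2 := by group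
  rw [this, hg1, ← hg2]; group

/-- Every involution of `G` fixes exactly one point. -/
lemma invol_unique_fixed (hS : Cfsg.IsRankOneSetup G Ω a t Q) {u : G} (hu1 : u ≠ 1)
    (huu : u * u = 1) : ∃! c : Ω, u • c = c := by
  obtain ⟨s0, hs0Q, hs01, hs0s⟩ := exists_invol hS
  obtain ⟨g, hg⟩ := invol_conj hS hs01 hs0s hu1 huu
  refine ⟨g • a, ?_, ?_⟩
  · show u • g • a = g • a
    rw [← hg, mul_smul, mul_smul, inv_smul_smul, Q_smul_a hS hs0Q]
  · intro c hc
    have h1 : s0 • (g⁻¹ • c) = g⁻¹ • c := by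
      have : s0 = g⁻¹ * u * g := by rw [← hg]; group
      rw [this, mul_smul, mul_smul, smul_inv_smul, hc]
    have := fixed_of_Q hS hs0Q hs01 h1
    rw [inv_smul_eq_iff] at this
    exact this

end finite

end Cfsg.Agent.H9.RankOne
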