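import Mathlib
import Cfsg.Agent.H9.RankOne

/-!
Rank-one set-up, part 2: the set `K` of elements of `D` inverted by `t`.
-/

set_option autoImplicit false
open scoped Pointwise

namespace Cfsg.Agent.H9.RankOne

open MulAction

variable {G Ω : Type*} [Group G] [MulAction G Ω] {a : Ω} {t : G} {Q : Subgroup G}

/-- The set `K` of elements of `D` inverted by `t`. -/
abbrev KK (G : Type*) {Ω : Type*} [Group G] [MulAction G Ω] (a : Ω) (t : G) : Set G :=
  Cfsg.invertedBy (DD G a t) t

lemma mem_KK {k : G} : k ∈ KK G a t ↔ k ∈ DD G a t ∧ t * k * t⁻¹ = k⁻¹ := Iff.rfl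

lemma tk_eq {k : G} (hk : k ∈ KK G a t) : t * k = k⁻¹ * t := by
  have := hk.2
  calc t * k = t * k * t⁻¹ * t := by group
    _ = k⁻¹ * t := by rw [this]

lemma K_invol (hS : Cfsg.IsRankOneSetup G Ω a t Q) {k : G} (hk : k ∈ KK G a t) :
    (t * k) * (t * k) = 1 := by
  nth_rewrite 1 [tk_eq hk]
  calc k⁻¹ * t * (t * k) = k⁻¹ * (t * t) * k := by group
    _ = 1 := by rw [hS.mul_self]; group

lemma tk_ne_one (hS : Cfsg.IsRankOneSetup G Ω a t Q) {k : G} (hk : k ∈ KK G a t) :
    t * k ≠ 1 := by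
  intro h
  apply hS.not_mem
  have : t = k⁻¹ := eq_inv_of_mul_eq_one_left h
  rw [this]
  exact (stabilizer G a).inv_mem hk.1.1

lemma tk_smul_a (hS : Cfsg.IsRankOneSetup G Ω a t Q) {k : G} (hk : k ∈ KK G a t) :
    (t * k) • a = t • a := by
  rw [mul_smul]
  have : k • a = a := hk.1.1
  rw [this]

/-- An involution swapping `a` and `t a` lies in `t K`. -/
lemma mem_K_of_swap (hS : Cfsg.IsRankOneSetup G Ω a t Q) {u : G} (huu : u * u = 1)
    (hua : u • a = t • a) : t * u ∈ KK G a t := by
  have hub : u • t • a = a := by rw [← hua, smul_smul, huu, one_smul]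
  refine ⟨⟨?_, ?_⟩, ?_⟩
  · show (t * u) • a = a
    rw [mul_smul, hua, t_smul_t_smul hS]
  · show (t * u) • t • a = t • a
    rw [mul_smul, hub]
  · rw [t_inv hS]
    have hui : u⁻¹ = u := inv_eq_iff_mul_eq_one.2 huu
    rw [mul_inv_rev, hui, t_inv hS]
    calc t * (t * u) * t = (t * t) * u * t := by group
      _ = u * t := by rw [hS.mul_self, one_mul]

lemma K_pow {k : G} (hk : k ∈ KK G a t) (n : ℕ) : k ^ n ∈ KK G a t := by
  refine ⟨(DD G a t).pow_mem hk.1 n, ?_⟩
  have : t * k ^ n * t⁻¹ = (t * k * t⁻¹) ^ n := by rw [conj_pow]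
  rw [this, hk.2, inv_pow]

lemma tk_eq_conj (hS : Cfsg.IsRankOneSetup G Ω a t Q) {h : G} (hh : h ∈ KK G a t) :
    t * (h * h) = h⁻¹ * t * h := by
  rw [← mul_assoc, tk_eq hh]

section finite
variable [Finite G]

/-- Every element of `K` has a square root in `K`. -/
lemma K_sqrt (hS : Cfsg.IsRankOneSetup G Ω a t Q) {k : G} (hk : k ∈ KK G a t) :
    ∃ h ∈ KK G a t, h * h = k := by
  obtain ⟨m, hm⟩ := hS.odd_card
  refine ⟨k ^ (m + 1), K_pow hk _, ?_⟩
  have h1 : k ^ (2 * m + 1) = 1 := by
    have h := pow_card_eq_one' (G := DD G a t) (x := ⟨k, hk.1⟩)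
    have h2 := congrArg (Subtype.val) h
    rw [Subgroup.coe_pow, Subgroup.coe_one, hm] at h2
    exact h2
  rw [← pow_add]
  calc k ^ (m + 1 + (m + 1)) = k ^ (2 * m + 1) * k := by rw [← pow_succ]; congr 1; ring
    _ = k := by rw [h1, one_mul]

/-- the conjugate `t s t` of an involution of `G_a` is not in `G_a`. -/
lemma tst_not_mem (hS : Cfsg.IsRankOneSetup G Ω a t Q) {s : G} (hs : s ∈ stabilizer G a)
    (hs1 : s ≠ 1) (hss : s * s = 1) : t * s * t ∉ stabilizer G a := by
  intro h
  have h : (t * s * t) • a = a := h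
  rw [mul_smul, mul_smul] at h
  have h2 : t • (t • s • t • a) = t • a := by rw [h]
  rw [t_smul_t_smul hS] at h2
  exact tsmul_ne hS (invol_fixed hS hs hs1 hss h2)

lemma tst_sq (hS : Cfsg.IsRankOneSetup G Ω a t Q) {s : G} (hss : s * s = 1) :
    (t * s * t) * (t * s * t) = 1 := by
  calc (t * s * t) * (t * s * t) = t * s * (t * t) * s * t := by group
    _ = t * (s * s) * t := by rw [hS.mul_self]; group
    _ = 1 := by rw [hss, mul_one, hS.mul_self]

/-- The key involution: for involutions `s, s'` of `G_a` there is an involution `u₀` swapping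
`a` and `t a`, with `u₀ (t s t) u₀ = s'`, commuting with everything that commutes with both
`s'` and `t s t`. -/
lemma exists_u0 (hS : Cfsg.IsRankOneSetup G Ω a t Q) {s s' : G}
    (hs : s ∈ Cfsg.involutionsIn (stabilizer G a : Set G))
    (hs' : s' ∈ Cfsg.involutionsIn (stabilizer G a : Set G)) :
    ∃ u : G, u * u = 1 ∧ u * (t * s * t) * u = s' ∧ u • a = t • a ∧
      ∀ d : G, d * s' = s' * d → d * (t * s * t) = (t * s * t) * d → d * u = u * d := by
  obtain ⟨hsa, hs1, hss⟩ := hs
  obtain ⟨hs'a, hs'1, hs's⟩ := hs'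
  have hs'a : s' ∈ stabilizer G a := hs'a
  have hsa : s ∈ stabilizer G a := hsa
  have h1 := tst_not_mem hS hsa hs1 hss
  have h2 := tst_sq hS hss
  obtain ⟨n, hw1, hw2⟩ := conj_of_odd_pow hs's h2 (odd_orderOf_mul hS hs'a hs'1 hs's h1 h2)
  set w := (s' * (t * s * t)) ^ n with hw
  have huu : (s' * w) * (s' * w) = 1 := by
    calc (s' * w) * (s' * w) = (s' * w * s') * w := by group
      _ = 1 := by rw [hw2]; group
  have hconj : (s' * w) * (t * s * t) * (s' * w) = s' := by
    rw [← hw1]
    have hws : w * s' * w = s' := by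
      calc w * s' * w = (s' * s') * w * s' * w := by rw [hs's, one_mul]
        _ = s' * (s' * w * s') * w := by group
        _ = s' := by rw [hw2]; group
    calc s' * w * (w⁻¹ * s' * w) * (s' * w) = s' * s' * (w * s' * w) := by group
      _ = s' := by rw [hws, hs's, one_mul]
  refine ⟨s' * w, huu, hconj, ?_, ?_⟩
  · -- u maps the fixed point t a of t s t to the fixed point a of s'
    have hfix : (t * s * t) • (t • a) = t • a := by
      rw [mul_smul, mul_smul, t_smul_t_smul hS]
      have : s • a = a := hsa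
      rw [this]
    have h3 : s' • ((s' * w) • t • a) = (s' * w) • t • a := by
      nth_rewrite 1 [← hconj]
      rw [mul_smul, mul_smul, smul_smul (s' * w) (s' * w), huu, one_smul, hfix]
    have h4 : (s' * w) • t • a = a := invol_fixed hS hs'a hs'1 hs's h3
    have h5 : (s' * w) • ((s' * w) • t • a) = (s' * w) • a := by rw [h4]
    rw [smul_smul, huu, one_smul] at h5
    exact h5.symm
  · intro d hd1 hd2
    have hc1 : Commute d s' := hd1
    have hc2 : Commute d (t * s * t) := hd2
    have hc3 : Commute d w := (hc1.mul_right hc2).pow_right n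
    exact hc1.mul_right hc3

/-- Uniqueness of the key involution among involutions swapping `a` and `t a`. -/
lemma u0_unique (hS : Cfsg.IsRankOneSetup G Ω a t Q) {s s' : G}
    (hs : s ∈ Cfsg.involutionsIn (stabilizer G a : Set G))
    (hs' : s' ∈ Cfsg.involutionsIn (stabilizer G a : Set G)) {u u' : G}
    (hu : u * u = 1) (hus : u * (t * s * t) * u = s') (hua : u • a = t • a)
    (hu' : u' * u' = 1) (hus' : u' * (t * s * t) * u' = s') (hua' : u' • a = t • a) :
    u = u' := by
  -- compare both with u₀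
  have key : ∀ v : G, v * v = 1 → v * (t * s * t) * v = s' → v • a = t • a →
      ∀ u0 : G, u0 * u0 = 1 → u0 * (t * s * t) * u0 = s' → u0 • a = t • a →
      (∀ d : G, d * s' = s' * d → d * (t * s * t) = (t * s * t) * d → d * u0 = u0 * d) →
      v = u0 := by
    intro v hv hvs hva u0 h0 h0s h0a hcomm
    have hvb : v • t • a = a := by rw [← hva, smul_smul, hv, one_smul]
    have h0b : u0 • t • a = a := by rw [← h0a, smul_smul, h0, one_smul]
    have hs1' : t * s * t = v * s' * v := by
      rw [← hvs]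
      calc t * s * t = (v * v) * (t * s * t) * (v * v) := by rw [hv]; group
        _ = _ := by group
    have hs1'' : t * s * t = u0 * s' * u0 := by
      rw [← h0s]
      calc t * s * t = (u0 * u0) * (t * s * t) * (u0 * u0) := by rw [h0]; group
        _ = _ := by group
    have hvi : v⁻¹ = v := inv_eq_iff_mul_eq_one.2 hv
    have h0i : u0⁻¹ = u0 := inv_eq_iff_mul_eq_one.2 h0
    -- d = v u0 ∈ D
    have hdD : v * u0 ∈ DD G a t := by
      refine ⟨?_, ?_⟩
      · show (v * u0) • a = a
        rw [mul_smul, h0a, hvb]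
      · show (v * u0) • t • a = t • a
        rw [mul_smul, h0b, hva]
    have hd1 : (v * u0) * s' = s' * (v * u0) := by
      -- d s' d⁻¹ = v u0 s' u0 v = v s₁ v = s'
      have : (v * u0) * s' * (v * u0)⁻¹ = s' := by
        rw [mul_inv_rev, hvi, h0i]
        calc v * u0 * s' * (u0 * v) = v * (u0 * s' * u0) * v := by group
          _ = s' := by rw [← hs1'', hvs]
      calc (v * u0) * s' = (v * u0) * s' * (v * u0)⁻¹ * (v * u0) := by group
        _ = s' * (v * u0) := by rw [this]
    have hd2 : (v * u0) * (t * s * t) = (t * s * t) * (v * u0) := by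
      have : (v * u0) * (t * s * t) * (v * u0)⁻¹ = t * s * t := by
        rw [mul_inv_rev, hvi, h0i]
        calc v * u0 * (t * s * t) * (u0 * v) = v * (u0 * (t * s * t) * u0) * v := by group
          _ = t * s * t := by rw [h0s, ← hs1']
      calc (v * u0) * (t * s * t) = (v * u0) * (t * s * t) * (v * u0)⁻¹ * (v * u0) := by group
        _ = (t * s * t) * (v * u0) := by rw [this]
    have hd3 := hcomm _ hd1 hd2
    -- v = d u0, v v = d d
    have hdd : (v * u0) * (v * u0) = 1 := by
      calc (v * u0) * (v * u0) = v * (u0 * (v * u0)) := by group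
        _ = v * ((v * u0) * u0) := by rw [hd3]
        _ = (v * v) * (u0 * u0) := by group
        _ = 1 := by rw [hv, h0, one_mul]
    have := D_sq_eq_one hS hdD hdd
    calc v = (v * u0) * u0⁻¹ := by group
      _ = u0 := by rw [this, h0i, one_mul]
  obtain ⟨u0, h0, h0s, h0a, hcomm⟩ := exists_u0 hS hs hs'
  rw [key u hu hus hua u0 h0 h0s h0a hcomm, key u' hu' hus' hua' u0 h0 h0s h0a hcomm]

/-- `u (t s t) u` in terms of `k = t u`. -/
lemma conj_K_eq (hS : Cfsg.IsRankOneSetup G Ω a t Q) {k : G} (hk : k ∈ KK G a t) (s : G) :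
    (t * k) * (t * s * t) * (t * k) = k⁻¹ * s * k := by
  nth_rewrite 1 [tk_eq hk]
  calc k⁻¹ * t * (t * s * t) * (t * k) = k⁻¹ * (t * t) * s * (t * t) * k := by group
    _ = k⁻¹ * s * k := by rw [hS.mul_self]; group

/-- `K` acts transitively on the involutions of `G_a`. -/
lemma exists_K_conj (hS : Cfsg.IsRankOneSetup G Ω a t Q) {s s' : G}
    (hs : s ∈ Cfsg.involutionsIn (stabilizer G a : Set G))
    (hs' : s' ∈ Cfsg.involutionsIn (stabilizer G a : Set G)) :
    ∃ k ∈ KK G a t, k⁻¹ * s * k = s' := by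
  obtain ⟨u0, h0, h0s, h0a, -⟩ := exists_u0 hS hs hs'
  have hk := mem_K_of_swap hS h0 h0a
  refine ⟨t * u0, hk, ?_⟩
  rw [← conj_K_eq hS hk]
  have : t * (t * u0) = u0 := by
    rw [← mul_assoc, hS.mul_self, one_mul]
  rw [this, h0s]

/-- `K` acts freely. -/
lemma K_conj_inj (hS : Cfsg.IsRankOneSetup G Ω a t Q) {s : G}
    (hs : s ∈ Cfsg.involutionsIn (stabilizer G a : Set G)) {k k' : G}
    (hk : k ∈ KK G a t) (hk' : k' ∈ KK G a t) (h : k⁻¹ * s * k = k'⁻¹ * s * k') : k = k' := by
  have hs' : k⁻¹ * s * k ∈ Cfsg.involutionsIn (stabilizer G a : Set G) := by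
    obtain ⟨hsa, hs1, hss⟩ := hs
    refine ⟨?_, ?_, ?_⟩
    · exact (stabilizer G a).mul_mem ((stabilizer G a).mul_mem
        ((stabilizer G a).inv_mem hk.1.1) hsa) hk.1.1
    · intro h0
      apply hs1
      have : s = k * (k⁻¹ * s * k) * k⁻¹ := by group
      rw [this, h0]; group
    · calc k⁻¹ * s * k * (k⁻¹ * s * k) = k⁻¹ * (s * s) * k := by group
        _ = 1 := by rw [hss]; group
  have := u0_unique hS hs hs' (K_invol hS hk) (conj_K_eq hS hk s) (tk_smul_a hS hk)
    (K_invol hS hk') ((conj_K_eq hS hk' s).trans h.symm) (tk_smul_a hS hk')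
  exact mul_left_cancel this

end finite

end Cfsg.Agent.H9.RankOne
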