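import Mathlib
import Cfsg.Agent.H9.RedundantSylow

set_option autoImplicit false

/-! Redundant Sylow subgroups pass through central quotients. -/

namespace Cfsg.Agent.H9.RedundantQuot

open Cfsg.Agent.H9.RedundantSylow

variable {G G' : Type*} [Group G] [Finite G] [Group G'] (f : G →* G')

/-- a `p`-element whose image lies in the image of a Sylow `p`-subgroup lies in it,
for a central kernel -/
theorem mem_of_map_mem (hker : f.ker ≤ Subgroup.center G) {p : ℕ} [Fact p.Prime]
    (P : Sylow p G) (x : G) (k : ℕ) (hk : orderOf x = p ^ k)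
    (hx : f x ∈ (P : Subgroup G).map f) : x ∈ (P : Subgroup G) := by
  obtain ⟨y, hy, hfy⟩ := hx
  have hc : x * y⁻¹ ∈ Subgroup.center G := by
    apply hker
    rw [MonoidHom.mem_ker, map_mul, map_inv, hfy, mul_inv_cancel]
  obtain ⟨c, hcdef⟩ : ∃ c : G, c = x * y⁻¹ := ⟨_, rfl⟩
  rw [← hcdef] at hc
  have hxc : x = c * y := by rw [hcdef]; group
  have hcomm : ∀ g : G, g * c = c * g := fun g => Subgroup.mem_center_iff.1 hc g
  refine mem_of_normalizes_p P x ?_ k hk
  rw [Subgroup.mem_set_normalizer_iff]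
  intro m
  have e : x * m * x⁻¹ = y * m * y⁻¹ := by
    calc x * m * x⁻¹ = c * (y * m * y⁻¹) * c⁻¹ := by rw [hxc]; group
      _ = (y * m * y⁻¹) * c * c⁻¹ := by rw [← hcomm (y * m * y⁻¹)]
      _ = y * m * y⁻¹ := mul_inv_cancel_right _ _
  rw [e]
  constructor
  · intro hm
    exact Subgroup.mul_mem _ (Subgroup.mul_mem _ hy hm) (Subgroup.inv_mem _ hy)
  · intro hm
    have e2 : m = y⁻¹ * (y * m * y⁻¹) * y := by group
    rw [e2]
    exact Subgroup.mul_mem _ (Subgroup.mul_mem _ (Subgroup.inv_mem _ hy) hm) hy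

/-- the Sylow correspondence is injective for a central kernel -/
theorem mapSurjective_injective (hf : Function.Surjective f) (hker : f.ker ≤ Subgroup.center G)
    {p : ℕ} [Fact p.Prime] (P P' : Sylow p G)
    (h : P.mapSurjective hf = P'.mapSurjective hf) : P = P' := by
  have h' : (P : Subgroup G).map f = (P' : Subgroup G).map f := by
    have := congrArg (fun S : Sylow p G' => (S : Subgroup G')) h
    simpa using this
  have hle : (P : Subgroup G) ≤ (P' : Subgroup G) := by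
    intro x hx
    obtain ⟨k, hk⟩ := (IsPGroup.iff_orderOf.1 P.2) ⟨x, hx⟩
    rw [← Subgroup.orderOf_coe] at hk
    refine mem_of_map_mem f hker P' x k hk ?_
    rw [← h']
    exact Subgroup.mem_map_of_mem f hx
  apply Sylow.ext
  apply Subgroup.eq_of_le_of_card_ge hle
  rw [Sylow.card_eq_multiplicity, Sylow.card_eq_multiplicity]

/-- redundancy of Sylow `p`-subgroups passes through central quotients -/
theorem redundant_iff (hf : Function.Surjective f) (hker : f.ker ≤ Subgroup.center G)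
    (p : ℕ) [Fact p.Prime] :
    (∃ Q : Sylow p G, ∀ x : G, (∃ k : ℕ, orderOf x = p ^ k) → ∃ P : Sylow p G, P ≠ Q ∧ x ∈ P) ↔
      (∃ Q : Sylow p G', ∀ x : G', (∃ k : ℕ, orderOf x = p ^ k) →
        ∃ P : Sylow p G', P ≠ Q ∧ x ∈ P) := by
  haveI : Finite G' := Finite.of_surjective f hf
  constructor
  · rintro ⟨Q, hQ⟩
    refine ⟨Q.mapSurjective hf, ?_⟩
    rintro x' ⟨k, hk⟩
    have hp : IsPGroup p (Subgroup.zpowers x') := by
      apply IsPGroup.of_card (n := k)
      rw [Nat.card_zpowers, hk]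
    obtain ⟨P0', hP0'⟩ := hp.exists_le_sylow
    obtain ⟨P0, rfl⟩ := Sylow.mapSurjective_surjective hf p P0'
    have hx' : x' ∈ (P0 : Subgroup G).map f := hP0' (Subgroup.mem_zpowers x')
    obtain ⟨x, hxP0, rfl⟩ := hx'
    obtain ⟨j, hj⟩ := (IsPGroup.iff_orderOf.1 P0.2) ⟨x, hxP0⟩
    rw [← Subgroup.orderOf_coe] at hj
    obtain ⟨P, hPQ, hxP⟩ := hQ x ⟨j, hj⟩
    refine ⟨P.mapSurjective hf, ?_, ?_⟩
    · intro h'
      exact hPQ (mapSurjective_injective f hf hker P Q h')
    · exact Subgroup.mem_map_of_mem f hxP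
  · rintro ⟨Q', hQ'⟩
    obtain ⟨Q, rfl⟩ := Sylow.mapSurjective_surjective hf p Q'
    refine ⟨Q, ?_⟩
    rintro x ⟨k, hk⟩
    have hfx : ∃ j : ℕ, orderOf (f x) = p ^ j := by
      have hpow : (f x) ^ p ^ k = 1 := by
        rw [← map_pow, ← hk, pow_orderOf_eq_one, map_one]
      have hdvd := orderOf_dvd_of_pow_eq_one hpow
      obtain ⟨j, -, hj⟩ := (Nat.dvd_prime_pow Fact.out).1 hdvd
      exact ⟨j, hj⟩
    obtain ⟨P', hPQ, hxP⟩ := hQ' (f x) hfx
    obtain ⟨P, rfl⟩ := Sylow.mapSurjective_surjective hf p P'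
    refine ⟨P, ?_, ?_⟩
    · intro h'
      apply hPQ
      rw [h']
    · exact mem_of_map_mem f hker P x k hk hxP

end Cfsg.Agent.H9.RedundantQuot
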