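import Mathlib
import Cfsg.Agent.S5357
import Cfsg.Agent.H9.OReflF3

set_option autoImplicit false
set_option linter.unusedSectionVars false

/-!
Reflections of one norm class over `𝔽₃`: separation of reflections by commuting partners and
common perpendiculars.
-/

namespace Cfsg.Agent.H9.ReflPrim

open Matrix QuadraticMap Cfsg Cfsg.Agent.Lib.Helper8.Reflection Cfsg.Agent.S5357

variable {n : ℕ} (Q : QuadraticForm (ZMod 3) (Fin n → ZMod 3)) (c : ZMod 3) (hc : c ≠ 0)

lemma ρ_apply (v : Fin n → ZMod 3) (hv : Q v = c) (x : Fin n → ZMod 3) :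
    (((ρ Q c hc v hv : ↥(reflectionSubgroup (⇑Q) c)) : isometryGroup (ZMod 3) (⇑Q)) :
      GL (Fin n) (ZMod 3)).1 *ᵥ x = x - (c⁻¹ * polar (⇑Q) v x) • v := by
  have h := refl_apply Q v (hv ▸ hc) x
  have e : x - ((Q v)⁻¹ * polar (⇑Q) v x) • v = x - (c⁻¹ * polar (⇑Q) v x) • v := by rw [hv]
  exact h.trans e

lemma ρ_commute_of_orth (u v : Fin n → ZMod 3) (hu : Q u = c) (hv : Q v = c)
    (huv : polar (⇑Q) u v = 0) : Commute (ρ Q c hc u hu) (ρ Q c hc v hv) := by
  have h1 : ρ Q c hc u hu * ρ Q c hc v hv * ρ Q c hc u hu = ρ Q c hc v hv :=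
    Subtype.ext (refl_comm_of_orth Q u v (hu ▸ hc) (hv ▸ hc) huv)
  have h2 := ρ_mul_self Q c hc u hu
  show ρ Q c hc u hu * ρ Q c hc v hv = ρ Q c hc v hv * ρ Q c hc u hu
  calc ρ Q c hc u hu * ρ Q c hc v hv
      = ρ Q c hc u hu * ρ Q c hc v hv * (ρ Q c hc u hu * ρ Q c hc u hu) := by rw [h2, mul_one]
    _ = (ρ Q c hc u hu * ρ Q c hc v hv * ρ Q c hc u hu) * ρ Q c hc u hu := by group
    _ = ρ Q c hc v hv * ρ Q c hc u hu := by rw [h1]

lemma ρ_not_commute (u v : Fin n → ZMod 3) (hu : Q u = c) (hv : Q v = c)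
    (huv : polar (⇑Q) u v ≠ 0) (hne : ρ Q c hc u hu ≠ ρ Q c hc v hv) :
    ¬ Commute (ρ Q c hc u hu) (ρ Q c hc v hv) := by
  intro hcomm
  have h1 : ρ Q c hc u hu * ρ Q c hc v hv * ρ Q c hc u hu =
      ρ Q c hc v hv * ρ Q c hc u hu * ρ Q c hc v hv :=
    Subtype.ext (refl_braid Q c hc u v hu hv huv)
  have h2 := ρ_mul_self Q c hc u hu
  have h3 := ρ_mul_self Q c hc v hv
  apply hne
  have h4 : ρ Q c hc u hu * ρ Q c hc v hv * ρ Q c hc u hu = ρ Q c hc v hv := by
    rw [hcomm.eq, mul_assoc, h2, mul_one]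
  rw [h4, ← hcomm.eq, mul_assoc, h3, mul_one] at h1
  exact h1.symm

lemma ρ_ne_of_apply (u v x : Fin n → ZMod 3) (hu : Q u = c) (hv : Q v = c)
    (h : x - (c⁻¹ * polar (⇑Q) u x) • u ≠ x - (c⁻¹ * polar (⇑Q) v x) • v) :
    ρ Q c hc u hu ≠ ρ Q c hc v hv := by
  intro he
  apply h
  rw [← ρ_apply Q c hc u hu x, ← ρ_apply Q c hc v hv x, he]

include hc in
lemma ne_zero_of_norm (v : Fin n → ZMod 3) (hv : Q v = c) : v ≠ 0 := by
  rintro rfl
  rw [QuadraticMap.map_zero] at hv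
  exact hc hv.symm

lemma ρ_ne_of_orth (u v : Fin n → ZMod 3) (hu : Q u = c) (hv : Q v = c)
    (huv : polar (⇑Q) u v = 0) : ρ Q c hc u hu ≠ ρ Q c hc v hv := by
  apply ρ_ne_of_apply Q c hc u v u hu hv
  rw [polar_comm (⇑Q) v u, huv, mul_zero, zero_smul, sub_zero, polar_self, hu]
  intro h
  have h1 : (c⁻¹ * (2 • c)) • u = 0 := sub_eq_self.mp h
  have h4 : c⁻¹ * (2 • c) = 2 := by
    rw [nsmul_eq_mul, Nat.cast_ofNat]; field_simp
  rw [h4] at h1
  rcases smul_eq_zero.mp h1 with h | h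
  · exact absurd h (by decide)
  · exact ne_zero_of_norm Q c hc u hu h

lemma z3_three' : (3 : ZMod 3) = 0 := by decide

include hc in
/-- two different reflections of norm `c` are separated by a third commuting with exactly one -/
theorem exists_sep_vec (hn : 5 ≤ n) (hQ : (polarBilin Q).Nondegenerate)
    (u v : Fin n → ZMod 3) (hu : Q u = c) (hv : Q v = c)
    (hne : ρ Q c hc u hu ≠ ρ Q c hc v hv) :
    ∃ (w : Fin n → ZMod 3) (hw : Q w = c), polar (⇑Q) u w = 0 ∧ polar (⇑Q) v w ≠ 0 ∧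
      ρ Q c hc v hv ≠ ρ Q c hc w hw := by
  have h2c : (2 : ℕ) • c ≠ 0 := by
    rw [nsmul_eq_mul, Nat.cast_ofNat]
    exact mul_ne_zero (by decide) hc
  by_cases huv : polar (⇑Q) u v = 0
  · have hvu : polar (⇑Q) v u = 0 := by rw [polar_comm]; exact huv
    have horth : ∀ i j : Fin 2, i ≠ j → polar (⇑Q) (![u, v] i) (![u, v] j) = 0 := by
      intro i j hij
      fin_cases i <;> fin_cases j
      · exact absurd rfl hij
      · exact huv
      · exact hvu
      · exact absurd rfl hij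
    have hs : ∀ i : Fin 2, Q (![u, v] i) ≠ 0 := by
      intro i
      fin_cases i
      · show Q u ≠ 0
        rw [hu]; exact hc
      · show Q v ≠ 0
        rw [hv]; exact hc
    obtain ⟨z₁, hz₁, hz₁o⟩ := exists_norm Q hQ 1 one_ne_zero 2 (by omega) ![u, v] horth hs
    have hz₁u : polar (⇑Q) u z₁ = 0 := hz₁o 0
    have hz₁v : polar (⇑Q) v z₁ = 0 := hz₁o 1
    have horth3 : ∀ i j : Fin 3, i ≠ j → polar (⇑Q) (![u, v, z₁] i) (![u, v, z₁] j) = 0 := by
      intro i j hij
      fin_cases i <;> fin_cases j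
      · exact absurd rfl hij
      · exact huv
      · exact hz₁u
      · exact hvu
      · exact absurd rfl hij
      · exact hz₁v
      · show polar (⇑Q) z₁ u = 0
        rw [polar_comm]; exact hz₁u
      · show polar (⇑Q) z₁ v = 0
        rw [polar_comm]; exact hz₁v
      · exact absurd rfl hij
    have hs3 : ∀ i : Fin 3, Q (![u, v, z₁] i) ≠ 0 := by
      intro i
      fin_cases i
      · show Q u ≠ 0
        rw [hu]; exact hc
      · show Q v ≠ 0
        rw [hv]; exact hc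
      · show Q z₁ ≠ 0
        rw [hz₁]; exact one_ne_zero
    obtain ⟨z₂, hz₂, hz₂o⟩ :=
      exists_norm Q hQ (-1) (by decide) 3 (by omega) ![u, v, z₁] horth3 hs3
    have hz₂u : polar (⇑Q) u z₂ = 0 := hz₂o 0
    have hz₂v : polar (⇑Q) v z₂ = 0 := hz₂o 1
    have hz₂z : polar (⇑Q) z₁ z₂ = 0 := hz₂o 2
    have hw : Q (v + z₁ + z₂) = c := by
      rw [QuadraticMap.map_add (⇑Q) (v + z₁) z₂, QuadraticMap.map_add (⇑Q) v z₁, hv, hz₁, hz₂,
        hz₁v, polar_add_left, hz₂v, hz₂z]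
      ring
    refine ⟨v + z₁ + z₂, hw, ?_, ?_, ?_⟩
    · rw [polar_add_right, polar_add_right, huv, hz₁u, hz₂u, add_zero, add_zero]
    · rw [polar_add_right, polar_add_right, polar_self, hv, hz₁v, hz₂v, add_zero, add_zero]
      exact h2c
    · apply ρ_ne_of_apply Q c hc v (v + z₁ + z₂) z₁ hv hw
      have e1 : polar (⇑Q) (v + z₁ + z₂) z₁ = 2 := by
        rw [polar_add_left, polar_add_left, hz₁v, polar_self, hz₁, polar_comm (⇑Q) z₂ z₁, hz₂z]
        simp
      rw [hz₁v, mul_zero, zero_smul, sub_zero, e1]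
      intro h
      have h1 : (c⁻¹ * 2) • (v + z₁ + z₂) = 0 := (sub_eq_self.mp h.symm)
      rcases smul_eq_zero.mp h1 with h | h
      · rcases mul_eq_zero.mp h with h | h
        · exact hc (inv_eq_zero.mp h)
        · exact absurd h (by decide)
      · exact ne_zero_of_norm Q c hc _ hw h
  · -- the non-orthogonal case
    obtain ⟨ε, hεdef⟩ : ∃ ε : ZMod 3, ε = c⁻¹ * polar (⇑Q) u v := ⟨_, rfl⟩
    have hε : ε = 1 ∨ ε = -1 := by rw [hεdef]; exact eps_cases _ c huv hc
    have hε2 : ε * ε = 1 := by rcases hε with h | h <;> rw [h] <;> ring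
    have hε0 : ε ≠ 0 := by rcases hε with h | h <;> rw [h] <;> decide
    have hcε : c * ε = polar (⇑Q) u v := by rw [hεdef, ← mul_assoc, mul_inv_cancel₀ hc, one_mul]
    have hvu : polar (⇑Q) v u = polar (⇑Q) u v := polar_comm _ _ _
    have h3 := z3_three'
    have h1 : polar (⇑Q) u (v + ε • u) = 0 := by
      rw [polar_add_right, polar_smul_right, polar_self, hu, smul_eq_mul, nsmul_eq_mul,
        Nat.cast_ofNat]
      linear_combination (2 : ZMod 3) * hcε + polar (⇑Q) u v * h3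
    have h1' : polar (⇑Q) (v + ε • u) u = 0 := by rw [polar_comm]; exact h1
    have h2 : Q (v + ε • u) = 0 := by
      rw [QuadraticMap.map_add (⇑Q) v (ε • u), QuadraticMap.map_smul, hv, hu, polar_smul_right,
        hvu, smul_eq_mul, smul_eq_mul]
      linear_combination (-ε) * hcε + (2 * c) * hε2 + c * h3
    have h3' : v + ε • u ≠ 0 := by
      intro h
      apply hne
      have hv' : v = (-ε) • u := by
        rw [neg_smul]
        exact eq_neg_of_add_eq_zero_left h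
      apply Subtype.ext
      exact (refl_congr Q u v (hu ▸ hc) (hv ▸ hc) (-ε) (neg_ne_zero.mpr hε0) hv').symm
    obtain ⟨y, hy⟩ : ∃ y, polar (⇑Q) (v + ε • u) y ≠ 0 := by
      by_contra hcon
      push Not at hcon
      exact h3' (hQ.1 _ (fun y => hcon y))
    obtain ⟨t, htdef⟩ : ∃ t : ZMod 3, t = c⁻¹ * polar (⇑Q) u y := ⟨_, rfl⟩
    have hct : c * t = polar (⇑Q) u y := by rw [htdef, ← mul_assoc, mul_inv_cancel₀ hc, one_mul]
    have hy1 : polar (⇑Q) u (y + t • u) = 0 := by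
      rw [polar_add_right, polar_smul_right, polar_self, hu, smul_eq_mul, nsmul_eq_mul,
        Nat.cast_ofNat]
      linear_combination (2 : ZMod 3) * hct + polar (⇑Q) u y * h3
    have hy2 : polar (⇑Q) (v + ε • u) (y + t • u) ≠ 0 := by
      rw [polar_add_right, polar_smul_right, h1', smul_zero, add_zero]
      exact hy
    obtain ⟨p, hpdef⟩ : ∃ p : ZMod 3, p = polar (⇑Q) (v + ε • u) (y + t • u) := ⟨_, rfl⟩
    have hp0 : p ≠ 0 := by rw [hpdef]; exact hy2
    obtain ⟨s, hsdef⟩ : ∃ s : ZMod 3, s = (c - Q (y + t • u)) * p⁻¹ := ⟨_, rfl⟩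
    have hsp : s * p = c - Q (y + t • u) := by
      rw [hsdef, mul_assoc, inv_mul_cancel₀ hp0, mul_one]
    have hw : Q (y + t • u + s • (v + ε • u)) = c := by
      rw [QuadraticMap.map_add (⇑Q) (y + t • u) (s • (v + ε • u)), QuadraticMap.map_smul, h2,
        polar_smul_right, polar_comm (⇑Q) (y + t • u) (v + ε • u), ← hpdef, smul_eq_mul,
        smul_eq_mul]
      linear_combination hsp
    have hwu : polar (⇑Q) u (y + t • u + s • (v + ε • u)) = 0 := by
      rw [polar_add_right, polar_smul_right, hy1, h1, smul_zero, add_zero]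
    have hwv' : polar (⇑Q) (v + ε • u) (y + t • u + s • (v + ε • u)) = p := by
      rw [polar_add_right, polar_smul_right, polar_self, h2, ← hpdef]
      simp
    have hwv : polar (⇑Q) v (y + t • u + s • (v + ε • u)) = p := by
      rw [polar_add_left, polar_smul_left, hwu, smul_zero, add_zero] at hwv'
      exact hwv'
    refine ⟨y + t • u + s • (v + ε • u), hw, hwu, ?_, ?_⟩
    · rw [hwv]; exact hp0
    · apply ρ_ne_of_apply Q c hc v _ u hv hw
      rw [polar_comm (⇑Q) (y + t • u + s • (v + ε • u)) u, hwu, mul_zero, zero_smul, sub_zero]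
      intro h
      have h5 : (c⁻¹ * polar (⇑Q) v u) • v = 0 := sub_eq_self.mp h
      rw [hvu, ← hεdef] at h5
      rcases smul_eq_zero.mp h5 with h | h
      · exact hε0 h
      · exact ne_zero_of_norm Q c hc v hv h

include hc in
/-- in terms of the reflections themselves -/
theorem exists_sep (hn : 5 ≤ n) (hQ : (polarBilin Q).Nondegenerate)
    (u v : Fin n → ZMod 3) (hu : Q u = c) (hv : Q v = c)
    (hne : ρ Q c hc u hu ≠ ρ Q c hc v hv) :
    ∃ (w : Fin n → ZMod 3) (hw : Q w = c), Commute (ρ Q c hc u hu) (ρ Q c hc w hw) ∧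
      ¬ Commute (ρ Q c hc v hv) (ρ Q c hc w hw) ∧ ρ Q c hc w hw ≠ ρ Q c hc u hu := by
  obtain ⟨w, hw, h1, h2, h3⟩ := exists_sep_vec Q c hc hn hQ u v hu hv hne
  exact ⟨w, hw, ρ_commute_of_orth Q c hc u w hu hw h1, ρ_not_commute Q c hc v w hv hw h2 h3,
    (ρ_ne_of_orth Q c hc u w hu hw h1).symm⟩

include hc in
/-- two reflections of norm `c` have a common commuting partner different from both -/
theorem exists_common (hn : 5 ≤ n) (hQ : (polarBilin Q).Nondegenerate)
    (u v : Fin n → ZMod 3) (hu : Q u = c) (hv : Q v = c) :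
    ∃ (z : Fin n → ZMod 3) (hz : Q z = c), Commute (ρ Q c hc u hu) (ρ Q c hc z hz) ∧
      Commute (ρ Q c hc z hz) (ρ Q c hc v hv) ∧ ρ Q c hc u hu ≠ ρ Q c hc z hz ∧
      ρ Q c hc z hz ≠ ρ Q c hc v hv := by
  have hQ' := Cfsg.Agent.H9.Orth.isNondeg_of_quadraticForm Q hQ
  have hn' : 5 ≤ Fintype.card (Fin n) := by rw [Fintype.card_fin]; exact hn
  obtain ⟨z, hz, hzu, hzv⟩ :=
    Cfsg.Agent.H9.OReflF3.exists_perp_two hQ' hn' u v (hu ▸ hc) c
  have hzv' : polar (⇑Q) z v = 0 := by rw [polar_comm]; exact hzv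
  exact ⟨z, hz, ρ_commute_of_orth Q c hc u z hu hz hzu, ρ_commute_of_orth Q c hc z v hz hv hzv',
    ρ_ne_of_orth Q c hc u z hu hz hzu, ρ_ne_of_orth Q c hc z v hz hv hzv'⟩

end Cfsg.Agent.H9.ReflPrim
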