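import Mathlib
import Cfsg.Prelude.Def_Blocks
import Cfsg.Agent.Lib.helper3.ProjVanish1

/-!
# Piece E of Robinson's count of the blocks with a given normal defect group (helper9)

Pure linear algebra: the rank over `ZMod p` of the matrix of Robinson's numbers equals the number
of blocks, given the congruences modulo the local ideal delivered by the other pieces.

* `rank_map_field`: the rank of a square matrix is preserved by a homomorphism of fields.
* `rank_eq_card_abstract`: the statement over an arbitrary commutative ring with a maximal ideal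
  of residue characteristic `p`.
* `locIdeal_isMaximal`: the local ideal is a maximal ideal of the local ring.
* `rank_eq_card`: the statement for complex numbers and `MemLocalRing`, `MemLocalIdeal`.
-/

set_option autoImplicit false
set_option linter.style.haveILetI false
set_option linter.unusedSectionVars false
set_option linter.unusedVariables false

namespace Cfsg.Agent.H9.RobE

open Cfsg Matrix
open Cfsg.Agent.Lib.helper3.LocalM Cfsg.Agent.Lib.helper3.Block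

theorem rank_normal_form {L : Type*} [Field L] (r t : ℕ) :
    (fromBlocks (1 : Matrix (Fin r) (Fin r) L) 0 0 (0 : Matrix (Fin t) (Fin t) L)).rank = r := by
  classical
  rw [← diagonal_one, ← diagonal_zero, fromBlocks_diagonal, rank_diagonal]
  have : Fintype.card {i : Fin r ⊕ Fin t // Sum.elim (fun _ => (1 : L)) (fun _ => (0 : L)) i ≠ 0}
      = Fintype.card (Fin r) := by
    apply Fintype.card_congr
    refine ⟨fun i => ?_, fun i => ⟨Sum.inl i, by simp⟩, ?_, ?_⟩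
    · rcases i with ⟨i | i, hi⟩
      · exact i
      · exact absurd rfl hi
    · rintro ⟨i | i, hi⟩
      · rfl
      · exact absurd rfl hi
    · intro i
      rfl
  rw [this, Fintype.card_fin]

theorem rank_map_field {K L : Type*} [Field K] [Field L] (f : K →+* L) {m : Type*} [Fintype m]
    [DecidableEq m] (A : Matrix m m K) : (A.map f).rank = A.rank := by
  classical
  obtain ⟨V, U, e, hV, hU, h⟩ := Matrix.exists_rank_normal_form A
  have h2 : V.map f * A.map f * U.map f =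
      (fromBlocks (1 : Matrix (Fin A.rank) (Fin A.rank) L) 0 0
        (0 : Matrix (Fin (Fintype.card m - A.rank)) (Fin (Fintype.card m - A.rank)) L)).submatrix
        e e := by
    rw [← Matrix.map_mul, ← Matrix.map_mul, h]
    ext i j
    simp only [Matrix.map_apply, Matrix.submatrix_apply]
    rcases e i with a | a <;> rcases e j with b | b <;>
      simp [Matrix.fromBlocks, Matrix.one_apply, apply_ite f]
  have hV' : IsUnit (V.map f).det := by
    have := (Matrix.isUnit_iff_isUnit_det _).mp hV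
    have h3 : (V.map f).det = f V.det := by
      rw [RingHom.map_det, RingHom.mapMatrix_apply]
    rw [h3]
    exact this.map f
  have hU' : IsUnit (U.map f).det := by
    have := (Matrix.isUnit_iff_isUnit_det _).mp hU
    have h3 : (U.map f).det = f U.det := by
      rw [RingHom.map_det, RingHom.mapMatrix_apply]
    rw [h3]
    exact this.map f
  have h4 := congrArg Matrix.rank h2
  rw [rank_mul_eq_left_of_isUnit_det _ _ hU', rank_mul_eq_right_of_isUnit_det _ _ hV',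
    rank_submatrix, rank_normal_form] at h4
  exact h4

theorem rank_eq_card_abstract {𝒪 : Type*} [CommRing 𝒪] (𝔪 : Ideal 𝒪) [h𝔪 : 𝔪.IsMaximal]
    (p : ℕ) [hpp : Fact p.Prime] (hp : (p : 𝒪) ∈ 𝔪)
    {ι T Z : Type*} [Fintype ι] [Fintype T] [Fintype Z] [DecidableEq ι] [DecidableEq T]
    (W cnt : ι → ι → ℕ) (kk m : ι → ℕ) (c : Z → ℕ)
    (inB : Z → T → Prop) [∀ z B, Decidable (inB z B)]
    (Y Y' : Z → ι → 𝒪) (Lam Lam' A A' : T → ι → 𝒪)
    (hk : ∀ i, ¬ p ∣ kk i) (hm : ∀ i, ¬ p ∣ m i)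
    (hs : ∀ B, ¬ p ∣ ∑ z, if inB z B then c z ^ 2 else 0)
    (hW : ∀ i j, (W i j : ZMod p) = (kk i : ZMod p) * (cnt i j : ZMod p))
    (hcnt : ∀ i j, (m j : 𝒪) * (cnt i j : 𝒪) - ∑ z, Y z i * Y' z j ∈ 𝔪)
    (huniq : ∀ z B B', inB z B → inB z B' → B = B')
    (hY : ∀ z B i, inB z B → (kk i : 𝒪) * Y z i - (c z : 𝒪) * Lam B i ∈ 𝔪)
    (hY0 : ∀ z i, (∀ B, ¬ inB z B) → Y z i ∈ 𝔪)
    (hY' : ∀ z B i, inB z B → (kk i : 𝒪) * Y' z i - (c z : 𝒪) * Lam' B i ∈ 𝔪)
    (hY0' : ∀ z i, (∀ B, ¬ inB z B) → Y' z i ∈ 𝔪)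
    (hA : ∀ B B', ∑ i, A B i * Lam B' i - (if B = B' then 1 else 0) ∈ 𝔪)
    (hA' : ∀ B B', ∑ i, A' B i * Lam' B' i - (if B = B' then 1 else 0) ∈ 𝔪) :
    (Matrix.of fun i j => (W i j : ZMod p)).rank = Fintype.card T := by
  classical
  letI : Field (𝒪 ⧸ 𝔪) := Ideal.Quotient.field 𝔪
  obtain ⟨π, hπ⟩ : ∃ π : 𝒪 →+* 𝒪 ⧸ 𝔪, π = Ideal.Quotient.mk 𝔪 := ⟨_, rfl⟩
  have hπ0 : ∀ a, π a = 0 ↔ a ∈ 𝔪 := by
    intro a
    rw [hπ]
    exact Ideal.Quotient.eq_zero_iff_mem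
  have hpk : ((p : ℕ) : 𝒪 ⧸ 𝔪) = 0 := by
    rw [← map_natCast π, hπ0]
    exact hp
  haveI : CharP (𝒪 ⧸ 𝔪) p := (CharP.charP_iff_prime_eq_zero hpp.out).mpr hpk
  obtain ⟨f, hf⟩ : ∃ f : ZMod p →+* 𝒪 ⧸ 𝔪, f = ZMod.castHom (dvd_refl p) _ := ⟨_, rfl⟩
  have hne : ∀ n : ℕ, ¬ p ∣ n → ((n : ℕ) : 𝒪 ⧸ 𝔪) ≠ 0 := by
    intro n hn h
    exact hn ((CharP.cast_eq_zero_iff _ p n).mp h)
  -- residues
  obtain ⟨y, hy⟩ : ∃ y : Z → ι → 𝒪 ⧸ 𝔪, y = fun z i => π (Y z i) := ⟨_, rfl⟩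
  obtain ⟨y', hy'⟩ : ∃ y' : Z → ι → 𝒪 ⧸ 𝔪, y' = fun z i => π (Y' z i) := ⟨_, rfl⟩
  obtain ⟨lam, hlam⟩ : ∃ lam : T → ι → 𝒪 ⧸ 𝔪, lam = fun B i => π (Lam B i) := ⟨_, rfl⟩
  obtain ⟨lam', hlam'⟩ : ∃ lam' : T → ι → 𝒪 ⧸ 𝔪, lam' = fun B i => π (Lam' B i) := ⟨_, rfl⟩
  obtain ⟨a, ha⟩ : ∃ a : T → ι → 𝒪 ⧸ 𝔪, a = fun B i => π (A B i) := ⟨_, rfl⟩
  obtain ⟨a', ha'⟩ : ∃ a' : T → ι → 𝒪 ⧸ 𝔪, a' = fun B i => π (A' B i) := ⟨_, rfl⟩
  obtain ⟨sk, hsk⟩ : ∃ sk : T → 𝒪 ⧸ 𝔪,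
      sk = fun B => ∑ z, if inB z B then ((c z : ℕ) : 𝒪 ⧸ 𝔪) ^ 2 else 0 := ⟨_, rfl⟩
  have hsk0 : ∀ B, sk B ≠ 0 := by
    intro B
    have h1 : sk B = ((∑ z, if inB z B then c z ^ 2 else 0 : ℕ) : 𝒪 ⧸ 𝔪) := by
      rw [hsk]
      simp only
      rw [Nat.cast_sum]
      apply Finset.sum_congr rfl
      intro z _
      split_ifs
      · rw [Nat.cast_pow]
      · rw [Nat.cast_zero]
    rw [h1]
    exact hne _ (hs B)
  have hkk0 : ∀ i, ((kk i : ℕ) : 𝒪 ⧸ 𝔪) ≠ 0 := fun i => hne _ (hk i)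
  have hm0 : ∀ i, ((m i : ℕ) : 𝒪 ⧸ 𝔪) ≠ 0 := fun i => hne _ (hm i)
  have hWk : ∀ i j, ((W i j : ℕ) : 𝒪 ⧸ 𝔪) = (kk i : 𝒪 ⧸ 𝔪) * (cnt i j : 𝒪 ⧸ 𝔪) := by
    intro i j
    have := congrArg f (hW i j)
    rwa [map_mul, map_natCast, map_natCast, map_natCast] at this
  have hcntk : ∀ i j, (m j : 𝒪 ⧸ 𝔪) * (cnt i j : 𝒪 ⧸ 𝔪) = ∑ z, y z i * y' z j := by
    intro i j
    have := (hπ0 _).mpr (hcnt i j)
    rw [map_sub, sub_eq_zero, map_mul, map_natCast, map_natCast, map_sum] at this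
    rw [this, hy, hy']
    apply Finset.sum_congr rfl
    intro z _
    rw [map_mul]
  have hyk : ∀ z B i, inB z B → y z i = (kk i : 𝒪 ⧸ 𝔪)⁻¹ * (c z : 𝒪 ⧸ 𝔪) * lam B i := by
    intro z B i hzB
    have := (hπ0 _).mpr (hY z B i hzB)
    rw [map_sub, sub_eq_zero, map_mul, map_mul, map_natCast, map_natCast] at this
    rw [hy, hlam]
    simp only
    rw [mul_assoc, ← this, ← mul_assoc, inv_mul_cancel₀ (hkk0 i), one_mul]
  have hyk' : ∀ z B i, inB z B → y' z i = (kk i : 𝒪 ⧸ 𝔪)⁻¹ * (c z : 𝒪 ⧸ 𝔪) * lam' B i := by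
    intro z B i hzB
    have := (hπ0 _).mpr (hY' z B i hzB)
    rw [map_sub, sub_eq_zero, map_mul, map_mul, map_natCast, map_natCast] at this
    rw [hy', hlam']
    simp only
    rw [mul_assoc, ← this, ← mul_assoc, inv_mul_cancel₀ (hkk0 i), one_mul]
  have hy0 : ∀ z i, (∀ B, ¬ inB z B) → y z i = 0 := by
    intro z i hz
    rw [hy]
    exact (hπ0 _).mpr (hY0 z i hz)
  have hy0' : ∀ z i, (∀ B, ¬ inB z B) → y' z i = 0 := by
    intro z i hz
    rw [hy']
    exact (hπ0 _).mpr (hY0' z i hz)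
  have hak : ∀ B B', ∑ i, a B i * lam B' i = if B = B' then 1 else 0 := by
    intro B B'
    have := (hπ0 _).mpr (hA B B')
    rw [map_sub, sub_eq_zero, map_sum] at this
    rw [ha, hlam]
    simp only
    have h2 : ∑ i, π (A B i) * π (Lam B' i) = ∑ i, π (A B i * Lam B' i) := by
      apply Finset.sum_congr rfl
      intro i _
      rw [map_mul]
    rw [h2, this]
    split_ifs
    · exact map_one π
    · exact map_zero π
  have hak' : ∀ B B', ∑ i, a' B i * lam' B' i = if B = B' then 1 else 0 := by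
    intro B B'
    have := (hπ0 _).mpr (hA' B B')
    rw [map_sub, sub_eq_zero, map_sum] at this
    rw [ha', hlam']
    simp only
    have h2 : ∑ i, π (A' B i) * π (Lam' B' i) = ∑ i, π (A' B i * Lam' B' i) := by
      apply Finset.sum_congr rfl
      intro i _
      rw [map_mul]
    rw [h2, this]
    split_ifs
    · exact map_one π
    · exact map_zero π
  -- the key sum
  have hsum : ∀ i j, ∑ z, y z i * y' z j =
      (kk i : 𝒪 ⧸ 𝔪)⁻¹ * (kk j : 𝒪 ⧸ 𝔪)⁻¹ * ∑ B, sk B * lam B i * lam' B j := by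
    intro i j
    have h1 : ∀ z, y z i * y' z j = ∑ B, if inB z B then
        (kk i : 𝒪 ⧸ 𝔪)⁻¹ * (kk j : 𝒪 ⧸ 𝔪)⁻¹ * ((c z : 𝒪 ⧸ 𝔪) ^ 2 * lam B i * lam' B j) else 0 := by
      intro z
      by_cases hz : ∃ B, inB z B
      · obtain ⟨B0, hB0⟩ := hz
        rw [Finset.sum_eq_single B0]
        · rw [if_pos hB0, hyk z B0 i hB0, hyk' z B0 j hB0]
          ring
        · intro B _ hB
          rw [if_neg]
          intro hzB
          exact hB (huniq z B B0 hzB hB0)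
        · intro h
          exact absurd (Finset.mem_univ _) h
      · have hz' : ∀ B, ¬ inB z B := fun B hB => hz ⟨B, hB⟩
        rw [hy0 z i hz', zero_mul]
        symm
        apply Finset.sum_eq_zero
        intro B _
        rw [if_neg (hz' B)]
    rw [Finset.sum_congr rfl (fun z _ => h1 z), Finset.sum_comm, Finset.mul_sum]
    apply Finset.sum_congr rfl
    intro B _
    rw [hsk]
    simp only
    rw [Finset.sum_mul, Finset.sum_mul, Finset.mul_sum]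
    apply Finset.sum_congr rfl
    intro z _
    split_ifs
    · ring
    · ring
  -- the matrix over the residue field
  obtain ⟨Wk, hWkdef⟩ : ∃ Wk : Matrix ι ι (𝒪 ⧸ 𝔪), Wk = Matrix.of fun i j => ((W i j : ℕ) : 𝒪 ⧸ 𝔪) :=
    ⟨_, rfl⟩
  have hmap : (Matrix.of fun i j => ((W i j : ℕ) : ZMod p)).map f = Wk := by
    rw [hWkdef]
    ext i j
    simp only [Matrix.map_apply, Matrix.of_apply, map_natCast]
  rw [← rank_map_field f, hmap]
  have hentry : ∀ i j, Wk i j =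
      ∑ B, lam B i * (sk B * lam' B j * (m j : 𝒪 ⧸ 𝔪)⁻¹ * (kk j : 𝒪 ⧸ 𝔪)⁻¹) := by
    intro i j
    rw [hWkdef, Matrix.of_apply, hWk]
    have h1 : (cnt i j : 𝒪 ⧸ 𝔪) = (m j : 𝒪 ⧸ 𝔪)⁻¹ * ∑ z, y z i * y' z j := by
      rw [← hcntk, ← mul_assoc, inv_mul_cancel₀ (hm0 j), one_mul]
    rw [h1, hsum, Finset.mul_sum, Finset.mul_sum, Finset.mul_sum]
    apply Finset.sum_congr rfl
    intro B _
    have := hkk0 i
    field_simp
  obtain ⟨P, hP⟩ : ∃ P : Matrix ι T (𝒪 ⧸ 𝔪), P = Matrix.of fun i B => lam B i := ⟨_, rfl⟩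
  obtain ⟨Q, hQ⟩ : ∃ Q : Matrix T ι (𝒪 ⧸ 𝔪), Q = Matrix.of fun B j =>
      sk B * lam' B j * (m j : 𝒪 ⧸ 𝔪)⁻¹ * (kk j : 𝒪 ⧸ 𝔪)⁻¹ := ⟨_, rfl⟩
  have hPQ : Wk = P * Q := by
    ext i j
    rw [hentry, Matrix.mul_apply, hP, hQ]
    rfl
  apply le_antisymm
  · rw [hPQ]
    exact (Matrix.rank_mul_le_left P Q).trans (Matrix.rank_le_card_width P)
  · obtain ⟨Lm, hLm⟩ : ∃ Lm : Matrix T ι (𝒪 ⧸ 𝔪), Lm = Matrix.of fun B i => a B i := ⟨_, rfl⟩
    obtain ⟨Rm, hRm⟩ : ∃ Rm : Matrix ι T (𝒪 ⧸ 𝔪), Rm = Matrix.of fun j B' =>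
        (m j : 𝒪 ⧸ 𝔪) * (kk j : 𝒪 ⧸ 𝔪) * a' B' j := ⟨_, rfl⟩
    have hLP : Lm * P = 1 := by
      ext B B'
      rw [Matrix.mul_apply, hLm, hP, Matrix.one_apply]
      exact hak B B'
    have hQR : Q * Rm = Matrix.diagonal sk := by
      ext B B'
      rw [Matrix.mul_apply, hQ, hRm, Matrix.diagonal_apply]
      simp only [Matrix.of_apply]
      have h1 : ∀ j, sk B * lam' B j * (m j : 𝒪 ⧸ 𝔪)⁻¹ * (kk j : 𝒪 ⧸ 𝔪)⁻¹ *
          ((m j : 𝒪 ⧸ 𝔪) * (kk j : 𝒪 ⧸ 𝔪) * a' B' j) = sk B * (a' B' j * lam' B j) := by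
        intro j
        have := hm0 j
        have := hkk0 j
        field_simp
      rw [Finset.sum_congr rfl (fun j _ => h1 j), ← Finset.mul_sum, hak' B' B]
      by_cases hBB : B = B'
      · rw [if_pos hBB, if_pos hBB.symm, mul_one]
      · rw [if_neg hBB, if_neg (Ne.symm hBB), mul_zero]
    have h3 : Lm * Wk * Rm = Matrix.diagonal sk := by
      rw [hPQ, ← Matrix.mul_assoc, hLP, Matrix.one_mul, hQR]
    have h4 : (Matrix.diagonal sk).rank = Fintype.card T := by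
      rw [Matrix.rank_diagonal]
      exact Fintype.card_congr (Equiv.subtypeUnivEquiv hsk0)
    rw [← h4, ← h3]
    exact (Matrix.rank_mul_le_left _ _).trans (Matrix.rank_mul_le_right _ _)

/-- The local ideal is a maximal ideal of the local ring. -/
theorem locIdeal_isMaximal {M : Ideal AlgInt} [hMp : M.IsPrime] : (locIdeal M).IsMaximal := by
  rw [Ideal.isMaximal_iff]
  refine ⟨one_notMem_locIdeal, ?_⟩
  intro J x _ hxI hxJ
  obtain ⟨a, b, hb, hab⟩ := x.2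
  have ha : a ∉ M := fun ha => hxI ⟨a, b, ha, hb, hab⟩
  have hinv : MemLocalRing M ((b : ℂ) / (a : ℂ)) := ⟨b, a, ha, rfl⟩
  have ha0 : (a : ℂ) ≠ 0 := coe_ne_zero_of_notMem ha
  have hb0 : (b : ℂ) ≠ 0 := coe_ne_zero_of_notMem hb
  have h1 : (⟨(b : ℂ) / (a : ℂ), hinv⟩ : locSubring M) * x = 1 := by
    apply Subtype.ext
    show (b : ℂ) / (a : ℂ) * (x : ℂ) = 1
    rw [← hab]
    field_simp
  rw [← h1]
  exact J.mul_mem_left _ hxJ

theorem natCast_mem_locIdeal {M : Ideal AlgInt} {p : ℕ} (hM : IsPModular p M) :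
    haveI := isPrime_of_isPModular hM
    ((p : ℕ) : locSubring M) ∈ locIdeal M := by
  haveI := isPrime_of_isPModular hM
  show MemLocalIdeal M ((((p : ℕ) : locSubring M) : locSubring M) : ℂ)
  have h1 : ((((p : ℕ) : locSubring M) : locSubring M) : ℂ) = (((p : ℕ) : AlgInt) : ℂ) := by
    push_cast
    rfl
  rw [h1]
  exact memLocalIdeal_of_mem hM.2.2 hM.2.1.ne_top

/-- **Piece E.**  The rank over `ZMod p` of the matrix `W` equals the number of blocks. -/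
theorem rank_eq_card {M : Ideal AlgInt} (p : ℕ) [hpp : Fact p.Prime] (hM : IsPModular p M)
    {ι T Z : Type*} [Fintype ι] [Finite T] [Fintype Z] [DecidableEq ι] [DecidableEq T]
    (W cnt : ι → ι → ℕ) (kk m : ι → ℕ) (c : Z → ℕ)
    (inB : Z → T → Prop) [∀ z B, Decidable (inB z B)]
    (Y Y' : Z → ι → ℂ) (Lam Lam' A A' : T → ι → ℂ)
    (hYl : ∀ z i, MemLocalRing M (Y z i)) (hYl' : ∀ z i, MemLocalRing M (Y' z i))
    (hLaml : ∀ B i, MemLocalRing M (Lam B i)) (hLaml' : ∀ B i, MemLocalRing M (Lam' B i))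
    (hAl : ∀ B i, MemLocalRing M (A B i)) (hAl' : ∀ B i, MemLocalRing M (A' B i))
    (hk : ∀ i, ¬ p ∣ kk i) (hm : ∀ i, ¬ p ∣ m i)
    (hs : ∀ B, ¬ p ∣ ∑ z, if inB z B then c z ^ 2 else 0)
    (hW : ∀ i j, (W i j : ZMod p) = (kk i : ZMod p) * (cnt i j : ZMod p))
    (hcnt : ∀ i j, MemLocalIdeal M ((m j : ℂ) * (cnt i j : ℂ) - ∑ z, Y z i * Y' z j))
    (huniq : ∀ z B B', inB z B → inB z B' → B = B')
    (hY : ∀ z B i, inB z B → MemLocalIdeal M ((kk i : ℂ) * Y z i - (c z : ℂ) * Lam B i))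
    (hY0 : ∀ z i, (∀ B, ¬ inB z B) → MemLocalIdeal M (Y z i))
    (hY' : ∀ z B i, inB z B → MemLocalIdeal M ((kk i : ℂ) * Y' z i - (c z : ℂ) * Lam' B i))
    (hY0' : ∀ z i, (∀ B, ¬ inB z B) → MemLocalIdeal M (Y' z i))
    (hA : ∀ B B', MemLocalIdeal M (∑ i, A B i * Lam B' i - (if B = B' then 1 else 0)))
    (hA' : ∀ B B', MemLocalIdeal M (∑ i, A' B i * Lam' B' i - (if B = B' then 1 else 0))) :
    (Matrix.of fun i j => (W i j : ZMod p)).rank = Nat.card T := by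
  classical
  haveI := isPrime_of_isPModular hM
  haveI := Fintype.ofFinite T
  haveI : (locIdeal M).IsMaximal := locIdeal_isMaximal
  rw [Nat.card_eq_fintype_card]
  refine rank_eq_card_abstract (locIdeal M) p (natCast_mem_locIdeal hM) W cnt kk m c inB
    (fun z i => ⟨Y z i, hYl z i⟩) (fun z i => ⟨Y' z i, hYl' z i⟩)
    (fun B i => ⟨Lam B i, hLaml B i⟩) (fun B i => ⟨Lam' B i, hLaml' B i⟩)
    (fun B i => ⟨A B i, hAl B i⟩) (fun B i => ⟨A' B i, hAl' B i⟩)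
    hk hm hs hW ?_ huniq ?_ ?_ ?_ ?_ ?_ ?_
  · intro i j
    show MemLocalIdeal M (((_ : locSubring M)) : ℂ)
    have := hcnt i j
    push_cast
    exact this
  · intro z B i hzB
    show MemLocalIdeal M (((_ : locSubring M)) : ℂ)
    have := hY z B i hzB
    push_cast
    exact this
  · intro z i hz
    exact hY0 z i hz
  · intro z B i hzB
    show MemLocalIdeal M (((_ : locSubring M)) : ℂ)
    have := hY' z B i hzB
    push_cast
    exact this
  · intro z i hz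
    exact hY0' z i hz
  · intro B B'
    show MemLocalIdeal M (((_ : locSubring M)) : ℂ)
    have := hA B B'
    push_cast
    by_cases hBB : B = B'
    · rw [if_pos hBB] at this ⊢
      push_cast
      exact this
    · rw [if_neg hBB] at this ⊢
      push_cast
      exact this
  · intro B B'
    show MemLocalIdeal M (((_ : locSubring M)) : ℂ)
    have := hA' B B'
    push_cast
    by_cases hBB : B = B'
    · rw [if_pos hBB] at this ⊢
      push_cast
      exact this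
    · rw [if_neg hBB] at this ⊢
      push_cast
      exact this

end Cfsg.Agent.H9.RobE
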