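import Mathlib
import Cfsg.Prelude.Def_Blocks
import Cfsg.Agent.H9.RobE

/-!
# Piece E of Robinson's count, in the shape used by the assembly of S4443 (helper9)

`rank_eq_card`: if `u i * N i j * v j ≡ ∑ B, s B * Λ B i * Λ' B j` modulo the local ideal, with
`u`, `v`, `s` prime to `p`, and `Λ`, `Λ'` have left inverses modulo the local ideal, then the rank
of `N` over `ZMod p` is the number of indices `B`.
-/

set_option autoImplicit false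
set_option linter.style.haveILetI false
set_option linter.unusedSectionVars false
set_option linter.unusedVariables false

namespace Cfsg.Agent.H9.RobE2

open Cfsg Matrix
open Cfsg.Agent.Lib.helper3.LocalM Cfsg.Agent.Lib.helper3.Block Cfsg.Agent.H9.RobE

theorem rank_eq_card_abstract {𝒪 : Type*} [CommRing 𝒪] (𝔪 : Ideal 𝒪) [h𝔪 : 𝔪.IsMaximal]
    (p : ℕ) [hpp : Fact p.Prime] (hp : (p : 𝒪) ∈ 𝔪)
    {ι τ : Type*} [Fintype ι] [DecidableEq ι] [Fintype τ] [DecidableEq τ]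
    (N : ι → ι → ℕ) (u v : ι → ℕ) (hu : ∀ i, ¬ p ∣ u i) (hv : ∀ j, ¬ p ∣ v j)
    (s : τ → ℕ) (hs : ∀ B, ¬ p ∣ s B)
    (Lam Lam' A A' : τ → ι → 𝒪)
    (hN : ∀ i j, ((u i : 𝒪) * (N i j : 𝒪) * (v j : 𝒪)) - ∑ B, (s B : 𝒪) * Lam B i * Lam' B j ∈ 𝔪)
    (hA : ∀ B B', ∑ i, A B i * Lam B' i - (if B = B' then 1 else 0) ∈ 𝔪)
    (hA' : ∀ B B', ∑ i, A' B i * Lam' B' i - (if B = B' then 1 else 0) ∈ 𝔪) :
    (Matrix.of fun i j : ι => ((N i j : ℕ) : ZMod p)).rank = Fintype.card τ := by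
  classical
  letI : Field (𝒪 ⧸ 𝔪) := Ideal.Quotient.field 𝔪
  obtain ⟨π, hπ⟩ : ∃ π : 𝒪 →+* 𝒪 ⧸ 𝔪, π = Ideal.Quotient.mk 𝔪 := ⟨_, rfl⟩
  have hπ0 : ∀ a, π a = 0 ↔ a ∈ 𝔪 := by
    intro a
    rw [hπ]
    exact Ideal.Quotient.eq_zero_iff_mem
  have hpk : ((p : ℕ) : 𝒪 ⧸ 𝔪) = 0 := by
    rw [← map_natCast π, hπ0]
    exact hp
  haveI : CharP (𝒪 ⧸ 𝔪) p := (CharP.charP_iff_prime_eq_zero hpp.out).mpr hpk
  obtain ⟨f, hf⟩ : ∃ f : ZMod p →+* 𝒪 ⧸ 𝔪, f = ZMod.castHom (dvd_refl p) _ := ⟨_, rfl⟩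
  have hne : ∀ n : ℕ, ¬ p ∣ n → ((n : ℕ) : 𝒪 ⧸ 𝔪) ≠ 0 := by
    intro n hn h
    exact hn ((CharP.cast_eq_zero_iff _ p n).mp h)
  obtain ⟨lam, hlam⟩ : ∃ lam : τ → ι → 𝒪 ⧸ 𝔪, lam = fun B i => π (Lam B i) := ⟨_, rfl⟩
  obtain ⟨lam', hlam'⟩ : ∃ lam' : τ → ι → 𝒪 ⧸ 𝔪, lam' = fun B i => π (Lam' B i) := ⟨_, rfl⟩
  obtain ⟨a, ha⟩ : ∃ a : τ → ι → 𝒪 ⧸ 𝔪, a = fun B i => π (A B i) := ⟨_, rfl⟩
  obtain ⟨a', ha'⟩ : ∃ a' : τ → ι → 𝒪 ⧸ 𝔪, a' = fun B i => π (A' B i) := ⟨_, rfl⟩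
  obtain ⟨sk, hsk⟩ : ∃ sk : τ → 𝒪 ⧸ 𝔪, sk = fun B => ((s B : ℕ) : 𝒪 ⧸ 𝔪) := ⟨_, rfl⟩
  have hsk0 : ∀ B, sk B ≠ 0 := by
    intro B
    rw [hsk]
    exact hne _ (hs B)
  have hu0 : ∀ i, ((u i : ℕ) : 𝒪 ⧸ 𝔪) ≠ 0 := fun i => hne _ (hu i)
  have hv0 : ∀ i, ((v i : ℕ) : 𝒪 ⧸ 𝔪) ≠ 0 := fun i => hne _ (hv i)
  have hNk : ∀ i j, (u i : 𝒪 ⧸ 𝔪) * (N i j : 𝒪 ⧸ 𝔪) * (v j : 𝒪 ⧸ 𝔪) =
      ∑ B, sk B * lam B i * lam' B j := by
    intro i j
    have := (hπ0 _).mpr (hN i j)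
    rw [map_sub, sub_eq_zero, map_mul, map_mul, map_natCast, map_natCast, map_natCast,
      map_sum] at this
    rw [this, hsk, hlam, hlam']
    apply Finset.sum_congr rfl
    intro B _
    rw [map_mul, map_mul, map_natCast]
  have hak : ∀ B B', ∑ i, a B i * lam B' i = if B = B' then 1 else 0 := by
    intro B B'
    have := (hπ0 _).mpr (hA B B')
    rw [map_sub, sub_eq_zero, map_sum] at this
    rw [ha, hlam]
    simp only
    have h2 : ∑ i, π (A B i) * π (Lam B' i) = ∑ i, π (A B i * Lam B' i) := by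
      apply Finset.sum_congr rfl
      intro i _
      rw [map_mul]
    rw [h2, this]
    split_ifs
    · exact map_one π
    · exact map_zero π
  have hak' : ∀ B B', ∑ i, a' B i * lam' B' i = if B = B' then 1 else 0 := by
    intro B B'
    have := (hπ0 _).mpr (hA' B B')
    rw [map_sub, sub_eq_zero, map_sum] at this
    rw [ha', hlam']
    simp only
    have h2 : ∑ i, π (A' B i) * π (Lam' B' i) = ∑ i, π (A' B i * Lam' B' i) := by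
      apply Finset.sum_congr rfl
      intro i _
      rw [map_mul]
    rw [h2, this]
    split_ifs
    · exact map_one π
    · exact map_zero π
  obtain ⟨Nk, hNkdef⟩ : ∃ Nk : Matrix ι ι (𝒪 ⧸ 𝔪),
      Nk = Matrix.of fun i j => ((N i j : ℕ) : 𝒪 ⧸ 𝔪) := ⟨_, rfl⟩
  have hmap : (Matrix.of fun i j : ι => ((N i j : ℕ) : ZMod p)).map f = Nk := by
    rw [hNkdef]
    ext i j
    simp only [Matrix.map_apply, Matrix.of_apply, map_natCast]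
  rw [← rank_map_field f, hmap]
  have hentry : ∀ i j, Nk i j =
      ∑ B, ((u i : 𝒪 ⧸ 𝔪)⁻¹ * lam B i) * (sk B * lam' B j * (v j : 𝒪 ⧸ 𝔪)⁻¹) := by
    intro i j
    rw [hNkdef, Matrix.of_apply]
    have h1 : ((N i j : ℕ) : 𝒪 ⧸ 𝔪) = (u i : 𝒪 ⧸ 𝔪)⁻¹ *
        ((u i : 𝒪 ⧸ 𝔪) * (N i j : 𝒪 ⧸ 𝔪) * (v j : 𝒪 ⧸ 𝔪)) * (v j : 𝒪 ⧸ 𝔪)⁻¹ := by
      have := hu0 i
      have := hv0 j
      field_simp
    rw [h1, hNk, Finset.mul_sum, Finset.sum_mul]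
    apply Finset.sum_congr rfl
    intro B _
    ring
  obtain ⟨P, hP⟩ : ∃ P : Matrix ι τ (𝒪 ⧸ 𝔪),
      P = Matrix.of fun i B => (u i : 𝒪 ⧸ 𝔪)⁻¹ * lam B i := ⟨_, rfl⟩
  obtain ⟨Q, hQ⟩ : ∃ Q : Matrix τ ι (𝒪 ⧸ 𝔪), Q = Matrix.of fun B j =>
      sk B * lam' B j * (v j : 𝒪 ⧸ 𝔪)⁻¹ := ⟨_, rfl⟩
  have hPQ : Nk = P * Q := by
    ext i j
    rw [hentry, Matrix.mul_apply, hP, hQ]
    rfl
  apply le_antisymm
  · rw [hPQ]
    exact (Matrix.rank_mul_le_left P Q).trans (Matrix.rank_le_card_width P)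
  · obtain ⟨Lm, hLm⟩ : ∃ Lm : Matrix τ ι (𝒪 ⧸ 𝔪),
        Lm = Matrix.of fun B i => a B i * (u i : 𝒪 ⧸ 𝔪) := ⟨_, rfl⟩
    obtain ⟨Rm, hRm⟩ : ∃ Rm : Matrix ι τ (𝒪 ⧸ 𝔪), Rm = Matrix.of fun j B' =>
        (v j : 𝒪 ⧸ 𝔪) * a' B' j := ⟨_, rfl⟩
    have hLP : Lm * P = 1 := by
      ext B B'
      rw [Matrix.mul_apply, hLm, hP, Matrix.one_apply]
      simp only [Matrix.of_apply]
      have h1 : ∀ i, a B i * (u i : 𝒪 ⧸ 𝔪) * ((u i : 𝒪 ⧸ 𝔪)⁻¹ * lam B' i) = a B i * lam B' i := by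
        intro i
        have := hu0 i
        field_simp
      rw [Finset.sum_congr rfl (fun i _ => h1 i)]
      exact hak B B'
    have hQR : Q * Rm = Matrix.diagonal sk := by
      ext B B'
      rw [Matrix.mul_apply, hQ, hRm, Matrix.diagonal_apply]
      simp only [Matrix.of_apply]
      have h1 : ∀ j, sk B * lam' B j * (v j : 𝒪 ⧸ 𝔪)⁻¹ * ((v j : 𝒪 ⧸ 𝔪) * a' B' j)
          = sk B * (a' B' j * lam' B j) := by
        intro j
        have := hv0 j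
        field_simp
      rw [Finset.sum_congr rfl (fun j _ => h1 j), ← Finset.mul_sum, hak' B' B]
      by_cases hBB : B = B'
      · rw [if_pos hBB, if_pos hBB.symm, mul_one]
      · rw [if_neg hBB, if_neg (Ne.symm hBB), mul_zero]
    have h3 : Lm * Nk * Rm = Matrix.diagonal sk := by
      rw [hPQ, ← Matrix.mul_assoc, hLP, Matrix.one_mul, hQR]
    have h4 : (Matrix.diagonal sk).rank = Fintype.card τ := by
      rw [Matrix.rank_diagonal]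
      exact Fintype.card_congr (Equiv.subtypeUnivEquiv hsk0)
    rw [← h4, ← h3]
    exact (Matrix.rank_mul_le_left _ _).trans (Matrix.rank_mul_le_right _ _)

/-- **Piece E** in the shape of the assembly. -/
theorem rank_eq_card {p : ℕ} [Fact p.Prime] {M : Ideal AlgInt} (hM : IsPModular p M)
    {ι τ : Type*} [Fintype ι] [DecidableEq ι] [Fintype τ] [DecidableEq τ]
    (N : ι → ι → ℕ) (u v : ι → ℕ) (hu : ∀ i, ¬ p ∣ u i) (hv : ∀ j, ¬ p ∣ v j)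
    (s : τ → ℕ) (hs : ∀ B, ¬ p ∣ s B)
    (Λ Λ' A A' : τ → ι → ℂ)
    (hΛ : ∀ B i, MemLocalRing M (Λ B i)) (hΛ' : ∀ B i, MemLocalRing M (Λ' B i))
    (hA : ∀ B i, MemLocalRing M (A B i)) (hA' : ∀ B i, MemLocalRing M (A' B i))
    (hN : ∀ i j, MemLocalIdeal M (((u i : ℂ) * (N i j : ℂ) * (v j : ℂ))
      - ∑ B, (s B : ℂ) * Λ B i * Λ' B j))
    (hAΛ : ∀ B B', MemLocalIdeal M (∑ i, A B i * Λ B' i - (if B = B' then 1 else 0)))
    (hAΛ' : ∀ B B', MemLocalIdeal M (∑ i, A' B i * Λ' B' i - (if B = B' then 1 else 0))) :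
    (Matrix.of fun i j : ι => ((N i j : ℕ) : ZMod p)).rank = Fintype.card τ := by
  classical
  haveI := isPrime_of_isPModular hM
  haveI : (locIdeal M).IsMaximal := locIdeal_isMaximal
  refine rank_eq_card_abstract (locIdeal M) p (natCast_mem_locIdeal hM) N u v hu hv s hs
    (fun B i => ⟨Λ B i, hΛ B i⟩) (fun B i => ⟨Λ' B i, hΛ' B i⟩)
    (fun B i => ⟨A B i, hA B i⟩) (fun B i => ⟨A' B i, hA' B i⟩) ?_ ?_ ?_
  · intro i j
    show MemLocalIdeal M (((_ : locSubring M)) : ℂ)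
    have := hN i j
    push_cast
    exact this
  · intro B B'
    show MemLocalIdeal M (((_ : locSubring M)) : ℂ)
    have := hAΛ B B'
    push_cast
    by_cases hBB : B = B'
    · rw [if_pos hBB] at this ⊢
      push_cast
      exact this
    · rw [if_neg hBB] at this ⊢
      push_cast
      exact this
  · intro B B'
    show MemLocalIdeal M (((_ : locSubring M)) : ℂ)
    have := hAΛ' B B'
    push_cast
    by_cases hBB : B = B'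
    · rw [if_pos hBB] at this ⊢
      push_cast
      exact this
    · rw [if_neg hBB] at this ⊢
      push_cast
      exact this

end Cfsg.Agent.H9.RobE2
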