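import Mathlib

/-!
# S3304, piece (P-M3): a group with a normal self-centralizing quaternion subgroup of order 8,
not a 2-group and without a normal Sylow 2-subgroup, has order 48.
-/

set_option autoImplicit false

namespace Cfsg.Agent.H9.S3304M3

open QuaternionGroup

/-- the quaternion group of order 8 -/
abbrev Q8 : Type := QuaternionGroup 2

/-- the class of an element of order four: which cyclic subgroup of order four it generates -/
def c3 : Q8 → Fin 3
  | .a _ => 0
  | .xa k => if k.val % 2 = 0 then 1 else 2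

/-- representatives of the three classes -/
def rep : Fin 3 → Q8 := ![a 1, xa 0, xa 1]

theorem c3_rep : ∀ c : Fin 3, c3 (rep c) = c := by decide

theorem rep_sq : ∀ c : Fin 3, rep c ^ 2 ≠ 1 := by decide

theorem rep_comm : ∀ x : Q8, x ^ 2 ≠ 1 → rep (c3 x) * x = x * rep (c3 x) := by decide

theorem c3_eq_of_comm : ∀ x y : Q8, x ^ 2 ≠ 1 → y ^ 2 ≠ 1 → x * y = y * x → c3 x = c3 y := by
  decide

theorem exists_inner : ∀ y1 y2 : Q8, y1 ^ 2 ≠ 1 → y2 ^ 2 ≠ 1 → c3 y1 = 0 → c3 y2 = 1 →
    ∃ q : Q8, q * a 1 * q⁻¹ = y1 ∧ q * xa 0 * q⁻¹ = y2 := by decide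

theorem gen_q8 : ∀ y : Q8, ∃ m n : Fin 4, y = a 1 ^ (m : ℕ) * xa 0 ^ (n : ℕ) := by decide

theorem sq_one : ∀ y : Q8, y ^ 2 = 1 → y = 1 ∨ y = a 2 := by decide

theorem central : ∀ y : Q8, (∀ w, y * w = w * y) → y = 1 ∨ y = a 2 := by decide

theorem a2_sq : (a 2 : Q8) ^ 2 = 1 := by decide

theorem a2_ne : (a 2 : Q8) ≠ 1 := by decide

theorem sq_ne_of_aut (φ : MulAut Q8) {x : Q8} (hx : x ^ 2 ≠ 1) : (φ x) ^ 2 ≠ 1 := by
  intro h
  apply hx
  apply φ.injective
  rw [map_pow, h, map_one]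

/-- the action of the automorphism group on the three classes -/
@[reducible] def actQ : MulAction (MulAut Q8) (Fin 3) where
  smul φ c := c3 (φ (rep c))
  one_smul c := c3_rep c
  mul_smul φ ψ c := by
    show c3 (φ (ψ (rep c))) = c3 (φ (rep (c3 (ψ (rep c)))))
    have hx : (ψ (rep c)) ^ 2 ≠ 1 := sq_ne_of_aut ψ (rep_sq c)
    have h1 := rep_comm _ hx
    have h2 : φ (rep (c3 (ψ (rep c)))) * φ (ψ (rep c)) =
        φ (ψ (rep c)) * φ (rep (c3 (ψ (rep c)))) := by
      rw [← map_mul, h1, map_mul]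
    exact (c3_eq_of_comm _ _ (sq_ne_of_aut φ (rep_sq _)) (sq_ne_of_aut φ hx) h2).symm

/-- the permutation representation of the automorphism group on the three classes -/
def piHom : MulAut Q8 →* Equiv.Perm (Fin 3) := @MulAction.toPermHom _ _ _ actQ

theorem piHom_apply (φ : MulAut Q8) (c : Fin 3) : piHom φ c = c3 (φ (rep c)) := rfl

theorem aut_eq_one {φ : MulAut Q8} (h1 : φ (a 1) = a 1) (h2 : φ (xa 0) = xa 0) : φ = 1 := by
  ext y
  obtain ⟨m, n, rfl⟩ := gen_q8 y
  simp only [map_mul, map_pow, h1, h2, MulAut.one_apply]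

section Main

variable {X : Type*} [Group X] [Finite X]

/-- the conjugation action on the quaternion subgroup, transported to `Q8` -/
noncomputable def theta (Q : Subgroup X) [Q.Normal] (e : ↥Q ≃* Q8) : X →* MulAut Q8 :=
  (MulAut.congr e).toMonoidHom.comp MulAut.conjNormal

theorem theta_apply (Q : Subgroup X) [Q.Normal] (e : ↥Q ≃* Q8) (g : X) (y : Q8) :
    ((e.symm (theta Q e g y) : ↥Q) : X) = g * ((e.symm y : ↥Q) : X) * g⁻¹ := by
  simp [theta, MulAut.congr, MulAut.conjNormal_apply]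

theorem theta_apply' (Q : Subgroup X) [Q.Normal] (e : ↥Q ≃* Q8) (g : X) (x : ↥Q) :
    ((e.symm (theta Q e g (e x)) : ↥Q) : X) = g * (x : X) * g⁻¹ := by
  rw [theta_apply, e.symm_apply_apply]

theorem mem_centralizer_of_theta (Q : Subgroup X) [Q.Normal] (e : ↥Q ≃* Q8) {g : X}
    (h : theta Q e g = 1) : g ∈ Subgroup.centralizer (Q : Set X) := by
  rw [Subgroup.mem_centralizer_iff]
  intro x hx
  have := theta_apply' Q e g ⟨x, hx⟩
  rw [h] at this
  simp only [MulAut.one_apply, MulEquiv.symm_apply_apply] at this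
  rw [eq_comm, ← mul_inv_eq_iff_eq_mul]
  exact this.symm

/-- the permutation representation of `X` on the three classes -/
noncomputable def psi (Q : Subgroup X) [Q.Normal] (e : ↥Q ≃* Q8) : X →* Equiv.Perm (Fin 3) :=
  piHom.comp (theta Q e)

theorem ker_psi_le (Q : Subgroup X) [Q.Normal] (e : ↥Q ≃* Q8)
    (hCQ : Subgroup.centralizer (Q : Set X) ≤ Q) : (psi Q e).ker ≤ Q := by
  intro g hg
  rw [MonoidHom.mem_ker] at hg
  have h0 : c3 (theta Q e g (a 1)) = 0 := by
    have := congrArg (fun σ : Equiv.Perm (Fin 3) => σ 0) hg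
    exact this
  have h1 : c3 (theta Q e g (xa 0)) = 1 := by
    have := congrArg (fun σ : Equiv.Perm (Fin 3) => σ 1) hg
    exact this
  obtain ⟨q, hq1, hq2⟩ := exists_inner _ _ (sq_ne_of_aut (theta Q e g) (rep_sq 0))
    (sq_ne_of_aut (theta Q e g) (rep_sq 1)) h0 h1
  -- the element `q` of `Q`
  set qx : X := ((e.symm q : ↥Q) : X) with hqx
  have hqxQ : qx ∈ Q := (e.symm q).2
  have hth : theta Q e qx = MulAut.conj q := by
    ext y
    apply e.symm.injective
    apply Subtype.ext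
    rw [theta_apply]
    simp [hqx, MulAut.conj_apply]
  have hq1' : theta Q e g (a 1) = q * a 1 * q⁻¹ := hq1.symm
  have hq2' : theta Q e g (xa 0) = q * xa 0 * q⁻¹ := hq2.symm
  have hone : theta Q e (qx⁻¹ * g) = 1 := by
    apply aut_eq_one
    · rw [map_mul, map_inv, hth, MulAut.mul_apply, hq1', MulAut.conj_inv_apply]
      group
    · rw [map_mul, map_inv, hth, MulAut.mul_apply, hq2', MulAut.conj_inv_apply]
      group
  have := hCQ (mem_centralizer_of_theta Q e hone)
  have h2 := Q.mul_mem hqxQ this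
  rwa [mul_inv_cancel_left] at h2

theorem card_Q (Q : Subgroup X) (e : ↥Q ≃* Q8) : Nat.card ↥Q = 8 := by
  rw [Nat.card_congr e.toEquiv, Nat.card_eq_fintype_card, QuaternionGroup.card]

theorem card_dvd (Q : Subgroup X) [Q.Normal] (e : ↥Q ≃* Q8)
    (hCQ : Subgroup.centralizer (Q : Set X) ≤ Q) : Nat.card X ∣ 48 := by
  have h1 : Nat.card X = Nat.card (psi Q e).ker * Nat.card (psi Q e).range := by
    rw [← Subgroup.card_mul_index (psi Q e).ker, Subgroup.index_ker]
  have h2 : Nat.card (psi Q e).ker ∣ 8 := by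
    have := Subgroup.card_dvd_of_le (ker_psi_le Q e hCQ)
    rwa [card_Q Q e] at this
  have h3 : Nat.card (psi Q e).range ∣ 6 := by
    have := Subgroup.card_subgroup_dvd_card (psi Q e).range
    rwa [Nat.card_eq_fintype_card (α := Equiv.Perm (Fin 3)), Fintype.card_perm,
      Fintype.card_fin] at this
  rw [h1]
  exact Nat.mul_dvd_mul h2 h3 |>.trans (by norm_num)

theorem card_eq (Q : Subgroup X) [Q.Normal] (e : ↥Q ≃* Q8)
    (hCQ : Subgroup.centralizer (Q : Set X) ≤ Q) (hnot : ¬ IsPGroup 2 X)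
    (hns : ¬ ∃ P : Sylow 2 X, (P : Subgroup X).Normal) : Nat.card X = 48 := by
  have hd := card_dvd Q e hCQ
  have h8 : 8 ∣ Nat.card X := by
    have := Subgroup.card_subgroup_dvd_card Q
    rwa [card_Q Q e] at this
  obtain ⟨k, hk⟩ := h8
  have hk6 : k ∣ 6 := by
    rw [hk] at hd
    have : 8 * k ∣ 8 * 6 := by simpa using hd
    exact Nat.dvd_of_mul_dvd_mul_left (by norm_num) this
  have hkle : k ≤ 6 := Nat.le_of_dvd (by norm_num) hk6
  have h2 : Fact (Nat.Prime 2) := ⟨Nat.prime_two⟩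
  interval_cases k
  · simp at hk6
  · exfalso
    exact hnot (IsPGroup.of_card (n := 3) (by rw [hk]; norm_num))
  · exfalso
    exact hnot (IsPGroup.of_card (n := 4) (by rw [hk]; norm_num))
  · exfalso
    apply hns
    obtain ⟨P, hP⟩ := (IsPGroup.of_card (p := 2) (n := 3) (by rw [card_Q Q e]; norm_num) :
      IsPGroup 2 ↥Q).exists_le_sylow
    have hPc : Nat.card ↥(P : Subgroup X) = 8 := by
      obtain ⟨n, hn⟩ := IsPGroup.iff_card.mp P.2
      have hdvd : Nat.card ↥(P : Subgroup X) ∣ 24 := by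
        have := Subgroup.card_subgroup_dvd_card (P : Subgroup X)
        rwa [hk] at this
      have hge : 8 ≤ Nat.card ↥(P : Subgroup X) := by
        have := Subgroup.card_le_of_le hP
        rwa [card_Q Q e] at this
      rw [hn] at hdvd hge ⊢
      have hn5 : n < 5 := by
        by_contra hcon
        push Not at hcon
        have : 2 ^ 5 ≤ 2 ^ n := Nat.pow_le_pow_right (by norm_num) hcon
        have := Nat.le_of_dvd (by norm_num) hdvd
        omega
      interval_cases n <;> omega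
    have hQP : Q = (P : Subgroup X) :=
      Subgroup.eq_of_le_of_card_ge hP (by rw [hPc, card_Q Q e])
    exact ⟨P, hQP ▸ inferInstance⟩
  · norm_num at hk6
  · norm_num at hk6
  · exact hk

/-- the central involution -/
noncomputable def zQ (Q : Subgroup X) (e : ↥Q ≃* Q8) : X := ((e.symm (a 2) : ↥Q) : X)

theorem zQ_mem (Q : Subgroup X) (e : ↥Q ≃* Q8) : zQ Q e ∈ Q := (e.symm (a 2)).2

theorem eq_zQ (Q : Subgroup X) (e : ↥Q ≃* Q8) {x : X} (hx : x ∈ Q) (h2 : x ^ 2 = 1)
    (h1 : x ≠ 1) : x = zQ Q e := by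
  have h := sq_one (e ⟨x, hx⟩) (by
    rw [← map_pow]
    have : (⟨x, hx⟩ : ↥Q) ^ 2 = 1 := Subtype.ext h2
    rw [this, map_one])
  rcases h with h | h
  · exfalso
    apply h1
    have : (⟨x, hx⟩ : ↥Q) = 1 := e.injective (by rw [h, map_one])
    exact congrArg Subtype.val this
  · have : (⟨x, hx⟩ : ↥Q) = e.symm (a 2) := by
      rw [← h, e.symm_apply_apply]
    exact congrArg Subtype.val this

theorem zQ_sq (Q : Subgroup X) (e : ↥Q ≃* Q8) : zQ Q e ^ 2 = 1 := by
  have : (e.symm (a 2) : ↥Q) ^ 2 = 1 := by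
    rw [← map_pow, a2_sq, map_one]
  exact congrArg Subtype.val this

theorem zQ_ne (Q : Subgroup X) (e : ↥Q ≃* Q8) : zQ Q e ≠ 1 := by
  intro h
  have : (e.symm (a 2) : ↥Q) = 1 := Subtype.ext h
  rw [MulEquiv.map_eq_one_iff] at this
  exact a2_ne this

theorem zQ_central (Q : Subgroup X) [Q.Normal] (e : ↥Q ≃* Q8) :
    zQ Q e ∈ Subgroup.center X := by
  rw [Subgroup.mem_center_iff]
  intro g
  have hmem : g * zQ Q e * g⁻¹ ∈ Q := ‹Q.Normal›.conj_mem _ (zQ_mem Q e) g
  have h2 : (g * zQ Q e * g⁻¹) ^ 2 = 1 := by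
    rw [conj_pow, zQ_sq, mul_one, mul_inv_cancel]
  have h1 : g * zQ Q e * g⁻¹ ≠ 1 := by
    intro h
    apply zQ_ne Q e
    have : zQ Q e = g⁻¹ * (g * zQ Q e * g⁻¹) * g := by group
    rw [this, h]
    group
  have := eq_zQ Q e hmem h2 h1
  rw [mul_inv_eq_iff_eq_mul] at this
  exact this

theorem center_sub (Q : Subgroup X) [Q.Normal] (e : ↥Q ≃* Q8)
    (hCQ : Subgroup.centralizer (Q : Set X) ≤ Q) {x : X} (hx : x ∈ Subgroup.center X) :
    x = 1 ∨ x = zQ Q e := by
  have hxQ : x ∈ Q := hCQ (Subgroup.center_le_centralizer _ hx)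
  have hc : ∀ w : Q8, e ⟨x, hxQ⟩ * w = w * e ⟨x, hxQ⟩ := by
    intro w
    obtain ⟨w', rfl⟩ := e.surjective w
    rw [← map_mul, ← map_mul]
    congr 1
    apply Subtype.ext
    exact ((Subgroup.mem_center_iff.mp hx) (w' : X)).symm
  rcases central _ hc with h | h
  · left
    have : (⟨x, hxQ⟩ : ↥Q) = 1 := e.injective (by rw [h, map_one])
    exact congrArg Subtype.val this
  · right
    have : (⟨x, hxQ⟩ : ↥Q) = e.symm (a 2) := by
      rw [← h, e.symm_apply_apply]
    exact congrArg Subtype.val this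

theorem card_center (Q : Subgroup X) [Q.Normal] (e : ↥Q ≃* Q8)
    (hCQ : Subgroup.centralizer (Q : Set X) ≤ Q) : Nat.card ↥(Subgroup.center X) = 2 := by
  rw [Nat.card_eq_two_iff]
  refine ⟨1, ⟨zQ Q e, zQ_central Q e⟩, ?_, ?_⟩
  · intro h
    exact zQ_ne Q e (congrArg Subtype.val h).symm
  · ext ⟨x, hx⟩
    simp only [Set.mem_insert_iff, Set.mem_singleton_iff, Set.mem_univ, iff_true]
    rcases center_sub Q e hCQ hx with h | h
    · left
      exact Subtype.ext h
    · right
      exact Subtype.ext h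

theorem psi_surjective (Q : Subgroup X) [Q.Normal] (e : ↥Q ≃* Q8)
    (hCQ : Subgroup.centralizer (Q : Set X) ≤ Q) (h48 : Nat.card X = 48) :
    Function.Surjective (psi Q e) := by
  have h1 : Nat.card X = Nat.card (psi Q e).ker * Nat.card (psi Q e).range := by
    rw [← Subgroup.card_mul_index (psi Q e).ker, Subgroup.index_ker]
  have h2 : Nat.card (psi Q e).ker ≤ 8 := by
    have := Subgroup.card_le_of_le (ker_psi_le Q e hCQ)
    rwa [card_Q Q e] at this
  have h3 : Nat.card (psi Q e).range ≤ 6 := by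
    have := Subgroup.card_le_card_group (psi Q e).range
    rwa [Nat.card_eq_fintype_card (α := Equiv.Perm (Fin 3)), Fintype.card_perm,
      Fintype.card_fin] at this
  have h4 : Nat.card (psi Q e).range = 6 := by
    rw [h48] at h1
    nlinarith
  rw [← MonoidHom.range_eq_top]
  apply Subgroup.eq_top_of_card_eq
  rw [h4, Nat.card_eq_fintype_card, Fintype.card_perm, Fintype.card_fin]
  rfl

theorem not_normal (Q : Subgroup X) [Q.Normal] (e : ↥Q ≃* Q8)
    (hCQ : Subgroup.centralizer (Q : Set X) ≤ Q) (h48 : Nat.card X = 48)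
    (C : Subgroup X) (hC : C ≤ Q) (hC4 : Nat.card ↥C = 4) : ¬ C.Normal := by
  intro hCn
  -- an element of order four in `C`
  have hex : ∃ c ∈ C, c ^ 2 ≠ 1 := by
    by_contra hno
    push Not at hno
    have hsub : (C : Set X) ⊆ {1, zQ Q e} := by
      intro c hc
      by_cases hc1 : c = 1
      · exact Or.inl hc1
      · exact Or.inr (eq_zQ Q e (hC hc) (hno c hc) hc1)
    have hle : (C : Set X).ncard ≤ 2 :=
      (Set.ncard_le_ncard hsub (Set.toFinite _)).trans
        ((Set.ncard_insert_le _ _).trans (by rw [Set.ncard_singleton]))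
    have h4 : (C : Set X).ncard = 4 := by
      rw [← _root_.Nat.card_coe_set_eq]
      exact hC4
    omega
  obtain ⟨c, hcC, hc2⟩ := hex
  have hcQ : c ∈ Q := hC hcC
  -- `C` is commutative
  have h2 : Fact (Nat.Prime 2) := ⟨Nat.prime_two⟩
  have hcomm : ∀ x y : ↥C, x * y = y * x :=
    IsPGroup.commutative_of_card_eq_prime_sq (p := 2) (by rw [hC4]; norm_num)
  set y : Q8 := e ⟨c, hcQ⟩ with hy
  have hy2 : y ^ 2 ≠ 1 := by
    intro h
    apply hc2
    have : (⟨c, hcQ⟩ : ↥Q) ^ 2 = 1 := e.injective (by rw [map_pow, ← hy, h, map_one])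
    exact congrArg Subtype.val this
  -- every element of `X` fixes the class of `y`
  have hfix : ∀ g : X, psi Q e g (c3 y) = c3 y := by
    intro g
    show c3 (theta Q e g (rep (c3 y))) = c3 y
    have hcg : g * c * g⁻¹ ∈ C := hCn.conj_mem c hcC g
    have hcomm' : (g * c * g⁻¹) * c = c * (g * c * g⁻¹) :=
      congrArg Subtype.val (hcomm ⟨g * c * g⁻¹, hcg⟩ ⟨c, hcC⟩)
    -- `theta g y` commutes with `y`
    have hty : theta Q e g y * y = y * theta Q e g y := by
      apply e.symm.injective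
      apply Subtype.ext
      rw [map_mul, map_mul, Subgroup.coe_mul, Subgroup.coe_mul, hy, theta_apply',
        e.symm_apply_apply]
      exact hcomm'
    have h1 := rep_comm y hy2
    have h3 : theta Q e g (rep (c3 y)) * theta Q e g y =
        theta Q e g y * theta Q e g (rep (c3 y)) := by
      rw [← map_mul, h1, map_mul]
    have e1 := c3_eq_of_comm _ _ (sq_ne_of_aut (theta Q e g) (rep_sq _))
      (sq_ne_of_aut (theta Q e g) hy2) h3
    have e2 := c3_eq_of_comm _ _ (sq_ne_of_aut (theta Q e g) hy2) hy2 hty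
    rw [e1, e2]
  -- but `psi` is onto
  obtain ⟨g, hg⟩ := psi_surjective Q e hCQ h48 (Equiv.swap (c3 y) (c3 y + 1))
  have := hfix g
  rw [hg, Equiv.swap_apply_left] at this
  revert this
  generalize c3 y = t
  revert t
  decide

end Main

end Cfsg.Agent.H9.S3304M3

namespace Cfsg.Agent.Lib.Helper5.S3304

open Cfsg.Agent.H9.S3304M3

variable {X : Type*} [Group X] [Finite X]

/-- M3 + M4 -/
theorem card_of_quaternion8 (Q : Subgroup X) [Q.Normal] (e : ↥Q ≃* QuaternionGroup 2)
    (hCQ : Subgroup.centralizer (Q : Set X) ≤ Q) (hnot : ¬ IsPGroup 2 X)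
    (hns : ¬ ∃ P : Sylow 2 X, (P : Subgroup X).Normal) :
    Nat.card X = 48 ∧ Nat.card ↥(Subgroup.center X) = 2 ∧ Subgroup.center X ≤ Q ∧
      ∀ C : Subgroup X, C ≤ Q → Nat.card ↥C = 4 → ¬ C.Normal := by
  have h48 := card_eq Q e hCQ hnot hns
  exact ⟨h48, card_center Q e hCQ,
    (Subgroup.center_le_centralizer _).trans hCQ, not_normal Q e hCQ h48⟩

end Cfsg.Agent.Lib.Helper5.S3304
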