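import Mathlib

set_option autoImplicit false

namespace Cfsg.Agent.H9.S4737Rank

/-- An element of order dividing `3` whose conjugation maps `H` into `H` normalizes `H`. -/
theorem mem_normalizer_of_pow_three {G : Type*} [Group G] {y : G} (hy : y ^ 3 = 1)
    (H : Subgroup G) (hf : ∀ h ∈ H, y * h * y⁻¹ ∈ H) : y ∈ Subgroup.normalizer (H : Set G) := by
  rw [Subgroup.mem_normalizer_iff]
  intro h
  refine ⟨hf h, fun hh => ?_⟩
  have h2 := hf _ (hf _ hh)
  have h3 : y * (y * (y * h * y⁻¹) * y⁻¹) * y⁻¹ = y ^ 3 * h * (y ^ 3)⁻¹ := by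
    simp only [pow_succ, pow_zero, one_mul, mul_inv_rev, mul_assoc]
  rw [h3, hy] at h2
  simpa using h2

/-- The four-group on two commuting involutions. -/
def fourGroup {G : Type*} [Group G] (a b : G) (ha : a * a = 1) (hb : b * b = 1)
    (hab : b * a = a * b) : Subgroup G where
  carrier := {x | x = 1 ∨ x = a ∨ x = b ∨ x = a * b}
  one_mem' := Or.inl rfl
  mul_mem' := by
    have haax : ∀ x : G, a * (a * x) = x := fun x => by rw [← mul_assoc, ha, one_mul]
    have hbax : ∀ x : G, b * (a * x) = a * (b * x) := fun x => by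
      rw [← mul_assoc, hab, mul_assoc]
    intro x y hx hy
    simp only [Set.mem_ofPred_eq] at hx hy ⊢
    rcases hx with rfl | rfl | rfl | rfl <;> rcases hy with rfl | rfl | rfl | rfl <;>
      simp [mul_assoc, ha, hb, hab, haax, hbax]
  inv_mem' := by
    have hainv : a⁻¹ = a := inv_eq_of_mul_eq_one_left ha
    have hbinv : b⁻¹ = b := inv_eq_of_mul_eq_one_left hb
    intro x hx
    simp only [Set.mem_ofPred_eq] at hx ⊢
    rcases hx with rfl | rfl | rfl | rfl
    · simp
    · simp [hainv]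
    · simp [hbinv]
    · right; right; right
      rw [mul_inv_rev, hainv, hbinv, hab]

theorem mem_fourGroup {G : Type*} [Group G] {a b : G} {ha : a * a = 1} {hb : b * b = 1}
    {hab : b * a = a * b} {x : G} :
    x ∈ fourGroup a b ha hb hab ↔ x = 1 ∨ x = a ∨ x = b ∨ x = a * b := Iff.rfl

theorem isPGroup_fourGroup {G : Type*} [Group G] (a b : G) (ha : a * a = 1) (hb : b * b = 1)
    (hab : b * a = a * b) : IsPGroup 2 (fourGroup a b ha hb hab) := by
  rintro ⟨x, hx⟩
  refine ⟨1, ?_⟩
  apply Subtype.ext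
  rw [pow_one, Subgroup.coe_pow, Subgroup.coe_one, pow_two]
  show x * x = 1
  rcases hx with rfl | rfl | rfl | rfl
  · simp
  · exact ha
  · exact hb
  · calc a * b * (a * b) = a * (b * a) * b := by simp only [mul_assoc]
      _ = a * (a * b) * b := by rw [hab]
      _ = (a * a) * (b * b) := by simp only [mul_assoc]
      _ = 1 := by rw [ha, hb, one_mul]

/-- **Lemma (B).** If `y` and `t * y` have order dividing `3` and `t` is an involution, then `y`
normalizes a nontrivial `2`-subgroup (the four-group `{1, t, t^y, t^(y^2)}`). -/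
theorem exists_two_subgroup_of_order_three {G : Type*} [Group G] {y t : G} (hy : y ^ 3 = 1)
    (ht : t ^ 2 = 1) (ht1 : t ≠ 1) (hty : (t * y) ^ 3 = 1) :
    ∃ Q : Subgroup G, IsPGroup 2 Q ∧ y ∈ Subgroup.normalizer (Q : Set G) ∧ Q ≠ ⊥ := by
  have htt : t * t = 1 := by rw [← pow_two]; exact ht
  -- a = t, b = y t y⁻¹, c = y b y⁻¹
  obtain ⟨b, hbdef⟩ : ∃ b : G, b = y * t * y⁻¹ := ⟨_, rfl⟩
  obtain ⟨c, hcdef⟩ : ∃ c : G, c = y * b * y⁻¹ := ⟨_, rfl⟩
  have hbb : b * b = 1 := by
    rw [hbdef]
    calc y * t * y⁻¹ * (y * t * y⁻¹) = y * (t * t) * y⁻¹ := by group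
      _ = 1 := by rw [htt]; group
  have hcc : c * c = 1 := by
    rw [hcdef]
    calc y * b * y⁻¹ * (y * b * y⁻¹) = y * (b * b) * y⁻¹ := by group
      _ = 1 := by rw [hbb]; group
  -- `t * b * c = 1`
  have habc : t * b * c = 1 := by
    have h1 : t * b * c = (t * y) ^ 3 * (y ^ 3)⁻¹ := by
      rw [hcdef, hbdef]
      simp only [pow_succ, pow_zero, one_mul, mul_inv_rev, mul_assoc]
      group
    rw [h1, hty, hy]; simp
  have hc : c = b * t := by
    have h1 : c = (t * b)⁻¹ := by
      rw [eq_inv_iff_mul_eq_one]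
      calc c * (t * b) = (t * b)⁻¹ * ((t * b) * c) * (t * b) := by group
        _ = 1 := by rw [habc]; group
    rw [h1, mul_inv_rev, inv_eq_of_mul_eq_one_left htt, inv_eq_of_mul_eq_one_left hbb]
  have hab : b * t = t * b := by
    -- (b t)^2 = 1
    have h1 : b * t * (b * t) = 1 := by rw [← hc]; exact hcc
    rw [eq_inv_of_mul_eq_one_left h1, mul_inv_rev, inv_eq_of_mul_eq_one_left htt,
      inv_eq_of_mul_eq_one_left hbb]
  have hyc : y * c * y⁻¹ = t := by
    rw [hcdef, hbdef]
    calc y * (y * (y * t * y⁻¹) * y⁻¹) * y⁻¹ = y ^ 3 * t * (y ^ 3)⁻¹ := by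
          simp only [pow_succ, pow_zero, one_mul, mul_inv_rev, mul_assoc]
      _ = t := by rw [hy]; simp
  refine ⟨fourGroup t b htt hbb hab, isPGroup_fourGroup t b htt hbb hab, ?_, ?_⟩
  · apply mem_normalizer_of_pow_three hy
    intro h hh
    rw [mem_fourGroup] at hh ⊢
    rcases hh with rfl | rfl | rfl | rfl
    · left; group
    · right; right; left; exact hbdef.symm
    · right; right; right
      rw [← hcdef, hc, hab]
    · right; left
      have : y * (t * b) * y⁻¹ = y * c * y⁻¹ := by rw [hc, hab]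
      rw [this, hyc]
  · intro hbot
    have : t ∈ fourGroup t b htt hbb hab := Or.inr (Or.inl rfl)
    rw [hbot, Subgroup.mem_bot] at this
    exact ht1 this

end Cfsg.Agent.H9.S4737Rank
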