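import Mathlib
import Cfsg.Prelude.Def_Characters
import Cfsg.Prelude.Def_Blocks
import Cfsg.Agent.Lib.helper3.ClassMul
import Cfsg.Agent.Lib.helper3.DefectZero
import Cfsg.Agent.Lib.helper3.LocalM3
import Cfsg.Agent.H9.S4737B

set_option autoImplicit false
set_option linter.style.haveILetI false
set_option linter.unusedSectionVars false

/-!
# S4737 modulo part (A): the rank argument

`card_le_of_partA`: if the central character value `ω_χ(T)` of the sum `T` of all `t` with
`t ^ 2 = 1` lies in the local ideal at `M` for every irreducible character `χ` of positive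
`2`-defect, then the number of classes of elements of order `3` normalizing no nontrivial
`2`-subgroup is at most the number of characters of `2`-defect zero.
-/

namespace Cfsg.Agent.H9.S4737Rank

open Cfsg Module
open scoped ComplexConjugate

/-! ## Abstract rank lemmas -/

theorem card_le_of_mul_eq_diagonal {k : Type*} [Field k] {I Z : Type*} [Fintype I] [Fintype Z]
    [DecidableEq I] (A : Matrix I Z k) (B : Matrix Z I k) (d : I → k) (hd : ∀ i, d i ≠ 0)
    (h : A * B = Matrix.diagonal d) : Fintype.card I ≤ Fintype.card Z := by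
  classical
  have h1 : (A * B).rank = Fintype.card I := by
    rw [h, Matrix.rank_diagonal]
    exact Fintype.card_congr (Equiv.subtypeUnivEquiv hd)
  calc Fintype.card I = (A * B).rank := h1.symm
    _ ≤ A.rank := Matrix.rank_mul_le_left A B
    _ ≤ Fintype.card Z := Matrix.rank_le_card_width A

theorem card_le_of_sum_eq {R : Type*} [CommRing R] (M : Ideal R) [hM : M.IsMaximal]
    {I X : Type*} [Fintype I] [Fintype X] [DecidableEq I]
    (w : X → R) (a : I → X → R) (b : X → I → R) (d : I → R) (hd : ∀ i, d i ∉ M)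
    (h : ∀ i j, ∑ χ, w χ * a i χ * b χ j = if i = j then d i else 0) :
    Fintype.card I ≤ Nat.card {χ // w χ ∉ M} := by
  classical
  letI : Field (R ⧸ M) := Ideal.Quotient.field M
  rw [Nat.card_eq_fintype_card]
  apply card_le_of_mul_eq_diagonal
    (Matrix.of fun (i : I) (χ : {χ // w χ ∉ M}) => Ideal.Quotient.mk M (w χ.1 * a i χ.1))
    (Matrix.of fun (χ : {χ // w χ ∉ M}) (j : I) => Ideal.Quotient.mk M (b χ.1 j))
    (fun i => Ideal.Quotient.mk M (d i))
  · intro i hi
    exact hd i (Ideal.Quotient.eq_zero_iff_mem.mp hi)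
  · ext i j
    rw [Matrix.mul_apply, Matrix.diagonal_apply]
    simp only [Matrix.of_apply]
    have h1 : ∑ χ : {χ // w χ ∉ M}, Ideal.Quotient.mk M (w χ.1 * a i χ.1) * Ideal.Quotient.mk M (b χ.1 j)
        = ∑ χ : X, Ideal.Quotient.mk M (w χ * a i χ * b χ j) := by
      rw [← Finset.sum_subtype (Finset.univ.filter (fun χ : X => w χ ∉ M))
        (fun χ => by simp) (fun χ => Ideal.Quotient.mk M (w χ * a i χ) * Ideal.Quotient.mk M (b χ j))]
      rw [Finset.sum_filter]
      apply Finset.sum_congr rfl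
      intro χ _
      by_cases hχ : w χ ∉ M
      · rw [if_pos hχ, map_mul (Ideal.Quotient.mk M) (w χ * a i χ) (b χ j)]
      · rw [if_neg hχ]
        rw [not_not] at hχ
        symm
        rw [Ideal.Quotient.eq_zero_iff_mem]
        rw [mul_assoc]
        exact M.mul_mem_right _ hχ
    rw [h1, ← map_sum, h i j]
    split_ifs
    · rfl
    · exact map_zero _

end Cfsg.Agent.H9.S4737Rank

namespace Cfsg.Agent.H9.S4737Rank

open Cfsg Module Cfsg.Agent.Lib.helper3.IndFun Cfsg.Agent.Lib.helper3.CharBasic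
open Cfsg.Agent.Lib.helper3.Irr Cfsg.Agent.Lib.helper3.Central
open scoped ComplexConjugate
open Classical

variable {G : Type*} [Group G] [Fintype G]

/-- The class sum of `b` acts as a scalar: generalized orthogonality in trace form. -/
theorem sum_cls_mul {χ : G → ℂ} (hχ : IsIrrCharacter G χ) (t b : G) :
    ∑ y ∈ cls b, χ (t * y) = ((cls b).card : ℂ) * χ b / χ 1 * χ t := by
  obtain ⟨n, ρ, hirr, rfl⟩ := hχ
  haveI := hirr
  have h1 : LinearMap.trace ℂ _ (ρ t * classOp ρ b) = ∑ y ∈ cls b, ρ.character (t * y) := by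
    rw [classOp_eq_sum_cls, Finset.mul_sum, map_sum]
    apply Finset.sum_congr rfl
    intro y _
    rw [← map_mul]
    rfl
  rw [← h1, classOp_eq_smul ρ b, mul_smul_comm, map_smul, Representation.char_one, smul_eq_mul]
  rfl

/-- The elements of square one. -/
noncomputable def sqOne (G : Type*) [Group G] [Fintype G] : Finset G :=
  Finset.univ.filter (fun t : G => t ^ 2 = 1)

theorem mem_sqOne {t : G} : t ∈ sqOne G ↔ t ^ 2 = 1 := by simp [sqOne]

/-- The central character value on the sum of all elements of square one. -/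
noncomputable def omegaT (χ : G → ℂ) : ℂ := (∑ t ∈ sqOne G, χ t) / χ 1

theorem isIntegral_omegaT {χ : G → ℂ} (hχ : IsIrrCharacter G χ) : IsIntegral ℤ (omegaT χ) := by
  obtain ⟨n, ρ, hirr, rfl⟩ := hχ
  haveI := hirr
  have h := Cfsg.Agent.Lib.helper3.BrauerInd.isIntegral_sum_class_div ρ
    (fun g => if g ^ 2 = 1 then 1 else 0)
    (by
      intro g h
      have : (h * g * h⁻¹) ^ 2 = 1 ↔ g ^ 2 = 1 := by
        rw [conj_pow]
        constructor
        · intro h1
          have : g ^ 2 = h⁻¹ * (h * g ^ 2 * h⁻¹) * h := by group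
          rw [this, h1]; group
        · intro h1
          rw [h1]; group
      simp only [this])
    (by
      intro g
      split_ifs
      · exact isIntegral_one
      · exact isIntegral_zero)
  unfold omegaT sqOne
  rw [Representation.char_one, Finset.sum_filter]
  convert h using 3
  rw [mul_ite, mul_one, mul_zero]

/-- `x` has order `3` and normalizes no nontrivial `2`-subgroup. -/
def Good (x : G) : Prop :=
  orderOf x = 3 ∧ ∀ Q : Subgroup G, IsPGroup 2 ↥Q → x ∈ Subgroup.normalizer (Q : Set G) → Q = ⊥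

theorem irr_apply_eq_of_isConj (χ : IrrCharacter G) {g h : G} (hgh : IsConj g h) :
    (χ : G → ℂ) g = (χ : G → ℂ) h := by
  obtain ⟨c, hc⟩ := isConj_iff.mp hgh
  rw [← hc]
  exact (isClassFunction_of_isCharacter (isCharacter_of_isIrrCharacter χ.2) g c).symm

theorem pow_three_of_orderOf {x : G} (hx : orderOf x = 3) : x ^ 3 = 1 := by
  rw [← hx]; exact pow_orderOf_eq_one x

/-- The key vanishing: an involution times a conjugate of a good element is never of order 3. -/
theorem not_isConj_mul {x x' : G} (hx : orderOf x = 3) (hx' : Good x') {t y : G}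
    (ht : t ^ 2 = 1) (ht1 : t ≠ 1) (hy : IsConj x' y) : ¬ IsConj (t * y) x := by
  intro hc
  obtain ⟨d, hd⟩ := isConj_iff.mp hc
  have hty : (t * y) ^ 3 = 1 := by
    have h1 : (d * (t * y) * d⁻¹) ^ 3 = 1 := by rw [hd]; exact pow_three_of_orderOf hx
    rw [conj_pow] at h1
    have : (t * y) ^ 3 = d⁻¹ * (d * (t * y) ^ 3 * d⁻¹) * d := by group
    rw [this, h1]; group
  obtain ⟨c, hc'⟩ := isConj_iff.mp hy
  have h2 : (c⁻¹ * t * c) ^ 2 = 1 := by
    have : (c⁻¹ * t * c) ^ 2 = c⁻¹ * t ^ 2 * c := by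
      have := conj_pow (a := c⁻¹) (b := t) (i := 2)
      rw [inv_inv] at this
      exact this
    rw [this, ht]; group
  have h3 : c⁻¹ * t * c ≠ 1 := by
    intro h
    apply ht1
    have : t = c * (c⁻¹ * t * c) * c⁻¹ := by group
    rw [this, h]; group
  have h4 : (c⁻¹ * t * c * x') ^ 3 = 1 := by
    have h5 : c⁻¹ * t * c * x' = c⁻¹ * (t * y) * c := by rw [← hc']; group
    rw [h5]
    have := conj_pow (a := c⁻¹) (b := t * y) (i := 3)
    rw [inv_inv] at this
    rw [this, hty]; group
  obtain ⟨Q, hQ, hxQ, hQ1⟩ := exists_two_subgroup_of_order_three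
    (pow_three_of_orderOf hx'.1) h2 h3 h4
  exact hQ1 (hx'.2 Q hQ hxQ)

theorem main_identity {x x' : G} (hx : orderOf x = 3) (hx' : Good x') :
    ∑ χ : IrrCharacter G, omegaT (χ : G → ℂ) * (χ : G → ℂ) x' * conj ((χ : G → ℂ) x)
      = if IsConj x x' then (Nat.card (Subgroup.centralizer ({x} : Set G)) : ℂ) else 0 := by
  obtain ⟨c, hcdef⟩ : ∃ c : ℂ, c = if IsConj x x' then
    (Nat.card (Subgroup.centralizer ({x} : Set G)) : ℂ) else 0 := ⟨_, rfl⟩
  rw [← hcdef]
  have hcls : ((cls x').card : ℂ) ≠ 0 := by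
    have : x' ∈ cls x' := mem_cls.mpr (IsConj.refl x')
    have := Finset.card_pos.mpr ⟨x', this⟩
    exact_mod_cast this.ne'
  have h1 : ∀ χ : IrrCharacter G,
      omegaT (χ : G → ℂ) * (χ : G → ℂ) x' * conj ((χ : G → ℂ) x)
        = ((cls x').card : ℂ)⁻¹ * ∑ t ∈ sqOne G, ∑ y ∈ cls x',
            (χ : G → ℂ) (t * y) * conj ((χ : G → ℂ) x) := by
    intro χ
    have hχ1 := apply_one_ne_zero χ.2
    simp_rw [← Finset.sum_mul, sum_cls_mul χ.2]
    rw [← Finset.mul_sum]
    unfold omegaT
    field_simp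
  rw [Finset.sum_congr rfl (fun χ _ => h1 χ), ← Finset.mul_sum, Finset.sum_comm]
  have hterm : ∀ t ∈ sqOne G, ∀ y ∈ cls x',
      ∑ χ : IrrCharacter G, (χ : G → ℂ) (t * y) * conj ((χ : G → ℂ) x)
        = if t = 1 then c else 0 := by
    intro t ht y hy
    rw [mem_sqOne] at ht
    rw [mem_cls] at hy
    by_cases ht1 : t = 1
    · rw [if_pos ht1, ht1, one_mul, hcdef]
      by_cases hc : IsConj x x'
      · rw [if_pos hc]
        have h2 : ∀ χ : IrrCharacter G, (χ : G → ℂ) y = (χ : G → ℂ) x :=
          fun χ => irr_apply_eq_of_isConj χ (hc.trans hy).symm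
        simp_rw [h2]
        exact (column_orthogonality x x).1 (IsConj.refl x)
      · rw [if_neg hc]
        exact (column_orthogonality y x).2 (fun h => hc (h.symm.trans hy.symm))
    · rw [if_neg ht1]
      exact (column_orthogonality (t * y) x).2 (not_isConj_mul hx hx' ht ht1 hy)
  have h2 : ∀ t ∈ sqOne G, ∑ χ : IrrCharacter G, ∑ y ∈ cls x',
      (χ : G → ℂ) (t * y) * conj ((χ : G → ℂ) x) = if t = 1 then ((cls x').card : ℂ) * c else 0 := by
    intro t ht
    rw [Finset.sum_comm, Finset.sum_congr rfl (fun y hy => hterm t ht y hy), Finset.sum_const,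
      nsmul_eq_mul]
    split_ifs
    · rfl
    · rw [mul_zero]
  rw [Finset.sum_congr rfl h2, Finset.sum_ite_eq', if_pos (mem_sqOne.mpr (one_pow 2))]
  field_simp

theorem not_two_dvd_card_centralizer {x : G} (hx : Good x) :
    ¬ 2 ∣ Nat.card (Subgroup.centralizer ({x} : Set G)) := by
  intro h2
  haveI : Fact (Nat.Prime 2) := ⟨Nat.prime_two⟩
  obtain ⟨u', hu'⟩ := exists_prime_orderOf_dvd_card' 2 h2
  have hu : orderOf (u' : G) = 2 := by rw [Subgroup.orderOf_coe]; exact hu'
  have hcomm : Commute x (u' : G) := by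
    have := u'.2
    rw [Subgroup.mem_centralizer_iff] at this
    exact this x (Set.mem_singleton x)
  have hQ : IsPGroup 2 (Subgroup.zpowers (u' : G)) := by
    apply IsPGroup.of_card (n := 1)
    rw [Nat.card_zpowers, hu, pow_one]
  have hxQ : x ∈ Subgroup.normalizer ((Subgroup.zpowers (u' : G) : Subgroup G) : Set G) := by
    apply Subgroup.centralizer_le_normalizer
    rw [Subgroup.mem_centralizer_iff]
    intro h hh
    obtain ⟨k, rfl⟩ := Subgroup.mem_zpowers_iff.mp hh
    exact ((hcomm.zpow_right k).eq).symm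
  have h1 := hx.2 _ hQ hxQ
  have h3 : (u' : G) ∈ Subgroup.zpowers (u' : G) := Subgroup.mem_zpowers _
  rw [h1, Subgroup.mem_bot] at h3
  rw [h3, orderOf_one] at hu
  omega

end Cfsg.Agent.H9.S4737Rank

namespace Cfsg.Agent.H9.S4737Rank

open Cfsg Module Cfsg.Agent.Lib.helper3.IndFun Cfsg.Agent.Lib.helper3.CharBasic
open Cfsg.Agent.Lib.helper3.Irr Cfsg.Agent.Lib.helper3.Central Cfsg.Agent.Lib.helper3.Lin
open Cfsg.Agent.Lib.helper3.LocalM
open scoped ComplexConjugate

/-- **S4737 modulo part (A).** -/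
theorem card_le_of_partA {G : Type*} [Group G] [Finite G] (M : Ideal AlgInt) (hM : IsPModular 2 M)
    (hA : ∀ χ : IrrCharacter G,
      (charDegree (χ : G → ℂ)).factorization 2 ≠ (Nat.card G).factorization 2 →
        MemLocalIdeal M (∑ᶠ t ∈ {t : G | t ^ 2 = 1}, (χ : G → ℂ) t / (χ : G → ℂ) 1)) :
    Nat.card {C : ConjClasses G // ∃ g ∈ C.carrier, orderOf g = 3 ∧ ∀ Q : Subgroup G, IsPGroup 2 ↥Q → g ∈ Subgroup.normalizer (Q : Set G) → Q = ⊥} ≤ Nat.card {χ : Cfsg.IrrCharacter G // (Cfsg.charDegree (χ : G → ℂ)).factorization 2 = (Nat.card G).factorization 2} := by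
  classical
  haveI : Fintype G := Fintype.ofFinite G
  haveI hMmax : M.IsMaximal := hM.2.1
  haveI : M.IsPrime := isPrime_of_isPModular hM
  show Nat.card {C : ConjClasses G // ∃ g ∈ C.carrier, Good g} ≤ _
  haveI : Fintype {C : ConjClasses G // ∃ g ∈ C.carrier, Good g} := Fintype.ofFinite _
  choose x hxmem hxgood using (fun C : {C : ConjClasses G // ∃ g ∈ C.carrier, Good g} => C.2)
  have hconj : ∀ i j, IsConj (x i) (x j) ↔ i = j := by
    intro i j
    constructor
    · intro h
      apply Subtype.ext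
      rw [← ConjClasses.mem_carrier_iff_mk_eq.mp (hxmem i),
        ← ConjClasses.mem_carrier_iff_mk_eq.mp (hxmem j)]
      exact ConjClasses.mk_eq_mk_iff_isConj.mpr h
    · rintro rfl
      exact IsConj.refl _
  have hint : ∀ (χ : IrrCharacter G) (g : G), IsIntegral ℤ ((χ : G → ℂ) g) := fun χ g =>
    isIntegral_of_isCharacter (isCharacter_of_isIrrCharacter χ.2) g
  have key := card_le_of_sum_eq M
    (fun χ : IrrCharacter G => (⟨omegaT (χ : G → ℂ), isIntegral_omegaT χ.2⟩ : AlgInt))
    (fun i χ => (⟨(χ : G → ℂ) (x i), hint χ (x i)⟩ : AlgInt))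
    (fun χ j => (⟨conj ((χ : G → ℂ) (x j)), map_isIntegral_int (starRingEnd ℂ) (hint χ (x j))⟩ : AlgInt))
    (fun i => ((Nat.card (Subgroup.centralizer ({x i} : Set G)) : ℕ) : AlgInt))
    (by
      intro i h
      rw [natCast_mem_iff hM] at h
      exact not_two_dvd_card_centralizer (hxgood i) h)
    (by
      intro i j
      apply Subtype.ext
      have h1 := main_identity (hxgood j).1 (hxgood i)
      rw [AddSubmonoidClass.coe_finsetSum]
      simp only [MulMemClass.coe_mul]
      rw [h1]
      by_cases hij : i = j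
      · rw [if_pos hij, if_pos ((hconj j i).mpr hij.symm), hij]
        simp
      · rw [if_neg hij, if_neg (fun h => hij ((hconj j i).mp h).symm)]
        simp)
  rw [Nat.card_eq_fintype_card]
  refine key.trans ?_
  apply Nat.card_le_card_of_injective
    (fun χ : {χ : IrrCharacter G // (⟨omegaT (χ : G → ℂ), isIntegral_omegaT χ.2⟩ : AlgInt) ∉ M} =>
      (⟨χ.1, by
        by_contra hne
        apply χ.2
        have h1 := hA χ.1 hne
        have h2 : {t : G | t ^ 2 = 1} = ((sqOne G : Finset G) : Set G) := by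
          ext t
          simp [mem_sqOne]
        rw [h2, finsum_mem_coe_finset, ← Finset.sum_div] at h1
        exact mem_of_memLocalIdeal (z := ⟨omegaT (χ.1 : G → ℂ), isIntegral_omegaT χ.1.2⟩) h1⟩ :
        {χ : Cfsg.IrrCharacter G // (Cfsg.charDegree (χ : G → ℂ)).factorization 2
          = (Nat.card G).factorization 2}))
  intro χ ψ h
  apply Subtype.ext
  have := congrArg Subtype.val h
  simpa using this

end Cfsg.Agent.H9.S4737Rank
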