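import Mathlib
import Cfsg.Agent.H9.BlockCrit
import Cfsg.Agent.H9.PSL2Degrees
import Cfsg.Agent.H9.PSL2Spec
import Cfsg.Agent.Lib.helper3.CentralChar
import Cfsg.Agent.Lib.helper3.Irr11
import Cfsg.Agent.S0914
import Cfsg.Agent.H9.BlockSylow

set_option autoImplicit false

/-!
# Central characters of SL₂(F) modulo the defining characteristic
-/

namespace Cfsg.Agent.H9.SL2Blocks

open Cfsg Matrix Cfsg.Agent.Lib.helper3.IndFun Cfsg.Agent.Lib.helper3.Irr
open Cfsg.Agent.Lib.helper3.Block Cfsg.Agent.Lib.helper3.LocalM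
open Cfsg.Agent.Lib.helper3.Central
open Cfsg.Agent.H9.PrincipalSeries Cfsg.Agent.S2307 Cfsg.Agent.H9.SL2Chars
open Cfsg.Agent.H9.PSL2Degrees Cfsg.Agent.H9.BlockCrit

section general

variable {G : Type*} [Group G] [Fintype G]

/-- the value of an irreducible character at a central involution -/
theorem apply_central_involution {χ : G → ℂ} (hχ : IsIrrCharacter G χ) (z : G)
    (hz : z ∈ Subgroup.center G) (hz2 : z * z = 1) : χ z = χ 1 ∨ χ z = -χ 1 := by
  obtain ⟨d, ρ, hirr, hρ⟩ := hχ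
  haveI := hirr
  obtain ⟨c, hc⟩ := exists_scalar_of_central ρ z hz
  have h1 : χ z = c * χ 1 := by
    rw [← hρ]
    simp only [Representation.character, hc, map_one]
    rw [map_smul, smul_eq_mul]
    rfl
  have hn : c * c = 1 := by
    have h2 : ρ (z * z) = ρ z * ρ z := map_mul ρ z z
    rw [hz2, map_one, hc] at h2
    haveI hnt := nontrivial_of_irreducible ρ
    obtain ⟨v, hv⟩ := exists_ne (0 : Fin d → ℂ)
    have h4 := congrArg (fun f : (Fin d → ℂ) →ₗ[ℂ] (Fin d → ℂ) => f v) h2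
    simp only [Module.End.one_apply, Module.End.mul_apply, LinearMap.smul_apply,
      LinearMap.id_coe, id_eq, smul_smul] at h4
    have h5 : (1 : ℂ) • v = (c * c) • v := by rw [one_smul]; exact h4
    exact (smul_left_injective ℂ hv h5).symm
  have h3 : (c - 1) * (c + 1) = 0 := by linear_combination hn
  rcases mul_eq_zero.mp h3 with h | h
  · left
    have : c = 1 := by linear_combination h
    rw [h1, this, one_mul]
  · right
    have : c = -1 := by linear_combination h
    rw [h1, this, neg_one_mul]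

end general

variable {F : Type*} [Field F] [Fintype F]

local notation "SL2" => Matrix.SpecialLinearGroup (Fin 2) F
local notation "negOne" => (Cfsg.Agent.S2325.negOne : Matrix.SpecialLinearGroup (Fin 2) F)

/-- elements of trace two have order dividing the characteristic -/
theorem pow_char_eq_one_of_trace_two (p : ℕ) [Fact p.Prime] [CharP F p] (g : SL2)
    (ht : (g : Matrix (Fin 2) (Fin 2) F).trace = 2) : g ^ p = 1 := by
  have h := Cfsg.Agent.H9.PSL2Spec.pow_char_of_root p g (ε := 1) (by norm_num) (by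
    unfold Cfsg.Agent.H9.PSL2Spec.fpoly
    rw [ht]
    simp
    ring)
  apply Subtype.ext
  rw [Matrix.SpecialLinearGroup.coe_pow, h, one_pow, one_smul]
  rfl

/-- each element either has class size divisible by `p`, or is a central element times a
`p`-element -/
theorem class_dichotomy (p : ℕ) [Fact p.Prime] [CharP F p] (hp : p ≠ 2) (g : SL2) :
    p ∣ (Subgroup.centralizer ({g} : Set SL2)).index ∨
      ∃ u z : SL2, g = u * z ∧ u ^ p ^ 1 = 1 ∧ u * z = z * u ∧ (z = 1 ∨ z = negOne) := by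
  classical
  have hodd' : Fintype.card F % 2 = 1 := by
    have hc : ringChar F ≠ 2 := by rw [ringChar.eq F p]; exact hp
    exact FiniteField.odd_card_of_char_ne_two hc
  have hpq : p ∣ Fintype.card F := by
    obtain ⟨n, -, hn⟩ := FiniteField.card F p
    rw [hn]
    exact dvd_pow_self p n.ne_zero
  by_cases ht : (g : Matrix (Fin 2) (Fin 2) F).trace ^ 2 ≠ 4
  · left
    have hns : ¬ ∃ a : F, (g : Matrix (Fin 2) (Fin 2) F) = a • (1 : Matrix (Fin 2) (Fin 2) F) := by
      rintro ⟨a, ha⟩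
      apply ht
      have hdet := g.2
      rw [ha] at hdet ⊢
      simp only [Matrix.det_smul, Fintype.card_fin, Matrix.det_one, mul_one] at hdet
      rw [Matrix.trace_smul, Matrix.trace_one, Fintype.card_fin]
      simp only [smul_eq_mul, Nat.cast_ofNat]
      linear_combination 4 * hdet
    rw [Cfsg.Agent.S2508.index_reg hodd' g hns ht, ← mul_add]
    exact Dvd.dvd.mul_right hpq _
  · right
    rcases Cfsg.Agent.S2325.sq_eq_four_cases ht with h | h
    · refine ⟨g, 1, (mul_one g).symm, ?_, by rw [mul_one, one_mul], Or.inl rfl⟩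
      rw [pow_one]
      exact pow_char_eq_one_of_trace_two p g h
    · refine ⟨negOne * g, negOne, ?_, ?_, ?_, Or.inr rfl⟩
      · rw [← Cfsg.Agent.S2325.negOne_comm, mul_assoc, Cfsg.Agent.S2508.negOne_mul_negOne, mul_one]
      · rw [pow_one]
        apply pow_char_eq_one_of_trace_two p
        rw [Cfsg.Agent.S2508.trace_negOne_mul, h, neg_neg]
      · rw [Cfsg.Agent.S2325.negOne_comm]

section blocks

variable (p : ℕ) [Fact p.Prime] [CharP F p] {M : Ideal AlgInt}

/-- two irreducible characters of degree prime to `p` with the same central sign lie in the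
same `p`-block -/
theorem sameBlock_of_sign (hp : p ≠ 2) (hM : IsPModular p M) {χ ψ : SL2 → ℂ}
    (hχ : IsIrrCharacter SL2 χ) (hψ : IsIrrCharacter SL2 ψ) {n m : ℕ} (hn : χ 1 = (n : ℂ))
    (hm : ψ 1 = (m : ℂ)) (hpn : ¬ p ∣ n) (hpm : ¬ p ∣ m)
    (hsign : χ negOne * ψ 1 = ψ negOne * χ 1) : SameBlock M χ ψ := by
  haveI := isPrime_of_isPModular hM
  intro g
  rcases class_dichotomy p hp g with h | ⟨u, z, rfl, hu, huz, hz⟩
  · exact memLocalIdeal_sub (memLocalIdeal_centralChar_of_dvd hM hχ hn hpn g h)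
      (memLocalIdeal_centralChar_of_dvd hM hψ hm hpm g h)
  · apply memLocalIdeal_centralChar_sub hM hχ hψ hn hm hpn hpm u z 1 hu huz
    rcases hz with rfl | rfl
    · ring
    · exact hsign

/-- the central character at the central involution -/
theorem centralChar_negOne (χ : SL2 → ℂ) : centralChar χ negOne = χ negOne / χ 1 := by
  unfold centralChar
  have h1 : Subgroup.centralizer ({negOne} : Set SL2) = ⊤ := by
    rw [Subgroup.centralizer_eq_top_iff_subset]
    intro x hx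
    rw [Set.mem_singleton_iff] at hx
    rw [hx]
    exact Cfsg.Agent.S2508.negOne_mem_center
  rw [h1, Subgroup.index_top, Nat.cast_one, one_mul]

omit [CharP F p] in
/-- characters with different central signs lie in different `p`-blocks, `p` odd -/
theorem not_sameBlock_of_sign (hp : p ≠ 2) (hM : IsPModular p M) {χ ψ : SL2 → ℂ}
    (h1 : χ negOne = χ 1) (h2 : ψ negOne = -ψ 1) (hχ0 : χ 1 ≠ 0) (hψ0 : ψ 1 ≠ 0) :
    ¬ SameBlock M χ ψ := by
  haveI := isPrime_of_isPModular hM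
  intro h
  have h3 := h negOne
  rw [centralChar_negOne, centralChar_negOne, h1, h2, div_self hχ0, neg_div, div_self hψ0] at h3
  have h4 : MemLocalIdeal M (((2 : ℕ) : AlgInt) : ℂ) := by
    have : (((2 : ℕ) : AlgInt) : ℂ) = 1 - -1 := by
      rw [SubringClass.coe_natCast]
      norm_num
    rw [this]
    exact h3
  have h5 := mem_of_memLocalIdeal h4
  have h6 := (natCast_mem_iff hM 2).mp h5
  exact hp ((Nat.prime_dvd_prime_iff_eq hM.1 Nat.prime_two).mp h6)

end blocks

section struct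

/-- the only irreducible character of degree `q` is the Steinberg character, `q` odd -/
theorem eq_St_of_degree (hodd : Odd (Fintype.card F)) [DecidableEq F] {χ : SL2 → ℂ}
    (hχ : IsIrrCharacter SL2 χ) (hd : χ 1 = (Fintype.card F : ℂ)) : χ = StSL := by
  obtain ⟨H⟩ := exists_halves (F := F) hodd
  set ψ := AddChar.FiniteField.primitiveChar_to_Complex F with hψdef
  have hψ : ψ.IsPrimitive := AddChar.FiniteField.primitiveChar_to_Complex_isPrimitive F
  obtain ⟨ν, hν⟩ := exists_nonsquare (F := F) hodd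
  obtain ⟨k, hk⟩ := id hodd
  have hk1 : 1 ≤ k := by
    have : 2 ≤ Fintype.card F := Fintype.one_lt_card
    omega
  have inj : ∀ {a : ℕ}, χ 1 = (a : ℂ) → a = Fintype.card F := by
    intro a ha
    exact Nat.cast_injective (ha.symm.trans hd)
  rcases degree_nat_type H hodd ψ hψ hν hχ with h | h | h | h | h | h
  · have := inj h.2; omega
  · exact h.1
  · have := inj h.2; omega
  · have := inj h.2; omega
  · have := inj h.2; omega
  · have := inj h.2; omega

/-- the Steinberg character is trivial on the centre -/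
theorem St_negOne [DecidableEq F] : StSL (F := F) negOne = StSL (F := F) 1 := by
  have := R_one_negOne_mul (F := F) 1
  rw [mul_one] at this
  unfold StSL
  rw [Pi.sub_apply, Pi.sub_apply, this]

/-- some irreducible character is faithful on the centre, `q` odd -/
theorem exists_faithful_sign (hodd : Odd (Fintype.card F)) :
    ∃ χ : IrrCharacter SL2, (χ : SL2 → ℂ) negOne = -(χ : SL2 → ℂ) 1 := by
  classical
  have h2 : (2 : F) ≠ 0 := Ring.two_ne_zero (ringChar_ne_two_of_odd hodd)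
  by_contra hcon
  push Not at hcon
  have hall : ∀ χ : IrrCharacter SL2, (χ : SL2 → ℂ) negOne = (χ : SL2 → ℂ) 1 := by
    intro χ
    rcases apply_central_involution χ.2 negOne Cfsg.Agent.S2508.negOne_mem_center
      Cfsg.Agent.S2508.negOne_mul_negOne with h | h
    · exact h
    · exact absurd h (hcon χ)
  have hnc : ¬ IsConj (negOne : SL2) 1 := by
    intro h
    rw [isConj_one_left] at h
    exact Cfsg.Agent.S2325.one_ne_negOne h2 h.symm
  have hsum := (column_orthogonality (negOne : SL2) 1).2 hnc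
  have hpos : (0 : ℝ) < ∑ χ : IrrCharacter SL2, Complex.normSq ((χ : SL2 → ℂ) 1) := by
    apply Finset.sum_pos
    · intro χ _
      exact Complex.normSq_pos.mpr (apply_one_ne_zero χ.2)
    · exact ⟨⟨fun _ => 1, isIrrCharacter_one⟩, Finset.mem_univ _⟩
  have : ((∑ χ : IrrCharacter SL2, Complex.normSq ((χ : SL2 → ℂ) 1) : ℝ) : ℂ) = 0 := by
    rw [← hsum]
    push_cast
    apply Finset.sum_congr rfl
    intro χ _
    rw [hall χ, Complex.mul_conj]
  have h0 : (∑ χ : IrrCharacter SL2, Complex.normSq ((χ : SL2 → ℂ) 1) : ℝ) = 0 := by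
    exact_mod_cast this
  rw [h0] at hpos
  exact lt_irrefl _ hpos

end struct

section main

open Cfsg.Agent.H9.BlockSylow

/-- the `p`-blocks of SL₂(F) in the defining characteristic `p`, `p` odd -/
theorem blocks_main (p : ℕ) [Fact p.Prime] [CharP F p] (hp : p ≠ 2) {M : Ideal AlgInt}
    (hM : IsPModular p M) :
    (∀ B : Set (IrrCharacter SL2), IsPBlock M B ↔
      (B = {χ : IrrCharacter SL2 | (χ : SL2 → ℂ) 1 = (Fintype.card F : ℂ)} ∨
       B = {χ : IrrCharacter SL2 | (χ : SL2 → ℂ) negOne = (χ : SL2 → ℂ) 1 ∧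
          (χ : SL2 → ℂ) 1 ≠ (Fintype.card F : ℂ)} ∨
       B = {χ : IrrCharacter SL2 | (χ : SL2 → ℂ) negOne = -(χ : SL2 → ℂ) 1})) ∧
    Nat.card {B : Set (IrrCharacter SL2) // IsPBlock M B} = 3 ∧
    ∀ P : Sylow p SL2,
      IsDefectGroup p M {χ : IrrCharacter SL2 | (χ : SL2 → ℂ) negOne = (χ : SL2 → ℂ) 1 ∧
          (χ : SL2 → ℂ) 1 ≠ (Fintype.card F : ℂ)} (P : Subgroup SL2) ∧
      IsDefectGroup p M {χ : IrrCharacter SL2 | (χ : SL2 → ℂ) negOne = -(χ : SL2 → ℂ) 1}
        (P : Subgroup SL2) := by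
  classical
  haveI hMp := isPrime_of_isPModular hM
  have hMtop : M ≠ ⊤ := hM.2.1.ne_top
  have hpp : p.Prime := Fact.out
  have hodd : Odd (Fintype.card F) := by
    have hc : ringChar F ≠ 2 := by rw [ringChar.eq F p]; exact hp
    exact Nat.odd_iff.mpr (FiniteField.odd_card_of_char_ne_two hc)
  have hpq : p ∣ Fintype.card F := by
    obtain ⟨n, -, hn⟩ := FiniteField.card F p
    rw [hn]
    exact dvd_pow_self p n.ne_zero
  have hq2 : 2 ≤ Fintype.card F := Fintype.one_lt_card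
  have hq0 : (Fintype.card F : ℂ) ≠ 0 := by
    have : Fintype.card F ≠ 0 := by omega
    exact_mod_cast this
  have hp1 : ¬ p ∣ 1 := fun h => hpp.one_lt.ne' (Nat.dvd_one.mp h)
  -- the Steinberg character and the trivial character
  set St : IrrCharacter SL2 := ⟨StSL, StSL_isIrr.1⟩ with hStdef
  have hSt1 : (St : SL2 → ℂ) 1 = (Fintype.card F : ℂ) := StSL_one
  have hStsign : (St : SL2 → ℂ) negOne = (St : SL2 → ℂ) 1 := St_negOne
  set triv : IrrCharacter SL2 := ⟨fun _ => 1, isIrrCharacter_one⟩ with htrivdef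
  have htriv1 : (triv : SL2 → ℂ) 1 = 1 := rfl
  have htrivs : (triv : SL2 → ℂ) negOne = (triv : SL2 → ℂ) 1 := rfl
  have htrivq : (triv : SL2 → ℂ) 1 ≠ (Fintype.card F : ℂ) := by
    rw [htriv1]
    intro h
    have : (1 : ℕ) = Fintype.card F := by exact_mod_cast h
    omega
  have hF1 : ∀ χ : IrrCharacter SL2, (χ : SL2 → ℂ) 1 = (Fintype.card F : ℂ) → χ = St := by
    intro χ h
    exact Subtype.ext (eq_St_of_degree hodd χ.2 h)
  have hF2 : ∀ χ : IrrCharacter SL2, (χ : SL2 → ℂ) 1 ≠ (Fintype.card F : ℂ) →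
      ∃ n : ℕ, (χ : SL2 → ℂ) 1 = (n : ℂ) ∧ ¬ p ∣ n := by
    intro χ hne
    obtain ⟨n, hn, -⟩ := degree_cases χ.2
    refine ⟨n, hn, fun hdvd => hne ?_⟩
    rw [hn, degree_eq_card_of_dvd hpp hpq χ.2 hn hdvd]
  have hF3 : ∀ χ : IrrCharacter SL2, (χ : SL2 → ℂ) negOne = (χ : SL2 → ℂ) 1 ∨
      (χ : SL2 → ℂ) negOne = -(χ : SL2 → ℂ) 1 := fun χ =>
    apply_central_involution χ.2 negOne Cfsg.Agent.S2508.negOne_mem_center
      Cfsg.Agent.S2508.negOne_mul_negOne
  have hneSt : ∀ χ : IrrCharacter SL2, (χ : SL2 → ℂ) negOne = -(χ : SL2 → ℂ) 1 →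
      (χ : SL2 → ℂ) 1 ≠ (Fintype.card F : ℂ) := by
    intro χ hs h
    have := hF1 χ h
    rw [this, hStsign, hSt1] at hs
    have : (2 : ℂ) * (Fintype.card F : ℂ) = 0 := by linear_combination hs
    rcases mul_eq_zero.mp this with h' | h'
    · norm_num at h'
    · exact hq0 h'
  -- the block of the Steinberg character
  have hcardG : Nat.card SL2 = Fintype.card F * ((Fintype.card F - 1) * (Fintype.card F + 1)) := by
    have h := Cfsg.Agent.S2300.card_SL2_cast (F := F)
    have h1 : 1 ≤ Fintype.card F := by omega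
    have : ((Nat.card SL2 : ℕ) : ℂ)
        = ((Fintype.card F * ((Fintype.card F - 1) * (Fintype.card F + 1)) : ℕ) : ℂ) := by
      rw [h]
      push_cast [Nat.cast_sub h1]
      ring
    exact_mod_cast this
  have hB1 : blockOf M (St : SL2 → ℂ)
      = {χ : IrrCharacter SL2 | (χ : SL2 → ℂ) 1 = (Fintype.card F : ℂ)} := by
    have hnd : ¬ p ∣ Nat.card SL2 / charDegree (St : SL2 → ℂ) := by
      rw [charDegree_eq' hSt1, hcardG, Nat.mul_div_cancel_left _ (by omega)]
      intro h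
      rcases (Nat.Prime.dvd_mul hpp).mp h with h | h
      · have : p ∣ Fintype.card F - (Fintype.card F - 1) := Nat.dvd_sub hpq h
        rw [Nat.sub_sub_self (by omega)] at this
        exact hp1 this
      · exact hp1 ((Nat.dvd_add_right hpq).mp h)
    rw [(Cfsg.Agent.S0914.result p M hM St).mp hnd]
    ext χ
    constructor
    · intro h
      rw [Set.mem_singleton_iff] at h
      rw [h]
      exact hSt1
    · intro h
      exact hF1 χ h
  have hStblock : ∀ χ : IrrCharacter SL2, SameBlock M (χ : SL2 → ℂ) (St : SL2 → ℂ) →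
      (χ : SL2 → ℂ) 1 = (Fintype.card F : ℂ) := by
    intro χ h
    have : χ ∈ blockOf M (St : SL2 → ℂ) := sameBlock_symm h
    rw [hB1] at this
    exact this
  have hsame : ∀ χ ψ : IrrCharacter SL2, (χ : SL2 → ℂ) 1 ≠ (Fintype.card F : ℂ) →
      (ψ : SL2 → ℂ) 1 ≠ (Fintype.card F : ℂ) →
      (χ : SL2 → ℂ) negOne * (ψ : SL2 → ℂ) 1 = (ψ : SL2 → ℂ) negOne * (χ : SL2 → ℂ) 1 →
      SameBlock M (χ : SL2 → ℂ) (ψ : SL2 → ℂ) := by
    intro χ ψ h1 h2 hs
    obtain ⟨n, hn, hpn⟩ := hF2 χ h1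
    obtain ⟨m, hm, hpm⟩ := hF2 ψ h2
    exact sameBlock_of_sign p hp hM χ.2 ψ.2 hn hm hpn hpm hs
  have hdiff : ∀ χ ψ : IrrCharacter SL2, (χ : SL2 → ℂ) negOne = (χ : SL2 → ℂ) 1 →
      (ψ : SL2 → ℂ) negOne = -(ψ : SL2 → ℂ) 1 →
      ¬ SameBlock M (χ : SL2 → ℂ) (ψ : SL2 → ℂ) := fun χ ψ h1 h2 =>
    not_sameBlock_of_sign p hp hM h1 h2 (apply_one_ne_zero χ.2) (apply_one_ne_zero ψ.2)
  have hB2 : ∀ χ : IrrCharacter SL2, (χ : SL2 → ℂ) 1 ≠ (Fintype.card F : ℂ) →
      (χ : SL2 → ℂ) negOne = (χ : SL2 → ℂ) 1 → blockOf M (χ : SL2 → ℂ)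
        = {χ : IrrCharacter SL2 | (χ : SL2 → ℂ) negOne = (χ : SL2 → ℂ) 1 ∧
          (χ : SL2 → ℂ) 1 ≠ (Fintype.card F : ℂ)} := by
    intro χ hχq hχs
    ext ψ
    constructor
    · intro h
      have hψq : (ψ : SL2 → ℂ) 1 ≠ (Fintype.card F : ℂ) := by
        intro hq
        have := hF1 ψ hq
        rw [this] at h
        exact hχq (hStblock χ h)
      rcases hF3 ψ with h1 | h1
      · exact ⟨h1, hψq⟩
      · exact absurd h (hdiff χ ψ hχs h1)
    · rintro ⟨h1, h2⟩
      apply hsame χ ψ hχq h2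
      rw [hχs, h1]
      ring
  have hB3 : ∀ χ : IrrCharacter SL2, (χ : SL2 → ℂ) negOne = -(χ : SL2 → ℂ) 1 →
      blockOf M (χ : SL2 → ℂ)
        = {χ : IrrCharacter SL2 | (χ : SL2 → ℂ) negOne = -(χ : SL2 → ℂ) 1} := by
    intro χ hχs
    ext ψ
    constructor
    · intro h
      rcases hF3 ψ with h1 | h1
      · exact absurd (sameBlock_symm h) (hdiff ψ χ h1 hχs)
      · exact h1
    · intro h1
      apply hsame χ ψ (hneSt χ hχs) (hneSt ψ h1)
      rw [hχs, h1]
      ring
  obtain ⟨χ₃, hχ₃⟩ := exists_faithful_sign (F := F) hodd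
  have hiff : ∀ B : Set (IrrCharacter SL2), IsPBlock M B ↔
      (B = {χ : IrrCharacter SL2 | (χ : SL2 → ℂ) 1 = (Fintype.card F : ℂ)} ∨
       B = {χ : IrrCharacter SL2 | (χ : SL2 → ℂ) negOne = (χ : SL2 → ℂ) 1 ∧
          (χ : SL2 → ℂ) 1 ≠ (Fintype.card F : ℂ)} ∨
       B = {χ : IrrCharacter SL2 | (χ : SL2 → ℂ) negOne = -(χ : SL2 → ℂ) 1}) := by
    intro B
    constructor
    · rintro ⟨χ, rfl⟩
      by_cases hq : (χ : SL2 → ℂ) 1 = (Fintype.card F : ℂ)
      · left
        rw [hF1 χ hq]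
        exact hB1
      · rcases hF3 χ with h | h
        · right; left
          exact hB2 χ hq h
        · right; right
          exact hB3 χ h
    · rintro (rfl | rfl | rfl)
      · exact ⟨St, hB1.symm⟩
      · exact ⟨triv, (hB2 triv htrivq htrivs).symm⟩
      · exact ⟨χ₃, (hB3 χ₃ hχ₃).symm⟩
  refine ⟨hiff, ?_, ?_⟩
  · have hset : {B : Set (IrrCharacter SL2) | IsPBlock M B}
        = {{χ : IrrCharacter SL2 | (χ : SL2 → ℂ) 1 = (Fintype.card F : ℂ)},
          {χ : IrrCharacter SL2 | (χ : SL2 → ℂ) negOne = (χ : SL2 → ℂ) 1 ∧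
            (χ : SL2 → ℂ) 1 ≠ (Fintype.card F : ℂ)},
          {χ : IrrCharacter SL2 | (χ : SL2 → ℂ) negOne = -(χ : SL2 → ℂ) 1}} := by
      ext B
      rw [Set.mem_ofPred_eq, hiff B]
      simp only [Set.mem_insert_iff, Set.mem_singleton_iff]
    have h12 : {χ : IrrCharacter SL2 | (χ : SL2 → ℂ) 1 = (Fintype.card F : ℂ)}
        ≠ {χ : IrrCharacter SL2 | (χ : SL2 → ℂ) negOne = (χ : SL2 → ℂ) 1 ∧
            (χ : SL2 → ℂ) 1 ≠ (Fintype.card F : ℂ)} := by
      intro h
      have h1 : St ∈ {χ : IrrCharacter SL2 | (χ : SL2 → ℂ) 1 = (Fintype.card F : ℂ)} := hSt1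
      rw [h] at h1
      exact h1.2 hSt1
    have h13 : {χ : IrrCharacter SL2 | (χ : SL2 → ℂ) 1 = (Fintype.card F : ℂ)}
        ≠ {χ : IrrCharacter SL2 | (χ : SL2 → ℂ) negOne = -(χ : SL2 → ℂ) 1} := by
      intro h
      have h1 : St ∈ {χ : IrrCharacter SL2 | (χ : SL2 → ℂ) 1 = (Fintype.card F : ℂ)} := hSt1
      rw [h] at h1
      exact hneSt St h1 hSt1
    have h23 : {χ : IrrCharacter SL2 | (χ : SL2 → ℂ) negOne = (χ : SL2 → ℂ) 1 ∧
            (χ : SL2 → ℂ) 1 ≠ (Fintype.card F : ℂ)}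
        ≠ {χ : IrrCharacter SL2 | (χ : SL2 → ℂ) negOne = -(χ : SL2 → ℂ) 1} := by
      intro h
      have h1 : triv ∈ {χ : IrrCharacter SL2 | (χ : SL2 → ℂ) negOne = (χ : SL2 → ℂ) 1 ∧
            (χ : SL2 → ℂ) 1 ≠ (Fintype.card F : ℂ)} := ⟨htrivs, htrivq⟩
      rw [h] at h1
      have h2 : (1 : ℂ) = -1 := h1
      norm_num at h2
    change Nat.card ↥{B : Set (IrrCharacter SL2) | IsPBlock M B} = 3
    rw [Nat.card_coe_set_eq, hset]
    exact Set.ncard_eq_three.mpr ⟨_, _, _, h12, h13, h23, rfl⟩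
  · intro P
    constructor
    · apply sylow_isDefectGroup p hM _ ((hiff _).mpr (Or.inr (Or.inl rfl))) _ P
      refine ⟨triv, ⟨htrivs, htrivq⟩, ?_⟩
      have : (triv : SL2 → ℂ) 1 = ((1 : ℕ) : ℂ) := by rw [htriv1]; simp
      rw [charDegree_eq' this]
      exact hp1
    · apply sylow_isDefectGroup p hM _ ((hiff _).mpr (Or.inr (Or.inr rfl))) _ P
      obtain ⟨n, hn, hpn⟩ := hF2 χ₃ (hneSt χ₃ hχ₃)
      refine ⟨χ₃, hχ₃, ?_⟩
      rw [charDegree_eq' hn]
      exact hpn

end main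

end Cfsg.Agent.H9.SL2Blocks
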