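import Mathlib
import Cfsg.Agent.H9.SL2CuspNorm

set_option autoImplicit false

/-!
# Cyclic subgroups of order `q + 1` of SL₂(F), `q` odd, are conjugate to the standard
non-split torus
-/

namespace Cfsg.Agent.H9.SL2Chars

open Cfsg Matrix Cfsg.Agent.Lib.helper3.IndFun Cfsg.Agent.Lib.helper3.Irr
open Cfsg.Agent.H9.PrincipalSeries Cfsg.Agent.S2307 Cfsg.Agent.H9.IndConj
open Cfsg.Agent.H9.NonsplitTorus (Tn mem_Tn)
open scoped ComplexConjugate

variable {F : Type*} [Field F] [Fintype F] [DecidableEq F]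

local notation "SL2" => Matrix.SpecialLinearGroup (Fin 2) F
local notation "negOne" => (Cfsg.Agent.S2325.negOne : Matrix.SpecialLinearGroup (Fin 2) F)

omit [Fintype F] [DecidableEq F] in
/-- an element with an eigenvector is conjugate to an upper triangular element -/
theorem exists_conj_mem_Bor {g : SL2} (h : ¬ IsEll g) :
    ∃ s : SL2, s⁻¹ * g * s ∈ (Bor : Subgroup SL2) := by
  unfold IsEll at h
  push Not at h
  obtain ⟨c, v, hv, he⟩ := h
  have e0 := congrFun he 0
  have e1 := congrFun he 1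
  simp [Matrix.mulVec, dotProduct, Fin.sum_univ_two] at e0 e1
  by_cases hv0 : v 0 = 0
  · have hv1 : v 1 ≠ 0 := by
      intro h1
      apply hv
      ext i
      fin_cases i
      · exact hv0
      · exact h1
    refine ⟨ww, ?_⟩
    rw [mem_Bor, (conj_ww g).1]
    rw [hv0] at e0
    simp only [mul_zero, zero_add] at e0
    rcases mul_eq_zero.mp e0 with h | h
    · rw [h, neg_zero]
    · exact absurd h hv1
  · refine ⟨xc (v 1 / v 0), ?_⟩
    rw [mem_Bor, (conj_xc g _).1]
    field_simp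
    linear_combination (v 0) * e1 - (v 1) * e0

/-- an element with an eigenvector has order dividing `(q - 1) q` -/
theorem pow_eq_one_of_not_isEll {g : SL2} (h : ¬ IsEll g) :
    g ^ ((Fintype.card F - 1) * Fintype.card F) = 1 := by
  obtain ⟨s, hs⟩ := exists_conj_mem_Bor h
  have h1 : (⟨s⁻¹ * g * s, hs⟩ : ↥(Bor : Subgroup SL2)) ^ (Nat.card ↥(Bor : Subgroup SL2)) = 1 :=
    pow_card_eq_one'
  rw [card_Bor] at h1
  have h2 := congrArg (fun b : ↥(Bor : Subgroup SL2) => (b : SL2)) h1
  simp only [SubgroupClass.coe_pow, OneMemClass.coe_one] at h2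
  have h3 : (s⁻¹ * g * s) ^ ((Fintype.card F - 1) * Fintype.card F)
      = s⁻¹ * g ^ ((Fintype.card F - 1) * Fintype.card F) * s := by
    have := conj_pow (a := s⁻¹) (b := g) (i := (Fintype.card F - 1) * Fintype.card F)
    rw [inv_inv] at this
    exact this
  rw [h3] at h2
  calc g ^ ((Fintype.card F - 1) * Fintype.card F)
      = s * (s⁻¹ * g ^ ((Fintype.card F - 1) * Fintype.card F) * s) * s⁻¹ := by group
    _ = 1 := by rw [h2]; group

/-- elements of order `q + 1` have no eigenvectors -/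
theorem isEll_of_orderOf (hodd : Odd (Fintype.card F)) {g : SL2}
    (ho : orderOf g = Fintype.card F + 1) : IsEll g := by
  by_contra h
  have h1 := orderOf_dvd_of_pow_eq_one (pow_eq_one_of_not_isEll h)
  rw [ho] at h1
  obtain ⟨k, hk⟩ := hodd
  have hk1 : 1 ≤ k := by
    have : 2 ≤ Fintype.card F := Fintype.one_lt_card
    omega
  rw [hk] at h1
  have e1 : (2 * k + 1 - 1) * (2 * k + 1) = (2 * k + 1 + 1) * (2 * k - 1) + 2 := by
    obtain ⟨m, rfl⟩ : ∃ m, k = m + 1 := ⟨k - 1, by omega⟩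
    have : 2 * (m + 1) - 1 = 2 * m + 1 := by omega
    rw [this]
    have : 2 * (m + 1) + 1 - 1 = 2 * m + 2 := by omega
    rw [this]
    ring
  rw [e1] at h1
  have h2 : (2 * k + 1 + 1) ∣ 2 := (Nat.dvd_add_right (Dvd.intro _ rfl)).mp h1
  have := Nat.le_of_dvd (by norm_num) h2
  omega

/-- a cyclic subgroup of order `q + 1` is conjugate to the standard non-split torus -/
theorem exists_conj_torus {δ : F} (hδ : ¬ IsSquare δ) (hodd : Odd (Fintype.card F))
    (C : Subgroup SL2) (hC : IsCyclic C) (hcard : Nat.card C = Fintype.card F + 1) :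
    ∃ (s : SL2) (e : C ≃* ↥(Tn δ : Subgroup SL2)), ∀ c : C, ((e c : ↥(Tn δ : Subgroup SL2)) : SL2)
      = s * (c : SL2) * s⁻¹ := by
  classical
  obtain ⟨c₀, hc₀⟩ := hC.exists_generator
  have ho : orderOf (c₀ : SL2) = Fintype.card F + 1 := by
    rw [Subgroup.orderOf_coe, orderOf_eq_card_of_forall_mem_zpowers hc₀, hcard]
  have hell := isEll_of_orderOf hodd ho
  obtain ⟨s, hs⟩ := Cfsg.Agent.H9.NonsplitTorus.exists_conj_mem hδ hodd (c₀ : SL2) hell
  have hmem : ∀ c : C, s * (c : SL2) * s⁻¹ ∈ (Tn δ : Subgroup SL2) := by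
    intro c
    have h1 : Subgroup.zpowers (c₀ : SL2) ≤ (Tn δ : Subgroup SL2).comap (MulAut.conj s).toMonoidHom := by
      rw [Subgroup.zpowers_le]
      rw [Subgroup.mem_comap]
      exact hs
    have h2 : (c : SL2) ∈ Subgroup.zpowers (c₀ : SL2) := by
      obtain ⟨k, hk⟩ := Subgroup.mem_zpowers_iff.mp (hc₀ c)
      rw [Subgroup.mem_zpowers_iff]
      exact ⟨k, by rw [← hk]; simp⟩
    exact h1 h2
  let f : C →* ↥(Tn δ : Subgroup SL2) :=
    { toFun := fun c => ⟨s * (c : SL2) * s⁻¹, hmem c⟩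
      map_one' := by
        apply Subtype.ext
        simp
      map_mul' := by
        intro a b
        apply Subtype.ext
        simp only [Subgroup.coe_mul]
        group }
  have hinj : Function.Injective f := by
    intro a b h
    have := congrArg (fun t : ↥(Tn δ : Subgroup SL2) => (t : SL2)) h
    simp only [f, MonoidHom.coe_mk, OneHom.coe_mk] at this
    apply Subtype.ext
    have h3 : s⁻¹ * (s * (a : SL2) * s⁻¹) * s = s⁻¹ * (s * (b : SL2) * s⁻¹) * s := by rw [this]
    have e1 : s⁻¹ * (s * (a : SL2) * s⁻¹) * s = a := by group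
    have e2 : s⁻¹ * (s * (b : SL2) * s⁻¹) * s = b := by group
    rw [e1, e2] at h3
    exact h3
  obtain ⟨g₀, hg₀, hy₀⟩ := Cfsg.Agent.H9.NonsplitTorus.exists_nonscalar hδ hodd
  have hcT := Cfsg.Agent.H9.NonsplitTorus.card_Tn hδ hodd g₀ hg₀ hy₀
  haveI : Finite C := Nat.finite_of_card_ne_zero (by rw [hcard]; omega)
  have hbij : Function.Bijective f :=
    (Nat.bijective_iff_injective_and_card f).mpr ⟨hinj, by rw [hcard, hcT]⟩
  exact ⟨s, MulEquiv.ofBijective f hbij, fun c => rfl⟩

end Cfsg.Agent.H9.SL2Chars
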