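import Mathlib
import Cfsg.Agent.H9.SL2CuspGeneral
import Cfsg.Agent.S2299

set_option autoImplicit false

/-!
# Every irreducible character of degree `q - 1` of SL₂(F), `q ≥ 5` odd, comes from the
non-split torus
-/

namespace Cfsg.Agent.H9.SL2Chars

open Cfsg Matrix Cfsg.Agent.Lib.helper3.IndFun Cfsg.Agent.Lib.helper3.Irr
open Cfsg.Agent.H9.PrincipalSeries Cfsg.Agent.S2307 Cfsg.Agent.H9.IndConj
open Cfsg.Agent.H9.NonsplitTorus (Tn mem_Tn)
open scoped ComplexConjugate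

variable {F : Type*} [Field F] [Fintype F] [DecidableEq F]

local notation "SL2" => Matrix.SpecialLinearGroup (Fin 2) F
local notation "negOne" => (Cfsg.Agent.S2325.negOne : Matrix.SpecialLinearGroup (Fin 2) F)

section torus

variable {δ : F}

omit [DecidableEq F] in
/-- summation of a multiplicative character of the torus -/
theorem sum_thF (θ : ↥(Tn δ : Subgroup SL2) →* ℂˣ) [Fintype ↥(Tn δ : Subgroup SL2)] :
    ∑ t : ↥(Tn δ : Subgroup SL2), thF θ t
      = (open Classical in if θ = 1 then (Fintype.card ↥(Tn δ : Subgroup SL2) : ℂ) else 0) := by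
  classical
  have e : ((Units.coeHom ℂ).comp θ = 1) ↔ θ = 1 := by
    constructor
    · intro h1
      ext t
      have := congrArg (fun f : ↥(Tn δ : Subgroup SL2) →* ℂ => f t) h1
      simpa using this
    · rintro rfl
      ext t
      simp
  by_cases h1 : θ = 1
  · rw [if_pos h1]
    subst h1
    unfold thF
    simp
  · rw [if_neg h1]
    have h2 : (Units.coeHom ℂ).comp θ ≠ 1 := fun h => h1 (e.mp h)
    have := sum_hom_units_eq_zero ((Units.coeHom ℂ).comp θ) h2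
    exact this

/-- the character attached to `θ` determines `θ` up to inversion -/
theorem eq_or_eq_inv_of_PhiT_eq (hδ : ¬ IsSquare δ) (hodd : Odd (Fintype.card F))
    (θ θ' : ↥(Tn δ : Subgroup SL2) →* ℂˣ) (hne : ∃ t, θ' t ^ 2 ≠ 1) (ψ : AddChar F ℂ) (ν : F)
    (h : PhiT θ ψ ν = PhiT θ' ψ ν) : θ' = θ ∨ θ' = θ⁻¹ := by
  classical
  letI : Fintype ↥(Tn δ : Subgroup SL2) := Fintype.ofFinite _
  have h2 : (2 : F) ≠ 0 := Ring.two_ne_zero (ringChar_ne_two_of_odd hodd)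
  have hq1 : (Fintype.card F : ℂ) - 1 ≠ 0 := by
    have : (Fintype.card F : ℂ) ≠ 1 := by
      have : Fintype.card F ≠ 1 := by
        have : 2 ≤ Fintype.card F := Fintype.one_lt_card
        omega
      exact_mod_cast this
    exact sub_ne_zero.mpr this
  -- equality of the central signs
  have heps : eps θ = eps θ' := by
    have a1 := PhiT_neg h2 θ ψ ν 1
    have a2 := PhiT_neg h2 θ' ψ ν 1
    rw [mul_one, PhiT_one hδ hodd] at a1 a2
    rw [h, a2] at a1
    exact (mul_right_cancel₀ hq1 a1).symm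
  -- equality of the symmetrized characters
  have hf : ∀ t : ↥(Tn δ : Subgroup SL2),
      thF θ t + thF θ t⁻¹ = thF θ' t + thF θ' t⁻¹ := by
    intro t
    by_cases hy : (t : SL2).1 1 0 = 0
    · rcases eq_one_or_negOne_of_mem_Tn t.2 hy with e | e
      · have ht : t = 1 := Subtype.ext e
        rw [ht, inv_one]
        unfold thF
        simp
      · have ht : t = ⟨negOne, negOne_mem_Tn⟩ := Subtype.ext e
        have hinv : (⟨negOne, negOne_mem_Tn⟩ : ↥(Tn δ : Subgroup SL2))⁻¹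
            = ⟨negOne, negOne_mem_Tn⟩ := by
          rw [inv_eq_iff_mul_eq_one]
          apply Subtype.ext
          exact Cfsg.Agent.S2508.negOne_mul_negOne
        rw [ht, hinv]
        change eps θ + eps θ = eps θ' + eps θ'
        rw [heps]
    · have a1 := PhiT_torus hδ hodd θ ψ ν (t : SL2) t.2 hy
      have a2 := PhiT_torus hδ hodd θ' ψ ν (t : SL2) t.2 hy
      rw [h, a2] at a1
      have e1 : (⟨(t : SL2), t.2⟩ : ↥(Tn δ : Subgroup SL2)) = t := rfl
      have e2 : (⟨(t : SL2)⁻¹, (Tn δ).inv_mem t.2⟩ : ↥(Tn δ : Subgroup SL2)) = t⁻¹ := rfl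
      rw [e1, e2] at a1
      linear_combination a1
  -- orthogonality
  have hsum : ∑ t : ↥(Tn δ : Subgroup SL2), (thF θ t + thF θ t⁻¹) * thF θ' t⁻¹
      = ∑ t : ↥(Tn δ : Subgroup SL2), (thF θ' t + thF θ' t⁻¹) * thF θ' t⁻¹ := by
    apply Finset.sum_congr rfl
    intro t _
    rw [hf t]
  have hinvθ : ∀ (η : ↥(Tn δ : Subgroup SL2) →* ℂˣ) (t : ↥(Tn δ : Subgroup SL2)),
      thF η t⁻¹ = thF η⁻¹ t := by
    intro η t
    unfold thF
    rw [map_inv, MonoidHom.inv_apply]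
  have hmulθ : ∀ (η₁ η₂ : ↥(Tn δ : Subgroup SL2) →* ℂˣ) (t : ↥(Tn δ : Subgroup SL2)),
      thF η₁ t * thF η₂ t = thF (η₁ * η₂) t := by
    intro η₁ η₂ t
    unfold thF
    rw [MonoidHom.mul_apply, Units.val_mul]
  have hL : ∑ t : ↥(Tn δ : Subgroup SL2), (thF θ t + thF θ t⁻¹) * thF θ' t⁻¹
      = ∑ t : ↥(Tn δ : Subgroup SL2), thF (θ * θ'⁻¹) t
        + ∑ t : ↥(Tn δ : Subgroup SL2), thF (θ⁻¹ * θ'⁻¹) t := by
    rw [← Finset.sum_add_distrib]
    apply Finset.sum_congr rfl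
    intro t _
    rw [add_mul, hinvθ θ' t, hinvθ θ t, hmulθ, hmulθ]
  have hR : ∑ t : ↥(Tn δ : Subgroup SL2), (thF θ' t + thF θ' t⁻¹) * thF θ' t⁻¹
      = ∑ t : ↥(Tn δ : Subgroup SL2), thF (θ' * θ'⁻¹) t
        + ∑ t : ↥(Tn δ : Subgroup SL2), thF (θ'⁻¹ * θ'⁻¹) t := by
    rw [← Finset.sum_add_distrib]
    apply Finset.sum_congr rfl
    intro t _
    rw [add_mul, hinvθ θ' t, hmulθ, hmulθ]
  rw [hL, hR, sum_thF, sum_thF, sum_thF, sum_thF] at hsum
  have hcard : (Fintype.card ↥(Tn δ : Subgroup SL2) : ℂ) ≠ 0 := by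
    have : Fintype.card ↥(Tn δ : Subgroup SL2) ≠ 0 := Fintype.card_ne_zero
    exact_mod_cast this
  have hn1 : ¬ (θ'⁻¹ * θ'⁻¹ = 1) := by
    intro h1
    obtain ⟨t, ht⟩ := hne
    apply ht
    have := congrArg (fun f : ↥(Tn δ : Subgroup SL2) →* ℂˣ => f t) h1
    simp only [MonoidHom.mul_apply, MonoidHom.inv_apply, MonoidHom.one_apply] at this
    rw [pow_two]
    have h3 : (θ' t * θ' t)⁻¹ = 1 := by rw [mul_inv]; exact this
    exact inv_eq_one.mp h3
  rw [if_pos (mul_inv_cancel θ'), if_neg hn1, add_zero] at hsum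
  by_cases h1 : θ * θ'⁻¹ = 1
  · left
    exact (mul_inv_eq_one.mp h1).symm
  · rw [if_neg h1, zero_add] at hsum
    by_cases h3 : θ⁻¹ * θ'⁻¹ = 1
    · right
      ext t
      have h4 := congrArg (fun f : ↥(Tn δ : Subgroup SL2) →* ℂˣ => f t) h3
      simp only [MonoidHom.mul_apply, MonoidHom.inv_apply, MonoidHom.one_apply] at h4
      rw [MonoidHom.inv_apply]
      have h5 : (θ' t)⁻¹ = θ t := by
        have := inv_mul_eq_one.mp h4
        exact this.symm
      rw [← h5, inv_inv]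
    · rw [if_neg h3] at hsum
      exact absurd hsum.symm hcard

omit [DecidableEq F] in
/-- the number of characters of the torus -/
theorem card_hom_Tn (hδ : ¬ IsSquare δ) (hodd : Odd (Fintype.card F)) :
    Nat.card (↥(Tn δ : Subgroup SL2) →* ℂˣ) = Fintype.card F + 1 := by
  letI : CommGroup ↥(Tn δ : Subgroup SL2) :=
    { (inferInstance : Group ↥(Tn δ : Subgroup SL2)) with
      mul_comm := fun a b => Subtype.ext
        (Cfsg.Agent.H9.NonsplitTorus.Tn_comm δ a b a.2 b.2) }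
  haveI : NeZero (Monoid.exponent ↥(Tn δ : Subgroup SL2)) :=
    ⟨Monoid.exponent_ne_zero_of_finite⟩
  rw [CommGroup.card_monoidHom_of_hasEnoughRootsOfUnity ↥(Tn δ : Subgroup SL2) ℂ]
  obtain ⟨g, hg, hy⟩ := Cfsg.Agent.H9.NonsplitTorus.exists_nonscalar hδ hodd
  exact Cfsg.Agent.H9.NonsplitTorus.card_Tn hδ hodd g hg hy

omit [DecidableEq F] in
/-- at most two characters of the torus have trivial square -/
theorem card_sq_trivial_le (hδ : ¬ IsSquare δ)
    [Fintype (↥(Tn δ : Subgroup SL2) →* ℂˣ)] [DecidablePred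
      (fun θ : ↥(Tn δ : Subgroup SL2) →* ℂˣ => ∃ t, θ t ^ 2 ≠ 1)] :
    (Finset.univ.filter (fun θ : ↥(Tn δ : Subgroup SL2) →* ℂˣ => ¬ ∃ t, θ t ^ 2 ≠ 1)).card
      ≤ 2 := by
  classical
  haveI := Cfsg.Agent.H9.NonsplitTorus.isCyclic_Tn (F := F) hδ
  obtain ⟨t₀, ht₀⟩ := IsCyclic.exists_generator (α := ↥(Tn δ : Subgroup SL2))
  have hle : (Finset.univ.filter
      (fun θ : ↥(Tn δ : Subgroup SL2) →* ℂˣ => ¬ ∃ t, θ t ^ 2 ≠ 1)).card
      ≤ ({1, -1} : Finset ℂˣ).card := by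
    apply Finset.card_le_card_of_injOn (fun θ => θ t₀)
    · intro θ hθ
      have hθ' : ¬ ∃ t, θ t ^ 2 ≠ 1 := (Finset.mem_filter.mp hθ).2
      push Not at hθ'
      have h1 := hθ' t₀
      have h2 : ((θ t₀ : ℂˣ) : ℂ) * ((θ t₀ : ℂˣ) : ℂ) = 1 := by
        rw [← Units.val_mul, ← pow_two, h1, Units.val_one]
      rcases mul_self_eq_one_iff.mp h2 with h | h
      · have : θ t₀ = 1 := Units.ext (by rw [h, Units.val_one])
        simp [this]
      · have : θ t₀ = -1 := Units.ext (by rw [h, Units.val_neg, Units.val_one])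
        simp [this]
    · intro θ _ θ' _ h
      ext t
      obtain ⟨k, rfl⟩ := Subgroup.mem_zpowers_iff.mp (ht₀ t)
      have h' : θ t₀ = θ' t₀ := h
      rw [map_zpow, map_zpow, h']
  exact hle.trans Finset.card_le_two

omit [DecidableEq F] in
/-- there are at least `q - 1` characters of the torus with non-trivial square -/
theorem card_sq_nontrivial_ge (hδ : ¬ IsSquare δ) (hodd : Odd (Fintype.card F))
    [Fintype (↥(Tn δ : Subgroup SL2) →* ℂˣ)] [DecidablePred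
      (fun θ : ↥(Tn δ : Subgroup SL2) →* ℂˣ => ∃ t, θ t ^ 2 ≠ 1)] :
    Fintype.card F - 1 ≤
      (Finset.univ.filter (fun θ : ↥(Tn δ : Subgroup SL2) →* ℂˣ => ∃ t, θ t ^ 2 ≠ 1)).card := by
  have h1 := Finset.card_filter_add_card_filter_not (s := (Finset.univ :
    Finset (↥(Tn δ : Subgroup SL2) →* ℂˣ))) (fun θ => ∃ t, θ t ^ 2 ≠ 1)
  have h2 := card_sq_trivial_le (F := F) hδ
  have h3 := card_hom_Tn (F := F) hδ hodd
  rw [Nat.card_eq_fintype_card] at h3
  rw [Finset.card_univ, h3] at h1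
  omega

/-- every irreducible character of degree `q - 1`, `q ≥ 5`, is attached to a character of the
torus -/
theorem exists_theta_of_degree (hδ : ¬ IsSquare δ) (hodd : Odd (Fintype.card F))
    (hq : 5 ≤ Fintype.card F) (ψ : AddChar F ℂ) (hψ : ψ.IsPrimitive) {ν : F}
    (hν : quadraticChar F ν = -1) (χ : SL2 → ℂ) (hχ : IsIrrCharacter SL2 χ)
    (hdeg : χ 1 = (Fintype.card F : ℂ) - 1) :
    ∃ θ : ↥(Tn δ : Subgroup SL2) →* ℂˣ, (∃ t, θ t ^ 2 ≠ 1) ∧ χ = PhiT θ ψ ν := by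
  classical
  haveI : Finite (↥(Tn δ : Subgroup SL2) →* ℂˣ) := by
    apply Nat.finite_of_card_ne_zero
    rw [card_hom_Tn hδ hodd]
    omega
  letI : Fintype (↥(Tn δ : Subgroup SL2) →* ℂˣ) := Fintype.ofFinite _
  set A := Finset.univ.filter (fun θ : ↥(Tn δ : Subgroup SL2) →* ℂˣ => ∃ t, θ t ^ 2 ≠ 1)
    with hA
  have hAcard : Fintype.card F - 1 ≤ A.card := card_sq_nontrivial_ge hδ hodd
  by_contra hcon
  push Not at hcon
  -- the characters of degree `q - 1`
  let D := {a : IrrCharacter SL2 // (a : SL2 → ℂ) 1 = (Fintype.card F : ℂ) - 1}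
  have hD : Nat.card D = (Fintype.card F - 1) / 2 := ((Cfsg.Agent.S2299.result hodd).2 hq).2.2.2.1
  letI : Fintype D := Fintype.ofFinite _
  rw [Nat.card_eq_fintype_card] at hD
  let f : (↥(Tn δ : Subgroup SL2) →* ℂˣ) → (SL2 → ℂ) := fun θ => PhiT θ ψ ν
  let Dset : Finset (SL2 → ℂ) := (Finset.univ : Finset D).image (fun d => (d.1 : SL2 → ℂ))
  have hDset : Dset.card = (Fintype.card F - 1) / 2 := by
    rw [Finset.card_image_of_injective, Finset.card_univ, hD]
    intro a b hab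
    exact Subtype.ext (Subtype.ext hab)
  have hχD : χ ∈ Dset := by
    apply Finset.mem_image.mpr
    exact ⟨⟨⟨χ, hχ⟩, hdeg⟩, Finset.mem_univ _, rfl⟩
  have himg : A.image f ⊆ Dset.erase χ := by
    intro a ha
    obtain ⟨θ, hθ, rfl⟩ := Finset.mem_image.mp ha
    have hne : ∃ t, θ t ^ 2 ≠ 1 := (Finset.mem_filter.mp hθ).2
    apply Finset.mem_erase.mpr
    refine ⟨fun h => hcon θ hne h.symm, ?_⟩
    apply Finset.mem_image.mpr
    exact ⟨⟨⟨PhiT θ ψ ν, PhiT_isIrr hδ hodd θ hne ψ hψ hν⟩, PhiT_one hδ hodd θ ψ ν⟩,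
      Finset.mem_univ _, rfl⟩
  have hfib : ∀ a ∈ A.image f, (A.filter (fun x => f x = a)).card ≤ 2 := by
    intro a ha
    obtain ⟨θ, hθ, rfl⟩ := Finset.mem_image.mp ha
    have hsub : A.filter (fun x => f x = f θ) ⊆ {θ, θ⁻¹} := by
      intro θ' hθ'
      obtain ⟨h1, h2⟩ := Finset.mem_filter.mp hθ'
      have hne' : ∃ t, θ' t ^ 2 ≠ 1 := (Finset.mem_filter.mp h1).2
      rcases eq_or_eq_inv_of_PhiT_eq hδ hodd θ θ' hne' ψ ν h2.symm with h | h
      · rw [h]; simp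
      · rw [h]; simp
    exact (Finset.card_le_card hsub).trans Finset.card_le_two
  have h1 := Finset.card_le_mul_card_image A 2 hfib
  have h2 := Finset.card_le_card himg
  rw [Finset.card_erase_of_mem hχD, hDset] at h2
  omega

/-- every irreducible character of degree `q - 1` has the values of a cuspidal character on
the non-split torus -/
theorem exists_theta_torus_values (hδ : ¬ IsSquare δ) (hodd : Odd (Fintype.card F))
    (χ : SL2 → ℂ) (hχ : IsIrrCharacter SL2 χ) (hdeg : χ 1 = (Fintype.card F : ℂ) - 1) :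
    ∃ θ : ↥(Tn δ : Subgroup SL2) →* ℂˣ, (∃ t, θ t ^ 2 ≠ 1) ∧
      ∀ (t : SL2) (ht : t ∈ (Tn δ : Subgroup SL2)), t.1 1 0 ≠ 0 →
        χ t = -(thF θ ⟨t, ht⟩ + thF θ ⟨t⁻¹, (Tn δ).inv_mem ht⟩) := by
  classical
  set ψ := AddChar.FiniteField.primitiveChar_to_Complex F with hψdef
  have hψ : ψ.IsPrimitive := AddChar.FiniteField.primitiveChar_to_Complex_isPrimitive F
  obtain ⟨ν, hν⟩ := exists_nonsquare (F := F) hodd
  by_cases hq : 5 ≤ Fintype.card F
  · obtain ⟨θ, hne, rfl⟩ := exists_theta_of_degree hδ hodd hq ψ hψ hν χ hχ hdeg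
    exact ⟨θ, hne, fun t ht hy => PhiT_torus hδ hodd θ ψ ν t ht hy⟩
  · have hq3 : Fintype.card F = 3 := by
      have h1 : 2 ≤ Fintype.card F := Fintype.one_lt_card
      obtain ⟨k, hk⟩ := hodd
      omega
    obtain ⟨H⟩ := exists_halves (F := F) hodd
    haveI : Finite (↥(Tn δ : Subgroup SL2) →* ℂˣ) := by
      apply Nat.finite_of_card_ne_zero
      rw [card_hom_Tn hδ hodd]
      omega
    letI : Fintype (↥(Tn δ : Subgroup SL2) →* ℂˣ) := Fintype.ofFinite _
    have hAcard := card_sq_nontrivial_ge (F := F) hδ hodd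
    rw [hq3] at hAcard
    have hpos : 0 < (Finset.univ.filter
        (fun θ : ↥(Tn δ : Subgroup SL2) →* ℂˣ => ∃ t, θ t ^ 2 ≠ 1)).card := by omega
    obtain ⟨θ, hθ⟩ := Finset.card_pos.mp hpos
    have hne : ∃ t, θ t ^ 2 ≠ 1 := (Finset.mem_filter.mp hθ).2
    refine ⟨θ, hne, ?_⟩
    intro t ht hy
    have hell : IsEll t := isEll_of_mem_Tn hδ ht hy
    have hd2 : χ 1 = 2 := by rw [hdeg, hq3]; norm_num
    have hd2' : PhiT θ ψ ν 1 = 2 := by rw [PhiT_one hδ hodd, hq3]; norm_num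
    rw [← PhiT_torus hδ hodd θ ψ ν t ht hy, deg_two_ell_q3 H hq3 hχ hd2 hell,
      deg_two_ell_q3 H hq3 (PhiT_isIrr hδ hodd θ hne ψ hψ hν) hd2' hell]

end torus

end Cfsg.Agent.H9.SL2Chars
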