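import Mathlib
import Cfsg.Agent.H9.SL2CuspCount
import Cfsg.Agent.Lib.helper3.NormTwo

set_option autoImplicit false

/-!
# The two characters of degree `(q - 1) / 2` of SL₂(F), `q ≥ 5` odd, at elements without
eigenvectors
-/

namespace Cfsg.Agent.H9.SL2Chars

open Cfsg Matrix Cfsg.Agent.Lib.helper3.IndFun Cfsg.Agent.Lib.helper3.Irr
open Cfsg.Agent.H9.PrincipalSeries Cfsg.Agent.S2307 Cfsg.Agent.H9.IndConj
open Cfsg.Agent.H9.NonsplitTorus (Tn mem_Tn)
open scoped ComplexConjugate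

section general

variable {G : Type*} [Group G] [Fintype G]

/-- A generalized character of norm two is a signed sum of two distinct irreducible
characters. -/
theorem exists_of_norm_two {θ : G → ℂ} (hθ : IsGeneralizedCharacter G θ)
    (hnorm : classInner θ θ = 2) :
    ∃ a b : IrrCharacter G, a ≠ b ∧ (θ = (a : G → ℂ) + (b : G → ℂ) ∨
      θ = (a : G → ℂ) - (b : G → ℂ) ∨ θ = -(a : G → ℂ) - (b : G → ℂ)) := by
  classical
  obtain ⟨z, rfl⟩ := exists_int_decomposition hθ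
  rw [classInner_int_decomposition] at hnorm
  have hz : ∑ ψ : IrrCharacter G, z ψ ^ 2 = 2 := by
    have : ((∑ ψ : IrrCharacter G, z ψ * z ψ : ℤ) : ℂ) = ((2 : ℤ) : ℂ) := by
      rw [hnorm]; norm_num
    have h2 : ∑ ψ : IrrCharacter G, z ψ * z ψ = 2 := by exact_mod_cast this
    rw [← h2]
    apply Finset.sum_congr rfl
    intro ψ _
    ring
  obtain ⟨a, b, hab, ha, hb, hrest⟩ := int_sq_sum_two z hz
  have hsum : ∑ ψ : IrrCharacter G, (z ψ : ℂ) • (ψ : G → ℂ)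
      = (z a : ℂ) • (a : G → ℂ) + (z b : ℂ) • (b : G → ℂ) := by
    rw [← Finset.add_sum_erase Finset.univ _ (Finset.mem_univ a)]
    congr 1
    rw [← Finset.add_sum_erase _ _ (Finset.mem_erase.mpr ⟨hab.symm, Finset.mem_univ b⟩)]
    rw [Finset.sum_eq_zero, add_zero]
    intro c hc
    have hcb : c ≠ b := (Finset.mem_erase.mp hc).1
    have hca : c ≠ a := (Finset.mem_erase.mp (Finset.mem_erase.mp hc).2).1
    rw [hrest c hca hcb, Int.cast_zero, zero_smul]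
  rw [hsum]
  rcases ha with ha | ha <;> rcases hb with hb | hb
  · refine ⟨a, b, hab, Or.inl ?_⟩
    rw [ha, hb]
    simp
  · refine ⟨a, b, hab, Or.inr (Or.inl ?_)⟩
    rw [ha, hb]
    simp [sub_eq_add_neg]
  · refine ⟨b, a, hab.symm, Or.inr (Or.inl ?_)⟩
    rw [ha, hb]
    simp [sub_eq_add_neg, add_comm]
  · refine ⟨a, b, hab, Or.inr (Or.inr ?_)⟩
    rw [ha, hb]
    simp [sub_eq_add_neg]

end general

variable {F : Type*} [Field F] [Fintype F] [DecidableEq F]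

local notation "SL2" => Matrix.SpecialLinearGroup (Fin 2) F
local notation "negOne" => (Cfsg.Agent.S2325.negOne : Matrix.SpecialLinearGroup (Fin 2) F)

/-- the table of the multiplicities of the characters of `U` in the irreducible characters -/
theorem NN_table (H : Halves F) (hodd : Odd (Fintype.card F)) (ψ : AddChar F ℂ)
    (hψ : ψ.IsPrimitive) {ν : F} (hν : quadraticChar F ν = -1) {χ : SL2 → ℂ}
    (hχ : IsIrrCharacter SL2 χ) :
    (NN ψ χ 1 = 0 ∨ NN ψ χ 1 = 1) ∧ (NN ψ χ ν = 0 ∨ NN ψ χ ν = 1) ∧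
    (NN ψ χ 1 = 0 → NN ψ χ ν = 0 → χ = fun _ => 1) ∧
    (NN ψ χ 0 = 1 → NN ψ χ 1 = 1 → NN ψ χ ν = 1 → χ = StSL) := by
  have hν0 : ν ≠ 0 := by
    intro h
    rw [h, quadraticChar_zero] at hν
    norm_num at hν
  have h10 : (1 : F) ≠ 0 := one_ne_zero
  have e01 : (0 : ℂ) ≠ 1 := zero_ne_one
  have e10 : (1 : ℂ) ≠ 0 := one_ne_zero
  have e21 : (2 : ℂ) ≠ 1 := by norm_num
  rcases degree_nat_type H hodd ψ hψ hν hχ with h | h | h | h | h | h
  · obtain ⟨rfl, -⟩ := h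
    rw [NN_one ψ hψ 1 h10, NN_one ψ hψ ν hν0]
    exact ⟨Or.inl rfl, Or.inl rfl, fun _ _ => rfl, fun _ h => absurd h e01⟩
  · obtain ⟨rfl, -⟩ := h
    rw [NN_St ψ hψ 1 h10, NN_St ψ hψ ν hν0]
    exact ⟨Or.inr rfl, Or.inr rfl, fun h => absurd h e10, fun _ _ _ => rfl⟩
  · obtain ⟨hh, hd⟩ := h
    have hn0 : NN ψ χ 0 = 1 := by
      rcases hh with rfl | rfl
      · exact (halves_n0 H ψ).1
      · exact (halves_n0 H ψ).2
    rcases half_type hodd ψ hψ hν (isCharacter_of_isIrrCharacter hχ) hn0 hd with h | h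
    · rw [h.1, h.2]
      exact ⟨Or.inr rfl, Or.inl rfl, fun h => absurd h e10, fun _ _ h => absurd h e01⟩
    · rw [h.1, h.2]
      exact ⟨Or.inl rfl, Or.inr rfl, fun _ h => absurd h e10, fun _ h => absurd h e01⟩
  · obtain ⟨⟨α, -, rfl⟩, -⟩ := h
    rw [NN_R ψ hψ α 1 h10, NN_R ψ hψ α ν hν0, NN_R_zero]
    exact ⟨Or.inr rfl, Or.inr rfl, fun h => absurd h e10, fun h => absurd h e21⟩
  · obtain ⟨⟨-, h0, h1, h2⟩, -⟩ := h
    rw [h0, h1, h2]
    exact ⟨Or.inr rfl, Or.inr rfl, fun h => absurd h e10, fun h => absurd h e01⟩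
  · obtain ⟨⟨-, h0, h12⟩, -⟩ := h
    rcases h12 with h | h
    · rw [h0, h.1, h.2]
      exact ⟨Or.inr rfl, Or.inl rfl, fun h => absurd h e10, fun h => absurd h e01⟩
    · rw [h0, h.1, h.2]
      exact ⟨Or.inl rfl, Or.inr rfl, fun _ h => absurd h e10, fun h => absurd h e01⟩

section torus

variable {δ : F}

/-- the multiplicities of the characters of `U` in the cuspidal generalized characters -/
theorem NN_PhiT (hδ : ¬ IsSquare δ) (hodd : Odd (Fintype.card F))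
    (θ : ↥(Tn δ : Subgroup SL2) →* ℂˣ) (ψ : AddChar F ℂ) (hψ : ψ.IsPrimitive) {ν : F}
    (hν : quadraticChar F ν = -1) (c : F) :
    NN ψ (PhiT θ ψ ν) c = if c = 0 then 0 else 1 := by
  have hq : (Fintype.card F : ℂ) ≠ 0 := by
    exact_mod_cast Fintype.card_ne_zero
  unfold NN
  have h1 : ∑ b : F, conj (ψ (c * b)) = if c = 0 then (Fintype.card F : ℂ) else 0 := by
    have := AddChar.sum_mulShift c hψ
    rw [← map_sum]
    simp_rw [mul_comm c]
    rw [this]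
    split_ifs <;> simp
  have h2 : ∑ b : F, PhiT θ ψ ν (uu b) * conj (ψ (c * b))
      = -(∑ b : F, conj (ψ (c * b))) + (Fintype.card F : ℂ) := by
    simp_rw [PhiT_uu' hδ hodd θ ψ hψ hν, add_mul, ite_mul, zero_mul]
    rw [Finset.sum_add_distrib, Finset.sum_ite_eq' Finset.univ (0 : F)]
    simp
  rw [h2, h1]
  split_ifs
  · simp
  · field_simp
    ring

/-- the quadratic character of the non-split torus -/
theorem exists_quad_char (hδ : ¬ IsSquare δ) (hodd : Odd (Fintype.card F)) :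
    ∃ θ₀ : ↥(Tn δ : Subgroup SL2) →* ℂˣ, (∀ t, θ₀ t ^ 2 = 1) ∧
      (∃ t₁ : ↥(Tn δ : Subgroup SL2), θ₀ t₁ = -1 ∧ (t₁ : SL2).1 1 0 ≠ 0) ∧
      ∀ t : ↥(Tn δ : Subgroup SL2), (θ₀ t = 1 ↔ t ^ ((Fintype.card F + 1) / 2) = 1) ∧
        (θ₀ t ≠ 1 → θ₀ t = -1) := by
  classical
  haveI := Cfsg.Agent.H9.NonsplitTorus.isCyclic_Tn (F := F) hδ
  obtain ⟨t₀, ht₀⟩ := IsCyclic.exists_generator (α := ↥(Tn δ : Subgroup SL2))
  obtain ⟨g, hg, hy⟩ := Cfsg.Agent.H9.NonsplitTorus.exists_nonscalar hδ hodd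
  have hcard := Cfsg.Agent.H9.NonsplitTorus.card_Tn hδ hodd g hg hy
  have ho : orderOf t₀ = Fintype.card F + 1 := by
    rw [orderOf_eq_card_of_forall_mem_zpowers ht₀, hcard]
  obtain ⟨k, hk⟩ := hodd
  have hm : (Fintype.card F + 1) / 2 = k + 1 := by omega
  have ho' : orderOf t₀ = 2 * (k + 1) := by rw [ho, hk]; ring
  have hneg : (-1 : ℂˣ) ≠ 1 := by
    intro h
    have := congrArg Units.val h
    rw [Units.val_neg, Units.val_one] at this
    norm_num at this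
  have ho2 : orderOf (-1 : ℂˣ) ∣ orderOf t₀ := by
    rw [ho']
    apply dvd_mul_of_dvd_left
    apply orderOf_dvd_of_pow_eq_one
    simp
  set θ₀ : ↥(Tn δ : Subgroup SL2) →* ℂˣ := monoidHomOfForallMemZpowers ht₀ ho2 with hθ₀
  have hgen : θ₀ t₀ = -1 := monoidHomOfForallMemZpowers_apply_gen ht₀ ho2
  have hpow : ∀ t : ↥(Tn δ : Subgroup SL2), ∃ n : ℕ, t = t₀ ^ n := by
    intro t
    have h1 := ht₀ t
    rw [← mem_powers_iff_mem_zpowers] at h1
    obtain ⟨n, hn⟩ := (Submonoid.mem_powers_iff _ _).mp h1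
    exact ⟨n, hn.symm⟩
  refine ⟨θ₀, ?_, ?_, ?_⟩
  · intro t
    obtain ⟨n, rfl⟩ := hpow t
    rw [map_pow, hgen, ← pow_mul, mul_comm, pow_mul]
    simp
  · refine ⟨t₀, hgen, ?_⟩
    intro hy0
    have hsq1 : t₀ ^ 2 = 1 := by
      rcases eq_one_or_negOne_of_mem_Tn t₀.2 hy0 with e | e
      · have : t₀ = 1 := Subtype.ext e
        rw [this, one_pow]
      · apply Subtype.ext
        rw [SubgroupClass.coe_pow, e, pow_two, Cfsg.Agent.S2508.negOne_mul_negOne]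
        rfl
    have h3 := orderOf_dvd_of_pow_eq_one hsq1
    rw [ho'] at h3
    have h4 := Nat.le_of_dvd (by norm_num) h3
    have h5 : 2 ≤ Fintype.card F := Fintype.one_lt_card
    omega
  · intro t
    obtain ⟨n, rfl⟩ := hpow t
    rw [map_pow, hgen, hm]
    refine ⟨?_, ?_⟩
    · rw [neg_one_pow_eq_one_iff_even hneg, ← pow_mul, ← orderOf_dvd_iff_pow_eq_one, ho']
      constructor
      · rintro ⟨j, rfl⟩
        exact ⟨j, by ring⟩
      · rintro ⟨j, hj⟩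
        have : n * (k + 1) = (2 * j) * (k + 1) := by rw [hj]; ring
        have := Nat.eq_of_mul_eq_mul_right (by omega) this
        exact ⟨j, by omega⟩
    · intro h
      rcases Nat.even_or_odd n with he | ho3
      · exact absurd he.neg_one_pow h
      · exact ho3.neg_one_pow

/-- the cuspidal generalized character attached to the quadratic character of the torus is
the sum of the two irreducible characters of degree `(q - 1) / 2` -/
theorem PhiT_quad_decomp (H : Halves F) (hδ : ¬ IsSquare δ) (hodd : Odd (Fintype.card F))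
    (θ₀ : ↥(Tn δ : Subgroup SL2) →* ℂˣ) (hsq : ∀ t, θ₀ t ^ 2 = 1)
    (hex : ∃ t₁ : ↥(Tn δ : Subgroup SL2), θ₀ t₁ = -1 ∧ (t₁ : SL2).1 1 0 ≠ 0)
    (ψ : AddChar F ℂ) (hψ : ψ.IsPrimitive) {ν : F} (hν : quadraticChar F ν = -1) :
    ∃ a b : IrrCharacter SL2, a ≠ b ∧
      (a : SL2 → ℂ) 1 = (((Fintype.card F - 1) / 2 : ℕ) : ℂ) ∧
      (b : SL2 → ℂ) 1 = (((Fintype.card F - 1) / 2 : ℕ) : ℂ) ∧
      ((NN ψ (a : SL2 → ℂ) 1 = 1 ∧ NN ψ (a : SL2 → ℂ) ν = 0) ∨
        (NN ψ (a : SL2 → ℂ) 1 = 0 ∧ NN ψ (a : SL2 → ℂ) ν = 1)) ∧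
      PhiT θ₀ ψ ν = (a : SL2 → ℂ) + (b : SL2 → ℂ) := by
  classical
  letI : Fintype ↥(Tn δ : Subgroup SL2) := Fintype.ofFinite _
  have h2 : (2 : F) ≠ 0 := Ring.two_ne_zero (ringChar_ne_two_of_odd hodd)
  have hν0 : ν ≠ 0 := by
    intro h
    rw [h, quadraticChar_zero] at hν
    norm_num at hν
  have hq1 : (Fintype.card F : ℂ) + 1 ≠ 0 := by
    have : ((Fintype.card F + 1 : ℕ) : ℂ) ≠ 0 :=
      Nat.cast_ne_zero.mpr (Nat.succ_ne_zero (Fintype.card F))
    simpa using this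
  have hnorm : classInner (PhiT θ₀ ψ ν) (PhiT θ₀ ψ ν) = 2 := by
    rw [norm_PhiT hδ hodd θ₀ ψ hψ hν, sum_thF_sq_of_eq θ₀ hsq, card_Tn_cast hδ hodd,
      div_self hq1]
    norm_num
  obtain ⟨a, b, hab, hdec⟩ :=
    exists_of_norm_two (PhiT_isGeneralizedCharacter h2 θ₀ ψ ν) hnorm
  have hN0 : NN ψ (PhiT θ₀ ψ ν) 0 = 0 := by rw [NN_PhiT hδ hodd θ₀ ψ hψ hν, if_pos rfl]
  have hN1 : NN ψ (PhiT θ₀ ψ ν) 1 = 1 := by
    rw [NN_PhiT hδ hodd θ₀ ψ hψ hν, if_neg one_ne_zero]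
  have hNν : NN ψ (PhiT θ₀ ψ ν) ν = 1 := by rw [NN_PhiT hδ hodd θ₀ ψ hψ hν, if_neg hν0]
  have ha := NN_table H hodd ψ hψ hν a.2
  have hb := NN_table H hodd ψ hψ hν b.2
  have hca := isCharacter_of_isIrrCharacter a.2
  have hcb := isCharacter_of_isIrrCharacter b.2
  obtain ⟨na, hna⟩ := NN_nat ψ hca 0
  obtain ⟨nb, hnb⟩ := NN_nat ψ hcb 0
  have e01 : (0 : ℂ) ≠ 1 := zero_ne_one
  have e10 : (1 : ℂ) ≠ 0 := one_ne_zero
  rcases hdec with hdec | hdec | hdec
  · -- the sum of two characters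
    rw [hdec, NN_add] at hN0 hN1 hNν
    have hn0 : na = 0 ∧ nb = 0 := by
      rw [hna, hnb] at hN0
      have : na + nb = 0 := by exact_mod_cast hN0
      omega
    have ha0 : NN ψ (a : SL2 → ℂ) 0 = 0 := by rw [hna, hn0.1, Nat.cast_zero]
    have hb0 : NN ψ (b : SL2 → ℂ) 0 = 0 := by rw [hnb, hn0.2, Nat.cast_zero]
    have htriv : NN ψ (fun _ : SL2 => (1 : ℂ)) 0 = 1 := NN_one_zero ψ
    have hcfa := isClassFunction_of_isCharacter hca
    have hcfb := isClassFunction_of_isCharacter hcb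
    have hda := (cusp_degree_SL hodd ψ hψ hν hcfa ha0).2
    have hdb := (cusp_degree_SL hodd ψ hψ hν hcfb hb0).2
    rcases ha.1 with a1 | a1 <;> rcases ha.2.1 with a2 | a2
    · exfalso
      have := ha.2.2.1 a1 a2
      rw [this, htriv] at ha0
      exact e10 ha0
    · have b1 : NN ψ (b : SL2 → ℂ) 1 = 1 := by rw [a1, zero_add] at hN1; exact hN1
      have b2 : NN ψ (b : SL2 → ℂ) ν = 0 := by
        rw [a2] at hNν; linear_combination hNν
      exact ⟨a, b, hab, hda (Or.inr ⟨a1, a2⟩), hdb (Or.inl ⟨b1, b2⟩), Or.inr ⟨a1, a2⟩, hdec⟩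
    · have b1 : NN ψ (b : SL2 → ℂ) 1 = 0 := by rw [a1] at hN1; linear_combination hN1
      have b2 : NN ψ (b : SL2 → ℂ) ν = 1 := by
        rw [a2, zero_add] at hNν; exact hNν
      exact ⟨a, b, hab, hda (Or.inl ⟨a1, a2⟩), hdb (Or.inr ⟨b1, b2⟩), Or.inl ⟨a1, a2⟩, hdec⟩
    · exfalso
      have b1 : NN ψ (b : SL2 → ℂ) 1 = 0 := by rw [a1] at hN1; linear_combination hN1
      have b2 : NN ψ (b : SL2 → ℂ) ν = 0 := by rw [a2] at hNν; linear_combination hNν
      have := hb.2.2.1 b1 b2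
      rw [this, htriv] at hb0
      exact e10 hb0
  · -- a difference of two characters: only `St - 1` is possible
    exfalso
    have hdec' : (a : SL2 → ℂ) = PhiT θ₀ ψ ν + (b : SL2 → ℂ) := by rw [hdec]; ring
    have k0 := NN_add ψ (PhiT θ₀ ψ ν) (b : SL2 → ℂ) 0
    have k1 := NN_add ψ (PhiT θ₀ ψ ν) (b : SL2 → ℂ) 1
    have kν := NN_add ψ (PhiT θ₀ ψ ν) (b : SL2 → ℂ) ν
    rw [← hdec', hN0, zero_add] at k0
    rw [← hdec', hN1] at k1
    rw [← hdec', hNν] at kν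
    have b1 : NN ψ (b : SL2 → ℂ) 1 = 0 := by
      rcases hb.1 with h | h
      · exact h
      · exfalso
        rw [h] at k1
        rcases ha.1 with h' | h' <;> rw [h'] at k1 <;> norm_num at k1
    have b2 : NN ψ (b : SL2 → ℂ) ν = 0 := by
      rcases hb.2.1 with h | h
      · exact h
      · exfalso
        rw [h] at kν
        rcases ha.2.1 with h' | h' <;> rw [h'] at kν <;> norm_num at kν
    have hbt := hb.2.2.1 b1 b2
    rw [b1, add_zero] at k1
    rw [b2, add_zero] at kν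
    rw [hbt, NN_one_zero] at k0
    have hat := ha.2.2.2 k0 k1 kν
    obtain ⟨t₁, ht₁, hy₁⟩ := hex
    have hval := PhiT_torus hδ hodd θ₀ ψ ν (t₁ : SL2) t₁.2 hy₁
    have hell : IsEll (t₁ : SL2) := isEll_of_mem_Tn hδ t₁.2 hy₁
    have e1 : (⟨(t₁ : SL2), t₁.2⟩ : ↥(Tn δ : Subgroup SL2)) = t₁ := rfl
    have e2 : (⟨(t₁ : SL2)⁻¹, (Tn δ).inv_mem t₁.2⟩ : ↥(Tn δ : Subgroup SL2)) = t₁⁻¹ := rfl
    rw [e1, e2] at hval
    unfold thF at hval
    rw [map_inv, ht₁, inv_neg, inv_one, Units.val_neg, Units.val_one] at hval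
    rw [hdec, Pi.sub_apply, hat, hbt] at hval
    unfold StSL at hval
    rw [Pi.sub_apply, R_elliptic 1 hell] at hval
    norm_num at hval
  · -- minus the sum of two characters: impossible
    exfalso
    obtain ⟨ma, hma, hma1⟩ := exists_pos_nat_apply_one a.2
    obtain ⟨mb, hmb, hmb1⟩ := exists_pos_nat_apply_one b.2
    have h1 := PhiT_one hδ hodd θ₀ ψ ν
    rw [hdec, Pi.sub_apply, Pi.neg_apply, hma1, hmb1] at h1
    have h3 : ((ma + mb + Fintype.card F : ℕ) : ℂ) = ((1 : ℕ) : ℂ) := by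
      push_cast
      linear_combination -h1
    have h4 : ma + mb + Fintype.card F = 1 := by exact_mod_cast h3
    omega

end torus

/-- the values of the characters of degree `(q - 1) / 2` at elements without eigenvectors -/
theorem half_cusp_elliptic (hodd : Odd (Fintype.card F)) (hq : 5 ≤ Fintype.card F)
    {χ : SL2 → ℂ} (hχ : IsIrrCharacter SL2 χ)
    (hd : χ 1 = (((Fintype.card F - 1) / 2 : ℕ) : ℂ)) {g : SL2} (hell : IsEll g) :
    (g ^ ((Fintype.card F + 1) / 2) = 1 → χ g = -1) ∧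
      (g ^ ((Fintype.card F + 1) / 2) ≠ 1 → χ g = 1) := by
  classical
  have h2 : (2 : F) ≠ 0 := Ring.two_ne_zero (ringChar_ne_two_of_odd hodd)
  obtain ⟨H⟩ := exists_halves (F := F) hodd
  obtain ⟨δ, hδq⟩ := exists_nonsquare (F := F) hodd
  have hδ : ¬ IsSquare δ := (quadraticChar_neg_one_iff_not_isSquare).mp hδq
  set ψ := AddChar.FiniteField.primitiveChar_to_Complex F with hψdef
  have hψ : ψ.IsPrimitive := AddChar.FiniteField.primitiveChar_to_Complex_isPrimitive F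
  obtain ⟨ν, hν⟩ := exists_nonsquare (F := F) hodd
  have hν0 : ν ≠ 0 := by
    intro h
    rw [h, quadraticChar_zero] at hν
    norm_num at hν
  obtain ⟨θ₀, hsq, hex, hval⟩ := exists_quad_char (F := F) hδ hodd
  obtain ⟨a, b, hab, hda, hdb, hta, hdec⟩ := PhiT_quad_decomp H hδ hodd θ₀ hsq hex ψ hψ hν
  -- the two characters of degree `(q - 1) / 2`
  let D := {φ : IrrCharacter SL2 // (φ : SL2 → ℂ) 1 = (((Fintype.card F - 1) / 2 : ℕ) : ℂ)}
  have hD : Nat.card D = 2 := ((Cfsg.Agent.S2299.result hodd).2 hq).2.2.2.2.2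
  obtain ⟨x, y, hxy, huniv⟩ := Nat.card_eq_two_iff.mp hD
  have hmem : ∀ d : D, d = x ∨ d = y := by
    intro d
    have : d ∈ ({x, y} : Set D) := by rw [huniv]; exact Set.mem_univ d
    simpa using this
  have hthree : ∀ d : D, d = ⟨a, hda⟩ ∨ d = ⟨b, hdb⟩ := by
    intro d
    have hab' : (⟨a, hda⟩ : D) ≠ ⟨b, hdb⟩ := fun h => hab (congrArg Subtype.val h)
    rcases hmem d with h1 | h1 <;> rcases hmem ⟨a, hda⟩ with h3 | h3 <;>
      rcases hmem ⟨b, hdb⟩ with h4 | h4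
    · left; rw [h1, h3]
    · left; rw [h1, h3]
    · right; rw [h1, h4]
    · exact absurd (h3.trans h4.symm) hab'
    · exact absurd (h3.trans h4.symm) hab'
    · right; rw [h1, h4]
    · left; rw [h1, h3]
    · left; rw [h1, h3]
  -- the twist of `a` by the diagonal automorphism is `b`
  set ν₀ : Fˣ := (Units.mk0 ν hν0)⁻¹ with hν₀
  have hirrc : IsIrrCharacter SL2 (fun g => (a : SL2 → ℂ) (cx ν₀ g)) :=
    isIrrCharacter_comp_mulEquiv (cx ν₀) a.2
  have hdc : (fun g => (a : SL2 → ℂ) (cx ν₀ g)) 1 = (((Fintype.card F - 1) / 2 : ℕ) : ℂ) := by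
    simp only [map_one]
    exact hda
  have hcb : (fun g => (a : SL2 → ℂ) (cx ν₀ g)) = (b : SL2 → ℂ) := by
    rcases hthree ⟨⟨_, hirrc⟩, hdc⟩ with h | h
    · exfalso
      have h1 : (fun g => (a : SL2 → ℂ) (cx ν₀ g)) = (a : SL2 → ℂ) :=
        congrArg (fun d : D => ((d : IrrCharacter SL2) : SL2 → ℂ)) h
      have h3 := NN_cx ψ (a : SL2 → ℂ) ν₀ 1
      rw [h1] at h3
      have h4 : ((ν₀ : F))⁻¹ * 1 = ν := by
        rw [hν₀, mul_one, Units.val_inv_eq_inv_val, inv_inv, Units.val_mk0]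
      rw [h4] at h3
      rcases hta with h5 | h5
      · rw [h5.1, h5.2] at h3; exact one_ne_zero h3
      · rw [h5.1, h5.2] at h3; exact zero_ne_one h3
    · exact congrArg (fun d : D => ((d : IrrCharacter SL2) : SL2 → ℂ)) h
  -- the values of `a` and `b` at `g` agree
  have hcfa := isClassFunction_of_isCharacter (isCharacter_of_isIrrCharacter a.2)
  have hbg : (b : SL2 → ℂ) g = (a : SL2 → ℂ) g := by
    rw [← hcb]
    exact apply_cx_of_trace hodd hcfa ν₀ g (hell.trace_sq_ne h2)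
  have hΦg : PhiT θ₀ ψ ν g = 2 * (a : SL2 → ℂ) g := by
    rw [hdec, Pi.add_apply, hbg]; ring
  have hχg : χ g = (a : SL2 → ℂ) g := by
    rcases hthree ⟨⟨χ, hχ⟩, hd⟩ with h | h
    · have : χ = (a : SL2 → ℂ) := congrArg (fun d : D => ((d : IrrCharacter SL2) : SL2 → ℂ)) h
      rw [this]
    · have : χ = (b : SL2 → ℂ) := congrArg (fun d : D => ((d : IrrCharacter SL2) : SL2 → ℂ)) h
      rw [this, hbg]
  -- conjugate into the torus
  obtain ⟨s, hs⟩ := Cfsg.Agent.H9.NonsplitTorus.exists_conj_mem hδ hodd g hell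
  have hellt : IsEll (s * g * s⁻¹) := isEll_conj hell s
  have hy : (s * g * s⁻¹).1 1 0 ≠ 0 := fun h => not_isEll_of_upper h hellt
  have hΦt := PhiT_torus hδ hodd θ₀ ψ ν (s * g * s⁻¹) hs hy
  rw [PhiT_isClassFunction θ₀ ψ ν g s, hΦg] at hΦt
  set t : ↥(Tn δ : Subgroup SL2) := ⟨s * g * s⁻¹, hs⟩ with ht
  have e2 : (⟨(s * g * s⁻¹)⁻¹, (Tn δ).inv_mem hs⟩ : ↥(Tn δ : Subgroup SL2)) = t⁻¹ := rfl
  rw [e2] at hΦt
  unfold thF at hΦt
  have hinv : θ₀ t⁻¹ = θ₀ t := by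
    rw [map_inv, inv_eq_iff_mul_eq_one, ← pow_two]
    exact hsq t
  rw [hinv] at hΦt
  have hag : (a : SL2 → ℂ) g = -((θ₀ t : ℂˣ) : ℂ) := by
    have : (2 : ℂ) * (a : SL2 → ℂ) g = 2 * -((θ₀ t : ℂˣ) : ℂ) := by linear_combination hΦt
    exact mul_left_cancel₀ two_ne_zero this
  have hpow : t ^ ((Fintype.card F + 1) / 2) = 1 ↔ g ^ ((Fintype.card F + 1) / 2) = 1 := by
    rw [Subtype.ext_iff, SubgroupClass.coe_pow]
    change (s * g * s⁻¹) ^ ((Fintype.card F + 1) / 2) = 1 ↔ _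
    rw [conj_pow]
    constructor
    · intro h
      have : g ^ ((Fintype.card F + 1) / 2) = s⁻¹ * (s * g ^ ((Fintype.card F + 1) / 2) * s⁻¹) * s := by
        group
      rw [this, h]
      group
    · intro h
      rw [h]
      group
  rw [hχg, hag]
  constructor
  · intro hg
    have := ((hval t).1).mpr (hpow.mpr hg)
    rw [this, Units.val_one]
  · intro hg
    have hne : θ₀ t ≠ 1 := fun h => hg (hpow.mp (((hval t).1).mp h))
    rw [(hval t).2 hne, Units.val_neg, Units.val_one, neg_neg]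

end Cfsg.Agent.H9.SL2Chars
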