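import Mathlib
import Cfsg.Agent.H9.SL2OddElliptic

set_option autoImplicit false

/-!
# The two characters of degree `(q + 1) / 2` of SL₂(F), `q` odd, at split semisimple elements
-/

namespace Cfsg.Agent.H9.SL2Chars

open Cfsg Matrix Cfsg.Agent.Lib.helper3.IndFun Cfsg.Agent.Lib.helper3.Irr
open Cfsg.Agent.H9.PrincipalSeries Cfsg.Agent.S2307
open scoped ComplexConjugate

variable {F : Type*} [Field F] [Fintype F] [DecidableEq F]

local notation "SL2" => Matrix.SpecialLinearGroup (Fin 2) F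

variable (H : Halves F)

/-- the quadratic character of the halves is the Legendre symbol -/
theorem alpha0_apply (hodd : Odd (Fintype.card F)) (a : F) :
    H.α₀ a = ((quadraticChar F a : ℤ) : ℂ) := by
  have hF := ringChar_ne_two_of_odd hodd
  set χ : MulChar F ℂ := (quadraticChar F).ringHomComp (Int.castRingHom ℂ) with hχdef
  have hχ2 : χ.IsQuadratic := (quadraticChar_isQuadratic F).comp _
  have hχ1 : χ ≠ 1 := by
    obtain ⟨ν, hν⟩ := quadraticChar_exists_neg_one hF
    intro h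
    have h1 : χ ν = -1 := by
      rw [hχdef, MulChar.ringHomComp_apply, hν]
      simp
    have hν0 : ν ≠ 0 := by
      intro h0
      rw [h0, quadraticChar_zero] at hν
      norm_num at hν
    rw [h, MulChar.one_apply (IsUnit.mk0 ν hν0)] at h1
    norm_num at h1
  have hsq : χ ^ 2 = 1 := hχ2.sq_eq_one
  rcases H.uniq χ hsq with h | h
  · exact absurd h hχ1
  · rw [← h, hχdef, MulChar.ringHomComp_apply]
    rfl

/-- the values of the halves at split semisimple elements -/
theorem halves_diag (hodd : Odd (Fintype.card F)) (g : SL2) (h01 : g.1 0 1 = 0)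
    (h10 : g.1 1 0 = 0) (ha : g.1 0 0 ^ 2 ≠ 1) :
    H.ψ₁ g = H.α₀ (g.1 0 0) ∧ H.ψ₂ g = H.α₀ (g.1 0 0) := by
  have h2 : (2 : F) ≠ 0 := Ring.two_ne_zero (ringChar_ne_two_of_odd hodd)
  have hdet := det_entries g
  rw [h01, zero_mul, sub_zero] at hdet
  have hne : g.1 1 1 - g.1 0 0 ≠ 0 := by
    intro h
    apply ha
    have : g.1 1 1 = g.1 0 0 := sub_eq_zero.mp h
    rw [this] at hdet
    rw [pow_two]; exact hdet
  have htr : (g.1 0 0 + g.1 1 1) ^ 2 ≠ 4 := by
    intro h
    apply hne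
    have : (g.1 1 1 - g.1 0 0) ^ 2 = 0 := by linear_combination h - 4 * hdet
    exact pow_eq_zero_iff (by norm_num) |>.mp this
  obtain ⟨ν₀, hν₀⟩ := exists_nonsquare (F := F) hodd
  have hν0 : ν₀ ≠ 0 := by
    intro h
    rw [h, quadraticChar_zero] at hν₀
    norm_num at hν₀
  have hsw := halves_swap H hodd (Units.mk0 ν₀ hν0) (by rw [Units.val_mk0]; exact hν₀)
  have hcf := isClassFunction_of_isCharacter (isCharacter_of_isIrrCharacter H.irr₁)
  have h12 : H.ψ₂ g = H.ψ₁ g := by
    rw [← hsw]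
    exact apply_cx_of_trace hodd hcf _ g htr
  have hR := Cfsg.Agent.H9.PrincipalSeries.R_apply H.α₀ g
  rw [H.sum, Pi.add_apply, h12, h10, h01, if_pos rfl] at hR
  have hsum : (∑ c : F, if (0 : F) + (g.1 1 1 - g.1 0 0) * c - 0 * c ^ 2 = 0
      then H.α₀ (g.1 0 0 + 0 * c) else 0) = H.α₀ (g.1 0 0) := by
    rw [Finset.sum_eq_single (0 : F)]
    · simp
    · intro c _ hc
      rw [if_neg]
      simp only [zero_add, zero_mul, sub_zero]
      exact mul_ne_zero hne hc
    · intro h; exact absurd (Finset.mem_univ _) h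
  rw [hsum] at hR
  have hinv : H.α₀ (g.1 1 1) = H.α₀ (g.1 0 0) := by
    have h1 : H.α₀ (g.1 0 0) * H.α₀ (g.1 1 1) = 1 := by
      rw [← map_mul, hdet, map_one]
    have hu : IsUnit (g.1 0 0) := by
      apply IsUnit.mk0
      intro h0
      rw [h0, zero_mul] at hdet
      exact zero_ne_one hdet
    have h3 : H.α₀ (g.1 0 0) * H.α₀ (g.1 0 0) = 1 := by
      have := congrArg (fun α : MulChar F ℂ => α (g.1 0 0)) H.sq
      simp only [MulChar.pow_apply' _ (two_ne_zero), MulChar.one_apply hu] at this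
      rw [← pow_two]; exact this
    have hne0 : H.α₀ (g.1 0 0) ≠ 0 := left_ne_zero_of_mul_eq_one h1
    exact mul_left_cancel₀ hne0 (h1.trans h3.symm)
  rw [hinv] at hR
  have h1 : H.ψ₁ g = H.α₀ (g.1 0 0) := by
    have : (2 : ℂ) * H.ψ₁ g = 2 * H.α₀ (g.1 0 0) := by linear_combination hR
    exact mul_left_cancel₀ two_ne_zero this
  exact ⟨h1, h12.trans h1⟩

end Cfsg.Agent.H9.SL2Chars
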