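import Cfsg.Agent.H9.SL3FusNonsplit

/-!
# The `2`-fusion system of `PSL₃(q)`, `q` odd, is simple
-/

set_option autoImplicit false

namespace Cfsg.Agent.H9.SL3Fus

open Matrix Cfsg Cfsg.Agent.H9.GfsSimple2

variable {F : Type*} [Field F] [Fintype F]

local notation "SL3" => Matrix.SpecialLinearGroup (Fin 3) F

omit [Fintype F] in
theorem pow_three_of_mem_center (z : SL3) (hz : z ∈ Subgroup.center SL3) : z ^ 3 = 1 := by
  obtain ⟨r, hr, hA⟩ := Matrix.SpecialLinearGroup.mem_center_iff.mp hz
  rw [Fintype.card_fin] at hr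
  apply Subtype.ext
  rw [Matrix.SpecialLinearGroup.coe_pow, ← hA, ← map_pow, hr, map_one,
    Matrix.SpecialLinearGroup.coe_one]

theorem coprime_card_center : (Nat.card (Subgroup.center SL3)).Coprime 2 := by
  rw [Nat.coprime_two_right]
  by_contra h
  rw [Nat.not_odd_iff_even, even_iff_two_dvd] at h
  obtain ⟨x, hx⟩ := exists_prime_orderOf_dvd_card' 2 h
  have h3 : x ^ 3 = 1 := Subtype.ext (pow_three_of_mem_center x.1 x.2)
  have h2 : x ^ 2 = 1 := by
    rw [← hx]
    exact pow_orderOf_eq_one x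
  have h1 : x = 1 := by
    have : x ^ 3 = x ^ 2 * x := pow_succ x 2
    rw [h3, h2, one_mul] at this
    exact this.symm
  rw [h1, orderOf_one] at hx
  omega

/-- **the `2`-fusion system of `PSL₃(q)`, `q` odd, is simple** -/
theorem fusion_simple (hodd : Fintype.card F % 2 = 1)
    (S : Sylow 2 (Matrix.ProjectiveSpecialLinearGroup (Fin 3) F)) :
    (groupFusionSystem (S : Subgroup (Matrix.ProjectiveSpecialLinearGroup (Fin 3) F))).IsSimple 2 := by
  have hmod : Fintype.card F % 4 = 1 ∨ Fintype.card F % 4 = 3 := by omega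
  obtain ⟨S0, hS0⟩ : ∃ S0 : Subgroup SL3, Certificate 2 S0 := by
    rcases hmod with h | h
    · exact Cfsg.Agent.H9.SL3FusSplit.exists_certificate h
    · exact Cfsg.Agent.H9.SL3FusNonsplit.exists_certificate h
  have hmap := Certificate.map 2 (QuotientGroup.mk' (Subgroup.center SL3))
    (QuotientGroup.mk'_surjective _)
    (by rw [QuotientGroup.ker_mk'])
    (by rw [QuotientGroup.ker_mk']; exact coprime_card_center) S0 hS0
  exact isSimple_of_certificate' 2 _ hmap S

end Cfsg.Agent.H9.SL3Fus
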