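import Cfsg.Agent.H9.SL3Iota
import Cfsg.Agent.H9.GfsSimple2
import Cfsg.Agent.H9.SylowTwoDicyclic

/-!
# The certificate for the `2`-fusion system of `SL₃(q)`, `q` odd, from a torus of `GL₂(q)`
-/

set_option autoImplicit false

namespace Cfsg.Agent.H9.SL3FusAbs

open Matrix Cfsg.Agent.H9.SL3Iota Cfsg.Agent.H9.GfsSimple2

variable {F : Type*} [Field F]

local notation "SL3" => Matrix.SpecialLinearGroup (Fin 3) F
local notation "GL2" => Matrix.GeneralLinearGroup (Fin 2) F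

/-- a maximal torus `C` of `GL₂(F)` and its normalizer `N` -/
structure GSetup (C N : Subgroup GL2) : Prop where
  le : C ≤ N
  comm : ∀ a ∈ C, ∀ b ∈ C, a * b = b * a
  idx : ∀ g ∈ N, ∀ h ∈ N, g ∉ C → h ∉ C → g * h ∈ C
  w : ∃ w ∈ N, w ∉ C ∧ w * w = 1
  normal : ∀ g ∈ N, ∀ c ∈ C, g * c * g⁻¹ ∈ C
  fix : ∀ g ∈ N, g ∉ C → ∀ c ∈ C, g * c * g⁻¹ = c → c ∈ Subgroup.center GL2
  neg : (-1 : GL2) ∈ C
  nsc : ∀ c ∈ C, c ∉ Subgroup.center GL2 → ∀ h : GL2, h * c * h⁻¹ ∈ C → h ∈ N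
  c0 : ∃ c ∈ C, (∃ k : ℕ, c ^ 2 ^ k = 1) ∧ c * c ∉ Subgroup.center GL2

/-- a Sylow `2`-subgroup `P₂` of `N` -/
structure PSetup (C N P₂ : Subgroup GL2) : Prop where
  gs : GSetup C N
  leN : P₂ ≤ N
  two : ∀ g ∈ P₂, ∃ k : ℕ, g ^ 2 ^ k = 1
  c2 : ∀ c ∈ C, (∃ k : ℕ, c ^ 2 ^ k = 1) → c ∈ P₂
  w1 : ∃ w₁ ∈ P₂, w₁ ∉ C ∧ w₁ * w₁ = 1

variable {C N P₂ : Subgroup (Matrix.GeneralLinearGroup (Fin 2) F)}

theorem GSetup.sq_mem (h : GSetup C N) {g : GL2} (hg : g ∈ N) : g * g ∈ C := by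
  by_cases hc : g ∈ C
  · exact C.mul_mem hc hc
  · exact h.idx g hg g hg hc hc

theorem GSetup.inv_not_mem {g : GL2} (hc : g ∉ C) : g⁻¹ ∉ C := fun h => hc (by simpa using Subgroup.inv_mem C h)

/-- the elements of `N` outside `C` all act in the same way on `C` -/
theorem GSetup.theta_eq (h : GSetup C N) {g k c : GL2} (hg : g ∈ N) (hgc : g ∉ C) (hk : k ∈ N)
    (hkc : k ∉ C) (hc : c ∈ C) : g * c * g⁻¹ = k * c * k⁻¹ := by
  have h1 : g⁻¹ * k ∈ C := h.idx _ (N.inv_mem hg) _ hk (GSetup.inv_not_mem hgc) hkc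
  have h2 := h.comm _ h1 _ hc
  have e : k * c * k⁻¹ = g * ((g⁻¹ * k) * c * (g⁻¹ * k)⁻¹) * g⁻¹ := by group
  rw [e, h2, mul_inv_cancel_right]

theorem GSetup.c0_not_central {c : GL2} (hcc : c * c ∉ Subgroup.center GL2) :
    c ∉ Subgroup.center GL2 := fun hc => hcc (Subgroup.mul_mem _ hc hc)

/-- a central involution of `P₂` is `-1` -/
theorem PSetup.central_invol (h : PSetup C N P₂) (x : GL2) (hx : x ∈ P₂)
    (hcent : ∀ y ∈ P₂, x * y = y * x) (hxx : x * x = 1) (hx1 : x ≠ 1) : x = -1 := by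
  obtain ⟨c, hcC, hc2, hcc⟩ := h.gs.c0
  obtain ⟨w₁, hw₁P, hw₁C, -⟩ := h.w1
  have hcP : c ∈ P₂ := h.c2 c hcC hc2
  have hxC : x ∈ C := by
    by_contra hxC
    apply GSetup.c0_not_central hcc
    apply h.gs.fix x (h.leN hx) hxC c hcC
    rw [hcent c hcP, mul_inv_cancel_right]
  apply eq_neg_one_of_central x _ hxx hx1
  apply h.gs.fix w₁ (h.leN hw₁P) hw₁C x hxC
  rw [← hcent w₁ hw₁P, mul_inv_cancel_right]

/-- the normalizer of `P₂` lies in `N` -/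
theorem PSetup.mem_N_of_normalizes (h : PSetup C N P₂) (k : GL2)
    (hk : ∀ x ∈ P₂, k * x * k⁻¹ ∈ P₂) : k ∈ N := by
  obtain ⟨c, hcC, hc2, hcc⟩ := h.gs.c0
  have hcP : c ∈ P₂ := h.c2 c hcC hc2
  apply h.gs.nsc c hcC (GSetup.c0_not_central hcc) k
  by_contra hb
  have hbP : k * c * k⁻¹ ∈ P₂ := hk c hcP
  have hbN := h.leN hbP
  have hsq := h.gs.sq_mem hbN
  apply hcc
  have h1 : k * c * k⁻¹ * (k * c * k⁻¹) ∈ Subgroup.center GL2 := by
    apply h.gs.fix _ hbN hb _ hsq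
    group
  have e : c * c = k⁻¹ * (k * c * k⁻¹ * (k * c * k⁻¹)) * k := by group
  rw [e, central_comm _ k⁻¹ h1, inv_mul_cancel_right]
  exact h1

section Finite

variable [Fintype F]

/-- an element of `C` normalizing `P₂` is the product of a central element and an element of `P₂` -/
theorem PSetup.decomp_of_mem_C (h : PSetup C N P₂) (k : GL2) (hkC : k ∈ C)
    (hk : ∀ x ∈ P₂, k * x * k⁻¹ ∈ P₂) :
    ∃ ζ ∈ Subgroup.center GL2, ∃ s ∈ P₂, k = ζ * s := by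
  obtain ⟨w₁, hw₁P, hw₁C, hww⟩ := h.w1
  have hw₁N := h.leN hw₁P
  have hθ : w₁ * k * w₁⁻¹ ∈ C := h.gs.normal w₁ hw₁N k hkC
  have he : k * (w₁ * k * w₁⁻¹)⁻¹ ∈ P₂ := by
    have h1 := hk w₁ hw₁P
    have h2 := P₂.mul_mem h1 (P₂.inv_mem hw₁P)
    have e : k * w₁ * k⁻¹ * w₁⁻¹ = k * (w₁ * k * w₁⁻¹)⁻¹ := by group
    rwa [e] at h2
  obtain ⟨j, hj⟩ := h.two _ he
  have hfix : w₁ * k ^ 2 ^ j * w₁⁻¹ = k ^ 2 ^ j := by
    have e1 : w₁ * k ^ 2 ^ j * w₁⁻¹ = (w₁ * k * w₁⁻¹) ^ 2 ^ j := by rw [conj_pow]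
    have hc : Commute (k * (w₁ * k * w₁⁻¹)⁻¹) (w₁ * k * w₁⁻¹) :=
      h.gs.comm _ (C.mul_mem hkC (C.inv_mem hθ)) _ hθ
    have e2 : k = (k * (w₁ * k * w₁⁻¹)⁻¹) * (w₁ * k * w₁⁻¹) := by group
    have e3 : k ^ 2 ^ j = (k * (w₁ * k * w₁⁻¹)⁻¹) ^ 2 ^ j * (w₁ * k * w₁⁻¹) ^ 2 ^ j := by
      conv_lhs => rw [e2]
      exact hc.mul_pow _
    rw [e1, e3, hj, one_mul]
  have hcen : k ^ 2 ^ j ∈ Subgroup.center GL2 :=
    h.gs.fix w₁ hw₁N hw₁C _ (C.pow_mem hkC _) hfix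
  obtain ⟨a, m, hm, hord⟩ := Nat.exists_eq_two_pow_mul_odd (orderOf_pos k).ne'
  have hkm : k ^ m ∈ P₂ := by
    apply h.c2 _ (C.pow_mem hkC _)
    refine ⟨a, ?_⟩
    rw [← pow_mul, mul_comm, ← hord, pow_orderOf_eq_one]
  have hcop : IsCoprime ((2 ^ j : ℕ) : ℤ) (m : ℤ) := by
    rw [Nat.isCoprime_iff_coprime]
    exact Nat.Coprime.pow_left j (Nat.coprime_two_left.mpr hm)
  obtain ⟨u, v, huv⟩ := hcop
  refine ⟨(k ^ 2 ^ j) ^ u, Subgroup.zpow_mem _ hcen u, (k ^ m) ^ v, P₂.zpow_mem hkm v, ?_⟩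
  rw [← zpow_natCast k (2 ^ j), ← zpow_natCast k m, ← _root_.zpow_mul, ← _root_.zpow_mul, ← _root_.zpow_add]
  have : ((2 ^ j : ℕ) : ℤ) * u + (m : ℤ) * v = 1 := by linear_combination huv
  rw [this, zpow_one]

/-- an element normalizing `P₂` is the product of a central element and an element of `P₂` -/
theorem PSetup.decomp (h : PSetup C N P₂) (k : GL2)
    (hk : ∀ x ∈ P₂, k * x * k⁻¹ ∈ P₂) :
    ∃ ζ ∈ Subgroup.center GL2, ∃ s ∈ P₂, k = ζ * s := by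
  have hkN := h.mem_N_of_normalizes k hk
  by_cases hkC : k ∈ C
  · exact h.decomp_of_mem_C k hkC hk
  · obtain ⟨w₁, hw₁P, hw₁C, hww⟩ := h.w1
    have hw₁N := h.leN hw₁P
    have h1 : k * w₁ ∈ C := h.gs.idx k hkN w₁ hw₁N hkC hw₁C
    obtain ⟨ζ, hζ, s, hs, e⟩ := h.decomp_of_mem_C (k * w₁) h1 (by
      intro x hx
      have := hk _ (P₂.mul_mem (P₂.mul_mem hw₁P hx) (P₂.inv_mem hw₁P))
      have e : k * w₁ * x * (k * w₁)⁻¹ = k * (w₁ * x * w₁⁻¹) * k⁻¹ := by group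
      rw [e]
      exact this)
    refine ⟨ζ, hζ, s * w₁⁻¹, P₂.mul_mem hs (P₂.inv_mem hw₁P), ?_⟩
    rw [← mul_assoc, ← e, mul_inv_cancel_right]

end Finite

theorem neg_one_ne_one (h2 : (2 : F) ≠ 0) : (-1 : GL2) ≠ 1 := by
  intro h
  have h1 := congrArg (fun g : GL2 => g.1 0 0) h
  simp only [Units.val_neg, Units.val_one, Matrix.neg_apply, Matrix.one_apply_eq] at h1
  apply h2
  linear_combination -h1

theorem neg_one_comm (y : GL2) : (-1 : GL2) * y = y * (-1 : GL2) := by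
  rw [neg_one_mul, mul_neg_one]

section Finite2

variable [Fintype F]

/-- **the automizer of the Sylow `2`-subgroup is inner** -/
theorem PSetup.inner (h2 : (2 : F) ≠ 0) (h : PSetup C N P₂) (g : SL3)
    (hg : g ∈ Subgroup.normalizer ((P₂.map iota : Subgroup SL3) : Set SL3)) :
    ∃ s ∈ P₂.map iota, ∀ x ∈ P₂.map iota, g * x * g⁻¹ = s * x * s⁻¹ := by
  have hneg : (-1 : GL2) ∈ P₂ := h.c2 _ h.gs.neg ⟨1, by rw [pow_one, neg_one_sq]⟩
  have hz : iota (-1 : GL2) ∈ P₂.map iota := Subgroup.mem_map_of_mem _ hneg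
  obtain ⟨x', hx'P, hx'⟩ := (Subgroup.mem_normalizer_iff.mp hg (iota (-1 : GL2))).mp hz
  have hcent : ∀ y ∈ P₂, x' * y = y * x' := by
    intro y hy
    apply iota_injective
    rw [map_mul, map_mul, hx']
    have h3 : g⁻¹ * iota y * g ∈ P₂.map iota := by
      have := (Subgroup.mem_normalizer_iff.mp (Subgroup.inv_mem _ hg) (iota y)).mp
        (Subgroup.mem_map_of_mem _ hy)
      simpa using this
    obtain ⟨y0, hy0, hy0e⟩ := h3
    have e : iota y = g * iota y0 * g⁻¹ := by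
      rw [hy0e]
      group
    rw [e]
    have hc : iota (-1 : GL2) * iota y0 = iota y0 * iota (-1 : GL2) := by
      rw [← map_mul, ← map_mul, neg_one_comm]
    calc g * iota (-1 : GL2) * g⁻¹ * (g * iota y0 * g⁻¹)
        = g * (iota (-1 : GL2) * iota y0) * g⁻¹ := by group
      _ = g * (iota y0 * iota (-1 : GL2)) * g⁻¹ := by rw [hc]
      _ = g * iota y0 * g⁻¹ * (g * iota (-1 : GL2) * g⁻¹) := by group
  have hzz : iota (-1 : GL2) * iota (-1 : GL2) = 1 := by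
    rw [← map_mul, neg_mul_neg, one_mul, map_one]
  have hxx : x' * x' = 1 := by
    apply iota_injective
    rw [map_mul, hx', map_one]
    calc g * iota (-1 : GL2) * g⁻¹ * (g * iota (-1 : GL2) * g⁻¹)
        = g * (iota (-1 : GL2) * iota (-1 : GL2)) * g⁻¹ := by group
      _ = 1 := by rw [hzz]; group
  have hx1 : x' ≠ 1 := by
    intro hx
    rw [hx, map_one] at hx'
    have h3 : iota (-1 : GL2) = 1 := by
      have : iota (-1 : GL2) = g⁻¹ * (g * iota (-1 : GL2) * g⁻¹) * g := by group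
      rw [this, ← hx']
      group
    rw [← map_one (iota (F := F))] at h3
    exact neg_one_ne_one h2 (iota_injective h3)
  have hxe := h.central_invol x' hx'P hcent hxx hx1
  have hcomm : g * iota (-1 : GL2) = iota (-1 : GL2) * g := by
    rw [hxe] at hx'
    calc g * iota (-1 : GL2) = g * iota (-1 : GL2) * g⁻¹ * g := by group
      _ = iota (-1 : GL2) * g := by rw [← hx']
  obtain ⟨k, rfl⟩ := exists_of_comm h2 g hcomm
  have hk : ∀ x ∈ P₂, k * x * k⁻¹ ∈ P₂ := by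
    intro x hx
    obtain ⟨y, hy, hye⟩ := (Subgroup.mem_normalizer_iff.mp hg (iota x)).mp
      (Subgroup.mem_map_of_mem _ hx)
    have : y = k * x * k⁻¹ := iota_injective (by rw [hye, map_mul, map_mul, map_inv])
    rw [← this]
    exact hy
  obtain ⟨ζ, hζ, s, hs, e⟩ := h.decomp k hk
  refine ⟨iota s, Subgroup.mem_map_of_mem _ hs, ?_⟩
  rintro _ ⟨x, hx, rfl⟩
  rw [← map_inv, ← map_mul, ← map_mul, ← map_inv, ← map_mul, ← map_mul]
  congr 1
  rw [e]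
  have h5 : ζ * (s * x * s⁻¹) = (s * x * s⁻¹) * ζ := (central_comm ζ _ hζ).symm
  calc ζ * s * x * (ζ * s)⁻¹ = ζ * (s * x * s⁻¹) * ζ⁻¹ := by group
    _ = s * x * s⁻¹ := by rw [h5, mul_inv_cancel_right]

/-- **strongly closed subgroups** -/
theorem PSetup.sc (h2 : (2 : F) ≠ 0) (h : PSetup C N P₂)
    (hgen : ∀ T₂ : Subgroup GL2, T₂ ≤ P₂ → (∀ g ∈ P₂, g * g = 1 → g ∈ T₂) →
      (∀ c ∈ P₂, c ∈ C → (∀ g ∈ N, g ∉ C → g * c * g⁻¹ = c⁻¹) → c ∈ T₂) →
      (∀ x ∈ T₂, ∀ y ∈ P₂, IsConj (iota x) (iota y) → y ∈ T₂) → ∀ c ∈ P₂, c ∈ C → c ∈ T₂)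
    (T : Subgroup SL3) (hTS : T ≤ P₂.map iota)
    (hT : ∀ x ∈ T, ∀ g : SL3, g * x * g⁻¹ ∈ P₂.map iota → g * x * g⁻¹ ∈ T) :
    T = ⊥ ∨ T = P₂.map iota := by
  by_cases hTbot : T = ⊥
  · exact Or.inl hTbot
  right
  apply le_antisymm hTS
  have hneg : (-1 : GL2) ∈ P₂ := h.c2 _ h.gs.neg ⟨1, by rw [pow_one, neg_one_sq]⟩
  have hz : iota (-1 : GL2) ∈ P₂.map iota := Subgroup.mem_map_of_mem _ hneg
  obtain ⟨w₁, hw₁P, hw₁C, hww⟩ := h.w1
  have hw₁N := h.leN hw₁P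
  -- an involution of `T`
  have hpS : IsPGroup 2 ↥(P₂.map iota) := by
    rintro ⟨_, ⟨x, hx, rfl⟩⟩
    obtain ⟨k, hk⟩ := h.two x hx
    refine ⟨k, Subtype.ext ?_⟩
    show iota x ^ 2 ^ k = 1
    rw [← map_pow, hk, map_one]
  have hTp : IsPGroup 2 T := hpS.to_le hTS
  have hTcard : 2 ∣ Nat.card T := by
    obtain ⟨n, hn⟩ := IsPGroup.iff_card.mp hTp
    rcases Nat.eq_zero_or_pos n with h' | h'
    · exfalso
      apply hTbot
      rw [h', pow_zero] at hn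
      exact Subgroup.card_eq_one.mp hn
    · rw [hn]
      exact dvd_pow_self 2 h'.ne'
  obtain ⟨t, ht⟩ := exists_prime_orderOf_dvd_card' 2 hTcard
  have ht1 : (t : SL3) ≠ 1 := by
    intro h'
    have : t = 1 := Subtype.ext h'
    rw [this, orderOf_one] at ht
    omega
  have htt : (t : SL3) * t = 1 := by
    have := pow_orderOf_eq_one t
    rw [ht, pow_two] at this
    exact congrArg Subtype.val this
  -- `z ∈ T`
  have hzT : iota (-1 : GL2) ∈ T := by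
    obtain ⟨x, hx, hxt⟩ := hTS t.2
    have hxx : x * x = 1 := by
      apply iota_injective
      rw [map_mul, hxt, htt, map_one]
    have hx1 : x ≠ 1 := by
      intro h'
      rw [h', map_one] at hxt
      exact ht1 hxt.symm
    obtain ⟨c, hc⟩ := isConj_iff.mp (isConj_iota_of_sq_one h2 x hxx hx1)
    rw [hxt] at hc
    rw [← hc]
    apply hT _ t.2
    rw [hc]
    exact hz
  -- the subgroup `T₂`
  have key := hgen (T.comap iota ⊓ P₂) inf_le_right (by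
    intro g hg hgg
    refine ⟨?_, hg⟩
    show iota g ∈ T
    by_cases hg1 : g = 1
    · rw [hg1, map_one]
      exact T.one_mem
    obtain ⟨c, hc⟩ := isConj_iff.mp (isConj_iota_of_sq_one h2 g hgg hg1).symm
    rw [← hc]
    apply hT _ hzT
    rw [hc]
    exact Subgroup.mem_map_of_mem _ hg) ?_ (by
    intro x hx y hy hxy
    refine ⟨?_, hy⟩
    show iota y ∈ T
    obtain ⟨c, hc⟩ := isConj_iff.mp hxy
    rw [← hc]
    apply hT _ hx.1
    rw [hc]
    exact Subgroup.mem_map_of_mem _ hy)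
  · rintro _ ⟨g, hg, rfl⟩
    by_cases hgC : g ∈ C
    · exact (key g hg hgC).1
    · have h1 : g * w₁ ∈ C := h.gs.idx g (h.leN hg) w₁ hw₁N hgC hw₁C
      have h3 := (key (g * w₁) (P₂.mul_mem hg hw₁P) h1).1
      have h4 : iota w₁ ∈ T := by
        by_cases hw1 : w₁ = 1
        · rw [hw1, map_one]
          exact T.one_mem
        obtain ⟨c, hc⟩ := isConj_iff.mp (isConj_iota_of_sq_one h2 w₁ hww hw1).symm
        rw [← hc]
        apply hT _ hzT
        rw [hc]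
        exact Subgroup.mem_map_of_mem _ hw₁P
      have h5 : iota (g * w₁) ∈ T := h3
      have := T.mul_mem h5 (T.inv_mem h4)
      rwa [map_mul, mul_inv_cancel_right] at this
  · -- the elements of `C` inverted by `N \ C`
    intro c hcP hcC hinv
    have hcw : (c * w₁) * (c * w₁) = 1 := by
      have h1 := hinv w₁ hw₁N hw₁C
      calc c * w₁ * (c * w₁) = c * (w₁ * c * w₁⁻¹) * (w₁ * w₁) := by group
        _ = 1 := by rw [h1, hww, mul_inv_cancel, one_mul]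
    have hmem : ∀ g ∈ P₂, g * g = 1 → iota g ∈ T := by
      intro g hg hgg
      by_cases hg1 : g = 1
      · rw [hg1, map_one]
        exact T.one_mem
      obtain ⟨d, hd⟩ := isConj_iff.mp (isConj_iota_of_sq_one h2 g hgg hg1).symm
      rw [← hd]
      apply hT _ hzT
      rw [hd]
      exact Subgroup.mem_map_of_mem _ hg
    refine ⟨?_, hcP⟩
    show iota c ∈ T
    have h5 := hmem (c * w₁) (P₂.mul_mem hcP hw₁P) hcw
    have h4 := hmem w₁ hw₁P hww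
    have := T.mul_mem h5 (T.inv_mem h4)
    rwa [map_mul, mul_inv_cancel_right] at this

end Finite2

section Main

variable [Fintype F]

/-- a Sylow `2`-subgroup of `N` containing the involution `w` -/
theorem GSetup.exists_psetup (h : GSetup C N) :
    ∃ P₂ : Subgroup GL2, PSetup C N P₂ ∧ Nat.card P₂ = 2 ^ (Nat.card N).factorization 2 := by
  obtain ⟨w, hwN, hwC, hww⟩ := h.w
  have hpw : IsPGroup 2 (Subgroup.zpowers (⟨w, hwN⟩ : N)) := by
    apply Cfsg.Agent.H9.SylowTwoDicyclic.isPGroup_zpowers _ 1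
    apply Subtype.ext
    show w ^ 2 ^ 1 = 1
    rw [pow_one, pow_two, hww]
  obtain ⟨Q, hQ⟩ := hpw.exists_le_sylow
  -- the `2`-elements of `C`
  let C₂ : Subgroup N :=
    { carrier := {n | n.1 ∈ C ∧ ∃ k : ℕ, n.1 ^ 2 ^ k = 1}
      one_mem' := ⟨C.one_mem, 0, by simp⟩
      mul_mem' := by
        rintro a b ⟨ha, ka, hka⟩ ⟨hb, kb, hkb⟩
        refine ⟨C.mul_mem ha hb, ka + kb, ?_⟩
        show (a.1 * b.1) ^ 2 ^ (ka + kb) = 1
        have hc : Commute a.1 b.1 := h.comm _ ha _ hb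
        rw [hc.mul_pow, pow_add, pow_mul, hka, one_pow, mul_comm (2 ^ ka), pow_mul, hkb, one_pow,
          one_mul]
      inv_mem' := by
        rintro a ⟨ha, ka, hka⟩
        refine ⟨C.inv_mem ha, ka, ?_⟩
        show (a.1)⁻¹ ^ 2 ^ ka = 1
        rw [inv_pow, hka, inv_one] }
  have hC₂n : C₂.Normal := by
    constructor
    rintro a ⟨ha, ka, hka⟩ g
    refine ⟨h.normal g.1 g.2 a.1 ha, ka, ?_⟩
    show (g.1 * a.1 * g.1⁻¹) ^ 2 ^ ka = 1
    rw [conj_pow, hka]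
    group
  have hC₂p : IsPGroup 2 C₂ := by
    rintro ⟨a, ha, ka, hka⟩
    refine ⟨ka, Subtype.ext (Subtype.ext ?_)⟩
    exact hka
  have hC₂Q : C₂ ≤ Q := hC₂p.le_sylow_of_normal Q
  refine ⟨(Q : Subgroup N).map N.subtype, ⟨h, ?_, ?_, ?_, ?_⟩, ?_⟩
  · rintro _ ⟨q, -, rfl⟩
    exact q.2
  · rintro _ ⟨q, hq, rfl⟩
    obtain ⟨k, hk⟩ := Q.isPGroup' ⟨q, hq⟩
    refine ⟨k, ?_⟩
    have := congrArg (fun x : (Q : Subgroup N) => ((x : N) : GL2)) hk
    exact this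
  · rintro c hc ⟨k, hk⟩
    exact ⟨⟨c, h.le hc⟩, hC₂Q ⟨hc, k, hk⟩, rfl⟩
  · refine ⟨w, ⟨⟨w, hwN⟩, hQ (Subgroup.mem_zpowers _), rfl⟩, hwC, hww⟩
  · rw [Subgroup.card_map_of_injective N.subtype_injective, Q.card_eq_multiplicity]

theorem GSetup.card_N (h : GSetup C N) : Nat.card N = 2 * Nat.card C := by
  have hidx : (C.subgroupOf N).index = 2 := by
    rw [Subgroup.index_eq_two_iff]
    obtain ⟨w, hwN, hwC, -⟩ := h.w
    refine ⟨⟨w, hwN⟩, ?_⟩
    rintro ⟨b, hb⟩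
    by_cases hbC : b ∈ C
    · right
      refine ⟨?_, ?_⟩
      · rw [Subgroup.mem_subgroupOf]
        exact hbC
      · rw [Subgroup.mem_subgroupOf]
        intro h1
        change b * w ∈ C at h1
        apply hwC
        have := C.mul_mem (C.inv_mem hbC) h1
        rwa [inv_mul_cancel_left] at this
    · left
      refine ⟨?_, ?_⟩
      · rw [Subgroup.mem_subgroupOf]
        exact h.idx b hb w hwN hbC hwC
      · rw [Subgroup.mem_subgroupOf]
        exact hbC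
  have h1 := (C.subgroupOf N).card_mul_index
  rw [hidx, Nat.card_congr (Subgroup.subgroupOfEquivOfLe h.le).toEquiv] at h1
  rw [← h1, mul_comm]

/-- **the certificate for `SL₃(q)`** -/
theorem exists_certificate (hodd : Fintype.card F % 2 = 1) (h : GSetup C N)
    (hcardC : (Nat.card C).factorization 2 + 1 = (Nat.card GL2).factorization 2)
    (hgen : ∀ P₂ T₂ : Subgroup GL2, PSetup C N P₂ → T₂ ≤ P₂ → (∀ g ∈ P₂, g * g = 1 → g ∈ T₂) →
      (∀ c ∈ P₂, c ∈ C → (∀ g ∈ N, g ∉ C → g * c * g⁻¹ = c⁻¹) → c ∈ T₂) →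
      (∀ x ∈ T₂, ∀ y ∈ P₂, IsConj (iota x) (iota y) → y ∈ T₂) → ∀ c ∈ P₂, c ∈ C → c ∈ T₂) :
    ∃ S0 : Subgroup SL3, Certificate 2 S0 := by
  have h2 : (2 : F) ≠ 0 := two_ne_zero_of_odd hodd
  have hcard : (Nat.card N).factorization 2 = (Nat.card GL2).factorization 2 := by
    rw [h.card_N, Nat.factorization_mul two_ne_zero Nat.card_pos.ne', Finsupp.add_apply,
      Nat.Prime.factorization_self Nat.prime_two, add_comm, hcardC]
  obtain ⟨P₂, hP, hcP⟩ := h.exists_psetup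
  refine ⟨P₂.map iota, ?_, ?_, ?_, ?_⟩
  · rw [Subgroup.card_map_of_injective iota_injective, hcP, hcard, factorization_card_SL3 hodd]
  · intro hbot
    obtain ⟨w₁, hw₁P, hw₁C, -⟩ := hP.w1
    have : iota w₁ ∈ P₂.map iota := Subgroup.mem_map_of_mem _ hw₁P
    rw [hbot, Subgroup.mem_bot, ← map_one (iota (F := F))] at this
    apply hw₁C
    rw [iota_injective this]
    exact C.one_mem
  · exact fun g hg => hP.inner h2 g hg
  · exact fun T hTS hT => hP.sc h2 (hgen P₂ · hP) T hTS hT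

end Main

end Cfsg.Agent.H9.SL3FusAbs
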