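import Cfsg.Agent.H9.SL3FusSplit
import Cfsg.Agent.H9.PSL2Fus

/-!
# The nonsplit torus of `GL₂(q)`, `q ≡ 3 (mod 4)`
-/

set_option autoImplicit false

namespace Cfsg.Agent.H9.SL3FusNonsplit

open Matrix Cfsg.Agent.H9.SL3Iota Cfsg.Agent.H9.SL3FusAbs Cfsg.Agent.H9.SL3FusSplit

variable {F : Type*} [Field F]

local notation "SL3" => Matrix.SpecialLinearGroup (Fin 3) F
local notation "GL2" => Matrix.GeneralLinearGroup (Fin 2) F
local notation "SL2" => Matrix.SpecialLinearGroup (Fin 2) F

/-- the shape `[[x, -y], [y, x]]` -/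
def IsC (g : GL2) : Prop := g.1 0 0 = g.1 1 1 ∧ g.1 0 1 = -g.1 1 0

/-- the shape `[[x, y], [y, -x]]` -/
def IsA (g : GL2) : Prop := g.1 0 0 = -g.1 1 1 ∧ g.1 0 1 = g.1 1 0

theorem IsC.mul {g h : GL2} (hg : IsC g) (hh : IsC h) : IsC (g * h) := by
  obtain ⟨g1, g2⟩ := hg
  obtain ⟨h1, h2⟩ := hh
  refine ⟨?_, ?_⟩
  · rw [mul_entries, mul_entries, g1, g2, h1, h2]; ring
  · rw [mul_entries, mul_entries, g1, g2, h1, h2]; ring

theorem IsC.inv {g : GL2} (hg : IsC g) : IsC g⁻¹ := by
  obtain ⟨g1, g2⟩ := hg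
  refine ⟨?_, ?_⟩
  · rw [inv_00, inv_11, g1]
  · rw [inv_01, inv_10, g2]; ring

theorem IsA.mul {g h : GL2} (hg : IsA g) (hh : IsA h) : IsC (g * h) := by
  obtain ⟨g1, g2⟩ := hg
  obtain ⟨h1, h2⟩ := hh
  refine ⟨?_, ?_⟩
  · rw [mul_entries, mul_entries, g1, g2, h1, h2]; ring
  · rw [mul_entries, mul_entries, g1, g2, h1, h2]; ring

theorem IsA.inv {g : GL2} (hg : IsA g) : IsA g⁻¹ := by
  obtain ⟨g1, g2⟩ := hg
  refine ⟨?_, ?_⟩
  · rw [inv_00, inv_11, g1]; ring
  · rw [inv_01, inv_10, g2]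

theorem IsC.mul_A {g h : GL2} (hg : IsC g) (hh : IsA h) : IsA (g * h) := by
  obtain ⟨g1, g2⟩ := hg
  obtain ⟨h1, h2⟩ := hh
  refine ⟨?_, ?_⟩
  · rw [mul_entries, mul_entries, g1, g2, h1, h2]; ring
  · rw [mul_entries, mul_entries, g1, g2, h1, h2]; ring

theorem IsA.mul_C {g h : GL2} (hg : IsA g) (hh : IsC h) : IsA (g * h) := by
  obtain ⟨g1, g2⟩ := hg
  obtain ⟨h1, h2⟩ := hh
  refine ⟨?_, ?_⟩
  · rw [mul_entries, mul_entries, g1, g2, h1, h2]; ring
  · rw [mul_entries, mul_entries, g1, g2, h1, h2]; ring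

theorem isC_one : IsC (1 : GL2) := by
  refine ⟨?_, ?_⟩ <;> simp

/-- the nonsplit torus -/
def Cn : Subgroup GL2 where
  carrier := {g | IsC g}
  one_mem' := isC_one
  mul_mem' := fun hg hh => hg.mul hh
  inv_mem' := fun hg => hg.inv

/-- its normalizer -/
def Nn : Subgroup GL2 where
  carrier := {g | IsC g ∨ IsA g}
  one_mem' := Or.inl isC_one
  mul_mem' := by
    rintro g h (hg | hg) (hh | hh)
    · exact Or.inl (hg.mul hh)
    · exact Or.inr (hg.mul_A hh)
    · exact Or.inr (hg.mul_C hh)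
    · exact Or.inl (hg.mul hh)
  inv_mem' := by
    rintro g (hg | hg)
    · exact Or.inl hg.inv
    · exact Or.inr hg.inv

theorem mem_Cn (g : GL2) : g ∈ (Cn : Subgroup GL2) ↔ IsC g := Iff.rfl

theorem mem_Nn (g : GL2) : g ∈ (Nn : Subgroup GL2) ↔ IsC g ∨ IsA g := Iff.rfl

theorem isA_of_not_mem {g : GL2} (hg : g ∈ (Nn : Subgroup GL2)) (hgC : g ∉ (Cn : Subgroup GL2)) :
    IsA g := by
  rcases hg with h | h
  · exact absurd h hgC
  · exact h

theorem dpm_isA : IsA (dpm (F := F)) := by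
  refine ⟨?_, ?_⟩ <;> simp [dpm_val]

theorem dpm_mul_dpm : (dpm (F := F)) * dpm = 1 := by
  apply ext_entries <;> rw [mul_entries] <;> simp [dpm_val]

theorem dpm_not_mem (h2 : (2 : F) ≠ 0) : (dpm (F := F)) ∉ (Cn : Subgroup GL2) := by
  rintro ⟨h, -⟩
  simp only [dpm_val, Matrix.of_apply, Matrix.cons_val', Matrix.cons_val_zero, Matrix.cons_val_one,
    Matrix.empty_val', Matrix.cons_val_fin_one] at h
  apply h2
  linear_combination h

/-- sums of two squares -/
theorem sq_add_sq_ne_zero [Fintype F] (hq : Fintype.card F % 4 = 3) {x y : F}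
    (h : ¬ (x = 0 ∧ y = 0)) : x * x + y * y ≠ 0 := by
  intro hxy
  have hns : ¬ IsSquare (-1 : F) := by
    rw [FiniteField.isSquare_neg_one_iff]
    omega
  by_cases hy : y = 0
  · rw [hy, mul_zero, add_zero] at hxy
    exact h ⟨mul_self_eq_zero.mp hxy, hy⟩
  · apply hns
    refine ⟨x / y, ?_⟩
    field_simp
    linear_combination -hxy

theorem exists_sq_two [Fintype F] (hq : Fintype.card F % 4 = 3) :
    ∃ s : F, s * s = 2 ∨ s * s = -2 := by
  have h8 : Fintype.card F % 8 = 3 ∨ Fintype.card F % 8 = 7 := by omega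
  rcases h8 with h8 | h8
  · have : IsSquare (-2 : F) := by
      rw [FiniteField.isSquare_neg_two_iff]
      omega
    obtain ⟨s, hs⟩ := this
    exact ⟨s, Or.inr hs.symm⟩
  · have : IsSquare (2 : F) := by
      rw [FiniteField.isSquare_two_iff]
      omega
    obtain ⟨s, hs⟩ := this
    exact ⟨s, Or.inl hs.symm⟩

theorem gsetup [Fintype F] (hq : Fintype.card F % 4 = 3) :
    GSetup (Cn : Subgroup GL2) (Nn : Subgroup GL2) := by
  have h2 : (2 : F) ≠ 0 := two_ne_zero_of_odd (by omega)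
  refine
    { le := fun _ hg => Or.inl hg
      comm := ?_
      idx := ?_
      w := ⟨dpm, Or.inr dpm_isA, dpm_not_mem h2, dpm_mul_dpm⟩
      normal := ?_
      fix := ?_
      neg := ?_
      nsc := ?_
      c0 := ?_ }
  · rintro a ⟨a1, a2⟩ b ⟨b1, b2⟩
    apply ext_entries <;> simp only [mul_entries, a1, a2, b1, b2] <;> ring
  · intro g hg h hh hgC hhC
    exact (isA_of_not_mem hg hgC).mul (isA_of_not_mem hh hhC)
  · intro g hg c hc
    by_cases hgC : g ∈ (Cn : Subgroup GL2)
    · exact Cn.mul_mem (Cn.mul_mem hgC hc) (Cn.inv_mem hgC)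
    · have hA := isA_of_not_mem hg hgC
      exact (hA.mul_C hc).mul hA.inv
  · intro g hg hgC c hc hfix
    obtain ⟨g1, g2⟩ := isA_of_not_mem hg hgC
    obtain ⟨c1, c2⟩ := hc
    have hm := mul_eq_of_conj hfix
    have e00 := congrArg (fun x : GL2 => x.1 0 0) hm
    have e01 := congrArg (fun x : GL2 => x.1 0 1) hm
    simp only [mul_entries, g1, g2, c1, c2] at e00 e01
    have hd := det_entries g
    rw [g1, g2] at hd
    have hb : c.1 1 0 = 0 := by
      by_contra hb
      have hy : g.1 1 0 = 0 := by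
        have : (2 : F) * (g.1 1 0 * c.1 1 0) = 0 := by linear_combination e00
        have := (mul_eq_zero.mp this).resolve_left h2
        exact (mul_eq_zero.mp this).resolve_right hb
      have hx : g.1 1 1 = 0 := by
        have : (2 : F) * (g.1 1 1 * c.1 1 0) = 0 := by linear_combination e01
        have := (mul_eq_zero.mp this).resolve_left h2
        exact (mul_eq_zero.mp this).resolve_right hb
      apply hd
      rw [hx, hy]
      ring
    rw [mem_center_iff]
    refine ⟨?_, hb, c1⟩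
    rw [c2, hb, neg_zero]
  · rw [mem_Cn]
    refine ⟨?_, ?_⟩ <;> simp
  · intro c hc hcz h hconj
    obtain ⟨c1, c2⟩ := hc
    obtain ⟨d1, d2⟩ := hconj
    have hb : c.1 1 0 ≠ 0 := by
      intro hb
      apply hcz
      rw [mem_center_iff]
      refine ⟨?_, hb, c1⟩
      rw [c2, hb, neg_zero]
    have hm : h * c = (h * c * h⁻¹) * h := by rw [inv_mul_cancel_right]
    -- trace and determinant
    have htr : (h * c * h⁻¹).1.trace = c.1.trace := by
      rw [Units.val_mul, Units.val_mul]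
      exact Matrix.trace_units_conj h c.1
    have hdet : (h * c * h⁻¹).1.det = c.1.det := by
      rw [Units.val_mul, Units.val_mul]
      exact Matrix.det_units_conj h c.1
    rw [Matrix.trace_fin_two, Matrix.trace_fin_two, d1, c1] at htr
    rw [Matrix.det_fin_two, Matrix.det_fin_two, d1, d2, c1, c2] at hdet
    have ha : (h * c * h⁻¹).1 1 1 = c.1 1 1 := by
      have : (2 : F) * ((h * c * h⁻¹).1 1 1 - c.1 1 1) = 0 := by linear_combination htr
      have := (mul_eq_zero.mp this).resolve_left h2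
      linear_combination this
    rw [ha] at hdet
    have hbb : ((h * c * h⁻¹).1 1 0 - c.1 1 0) * ((h * c * h⁻¹).1 1 0 + c.1 1 0) = 0 := by
      linear_combination hdet
    have e00 := congrArg (fun x : GL2 => x.1 0 0) hm
    have e01 := congrArg (fun x : GL2 => x.1 0 1) hm
    simp only [mul_entries h c, mul_entries (h * c * h⁻¹) h, c1, c2, d1, d2, ha] at e00 e01
    rcases mul_eq_zero.mp hbb with hb' | hb'
    · left
      have hb'' : (h * c * h⁻¹).1 1 0 = c.1 1 0 := by linear_combination hb'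
      rw [hb''] at e00 e01
      refine ⟨?_, ?_⟩
      · have : c.1 1 0 * (h.1 0 0 - h.1 1 1) = 0 := by linear_combination -e01
        have := (mul_eq_zero.mp this).resolve_left hb
        linear_combination this
      · have : c.1 1 0 * (h.1 0 1 + h.1 1 0) = 0 := by linear_combination e00
        have := (mul_eq_zero.mp this).resolve_left hb
        linear_combination this
    · right
      have hb'' : (h * c * h⁻¹).1 1 0 = -c.1 1 0 := by linear_combination hb'
      rw [hb''] at e00 e01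
      refine ⟨?_, ?_⟩
      · have : c.1 1 0 * (h.1 0 0 + h.1 1 1) = 0 := by linear_combination -e01
        have := (mul_eq_zero.mp this).resolve_left hb
        linear_combination this
      · have : c.1 1 0 * (h.1 0 1 - h.1 1 0) = 0 := by linear_combination e00
        have := (mul_eq_zero.mp this).resolve_left hb
        linear_combination this
  · obtain ⟨s, hs⟩ := exists_sq_two hq
    have hs0 : s ≠ 0 := by
      rintro rfl
      rcases hs with hs | hs
      · apply h2
        rw [← hs]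
        ring
      · apply h2
        have : (-2 : F) = 0 := by rw [← hs]; ring
        linear_combination -this
    have hdet : (!![s⁻¹, -s⁻¹; s⁻¹, s⁻¹] : Matrix (Fin 2) (Fin 2) F).det ≠ 0 := by
      rw [Matrix.det_fin_two_of]
      have : s⁻¹ * s⁻¹ - -s⁻¹ * s⁻¹ = 2 * (s⁻¹ * s⁻¹) := by ring
      rw [this]
      exact mul_ne_zero h2 (mul_ne_zero (inv_ne_zero hs0) (inv_ne_zero hs0))
    have hζv : (Matrix.GeneralLinearGroup.mkOfDetNeZero _ hdet : GL2).1 = !![s⁻¹, -s⁻¹; s⁻¹, s⁻¹] := rfl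
    have he : (2 : F) * (s⁻¹ * s⁻¹) = 1 ∨ (2 : F) * (s⁻¹ * s⁻¹) = -1 := by
      rcases hs with hs | hs
      · left
        field_simp
        linear_combination -hs
      · right
        field_simp
        linear_combination hs
    have he2 : ((2 : F) * (s⁻¹ * s⁻¹)) * ((2 : F) * (s⁻¹ * s⁻¹)) = 1 := by
      rcases he with he | he <;> rw [he] <;> ring
    refine ⟨Matrix.GeneralLinearGroup.mkOfDetNeZero _ hdet, ?_, ⟨3, ?_⟩, ?_⟩
    · rw [mem_Cn]
      refine ⟨?_, ?_⟩ <;> simp
    · have h4 : (Matrix.GeneralLinearGroup.mkOfDetNeZero _ hdet : GL2) ^ 2 ^ 3 =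
          ((Matrix.GeneralLinearGroup.mkOfDetNeZero _ hdet : GL2) *
            (Matrix.GeneralLinearGroup.mkOfDetNeZero _ hdet : GL2)) ^ 4 := by
        rw [← pow_two, ← pow_mul]
        norm_num
      rw [h4]
      apply ext_entries <;>
        simp only [pow_succ, pow_zero, one_mul, mul_entries, hζv, Matrix.of_apply, Matrix.cons_val',
          Matrix.cons_val_zero, Matrix.cons_val_one, Matrix.empty_val', Matrix.cons_val_fin_one,
          Units.val_one, Matrix.one_apply_eq] <;>
        first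
          | (simp only [Matrix.one_apply_ne (by decide : (0 : Fin 2) ≠ 1)]; ring)
          | (simp only [Matrix.one_apply_ne (by decide : (1 : Fin 2) ≠ 0)]; ring)
          | linear_combination (4 * s⁻¹ ^ 4) * he2 + he2
    · rw [mem_center_iff]
      rintro ⟨-, h10, -⟩
      rw [mul_entries, hζv] at h10
      simp only [Matrix.of_apply, Matrix.cons_val', Matrix.cons_val_zero, Matrix.cons_val_one,
        Matrix.empty_val', Matrix.cons_val_fin_one] at h10
      have : (2 : F) * (s⁻¹ * s⁻¹) = 0 := by linear_combination h10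
      rw [this] at he2
      simp at he2

/-! ### the order of the nonsplit torus -/

theorem card_Cn [Fintype F] (hq : Fintype.card F % 4 = 3) :
    Nat.card (Cn : Subgroup GL2) = Fintype.card F ^ 2 - 1 := by
  classical
  have hf : ∀ g : (Cn : Subgroup GL2), ((g.1.1 0 0, g.1.1 1 0) : F × F) ≠ 0 := by
    rintro ⟨g, g1, g2⟩ h0
    have h00 : g.1 0 0 = 0 := congrArg Prod.fst h0
    have h10 : g.1 1 0 = 0 := congrArg Prod.snd h0
    have hd := det_entries g
    apply hd
    rw [h00, h10]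
    ring
  let f : ↥(Cn : Subgroup GL2) → {p : F × F // p ≠ 0} := fun g => ⟨(g.1.1 0 0, g.1.1 1 0), hf g⟩
  have hbij : Function.Bijective f := by
    constructor
    · rintro ⟨g, g1, g2⟩ ⟨h, h1, h2⟩ hgh
      have e := congrArg Subtype.val hgh
      have e00 : g.1 0 0 = h.1 0 0 := congrArg Prod.fst e
      have e10 : g.1 1 0 = h.1 1 0 := congrArg Prod.snd e
      apply Subtype.ext
      apply ext_entries
      · exact e00
      · rw [g2, h2, e10]
      · exact e10
      · rw [← g1, ← h1, e00]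
    · rintro ⟨⟨x, y⟩, hp⟩
      have hxy : ¬ (x = 0 ∧ y = 0) := by
        rintro ⟨rfl, rfl⟩
        exact hp rfl
      have hdet : (!![x, -y; y, x] : Matrix (Fin 2) (Fin 2) F).det ≠ 0 := by
        rw [Matrix.det_fin_two_of]
        have := sq_add_sq_ne_zero hq hxy
        intro h
        apply this
        linear_combination h
      refine ⟨⟨Matrix.GeneralLinearGroup.mkOfDetNeZero _ hdet, ?_⟩, ?_⟩
      · refine ⟨?_, ?_⟩
        · show (!![x, -y; y, x] : Matrix (Fin 2) (Fin 2) F) 0 0 = (!![x, -y; y, x] : Matrix (Fin 2) (Fin 2) F) 1 1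
          simp
        · show (!![x, -y; y, x] : Matrix (Fin 2) (Fin 2) F) 0 1 = -(!![x, -y; y, x] : Matrix (Fin 2) (Fin 2) F) 1 0
          simp
      · apply Subtype.ext
        show ((!![x, -y; y, x] : Matrix (Fin 2) (Fin 2) F) 0 0, (!![x, -y; y, x] : Matrix (Fin 2) (Fin 2) F) 1 0) = (x, y)
        simp
  rw [Nat.card_congr (Equiv.ofBijective f hbij), Nat.card_eq_fintype_card,
    Fintype.card_subtype_compl, Fintype.card_subtype_eq, Fintype.card_prod, pow_two]

theorem hcardC [Fintype F] (hq : Fintype.card F % 4 = 3) :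
    (Nat.card (Cn : Subgroup GL2)).factorization 2 + 1 = (Nat.card GL2).factorization 2 := by
  have hq2 : 2 ≤ Fintype.card F := Fintype.one_lt_card
  rw [factorization_card_GL2 (by omega), card_Cn hq]
  obtain ⟨m, hm⟩ : ∃ m, Fintype.card F - 1 = 2 * m := ⟨(Fintype.card F - 1) / 2, by omega⟩
  have hm2 : ¬ 2 ∣ m := by omega
  have hm0 : m ≠ 0 := by omega
  rw [hm, Nat.factorization_mul two_ne_zero hm0]
  simp only [Finsupp.add_apply]
  rw [Nat.Prime.factorization_self Nat.prime_two, Nat.factorization_eq_zero_of_not_dvd hm2]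

/-! ### fusion in the nonsplit case -/

/-- the `2`-elements of `F^*` are `±1` when `q ≡ 3 (mod 4)` -/
theorem eq_one_or_neg_one [Fintype F] (hq : Fintype.card F % 4 = 3) (d : F) (k : ℕ)
    (hd : d ^ 2 ^ k = 1) : d = 1 ∨ d = -1 := by
  have hd0 : d ≠ 0 := by
    rintro rfl
    rw [zero_pow (by positivity)] at hd
    exact zero_ne_one hd
  have h1 : orderOf d ∣ 2 ^ k := orderOf_dvd_of_pow_eq_one hd
  have h2 : orderOf d ∣ Fintype.card F - 1 :=
    orderOf_dvd_of_pow_eq_one (FiniteField.pow_card_sub_one_eq_one d hd0)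
  obtain ⟨j, -, hj⟩ := (Nat.dvd_prime_pow Nat.prime_two).mp h1
  have hj1 : j ≤ 1 := by
    by_contra hj1
    have h4 : 4 ∣ orderOf d := by
      rw [hj]
      obtain ⟨i, rfl⟩ : ∃ i, j = i + 2 := ⟨j - 2, by omega⟩
      exact ⟨2 ^ i, by ring⟩
    have := dvd_trans h4 h2
    omega
  have hsq : d ^ 2 = 1 := by
    have := pow_orderOf_eq_one d
    rw [hj] at this
    interval_cases j
    · rw [pow_zero, pow_one] at this
      rw [this, one_pow]
    · rwa [pow_one] at this
  have : (d - 1) * (d + 1) = 0 := by linear_combination hsq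
  rcases mul_eq_zero.mp this with h | h
  · left; linear_combination h
  · right; linear_combination h

/-- an element of the shape `A` conjugates `c` in the torus to `det c • c⁻¹` -/
theorem isA_conj {g c : GL2} (hg : IsA g) (hc : IsC c) :
    (g * c * g⁻¹).1 = !![c.1 1 1, c.1 1 0; -c.1 1 0, c.1 1 1] := by
  obtain ⟨g1, g2⟩ := hg
  obtain ⟨c1, c2⟩ := hc
  have hdet : (!![c.1 1 1, c.1 1 0; -c.1 1 0, c.1 1 1] : Matrix (Fin 2) (Fin 2) F).det ≠ 0 := by
    rw [Matrix.det_fin_two_of]
    have := det_entries c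
    rw [c1, c2] at this
    intro h
    apply this
    linear_combination h
  have : g * c = Matrix.GeneralLinearGroup.mkOfDetNeZero _ hdet * g := by
    apply ext_entries <;> simp only [mul_entries, g1, g2, c1, c2] <;>
      simp [Matrix.GeneralLinearGroup.mkOfDetNeZero] <;> ring
  rw [this, mul_inv_cancel_right]
  rfl

/-- the element `[[0,-1],[1,0]]` -/
def i0 : GL2 := Matrix.GeneralLinearGroup.mkOfDetNeZero !![0, -1; 1, 0] (by
  rw [Matrix.det_fin_two_of]
  simp)

theorem i0_val : (i0 (F := F)).1 = !![0, -1; 1, 0] := rfl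

theorem i0_isC : IsC (i0 (F := F)) := by
  refine ⟨?_, ?_⟩ <;> simp [i0_val]

theorem i0_sq : (i0 (F := F)) * i0 = -1 := by
  apply ext_entries <;> rw [mul_entries] <;> simp [i0_val]

theorem det_i0 : (i0 (F := F)).1.det = 1 := by
  rw [i0_val, Matrix.det_fin_two_of]
  ring

/-- an element of determinant one, in `SL₂` -/
def toSL (x : GL2) (hx : x.1.det = 1) : SL2 := ⟨x.1, hx⟩

theorem toGL_toSL (x : GL2) (hx : x.1.det = 1) :
    Matrix.SpecialLinearGroup.toGL (toSL x hx) = x := Units.ext rfl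

theorem toSL_sq (x : GL2) (hx : x.1.det = 1) (hxx : x * x = -1) :
    toSL x hx * toSL x hx = (-1 : SL2) := by
  apply Subtype.ext
  rw [Matrix.SpecialLinearGroup.coe_mul, Matrix.SpecialLinearGroup.coe_neg,
    Matrix.SpecialLinearGroup.coe_one]
  have := congrArg Units.val hxx
  rwa [Units.val_mul, Units.val_neg, Units.val_one] at this

/-- elements of determinant one and square `-1` are fused -/
theorem isConj_iota_of_sq_neg_one [Fintype F] (hodd : Fintype.card F % 2 = 1) (u v : GL2)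
    (hu : u.1.det = 1) (hv : v.1.det = 1) (huu : u * u = -1) (hvv : v * v = -1) :
    IsConj (iota u) (iota v) := by
  have h1 := Cfsg.Agent.H9.PSL2Fus.isConj_of_sq_neg_one hodd (toSL u hu) (toSL v hv)
    (toSL_sq u hu huu) (toSL_sq v hv hvv)
  have h2 : IsConj (iota (Matrix.SpecialLinearGroup.toGL (toSL u hu)))
      (iota (Matrix.SpecialLinearGroup.toGL (toSL v hv))) :=
    (iota.comp (Matrix.SpecialLinearGroup.toGL (n := Fin 2) (R := F))).map_isConj h1
  rw [toGL_toSL, toGL_toSL] at h2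
  exact h2

/-- **the generation hypothesis in the nonsplit case** -/
theorem hgen [Fintype F] (hq : Fintype.card F % 4 = 3) (P₂ T₂ : Subgroup GL2)
    (hP : PSetup (Cn : Subgroup GL2) Nn P₂)
    (h1 : ∀ g ∈ P₂, g * g = 1 → g ∈ T₂)
    (h2 : ∀ c ∈ P₂, c ∈ (Cn : Subgroup GL2) →
      (∀ g ∈ (Nn : Subgroup GL2), g ∉ (Cn : Subgroup GL2) → g * c * g⁻¹ = c⁻¹) → c ∈ T₂)
    (h3 : ∀ x ∈ T₂, ∀ y ∈ P₂, IsConj (iota x) (iota y) → y ∈ T₂) :
    ∀ c ∈ P₂, c ∈ (Cn : Subgroup GL2) → c ∈ T₂ := by
  intro c hcP hcC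
  have hodd : Fintype.card F % 2 = 1 := by omega
  have h20 : (2 : F) ≠ 0 := two_ne_zero_of_odd hodd
  obtain ⟨w₁, hw₁P, hw₁C, hww⟩ := hP.w1
  have hw₁N := hP.leN hw₁P
  have hw₁A := isA_of_not_mem hw₁N hw₁C
  -- conjugation by elements outside the torus
  have hconj : ∀ x : GL2, IsC x → x.1.det = 1 →
      ∀ g ∈ (Nn : Subgroup GL2), g ∉ (Cn : Subgroup GL2) → g * x * g⁻¹ = x⁻¹ := by
    intro x hx hdx g hg hgC
    apply Units.ext
    rw [isA_conj (isA_of_not_mem hg hgC) hx, inv_entries, hdx, inv_one, one_smul, hx.1, hx.2, neg_neg]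
  -- the determinant of `c`
  obtain ⟨k, hk⟩ := hP.two c hcP
  have hdk : c.1.det ^ 2 ^ k = 1 := by
    rw [← Matrix.det_pow, ← Units.val_pow_eq_pow_val, hk, Units.val_one, Matrix.det_one]
  rcases eq_one_or_neg_one hq _ k hdk with hd | hd
  · exact h2 c hcP hcC (hconj c hcC hd)
  · -- `c w₁` has square `-1`
    have hw₁T : w₁ ∈ T₂ := h1 w₁ hw₁P hww
    have hi0P : i0 ∈ P₂ := by
      apply hP.c2 _ i0_isC
      refine ⟨2, ?_⟩
      have : (i0 (F := F)) ^ 2 ^ 2 = (i0 * i0) * (i0 * i0) := by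
        rw [show (2 : ℕ) ^ 2 = 4 from rfl, pow_succ, pow_succ, pow_succ, pow_one, mul_assoc (i0 * i0)]
      rw [this, i0_sq, neg_mul_neg, one_mul]
    have hi0T : i0 ∈ T₂ := h2 i0 hi0P i0_isC (hconj i0 i0_isC det_i0)
    have hdw : w₁.1.det = -1 := by
      have := congrArg (fun x : GL2 => x.1 0 0) hww
      simp only [mul_entries, Units.val_one, Matrix.one_apply_eq] at this
      rw [Matrix.det_fin_two, hw₁A.1, hw₁A.2]
      rw [hw₁A.1, hw₁A.2] at this
      linear_combination -this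
    have hcw : (c * w₁) * (c * w₁) = -1 := by
      have e : c * w₁ * (c * w₁) = c * (w₁ * c * w₁⁻¹) * (w₁ * w₁) := by group
      rw [e, hww, mul_one]
      apply Units.ext
      rw [Units.val_mul, isA_conj hw₁A hcC, Units.val_neg, Units.val_one]
      have hdc := hd
      rw [Matrix.det_fin_two, hcC.1, hcC.2] at hdc
      ext i j
      fin_cases i <;> fin_cases j <;>
        simp [Matrix.mul_apply, Fin.sum_univ_two, hcC.1, hcC.2] <;>
        first | linear_combination hdc | ring
    have hdcw : (c * w₁).1.det = 1 := by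
      rw [Units.val_mul, Matrix.det_mul, hd, hdw]
      ring
    have hcwT : c * w₁ ∈ T₂ :=
      h3 i0 hi0T (c * w₁) (P₂.mul_mem hcP hw₁P)
        (isConj_iota_of_sq_neg_one hodd i0 (c * w₁) det_i0 hdcw i0_sq hcw)
    have := T₂.mul_mem hcwT (T₂.inv_mem hw₁T)
    rwa [mul_inv_cancel_right] at this

/-- **the certificate in the nonsplit case** -/
theorem exists_certificate [Fintype F] (hq : Fintype.card F % 4 = 3) :
    ∃ S0 : Subgroup SL3, Cfsg.Agent.H9.GfsSimple2.Certificate 2 S0 := by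
  apply Cfsg.Agent.H9.SL3FusAbs.exists_certificate (by omega) (gsetup hq) (hcardC hq)
  intro P₂ T₂ hP _ h1 h2 h3
  exact hgen hq P₂ T₂ hP h1 h2 h3

end Cfsg.Agent.H9.SL3FusNonsplit
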