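import Cfsg.Agent.H9.SL3FusAbs

/-!
# The split torus of `GL₂(q)`, `q ≡ 1 (mod 4)`
-/

set_option autoImplicit false

namespace Cfsg.Agent.H9.SL3FusSplit

open Matrix Cfsg.Agent.H9.SL3Iota Cfsg.Agent.H9.SL3FusAbs

variable {F : Type*} [Field F]

local notation "SL3" => Matrix.SpecialLinearGroup (Fin 3) F
local notation "GL2" => Matrix.GeneralLinearGroup (Fin 2) F

theorem mul_entries (g h : GL2) (i j : Fin 2) :
    (g * h).1 i j = g.1 i 0 * h.1 0 j + g.1 i 1 * h.1 1 j := by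
  rw [Units.val_mul, Matrix.mul_apply, Fin.sum_univ_two]

theorem det_entries (g : GL2) : g.1 0 0 * g.1 1 1 - g.1 0 1 * g.1 1 0 ≠ 0 := by
  rw [← Matrix.det_fin_two]
  exact Matrix.GeneralLinearGroup.det_ne_zero g

theorem inv_entries (g : GL2) :
    (g⁻¹).1 = (g.1.det)⁻¹ • !![g.1 1 1, -g.1 0 1; -g.1 1 0, g.1 0 0] := by
  rw [Matrix.GeneralLinearGroup.coe_inv, Matrix.inv_def, Ring.inverse_eq_inv', Matrix.adjugate_fin_two]

theorem inv_00 (g : GL2) : (g⁻¹).1 0 0 = (g.1.det)⁻¹ * g.1 1 1 := by rw [inv_entries]; simp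
theorem inv_01 (g : GL2) : (g⁻¹).1 0 1 = -((g.1.det)⁻¹ * g.1 0 1) := by rw [inv_entries]; simp
theorem inv_10 (g : GL2) : (g⁻¹).1 1 0 = -((g.1.det)⁻¹ * g.1 1 0) := by rw [inv_entries]; simp
theorem inv_11 (g : GL2) : (g⁻¹).1 1 1 = (g.1.det)⁻¹ * g.1 0 0 := by rw [inv_entries]; simp

theorem ext_entries {g h : GL2} (h00 : g.1 0 0 = h.1 0 0) (h01 : g.1 0 1 = h.1 0 1)
    (h10 : g.1 1 0 = h.1 1 0) (h11 : g.1 1 1 = h.1 1 1) : g = h := by
  apply Units.ext
  ext i j
  fin_cases i <;> fin_cases j <;> assumption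

/-- the diagonal subgroup -/
def Ds : Subgroup GL2 where
  carrier := {g | g.1 0 1 = 0 ∧ g.1 1 0 = 0}
  one_mem' := by simp
  mul_mem' := by
    rintro g h ⟨g1, g2⟩ ⟨h1, h2⟩
    refine ⟨?_, ?_⟩
    · show (g * h).1 0 1 = 0
      rw [mul_entries, g1, h1]; ring
    · show (g * h).1 1 0 = 0
      rw [mul_entries, g2, h2]; ring
  inv_mem' := by
    rintro g ⟨g1, g2⟩
    refine ⟨?_, ?_⟩
    · show (g⁻¹).1 0 1 = 0
      rw [inv_01, g1]; ring
    · show (g⁻¹).1 1 0 = 0
      rw [inv_10, g2]; ring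

theorem mem_Ds (g : GL2) : g ∈ (Ds : Subgroup GL2) ↔ g.1 0 1 = 0 ∧ g.1 1 0 = 0 := Iff.rfl

/-- the monomial subgroup -/
def Ms : Subgroup GL2 where
  carrier := {g | (g.1 0 1 = 0 ∧ g.1 1 0 = 0) ∨ (g.1 0 0 = 0 ∧ g.1 1 1 = 0)}
  one_mem' := by simp
  mul_mem' := by
    rintro g h (⟨g1, g2⟩ | ⟨g1, g2⟩) (⟨h1, h2⟩ | ⟨h1, h2⟩)
    · left
      refine ⟨?_, ?_⟩
      · show (g * h).1 0 1 = 0
        rw [mul_entries, g1, h1]; ring
      · show (g * h).1 1 0 = 0
        rw [mul_entries, g2, h2]; ring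
    · right
      refine ⟨?_, ?_⟩
      · show (g * h).1 0 0 = 0
        rw [mul_entries, g1, h1]; ring
      · show (g * h).1 1 1 = 0
        rw [mul_entries, g2, h2]; ring
    · right
      refine ⟨?_, ?_⟩
      · show (g * h).1 0 0 = 0
        rw [mul_entries, g1, h2]; ring
      · show (g * h).1 1 1 = 0
        rw [mul_entries, g2, h1]; ring
    · left
      refine ⟨?_, ?_⟩
      · show (g * h).1 0 1 = 0
        rw [mul_entries, g1, h2]; ring
      · show (g * h).1 1 0 = 0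
        rw [mul_entries, g2, h1]; ring
  inv_mem' := by
    rintro g (⟨g1, g2⟩ | ⟨g1, g2⟩)
    · left
      refine ⟨?_, ?_⟩
      · show (g⁻¹).1 0 1 = 0
        rw [inv_01, g1]; ring
      · show (g⁻¹).1 1 0 = 0
        rw [inv_10, g2]; ring
    · right
      refine ⟨?_, ?_⟩
      · show (g⁻¹).1 0 0 = 0
        rw [inv_00, g2]; ring
      · show (g⁻¹).1 1 1 = 0
        rw [inv_11, g1]; ring

theorem mem_Ms (g : GL2) : g ∈ (Ms : Subgroup GL2) ↔
    (g.1 0 1 = 0 ∧ g.1 1 0 = 0) ∨ (g.1 0 0 = 0 ∧ g.1 1 1 = 0) := Iff.rfl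

/-- an element of `Ms` outside `Ds` is antidiagonal -/
theorem anti_of_not_mem {g : GL2} (hg : g ∈ (Ms : Subgroup GL2)) (hgD : g ∉ (Ds : Subgroup GL2)) :
    g.1 0 0 = 0 ∧ g.1 1 1 = 0 := by
  rcases hg with h | h
  · exact absurd h hgD
  · exact h

/-- the swap matrix -/
def sw : GL2 := Matrix.GeneralLinearGroup.mkOfDetNeZero !![0, 1; 1, 0] (by
  rw [Matrix.det_fin_two_of]
  simp)

theorem sw_val : (sw (F := F)).1 = !![0, 1; 1, 0] := rfl

/-- the diagonal matrices -/
def dg (a b : Fˣ) : GL2 :=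
  ⟨!![(a : F), 0; 0, (b : F)], !![((a⁻¹ : Fˣ) : F), 0; 0, ((b⁻¹ : Fˣ) : F)], by
    ext i j
    fin_cases i <;> fin_cases j <;> simp [Matrix.mul_apply, Fin.sum_univ_two], by
    ext i j
    fin_cases i <;> fin_cases j <;> simp [Matrix.mul_apply, Fin.sum_univ_two]⟩

theorem dg_val (a b : Fˣ) : (dg a b).1 = !![(a : F), 0; 0, (b : F)] := rfl

theorem dg_mem (a b : Fˣ) : dg a b ∈ (Ds : Subgroup GL2) := by
  rw [mem_Ds, dg_val]
  simp

theorem dg_mul (a b c d : Fˣ) : dg a b * dg c d = dg (a * c) (b * d) := by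
  apply ext_entries <;> rw [mul_entries] <;> simp [dg_val]

theorem dg_one : dg (1 : Fˣ) 1 = 1 := by
  apply ext_entries <;> simp [dg_val]

theorem dg_pow (a b : Fˣ) (n : ℕ) : dg a b ^ n = dg (a ^ n) (b ^ n) := by
  induction n with
  | zero => simp [dg_one]
  | succ n ih => rw [pow_succ, ih, dg_mul, pow_succ, pow_succ]

/-- every element of `Ds` is a `dg` -/
theorem exists_dg {g : GL2} (hg : g ∈ (Ds : Subgroup GL2)) : ∃ a b : Fˣ, g = dg a b := by
  obtain ⟨g1, g2⟩ := hg
  have hd := det_entries g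
  rw [g1, zero_mul, sub_zero] at hd
  have ha : g.1 0 0 ≠ 0 := left_ne_zero_of_mul hd
  have hb : g.1 1 1 ≠ 0 := right_ne_zero_of_mul hd
  refine ⟨Units.mk0 _ ha, Units.mk0 _ hb, ?_⟩
  apply ext_entries <;> simp [dg_val, g1, g2]

theorem dg_inj {a b c d : Fˣ} (h : dg a b = dg c d) : a = c ∧ b = d := by
  have h1 := congrArg (fun g : GL2 => g.1 0 0) h
  have h2 := congrArg (fun g : GL2 => g.1 1 1) h
  simp only [dg_val] at h1 h2
  exact ⟨Units.ext (by simpa using h1), Units.ext (by simpa using h2)⟩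

theorem mul_eq_of_conj {g c d : GL2} (h : g * c * g⁻¹ = d) : g * c = d * g := by
  rw [← h, inv_mul_cancel_right]

theorem sw_mul_sw : (sw (F := F)) * sw = 1 := by
  apply ext_entries <;> rw [mul_entries] <;> simp [sw_val]

theorem sw_mem : (sw (F := F)) ∈ (Ms : Subgroup GL2) := Or.inr (by simp [sw_val])

theorem sw_not_mem : (sw (F := F)) ∉ (Ds : Subgroup GL2) := by
  rintro ⟨h, -⟩
  simp [sw_val] at h

theorem exists_sq_neg_one [Fintype F] (hq : Fintype.card F % 4 = 1) : ∃ i : F, i * i = -1 := by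
  have : IsSquare (-1 : F) := by
    rw [FiniteField.isSquare_neg_one_iff]
    omega
  obtain ⟨i, hi⟩ := this
  exact ⟨i, hi.symm⟩

theorem gsetup [Fintype F] (hq : Fintype.card F % 4 = 1) :
    GSetup (Ds : Subgroup GL2) (Ms : Subgroup GL2) := by
  have h2 : (2 : F) ≠ 0 := two_ne_zero_of_odd (by omega)
  refine
    { le := fun _ hg => Or.inl hg
      comm := ?_
      idx := ?_
      w := ⟨sw, sw_mem, sw_not_mem, sw_mul_sw⟩
      normal := ?_
      fix := ?_
      neg := ?_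
      nsc := ?_
      c0 := ?_ }
  · rintro a ⟨a1, a2⟩ b ⟨b1, b2⟩
    apply ext_entries <;> simp only [mul_entries, a1, a2, b1, b2] <;> ring
  · intro g hg h hh hgD hhD
    obtain ⟨g1, g2⟩ := anti_of_not_mem hg hgD
    obtain ⟨h1, h2'⟩ := anti_of_not_mem hh hhD
    refine ⟨?_, ?_⟩
    · show (g * h).1 0 1 = 0
      rw [mul_entries, g1, h2']; ring
    · show (g * h).1 1 0 = 0
      rw [mul_entries, g2, h1]; ring
  · intro g hg c hc
    by_cases hgD : g ∈ (Ds : Subgroup GL2)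
    · exact Ds.mul_mem (Ds.mul_mem hgD hc) (Ds.inv_mem hgD)
    · obtain ⟨g1, g2⟩ := anti_of_not_mem hg hgD
      obtain ⟨c1, c2⟩ := hc
      refine ⟨?_, ?_⟩
      · show (g * c * g⁻¹).1 0 1 = 0
        rw [mul_entries, mul_entries, mul_entries, inv_01, inv_11, g1, c1, c2]; ring
      · show (g * c * g⁻¹).1 1 0 = 0
        rw [mul_entries, mul_entries, mul_entries, inv_00, inv_10, g2, c1, c2]; ring
  · intro g hg hgD c hc hfix
    obtain ⟨g1, g2⟩ := anti_of_not_mem hg hgD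
    obtain ⟨c1, c2⟩ := hc
    have hm := mul_eq_of_conj hfix
    have e01 := congrArg (fun x : GL2 => x.1 0 1) hm
    simp only [mul_entries, g1, c1] at e01
    have hd := det_entries g
    rw [g1, zero_mul, zero_sub, neg_ne_zero] at hd
    have hg01 : g.1 0 1 ≠ 0 := left_ne_zero_of_mul hd
    rw [mem_center_iff]
    refine ⟨c1, c2, ?_⟩
    have : g.1 0 1 * (c.1 1 1 - c.1 0 0) = 0 := by linear_combination e01
    have := (mul_eq_zero.mp this).resolve_left hg01
    linear_combination -this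
  · rw [mem_Ds]
    simp
  · intro c hc hcz h hconj
    obtain ⟨c1, c2⟩ := hc
    obtain ⟨d1, d2⟩ := hconj
    have hab : c.1 0 0 ≠ c.1 1 1 := by
      intro hab
      apply hcz
      rw [mem_center_iff]
      exact ⟨c1, c2, hab⟩
    have hm : h * c = (h * c * h⁻¹) * h := by rw [inv_mul_cancel_right]
    have e00 := congrArg (fun x : GL2 => x.1 0 0) hm
    have e01 := congrArg (fun x : GL2 => x.1 0 1) hm
    have e10 := congrArg (fun x : GL2 => x.1 1 0) hm
    have e11 := congrArg (fun x : GL2 => x.1 1 1) hm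
    simp only [mul_entries h c, mul_entries (h * c * h⁻¹) h, c1, c2, d1, d2] at e00 e01 e10 e11
    have hd := det_entries h
    by_cases hp : h.1 0 0 = 0
    · right
      rw [hp, zero_mul, zero_sub, neg_ne_zero] at hd
      have hr : h.1 0 1 ≠ 0 := left_ne_zero_of_mul hd
      have hs : h.1 1 0 ≠ 0 := right_ne_zero_of_mul hd
      refine ⟨hp, ?_⟩
      have ha' : (h * c * h⁻¹).1 0 0 = c.1 1 1 := by
        have : h.1 0 1 * (c.1 1 1 - (h * c * h⁻¹).1 0 0) = 0 := by linear_combination e01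
        have := (mul_eq_zero.mp this).resolve_left hr
        linear_combination -this
      have hb' : (h * c * h⁻¹).1 1 1 = c.1 0 0 := by
        have : h.1 1 0 * (c.1 0 0 - (h * c * h⁻¹).1 1 1) = 0 := by linear_combination e10
        have := (mul_eq_zero.mp this).resolve_left hs
        linear_combination -this
      have : h.1 1 1 * (c.1 1 1 - c.1 0 0) = 0 := by
        rw [hb'] at e11
        linear_combination e11
      exact (mul_eq_zero.mp this).resolve_right (sub_ne_zero.mpr (Ne.symm hab))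
    · left
      have ha' : (h * c * h⁻¹).1 0 0 = c.1 0 0 := by
        have : h.1 0 0 * (c.1 0 0 - (h * c * h⁻¹).1 0 0) = 0 := by linear_combination e00
        have := (mul_eq_zero.mp this).resolve_left hp
        linear_combination -this
      have hr : h.1 0 1 = 0 := by
        have : h.1 0 1 * (c.1 1 1 - c.1 0 0) = 0 := by
          rw [ha'] at e01
          linear_combination e01
        exact (mul_eq_zero.mp this).resolve_right (sub_ne_zero.mpr (Ne.symm hab))
      rw [hr, zero_mul, sub_zero] at hd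
      have ht : h.1 1 1 ≠ 0 := right_ne_zero_of_mul hd
      have hb' : (h * c * h⁻¹).1 1 1 = c.1 1 1 := by
        have : h.1 1 1 * (c.1 1 1 - (h * c * h⁻¹).1 1 1) = 0 := by linear_combination e11
        have := (mul_eq_zero.mp this).resolve_left ht
        linear_combination -this
      refine ⟨hr, ?_⟩
      have : h.1 1 0 * (c.1 0 0 - c.1 1 1) = 0 := by
        rw [hb'] at e10
        linear_combination e10
      exact (mul_eq_zero.mp this).resolve_right (sub_ne_zero.mpr hab)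
  · obtain ⟨i, hi⟩ := exists_sq_neg_one hq
    have hi0 : i ≠ 0 := by
      rintro rfl
      simp at hi
    refine ⟨dg (Units.mk0 i hi0) 1, dg_mem _ _, ⟨2, ?_⟩, ?_⟩
    · rw [dg_pow, one_pow]
      have : (Units.mk0 i hi0) ^ 2 ^ 2 = 1 := by
        apply Units.ext
        rw [Units.val_pow_eq_pow_val, Units.val_mk0, Units.val_one]
        have : i ^ 2 ^ 2 = (i * i) * (i * i) := by ring
        rw [this, hi]
        ring
      rw [this, dg_one]
    · rw [dg_mul, mem_center_iff, dg_val]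
      rintro ⟨-, -, h3⟩
      simp only [Matrix.of_apply, Matrix.cons_val', Matrix.cons_val_zero, Matrix.cons_val_one,
        Matrix.empty_val', Matrix.cons_val_fin_one, Units.val_mul, Units.val_mk0, Units.val_one,
        mul_one] at h3
      rw [hi] at h3
      apply h2
      linear_combination -h3

/-- the diagonal matrices, as a homomorphism -/
def dgHom : Fˣ × Fˣ →* GL2 where
  toFun p := dg p.1 p.2
  map_one' := dg_one
  map_mul' p q := (dg_mul p.1 p.2 q.1 q.2).symm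

theorem dgHom_injective : Function.Injective (dgHom (F := F)) := by
  intro p q h
  obtain ⟨h1, h2⟩ := dg_inj h
  exact Prod.ext h1 h2

theorem Ds_eq_range : (Ds : Subgroup GL2) = (dgHom (F := F)).range := by
  ext g
  constructor
  · intro hg
    obtain ⟨a, b, rfl⟩ := exists_dg hg
    exact ⟨(a, b), rfl⟩
  · rintro ⟨p, rfl⟩
    exact dg_mem _ _

theorem card_Ds [Fintype F] : Nat.card (Ds : Subgroup GL2) = (Fintype.card F - 1) ^ 2 := by
  rw [Ds_eq_range, Nat.card_congr (MonoidHom.ofInjective dgHom_injective).symm.toEquiv,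
    Nat.card_prod, Nat.card_units, Nat.card_eq_fintype_card, pow_two]

theorem hcardC [Fintype F] (hq : Fintype.card F % 4 = 1) :
    (Nat.card (Ds : Subgroup GL2)).factorization 2 + 1 = (Nat.card GL2).factorization 2 := by
  have hq2 : 2 ≤ Fintype.card F := Fintype.one_lt_card
  rw [factorization_card_GL2 (by omega), card_Ds, Nat.factorization_pow]
  have h1 : Fintype.card F ^ 2 - 1 = (Fintype.card F - 1) * (Fintype.card F + 1) := by
    have h4 : 1 ≤ Fintype.card F ^ 2 := Nat.one_le_pow _ _ (by omega)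
    have h5 : 1 ≤ Fintype.card F := by omega
    zify [h4, h5]
    ring
  obtain ⟨m, hm⟩ : ∃ m, Fintype.card F + 1 = 2 * m := ⟨(Fintype.card F + 1) / 2, by omega⟩
  have hm2 : ¬ 2 ∣ m := by omega
  have hm0 : m ≠ 0 := by omega
  rw [h1, Nat.factorization_mul (by omega) (by omega), hm, Nat.factorization_mul two_ne_zero hm0]
  simp only [Finsupp.add_apply, Finsupp.smul_apply, smul_eq_mul]
  rw [Nat.Prime.factorization_self Nat.prime_two, Nat.factorization_eq_zero_of_not_dvd hm2]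
  ring

/-! ### fusion of the diagonal elements -/

theorem dg_inv (a b : Fˣ) : (dg a b)⁻¹ = dg a⁻¹ b⁻¹ := by
  apply inv_eq_of_mul_eq_one_right
  rw [dg_mul, mul_inv_cancel, mul_inv_cancel, dg_one]

/-- an antidiagonal matrix exchanges the two diagonal entries -/
theorem anti_conj (g : GL2) (g1 : g.1 0 0 = 0) (g2 : g.1 1 1 = 0) (a b : Fˣ) :
    g * dg a b * g⁻¹ = dg b a := by
  have : g * dg a b = dg b a * g := by
    apply ext_entries <;> simp only [mul_entries, dg_val, g1, g2] <;> simp <;> ring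
  rw [this, mul_inv_cancel_right]

/-- the diagonal matrix of size three -/
def diag3 (x y z : F) : Matrix (Fin 3) (Fin 3) F := !![x, 0, 0; 0, y, 0; 0, 0, z]

theorem iota_dg (a b : Fˣ) : (iota (dg a b)).1 = diag3 (a : F) (b : F) ((a : F) * (b : F))⁻¹ := by
  rw [iota_val, dg_val, Matrix.det_fin_two_of]
  ext i j
  fin_cases i <;> fin_cases j <;> simp [blk, diag3]

/-- the signed permutation matrix exchanging the last two coordinates -/
def r12 : SL3 := ⟨!![1, 0, 0; 0, 0, 1; 0, -1, 0], by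
  rw [Matrix.det_fin_three]
  simp⟩

theorem r12_mul (x y z : F) : (r12 (F := F)).1 * diag3 x y z = diag3 x z y * (r12 (F := F)).1 := by
  ext i j
  fin_cases i <;> fin_cases j <;> simp [r12, diag3, Matrix.mul_apply, Fin.sum_univ_three]

theorem rot_mul (x y z : F) : (rot (F := F)).1 * diag3 x y z = diag3 z y x * (rot (F := F)).1 := by
  ext i j
  fin_cases i <;> fin_cases j <;> simp [rot, diag3, Matrix.mul_apply, Fin.sum_univ_three]

theorem isConj_dg_left (a : Fˣ) : IsConj (iota (dg a a⁻¹)) (iota (dg a 1)) := by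
  rw [isConj_iff]
  refine ⟨r12, ?_⟩
  have : r12 * iota (dg a a⁻¹) = iota (dg a 1) * r12 := by
    apply Subtype.ext
    rw [Matrix.SpecialLinearGroup.coe_mul, Matrix.SpecialLinearGroup.coe_mul, iota_dg, iota_dg,
      r12_mul]
    congr 2 <;> simp
  rw [this, mul_inv_cancel_right]

theorem isConj_dg_right (b : Fˣ) : IsConj (iota (dg b⁻¹ b)) (iota (dg 1 b)) := by
  rw [isConj_iff]
  refine ⟨rot, ?_⟩
  have : rot * iota (dg b⁻¹ b) = iota (dg 1 b) * rot := by
    apply Subtype.ext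
    rw [Matrix.SpecialLinearGroup.coe_mul, Matrix.SpecialLinearGroup.coe_mul, iota_dg, iota_dg,
      rot_mul]
    congr 2 <;> simp
  rw [this, mul_inv_cancel_right]

/-- **the generation hypothesis in the split case** -/
theorem hgen (P₂ T₂ : Subgroup GL2) (hP : PSetup (Ds : Subgroup GL2) Ms P₂)
    (h2 : ∀ c ∈ P₂, c ∈ (Ds : Subgroup GL2) →
      (∀ g ∈ (Ms : Subgroup GL2), g ∉ (Ds : Subgroup GL2) → g * c * g⁻¹ = c⁻¹) → c ∈ T₂)
    (h3 : ∀ x ∈ T₂, ∀ y ∈ P₂, IsConj (iota x) (iota y) → y ∈ T₂) :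
    ∀ c ∈ P₂, c ∈ (Ds : Subgroup GL2) → c ∈ T₂ := by
  intro c hcP hcD
  obtain ⟨a, b, rfl⟩ := exists_dg hcD
  obtain ⟨k, hk⟩ := hP.two _ hcP
  rw [dg_pow, ← dg_one] at hk
  obtain ⟨ha, hb⟩ := dg_inj hk
  have hmem : ∀ x y : Fˣ, x ^ 2 ^ k = 1 → y ^ 2 ^ k = 1 → dg x y ∈ P₂ := by
    intro x y hx hy
    apply hP.c2 _ (dg_mem _ _)
    refine ⟨k, ?_⟩
    rw [dg_pow, hx, hy, dg_one]
  have hinv : ∀ x : Fˣ, ∀ g ∈ (Ms : Subgroup GL2), g ∉ (Ds : Subgroup GL2) →
      g * dg x x⁻¹ * g⁻¹ = (dg x x⁻¹)⁻¹ := by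
    intro x g hg hgD
    obtain ⟨g1, g2⟩ := anti_of_not_mem hg hgD
    rw [anti_conj g g1 g2, dg_inv, inv_inv]
  have ha' : a⁻¹ ^ 2 ^ k = 1 := by rw [inv_pow, ha, inv_one]
  have hb' : b⁻¹ ^ 2 ^ k = 1 := by rw [inv_pow, hb, inv_one]
  have h4 : dg a 1 ∈ T₂ := by
    apply h3 (dg a a⁻¹) (h2 _ (hmem a a⁻¹ ha ha') (dg_mem _ _) (hinv a)) _ (hmem a 1 ha (one_pow _))
    exact isConj_dg_left a
  have h5 : dg 1 b ∈ T₂ := by
    have h6 : dg b⁻¹ b ∈ T₂ := by
      have := h2 _ (hmem b⁻¹ b hb' hb) (dg_mem _ _) (by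
        have := hinv b⁻¹
        rwa [inv_inv] at this)
      exact this
    apply h3 (dg b⁻¹ b) h6 _ (hmem 1 b (one_pow _) hb)
    exact isConj_dg_right b
  have := T₂.mul_mem h4 h5
  rwa [dg_mul, mul_one, one_mul] at this

/-- **the certificate in the split case** -/
theorem exists_certificate [Fintype F] (hq : Fintype.card F % 4 = 1) :
    ∃ S0 : Subgroup SL3, Cfsg.Agent.H9.GfsSimple2.Certificate 2 S0 := by
  apply Cfsg.Agent.H9.SL3FusAbs.exists_certificate (by omega) (gsetup hq) (hcardC hq)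
  intro P₂ T₂ hP _ _ h2 h3
  exact hgen P₂ T₂ hP h2 h3

end Cfsg.Agent.H9.SL3FusSplit
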