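import Mathlib
import Cfsg.Agent.H2.LargePrimeSylowSL
import Cfsg.Agent.H9.SemisimpleConj

/-!
# The embedding `GL₂(F) → SL₃(F)`, `g ↦ diag(g, (det g)⁻¹)`
-/

set_option autoImplicit false

namespace Cfsg.Agent.H9.SL3Iota

open Matrix

variable {F : Type*} [Field F]

local notation "SL3" => Matrix.SpecialLinearGroup (Fin 3) F
local notation "GL2" => Matrix.GeneralLinearGroup (Fin 2) F

/-- the block matrix `diag(A, d)` -/
def blk (A : Matrix (Fin 2) (Fin 2) F) (d : F) : Matrix (Fin 3) (Fin 3) F :=
  !![A 0 0, A 0 1, 0; A 1 0, A 1 1, 0; 0, 0, d]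

theorem blk_mul (A B : Matrix (Fin 2) (Fin 2) F) (d e : F) :
    blk A d * blk B e = blk (A * B) (d * e) := by
  ext i j
  fin_cases i <;> fin_cases j <;>
    simp [blk, Matrix.mul_apply, Fin.sum_univ_three, Fin.sum_univ_two]

theorem blk_one : blk (1 : Matrix (Fin 2) (Fin 2) F) 1 = 1 := by
  ext i j
  fin_cases i <;> fin_cases j <;> simp [blk]

theorem det_blk (A : Matrix (Fin 2) (Fin 2) F) (d : F) : (blk A d).det = A.det * d := by
  rw [Matrix.det_fin_three, Matrix.det_fin_two]
  simp [blk]
  ring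

theorem blk_inj {A B : Matrix (Fin 2) (Fin 2) F} {d e : F} (h : blk A d = blk B e) :
    A = B ∧ d = e := by
  refine ⟨?_, ?_⟩
  · ext i j
    fin_cases i <;> fin_cases j
    · simpa [blk] using congrFun (congrFun h 0) 0
    · simpa [blk] using congrFun (congrFun h 0) 1
    · simpa [blk] using congrFun (congrFun h 1) 0
    · simpa [blk] using congrFun (congrFun h 1) 1
  · simpa [blk] using congrFun (congrFun h 2) 2

/-- the embedding -/
def iota : GL2 →* SL3 where
  toFun g := ⟨blk g.1 (g.1.det)⁻¹, by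
    rw [det_blk, mul_inv_cancel₀ (Matrix.GeneralLinearGroup.det_ne_zero g)]⟩
  map_one' := by
    apply Subtype.ext
    show blk (1 : GL2).1 ((1 : GL2).1.det)⁻¹ = 1
    rw [Units.val_one, Matrix.det_one, inv_one, blk_one]
  map_mul' g h := by
    apply Subtype.ext
    show blk (g * h).1 ((g * h).1.det)⁻¹ = blk g.1 (g.1.det)⁻¹ * blk h.1 (h.1.det)⁻¹
    rw [blk_mul, Units.val_mul, Matrix.det_mul, mul_inv]

theorem iota_val (g : GL2) : (iota g).1 = blk g.1 (g.1.det)⁻¹ := rfl

theorem iota_injective : Function.Injective (iota (F := F)) := by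
  intro g h hgh
  have := congrArg Subtype.val hgh
  rw [iota_val, iota_val] at this
  exact Units.ext (blk_inj this).1

/-- the central involution `diag(-1,-1,1)` -/
theorem iota_neg_one_val : (iota (-1 : GL2)).1 = blk (-1) 1 := by
  rw [iota_val]
  have : ((-1 : GL2).1).det = 1 := by
    rw [Units.val_neg, Units.val_one, Matrix.det_neg, Matrix.det_one, Fintype.card_fin]
    norm_num
  rw [this, inv_one, Units.val_neg, Units.val_one]

/-- the centralizer of `diag(-1,-1,1)` is the image of `iota` -/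
theorem exists_of_comm (h2 : (2 : F) ≠ 0) (g : SL3) (hg : g * iota (-1 : GL2) = iota (-1 : GL2) * g) :
    ∃ h : GL2, iota h = g := by
  have hm : g.1 * blk (-1) 1 = blk (-1) 1 * g.1 := by
    have := congrArg Subtype.val hg
    rwa [Matrix.SpecialLinearGroup.coe_mul, Matrix.SpecialLinearGroup.coe_mul,
      iota_neg_one_val] at this
  have e02 : g.1 0 2 = 0 := by
    have := congrFun (congrFun hm 0) 2
    simp [blk, Matrix.mul_apply, Fin.sum_univ_three] at this
    have h3 : (2 : F) * g.1 0 2 = 0 := by linear_combination this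
    exact (mul_eq_zero.1 h3).resolve_left h2
  have e12 : g.1 1 2 = 0 := by
    have := congrFun (congrFun hm 1) 2
    simp [blk, Matrix.mul_apply, Fin.sum_univ_three] at this
    have h3 : (2 : F) * g.1 1 2 = 0 := by linear_combination this
    exact (mul_eq_zero.1 h3).resolve_left h2
  have e20 : g.1 2 0 = 0 := by
    have := congrFun (congrFun hm 2) 0
    simp [blk, Matrix.mul_apply, Fin.sum_univ_three] at this
    have h3 : (2 : F) * g.1 2 0 = 0 := by linear_combination -this
    exact (mul_eq_zero.1 h3).resolve_left h2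
  have e21 : g.1 2 1 = 0 := by
    have := congrFun (congrFun hm 2) 1
    simp [blk, Matrix.mul_apply, Fin.sum_univ_three] at this
    have h3 : (2 : F) * g.1 2 1 = 0 := by linear_combination -this
    exact (mul_eq_zero.1 h3).resolve_left h2
  have hgeq : g.1 = blk !![g.1 0 0, g.1 0 1; g.1 1 0, g.1 1 1] (g.1 2 2) := by
    ext i j
    fin_cases i <;> fin_cases j <;> simp [blk, e02, e12, e20, e21]
  have hdet : (!![g.1 0 0, g.1 0 1; g.1 1 0, g.1 1 1] : Matrix (Fin 2) (Fin 2) F).det * g.1 2 2 = 1 := by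
    rw [← det_blk, ← hgeq]
    exact g.2
  have hne : (!![g.1 0 0, g.1 0 1; g.1 1 0, g.1 1 1] : Matrix (Fin 2) (Fin 2) F).det ≠ 0 := by
    intro h
    rw [h, zero_mul] at hdet
    exact zero_ne_one hdet
  refine ⟨Matrix.GeneralLinearGroup.mkOfDetNeZero _ hne, ?_⟩
  apply Subtype.ext
  have h1 : (Matrix.GeneralLinearGroup.mkOfDetNeZero _ hne : GL2).1 =
      !![g.1 0 0, g.1 0 1; g.1 1 0, g.1 1 1] := rfl
  rw [iota_val, h1]
  have h3 : (!![g.1 0 0, g.1 0 1; g.1 1 0, g.1 1 1] : Matrix (Fin 2) (Fin 2) F).det⁻¹ = g.1 2 2 :=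
    (eq_inv_of_mul_eq_one_right hdet).symm
  rw [h3]
  exact hgeq.symm

/-! ### central elements and involutions of `GL₂` -/

theorem mem_center_iff (g : GL2) :
    g ∈ Subgroup.center GL2 ↔ g.1 0 1 = 0 ∧ g.1 1 0 = 0 ∧ g.1 0 0 = g.1 1 1 := by
  rw [Matrix.GeneralLinearGroup.mem_center_iff_val_mem_range_scalar]
  constructor
  · rintro ⟨a, ha⟩
    rw [← ha]
    simp
  · rintro ⟨h1, h2, h3⟩
    refine ⟨g.1 0 0, ?_⟩
    ext i j
    fin_cases i <;> fin_cases j <;> simp [h1, h2, h3]

theorem central_comm (c g : GL2) (hc : c ∈ Subgroup.center GL2) : g * c = c * g :=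
  Subgroup.mem_center_iff.mp hc g

/-- a central involution is `-1` -/
theorem eq_neg_one_of_central (c : GL2) (hc : c ∈ Subgroup.center GL2) (h : c * c = 1)
    (h1 : c ≠ 1) : c = -1 := by
  obtain ⟨e1, e2, e3⟩ := (mem_center_iff c).mp hc
  have hm := congrArg Units.val h
  rw [Units.val_mul, Units.val_one] at hm
  have h00 := congrFun (congrFun hm 0) 0
  simp only [Matrix.mul_apply, Fin.sum_univ_two, e1, Matrix.one_apply_eq] at h00
  have hsq : (c.1 0 0 - 1) * (c.1 0 0 + 1) = 0 := by linear_combination h00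
  rcases mul_eq_zero.mp hsq with h' | h'
  · exfalso
    apply h1
    apply Units.ext
    ext i j
    have h0 : c.1 0 0 = 1 := by linear_combination h'
    fin_cases i <;> fin_cases j <;> simp [e1, e2, ← e3, h0]
  · apply Units.ext
    ext i j
    have h0 : c.1 0 0 = -1 := by linear_combination h'
    fin_cases i <;> fin_cases j <;> simp [e1, e2, ← e3, h0]

theorem trace_det_of_sq_one (g : GL2) (h : g * g = 1) (h1 : g ≠ 1) (hm : g ≠ -1) :
    g.1.trace = 0 ∧ g.1.det = -1 := by
  have hmat := congrArg Units.val h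
  rw [Units.val_mul, Units.val_one] at hmat
  have h00 := congrFun (congrFun hmat 0) 0
  have h01 := congrFun (congrFun hmat 0) 1
  have h10 := congrFun (congrFun hmat 1) 0
  have h11 := congrFun (congrFun hmat 1) 1
  simp only [Matrix.mul_apply, Fin.sum_univ_two, Matrix.one_apply_eq] at h00 h11
  have n01 : (0 : Fin 2) ≠ 1 := by decide
  have n10 : (1 : Fin 2) ≠ 0 := by decide
  simp only [Matrix.mul_apply, Fin.sum_univ_two, Matrix.one_apply_ne n01] at h01
  simp only [Matrix.mul_apply, Fin.sum_univ_two, Matrix.one_apply_ne n10] at h10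
  have htr : g.1 0 0 + g.1 1 1 = 0 := by
    by_contra hne
    have hb : g.1 0 1 = 0 := by
      have : g.1 0 1 * (g.1 0 0 + g.1 1 1) = 0 := by linear_combination h01
      exact (mul_eq_zero.mp this).resolve_right hne
    have hc : g.1 1 0 = 0 := by
      have : g.1 1 0 * (g.1 0 0 + g.1 1 1) = 0 := by linear_combination h10
      exact (mul_eq_zero.mp this).resolve_right hne
    have had : g.1 0 0 = g.1 1 1 := by
      have : (g.1 0 0 - g.1 1 1) * (g.1 0 0 + g.1 1 1) = 0 := by linear_combination h00 - h11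
      have := (mul_eq_zero.mp this).resolve_right hne
      linear_combination this
    have hsq : (g.1 0 0 - 1) * (g.1 0 0 + 1) = 0 := by
      rw [hb] at h00
      linear_combination h00
    rcases mul_eq_zero.mp hsq with h' | h'
    · apply h1
      apply Units.ext
      ext i j
      have h0 : g.1 0 0 = 1 := by linear_combination h'
      fin_cases i <;> fin_cases j <;> simp [hb, hc, ← had, h0]
    · apply hm
      apply Units.ext
      ext i j
      have h0 : g.1 0 0 = -1 := by linear_combination h'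
      fin_cases i <;> fin_cases j <;> simp [hb, hc, ← had, h0]
  refine ⟨?_, ?_⟩
  · rw [Matrix.trace_fin_two]
    exact htr
  · rw [Matrix.det_fin_two]
    have : g.1 1 1 = -g.1 0 0 := by linear_combination htr
    rw [this]
    linear_combination -h00

/-- the matrix `diag(1,-1)` -/
def dpm : GL2 := Matrix.GeneralLinearGroup.mkOfDetNeZero !![1, 0; 0, -1] (by
  rw [Matrix.det_fin_two_of]
  simp)

theorem dpm_val : (dpm (F := F)).1 = !![1, 0; 0, -1] := rfl

/-- the signed permutation matrix exchanging the first and the last coordinate -/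
def rot : SL3 := ⟨!![0, 0, 1; 0, 1, 0; -1, 0, 0], by
  rw [Matrix.det_fin_three]
  simp⟩

theorem rot_mul_iota_dpm : rot * iota (dpm (F := F)) = iota (-1 : GL2) * rot := by
  apply Subtype.ext
  rw [Matrix.SpecialLinearGroup.coe_mul, Matrix.SpecialLinearGroup.coe_mul, iota_neg_one_val,
    iota_val, dpm_val]
  have hd : (!![1, 0; 0, -1] : Matrix (Fin 2) (Fin 2) F).det = -1 := by
    rw [Matrix.det_fin_two_of]
    ring
  rw [hd]
  ext i j
  fin_cases i <;> fin_cases j <;>
    simp [rot, blk, Matrix.mul_apply, Fin.sum_univ_three, inv_neg]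

/-- **the involutions of `iota(GL₂)` are conjugate in `SL₃`** -/
theorem isConj_iota_of_sq_one (h2 : (2 : F) ≠ 0) (g : GL2) (h : g * g = 1) (h1 : g ≠ 1) :
    IsConj (iota g) (iota (-1 : GL2)) := by
  by_cases hm : g = -1
  · rw [hm]
  obtain ⟨htr, hdet⟩ := trace_det_of_sq_one g h h1 hm
  -- `g` is conjugate to `diag(1,-1)` in `GL₂`
  have hss : Module.End.IsSemisimple (Matrix.toLin' g.1) := by
    apply Cfsg.Agent.H9.SemisimpleConj.isSemisimple_of_pow_eq_one g.1 2
    · exact_mod_cast h2
    · rw [pow_two, ← Units.val_mul, h, Units.val_one]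
  have hss' : Module.End.IsSemisimple (Matrix.toLin' (dpm (F := F)).1) := by
    apply Cfsg.Agent.H9.SemisimpleConj.isSemisimple_of_pow_eq_one _ 2
    · exact_mod_cast h2
    · rw [pow_two, dpm_val]
      ext i j
      fin_cases i <;> fin_cases j <;> simp [Matrix.mul_apply, Fin.sum_univ_two]
  have hcp : g.1.charpoly = (dpm (F := F)).1.charpoly := by
    rw [Matrix.charpoly_fin_two, Matrix.charpoly_fin_two, htr, hdet, dpm_val, Matrix.trace_fin_two_of,
      Matrix.det_fin_two_of]
    simp
  obtain ⟨P, hP⟩ := Cfsg.Agent.H9.SemisimpleConj.exists_gl_conj g.1 (dpm (F := F)).1 hss hss' hcp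
  have hP' : P * g = dpm * P := by
    apply Units.ext
    rw [Units.val_mul, Units.val_mul]
    exact hP
  have h3 : IsConj (iota g) (iota (dpm (F := F))) := by
    rw [isConj_iff]
    refine ⟨iota P, ?_⟩
    rw [← map_mul, hP', map_mul, mul_inv_cancel_right]
  have h4 : IsConj (iota (dpm (F := F))) (iota (-1 : GL2)) := by
    rw [isConj_iff]
    refine ⟨rot, ?_⟩
    rw [rot_mul_iota_dpm, mul_inv_cancel_right]
  exact h3.trans h4

/-! ### orders -/

theorem card_GL2 [Fintype F] :
    Nat.card GL2 = (Fintype.card F ^ 2 - 1) * (Fintype.card F ^ 2 - Fintype.card F) := by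
  rw [Matrix.card_GL_field, Fin.prod_univ_two]
  simp

theorem card_SL3 [Fintype F] :
    Nat.card SL3 = Fintype.card F ^ 2 * (Fintype.card F ^ 2 + Fintype.card F + 1) * Nat.card GL2 := by
  have h := Cfsg.Agent.H2.LargePrimeSylowSL.card_SL_mul (F := F) 3 (by norm_num)
  rw [Matrix.card_GL_field, Fin.prod_univ_three] at h
  rw [card_GL2]
  have hq : 2 ≤ Fintype.card F := Fintype.one_lt_card
  generalize Fintype.card F = q at *
  simp only [Fin.val_zero, Fin.val_one, Fin.val_two, pow_zero, pow_one] at h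
  have hpos : 0 < q - 1 := by omega
  apply Nat.eq_of_mul_eq_mul_left hpos
  rw [h]
  have h1 : 1 ≤ q ^ 3 := Nat.one_le_pow _ _ (by omega)
  have h2 : q ≤ q ^ 3 := Nat.le_self_pow (by norm_num) q
  have h3 : q ^ 2 ≤ q ^ 3 := Nat.pow_le_pow_right (by omega) (by norm_num)
  have h4 : 1 ≤ q ^ 2 := Nat.one_le_pow _ _ (by omega)
  have h5 : q ≤ q ^ 2 := Nat.le_self_pow (by norm_num) q
  have h6 : 1 ≤ q := by omega
  zify [h1, h2, h3, h4, h5, h6]
  ring

theorem factorization_card_SL3 [Fintype F] (hodd : Fintype.card F % 2 = 1) :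
    (Nat.card SL3).factorization 2 = (Nat.card GL2).factorization 2 := by
  rw [card_SL3, Nat.factorization_mul _ Nat.card_pos.ne', Finsupp.add_apply,
    Nat.factorization_eq_zero_of_not_dvd, zero_add]
  · intro h
    have hq : Odd (Fintype.card F) := Nat.odd_iff.mpr hodd
    have ho : Odd (Fintype.card F ^ 2 * (Fintype.card F ^ 2 + Fintype.card F + 1)) :=
      hq.pow.mul ((hq.pow.add_odd hq).add_one)
    have h1 := Nat.odd_iff.mp ho
    omega
  · have hq : 2 ≤ Fintype.card F := Fintype.one_lt_card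
    positivity

theorem two_ne_zero_of_odd [Fintype F] (hodd : Fintype.card F % 2 = 1) : (2 : F) ≠ 0 := by
  intro h'
  have hc : ringChar F = 2 := by
    have := ringChar.dvd (R := F) (x := 2) (by exact_mod_cast h')
    exact ((Nat.prime_dvd_prime_iff_eq (CharP.char_is_prime F (ringChar F)) Nat.prime_two).mp this)
  have := FiniteField.even_card_of_char_two hc
  omega

theorem factorization_card_GL2 [Fintype F] (hodd : Fintype.card F % 2 = 1) :
    (Nat.card GL2).factorization 2 =
      (Fintype.card F ^ 2 - 1).factorization 2 + (Fintype.card F - 1).factorization 2 := by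
  have hq : 2 ≤ Fintype.card F := Fintype.one_lt_card
  have h1 : Fintype.card F ^ 2 - Fintype.card F = Fintype.card F * (Fintype.card F - 1) := by
    rw [Nat.mul_sub, mul_one, pow_two]
  have h4 : 1 < Fintype.card F ^ 2 := Nat.one_lt_pow (by norm_num) (by omega)
  rw [card_GL2, h1, Nat.factorization_mul (by omega) (Nat.mul_ne_zero (by omega) (by omega)),
    Nat.factorization_mul (by omega) (by omega)]
  simp only [Finsupp.add_apply]
  rw [Nat.factorization_eq_zero_of_not_dvd (by omega : ¬ 2 ∣ Fintype.card F), zero_add]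

end Cfsg.Agent.H9.SL3Iota
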