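import Mathlib

/-!
# Block unitriangular subgroups of `SLₙ(K)`, `K` a finite field

For a function `b : Fin n → ℕ` (the block of an index):
* `Rb b`: the matrices of `SLₙ(K)` that agree with the identity at all positions `(i, j)` with
  `b j ≤ b i` (for `b = Fin.val` the upper unitriangular matrices);
* `Lb b`: the matrices of `SLₙ(K)` that vanish at all positions `(i, j)` with `b i ≠ b j`;
* `Lb b` normalizes `Rb b`;
* root elements `rx i j hij c = 1 + c E_{ij}`.
-/

set_option autoImplicit false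

namespace Cfsg.Agent.H9.SLnA

open Matrix

variable {n : ℕ} {K : Type*} [Field K]

local notation "SLn" => Matrix.SpecialLinearGroup (Fin n) K

/-- matrices vanishing at the positions `(i, j)` with `b j ≤ b i` -/
def IsStrict (b : Fin n → ℕ) (M : Matrix (Fin n) (Fin n) K) : Prop :=
  ∀ i j, b j ≤ b i → M i j = 0

/-- matrices vanishing at the positions `(i, j)` with `b i ≠ b j` -/
def IsBlockDiag (b : Fin n → ℕ) (M : Matrix (Fin n) (Fin n) K) : Prop :=
  ∀ i j, b i ≠ b j → M i j = 0

theorem IsBlockDiag.mul {b : Fin n → ℕ} {M N : Matrix (Fin n) (Fin n) K}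
    (hM : IsBlockDiag b M) (hN : IsBlockDiag b N) : IsBlockDiag b (M * N) := by
  intro i j hij
  rw [Matrix.mul_apply]
  apply Finset.sum_eq_zero
  intro k _
  by_cases h : b i = b k
  · rw [hN k j (by rw [← h]; exact hij), mul_zero]
  · rw [hM i k h, zero_mul]

theorem isBlockDiag_one (b : Fin n → ℕ) : IsBlockDiag b (1 : Matrix (Fin n) (Fin n) K) := by
  intro i j hij
  rw [Matrix.one_apply, if_neg]
  rintro rfl
  exact hij rfl

theorem IsStrict.mul_blockDiag {b : Fin n → ℕ} {M N : Matrix (Fin n) (Fin n) K}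
    (hM : IsStrict b M) (hN : IsBlockDiag b N) : IsStrict b (M * N) := by
  intro i j hij
  rw [Matrix.mul_apply]
  apply Finset.sum_eq_zero
  intro k _
  by_cases h : b k = b j
  · rw [hM i k (by rw [h]; exact hij), zero_mul]
  · rw [hN k j h, mul_zero]

theorem IsStrict.blockDiag_mul {b : Fin n → ℕ} {M N : Matrix (Fin n) (Fin n) K}
    (hM : IsBlockDiag b M) (hN : IsStrict b N) : IsStrict b (M * N) := by
  intro i j hij
  rw [Matrix.mul_apply]
  apply Finset.sum_eq_zero
  intro k _
  by_cases h : b i = b k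
  · rw [hN k j (by rw [← h]; exact hij), mul_zero]
  · rw [hM i k h, zero_mul]

theorem IsStrict.mul {b : Fin n → ℕ} {M N : Matrix (Fin n) (Fin n) K}
    (hM : IsStrict b M) (hN : IsStrict b N) : IsStrict b (M * N) := by
  intro i j hij
  rw [Matrix.mul_apply]
  apply Finset.sum_eq_zero
  intro k _
  by_cases h : b k ≤ b i
  · rw [hM i k h, zero_mul]
  · rw [hN k j (by omega), mul_zero]

theorem IsStrict.add {b : Fin n → ℕ} {M N : Matrix (Fin n) (Fin n) K}
    (hM : IsStrict b M) (hN : IsStrict b N) : IsStrict b (M + N) := by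
  intro i j hij
  rw [Matrix.add_apply, hM i j hij, hN i j hij, add_zero]

/-- the condition defining `Rb` -/
theorem isStrict_sub_one_iff (b : Fin n → ℕ) (M : Matrix (Fin n) (Fin n) K) :
    IsStrict b (M - 1) ↔ ∀ i j, b j ≤ b i → M i j = if i = j then 1 else 0 := by
  constructor
  · intro h i j hij
    have := h i j hij
    rw [Matrix.sub_apply, Matrix.one_apply, sub_eq_zero] at this
    exact this
  · intro h i j hij
    rw [Matrix.sub_apply, Matrix.one_apply, h i j hij, sub_self]

/-! ### Root elements -/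

/-- the root element `1 + c E_{ij}` -/
def rx (i j : Fin n) (hij : i ≠ j) (c : K) : SLn :=
  ⟨transvection i j c, det_transvection_of_ne i j hij c⟩

theorem rx_val (i j : Fin n) (hij : i ≠ j) (c : K) : (rx i j hij c).1 = transvection i j c := rfl

theorem rx_apply (i j : Fin n) (hij : i ≠ j) (c : K) (a b : Fin n) :
    (rx i j hij c).1 a b = (if a = b then 1 else 0) + (if a = i ∧ b = j then c else 0) := by
  rw [rx_val, transvection, Matrix.add_apply, Matrix.one_apply, Matrix.single_apply]
  congr 1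
  by_cases h : a = i ∧ b = j
  · rw [if_pos h, if_pos ⟨h.1.symm, h.2.symm⟩]
  · rw [if_neg h, if_neg (fun h' => h ⟨h'.1.symm, h'.2.symm⟩)]

theorem rx_sub_one_apply (i j : Fin n) (hij : i ≠ j) (c : K) (a b : Fin n) :
    ((rx i j hij c).1 - 1) a b = if a = i ∧ b = j then c else 0 := by
  rw [Matrix.sub_apply, rx_apply, Matrix.one_apply]
  ring

theorem rx_zero (i j : Fin n) (hij : i ≠ j) : rx i j hij (0 : K) = 1 := by
  apply Subtype.ext
  rw [rx_val, transvection_zero]
  rfl

theorem rx_mul_rx (i j : Fin n) (hij : i ≠ j) (c d : K) :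
    rx i j hij c * rx i j hij d = rx i j hij (c + d) := by
  apply Subtype.ext
  rw [Matrix.SpecialLinearGroup.coe_mul, rx_val, rx_val, rx_val,
    transvection_mul_transvection_same i j hij]

theorem rx_inv (i j : Fin n) (hij : i ≠ j) (c : K) : (rx i j hij c)⁻¹ = rx i j hij (-c) := by
  rw [inv_eq_iff_mul_eq_one, rx_mul_rx, add_neg_cancel, rx_zero]

theorem rx_pow (i j : Fin n) (hij : i ≠ j) (c : K) (m : ℕ) :
    rx i j hij c ^ m = rx i j hij (m * c) := by
  induction m with
  | zero => rw [pow_zero, Nat.cast_zero, zero_mul, rx_zero]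
  | succ m ih =>
    rw [pow_succ, ih, rx_mul_rx]
    congr 1
    push_cast
    ring

theorem rx_pow_char (p : ℕ) [CharP K p] (i j : Fin n) (hij : i ≠ j) (c : K) :
    rx i j hij c ^ p = 1 := by
  rw [rx_pow, CharP.cast_eq_zero, zero_mul, rx_zero]

theorem rx_eq_one_iff (i j : Fin n) (hij : i ≠ j) (c : K) : rx i j hij c = 1 ↔ c = 0 := by
  constructor
  · intro h
    have := congrFun (congrFun (congrArg Subtype.val h) i) j
    rw [rx_apply, if_neg hij, if_pos ⟨rfl, rfl⟩, zero_add, Matrix.SpecialLinearGroup.coe_one,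
      Matrix.one_apply, if_neg hij] at this
    exact this
  · rintro rfl
    exact rx_zero i j hij

/-- conjugation of `x_{ij}(c)` by `x_{pi}(s)`, `p ≠ j` -/
theorem conj_rx_left (i j p : Fin n) (hij : i ≠ j) (hpi : p ≠ i) (hpj : p ≠ j) (s c : K) :
    rx p i hpi s * rx i j hij c * (rx p i hpi s)⁻¹ = rx i j hij c * rx p j hpj (s * c) := by
  rw [mul_inv_eq_iff_eq_mul]
  apply Subtype.ext
  simp only [Matrix.SpecialLinearGroup.coe_mul, rx_val]
  simp only [transvection, add_mul, mul_add, one_mul, mul_one, single_mul_single_same,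
    single_mul_single_of_ne _ _ _ _ hpj.symm, single_mul_single_of_ne _ _ _ _ hij.symm,
    add_zero]
  abel

/-- conjugation of `x_{ij}(c)` by `x_{jq}(s)`, `q ≠ i` -/
theorem conj_rx_right (i j q : Fin n) (hij : i ≠ j) (hjq : j ≠ q) (hiq : i ≠ q) (s c : K) :
    rx j q hjq s * rx i j hij c * (rx j q hjq s)⁻¹ = rx i j hij c * rx i q hiq (-(s * c)) := by
  rw [mul_inv_eq_iff_eq_mul]
  apply Subtype.ext
  simp only [Matrix.SpecialLinearGroup.coe_mul, rx_val]
  simp only [transvection, add_mul, mul_add, one_mul, mul_one, single_mul_single_same,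
    single_mul_single_of_ne _ _ _ _ hiq.symm, single_mul_single_of_ne _ _ _ _ hij.symm,
    single_mul_single_of_ne _ _ _ _ hjq.symm, add_zero, zero_add]
  rw [mul_comm c s]
  have : single i q (-(s * c)) = - single i q (s * c) := by
    ext a b
    simp only [single_apply, Matrix.neg_apply]
    split_ifs <;> simp
  rw [this]
  abel

section finite

variable [Finite K]

/-- the inverse of an element of a finite group is a power -/
theorem inv_eq_pow (g : SLn) : g⁻¹ = g ^ (orderOf g - 1) := by
  rw [inv_eq_iff_mul_eq_one, ← pow_succ', Nat.sub_add_cancel (orderOf_pos g), pow_orderOf_eq_one]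

/-- block unitriangular matrices -/
def Rb (b : Fin n → ℕ) : Subgroup SLn where
  carrier := {g | IsStrict b (g.1 - 1)}
  one_mem' := by
    intro i j _
    simp
  mul_mem' := by
    intro g h hg hh
    show IsStrict b ((g * h).1 - 1)
    have : (g * h).1 - 1 = (g.1 - 1) * (h.1 - 1) + (g.1 - 1) + (h.1 - 1) := by
      rw [Matrix.SpecialLinearGroup.coe_mul]
      noncomm_ring
    rw [this]
    exact ((IsStrict.mul hg hh).add hg).add hh
  inv_mem' := by
    intro g hg
    show IsStrict b ((g⁻¹).1 - 1)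
    rw [inv_eq_pow]
    have key : ∀ m : ℕ, IsStrict b ((g ^ m).1 - 1) := by
      intro m
      induction m with
      | zero =>
        intro i j _
        simp
      | succ m ih =>
        have : (g ^ (m + 1)).1 - 1 = ((g ^ m).1 - 1) * (g.1 - 1) + ((g ^ m).1 - 1) + (g.1 - 1) := by
          rw [pow_succ, Matrix.SpecialLinearGroup.coe_mul]
          noncomm_ring
        rw [this]
        exact ((IsStrict.mul ih hg).add ih).add hg
    exact key _

theorem mem_Rb {b : Fin n → ℕ} {g : SLn} : g ∈ Rb b ↔ IsStrict b (g.1 - 1) := Iff.rfl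

theorem mem_Rb' {b : Fin n → ℕ} {g : SLn} :
    g ∈ Rb b ↔ ∀ i j, b j ≤ b i → g.1 i j = if i = j then 1 else 0 :=
  isStrict_sub_one_iff b g.1

/-- block diagonal matrices -/
def Lb (b : Fin n → ℕ) : Subgroup SLn where
  carrier := {g | IsBlockDiag b g.1}
  one_mem' := isBlockDiag_one b
  mul_mem' := by
    intro g h hg hh
    show IsBlockDiag b (g * h).1
    rw [Matrix.SpecialLinearGroup.coe_mul]
    exact hg.mul hh
  inv_mem' := by
    intro g hg
    show IsBlockDiag b (g⁻¹).1
    rw [inv_eq_pow]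
    have key : ∀ m : ℕ, IsBlockDiag b (g ^ m).1 := by
      intro m
      induction m with
      | zero => exact isBlockDiag_one b
      | succ m ih =>
        rw [pow_succ, Matrix.SpecialLinearGroup.coe_mul]
        exact ih.mul hg
    exact key _

theorem mem_Lb {b : Fin n → ℕ} {g : SLn} : g ∈ Lb b ↔ IsBlockDiag b g.1 := Iff.rfl

/-- block diagonal matrices normalize the block unitriangular ones -/
theorem conj_mem_Rb {b : Fin n → ℕ} {g r : SLn} (hg : g ∈ Lb b) (hr : r ∈ Rb b) :
    g * r * g⁻¹ ∈ Rb b := by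
  show IsStrict b ((g * r * g⁻¹).1 - 1)
  have hginv : g⁻¹ ∈ Lb b := (Lb b).inv_mem hg
  have h1 : g.1 * (g⁻¹).1 = 1 := by
    rw [← Matrix.SpecialLinearGroup.coe_mul, mul_inv_cancel, Matrix.SpecialLinearGroup.coe_one]
  have : (g * r * g⁻¹).1 - 1 = g.1 * (r.1 - 1) * (g⁻¹).1 := by
    rw [Matrix.SpecialLinearGroup.coe_mul, Matrix.SpecialLinearGroup.coe_mul, mul_sub, sub_mul,
      mul_one, h1]
  rw [this]
  exact (IsStrict.blockDiag_mul hg hr).mul_blockDiag hginv

theorem Lb_le_normalizer (b : Fin n → ℕ) :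
    (Lb b : Subgroup SLn) ≤ Subgroup.normalizer ((Rb b : Subgroup SLn) : Set SLn) := by
  intro g hg
  rw [Subgroup.mem_normalizer_iff]
  intro r
  constructor
  · exact fun hr => conj_mem_Rb hg hr
  · intro h
    have := conj_mem_Rb ((Lb b).inv_mem hg) h
    have e : g⁻¹ * (g * r * g⁻¹) * g⁻¹⁻¹ = r := by group
    rwa [e] at this

theorem rx_mem_Rb {b : Fin n → ℕ} (i j : Fin n) (hij : i ≠ j) (h : b i < b j) (c : K) :
    rx i j hij c ∈ Rb b := by
  intro a a' ha
  rw [rx_sub_one_apply, if_neg]
  rintro ⟨rfl, rfl⟩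
  omega

theorem rx_mem_Lb {b : Fin n → ℕ} (i j : Fin n) (hij : i ≠ j) (h : b i = b j) (c : K) :
    rx i j hij c ∈ Lb b := by
  intro a a' ha
  rw [rx_apply, if_neg, if_neg, add_zero]
  · rintro ⟨rfl, rfl⟩
    exact ha h
  · rintro rfl
    exact ha rfl

/-- a coarser block function gives a smaller group -/
theorem Rb_le_of {b b' : Fin n → ℕ} (h : ∀ i j, b j ≤ b i → b' j ≤ b' i) :
    (Rb b' : Subgroup SLn) ≤ Rb b := by
  intro g hg i j hij
  exact hg i j (h i j hij)

end finite

end Cfsg.Agent.H9.SLnA
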