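import Cfsg.Agent.H9.SLnA

/-!
# The upper unitriangular subgroup of `SLₙ(K)` is a Sylow `p`-subgroup

`UU`: the upper unitriangular matrices.  Its normalizer consists of upper triangular matrices, the
`p`-elements among these are unitriangular, and `UU` is a `p`-group: so `UU` is a Sylow
`p`-subgroup.
-/

set_option autoImplicit false
set_option linter.unusedSimpArgs false

namespace Cfsg.Agent.H9.SLnB

open Matrix Cfsg.Agent.H9.SLnA

variable {n : ℕ} {K : Type*} [Field K]

local notation "SLn" => Matrix.SpecialLinearGroup (Fin n) K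

/-- upper triangular matrices -/
def IsUpper (M : Matrix (Fin n) (Fin n) K) : Prop := ∀ i j, j < i → M i j = 0

theorem isUpper_one : IsUpper (1 : Matrix (Fin n) (Fin n) K) := by
  intro i j hij
  rw [Matrix.one_apply, if_neg hij.ne']

theorem IsUpper.mul {M N : Matrix (Fin n) (Fin n) K} (hM : IsUpper M) (hN : IsUpper N) :
    IsUpper (M * N) := by
  intro i j hij
  rw [Matrix.mul_apply]
  apply Finset.sum_eq_zero
  intro k _
  by_cases h : k < i
  · rw [hM i k h, zero_mul]
  · rw [hN k j (lt_of_lt_of_le hij (not_lt.mp h)), mul_zero]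

theorem IsUpper.mul_diag {M N : Matrix (Fin n) (Fin n) K} (hM : IsUpper M) (hN : IsUpper N)
    (i : Fin n) : (M * N) i i = M i i * N i i := by
  rw [Matrix.mul_apply]
  apply Finset.sum_eq_single i
  · intro k _ hk
    rcases lt_or_gt_of_ne hk with h | h
    · rw [hM i k h, zero_mul]
    · rw [hN k i h, mul_zero]
  · intro h
    exact absurd (Finset.mem_univ i) h

theorem IsUpper.pow {M : Matrix (Fin n) (Fin n) K} (hM : IsUpper M) (m : ℕ) :
    IsUpper (M ^ m) ∧ ∀ i, (M ^ m) i i = (M i i) ^ m := by
  induction m with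
  | zero =>
    refine ⟨by rw [pow_zero]; exact isUpper_one, fun i => ?_⟩
    rw [pow_zero, pow_zero, Matrix.one_apply, if_pos rfl]
  | succ m ih =>
    refine ⟨by rw [pow_succ]; exact ih.1.mul hM, fun i => ?_⟩
    rw [pow_succ, ih.1.mul_diag hM, ih.2, pow_succ]

section finite

variable [Finite K]

/-- the upper unitriangular group -/
def UU : Subgroup SLn := Rb (fun i => i.val)

theorem mem_UU {g : SLn} :
    g ∈ (UU : Subgroup SLn) ↔ ∀ i j : Fin n, j ≤ i → g.1 i j = if i = j then 1 else 0 := by
  unfold UU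
  rw [mem_Rb']
  constructor
  · intro h i j hij
    exact h i j hij
  · intro h i j hij
    exact h i j hij

theorem isUpper_of_mem_UU {g : SLn} (hg : g ∈ (UU : Subgroup SLn)) : IsUpper g.1 := by
  intro i j hij
  rw [mem_UU.mp hg i j hij.le, if_neg hij.ne']

theorem diag_of_mem_UU {g : SLn} (hg : g ∈ (UU : Subgroup SLn)) (i : Fin n) : g.1 i i = 1 := by
  rw [mem_UU.mp hg i i le_rfl, if_pos rfl]

theorem mem_UU_of_isUpper {g : SLn} (hg : IsUpper g.1) (hd : ∀ i, g.1 i i = 1) :
    g ∈ (UU : Subgroup SLn) := by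
  rw [mem_UU]
  intro i j hij
  rcases eq_or_lt_of_le hij with h | h
  · subst h
    rw [if_pos rfl, hd]
  · rw [if_neg h.ne', hg i j h]

theorem rx_mem_UU (i j : Fin n) (hij : i < j) (c : K) : rx i j hij.ne c ∈ (UU : Subgroup SLn) :=
  rx_mem_Rb i j hij.ne hij c

/-- an element normalizing the unitriangular group is triangular -/
theorem isUpper_of_normalizes (g : SLn)
    (hg : ∀ u ∈ (UU : Subgroup SLn), g⁻¹ * u * g ∈ (UU : Subgroup SLn)) : IsUpper g.1 := by
  have key : ∀ m : ℕ, ∀ j : Fin n, j.val = m → ∀ a : Fin n, j < a → g.1 a j = 0 := by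
    intro m
    induction m using Nat.strong_induction_on with
    | _ m ih =>
      intro j hj a hja
      have hu := rx_mem_UU (K := K) j a hja 1
      have hu' := hg _ hu
      obtain ⟨u', hu'def⟩ : ∃ u', u' = g⁻¹ * rx j a hja.ne 1 * g := ⟨_, rfl⟩
      rw [← hu'def] at hu'
      have hcomm : rx j a hja.ne 1 * g = g * u' := by rw [hu'def]; group
      have hM : transvection j a (1 : K) * g.1 = g.1 * u'.1 := by
        rw [← rx_val j a hja.ne, ← Matrix.SpecialLinearGroup.coe_mul,
          ← Matrix.SpecialLinearGroup.coe_mul, hcomm]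
      have hjj := congrFun (congrFun hM j) j
      rw [transvection_mul_apply_same, Matrix.mul_apply] at hjj
      have hR : ∑ x, g.1 j x * u'.1 x j = g.1 j j := by
        rw [Finset.sum_eq_single j]
        · rw [diag_of_mem_UU hu' j, mul_one]
        · intro x _ hxj
          rcases lt_or_gt_of_ne hxj with h | h
          · rw [ih x.val (by rw [← hj]; exact h) x rfl j h, zero_mul]
          · rw [isUpper_of_mem_UU hu' x j h, mul_zero]
        · intro h
          exact absurd (Finset.mem_univ j) h
      rw [hR, one_mul] at hjj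
      exact add_eq_left.1 hjj
  intro i j hji
  exact key j.val j rfl i hji

theorem isUpper_of_mem_normalizer {g : SLn}
    (hg : g ∈ Subgroup.normalizer ((UU : Subgroup SLn) : Set SLn)) : IsUpper g.1 := by
  apply isUpper_of_normalizes
  intro u hu
  have hg' : g⁻¹ ∈ Subgroup.normalizer ((UU : Subgroup SLn) : Set SLn) := Subgroup.inv_mem _ hg
  have := (Subgroup.mem_normalizer_iff.1 hg' u).1 hu
  rwa [inv_inv] at this

/-- a triangular `p`-element is unitriangular -/
theorem mem_UU_of_isUpper_of_pow (p : ℕ) [hp : Fact p.Prime] [CharP K p] {g : SLn}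
    (hg : IsUpper g.1) (k : ℕ) (hk : g ^ p ^ k = 1) : g ∈ (UU : Subgroup SLn) := by
  apply mem_UU_of_isUpper hg
  intro i
  have h1 := (hg.pow (p ^ k)).2 i
  rw [← Matrix.SpecialLinearGroup.coe_pow, hk, Matrix.SpecialLinearGroup.coe_one,
    Matrix.one_apply, if_pos rfl] at h1
  have h2 : (g.1 i i - 1) ^ p ^ k = 0 := by
    rw [sub_pow_char_pow, ← h1, one_pow, sub_self]
  have := pow_eq_zero_iff (pow_ne_zero k hp.out.ne_zero) |>.mp h2
  exact sub_eq_zero.mp this

/-! ### The order of `UU` -/

/-- index pairs above the diagonal -/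
abbrev UpIdx (n : ℕ) := {q : Fin n × Fin n // q.1 < q.2}

/-- the entries above the diagonal -/
def upEntries (g : (UU : Subgroup SLn)) : UpIdx n → K := fun q => g.1.1 q.1.1 q.1.2

theorem upEntries_injective : Function.Injective (upEntries (n := n) (K := K)) := by
  intro g h hgh
  apply Subtype.ext
  apply Subtype.ext
  ext i j
  rcases lt_trichotomy i j with hij | hij | hij
  · exact congrFun hgh ⟨(i, j), hij⟩
  · subst hij
    rw [diag_of_mem_UU g.2, diag_of_mem_UU h.2]
  · rw [isUpper_of_mem_UU g.2 i j hij, isUpper_of_mem_UU h.2 i j hij]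

/-- the matrix with given entries above the diagonal -/
def ofUp (f : UpIdx n → K) : Matrix (Fin n) (Fin n) K := fun i j =>
  if i = j then 1 else if h : i < j then f ⟨(i, j), h⟩ else 0

omit [Finite K] in
theorem ofUp_tri (f : UpIdx n → K) : (ofUp f).BlockTriangular id := by
  intro i j hij
  have hij' : j < i := hij
  unfold ofUp
  rw [if_neg hij'.ne', dif_neg (not_lt.2 hij'.le)]

omit [Finite K] in
theorem ofUp_det (f : UpIdx n → K) : (ofUp f).det = 1 := by
  rw [Matrix.det_of_isUpperTriangular (ofUp_tri f)]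
  apply Finset.prod_eq_one
  intro i _
  unfold ofUp
  rw [if_pos rfl]

theorem upEntries_surjective : Function.Surjective (upEntries (n := n) (K := K)) := by
  intro f
  refine ⟨⟨⟨ofUp f, ofUp_det f⟩, ?_⟩, ?_⟩
  · apply mem_UU_of_isUpper
    · intro i j hij
      exact ofUp_tri f hij
    · intro i
      show ofUp f i i = 1
      unfold ofUp
      rw [if_pos rfl]
  · funext q
    show ofUp f q.1.1 q.1.2 = f q
    unfold ofUp
    rw [if_neg q.2.ne, dif_pos q.2]

theorem card_UU : Nat.card (UU : Subgroup SLn) = Nat.card K ^ Nat.card (UpIdx n) := by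
  rw [Nat.card_congr (Equiv.ofBijective _ ⟨upEntries_injective (n := n) (K := K),
    upEntries_surjective⟩), Nat.card_fun]

theorem isPGroup_UU (p : ℕ) [hp : Fact p.Prime] [CharP K p] :
    IsPGroup p (UU : Subgroup SLn) := by
  haveI := Fintype.ofFinite K
  obtain ⟨e, he⟩ := FiniteField.card K p
  apply IsPGroup.of_card (n := (e : ℕ) * Nat.card (UpIdx n))
  rw [card_UU, Nat.card_eq_fintype_card (α := K), he.2, pow_mul]

/-- `UU` has the order of a Sylow `p`-subgroup -/
theorem card_UU_eq (p : ℕ) [hp : Fact p.Prime] [CharP K p] :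
    Nat.card (UU : Subgroup SLn) =
      p ^ (Nat.card (Matrix.SpecialLinearGroup (Fin n) K)).factorization p := by
  -- `UU` lies in a Sylow subgroup `P`; if it were smaller the normalizer would grow
  obtain ⟨P, hP⟩ := (isPGroup_UU (n := n) (K := K) p).exists_le_sylow
  rw [← P.card_eq_multiplicity]
  by_contra hne
  have hlt : (UU : Subgroup SLn) < (P : Subgroup SLn) := by
    apply lt_of_le_of_ne hP
    intro h
    apply hne
    rw [h]
  -- normalizer condition in `P`
  haveI : Group.IsNilpotent ↥(P : Subgroup SLn) := P.isPGroup'.isNilpotent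
  have hlt' : (UU : Subgroup SLn).subgroupOf (P : Subgroup SLn) < ⊤ := by
    rw [lt_top_iff_ne_top]
    intro h
    rw [Subgroup.subgroupOf_eq_top] at h
    exact absurd (le_antisymm hP h) hlt.ne
  have hnc := Group.normalizerCondition_of_isNilpotent (G := ↥(P : Subgroup SLn)) _ hlt'
  obtain ⟨x, hxN, hxU⟩ := SetLike.exists_of_lt hnc
  -- `x` normalizes `UU`
  have hxN' : (x : SLn) ∈ Subgroup.normalizer ((UU : Subgroup SLn) : Set SLn) := by
    rw [Subgroup.mem_normalizer_iff]
    intro u
    constructor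
    · intro hu
      have h1 := (Subgroup.mem_normalizer_iff.mp hxN ⟨u, hP hu⟩).mp hu
      exact h1
    · intro hu
      have hu' : u ∈ (P : Subgroup SLn) := by
        have : u = (x : SLn)⁻¹ * ((x : SLn) * u * (x : SLn)⁻¹) * (x : SLn) := by group
        rw [this]
        exact (P : Subgroup SLn).mul_mem ((P : Subgroup SLn).mul_mem
          ((P : Subgroup SLn).inv_mem x.2) (hP hu)) x.2
      exact (Subgroup.mem_normalizer_iff.mp hxN ⟨u, hu'⟩).mpr hu
  obtain ⟨k, hk⟩ := P.isPGroup' x
  have hk' : (x : SLn) ^ p ^ k = 1 := congrArg Subtype.val hk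
  exact hxU (mem_UU_of_isUpper_of_pow p (isUpper_of_mem_normalizer hxN') k hk')

end finite

end Cfsg.Agent.H9.SLnB
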