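import Cfsg.Agent.H9.SLnB
import Cfsg.Agent.H9.GfsSimple3

/-!
# Centralizers of root elements in `SLₙ(K)` and centric subgroups of the unitriangular group
-/

set_option autoImplicit false
set_option linter.unusedSimpArgs false
set_option linter.unusedVariables false

namespace Cfsg.Agent.H9.SLnC

open Matrix Cfsg.Agent.H9.SLnA Cfsg.Agent.H9.SLnB Cfsg.Agent.H9.GfsSimple3

variable {n : ℕ} {K : Type*} [Field K]

local notation "SLn" => Matrix.SpecialLinearGroup (Fin n) K

/-- a matrix commuting with `1 + E_{jk}` has column `j` and row `k` supported on the diagonal -/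
theorem of_commute_rx (g : SLn) (j k : Fin n) (hjk : j ≠ k)
    (h : g * rx j k hjk 1 = rx j k hjk 1 * g) :
    (∀ a, a ≠ j → g.1 a j = 0) ∧ (∀ b, b ≠ k → g.1 k b = 0) := by
  have hM : g.1 * transvection j k (1 : K) = transvection j k (1 : K) * g.1 := by
    rw [← rx_val j k hjk, ← Matrix.SpecialLinearGroup.coe_mul,
      ← Matrix.SpecialLinearGroup.coe_mul, h]
  constructor
  · intro a ha
    have := congrFun (congrFun hM a) k
    rw [mul_transvection_apply_same, transvection_mul_apply_of_ne _ _ _ _ ha, one_mul] at this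
    exact add_eq_left.1 this
  · intro b hb
    have := congrFun (congrFun hM j) b
    rw [mul_transvection_apply_of_ne _ _ _ _ hb, transvection_mul_apply_same, one_mul] at this
    exact (add_eq_left.1 this.symm)

/-- the block function merging `i0` and `i0 + 1` -/
def bi (i0 : ℕ) : Fin n → ℕ := fun j => if j.val ≤ i0 then j.val else j.val - 1

theorem bi_mono (i0 : ℕ) (i j : Fin n) (h : j.val ≤ i.val) : bi i0 j ≤ bi i0 i := by
  unfold bi
  split_ifs <;> omega

theorem bi_lt (i0 : ℕ) (j k : Fin n) (hjk : j < k) (h : ¬ (j.val = i0 ∧ k.val = i0 + 1)) :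
    bi i0 j < bi i0 k := by
  have : j.val < k.val := hjk
  unfold bi
  split_ifs <;> omega

theorem bi_le_iff (i0 : ℕ) (s t : Fin n) :
    bi i0 t ≤ bi i0 s ↔ t ≤ s ∨ (s.val = i0 ∧ t.val = i0 + 1) := by
  rw [Fin.le_def]
  unfold bi
  split_ifs <;> omega

section finite

variable [Finite K]

/-- the unipotent radical of the `i0`-th minimal parabolic subgroup -/
def Ri (i0 : ℕ) : Subgroup SLn := Rb (bi i0)

theorem Ri_le_UU (i0 : ℕ) : (Ri i0 : Subgroup SLn) ≤ UU :=
  Rb_le_of (fun i j hij => bi_mono i0 i j hij)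

theorem rx_mem_Ri (i0 : ℕ) (j k : Fin n) (hjk : j < k) (h : ¬ (j.val = i0 ∧ k.val = i0 + 1))
    (c : K) : rx j k hjk.ne c ∈ (Ri i0 : Subgroup SLn) :=
  rx_mem_Rb j k hjk.ne (bi_lt i0 j k hjk h) c

/-- an element of the normalizer... : a `p`-element commuting with `Ri i0` lies in `Ri i0` -/
theorem mem_Ri_of_commute (p : ℕ) [hp : Fact p.Prime] [CharP K p] (hn : 3 ≤ n) (i0 : ℕ)
    (hi0 : i0 + 1 < n) (y : SLn) (k : ℕ) (hk : y ^ p ^ k = 1)
    (hy : ∀ x ∈ (Ri i0 : Subgroup SLn), y * x = x * y) : y ∈ (Ri i0 : Subgroup SLn) := by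
  -- constraints
  have hrow : ∀ s t : Fin n, s ≠ t → (∃ j : Fin n, j < s ∧ ¬ (j.val = i0 ∧ s.val = i0 + 1)) →
      y.1 s t = 0 := by
    rintro s t hst ⟨j, hjs, hj⟩
    exact (of_commute_rx y j s hjs.ne (hy _ (rx_mem_Ri i0 j s hjs hj 1))).2 t hst.symm
  have hcol : ∀ s t : Fin n, s ≠ t → (∃ k' : Fin n, t < k' ∧ ¬ (t.val = i0 ∧ k'.val = i0 + 1)) →
      y.1 s t = 0 := by
    rintro s t hst ⟨k', htk, hk'⟩
    exact (of_commute_rx y t k' htk.ne (hy _ (rx_mem_Ri i0 t k' htk hk' 1))).1 s hst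
  have hup : IsUpper y.1 := by
    intro s t hts
    have hts' : t.val < s.val := hts
    by_cases h2 : 2 ≤ s.val
    · apply hrow s t hts.ne'
      refine ⟨⟨0, by omega⟩, ?_, ?_⟩
      · rw [Fin.lt_def]
        show 0 < s.val
        omega
      · show ¬ ((0 : ℕ) = i0 ∧ s.val = i0 + 1)
        omega
    · have hs1 : s.val = 1 := by omega
      have ht0 : t.val = 0 := by omega
      by_cases hi : i0 = 0
      · apply hcol s t hts.ne'
        refine ⟨⟨2, by omega⟩, ?_, ?_⟩
        · rw [Fin.lt_def]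
          show t.val < 2
          omega
        · show ¬ (t.val = i0 ∧ (2 : ℕ) = i0 + 1)
          omega
      · apply hrow s t hts.ne'
        refine ⟨⟨0, by omega⟩, ?_, ?_⟩
        · rw [Fin.lt_def]
          show 0 < s.val
          omega
        · show ¬ ((0 : ℕ) = i0 ∧ s.val = i0 + 1)
          omega
  have hU := mem_UU_of_isUpper_of_pow p hup k hk
  show y ∈ Rb (bi i0)
  rw [mem_Rb']
  intro s t hst
  rcases (bi_le_iff i0 s t).mp hst with h | ⟨hs, ht⟩
  · exact mem_UU.mp hU s t h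
  · have hne : s ≠ t := by
      intro h
      rw [h] at hs
      omega
    rw [if_neg hne]
    by_cases hi : i0 = 0
    · apply hcol s t hne
      refine ⟨⟨2, by omega⟩, ?_, ?_⟩
      · rw [Fin.lt_def]
        show t.val < 2
        omega
      · show ¬ (t.val = i0 ∧ (2 : ℕ) = i0 + 1)
        omega
    · apply hrow s t hne
      refine ⟨⟨0, by omega⟩, ?_, ?_⟩
      · rw [Fin.lt_def]
        show 0 < s.val
        omega
      · show ¬ ((0 : ℕ) = i0 ∧ s.val = i0 + 1)
        omega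

/-- `Ri i0` is centric -/
theorem centricIn_Ri (p : ℕ) [hp : Fact p.Prime] [CharP K p] (hn : 3 ≤ n) (i0 : ℕ)
    (hi0 : i0 + 1 < n) : CentricIn (UU : Subgroup SLn) (Ri i0) := by
  refine ⟨Ri_le_UU i0, ?_⟩
  intro g hg y hyU hcomm
  refine ⟨g⁻¹ * y * g, ?_, by group⟩
  obtain ⟨k, hk⟩ := (isPGroup_UU (n := n) (K := K) p) ⟨y, hyU⟩
  have hk' : y ^ p ^ k = 1 := congrArg Subtype.val hk
  apply mem_Ri_of_commute p hn i0 hi0 (g⁻¹ * y * g) k
  · have : (g⁻¹ * y * g) ^ p ^ k = g⁻¹ * y ^ p ^ k * g := by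
      have := conj_pow (a := g⁻¹) (b := y) (i := p ^ k)
      rw [inv_inv] at this
      exact this
    rw [this, hk']
    group
  · intro x hx
    have h1 := hcomm x hx
    calc g⁻¹ * y * g * x = g⁻¹ * (y * (g * x * g⁻¹)) * g := by group
      _ = g⁻¹ * (g * x * g⁻¹ * y) * g := by rw [h1]
      _ = x * (g⁻¹ * y * g) := by group

/-- `UU` is centric -/
theorem centricIn_UU : CentricIn (UU : Subgroup SLn) (UU : Subgroup SLn) := by
  refine ⟨le_rfl, ?_⟩
  intro g hg y hyU _
  -- `g` normalizes `UU`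
  have hle : (UU : Subgroup SLn).map (MulAut.conj g).toMonoidHom ≤ UU := by
    rintro _ ⟨x, hx, rfl⟩
    exact hg x hx
  have heq := Cfsg.Agent.H9.GfsSimple.map_conj_eq_of_le hle
  have hy' : y ∈ (UU : Subgroup SLn).map (MulAut.conj g).toMonoidHom := by
    rw [heq]
    exact hyU
  obtain ⟨x, hx, hxy⟩ := hy'
  exact ⟨x, hx, hxy.symm⟩

end finite

end Cfsg.Agent.H9.SLnC
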