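import Cfsg.Agent.H9.SLnC

/-!
# The unitriangular subgroup of `SLₙ(K)`, `n ≥ 3`, has no proper nontrivial strongly closed subgroup
-/

set_option autoImplicit false
set_option linter.unusedSimpArgs false
set_option linter.unusedVariables false

namespace Cfsg.Agent.H9.SLnD

open Matrix Cfsg.Agent.H9.SLnA Cfsg.Agent.H9.SLnB Cfsg.Agent.H9.SLnC

variable {n : ℕ} {K : Type*} [Field K] [Finite K]

local notation "SLn" => Matrix.SpecialLinearGroup (Fin n) K

/-- the unitriangular group is generated by the root elements: a subgroup containing them all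
contains it -/
theorem UU_le_of_rx_mem (T : Subgroup SLn)
    (hrx : ∀ (i j : Fin n) (hij : i < j) (c : K), rx i j hij.ne c ∈ T) :
    (UU : Subgroup SLn) ≤ T := by
  have key : ∀ d : ℕ, ∀ c : ℕ, c + d = n * n → ∀ u ∈ (UU : Subgroup SLn),
      (∀ s t : Fin n, s < t → t.val * n + s.val < c → u.1 s t = 0) → u ∈ T := by
    intro d
    induction d with
    | zero =>
      intro c hc u hu hz
      have : u = 1 := by
        apply Subtype.ext
        ext s t
        rw [Matrix.SpecialLinearGroup.coe_one, Matrix.one_apply]
        rcases lt_trichotomy s t with h | h | h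
        · rw [if_neg h.ne]
          apply hz s t h
          have h1 : t.val * n + s.val < t.val * n + n := by omega
          have h2 : t.val * n + n = (t.val + 1) * n := by ring
          have h3 : (t.val + 1) * n ≤ n * n := by
            rw [mul_comm]
            exact Nat.mul_le_mul_left n (by omega)
          omega
        · subst h
          rw [if_pos rfl, diag_of_mem_UU hu]
        · rw [if_neg h.ne', isUpper_of_mem_UU hu s t h]
      rw [this]
      exact T.one_mem
    | succ d ih =>
      intro c hc u hu hz
      by_cases hpos : ∃ s t : Fin n, s < t ∧ t.val * n + s.val = c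
      · obtain ⟨s, t, hst, hcode⟩ := hpos
        obtain ⟨a, ha⟩ : ∃ a : K, a = u.1 s t := ⟨_, rfl⟩
        obtain ⟨u', hu'def⟩ : ∃ u' : SLn, u' = rx s t hst.ne (-a) * u := ⟨_, rfl⟩
        have hu'U : u' ∈ (UU : Subgroup SLn) := by
          rw [hu'def]
          exact (UU : Subgroup SLn).mul_mem (rx_mem_UU s t hst (-a)) hu
        have hu'T : u' ∈ T := by
          apply ih (c + 1) (by omega) u' hu'U
          intro s' t' hst' hcode'
          rw [hu'def, Matrix.SpecialLinearGroup.coe_mul, rx_val]
          by_cases hs : s' = s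
          · subst hs
            rw [transvection_mul_apply_same]
            by_cases ht : t' = t
            · subst ht
              rw [← ha, diag_of_mem_UU hu]
              ring
            · have hlt : t'.val * n + s'.val < c := by
                have hne : t'.val ≠ t.val := fun h => ht (Fin.ext h)
                rcases lt_or_gt_of_ne hne with h | h
                · have : (t'.val + 1) * n ≤ t.val * n := Nat.mul_le_mul_right n h
                  have h2 : (t'.val + 1) * n = t'.val * n + n := by ring
                  omega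
                · have : (t.val + 1) * n ≤ t'.val * n := Nat.mul_le_mul_right n h
                  have h2 : (t.val + 1) * n = t.val * n + n := by ring
                  omega
              have htt : t' < t := by
                rw [Fin.lt_def]
                by_contra hcon
                have hge : t.val ≤ t'.val := by omega
                have : t.val * n ≤ t'.val * n := Nat.mul_le_mul_right n hge
                omega
              rw [hz s' t' hst' hlt, isUpper_of_mem_UU hu t t' htt]
              ring
          · rw [transvection_mul_apply_of_ne _ _ _ _ hs]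
            apply hz s' t' hst'
            have hne : t'.val * n + s'.val ≠ c := by
              intro h
              rw [← hcode] at h
              have h1 : s'.val < n := s'.2
              have h2 : s.val < n := s.2
              have ht : t'.val = t.val := by
                rcases lt_trichotomy t'.val t.val with h3 | h3 | h3
                · have : (t'.val + 1) * n ≤ t.val * n := Nat.mul_le_mul_right n h3
                  have h4 : (t'.val + 1) * n = t'.val * n + n := by ring
                  omega
                · exact h3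
                · have : (t.val + 1) * n ≤ t'.val * n := Nat.mul_le_mul_right n h3
                  have h4 : (t.val + 1) * n = t.val * n + n := by ring
                  omega
              rw [ht] at h
              exact hs (Fin.ext (by omega))
            omega
        have : u = rx s t hst.ne a * u' := by
          rw [hu'def, ← mul_assoc, rx_mul_rx, add_neg_cancel, rx_zero, one_mul]
        rw [this]
        exact T.mul_mem (hrx s t hst a) hu'T
      · apply ih (c + 1) (by omega) u hu
        intro s t hst hcode
        apply hz s t hst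
        have : t.val * n + s.val ≠ c := fun h => hpos ⟨s, t, hst, h⟩
        omega
  intro u hu
  exact key (n * n) 0 (by omega) u hu (fun s t _ h => absurd h (Nat.not_lt_zero _))

/-- no proper nontrivial strongly closed subgroup -/
theorem sc_UU (p : ℕ) [hp : Fact p.Prime] [CharP K p] (hn : 3 ≤ n) (T : Subgroup SLn)
    (hT : T ≤ (UU : Subgroup SLn))
    (hsc : ∀ x ∈ T, ∀ g : SLn, g * x * g⁻¹ ∈ (UU : Subgroup SLn) → g * x * g⁻¹ ∈ T) :
    T = ⊥ ∨ T = (UU : Subgroup SLn) := by
  by_cases hbot : T = ⊥
  · exact Or.inl hbot
  right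
  apply le_antisymm hT
  apply UU_le_of_rx_mem
  -- a central element of `UU` in `T`
  haveI : (T.subgroupOf (UU : Subgroup SLn)).Normal := by
    refine ⟨fun x hx u => ?_⟩
    rw [Subgroup.mem_subgroupOf] at hx ⊢
    exact hsc _ hx u.1 ((UU : Subgroup SLn).mul_mem ((UU : Subgroup SLn).mul_mem u.2 x.2)
      ((UU : Subgroup SLn).inv_mem u.2))
  have hne : T.subgroupOf (UU : Subgroup SLn) ≠ ⊥ := by
    intro h
    apply hbot
    rw [Subgroup.eq_bot_iff_forall]
    intro x hx
    have : (⟨x, hT hx⟩ : (UU : Subgroup SLn)) ∈ T.subgroupOf (UU : Subgroup SLn) := by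
      rw [Subgroup.mem_subgroupOf]
      exact hx
    rw [h, Subgroup.mem_bot] at this
    exact congrArg Subtype.val this
  obtain ⟨z, hzT, hzZ, hz1⟩ := Cfsg.Agent.Lib.Lead.PGroup.exists_mem_center_of_normal
    (isPGroup_UU (n := n) (K := K) p) (T.subgroupOf (UU : Subgroup SLn)) hne
  rw [Subgroup.mem_subgroupOf] at hzT
  obtain ⟨z0, hz0⟩ : ∃ z0 : SLn, z0 = z.1 := ⟨_, rfl⟩
  rw [← hz0] at hzT
  have hz0U : z0 ∈ (UU : Subgroup SLn) := by rw [hz0]; exact z.2
  have hz01 : z0 ≠ 1 := by
    intro h
    apply hz1
    apply Subtype.ext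
    rw [← hz0, h]
    rfl
  have hcomm : ∀ u ∈ (UU : Subgroup SLn), z0 * u = u * z0 := by
    intro u hu
    have := Subgroup.mem_center_iff.mp hzZ ⟨u, hu⟩
    have h2 := congrArg Subtype.val this
    rw [hz0]
    exact h2.symm
  -- indices
  obtain ⟨o, ho⟩ : ∃ o : Fin n, o.val = 0 := ⟨⟨0, by omega⟩, rfl⟩
  obtain ⟨m, hm⟩ : ∃ m : Fin n, m.val = n - 1 := ⟨⟨n - 1, by omega⟩, rfl⟩
  obtain ⟨q1, hq1⟩ : ∃ q1 : Fin n, q1.val = 1 := ⟨⟨1, by omega⟩, rfl⟩
  have hom : o < m := by rw [Fin.lt_def]; omega
  have hoq1 : o < q1 := by rw [Fin.lt_def]; omega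
  have hq1m : q1 < m := by rw [Fin.lt_def]; omega
  have hole : ∀ s : Fin n, s ≠ o → o < s := by
    intro s hs
    rw [Fin.lt_def]
    have : s.val ≠ o.val := fun h => hs (Fin.ext h)
    omega
  have hmle : ∀ s : Fin n, s ≠ m → s < m := by
    intro s hs
    rw [Fin.lt_def]
    have : s.val ≠ m.val := fun h => hs (Fin.ext h)
    have := s.2
    omega
  -- the shape of `z0`
  obtain ⟨c, hc⟩ : ∃ c : K, c = z0.1 o m := ⟨_, rfl⟩
  have hshape : z0 = rx o m hom.ne c := by
    apply Subtype.ext
    ext s t
    rw [rx_apply]
    rcases lt_trichotomy s t with h | h | h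
    · rw [if_neg h.ne, zero_add]
      by_cases hs : s = o
      · by_cases ht : t = m
        · rw [if_pos ⟨hs, ht⟩, hs, ht, hc]
        · rw [if_neg (fun h' => ht h'.2)]
          have htm := hmle t ht
          exact (of_commute_rx z0 t m htm.ne (hcomm _ (rx_mem_UU t m htm 1))).1 s h.ne
      · rw [if_neg (fun h' => hs h'.1)]
        have hos := hole s hs
        exact (of_commute_rx z0 o s hos.ne (hcomm _ (rx_mem_UU o s hos 1))).2 t h.ne'
    · subst h
      rw [if_pos rfl, if_neg, add_zero, diag_of_mem_UU hz0U]
      rintro ⟨h1, h2⟩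
      rw [h1] at h2
      exact hom.ne h2
    · rw [if_neg h.ne', if_neg, add_zero, isUpper_of_mem_UU hz0U s t h]
      rintro ⟨h1, h2⟩
      rw [h1, h2] at h
      exact absurd h (not_lt.mpr hom.le)
  have hc0 : c ≠ 0 := by
    intro h
    apply hz01
    rw [hshape, h, rx_zero]
  -- moving root elements
  have hmove : ∀ y y' g : SLn, y ∈ T → g * y * g⁻¹ = y * y' → y * y' ∈ (UU : Subgroup SLn) →
      y' ∈ T := by
    intro y y' g hy h hU
    have h1 := hsc y hy g (by rw [h]; exact hU)
    rw [h] at h1
    have : y' = y⁻¹ * (y * y') := by group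
    rw [this]
    exact T.mul_mem (T.inv_mem hy) h1
  have hzT' : rx o m hom.ne c ∈ T := by rw [← hshape]; exact hzT
  have L1 : ∀ q : Fin n, ∀ hoq : o < q, q ≠ m → ∀ c' : K, rx o q hoq.ne c' ∈ T := by
    intro q hoq hqm c'
    have h := conj_rx_right o m q hom.ne (Ne.symm hqm) hoq.ne (-(c' / c)) c
    have e : -(-(c' / c) * c) = c' := by field_simp
    rw [e] at h
    exact hmove _ _ _ hzT' h ((UU : Subgroup SLn).mul_mem (rx_mem_UU o m hom c) (rx_mem_UU o q hoq c'))
  have L2 : ∀ c' : K, rx o m hom.ne c' ∈ T := by
    intro c'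
    have h := conj_rx_right o q1 m hoq1.ne hq1m.ne hom.ne (-c') 1
    have e : -(-c' * 1) = c' := by ring
    rw [e] at h
    exact hmove _ _ _ (L1 q1 hoq1 hq1m.ne 1) h
      ((UU : Subgroup SLn).mul_mem (rx_mem_UU o q1 hoq1 1) (rx_mem_UU o m hom c'))
  have L3 : ∀ j : Fin n, ∀ hoj : o < j, ∀ c' : K, rx o j hoj.ne c' ∈ T := by
    intro j hoj c'
    by_cases hjm : j = m
    · subst hjm
      exact L2 c'
    · exact L1 j hoj hjm c'
  intro i j hij c'
  by_cases hio : i = o
  · subst hio
    exact L3 j hij c'
  · have hoi := hole i hio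
    have hoj : o < j := lt_trans hoi hij
    have h := conj_rx_left o j i hoj.ne hio hij.ne c' 1
    rw [mul_one] at h
    exact hmove _ _ _ (L3 j hoj 1) h
      ((UU : Subgroup SLn).mul_mem (rx_mem_UU o j hoj 1) (rx_mem_UU i j hij c'))

end Cfsg.Agent.H9.SLnD
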