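import Cfsg.Agent.H9.SLnD

/-!
# The `p`-fusion system of `PSLₙ(K)`, `K` a finite field of characteristic `p`, `n ≥ 3`, is simple
-/

set_option autoImplicit false
set_option linter.unusedSimpArgs false
set_option linter.unusedVariables false
set_option linter.style.haveILetI false

namespace Cfsg.Agent.H9.SLnE

open Matrix Cfsg Cfsg.Agent.H9.SLnA Cfsg.Agent.H9.SLnB Cfsg.Agent.H9.SLnC Cfsg.Agent.H9.SLnD
open Cfsg.Agent.H9.GfsSimple3

variable {n : ℕ} {K : Type*} [Field K]

local notation "SLn" => Matrix.SpecialLinearGroup (Fin n) K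

/-- the torus element `h_{kl}(c)` as a product of four root elements -/
def hx (k l : Fin n) (hkl : k ≠ l) (c : K) : SLn :=
  rx l k hkl.symm (c⁻¹ - 1) * rx k l hkl 1 * rx l k hkl.symm (c - 1) * rx k l hkl (-c⁻¹)

theorem hx_val (k l : Fin n) (hkl : k ≠ l) (c : K) (hc : c ≠ 0) :
    (hx k l hkl c).1 = Matrix.diagonal (fun s => if s = k then c else if s = l then c⁻¹ else 1) := by
  unfold hx
  simp only [Matrix.SpecialLinearGroup.coe_mul]
  rw [rx_val k l hkl (-c⁻¹), rx_val l k hkl.symm (c - 1), rx_val k l hkl 1]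
  ext s t
  rw [Matrix.diagonal_apply]
  by_cases htl : t = l
  · subst htl
    rw [mul_transvection_apply_same, mul_transvection_apply_of_ne _ _ _ _ hkl.symm,
      mul_transvection_apply_same, mul_transvection_apply_same,
      mul_transvection_apply_of_ne _ _ _ _ hkl, mul_transvection_apply_same]
    simp only [rx_apply]
    by_cases hsk : s = k
    · subst hsk
      simp [hkl, hkl.symm]
      rw [inv_mul_cancel₀ hc]
      ring
    · by_cases hsl : s = t
      · subst hsl
        simp [hkl, hkl.symm]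
        right
        rw [sub_mul, mul_inv_cancel₀ hc]
        ring
      · simp [hsk, hsl]
  · rw [mul_transvection_apply_of_ne _ _ _ _ htl]
    by_cases htk : t = k
    · subst htk
      rw [mul_transvection_apply_same, mul_transvection_apply_of_ne _ _ _ _ hkl,
        mul_transvection_apply_same]
      simp only [rx_apply]
      by_cases hsk : s = t
      · subst hsk
        simp [hkl, hkl.symm]
      · by_cases hsl : s = l
        · subst hsl
          simp [hkl, hkl.symm]
          field_simp
          ring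
        · simp [hsk, hsl]
    · rw [mul_transvection_apply_of_ne _ _ _ _ htk, mul_transvection_apply_of_ne _ _ _ _ htl]
      simp only [rx_apply]
      by_cases hst : s = t
      · subst hst
        simp [htk, htl]
      · simp [hst, htk, htl]

section finite

variable [Finite K]

theorem hx_mem_normalizer_UU (k l : Fin n) (hkl : k ≠ l) (c : K) (hc : c ≠ 0) :
    hx k l hkl c ∈ Subgroup.normalizer ((UU : Subgroup SLn) : Set SLn) := by
  apply Lb_le_normalizer (fun i : Fin n => i.val)
  intro i j hij
  rw [hx_val k l hkl c hc, Matrix.diagonal_apply_ne]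
  intro h
  exact hij (congrArg Fin.val h)

theorem exists_orderOf_rx (p : ℕ) [hp : Fact p.Prime] [CharP K p] (i j : Fin n) (hij : i ≠ j)
    (c : K) : ∃ k : ℕ, orderOf (rx i j hij c) = p ^ k := by
  have h := orderOf_dvd_of_pow_eq_one (rx_pow_char p i j hij c)
  have h' : orderOf (rx i j hij c) ∣ p ^ 1 := by rwa [pow_one]
  obtain ⟨k, -, hk⟩ := (Nat.dvd_prime_pow hp.out).mp h'
  exact ⟨k, hk⟩

theorem hx_mem_pNormGen (p : ℕ) [hp : Fact p.Prime] [CharP K p] (i0 : ℕ) (k l : Fin n)
    (hk : k.val = i0) (hl : l.val = i0 + 1) (hkl : k ≠ l) (c : K) :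
    hx k l hkl c ∈ pNormGen p (Ri i0 : Subgroup SLn) := by
  have hb : bi i0 k = bi i0 l := by
    unfold bi
    rw [if_pos (by omega), if_neg (by omega)]
    omega
  have h1 : ∀ a : K, rx k l hkl a ∈ pNormGen p (Ri i0 : Subgroup SLn) := by
    intro a
    apply Subgroup.subset_closure
    exact ⟨Lb_le_normalizer (bi i0) (rx_mem_Lb k l hkl hb a), exists_orderOf_rx p k l hkl a⟩
  have h2 : ∀ a : K, rx l k hkl.symm a ∈ pNormGen p (Ri i0 : Subgroup SLn) := by
    intro a
    apply Subgroup.subset_closure
    exact ⟨Lb_le_normalizer (bi i0) (rx_mem_Lb l k hkl.symm hb.symm a),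
      exists_orderOf_rx p l k hkl.symm a⟩
  unfold hx
  exact Subgroup.mul_mem _ (Subgroup.mul_mem _ (Subgroup.mul_mem _ (h2 _) (h1 _)) (h2 _)) (h1 _)

theorem hx_mem_genSub (p : ℕ) [hp : Fact p.Prime] [CharP K p] (hn : 3 ≤ n) (i0 : ℕ)
    (hi0 : i0 + 1 < n) (k l : Fin n)
    (hk : k.val = i0) (hl : l.val = i0 + 1) (hkl : k ≠ l) (c : K) (hc : c ≠ 0) :
    hx k l hkl c ∈ genSub p (UU : Subgroup SLn) := by
  apply Subgroup.subset_closure
  exact ⟨hx_mem_normalizer_UU k l hkl c hc, Ri i0, centricIn_Ri p hn i0 hi0,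
    hx_mem_pNormGen p i0 k l hk hl hkl c⟩

theorem UU_le_genSub (p : ℕ) [hp : Fact p.Prime] [CharP K p] :
    (UU : Subgroup SLn) ≤ genSub p (UU : Subgroup SLn) := by
  intro u hu
  apply Subgroup.subset_closure
  refine ⟨Subgroup.le_normalizer hu, UU, centricIn_UU, ?_⟩
  apply Subgroup.subset_closure
  refine ⟨Subgroup.le_normalizer hu, ?_⟩
  obtain ⟨k, hk⟩ := (isPGroup_UU (n := n) (K := K) p) ⟨u, hu⟩
  have hk' : u ^ p ^ k = 1 := congrArg Subtype.val hk
  obtain ⟨j, -, hj⟩ := (Nat.dvd_prime_pow hp.out).mp (orderOf_dvd_of_pow_eq_one hk')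
  exact ⟨j, hj⟩

/-- upper triangular matrices lie in `genSub` -/
theorem mem_genSub_of_isUpper (p : ℕ) [hp : Fact p.Prime] [CharP K p] (hn : 3 ≤ n) :
    ∀ k : ℕ, ∀ g : SLn, IsUpper g.1 → (∀ s : Fin n, k < s.val → g.1 s s = 1) →
      g ∈ genSub p (UU : Subgroup SLn) := by
  intro k
  induction k with
  | zero =>
    intro g hg hd
    apply UU_le_genSub p
    apply mem_UU_of_isUpper hg
    have hdet : g.1.det = ∏ s, g.1 s s := Matrix.det_of_isUpperTriangular (fun i j hij => hg i j hij)
    rw [g.2] at hdet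
    obtain ⟨o, ho⟩ : ∃ o : Fin n, o.val = 0 := ⟨⟨0, by omega⟩, rfl⟩
    rw [Finset.prod_eq_single o] at hdet
    · intro s
      by_cases hs : s = o
      · rw [hs, ← hdet]
      · apply hd
        have : s.val ≠ o.val := fun h => hs (Fin.ext h)
        omega
    · intro s _ hs
      apply hd
      have : s.val ≠ o.val := fun h => hs (Fin.ext h)
      omega
    · intro h
      exact absurd (Finset.mem_univ o) h
  | succ k ih =>
    intro g hg hd
    by_cases hk : k + 1 < n
    · obtain ⟨a, ha⟩ : ∃ a : Fin n, a.val = k := ⟨⟨k, by omega⟩, rfl⟩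
      obtain ⟨b, hb⟩ : ∃ b : Fin n, b.val = k + 1 := ⟨⟨k + 1, hk⟩, rfl⟩
      have hab : a ≠ b := by
        intro h
        rw [h] at ha
        omega
      obtain ⟨c, hc⟩ : ∃ c : K, c = g.1 b b := ⟨_, rfl⟩
      have hdet : g.1.det = ∏ s, g.1 s s :=
        Matrix.det_of_isUpperTriangular (fun i j hij => hg i j hij)
      rw [g.2] at hdet
      have hc0 : c ≠ 0 := by
        rw [hc]
        have : ∏ s, g.1 s s ≠ 0 := by rw [← hdet]; exact one_ne_zero
        exact Finset.prod_ne_zero_iff.mp this b (Finset.mem_univ b)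
      have hh := hx_mem_genSub p hn k hk a b ha hb hab c hc0
      have hmul : (hx a b hab c * g).1 = Matrix.diagonal
          (fun s => if s = a then c else if s = b then c⁻¹ else 1) * g.1 := by
        rw [Matrix.SpecialLinearGroup.coe_mul, hx_val a b hab c hc0]
      have hg' : hx a b hab c * g ∈ genSub p (UU : Subgroup SLn) := by
        apply ih
        · intro s t hst
          rw [hmul, Matrix.diagonal_mul, hg s t hst, mul_zero]
        · intro s hs
          rw [hmul, Matrix.diagonal_mul]
          by_cases hsb : s = b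
          · rw [hsb, if_neg hab.symm, if_pos rfl, ← hc, inv_mul_cancel₀ hc0]
          · have hsa : s ≠ a := by
              intro h
              rw [h] at hs
              omega
            rw [if_neg hsa, if_neg hsb, one_mul]
            apply hd
            have : s.val ≠ b.val := fun h => hsb (Fin.ext h)
            omega
      have : g = (hx a b hab c)⁻¹ * (hx a b hab c * g) := by group
      rw [this]
      exact Subgroup.mul_mem _ (Subgroup.inv_mem _ hh) hg'
    · apply ih g hg
      intro s hs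
      have := s.2
      omega

/-- the certificate for `SLₙ(K)` -/
theorem cert2_UU (p : ℕ) [hp : Fact p.Prime] [CharP K p] (hn : 3 ≤ n) :
    Cert2 p (UU : Subgroup SLn) := by
  refine ⟨card_UU_eq p, ?_, sc_UU p hn, ?_⟩
  · intro h
    have h1 : rx (⟨0, by omega⟩ : Fin n) ⟨1, by omega⟩ (by
        intro h; have := congrArg Fin.val h; simp at this) (1 : K) ∈ (UU : Subgroup SLn) :=
      rx_mem_UU _ _ (by rw [Fin.lt_def]; simp) 1
    rw [h, Subgroup.mem_bot, rx_eq_one_iff] at h1
    exact one_ne_zero h1
  · intro g hg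
    exact ⟨g, mem_genSub_of_isUpper p hn n g (isUpper_of_mem_normalizer hg)
      (fun s hs => absurd s.2 (by omega)), fun x _ => rfl⟩

end finite

end Cfsg.Agent.H9.SLnE
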