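import Cfsg.Agent.H9.SLnE

/-!
# The `p`-fusion system of `PSLₙ(K)`: passage to the central quotient
-/

set_option autoImplicit false
set_option linter.unusedSimpArgs false
set_option linter.unusedVariables false
set_option linter.style.haveILetI false

namespace Cfsg.Agent.H9.SLnF

open Matrix Cfsg Cfsg.Agent.H9.SLnA Cfsg.Agent.H9.SLnB Cfsg.Agent.H9.SLnC Cfsg.Agent.H9.SLnD
open Cfsg.Agent.H9.SLnE Cfsg.Agent.H9.GfsSimple3

variable {n : ℕ} {K : Type*} [Field K]

local notation "SLn" => Matrix.SpecialLinearGroup (Fin n) K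

/-- a central element of `SLₙ(K)`, `K` finite, has order dividing `|K| - 1` -/
theorem pow_card_sub_one_of_mem_center [Fintype K] (z : SLn) (hz : z ∈ Subgroup.center SLn) :
    z ^ (Fintype.card K - 1) = 1 := by
  obtain ⟨r, hr, hA⟩ := Matrix.SpecialLinearGroup.mem_center_iff.mp hz
  apply Subtype.ext
  rw [Matrix.SpecialLinearGroup.coe_pow, ← hA, ← map_pow, Matrix.SpecialLinearGroup.coe_one]
  by_cases h0 : r = 0
  · -- impossible unless `n = 0`, where everything is trivial
    subst h0
    by_cases hn : n = 0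
    · subst hn
      exact Subsingleton.elim _ _
    · exfalso
      rw [Fintype.card_fin, zero_pow hn] at hr
      exact zero_ne_one hr
  · rw [FiniteField.pow_card_sub_one_eq_one r h0, map_one]

theorem coprime_card_center [Fintype K] (p : ℕ) [hp : Fact p.Prime] [CharP K p] :
    (Nat.card (Subgroup.center SLn)).Coprime p := by
  have hpp : p.Prime := hp.out
  rw [Nat.coprime_comm, hpp.coprime_iff_not_dvd]
  intro h
  obtain ⟨x, hx⟩ := exists_prime_orderOf_dvd_card' p h
  have h1 : x ^ (Fintype.card K - 1) = 1 :=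
    Subtype.ext (pow_card_sub_one_of_mem_center x.1 x.2)
  have h2 : p ∣ Fintype.card K - 1 := by
    rw [← hx]
    exact orderOf_dvd_of_pow_eq_one h1
  have h3 : p ∣ Fintype.card K := by
    have : ((Fintype.card K : ℕ) : K) = 0 := Nat.cast_card_eq_zero K
    exact (CharP.cast_eq_zero_iff K p _).mp this
  have h4 : 1 ≤ Fintype.card K := Fintype.card_pos
  have h5 : p ∣ 1 := by
    have := Nat.dvd_sub h3 h2
    have e : Fintype.card K - (Fintype.card K - 1) = 1 := by omega
    rwa [e] at this
  exact hpp.one_lt.ne' (Nat.dvd_one.mp h5)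

/-- **the `p`-fusion system of `PSLₙ(K)`, `char K = p`, `n ≥ 3`, is simple** -/
theorem fusion_simple [Fintype K] (p : ℕ) [hp : Fact p.Prime] [CharP K p] (hn : 3 ≤ n)
    (S : Sylow p (Matrix.ProjectiveSpecialLinearGroup (Fin n) K)) :
    (groupFusionSystem
      (S : Subgroup (Matrix.ProjectiveSpecialLinearGroup (Fin n) K))).IsSimple p := by
  have hmap := Cert2.map p (QuotientGroup.mk' (Subgroup.center SLn))
    (QuotientGroup.mk'_surjective _)
    (by rw [QuotientGroup.ker_mk'])
    (by rw [QuotientGroup.ker_mk']; exact coprime_card_center p) UU (cert2_UU p hn)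
  exact isSimple_of_cert2 p _ hmap S

end Cfsg.Agent.H9.SLnF
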