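import Cfsg.Agent.H9.FusAmb
import Cfsg.Agent.H9.SL3FusSplit
import Cfsg.Agent.Lib.Helper5.SU3Inv
import Cfsg.Agent.S0279

/-!
# The embedding `GU₂(q) → SU₃(q)`, `g ↦ diag(g, (det g)⁻¹)`, as ambient data for the fusion
certificate
-/

set_option autoImplicit false

namespace Cfsg.Agent.H9.SU3Amb

open Matrix Cfsg Cfsg.Agent.H9.SL3Iota Cfsg.Agent.H9.SL3FusSplit Cfsg.Agent.Lib.Helper5.Herm
  Cfsg.Agent.Lib.Helper5.SU3Inv Cfsg.Agent.H9.FusAmb

variable {F : Type*} [Field F] [Fintype F] {q : ℕ}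

local notation "SL3" => Matrix.SpecialLinearGroup (Fin 3) F
local notation "GL2" => Matrix.GeneralLinearGroup (Fin 2) F

omit [Fintype F] in
theorem hermForm_two (x y : Fin 2 → F) :
    hermForm 2 F q x y = x 0 * y 0 ^ q + x 1 * y 1 ^ q := by
  unfold hermForm
  rw [Fin.sum_univ_two]

omit [Fintype F] in
theorem hermForm_three (x y : Fin 3 → F) :
    hermForm 3 F q x y = x 0 * y 0 ^ q + x 1 * y 1 ^ q + x 2 * y 2 ^ q := by
  unfold hermForm
  rw [Fin.sum_univ_three]

/-- unitary `2 × 2` matrices, entrywise: the columns are orthonormal -/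
def IsU (q : ℕ) (M : Matrix (Fin 2) (Fin 2) F) : Prop :=
  M 0 0 * M 0 0 ^ q + M 1 0 * M 1 0 ^ q = 1 ∧ M 0 1 * M 0 1 ^ q + M 1 1 * M 1 1 ^ q = 1 ∧
    M 0 0 * M 0 1 ^ q + M 1 0 * M 1 1 ^ q = 0

theorem IsU.conj (hF : Fintype.card F = q ^ 2) {M : Matrix (Fin 2) (Fin 2) F} (h : IsU q M) :
    M 0 1 * M 0 0 ^ q + M 1 1 * M 1 0 ^ q = 0 := by
  have h3 : (M 0 0 * M 0 1 ^ q + M 1 0 * M 1 1 ^ q) ^ q = 0 ^ q := congrArg (· ^ q) h.2.2
  rw [frob_add hF, mul_pow, mul_pow, frob_frob hF, frob_frob hF,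
    zero_pow (by have := one_lt_q hF; omega)] at h3
  linear_combination h3

omit [Fintype F] in
theorem mulVec_two (M : Matrix (Fin 2) (Fin 2) F) (u : Fin 2 → F) (i : Fin 2) :
    (M *ᵥ u) i = M i 0 * u 0 + M i 1 * u 1 := by
  rw [Matrix.mulVec, dotProduct, Fin.sum_univ_two]

theorem herm_of_isU (hF : Fintype.card F = q ^ 2) {M : Matrix (Fin 2) (Fin 2) F} (h : IsU q M)
    (u v : Fin 2 → F) : hermForm 2 F q (M *ᵥ u) (M *ᵥ v) = hermForm 2 F q u v := by
  have h4 := h.conj hF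
  obtain ⟨h1, h2, h3⟩ := h
  rw [hermForm_two, hermForm_two, mulVec_two, mulVec_two, mulVec_two, mulVec_two, frob_add hF,
    frob_add hF, mul_pow, mul_pow, mul_pow, mul_pow]
  linear_combination (u 0 * v 0 ^ q) * h1 + (u 1 * v 1 ^ q) * h2 + (u 0 * v 1 ^ q) * h3 +
    (u 1 * v 0 ^ q) * h4

theorem mem_GU2_iff (hF : Fintype.card F = q ^ 2) (g : GL2) : g ∈ GU 2 F q ↔ IsU q g.1 := by
  have hq : q ≠ 0 := by have := one_lt_q hF; omega
  constructor
  · intro h
    have key : ∀ i j : Fin 2, hermForm 2 F q (fun k => g.1 k i) (fun k => g.1 k j) =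
        if i = j then 1 else 0 := by
      intro i j
      have := h (Pi.single i 1) (Pi.single j 1)
      rw [Units.coeHom_apply, Matrix.mulVec_single_one, Matrix.mulVec_single_one,
        hermForm_single_left, Pi.single_apply] at this
      show hermForm 2 F q ((g.1).col i) ((g.1).col j) = _
      rw [this]
      by_cases hij : i = j
      · rw [if_pos hij, one_pow]
      · rw [if_neg hij, zero_pow hq]
    refine ⟨?_, ?_, ?_⟩
    · have := key 0 0
      rwa [hermForm_two, if_pos rfl] at this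
    · have := key 1 1
      rwa [hermForm_two, if_pos rfl] at this
    · have := key 0 1
      rwa [hermForm_two, if_neg (by decide)] at this
  · intro h u v
    exact herm_of_isU hF h u v

theorem IsU.det_frob (hF : Fintype.card F = q ^ 2) {M : Matrix (Fin 2) (Fin 2) F} (h : IsU q M) :
    M.det * M.det ^ q = 1 := by
  obtain ⟨h1, h2, h3⟩ := h
  rw [Matrix.det_fin_two, frob_sub hF, mul_pow, mul_pow]
  linear_combination (M 0 1 * M 0 1 ^ q + M 1 1 * M 1 1 ^ q) * h1 + h2 -
    (M 0 1 * M 0 0 ^ q + M 1 1 * M 1 0 ^ q) * h3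

omit [Fintype F] in
theorem blk_mulVec (A : Matrix (Fin 2) (Fin 2) F) (d : F) (u : Fin 3 → F) :
    blk A d *ᵥ u = ![A 0 0 * u 0 + A 0 1 * u 1, A 1 0 * u 0 + A 1 1 * u 1, d * u 2] := by
  funext i
  fin_cases i <;> simp [blk, Matrix.mulVec, dotProduct, Fin.sum_univ_three]

theorem herm_blk (hF : Fintype.card F = q ^ 2) {M : Matrix (Fin 2) (Fin 2) F} (h : IsU q M) (d : F)
    (hd : d * d ^ q = 1) (u v : Fin 3 → F) :
    hermForm 3 F q (blk M d *ᵥ u) (blk M d *ᵥ v) = hermForm 3 F q u v := by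
  have h4 := h.conj hF
  obtain ⟨h1, h2, h3⟩ := h
  rw [hermForm_three, hermForm_three, blk_mulVec, blk_mulVec]
  simp only [Matrix.cons_val_zero, Matrix.cons_val_one, Matrix.cons_val_two, Matrix.head_cons,
    Matrix.tail_cons]
  rw [frob_add hF, frob_add hF, mul_pow, mul_pow, mul_pow, mul_pow, mul_pow]
  linear_combination (u 0 * v 0 ^ q) * h1 + (u 1 * v 1 ^ q) * h2 + (u 0 * v 1 ^ q) * h3 +
    (u 1 * v 0 ^ q) * h4 + (u 2 * v 2 ^ q) * hd

theorem iota_mem (hF : Fintype.card F = q ^ 2) (g : GL2) (hg : g ∈ GU 2 F q) :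
    iota g ∈ SU 3 F q := by
  intro u v
  have hU := (mem_GU2_iff hF g).mp hg
  have hdet := hU.det_frob hF
  show hermForm 3 F q ((iota g).1 *ᵥ u) ((iota g).1 *ᵥ v) = hermForm 3 F q u v
  rw [iota_val]
  apply herm_blk hF hU
  rw [inv_pow, ← mul_inv, hdet, inv_one]

/-- the embedding `GU₂(q) → SU₃(q)` -/
def iotaU (hF : Fintype.card F = q ^ 2) : GU 2 F q →* SU 3 F q where
  toFun g := ⟨iota g.1, iota_mem hF g.1 g.2⟩
  map_one' := Subtype.ext (map_one iota)
  map_mul' a b := Subtype.ext (map_mul iota a.1 b.1)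

theorem iotaU_val (hF : Fintype.card F = q ^ 2) (g : GU 2 F q) : (iotaU hF g).1 = iota g.1 := rfl

theorem iotaU_injective (hF : Fintype.card F = q ^ 2) : Function.Injective (iotaU hF) := by
  intro a b hab
  apply Subtype.ext
  apply iota_injective
  exact congrArg Subtype.val hab

theorem isU_neg_one (hF : Fintype.card F = q ^ 2) : IsU q ((-1 : GL2).1) := by
  have hq : q ≠ 0 := by have := one_lt_q hF; omega
  have e : ((-1 : GL2).1) = -1 := by rw [Units.val_neg, Units.val_one]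
  rw [e]
  refine ⟨?_, ?_, ?_⟩ <;> simp [frob_neg hF, zero_pow hq]

theorem isU_dpm (hF : Fintype.card F = q ^ 2) : IsU q ((dpm (F := F)).1) := by
  have hq : q ≠ 0 := by have := one_lt_q hF; omega
  rw [dpm_val]
  refine ⟨?_, ?_, ?_⟩ <;> simp [frob_neg hF, zero_pow hq]

theorem isU_sw (hF : Fintype.card F = q ^ 2) : IsU q ((sw (F := F)).1) := by
  have hq : q ≠ 0 := by have := one_lt_q hF; omega
  rw [sw_val]
  refine ⟨?_, ?_, ?_⟩ <;> simp [zero_pow hq]

/-- `-1` in `GU₂` -/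
def negU (hF : Fintype.card F = q ^ 2) : GU 2 F q := ⟨-1, (mem_GU2_iff hF _).mpr (isU_neg_one hF)⟩

/-- `diag(1,-1)` in `GU₂` -/
def dpmU (hF : Fintype.card F = q ^ 2) : GU 2 F q := ⟨dpm, (mem_GU2_iff hF _).mpr (isU_dpm hF)⟩

/-- the swap in `GU₂` -/
def swU (hF : Fintype.card F = q ^ 2) : GU 2 F q := ⟨sw, (mem_GU2_iff hF _).mpr (isU_sw hF)⟩

omit [Fintype F] in
/-- matrices commuting with `diag(1,-1)` and the swap are scalar -/
theorem mem_center_of_comm (h2 : (2 : F) ≠ 0) (x : GL2) (h1 : x * dpm = dpm * x)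
    (h3 : x * sw = sw * x) : x ∈ Subgroup.center GL2 := by
  rw [mem_center_iff]
  have e01 := congrArg (fun g : GL2 => g.1 0 1) h1
  have e10 := congrArg (fun g : GL2 => g.1 1 0) h1
  have f01 := congrArg (fun g : GL2 => g.1 0 1) h3
  simp only [mul_entries, dpm_val, sw_val, Matrix.of_apply, Matrix.cons_val', Matrix.cons_val_zero,
    Matrix.cons_val_one, Matrix.empty_val', Matrix.cons_val_fin_one] at e01 e10 f01
  refine ⟨?_, ?_, ?_⟩
  · have : (2 : F) * x.1 0 1 = 0 := by linear_combination -e01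
    exact (mul_eq_zero.mp this).resolve_left h2
  · have : (2 : F) * x.1 1 0 = 0 := by linear_combination e10
    exact (mul_eq_zero.mp this).resolve_left h2
  · linear_combination f01

/-- the centre of `GU₂` consists of scalar matrices -/
theorem val_mem_center (hF : Fintype.card F = q ^ 2) (h2 : (2 : F) ≠ 0) (x : GU 2 F q)
    (hx : x ∈ Subgroup.center (GU 2 F q)) : x.1 ∈ Subgroup.center GL2 := by
  rw [Subgroup.mem_center_iff] at hx
  apply mem_center_of_comm h2
  · exact (congrArg Subtype.val (hx (dpmU hF))).symm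
  · exact (congrArg Subtype.val (hx (swU hF))).symm

omit [Fintype F] in
/-- scalar matrices of `GU₂` are central -/
theorem mem_center_of_val (x : GU 2 F q) (hx : x.1 ∈ Subgroup.center GL2) :
    x ∈ Subgroup.center (GU 2 F q) := by
  rw [Subgroup.mem_center_iff]
  intro y
  apply Subtype.ext
  exact Subgroup.mem_center_iff.mp hx y.1

theorem isU_of_blk (hF : Fintype.card F = q ^ 2) (M : Matrix (Fin 2) (Fin 2) F) (d : F)
    (h : ∀ u v : Fin 3 → F, hermForm 3 F q (blk M d *ᵥ u) (blk M d *ᵥ v) = hermForm 3 F q u v) :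
    IsU q M := by
  have hq : q ≠ 0 := by have := one_lt_q hF; omega
  have h00 := h ![1, 0, 0] ![1, 0, 0]
  have h11 := h ![0, 1, 0] ![0, 1, 0]
  have h01 := h ![1, 0, 0] ![0, 1, 0]
  simp only [hermForm_three, blk_mulVec, Matrix.cons_val_zero, Matrix.cons_val_one,
    Matrix.cons_val_two, Matrix.head_cons,
    Matrix.tail_cons, mul_one, mul_zero, add_zero, zero_add, zero_pow hq, one_pow] at h00 h11 h01
  exact ⟨h00, h11, h01⟩

omit [Fintype F] in
theorem neg_one_ne_one' (h2 : (2 : F) ≠ 0) : (-1 : GL2) ≠ 1 := by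
  intro h
  have h1 := congrArg (fun g : GL2 => g.1 0 0) h
  simp only [Units.val_neg, Units.val_one, Matrix.neg_apply, Matrix.one_apply_eq] at h1
  apply h2
  linear_combination -h1

/-- all involutions of `SU₃(q)`, `q` odd, are conjugate -/
theorem isConj_of_invol (hF : Fintype.card F = q ^ 2) (h2 : (2 : F) ≠ 0) (t t' : SU 3 F q)
    (ht : t ≠ 1) (ht2 : t * t = 1) (ht' : t' ≠ 1) (ht2' : t' * t' = 1) : IsConj t t' := by
  obtain ⟨u, hu, hut⟩ := exists_Rmat_of_invol hF h2 t ht ht2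
  obtain ⟨u', hu', hut'⟩ := exists_Rmat_of_invol hF h2 t' ht' ht2'
  obtain ⟨g, k, hk, hg⟩ := exists_su_map hF u u' hu hu'
  rw [isConj_iff]
  refine ⟨g, ?_⟩
  apply su_ext
  show (g.1 : Matrix (Fin 3) (Fin 3) F) * (t.1 : Matrix (Fin 3) (Fin 3) F) *
    ((g⁻¹).1 : Matrix (Fin 3) (Fin 3) F) = (t'.1 : Matrix (Fin 3) (Fin 3) F)
  have hinv : (g.1 : Matrix (Fin 3) (Fin 3) F) * ((g⁻¹).1 : Matrix (Fin 3) (Fin 3) F) = 1 := by
    have : g * g⁻¹ = 1 := mul_inv_cancel g
    have := congrArg (fun x : SU 3 F q => (x.1 : Matrix (Fin 3) (Fin 3) F)) this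
    exact this
  rw [hut, conj_Rmat 3 _ _ hinv (su_herm 3 g) u, hg, Rmat_smul hF 3 u' k hk, hut']

theorem amb (hF : Fintype.card F = q ^ 2) (h2 : (2 : F) ≠ 0) : Amb (iotaU hF) (negU hF) := by
  refine
    { inj := iotaU_injective hF
      zc := ?_
      zz := ?_
      z1 := ?_
      cent := ?_
      uniq := ?_
      conj := ?_ }
  · intro y
    apply Subtype.ext
    show (-1 : GL2) * y.1 = y.1 * (-1 : GL2)
    rw [neg_one_mul, mul_neg_one]
  · apply Subtype.ext
    show (-1 : GL2) * (-1 : GL2) = 1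
    rw [neg_mul_neg, one_mul]
  · intro h
    exact neg_one_ne_one' h2 (congrArg Subtype.val h)
  · intro g hg
    have hg' : g.1 * iota (-1 : GL2) = iota (-1 : GL2) * g.1 := congrArg Subtype.val hg
    obtain ⟨k, hk⟩ := exists_of_comm h2 g.1 hg'
    have hkU : k ∈ GU 2 F q := by
      rw [mem_GU2_iff hF]
      apply isU_of_blk hF k.1 (k.1.det)⁻¹
      intro u v
      have := su_herm 3 g u v
      rw [← hk, iota_val] at this
      exact this
    exact ⟨⟨k, hkU⟩, Subtype.ext hk⟩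
  · intro x hx hxx hx1
    apply Subtype.ext
    show x.1 = -1
    apply eq_neg_one_of_central x.1 (val_mem_center hF h2 x hx) (congrArg Subtype.val hxx)
    intro h
    exact hx1 (Subtype.ext h)
  · intro x hxx hx1
    apply isConj_of_invol hF h2
    · intro h
      rw [← map_one (iotaU hF)] at h
      exact hx1 (iotaU_injective hF h)
    · rw [← map_mul, hxx, map_one]
    · intro h
      rw [← map_one (iotaU hF)] at h
      apply neg_one_ne_one' h2
      exact congrArg Subtype.val (iotaU_injective hF h)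
    · rw [← map_mul]
      have : negU hF * negU hF = 1 := by
        apply Subtype.ext
        show (-1 : GL2) * (-1 : GL2) = 1
        rw [neg_mul_neg, one_mul]
      rw [this, map_one]

end Cfsg.Agent.H9.SU3Amb
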