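import Cfsg.Agent.H9.SU3FusB

/-!
# The `2`-fusion system of `PSU₃(q)`, `q` odd, is simple
-/

set_option autoImplicit false

namespace Cfsg.Agent.H9.SU3Fus

open Matrix Cfsg Cfsg.Agent.H9.GfsSimple2

variable {F : Type*} [Field F] [Fintype F] {q : ℕ}

theorem coprime_card_center (hF : Fintype.card F = q ^ 2) :
    (Nat.card (Subgroup.center (SU 3 F q))).Coprime 2 := by
  rw [Cfsg.Agent.S0279.result hF 3 (le_refl 3)]
  have h : Nat.gcd 3 (q + 1) ∣ 3 := Nat.gcd_dvd_left 3 (q + 1)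
  have h3 : Nat.gcd 3 (q + 1) = 1 ∨ Nat.gcd 3 (q + 1) = 3 :=
    (Nat.dvd_prime Nat.prime_three).mp h
  rcases h3 with h3 | h3 <;> rw [h3] <;> norm_num

/-- **the `2`-fusion system of `PSU₃(q)`, `q` odd, is simple** -/
theorem fusion_simple (hF : Fintype.card F = q ^ 2) (hodd : q % 2 = 1)
    (S : Sylow 2 (Cfsg.PSU 3 F q)) :
    (groupFusionSystem (S : Subgroup (Cfsg.PSU 3 F q))).IsSimple 2 := by
  have hmod : q % 4 = 1 ∨ q % 4 = 3 := by omega
  obtain ⟨S0, hS0⟩ : ∃ S0 : Subgroup (SU 3 F q), Certificate 2 S0 := by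
    rcases hmod with h | h
    · exact Cfsg.Agent.H9.SU3FusB.exists_certificate hF h
    · exact Cfsg.Agent.H9.SU3FusA.exists_certificate hF h
  have hmap := Certificate.map 2 (QuotientGroup.mk' (Subgroup.center (SU 3 F q)))
    (QuotientGroup.mk'_surjective _)
    (by rw [QuotientGroup.ker_mk'])
    (by rw [QuotientGroup.ker_mk']; exact coprime_card_center hF) S0 hS0
  exact isSimple_of_certificate' 2 _ hmap S

end Cfsg.Agent.H9.SU3Fus
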