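import Cfsg.Agent.H9.SU3Amb
import Cfsg.Agent.H9.FusRestrict

/-!
# The certificate for `SU₃(q)`, `q ≡ 3 (mod 4)`: the diagonal torus of `GU₂(q)`
-/

set_option autoImplicit false

namespace Cfsg.Agent.H9.SU3FusA

open Matrix Cfsg Cfsg.Agent.H9.SL3Iota Cfsg.Agent.H9.SL3FusSplit Cfsg.Agent.Lib.Helper5.Herm
  Cfsg.Agent.Lib.Helper5.SU3Inv Cfsg.Agent.H9.FusAmb Cfsg.Agent.H9.SU3Amb Cfsg.Agent.H9.FusRestrict

variable {F : Type*} [Field F] [Fintype F] {q : ℕ}

local notation "SL3" => Matrix.SpecialLinearGroup (Fin 3) F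
local notation "GL2" => Matrix.GeneralLinearGroup (Fin 2) F

omit [Field F] in
theorem card_mod_four (hF : Fintype.card F = q ^ 2) (hodd : q % 2 = 1) :
    Fintype.card F % 4 = 1 := by
  rw [hF, pow_two, Nat.mul_mod]
  have : q % 4 = 1 ∨ q % 4 = 3 := by omega
  rcases this with h | h <;> rw [h]

/-- the universal part of the torus data for the diagonal torus -/
theorem ksetup (hF : Fintype.card F = q ^ 2) (hodd : q % 2 = 1) :
    KSetup (Ds : Subgroup GL2) (Ms : Subgroup GL2) := by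
  have h := SL3FusSplit.gsetup (F := F) (card_mod_four hF hodd)
  exact
    { le := h.le
      comm := h.comm
      idx := h.idx
      normal := h.normal
      fix := h.fix
      cen := by
        intro x hx
        rw [mem_center_iff] at hx
        exact ⟨hx.1, hx.2.1⟩
      nsc := h.nsc }

theorem two_ne_zero' (hF : Fintype.card F = q ^ 2) (hodd : q % 2 = 1) : (2 : F) ≠ 0 :=
  two_ne_zero_of_odd (by have := card_mod_four hF hodd; omega)

/-- a diagonal matrix is unitary iff its entries have norm one -/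
theorem isU_dg (hF : Fintype.card F = q ^ 2) (a b : Fˣ) :
    IsU q (dg a b).1 ↔ (a : F) * (a : F) ^ q = 1 ∧ (b : F) * (b : F) ^ q = 1 := by
  have hq : q ≠ 0 := by have := one_lt_q hF; omega
  rw [dg_val]
  unfold IsU
  simp [zero_pow hq]

/-- the diagonal element of `GU₂` -/
def dgU (hF : Fintype.card F = q ^ 2) (a b : Fˣ) (ha : (a : F) * (a : F) ^ q = 1)
    (hb : (b : F) * (b : F) ^ q = 1) : GU 2 F q :=
  ⟨dg a b, (mem_GU2_iff hF _).mpr ((isU_dg hF a b).mpr ⟨ha, hb⟩)⟩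

omit [Fintype F] in
theorem pow_q_of_sq_neg_one (hq4 : q % 4 = 3) (i : F) (hi : i * i = -1) : i ^ q = -i := by
  obtain ⟨m, hm⟩ : ∃ m, q = 4 * m + 3 := ⟨q / 4, by omega⟩
  have h4 : i ^ 4 = 1 := by
    have : i ^ 4 = (i * i) * (i * i) := by ring
    rw [this, hi]
    ring
  rw [hm, pow_add, pow_mul, h4, one_pow, one_mul]
  have : i ^ 3 = (i * i) * i := by ring
  rw [this, hi]
  ring

theorem gsetup (hF : Fintype.card F = q ^ 2) (hq4 : q % 4 = 3) :
    GSetup ((Ds : Subgroup GL2).subgroupOf (GU 2 F q)) ((Ms : Subgroup GL2).subgroupOf (GU 2 F q)) := by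
  have hodd : q % 2 = 1 := by omega
  have h2 : (2 : F) ≠ 0 := two_ne_zero' hF hodd
  apply gsetup_of_ksetup (ksetup hF hodd) (GU 2 F q) (fun x hx => val_mem_center hF h2 x hx)
  · exact ⟨sw, (mem_GU2_iff hF _).mpr (isU_sw hF), sw_mem, sw_not_mem, sw_mul_sw⟩
  · obtain ⟨i, hi⟩ := exists_sq_neg_one (F := F) (card_mod_four hF hodd)
    have hi0 : i ≠ 0 := by
      rintro rfl
      simp at hi
    have hiq := pow_q_of_sq_neg_one hq4 i hi
    refine ⟨dg (Units.mk0 i hi0) 1, ?_, dg_mem _ _, ⟨2, ?_⟩, ?_⟩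
    · rw [mem_GU2_iff hF, isU_dg hF]
      refine ⟨?_, ?_⟩
      · rw [Units.val_mk0, hiq]
        linear_combination -hi
      · simp
    · rw [dg_pow, one_pow]
      have : (Units.mk0 i hi0) ^ 2 ^ 2 = 1 := by
        apply Units.ext
        rw [Units.val_pow_eq_pow_val, Units.val_mk0, Units.val_one]
        have : i ^ 2 ^ 2 = (i * i) * (i * i) := by ring
        rw [this, hi]
        ring
      rw [this, dg_one]
    · rw [dg_mul, mem_center_iff, dg_val]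
      rintro ⟨-, -, h3⟩
      simp only [Matrix.of_apply, Matrix.cons_val', Matrix.cons_val_zero, Matrix.cons_val_one,
        Matrix.empty_val', Matrix.cons_val_fin_one, Units.val_mul, Units.val_mk0, Units.val_one,
        mul_one] at h3
      rw [hi] at h3
      apply h2
      linear_combination -h3

/-! ### fusion -/

theorem r12_mem (hF : Fintype.card F = q ^ 2) : (r12 (F := F)) ∈ SU 3 F q := by
  intro u v
  show hermForm 3 F q ((r12 (F := F)).1 *ᵥ u) ((r12 (F := F)).1 *ᵥ v) = hermForm 3 F q u v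
  have e : ∀ x : Fin 3 → F, (r12 (F := F)).1 *ᵥ x = ![x 0, x 2, -x 1] := by
    intro x
    funext i
    fin_cases i <;> simp [r12, Matrix.mulVec, dotProduct, Fin.sum_univ_three]
  rw [e, e, hermForm_three, hermForm_three]
  simp only [Matrix.cons_val_zero, Matrix.cons_val_one, Matrix.cons_val_two, Matrix.head_cons,
    Matrix.tail_cons]
  rw [frob_neg hF]
  ring

theorem rot_mem (hF : Fintype.card F = q ^ 2) : (rot (F := F)) ∈ SU 3 F q := by
  intro u v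
  show hermForm 3 F q ((rot (F := F)).1 *ᵥ u) ((rot (F := F)).1 *ᵥ v) = hermForm 3 F q u v
  have e : ∀ x : Fin 3 → F, (rot (F := F)).1 *ᵥ x = ![x 2, x 1, -x 0] := by
    intro x
    funext i
    fin_cases i <;> simp [rot, Matrix.mulVec, dotProduct, Fin.sum_univ_three]
  rw [e, e, hermForm_three, hermForm_three]
  simp only [Matrix.cons_val_zero, Matrix.cons_val_one, Matrix.cons_val_two, Matrix.head_cons,
    Matrix.tail_cons]
  rw [frob_neg hF]
  ring

theorem isConj_of_mul_eq (hF : Fintype.card F = q ^ 2) (r : SL3) (hr : r ∈ SU 3 F q)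
    (x y : GU 2 F q) (h : r * iota x.1 = iota y.1 * r) : IsConj (iotaU hF x) (iotaU hF y) := by
  rw [isConj_iff]
  refine ⟨⟨r, hr⟩, ?_⟩
  have : (⟨r, hr⟩ : SU 3 F q) * iotaU hF x = iotaU hF y * ⟨r, hr⟩ := Subtype.ext h
  rw [this, mul_inv_cancel_right]

omit [Fintype F] in
theorem r12_mul_iota (a : Fˣ) : r12 * iota (dg a a⁻¹) = iota (dg a 1) * r12 := by
  apply Subtype.ext
  rw [Matrix.SpecialLinearGroup.coe_mul, Matrix.SpecialLinearGroup.coe_mul, iota_dg, iota_dg,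
    r12_mul]
  congr 2 <;> simp

omit [Fintype F] in
theorem rot_mul_iota (b : Fˣ) : rot * iota (dg b⁻¹ b) = iota (dg 1 b) * rot := by
  apply Subtype.ext
  rw [Matrix.SpecialLinearGroup.coe_mul, Matrix.SpecialLinearGroup.coe_mul, iota_dg, iota_dg,
    rot_mul]
  congr 2 <;> simp

omit [Fintype F] in
theorem norm_inv (a : Fˣ) (ha : (a : F) * (a : F) ^ q = 1) :
    ((a⁻¹ : Fˣ) : F) * ((a⁻¹ : Fˣ) : F) ^ q = 1 := by
  rw [Units.val_inv_eq_inv_val, inv_pow, ← mul_inv, ha, inv_one]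

omit [Fintype F] in
theorem norm_one : (((1 : Fˣ) : F)) * (((1 : Fˣ) : F)) ^ q = 1 := by simp

/-- **the generation hypothesis for the diagonal torus** -/
theorem hgen (hF : Fintype.card F = q ^ 2) (P₂ T₂ : Subgroup (GU 2 F q))
    (hP : PSetup ((Ds : Subgroup GL2).subgroupOf (GU 2 F q))
      ((Ms : Subgroup GL2).subgroupOf (GU 2 F q)) P₂)
    (h2 : ∀ c ∈ P₂, c ∈ (Ds : Subgroup GL2).subgroupOf (GU 2 F q) →
      (∀ g ∈ (Ms : Subgroup GL2).subgroupOf (GU 2 F q),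
        g ∉ (Ds : Subgroup GL2).subgroupOf (GU 2 F q) → g * c * g⁻¹ = c⁻¹) → c ∈ T₂)
    (h3 : ∀ x ∈ T₂, ∀ y ∈ P₂, IsConj (iotaU hF x) (iotaU hF y) → y ∈ T₂) :
    ∀ c ∈ P₂, c ∈ (Ds : Subgroup GL2).subgroupOf (GU 2 F q) → c ∈ T₂ := by
  intro c hcP hcD
  have hcD' : c.1 ∈ (Ds : Subgroup GL2) := hcD
  obtain ⟨a, b, hab⟩ := exists_dg hcD'
  have hU := (mem_GU2_iff hF c.1).mp c.2
  rw [hab, isU_dg hF] at hU
  obtain ⟨ha1, hb1⟩ := hU
  obtain ⟨k, hk⟩ := hP.two _ hcP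
  have hk' : (dg a b) ^ 2 ^ k = 1 := by
    rw [← hab]
    exact congrArg Subtype.val hk
  rw [dg_pow, ← dg_one] at hk'
  obtain ⟨ha, hb⟩ := dg_inj hk'
  have hmem : ∀ (x y : Fˣ) (hx : (x : F) * (x : F) ^ q = 1) (hy : (y : F) * (y : F) ^ q = 1),
      x ^ 2 ^ k = 1 → y ^ 2 ^ k = 1 → dgU hF x y hx hy ∈ P₂ := by
    intro x y hx hy hxk hyk
    apply hP.c2 _ (dg_mem x y)
    refine ⟨k, Subtype.ext ?_⟩
    show (dg x y) ^ 2 ^ k = 1
    rw [dg_pow, hxk, hyk, dg_one]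
  have hinv : ∀ (x : Fˣ) (hx : (x : F) * (x : F) ^ q = 1),
      ∀ g ∈ (Ms : Subgroup GL2).subgroupOf (GU 2 F q),
        g ∉ (Ds : Subgroup GL2).subgroupOf (GU 2 F q) →
        g * dgU hF x x⁻¹ hx (norm_inv x hx) * g⁻¹ = (dgU hF x x⁻¹ hx (norm_inv x hx))⁻¹ := by
    intro x hx g hg hgD
    obtain ⟨g1, g2⟩ := anti_of_not_mem (g := g.1) hg hgD
    apply Subtype.ext
    show g.1 * dg x x⁻¹ * g.1⁻¹ = (dg x x⁻¹)⁻¹
    rw [anti_conj g.1 g1 g2, dg_inv, inv_inv]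
  have ha' : a⁻¹ ^ 2 ^ k = 1 := by rw [inv_pow, ha, inv_one]
  have hb' : b⁻¹ ^ 2 ^ k = 1 := by rw [inv_pow, hb, inv_one]
  have h4 : dgU hF a 1 ha1 norm_one ∈ T₂ := by
    apply h3 (dgU hF a a⁻¹ ha1 (norm_inv a ha1))
      (h2 _ (hmem a a⁻¹ ha1 (norm_inv a ha1) ha ha') (dg_mem _ _) (hinv a ha1)) _
      (hmem a 1 ha1 norm_one ha (one_pow _))
    exact isConj_of_mul_eq hF r12 (r12_mem hF) _ _ (r12_mul_iota a)
  have h5 : dgU hF 1 b norm_one hb1 ∈ T₂ := by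
    have h6 : dgU hF b⁻¹ b (norm_inv b hb1) hb1 ∈ T₂ := by
      apply h2 _ (hmem b⁻¹ b (norm_inv b hb1) hb1 hb' hb) (dg_mem _ _)
      intro g hg hgD
      obtain ⟨g1, g2⟩ := anti_of_not_mem (g := g.1) hg hgD
      apply Subtype.ext
      show g.1 * dg b⁻¹ b * g.1⁻¹ = (dg b⁻¹ b)⁻¹
      rw [anti_conj g.1 g1 g2, dg_inv, inv_inv]
    apply h3 _ h6 _ (hmem 1 b norm_one hb1 (one_pow _) hb)
    exact isConj_of_mul_eq hF rot (rot_mem hF) _ _ (rot_mul_iota b)
  have := T₂.mul_mem h4 h5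
  have e : dgU hF a 1 ha1 norm_one * dgU hF 1 b norm_one hb1 = c := by
    apply Subtype.ext
    show dg a 1 * dg 1 b = c.1
    rw [dg_mul, mul_one, one_mul, hab]
  rwa [e] at this

/-- **the certificate for `SU₃(q)`, `q ≡ 3 (mod 4)`** -/
theorem exists_certificate (hF : Fintype.card F = q ^ 2) (hq4 : q % 4 = 3) :
    ∃ S0 : Subgroup (SU 3 F q), Cfsg.Agent.H9.GfsSimple2.Certificate 2 S0 := by
  have hodd : q % 2 = 1 := by omega
  apply Cfsg.Agent.H9.FusAmb.exists_certificate (amb hF (two_ne_zero' hF hodd)) (gsetup hF hq4)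
  intro P₂ T₂ hP _ _ h2 h3
  exact hgen hF P₂ T₂ hP h2 h3

end Cfsg.Agent.H9.SU3FusA
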