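import Cfsg.Agent.H9.SU3FusA
import Cfsg.Agent.H9.SL3FusNonsplit

/-!
# The certificate for `SU₃(q)`, `q ≡ 1 (mod 4)`: the centralizer of `[[0,-1],[1,0]]` in `GU₂(q)`
-/

set_option autoImplicit false

namespace Cfsg.Agent.H9.SU3FusB

open Matrix Cfsg Cfsg.Agent.H9.SL3Iota Cfsg.Agent.H9.SL3FusSplit Cfsg.Agent.H9.SL3FusNonsplit
  Cfsg.Agent.Lib.Helper5.Herm
  Cfsg.Agent.Lib.Helper5.SU3Inv Cfsg.Agent.H9.FusAmb Cfsg.Agent.H9.SU3Amb Cfsg.Agent.H9.FusRestrict

variable {F : Type*} [Field F]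

local notation "SL3" => Matrix.SpecialLinearGroup (Fin 3) F
local notation "GL2" => Matrix.GeneralLinearGroup (Fin 2) F

/-- the universal part of the torus data for the centralizer of `[[0,-1],[1,0]]` -/
theorem ksetup (h2 : (2 : F) ≠ 0) : KSetup (Cn : Subgroup GL2) (Nn : Subgroup GL2) := by
  refine
    { le := fun _ hg => Or.inl hg
      comm := ?_
      idx := ?_
      normal := ?_
      fix := ?_
      cen := ?_
      nsc := ?_ }
  · rintro a ⟨a1, a2⟩ b ⟨b1, b2⟩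
    apply ext_entries <;> simp only [mul_entries, a1, a2, b1, b2] <;> ring
  · intro g hg h hh hgC hhC
    exact (isA_of_not_mem hg hgC).mul (isA_of_not_mem hh hhC)
  · intro g hg c hc
    by_cases hgC : g ∈ (Cn : Subgroup GL2)
    · exact Cn.mul_mem (Cn.mul_mem hgC hc) (Cn.inv_mem hgC)
    · have hA := isA_of_not_mem hg hgC
      exact (hA.mul_C hc).mul hA.inv
  · intro g hg hgC c hc hfix
    obtain ⟨g1, g2⟩ := isA_of_not_mem hg hgC
    obtain ⟨c1, c2⟩ := hc
    have hm := mul_eq_of_conj hfix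
    have e00 := congrArg (fun x : GL2 => x.1 0 0) hm
    have e01 := congrArg (fun x : GL2 => x.1 0 1) hm
    simp only [mul_entries, g1, g2, c1, c2] at e00 e01
    have hd := det_entries g
    rw [g1, g2] at hd
    have hb : c.1 1 0 = 0 := by
      by_contra hb
      have hy : g.1 1 0 = 0 := by
        have : (2 : F) * (g.1 1 0 * c.1 1 0) = 0 := by linear_combination e00
        have := (mul_eq_zero.mp this).resolve_left h2
        exact (mul_eq_zero.mp this).resolve_right hb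
      have hx : g.1 1 1 = 0 := by
        have : (2 : F) * (g.1 1 1 * c.1 1 0) = 0 := by linear_combination e01
        have := (mul_eq_zero.mp this).resolve_left h2
        exact (mul_eq_zero.mp this).resolve_right hb
      apply hd
      rw [hx, hy]
      ring
    rw [mem_center_iff]
    refine ⟨?_, hb, c1⟩
    rw [c2, hb, neg_zero]
  · intro x hx
    rw [mem_center_iff] at hx
    rw [mem_Cn]
    refine ⟨hx.2.2, ?_⟩
    rw [hx.1, hx.2.1, neg_zero]
  · intro c hc hcz h hconj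
    obtain ⟨c1, c2⟩ := hc
    obtain ⟨d1, d2⟩ := hconj
    have hb : c.1 1 0 ≠ 0 := by
      intro hb
      apply hcz
      rw [mem_center_iff]
      refine ⟨?_, hb, c1⟩
      rw [c2, hb, neg_zero]
    have hm : h * c = (h * c * h⁻¹) * h := by rw [inv_mul_cancel_right]
    -- trace and determinant
    have htr : (h * c * h⁻¹).1.trace = c.1.trace := by
      rw [Units.val_mul, Units.val_mul]
      exact Matrix.trace_units_conj h c.1
    have hdet : (h * c * h⁻¹).1.det = c.1.det := by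
      rw [Units.val_mul, Units.val_mul]
      exact Matrix.det_units_conj h c.1
    rw [Matrix.trace_fin_two, Matrix.trace_fin_two, d1, c1] at htr
    rw [Matrix.det_fin_two, Matrix.det_fin_two, d1, d2, c1, c2] at hdet
    have ha : (h * c * h⁻¹).1 1 1 = c.1 1 1 := by
      have : (2 : F) * ((h * c * h⁻¹).1 1 1 - c.1 1 1) = 0 := by linear_combination htr
      have := (mul_eq_zero.mp this).resolve_left h2
      linear_combination this
    rw [ha] at hdet
    have hbb : ((h * c * h⁻¹).1 1 0 - c.1 1 0) * ((h * c * h⁻¹).1 1 0 + c.1 1 0) = 0 := by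
      linear_combination hdet
    have e00 := congrArg (fun x : GL2 => x.1 0 0) hm
    have e01 := congrArg (fun x : GL2 => x.1 0 1) hm
    simp only [mul_entries h c, mul_entries (h * c * h⁻¹) h, c1, c2, d1, d2, ha] at e00 e01
    rcases mul_eq_zero.mp hbb with hb' | hb'
    · left
      have hb'' : (h * c * h⁻¹).1 1 0 = c.1 1 0 := by linear_combination hb'
      rw [hb''] at e00 e01
      refine ⟨?_, ?_⟩
      · have : c.1 1 0 * (h.1 0 0 - h.1 1 1) = 0 := by linear_combination -e01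
        have := (mul_eq_zero.mp this).resolve_left hb
        linear_combination this
      · have : c.1 1 0 * (h.1 0 1 + h.1 1 0) = 0 := by linear_combination e00
        have := (mul_eq_zero.mp this).resolve_left hb
        linear_combination this
    · right
      have hb'' : (h * c * h⁻¹).1 1 0 = -c.1 1 0 := by linear_combination hb'
      rw [hb''] at e00 e01
      refine ⟨?_, ?_⟩
      · have : c.1 1 0 * (h.1 0 0 + h.1 1 1) = 0 := by linear_combination -e01
        have := (mul_eq_zero.mp this).resolve_left hb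
        linear_combination this
      · have : c.1 1 0 * (h.1 0 1 - h.1 1 0) = 0 := by linear_combination e00
        have := (mul_eq_zero.mp this).resolve_left hb
        linear_combination this

section Fin

variable [Fintype F] {q : ℕ}

/-- `ε = ±1` and `s` with `s² = 2ε` and `s^{q+1} = 2` -/
theorem exists_s (hF : Fintype.card F = q ^ 2) (hq4 : q % 4 = 1) (h2 : (2 : F) ≠ 0) :
    ∃ ε s : F, ε * ε = 1 ∧ ε ^ q = ε ∧ s * s = 2 * ε ∧ s * s ^ q = 2 := by
  obtain ⟨n, hn⟩ : ∃ n, q = 4 * n + 1 := ⟨q / 4, by omega⟩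
  have h2q : (2 : F) ^ (4 * n) = 1 := by
    have h := frob_two hF (F := F)
    rw [hn, pow_succ] at h
    have : (2 : F) ^ (4 * n) * 2 = 1 * 2 := by rw [h, one_mul]
    exact mul_right_cancel₀ h2 this
  have hεε : (2 : F) ^ (2 * n) * (2 : F) ^ (2 * n) = 1 := by
    rw [← pow_add, ← h2q]
    congr 1
    ring
  have hεq : ((2 : F) ^ (2 * n)) ^ q = (2 : F) ^ (2 * n) := by
    rw [← pow_mul, mul_comm, pow_mul, frob_two hF]
  have hx0 : (2 : F) * (2 : F) ^ (2 * n) ≠ 0 := mul_ne_zero h2 (pow_ne_zero _ h2)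
  have hchar : ringChar F ≠ 2 := by
    intro hc
    have : CharP F 2 := hc ▸ ringChar.charP F
    exact h2 (CharTwo.two_eq_zero)
  have hcard : Fintype.card F / 2 = 4 * n * (2 * n + 1) := by
    have : Fintype.card F = 2 * (4 * n * (2 * n + 1)) + 1 := by
      rw [hF, hn]
      ring
    omega
  have hx4 : ((2 : F) * (2 : F) ^ (2 * n)) ^ (4 * n) = 1 := by
    rw [mul_pow, h2q, one_mul, ← pow_mul]
    have : 2 * n * (4 * n) = 4 * n * (2 * n) := by ring
    rw [this, pow_mul, h2q, one_pow]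
  have hsq : IsSquare ((2 : F) * (2 : F) ^ (2 * n)) := by
    rw [FiniteField.isSquare_iff hchar hx0, hcard, pow_mul, hx4, one_pow]
  obtain ⟨s, hs⟩ := hsq
  refine ⟨(2 : F) ^ (2 * n), s, hεε, hεq, hs.symm, ?_⟩
  have : s * s ^ q = (s * s) ^ (2 * n + 1) := by
    rw [hn, ← pow_succ', ← pow_two, ← pow_mul]
    congr 1
    ring
  rw [this, ← hs, mul_pow, pow_succ, pow_succ]
  have e : ((2 : F) ^ (2 * n)) ^ (2 * n) = 1 := by
    rw [← pow_mul]
    have : 2 * n * (2 * n) = 4 * n * n := by ring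
    rw [this, pow_mul, h2q, one_pow]
  rw [e]
  linear_combination (2 : F) * hεε

theorem two_ne_zero'' (hF : Fintype.card F = q ^ 2) (hodd : q % 2 = 1) : (2 : F) ≠ 0 :=
  Cfsg.Agent.H9.SU3FusA.two_ne_zero' hF hodd

theorem isU_i0 (hF : Fintype.card F = q ^ 2) : IsU q ((i0 (F := F)).1) := by
  have hq : q ≠ 0 := by have := one_lt_q hF; omega
  rw [i0_val]
  refine ⟨?_, ?_, ?_⟩ <;> simp [frob_neg hF, zero_pow hq]

theorem gsetup (hF : Fintype.card F = q ^ 2) (hq4 : q % 4 = 1) :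
    GSetup ((Cn : Subgroup GL2).subgroupOf (GU 2 F q)) ((Nn : Subgroup GL2).subgroupOf (GU 2 F q)) := by
  have hodd : q % 2 = 1 := by omega
  have h2 : (2 : F) ≠ 0 := two_ne_zero'' hF hodd
  apply gsetup_of_ksetup (ksetup h2) (GU 2 F q) (fun x hx => val_mem_center hF h2 x hx)
  · exact ⟨dpm, (mem_GU2_iff hF _).mpr (isU_dpm hF), Or.inr dpm_isA, dpm_not_mem h2, dpm_mul_dpm⟩
  · obtain ⟨ε, s, hεε, hεq, hss, hsq⟩ := exists_s hF hq4 h2
    have hs0 : s ≠ 0 := by
      rintro rfl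
      rw [zero_mul] at hsq
      exact h2 hsq.symm
    have ht1 : (2 : F) * (s⁻¹ * s⁻¹) = ε := by
      have hε0 : ε ≠ 0 := by
        rintro rfl
        rw [mul_zero] at hεε
        exact zero_ne_one hεε
      have : s⁻¹ * s⁻¹ = (2 * ε)⁻¹ := by rw [← mul_inv, hss]
      rw [this]
      field_simp
      linear_combination (-1 : F) * hεε
    have ht2 : (2 : F) * (s⁻¹ * s⁻¹ ^ q) = 1 := by
      rw [inv_pow, ← mul_inv, hsq]
      exact mul_inv_cancel₀ h2
    have hdet : (!![s⁻¹, -(ε * s⁻¹); ε * s⁻¹, s⁻¹] : Matrix (Fin 2) (Fin 2) F).det ≠ 0 := by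
      rw [Matrix.det_fin_two_of]
      have : s⁻¹ * s⁻¹ - -(ε * s⁻¹) * (ε * s⁻¹) = (1 + ε * ε) * (s⁻¹ * s⁻¹) := by ring
      rw [this, hεε]
      have : (1 + 1 : F) = 2 := by norm_num
      rw [this, ht1]
      rintro rfl
      rw [mul_zero] at hεε
      exact zero_ne_one hεε
    have hcv : (Matrix.GeneralLinearGroup.mkOfDetNeZero _ hdet : GL2).1 =
        !![s⁻¹, -(ε * s⁻¹); ε * s⁻¹, s⁻¹] := rfl
    have hcc : (Matrix.GeneralLinearGroup.mkOfDetNeZero _ hdet : GL2) *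
        (Matrix.GeneralLinearGroup.mkOfDetNeZero _ hdet : GL2) = i0 := by
      apply ext_entries <;>
        simp only [mul_entries, hcv, i0_val, Matrix.of_apply, Matrix.cons_val', Matrix.cons_val_zero,
          Matrix.cons_val_one, Matrix.empty_val', Matrix.cons_val_fin_one]
      · linear_combination (-(s⁻¹ * s⁻¹)) * hεε
      · linear_combination (-ε) * ht1 - hεε
      · linear_combination ε * ht1 + hεε
      · linear_combination (-(s⁻¹ * s⁻¹)) * hεε
    refine ⟨Matrix.GeneralLinearGroup.mkOfDetNeZero _ hdet, ?_, ?_, ⟨3, ?_⟩, ?_⟩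
    · rw [mem_GU2_iff hF, hcv]
      refine ⟨?_, ?_, ?_⟩ <;>
        simp only [Matrix.of_apply, Matrix.cons_val', Matrix.cons_val_zero,
          Matrix.cons_val_one, Matrix.empty_val', Matrix.cons_val_fin_one, mul_pow, frob_neg hF, hεq]
      · linear_combination (s⁻¹ * s⁻¹ ^ q) * hεε + ht2
      · linear_combination (s⁻¹ * s⁻¹ ^ q) * hεε + ht2
      · ring
    · rw [mem_Cn]
      refine ⟨?_, ?_⟩ <;> simp
    · have h4 : (Matrix.GeneralLinearGroup.mkOfDetNeZero _ hdet : GL2) ^ 2 ^ 3 =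
          ((Matrix.GeneralLinearGroup.mkOfDetNeZero _ hdet : GL2) *
            (Matrix.GeneralLinearGroup.mkOfDetNeZero _ hdet : GL2)) ^ 4 := by
        rw [← pow_two, ← pow_mul]
        norm_num
      rw [h4, hcc]
      have : (i0 (F := F)) ^ 4 = (i0 * i0) * (i0 * i0) := by
        rw [pow_succ, pow_succ, pow_succ, pow_one, mul_assoc (i0 * i0)]
      rw [this, i0_sq, neg_mul_neg, one_mul]
    · rw [hcc, mem_center_iff, i0_val]
      rintro ⟨h01, -, -⟩
      simp at h01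

/-! ### fusion -/

omit [Fintype F] in
/-- the `2`-elements of norm one are `±1` when `q ≡ 1 (mod 4)` -/
theorem eq_one_or_neg_one' (hq4 : q % 4 = 1) (d : F) (k : ℕ)
    (hd : d ^ 2 ^ k = 1) (hd2 : d * d ^ q = 1) : d = 1 ∨ d = -1 := by
  have h1 : orderOf d ∣ 2 ^ k := orderOf_dvd_of_pow_eq_one hd
  have h2 : orderOf d ∣ q + 1 := orderOf_dvd_of_pow_eq_one (by rw [pow_succ']; exact hd2)
  obtain ⟨j, -, hj⟩ := (Nat.dvd_prime_pow Nat.prime_two).mp h1
  have hj1 : j ≤ 1 := by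
    by_contra hj1
    have h4 : 4 ∣ orderOf d := by
      rw [hj]
      obtain ⟨i, rfl⟩ : ∃ i, j = i + 2 := ⟨j - 2, by omega⟩
      exact ⟨2 ^ i, by ring⟩
    have := dvd_trans h4 h2
    omega
  have hsq : d ^ 2 = 1 := by
    have := pow_orderOf_eq_one d
    rw [hj] at this
    interval_cases j
    · rw [pow_zero, pow_one] at this
      rw [this, one_pow]
    · rwa [pow_one] at this
  have : (d - 1) * (d + 1) = 0 := by linear_combination hsq
  rcases mul_eq_zero.mp this with h | h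
  · left; linear_combination h
  · right; linear_combination h

/-- an antidiagonal-type unitary element of square `-1` is conjugate to `[[0,-1],[1,0]]` in `GU₂` -/
theorem exists_conj_i0 (hF : Fintype.card F = q ^ 2) (h2 : (2 : F) ≠ 0) (s : F)
    (hs : s * s ^ q = 2) (g : GL2) (hA : IsA g) (hU : IsU q g.1) (hgg : g * g = -1) :
    ∃ x : GL2, x ∈ GU 2 F q ∧ g * x = x * i0 := by
  obtain ⟨g1, g2⟩ := hA
  obtain ⟨u1, u2, u3⟩ := hU
  have e00 := congrArg (fun x : GL2 => x.1 0 0) hgg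
  simp only [mul_entries, Units.val_neg, Units.val_one, Matrix.neg_apply, Matrix.one_apply_eq] at e00
  -- now `g = [[-p', r],[r, p']]` with `p' = g 1 1`, `r = g 1 0`
  simp only [g1, g2, frob_neg hF] at e00 u1 u3
  have hs0 : s ≠ 0 := by
    rintro rfl
    rw [zero_mul] at hs
    exact h2 hs.symm
  have ht2 : (2 : F) * (s⁻¹ * s⁻¹ ^ q) = 1 := by
    rw [inv_pow, ← mul_inv, hs]
    exact mul_inv_cancel₀ h2
  -- the Frobenius negates the entries
  have hp : g.1 1 1 ^ q = -g.1 1 1 := by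
    linear_combination (-(g.1 1 0)) * u3 - g.1 1 1 * u1 + (g.1 1 1 ^ q) * e00
  have hr : g.1 1 0 ^ q = -g.1 1 0 := by
    linear_combination (g.1 1 1) * u3 - g.1 1 0 * u1 + (g.1 1 0 ^ q) * e00
  have hdet : (!![s⁻¹ * (g.1 1 0 - 1), s⁻¹ * g.1 1 1; s⁻¹ * g.1 1 1, -(s⁻¹ * (g.1 1 0 + 1))] :
      Matrix (Fin 2) (Fin 2) F).det ≠ 0 := by
    rw [Matrix.det_fin_two_of]
    have : s⁻¹ * (g.1 1 0 - 1) * -(s⁻¹ * (g.1 1 0 + 1)) - s⁻¹ * g.1 1 1 * (s⁻¹ * g.1 1 1) =
        (s⁻¹ * s⁻¹) * 2 := by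
      linear_combination (-(s⁻¹ * s⁻¹)) * e00
    rw [this]
    exact mul_ne_zero (mul_ne_zero (inv_ne_zero hs0) (inv_ne_zero hs0)) h2
  have hxv : (Matrix.GeneralLinearGroup.mkOfDetNeZero _ hdet : GL2).1 =
      !![s⁻¹ * (g.1 1 0 - 1), s⁻¹ * g.1 1 1; s⁻¹ * g.1 1 1, -(s⁻¹ * (g.1 1 0 + 1))] := rfl
  refine ⟨Matrix.GeneralLinearGroup.mkOfDetNeZero _ hdet, ?_, ?_⟩
  · rw [mem_GU2_iff hF, hxv]
    refine ⟨?_, ?_, ?_⟩ <;>
      simp only [Matrix.of_apply, Matrix.cons_val', Matrix.cons_val_zero,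
        Matrix.cons_val_one, Matrix.empty_val', Matrix.cons_val_fin_one, mul_pow, frob_neg hF,
        frob_sub hF, frob_add hF, one_pow, hp, hr]
    · linear_combination ht2 - (s⁻¹ * s⁻¹ ^ q) * e00
    · linear_combination ht2 - (s⁻¹ * s⁻¹ ^ q) * e00
    · ring
  · apply ext_entries <;>
      simp only [mul_entries, hxv, i0_val, g1, g2, Matrix.of_apply, Matrix.cons_val',
        Matrix.cons_val_zero, Matrix.cons_val_one, Matrix.empty_val', Matrix.cons_val_fin_one]
    · ring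
    · linear_combination (-s⁻¹) * e00
    · linear_combination s⁻¹ * e00
    · ring

/-- `[[0,-1],[1,0]]` in `GU₂` -/
def i0U (hF : Fintype.card F = q ^ 2) : GU 2 F q := ⟨i0, (mem_GU2_iff hF _).mpr (isU_i0 hF)⟩

/-- **the generation hypothesis for the centralizer of `[[0,-1],[1,0]]`** -/
theorem hgen (hF : Fintype.card F = q ^ 2) (hq4 : q % 4 = 1) (P₂ T₂ : Subgroup (GU 2 F q))
    (hP : PSetup ((Cn : Subgroup GL2).subgroupOf (GU 2 F q))
      ((Nn : Subgroup GL2).subgroupOf (GU 2 F q)) P₂)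
    (h1 : ∀ g ∈ P₂, g * g = 1 → g ∈ T₂)
    (h2 : ∀ c ∈ P₂, c ∈ (Cn : Subgroup GL2).subgroupOf (GU 2 F q) →
      (∀ g ∈ (Nn : Subgroup GL2).subgroupOf (GU 2 F q),
        g ∉ (Cn : Subgroup GL2).subgroupOf (GU 2 F q) → g * c * g⁻¹ = c⁻¹) → c ∈ T₂)
    (h3 : ∀ x ∈ T₂, ∀ y ∈ P₂, IsConj (iotaU hF x) (iotaU hF y) → y ∈ T₂) :
    ∀ c ∈ P₂, c ∈ (Cn : Subgroup GL2).subgroupOf (GU 2 F q) → c ∈ T₂ := by
  intro c hcP hcC
  have hodd : q % 2 = 1 := by omega
  have h20 : (2 : F) ≠ 0 := two_ne_zero'' hF hodd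
  have hcC' : IsC c.1 := hcC
  obtain ⟨w₁, hw₁P, hw₁C, hww⟩ := hP.w1
  have hw₁N := hP.leN hw₁P
  have hw₁A : IsA w₁.1 := isA_of_not_mem (g := w₁.1) hw₁N hw₁C
  have hww' : w₁.1 * w₁.1 = 1 := congrArg Subtype.val hww
  -- conjugation by elements outside the torus
  have hconj : ∀ x : GU 2 F q, IsC x.1 → x.1.1.det = 1 →
      ∀ g ∈ (Nn : Subgroup GL2).subgroupOf (GU 2 F q),
        g ∉ (Cn : Subgroup GL2).subgroupOf (GU 2 F q) → g * x * g⁻¹ = x⁻¹ := by
    intro x hx hdx g hg hgC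
    apply Subtype.ext
    show g.1 * x.1 * g.1⁻¹ = x.1⁻¹
    apply Units.ext
    rw [isA_conj (isA_of_not_mem (g := g.1) hg hgC) hx, inv_entries, hdx, inv_one, one_smul, hx.1,
      hx.2, neg_neg]
  -- the determinant of `c`
  obtain ⟨k, hk⟩ := hP.two c hcP
  have hk' : c.1 ^ 2 ^ k = 1 := congrArg Subtype.val hk
  have hdk : c.1.1.det ^ 2 ^ k = 1 := by
    rw [← Matrix.det_pow, ← Units.val_pow_eq_pow_val, hk', Units.val_one, Matrix.det_one]
  have hU := (mem_GU2_iff hF c.1).mp c.2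
  rcases eq_one_or_neg_one' hq4 _ k hdk (hU.det_frob hF) with hd | hd
  · exact h2 c hcP hcC (hconj c hcC' hd)
  · -- `c w₁` has square `-1`
    have hw₁T : w₁ ∈ T₂ := h1 w₁ hw₁P hww
    have hi0P : i0U hF ∈ P₂ := by
      apply hP.c2 _ (i0_isC (F := F))
      refine ⟨2, Subtype.ext ?_⟩
      show (i0 (F := F)) ^ 2 ^ 2 = 1
      have : (i0 (F := F)) ^ 2 ^ 2 = (i0 * i0) * (i0 * i0) := by
        rw [show (2 : ℕ) ^ 2 = 4 from rfl, pow_succ, pow_succ, pow_succ, pow_one, mul_assoc (i0 * i0)]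
      rw [this, i0_sq, neg_mul_neg, one_mul]
    have hi0T : i0U hF ∈ T₂ := h2 (i0U hF) hi0P (i0_isC (F := F)) (hconj (i0U hF) i0_isC det_i0)
    have hcw : (c.1 * w₁.1) * (c.1 * w₁.1) = -1 := by
      have e : c.1 * w₁.1 * (c.1 * w₁.1) = c.1 * (w₁.1 * c.1 * w₁.1⁻¹) * (w₁.1 * w₁.1) := by group
      rw [e, hww', mul_one]
      apply Units.ext
      rw [Units.val_mul, isA_conj hw₁A hcC', Units.val_neg, Units.val_one]
      have hdc := hd
      rw [Matrix.det_fin_two, hcC'.1, hcC'.2] at hdc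
      ext i j
      fin_cases i <;> fin_cases j <;>
        simp [Matrix.mul_apply, Fin.sum_univ_two, hcC'.1, hcC'.2] <;>
        first | linear_combination hdc | ring
    have hA : IsA (c.1 * w₁.1) := hcC'.mul_A hw₁A
    have hU' : IsU q (c.1 * w₁.1).1 := (mem_GU2_iff hF _).mp (c * w₁).2
    obtain ⟨s, -, hs⟩ := exists_norm hF (2 : F) h20 (frob_two hF)
    rw [pow_succ'] at hs
    obtain ⟨x, hxU, hx⟩ := exists_conj_i0 hF h20 s hs (c.1 * w₁.1) hA hU' hcw
    have hcj : IsConj (i0U hF) (c * w₁) := by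
      rw [isConj_iff]
      refine ⟨⟨x, hxU⟩, ?_⟩
      apply Subtype.ext
      show x * i0 * x⁻¹ = c.1 * w₁.1
      rw [← hx, mul_inv_cancel_right]
    have hcwT : c * w₁ ∈ T₂ :=
      h3 (i0U hF) hi0T (c * w₁) (P₂.mul_mem hcP hw₁P) ((iotaU hF).map_isConj hcj)
    have := T₂.mul_mem hcwT (T₂.inv_mem hw₁T)
    rwa [mul_inv_cancel_right] at this

/-- **the certificate for `SU₃(q)`, `q ≡ 1 (mod 4)`** -/
theorem exists_certificate (hF : Fintype.card F = q ^ 2) (hq4 : q % 4 = 1) :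
    ∃ S0 : Subgroup (SU 3 F q), Cfsg.Agent.H9.GfsSimple2.Certificate 2 S0 := by
  have hodd : q % 2 = 1 := by omega
  apply Cfsg.Agent.H9.FusAmb.exists_certificate (amb hF (two_ne_zero'' hF hodd)) (gsetup hF hq4)
  intro P₂ T₂ hP _ h1 h2 h3
  exact hgen hF hq4 P₂ T₂ hP h1 h2 h3

end Fin

end Cfsg.Agent.H9.SU3FusB
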