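import Mathlib
import Cfsg.Agent.Lib.Helper8.SUGenI

set_option autoImplicit false

namespace Cfsg.Agent.H9.SULag

open Cfsg Matrix Cfsg.Agent.S5631 Cfsg.Agent.S5643 Cfsg.Agent.Lib.Helper8.Unitary
  Cfsg.Agent.Lib.Helper8.SUGen

variable {n : ℕ} {F : Type*} [Field F] {σ : F ≃+* F} {f : (Fin n → F) → (Fin n → F) → F}
variable (hf : Cfsg.Geo.IsUnitaryForm σ f)

/-- the Siegel element `x ↦ x + f(x,b) a - f(x,a) b` -/
def sg (a b : Fin n → F) (hab : f a b = 0) : GL (Fin n) F :=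
  tvf hf a b hab * tvf hf b (-a) (by rw [f_neg_right hf, f_swap_eq_zero hf a b hab, neg_zero])

lemma sg_mulVec (a b : Fin n → F) (hab : f a b = 0) (hb : f b b = 0) (x : Fin n → F) :
    ((sg hf a b hab : GL (Fin n) F) : Matrix (Fin n) (Fin n) F) *ᵥ x = x + f x b • a - f x a • b := by
  rw [sg, Units.val_mul, ← Matrix.mulVec_mulVec, tvf_mulVec, tvf_mulVec, hf.add_left, hf.smul_left,
    hb, mul_zero, add_zero, f_neg_right hf, neg_smul]
  abel

lemma sg_mem_SL (a b : Fin n → F) (hab : f a b = 0) :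
    sg hf a b hab ∈ Cfsg.Geo.specialLinear (Fin n) F :=
  (Cfsg.Geo.specialLinear (Fin n) F).mul_mem (tvf_mem_SL hf _ _ _) (tvf_mem_SL hf _ _ _)

lemma sg_isometry (a b : Fin n → F) (hab : f a b = 0) (ha : f a a = 0) (hb : f b b = 0)
    (x y : Fin n → F) :
    f (((sg hf a b hab : GL (Fin n) F) : Matrix (Fin n) (Fin n) F) *ᵥ x)
      (((sg hf a b hab : GL (Fin n) F) : Matrix (Fin n) (Fin n) F) *ᵥ y) = f x y := by
  have hba := f_swap_eq_zero hf a b hab
  rw [sg_mulVec hf a b hab hb, sg_mulVec hf a b hab hb]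
  simp only [f_sub_left hf, f_sub_right hf, hf.add_left, f_add_right hf, hf.smul_left,
    f_smul_right hf, ha, hb, hab, hba, mul_zero, sub_zero, add_zero, ← hf.herm]
  ring

lemma sg_mem_SUf (a b : Fin n → F) (hab : f a b = 0) (ha : f a a = 0) (hb : f b b = 0) :
    sg hf a b hab ∈ SUf f :=
  ⟨fun x y => sg_isometry hf a b hab ha hb x y, sg_mem_SL hf a b hab⟩

/-- conjugation of a Siegel element by an isometry -/
lemma conj_sg (g : GL (Fin n) F)
    (hg : ∀ x y, f ((g : Matrix (Fin n) (Fin n) F) *ᵥ x) ((g : Matrix (Fin n) (Fin n) F) *ᵥ y) = f x y)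
    (a b : Fin n → F) (hab : f a b = 0) (hb : f b b = 0) :
    g * sg hf a b hab * g⁻¹ = sg hf ((g : Matrix (Fin n) (Fin n) F) *ᵥ a)
      ((g : Matrix (Fin n) (Fin n) F) *ᵥ b) (by rw [hg]; exact hab) := by
  apply GL_ext
  intro x
  have hb' : f ((g : Matrix (Fin n) (Fin n) F) *ᵥ b) ((g : Matrix (Fin n) (Fin n) F) *ᵥ b) = 0 := by
    rw [hg]; exact hb
  rw [Units.val_mul, Units.val_mul, ← Matrix.mulVec_mulVec, ← Matrix.mulVec_mulVec,
    sg_mulVec hf a b hab hb, sg_mulVec hf _ _ _ hb', Matrix.mulVec_sub, Matrix.mulVec_add,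
    Matrix.mulVec_smul, Matrix.mulVec_smul, mulVec_inv_mulVec]
  have h1 : ∀ y, f (((g⁻¹ : GL (Fin n) F) : Matrix (Fin n) (Fin n) F) *ᵥ x) y =
      f x ((g : Matrix (Fin n) (Fin n) F) *ᵥ y) := by
    intro y
    rw [← hg, mulVec_inv_mulVec]
  rw [h1, h1]

/-- the commutator formula for Siegel elements -/
lemma sg_mul_sg (a b c d : Fin n → F) (ha : f a a = 0) (hb : f b b = 0) (hc : f c c = 0)
    (hd : f d d = 0) (h1 : f a b = 0) (h2 : f c d = 0) (h3 : f a c = 0) (h4 : f a d = 0)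
    (h5 : f b c = 0) (h7 : f (-σ (f b d) • a) c = 0) :
    sg hf a b h1 * sg hf c d h2 = sg hf (-σ (f b d) • a) c h7 * sg hf c d h2 * sg hf a b h1 := by
  have h1' := f_swap_eq_zero hf _ _ h1
  have h2' := f_swap_eq_zero hf _ _ h2
  have h3' := f_swap_eq_zero hf _ _ h3
  have h4' := f_swap_eq_zero hf _ _ h4
  have h5' := f_swap_eq_zero hf _ _ h5
  have h6 : f d b = σ (f b d) := hf.herm d b
  apply GL_ext
  intro x
  rw [Units.val_mul, Units.val_mul, Units.val_mul, ← Matrix.mulVec_mulVec, ← Matrix.mulVec_mulVec,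
    ← Matrix.mulVec_mulVec, sg_mulVec hf a b h1 hb, sg_mulVec hf c d h2 hd, sg_mulVec hf c d h2 hd,
    sg_mulVec hf a b h1 hb, sg_mulVec hf _ c h7 hc]
  simp only [f_sub_left hf, hf.add_left, hf.smul_left, f_smul_right hf, f_neg_right hf, ha, hb, hc,
    hd, h1, h2, h3, h4, h5, h1', h2', h3', h4', h5', h6, mul_zero, sub_zero, add_zero, map_neg,
    hf.involutive, neg_zero, zero_sub]
  module

/-- a Siegel element with proportional arguments is a unitary transvection -/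
lemma sg_smul_smul (a : Fin n → F) (ha : f a a = 0) (k l : F) (h : f (k • a) (l • a) = 0) :
    sg hf (k • a) (l • a) h = ut hf a ha (l * σ k - k * σ l) := by
  have hb : f (l • a) (l • a) = 0 := by rw [hf.smul_left, f_smul_right hf, ha, mul_zero, mul_zero]
  apply GL_ext
  intro x
  rw [sg_mulVec hf _ _ h hb, ut_mulVec]
  simp only [f_smul_right hf, map_sub, map_mul, hf.involutive]
  module

end Cfsg.Agent.H9.SULag
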