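import Mathlib
import Cfsg.Agent.H9.SULagA

set_option autoImplicit false

namespace Cfsg.Agent.H9.SULag

open Cfsg Matrix Cfsg.Agent.S5631 Cfsg.Agent.S5643 Cfsg.Agent.Lib.Helper8.Unitary
  Cfsg.Agent.Lib.Helper8.SUGen

variable {n : ℕ} {F : Type*} [Field F] {σ : F ≃+* F} {f : (Fin n → F) → (Fin n → F) → F}
variable (hf : Cfsg.Geo.IsUnitaryForm σ f)

include hf in
/-- in a subspace of dimension at least five, two linear conditions leave a vector outside a
given plane -/
lemma exists_perp_not_plane (Y : Submodule F (Fin n → F)) (hY : 5 ≤ Module.finrank F Y)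
    (c d p q : Fin n → F) :
    ∃ y ∈ Y, f y c = 0 ∧ f y d = 0 ∧ ∀ α β : F, y ≠ α • p + β • q := by
  classical
  by_contra hcon
  push Not at hcon
  let φ : Y →ₗ[F] F × F :=
    ((leftLin hf c).domRestrict Y).prod ((leftLin hf d).domRestrict Y)
  have hφ : ∀ y : Y, φ y = (f (y : Fin n → F) c, f (y : Fin n → F) d) := fun y => rfl
  let L : F × F →ₗ[F] (Fin n → F) :=
    { toFun := fun t => t.1 • p + t.2 • q
      map_add' := by
        intro s t
        simp only [Prod.fst_add, Prod.snd_add, add_smul]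
        abel
      map_smul' := by
        intro a t
        simp only [Prod.smul_fst, Prod.smul_snd, smul_eq_mul, mul_smul, RingHom.id_apply, smul_add] }
  have hL : ∀ t : F × F, L t = t.1 • p + t.2 • q := fun t => rfl
  have h1 : Module.finrank F (LinearMap.range φ) + Module.finrank F (LinearMap.ker φ) =
      Module.finrank F Y := LinearMap.finrank_range_add_finrank_ker φ
  have h2 : Module.finrank F (LinearMap.range φ) ≤ 2 := by
    have := Submodule.finrank_le (LinearMap.range φ)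
    rw [Module.finrank_prod, Module.finrank_self] at this
    exact this
  have h3 : Module.finrank F (LinearMap.range L) ≤ 2 := by
    have := LinearMap.finrank_range_le L
    rw [Module.finrank_prod, Module.finrank_self] at this
    exact this
  have h4 : (LinearMap.ker φ).map Y.subtype ≤ LinearMap.range L := by
    rintro y ⟨y', hy', rfl⟩
    have hy'2 : φ y' = 0 := hy'
    rw [hφ, Prod.mk_eq_zero] at hy'2
    obtain ⟨α, β, hαβ⟩ := hcon y'.1 y'.2 hy'2.1 hy'2.2
    exact ⟨(α, β), by rw [hL]; exact hαβ.symm⟩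
  have h5 : Module.finrank F ((LinearMap.ker φ).map Y.subtype) = Module.finrank F (LinearMap.ker φ) :=
    Submodule.finrank_map_subtype_eq Y (LinearMap.ker φ)
  have h6 := Submodule.finrank_mono h4
  omega

variable (U W : Submodule F (Fin n → F))
variable (hU : Cfsg.Geo.IsTotallySingularFor f U)
variable (hW : Cfsg.Geo.IsTotallySingularFor f W)
variable (hsum : ∀ v : Fin n → F, ∃ u ∈ U, ∃ w ∈ W, v = u + w)

include hf hU hsum in
/-- functionals on `U` are represented by vectors of `W` -/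
lemma exists_dual' [Finite F] (S : Submodule F (Fin n → F)) (hS : S ≤ U) (x : Fin n → F)
    (hxU : x ∈ U) (hx : x ∉ S) :
    ∃ w ∈ W, (∀ s ∈ S, f s w = 0) ∧ f x w = 1 := by
  obtain ⟨φ, hφx, hφS⟩ := exists_functional' S x hx
  obtain ⟨y, hy⟩ := exists_rep hf φ
  obtain ⟨yU, hyU, yW, hyW, hyy⟩ := hsum y
  have h1 : ∀ z ∈ U, f z yW = φ ⬝ᵥ z := by
    intro z hz
    rw [hy z, hyy, f_add_right hf, hU z hz yU hyU, zero_add]
  refine ⟨yW, hyW, fun s hs => ?_, ?_⟩
  · rw [h1 s (hS hs), hφS s hs]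
  · rw [h1 x hxU, hφx]

variable (M : Subgroup (GL (Fin n) F))

/-- isotropic centres all of whose unitary transvections lie in `M` -/
def SS : Set (Fin n → F) := {v | ∃ hv : f v v = 0, ∀ z : F, z + σ z = 0 → ut hf v hv z ∈ M}

lemma conj_ut (g : GL (Fin n) F)
    (hg : ∀ x y, f ((g : Matrix (Fin n) (Fin n) F) *ᵥ x) ((g : Matrix (Fin n) (Fin n) F) *ᵥ y) = f x y)
    (v : Fin n → F) (hv : f v v = 0) (z : F) :
    g * ut hf v hv z * g⁻¹ = ut hf ((g : Matrix (Fin n) (Fin n) F) *ᵥ v) (by rw [hg]; exact hv) z := by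
  apply GL_ext
  intro x
  rw [Units.val_mul, Units.val_mul, ← Matrix.mulVec_mulVec, ← Matrix.mulVec_mulVec, ut_mulVec,
    ut_mulVec, Matrix.mulVec_add, Matrix.mulVec_smul, mulVec_inv_mulVec]
  have h1 : f (((g⁻¹ : GL (Fin n) F) : Matrix (Fin n) (Fin n) F) *ᵥ x) v =
      f x ((g : Matrix (Fin n) (Fin n) F) *ᵥ v) := by
    rw [← hg, mulVec_inv_mulVec]
  rw [h1]

lemma mulVec_mem_SS (hMS : M ≤ SUf f) (g : GL (Fin n) F) (hg : g ∈ M) (v : Fin n → F)
    (hv : v ∈ SS hf M) : (g : Matrix (Fin n) (Fin n) F) *ᵥ v ∈ SS hf M := by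
  obtain ⟨hv0, hv⟩ := hv
  have hiso := SUf_iso g (hMS hg)
  refine ⟨by rw [hiso]; exact hv0, fun z hz => ?_⟩
  rw [← conj_ut hf g hiso v hv0 z]
  exact M.mul_mem (M.mul_mem hg (hv z hz)) (M.inv_mem hg)

lemma smul_mem_SS (l : F) (v : Fin n → F) (hv : v ∈ SS hf M) : l • v ∈ SS hf M := by
  obtain ⟨hv0, hv⟩ := hv
  have h0 : f (l • v) (l • v) = 0 := by rw [hf.smul_left, f_smul_right hf, hv0, mul_zero, mul_zero]
  refine ⟨h0, fun z hz => ?_⟩
  have h1 : ut hf (l • v) h0 z = ut hf v hv0 (z * (l * σ l)) := by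
    apply GL_ext
    intro x
    rw [ut_mulVec, ut_mulVec, f_smul_right hf, map_mul, map_mul, hf.involutive, smul_smul]
    congr 1
    ring_nf
  rw [h1]
  apply hv
  rw [map_mul, map_mul, hf.involutive]
  have : σ z = -z := by linear_combination hz
  rw [this]
  ring

end Cfsg.Agent.H9.SULag
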