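import Mathlib
import Cfsg.Agent.H9.SULagB

set_option autoImplicit false

namespace Cfsg.Agent.H9.SULag

open Cfsg Matrix Cfsg.Agent.S5631 Cfsg.Agent.S5643 Cfsg.Agent.Lib.Helper8.Unitary
  Cfsg.Agent.Lib.Helper8.SUGen

variable {n : ℕ} {F : Type*} [Field F] [Finite F] {σ : F ≃+* F}
  {f : (Fin n → F) → (Fin n → F) → F}
variable (hf : Cfsg.Geo.IsUnitaryForm σ f)
variable (U W : Submodule F (Fin n → F))
variable (hU : Cfsg.Geo.IsTotallySingularFor f U)
variable (hW : Cfsg.Geo.IsTotallySingularFor f W)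
variable (hsum : ∀ v : Fin n → F, ∃ u ∈ U, ∃ w ∈ W, v = u + w)
variable (M : Subgroup (GL (Fin n) F))
variable (hMS : M ≤ SUf f)
variable (hM : ∀ a ∈ U, ∀ b ∈ W, ∀ hab : f a b = 0, sg hf a b hab ∈ M)

omit [Finite F] in
include hf in
lemma exists_sub_eq (z : F) (hz : z + σ z = 0) : ∃ ν : F, ν - σ ν = σ z := by
  obtain ⟨t, ht⟩ := tr_surj hf.ne_refl hf.involutive 1 (map_one σ)
  refine ⟨σ z * t, ?_⟩
  have h1 : σ z = -z := by linear_combination hz
  rw [map_mul, hf.involutive, h1]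
  linear_combination (-z) * ht

include hU hW hsum hM in
/-- the first transvection -/
lemma exists_mem_SS (hdim : 7 ≤ Module.finrank F U)
    (c d cU cW dU dW : Fin n → F) (hcU : cU ∈ U) (hcW : cW ∈ W) (hc : c = cU + cW)
    (hdU : dU ∈ U) (hdW : dW ∈ W) (hd : d = dU + dW)
    (hcc : f c c = 0) (hdd : f d d = 0)
    (hcd : f c d = 0) (hτ : sg hf c d hcd ∈ M) (hcU0 : cU ≠ 0)
    (hind : ∀ α : F, dU ≠ α • cU) :
    ∃ a ∈ U, a ≠ 0 ∧ a ∈ SS hf M := by
  obtain ⟨a, haU, hac, had, hane⟩ := exists_perp_not_plane hf U (by omega) c d cU dU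
  have ha0 : a ≠ 0 := by
    intro h
    apply hane 0 0
    rw [h, zero_smul, zero_smul, add_zero]
  have haa : f a a = 0 := hU a haU a haU
  -- the vector b
  have hS1 : Submodule.span F {a, cU} ≤ U := by
    rw [Submodule.span_le]
    rintro x (rfl | rfl)
    · exact haU
    · exact hcU
  have hdS1 : dU ∉ Submodule.span F {a, cU} := by
    rw [Submodule.mem_span_pair]
    rintro ⟨α, β, hαβ⟩
    by_cases hα : α = 0
    · rw [hα, zero_smul, zero_add] at hαβ
      exact hind β hαβ.symm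
    · apply hane (-(α⁻¹ * β)) α⁻¹
      rw [← hαβ, smul_add, smul_smul, smul_smul, inv_mul_cancel₀ hα, one_smul, neg_smul]
      abel
  obtain ⟨b, hbW, hbS, hb1⟩ := exists_dual' hf U W hU hsum _ hS1 dU hdU hdS1
  have hab : f a b = 0 := hbS a (Submodule.subset_span (by simp))
  have hcUb : f cU b = 0 := hbS cU (Submodule.subset_span (by simp))
  have hbb : f b b = 0 := hW b hbW b hbW
  -- the vector b₂
  have hS2 : Submodule.span F {a} ≤ U := by
    rw [Submodule.span_le]
    rintro x rfl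
    exact haU
  have hcS2 : cU ∉ Submodule.span F {a} := by
    rw [Submodule.mem_span_singleton]
    rintro ⟨α, hα⟩
    have hα0 : α ≠ 0 := by
      rintro rfl
      rw [zero_smul] at hα
      exact hcU0 hα.symm
    apply hane α⁻¹ 0
    rw [← hα, smul_smul, inv_mul_cancel₀ hα0, one_smul, zero_smul, add_zero]
  obtain ⟨b₂, hb₂W, hb₂S, hb₂1⟩ := exists_dual' hf U W hU hsum _ hS2 cU hcU hcS2
  have hab₂ : f a b₂ = 0 := hb₂S a (Submodule.subset_span (by simp))
  have hb₂b₂ : f b₂ b₂ = 0 := hW b₂ hb₂W b₂ hb₂W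
  have hcb : f c b = 0 := by
    rw [hc, hf.add_left, hcUb, hW cW hcW b hbW, add_zero]
  have hdb : f d b = 1 := by
    rw [hd, hf.add_left, hb1, hW dW hdW b hbW, add_zero]
  have hcb₂ : f c b₂ = 1 := by
    rw [hc, hf.add_left, hb₂1, hW cW hcW b₂ hb₂W, add_zero]
  have hbd : f b d = 1 := by rw [hf.herm, hdb, map_one]
  have hb₂c : f b₂ c = 1 := by rw [hf.herm, hcb₂, map_one]
  -- step 1
  have step1 : ∀ ν : F, ∀ h : f (ν • a) c = 0, sg hf (ν • a) c h ∈ M := by
    intro ν hνac
    set μ : F := -σ ν with hμ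
    have h1 : f a (μ • b) = 0 := by rw [f_smul_right hf, hab, mul_zero]
    have h5 : f (μ • b) c = 0 := by
      rw [hf.smul_left, f_swap_eq_zero hf c b hcb, mul_zero]
    have hμbb : f (μ • b) (μ • b) = 0 := by
      rw [hf.smul_left, f_smul_right hf, hbb, mul_zero, mul_zero]
    have hmem : sg hf a (μ • b) h1 ∈ M := hM a haU _ (W.smul_mem μ hbW) h1
    have hκ : -σ (f (μ • b) d) = ν := by
      rw [hf.smul_left, hbd, mul_one, hμ, map_neg, hf.involutive, neg_neg]
    have h7 : f (-σ (f (μ • b) d) • a) c = 0 := by rw [hκ]; exact hνac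
    have key := sg_mul_sg hf a (μ • b) c d haa hμbb hcc hdd h1 hcd hac had h5 h7
    have e : sg hf (-σ (f (μ • b) d) • a) c h7 = sg hf (ν • a) c hνac := by
      congr 1
      rw [hκ]
    rw [e] at key
    have : sg hf (ν • a) c hνac =
        sg hf a (μ • b) h1 * sg hf c d hcd * (sg hf a (μ • b) h1)⁻¹ * (sg hf c d hcd)⁻¹ := by
      rw [key]; group
    rw [this]
    exact M.mul_mem (M.mul_mem (M.mul_mem hmem hτ) (M.inv_mem hmem)) (M.inv_mem hτ)
  -- step 2
  refine ⟨a, haU, ha0, haa, fun z hz => ?_⟩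
  obtain ⟨ν, hν⟩ := exists_sub_eq hf z hz
  have h2' : f (ν • a) c = 0 := by rw [hf.smul_left, hac, mul_zero]
  have h3 : f a (ν • a) = 0 := by rw [f_smul_right hf, haa, mul_zero]
  have h5 : f b₂ (ν • a) = 0 := by
    rw [f_smul_right hf, f_swap_eq_zero hf a b₂ hab₂, mul_zero]
  have hνaa : f (ν • a) (ν • a) = 0 := by
    rw [hf.smul_left, f_smul_right hf, haa, mul_zero, mul_zero]
  have hmem : sg hf a b₂ hab₂ ∈ M := hM a haU b₂ hb₂W hab₂
  have h7 : f (-σ (f b₂ c) • a) (ν • a) = 0 := by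
    rw [hf.smul_left, f_smul_right hf, haa, mul_zero, mul_zero]
  have key := sg_mul_sg hf a b₂ (ν • a) c haa hb₂b₂ hνaa hcc hab₂ h2' h3 hac h5 h7
  have e : sg hf (-σ (f b₂ c) • a) (ν • a) h7 = ut hf a haa z := by
    have h8 : f ((-1 : F) • a) (ν • a) = 0 := by
      rw [hf.smul_left, f_smul_right hf, haa, mul_zero, mul_zero]
    have e1 : sg hf (-σ (f b₂ c) • a) (ν • a) h7 = sg hf ((-1 : F) • a) (ν • a) h8 := by
      congr 1
      rw [hb₂c, map_one]
    rw [e1, sg_smul_smul hf a haa (-1) ν h8]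
    have hz' : ν * σ (-1) - -1 * σ ν = z := by
      apply σ.injective
      rw [← hν]
      simp only [map_sub, map_mul, map_neg, map_one, hf.involutive]
      ring
    rw [hz']
  rw [e] at key
  have : ut hf a haa z =
      sg hf a b₂ hab₂ * sg hf (ν • a) c h2' * (sg hf a b₂ hab₂)⁻¹ * (sg hf (ν • a) c h2')⁻¹ := by
    rw [key]; group
  rw [this]
  exact M.mul_mem (M.mul_mem (M.mul_mem hmem (step1 ν h2')) (M.inv_mem hmem))
    (M.inv_mem (step1 ν h2'))

include hU hW hsum hM hMS in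
/-- propagation inside `U` -/
lemma forall_mem_SS (a : Fin n → F) (haU : a ∈ U) (ha0 : a ≠ 0) (ha : a ∈ SS hf M) :
    ∀ a' ∈ U, a' ∈ SS hf M := by
  intro a' ha'U
  by_cases h : ∃ α : F, a' = α • a
  · obtain ⟨α, rfl⟩ := h
    exact smul_mem_SS hf M α a ha
  · push Not at h
    have huU : a' - a ∈ U := U.sub_mem ha'U haU
    have hS : Submodule.span F {a' - a} ≤ U := by
      rw [Submodule.span_le]
      rintro x rfl
      exact huU
    have haS : a ∉ Submodule.span F {a' - a} := by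
      rw [Submodule.mem_span_singleton]
      rintro ⟨α, hα⟩
      have hα0 : α ≠ 0 := by
        rintro rfl
        rw [zero_smul] at hα
        exact ha0 hα.symm
      apply h (α⁻¹ * (1 + α))
      have h1 : α • a' = (1 + α) • a := by
        rw [smul_sub] at hα
        rw [add_smul, one_smul]
        exact sub_eq_iff_eq_add.1 hα
      rw [← smul_smul, ← h1, smul_smul, inv_mul_cancel₀ hα0, one_smul]
    obtain ⟨w, hwW, hwS, hw1⟩ := exists_dual' hf U W hU hsum _ hS a haU haS
    have huw : f (a' - a) w = 0 := hwS _ (Submodule.subset_span (by simp))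
    have hmem : sg hf (a' - a) w huw ∈ M := hM _ huU w hwW huw
    have h1 := mulVec_mem_SS hf M hMS _ hmem a ha
    rw [sg_mulVec hf _ _ huw (hW w hwW w hwW), hw1, hU a haU _ huU, one_smul, zero_smul,
      sub_zero, add_sub_cancel] at h1
    exact h1

include hU hW hsum hMS in
/-- `U` and `W` together give all isotropic vectors -/
lemma SS_of_isotropic (hUS : ∀ u ∈ U, u ∈ SS hf M) (hWS : ∀ w ∈ W, w ∈ SS hf M)
    (x : Fin n → F) (hx : f x x = 0) : x ∈ SS hf M := by
  obtain ⟨u, huU, w, hwW, rfl⟩ := hsum x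
  by_cases hu : u = 0
  · rw [hu, zero_add]; exact hWS w hwW
  have huu : f u u = 0 := hU u huU u huU
  have hww : f w w = 0 := hW w hwW w hwW
  -- key step: `u + w` with `f u w ≠ 0`
  have key : ∀ u' ∈ SS hf M, ∀ w' ∈ SS hf M, f u' w' ≠ 0 → f u' w' + σ (f u' w') = 0 →
      u' + w' ∈ SS hf M := by
    intro u' hu' w' hw' hne htr
    obtain ⟨hw'0, hw'M⟩ := hw'
    set t := f u' w' with ht
    have hz : σ t⁻¹ + σ (σ t⁻¹) = 0 := by
      rw [hf.involutive, add_comm]
      exact Z_inv t htr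
    have hmem := hw'M (σ t⁻¹) hz
    have h1 := mulVec_mem_SS hf M hMS _ hmem u' hu'
    rw [ut_mulVec, hf.involutive, ← ht, inv_mul_cancel₀ hne, one_smul] at h1
    exact h1
  by_cases huw : f u w = 0
  · have hbot : (⊥ : Submodule F (Fin n → F)) ≤ U := bot_le
    obtain ⟨w'', hw''W, -, hw''1⟩ := exists_dual' hf U W hU hsum ⊥ hbot u huU (by simpa using hu)
    obtain ⟨ζ, hζ0, hζ⟩ := exists_Z hf.ne_refl hf.involutive
    set w' := σ ζ • w'' with hw'
    have hw'W : w' ∈ W := W.smul_mem _ hw''W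
    have huw' : f u w' = ζ := by
      rw [hw', f_smul_right hf, hf.involutive, hw''1, mul_one]
    have h1 : u + w' ∈ SS hf M := by
      apply key u (hUS u huU) w' (hWS w' hw'W)
      · rw [huw']; exact hζ0
      · rw [huw']; exact hζ
    have h3 : f (u + w') (w - w') = -ζ := by
      rw [hf.add_left, f_sub_right hf, f_sub_right hf, huw, huw', hW w' hw'W w hwW,
        hW w' hw'W w' hw'W]
      ring
    have h2 : (u + w') + (w - w') ∈ SS hf M := by
      apply key _ h1 _ (hWS _ (W.sub_mem hwW hw'W))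
      · rw [h3]; exact neg_ne_zero.2 hζ0
      · rw [h3, map_neg]
        linear_combination (-1 : F) * hζ
    have e : (u + w') + (w - w') = u + w := by abel
    rw [e] at h2
    exact h2
  · apply key u (hUS u huU) w (hWS w hwW) huw
    have := f_add_self hf u w
    rw [hx, huu, hww, zero_add, zero_add] at this
    exact this.symm

end Cfsg.Agent.H9.SULag
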