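import Mathlib
import Cfsg.Agent.H9.SULagC

set_option autoImplicit false

namespace Cfsg.Agent.H9.SULag

open Cfsg Matrix Cfsg.Agent.S5631 Cfsg.Agent.S5643 Cfsg.Agent.Lib.Helper8.Unitary
  Cfsg.Agent.Lib.Helper8.SUGen

variable {n : ℕ} {F : Type*} [Field F]

lemma toLin'_inj (g : GL (Fin n) F) :
    Function.Injective (Matrix.toLin' (g : Matrix (Fin n) (Fin n) F)) := by
  intro x y hxy
  rw [Matrix.toLin'_apply, Matrix.toLin'_apply] at hxy
  have := congrArg (fun z => ((g⁻¹ : GL (Fin n) F) : Matrix (Fin n) (Fin n) F) *ᵥ z) hxy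
  simpa [inv_mulVec_mulVec] using this

lemma finrank_map_GL (g : GL (Fin n) F) (A : Submodule F (Fin n → F)) :
    Module.finrank F (A.map (Matrix.toLin' (g : Matrix (Fin n) (Fin n) F))) =
      Module.finrank F A :=
  (LinearEquiv.finrank_eq (Submodule.equivMapOfInjective _ (toLin'_inj g) A)).symm

lemma map_eq_of_forall' (g : GL (Fin n) F) (A B : Submodule F (Fin n → F))
    (hAB : Module.finrank F A = Module.finrank F B)
    (h : ∀ x ∈ A, (g : Matrix (Fin n) (Fin n) F) *ᵥ x ∈ B) :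
    A.map (Matrix.toLin' (g : Matrix (Fin n) (Fin n) F)) = B := by
  apply Submodule.eq_of_le_of_finrank_eq
  · rintro _ ⟨x, hx, rfl⟩
    rw [Matrix.toLin'_apply]; exact h x hx
  · rw [finrank_map_GL, hAB]

lemma union_lemma' (A B X : Submodule F (Fin n → F)) (g : Matrix (Fin n) (Fin n) F)
    (h : ∀ x ∈ X, g *ᵥ x ∈ A ∨ g *ᵥ x ∈ B) :
    (∀ x ∈ X, g *ᵥ x ∈ A) ∨ (∀ x ∈ X, g *ᵥ x ∈ B) := by
  by_contra hcon
  rw [not_or, not_forall, not_forall] at hcon
  obtain ⟨⟨x₁, h1⟩, ⟨x₂, h2⟩⟩ := hcon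
  rw [Classical.not_imp] at h1 h2
  obtain ⟨hx₁, h1⟩ := h1
  obtain ⟨hx₂, h2⟩ := h2
  have h1B : g *ᵥ x₁ ∈ B := (h x₁ hx₁).resolve_left h1
  have h2A : g *ᵥ x₂ ∈ A := (h x₂ hx₂).resolve_right h2
  rcases h (x₁ + x₂) (X.add_mem hx₁ hx₂) with h3 | h3
  · rw [Matrix.mulVec_add] at h3
    exact h1 ((Submodule.add_mem_iff_left A h2A).1 h3)
  · rw [Matrix.mulVec_add] at h3
    exact h2 ((Submodule.add_mem_iff_right B h1B).1 h3)

variable {k : ℕ} (D : Fin 2 → Submodule F (Fin n → F))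
variable (hD : Cfsg.Geo.IsMDecomposition k D)

include hD in
lemma exists_sum (v : Fin n → F) : ∃ u ∈ D 0, ∃ w ∈ D 1, v = u + w := by
  have h1 : D 0 ⊔ D 1 = ⊤ := by
    apply le_antisymm le_top
    rw [← hD.iSup_eq_top]
    apply iSup_le
    intro i
    fin_cases i
    · exact le_sup_left
    · exact le_sup_right
  have h2 : v ∈ D 0 ⊔ D 1 := by rw [h1]; trivial
  obtain ⟨u, hu, w, hw, huw⟩ := Submodule.mem_sup.1 h2
  exact ⟨u, hu, w, hw, huw.symm⟩

include hD in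
lemma exists_sum' (v : Fin n → F) : ∃ w ∈ D 1, ∃ u ∈ D 0, v = w + u := by
  obtain ⟨u, hu, w, hw, h⟩ := exists_sum D hD v
  exact ⟨w, hw, u, hu, by rw [h, add_comm]⟩

include hD in
lemma eq_zero_of_mem (x : Fin n → F) (h0 : x ∈ D 0) (h1 : x ∈ D 1) : x = 0 := by
  have h := hD.indep.pairwiseDisjoint (show (0 : Fin 2) ≠ 1 by decide)
  exact (Submodule.disjoint_def.1 h) x h0 h1

include hD in
lemma mem_stab_of_forall (g : GL (Fin n) F) (τ : Equiv.Perm (Fin 2))
    (h : ∀ i, ∀ x ∈ D i, (g : Matrix (Fin n) (Fin n) F) *ᵥ x ∈ D (τ i)) :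
    g ∈ Cfsg.Geo.decompositionStabilizer D := by
  refine ⟨τ, fun i => ?_⟩
  apply map_eq_of_forall' g
  · rw [hD.finrank_eq, hD.finrank_eq]
  · exact h i

variable {σ : F ≃+* F} {f : (Fin n → F) → (Fin n → F) → F}
variable (hf : Cfsg.Geo.IsUnitaryForm σ f)
variable (hts : ∀ i, Cfsg.Geo.IsTotallySingularFor f (D i))

include hD hts in
/-- the Siegel elements attached to a pair from different members stabilise the decomposition -/
lemma sg_mem_stab (i j : Fin 2) (hij : i ≠ j) (a b : Fin n → F) (ha : a ∈ D i)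
    (hb : b ∈ D j) (hab : f a b = 0) :
    sg hf a b hab ∈ Cfsg.Geo.decompositionStabilizer D ⊓ SUf f := by
  refine ⟨?_, sg_mem_SUf hf a b hab (hts i a ha a ha) (hts j b hb b hb)⟩
  apply mem_stab_of_forall D hD _ 1
  intro l x hx
  rw [sg_mulVec hf a b hab (hts j b hb b hb), Equiv.Perm.one_apply]
  have hl : l = i ∨ l = j := by
    fin_cases i <;> fin_cases j <;> fin_cases l <;> simp_all
  rcases hl with rfl | rfl
  · rw [hts l x hx a ha, zero_smul, sub_zero]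
    exact (D l).add_mem hx ((D l).smul_mem _ ha)
  · rw [hts l x hx b hb, zero_smul, add_zero]
    exact (D l).sub_mem hx ((D l).smul_mem _ hb)

end Cfsg.Agent.H9.SULag
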