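import Mathlib
import Cfsg.Agent.H9.SULagD

set_option autoImplicit false

namespace Cfsg.Agent.H9.SULag

open Cfsg Matrix Cfsg.Agent.S5631 Cfsg.Agent.S5643 Cfsg.Agent.Lib.Helper8.Unitary
  Cfsg.Agent.Lib.Helper8.SUGen

variable {n : ℕ} {F : Type*} [Field F] {σ : F ≃+* F} {f : (Fin n → F) → (Fin n → F) → F}
variable (hf : Cfsg.Geo.IsUnitaryForm σ f)

section ListProd

variable {k : ℕ} (p : Fin k → Fin n → F) (hp : ∀ i j, f (p i) (p j) = 0)

/-- a product of commuting unitary transvections -/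
def utList (z : F) (L : List (Fin k)) : GL (Fin n) F :=
  (L.map (fun i => ut hf (p i) (hp i i) z)).prod

lemma utList_mem (z : F) (hz : z + σ z = 0) (L : List (Fin k)) : utList hf p hp z L ∈ TT hf := by
  apply Subgroup.list_prod_mem
  intro g hg
  obtain ⟨i, -, rfl⟩ := List.mem_map.1 hg
  exact ut_mem hf _ _ z hz

include hf hp in
lemma f_listSum (c : Fin k → F) (i : Fin k) (L : List (Fin k)) :
    f ((L.map (fun j => c j • p j)).sum) (p i) = 0 := by
  induction L with
  | nil => simp [f_zero_left hf]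
  | cons j L ih =>
    rw [List.map_cons, List.sum_cons, hf.add_left, ih, hf.smul_left, hp, mul_zero, add_zero]

lemma utList_mulVec (z : F) (L : List (Fin k)) (x : Fin n → F) :
    ((utList hf p hp z L : GL (Fin n) F) : Matrix (Fin n) (Fin n) F) *ᵥ x =
      x + σ z • (L.map (fun j => f x (p j) • p j)).sum := by
  induction L with
  | nil => simp [utList]
  | cons i L ih =>
    have e : utList hf p hp z (i :: L) = ut hf (p i) (hp i i) z * utList hf p hp z L := by
      simp [utList]
    rw [e, Units.val_mul, ← Matrix.mulVec_mulVec, ih, ut_mulVec, hf.add_left, hf.smul_left,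
      f_listSum hf p hp, mul_zero, add_zero, List.map_cons, List.sum_cons, smul_add, smul_smul]
    abel

/-- the nilpotent map `x ↦ ∑ f(x, p i) p i` -/
def EE (f : (Fin n → F) → (Fin n → F) → F) {k : ℕ} (p : Fin k → Fin n → F) (x : Fin n → F) :
    Fin n → F := ∑ i, f x (p i) • p i

lemma utList_finRange (z : F) (x : Fin n → F) :
    ((utList hf p hp z (List.finRange k) : GL (Fin n) F) : Matrix (Fin n) (Fin n) F) *ᵥ x =
      x + σ z • EE f p x := by
  rw [utList_mulVec, EE, Fin.sum_univ_def]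

include hf in
lemma EE_add (x y : Fin n → F) : EE f p (x + y) = EE f p x + EE f p y := by
  simp only [EE, hf.add_left, add_smul, Finset.sum_add_distrib]

include hf in
lemma EE_smul (c : F) (x : Fin n → F) : EE f p (c • x) = c • EE f p x := by
  simp only [EE, hf.smul_left, mul_smul, Finset.smul_sum]

lemma EE_eq_zero (x : Fin n → F) (h : ∀ i, f x (p i) = 0) : EE f p x = 0 := by
  simp only [EE, h, zero_smul, Finset.sum_const_zero]

include hf in
lemma EE_EE (r : Fin k → Fin n → F) (hrp : ∀ i j, f (r i) (p j) = if i = j then 1 else 0)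
    (x : Fin n → F) : EE f p (EE f r x) = ∑ j, f x (r j) • p j := by
  classical
  simp only [EE]
  apply Finset.sum_congr rfl
  intro j _
  rw [f_sum_left hf]
  simp only [hf.smul_left, hrp, mul_ite, mul_one, mul_zero, Finset.sum_ite_eq', Finset.mem_univ,
    if_true]

end ListProd

section Swap

variable {k : ℕ} (D : Fin 2 → Submodule F (Fin n → F))
variable (hD : Cfsg.Geo.IsMDecomposition k D)
variable (hts : ∀ i, Cfsg.Geo.IsTotallySingularFor f (D i))

include hf hD hts in
/-- dual bases of the two members -/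
lemma exists_dual_bases : ∃ (bU : Module.Basis (Fin k) F (D 0)) (bW : Module.Basis (Fin k) F (D 1)),
    ∀ i j, f (bU i : Fin n → F) (bW j : Fin n → F) = if i = j then 1 else 0 := by
  classical
  let bU : Module.Basis (Fin k) F (D 0) := Module.finBasisOfFinrankEq F (D 0) (hD.finrank_eq 0)
  let Φ : D 1 →ₗ[F] (Fin k → F) :=
    LinearMap.pi (fun i => (leftLin hf (bU i : Fin n → F)).domRestrict (D 1))
  have hΦ : ∀ (w : D 1) i, Φ w i = f (w : Fin n → F) (bU i : Fin n → F) := fun w i => rfl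
  have hinj : Function.Injective Φ := by
    rw [← LinearMap.ker_eq_bot, Submodule.eq_bot_iff]
    intro w hw
    rw [LinearMap.mem_ker] at hw
    have h1 : ∀ u : D 0, f (u : Fin n → F) (w : Fin n → F) = 0 := by
      intro u
      have h2 : (leftLin hf (w : Fin n → F)).domRestrict (D 0) = 0 := by
        apply bU.ext
        intro i
        have := congrFun hw i
        rw [hΦ] at this
        change f (bU i : Fin n → F) (w : Fin n → F) = 0
        rw [hf.herm, this, Pi.zero_apply, map_zero]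
      exact congrArg (fun g => g u) h2
    apply Subtype.ext
    apply eq_zero_of_forall hf
    intro y
    obtain ⟨u, hu, w', hw', rfl⟩ := exists_sum D hD y
    rw [hf.add_left, h1 ⟨u, hu⟩, hts 1 w' hw' w w.2, add_zero]
  have hdim : Module.finrank F (D 1) = Module.finrank F (Fin k → F) := by
    rw [hD.finrank_eq, Module.finrank_fin_fun]
  let ΦE : D 1 ≃ₗ[F] (Fin k → F) := LinearMap.linearEquivOfInjective Φ hinj hdim
  have hΦE : ∀ w, ΦE w = Φ w := fun w => rfl
  let bW : Module.Basis (Fin k) F (D 1) := (Pi.basisFun F (Fin k)).map ΦE.symm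
  refine ⟨bU, bW, fun i j => ?_⟩
  have h1 : f (bW j : Fin n → F) (bU i : Fin n → F) = if i = j then 1 else 0 := by
    rw [← hΦ, ← hΦE]
    change ΦE (ΦE.symm (Pi.basisFun F (Fin k) j)) i = _
    rw [LinearEquiv.apply_symm_apply, Pi.basisFun_apply, Pi.single_apply]
  rw [hf.herm, h1]
  split_ifs <;> simp

include hf hD hts in
/-- an element of the transvection group interchanging the two members -/
lemma exists_swap : ∃ s : GL (Fin n) F, s ∈ TT hf ∧
    (∀ x ∈ D 0, (s : Matrix (Fin n) (Fin n) F) *ᵥ x ∈ D 1) ∧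
    (∀ x ∈ D 1, (s : Matrix (Fin n) (Fin n) F) *ᵥ x ∈ D 0) := by
  classical
  obtain ⟨bU, bW, hdual⟩ := exists_dual_bases hf D hD hts
  set e : Fin k → Fin n → F := fun i => (bU i : Fin n → F) with he
  set r : Fin k → Fin n → F := fun i => (bW i : Fin n → F) with hr
  have heU : ∀ i, e i ∈ D 0 := fun i => (bU i).2
  have hrW : ∀ i, r i ∈ D 1 := fun i => (bW i).2
  have hee : ∀ i j, f (e i) (e j) = 0 := fun i j => hts 0 _ (heU i) _ (heU j)
  have hrr : ∀ i j, f (r i) (r j) = 0 := fun i j => hts 1 _ (hrW i) _ (hrW j)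
  have her : ∀ i j, f (e i) (r j) = if i = j then 1 else 0 := hdual
  have hre : ∀ i j, f (r i) (e j) = if i = j then 1 else 0 := by
    intro i j
    rw [hf.herm, her]
    by_cases h : i = j
    · subst h; simp
    · rw [if_neg h, if_neg (Ne.symm h), map_zero]
  have hexpU : ∀ x ∈ D 0, ∑ j, f x (r j) • e j = x := by
    intro x hx
    have h3 : ((∑ i, (bU.repr ⟨x, hx⟩) i • bU i : D 0) : Fin n → F) = x :=
      congrArg Subtype.val (bU.sum_repr ⟨x, hx⟩)
    rw [Submodule.coe_sum] at h3
    have h4 : ∀ j, f x (r j) = bU.repr ⟨x, hx⟩ j := by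
      intro j
      conv_lhs => rw [← h3]
      rw [f_sum_left hf]
      simp only [Submodule.coe_smul, hf.smul_left]
      have : ∀ i, f ((bU i : D 0) : Fin n → F) (r j) = if i = j then 1 else 0 := fun i => her i j
      simp only [this, mul_ite, mul_one, mul_zero, Finset.sum_ite_eq', Finset.mem_univ, if_true]
    simp only [h4]
    exact h3
  have hexpW : ∀ y ∈ D 1, ∑ j, f y (e j) • r j = y := by
    intro y hy
    have h3 : ((∑ i, (bW.repr ⟨y, hy⟩) i • bW i : D 1) : Fin n → F) = y :=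
      congrArg Subtype.val (bW.sum_repr ⟨y, hy⟩)
    rw [Submodule.coe_sum] at h3
    have h4 : ∀ j, f y (e j) = bW.repr ⟨y, hy⟩ j := by
      intro j
      conv_lhs => rw [← h3]
      rw [f_sum_left hf]
      simp only [Submodule.coe_smul, hf.smul_left]
      have : ∀ i, f ((bW i : D 1) : Fin n → F) (e j) = if i = j then 1 else 0 := fun i => hre i j
      simp only [this, mul_ite, mul_one, mul_zero, Finset.sum_ite_eq', Finset.mem_univ, if_true]
    simp only [h4]
    exact h3
  obtain ⟨ζ, hζ0, hζ⟩ := exists_Z hf.ne_refl hf.involutive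
  have hσζ : σ ζ = -ζ := by linear_combination hζ
  set z₁ : F := -ζ⁻¹ with hz₁
  have hz₁tr : z₁ + σ z₁ = 0 := by
    rw [hz₁, map_neg, map_inv₀, hσζ]
    field_simp
    ring
  have ha : σ z₁ = ζ⁻¹ := by
    rw [hz₁, map_neg, map_inv₀, hσζ]
    field_simp
  set N₁ := utList hf e hee z₁ (List.finRange k) with hN₁
  set N₂ := utList hf r hrr ζ (List.finRange k) with hN₂
  have hN₁v : ∀ x, (N₁ : Matrix (Fin n) (Fin n) F) *ᵥ x = x + ζ⁻¹ • EE f e x := by
    intro x
    rw [hN₁, utList_finRange, ha]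
  have hN₂v : ∀ x, (N₂ : Matrix (Fin n) (Fin n) F) *ᵥ x = x + (-ζ) • EE f r x := by
    intro x
    rw [hN₂, utList_finRange, hσζ]
  have hEeU : ∀ x ∈ D 0, EE f e x = 0 := fun x hx =>
    EE_eq_zero e x (fun i => hts 0 x hx _ (heU i))
  have hErW : ∀ y ∈ D 1, EE f r y = 0 := fun y hy =>
    EE_eq_zero r y (fun i => hts 1 y hy _ (hrW i))
  have hEe_mem : ∀ x, EE f e x ∈ D 0 := fun x =>
    Submodule.sum_mem _ (fun i _ => Submodule.smul_mem _ _ (heU i))
  have hEr_mem : ∀ x, EE f r x ∈ D 1 := fun x =>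
    Submodule.sum_mem _ (fun i _ => Submodule.smul_mem _ _ (hrW i))
  refine ⟨N₁ * N₂ * N₁, ?_, ?_, ?_⟩
  · exact (TT hf).mul_mem ((TT hf).mul_mem (utList_mem hf e hee z₁ hz₁tr _)
      (utList_mem hf r hrr ζ hζ _)) (utList_mem hf e hee z₁ hz₁tr _)
  · intro x hx
    have h1 : ((N₁ * N₂ * N₁ : GL (Fin n) F) : Matrix (Fin n) (Fin n) F) *ᵥ x =
        (-ζ) • EE f r x := by
      rw [Units.val_mul, Units.val_mul, ← Matrix.mulVec_mulVec, ← Matrix.mulVec_mulVec, hN₁v x,
        hEeU x hx, smul_zero, add_zero, hN₂v, hN₁v, EE_add hf, EE_smul hf, hEeU x hx,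
        EE_EE hf e r hre, hexpU x hx, zero_add, smul_smul]
      have h2 : ζ⁻¹ * -ζ = -1 := by field_simp
      rw [h2, neg_one_smul]
      abel
    rw [h1]
    exact Submodule.smul_mem _ _ (hEr_mem x)
  · intro y hy
    have h1 : ((N₁ * N₂ * N₁ : GL (Fin n) F) : Matrix (Fin n) (Fin n) F) *ᵥ y =
        ζ⁻¹ • EE f e y := by
      have hb : (N₂ : Matrix (Fin n) (Fin n) F) *ᵥ (y + ζ⁻¹ • EE f e y) = ζ⁻¹ • EE f e y := by
        rw [hN₂v, EE_add hf, EE_smul hf, hErW y hy, EE_EE hf r e her, hexpW y hy, zero_add, smul_smul]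
        have h2 : -ζ * ζ⁻¹ = -1 := by field_simp
        rw [h2, neg_one_smul]
        abel
      have hc : (N₁ : Matrix (Fin n) (Fin n) F) *ᵥ (ζ⁻¹ • EE f e y) = ζ⁻¹ • EE f e y := by
        rw [hN₁v, EE_smul hf, hEeU _ (hEe_mem y), smul_zero, smul_zero, add_zero]
      rw [Units.val_mul, Units.val_mul, ← Matrix.mulVec_mulVec, ← Matrix.mulVec_mulVec, hN₁v y,
        hb, hc]
    rw [h1]
    exact Submodule.smul_mem _ _ (hEe_mem y)

end Swap

end Cfsg.Agent.H9.SULag
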