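import Mathlib
import Cfsg.Agent.H9.SULagE

set_option autoImplicit false

namespace Cfsg.Agent.H9.SULag

open Cfsg Matrix Cfsg.Agent.S5631 Cfsg.Agent.S5643 Cfsg.Agent.Lib.Helper8.Unitary
  Cfsg.Agent.Lib.Helper8.SUGen

variable {n : ℕ} {F : Type*} [Field F] [Finite F] {σ : F ≃+* F}
  {f : (Fin n → F) → (Fin n → F) → F}
variable (hf : Cfsg.Geo.IsUnitaryForm σ f)
variable {k : ℕ} (D : Fin 2 → Submodule F (Fin n → F))
variable (hD : Cfsg.Geo.IsMDecomposition k D)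
variable (hts : ∀ i, Cfsg.Geo.IsTotallySingularFor f (D i))

include hD hts in
/-- the stabiliser is a proper subgroup -/
lemma exists_notMem_stab : ∃ g ∈ TT hf, g ∉ Cfsg.Geo.decompositionStabilizer D := by
  classical
  have hpos : 0 < Module.finrank F (D 1) := by rw [hD.finrank_eq]; exact hD.pos
  obtain ⟨w, hw0⟩ := (Module.finrank_pos_iff_exists_ne_zero (R := F) (M := D 1)).1 hpos
  have hw0' : (w : Fin n → F) ≠ 0 := fun h => hw0 (Subtype.ext h)
  obtain ⟨x, hxU, -, hx1⟩ := exists_dual' hf (D 1) (D 0) (hts 1) (exists_sum' D hD) ⊥ bot_le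
    (w : Fin n → F) w.2 (by simpa using hw0')
  obtain ⟨ζ, hζ0, hζ⟩ := exists_Z hf.ne_refl hf.involutive
  have hww : f (w : Fin n → F) (w : Fin n → F) = 0 := hts 1 _ w.2 _ w.2
  have hσζ0 : σ ζ ≠ 0 := fun h => hζ0 (by simpa using h)
  refine ⟨ut hf (w : Fin n → F) hww ζ, ut_mem hf _ _ ζ hζ, ?_⟩
  rintro ⟨τ, hτ⟩
  have hxw : f x (w : Fin n → F) = 1 := by rw [hf.herm, hx1, map_one]
  have hTx : ((ut hf (w : Fin n → F) hww ζ : GL (Fin n) F) : Matrix (Fin n) (Fin n) F) *ᵥ x =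
      x + σ ζ • (w : Fin n → F) := by
    rw [ut_mulVec, hxw, mul_one]
  have hTw : ((ut hf (w : Fin n → F) hww ζ : GL (Fin n) F) : Matrix (Fin n) (Fin n) F) *ᵥ
      (w : Fin n → F) = w := by
    rw [ut_mulVec, hww, mul_zero, zero_smul, add_zero]
  have h0 : ((ut hf (w : Fin n → F) hww ζ : GL (Fin n) F) : Matrix (Fin n) (Fin n) F) *ᵥ x ∈
      D (τ 0) := by
    rw [← hτ 0]
    exact ⟨x, hxU, by rw [Matrix.toLin'_apply]⟩
  have h1 : ((ut hf (w : Fin n → F) hww ζ : GL (Fin n) F) : Matrix (Fin n) (Fin n) F) *ᵥ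
      (w : Fin n → F) ∈ D (τ 1) := by
    rw [← hτ 1]
    exact ⟨w, w.2, by rw [Matrix.toLin'_apply]⟩
  rw [hTw] at h1
  rw [hTx] at h0
  have hτ1 : τ 1 = 1 := by
    by_contra h
    have h' : τ 1 = 0 := by
      have : ∀ l : Fin 2, l ≠ 1 → l = 0 := by decide
      exact this _ h
    rw [h'] at h1
    exact hw0' (eq_zero_of_mem D hD _ h1 w.2)
  have hτ0 : τ 0 = 0 := by
    by_contra h
    have h' : τ 0 = 1 := by
      have : ∀ l : Fin 2, l ≠ 0 → l = 1 := by decide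
      exact this _ h
    have := τ.injective (h'.trans hτ1.symm)
    exact absurd this (by decide)
  rw [hτ0] at h0
  have h2 : σ ζ • (w : Fin n → F) ∈ D 0 := by
    have := (D 0).sub_mem h0 hxU
    rwa [add_sub_cancel_left] at this
  have h3 : (w : Fin n → F) ∈ D 0 := by
    have := (D 0).smul_mem (σ ζ)⁻¹ h2
    rwa [smul_smul, inv_mul_cancel₀ hσζ0, one_smul] at this
  exact hw0' (eq_zero_of_mem D hD _ h3 w.2)

/-- the core step: all transvections centred in `U` lie in `M` -/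
lemma core (U W : Submodule F (Fin n → F))
    (hU : Cfsg.Geo.IsTotallySingularFor f U) (hW : Cfsg.Geo.IsTotallySingularFor f W)
    (hsum : ∀ v : Fin n → F, ∃ u ∈ U, ∃ w ∈ W, v = u + w)
    (M : Subgroup (GL (Fin n) F)) (hMS : M ≤ SUf f)
    (hM : ∀ a ∈ U, ∀ b ∈ W, ∀ hab : f a b = 0, sg hf a b hab ∈ M)
    (hdim : 7 ≤ Module.finrank F U)
    (c d cU cW dU dW : Fin n → F) (hcU : cU ∈ U) (hcW : cW ∈ W) (hc : c = cU + cW)
    (hdU : dU ∈ U) (hdW : dW ∈ W) (hd : d = dU + dW)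
    (hcc : f c c = 0) (hdd : f d d = 0)
    (hcd : f c d = 0) (hτ : sg hf c d hcd ∈ M) (hcU0 : cU ≠ 0)
    (hind : ∀ α : F, dU ≠ α • cU) : ∀ u ∈ U, u ∈ SS hf M := by
  obtain ⟨a, haU, ha0, ha⟩ := exists_mem_SS hf U W hU hW hsum M hM hdim c d cU cW dU dW hcU hcW hc
    hdU hdW hd hcc hdd hcd hτ hcU0 hind
  exact forall_mem_SS hf U W hU hW hsum M hMS hM a haU ha0 ha

include hD hts in
/-- a subgroup of `SUf f` properly containing the stabiliser contains all unitary transvections -/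
theorem TT_le_of_lt (hk : 7 ≤ k) (M : Subgroup (GL (Fin n) F))
    (hHM : Cfsg.Geo.decompositionStabilizer D ⊓ SUf f ≤ M) (hMS : M ≤ SUf f)
    (hMH : M ≠ Cfsg.Geo.decompositionStabilizer D ⊓ SUf f) : TT hf ≤ M := by
  classical
  have hpair : ∀ i j : Fin 2, i ≠ j → ∀ a ∈ D i, ∀ b ∈ D j, ∀ hab : f a b = 0, sg hf a b hab ∈ M :=
    fun i j hij a ha b hb hab => hHM (sg_mem_stab D hD hf hts i j hij a b ha hb hab)
  obtain ⟨g, hgM, hgH⟩ := SetLike.exists_of_lt (lt_of_le_of_ne hHM (Ne.symm hMH))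
  have hgS : g ∈ SUf f := hMS hgM
  have hgiso := SUf_iso g hgS
  have hgD : g ∉ Cfsg.Geo.decompositionStabilizer D := fun h => hgH ⟨h, hgS⟩
  have hfr : ∀ i j : Fin 2, Module.finrank F (D i) = Module.finrank F (D j) := fun i j => by
    rw [hD.finrank_eq, hD.finrank_eq]
  -- the swap
  obtain ⟨s, hsT, hs01, hs10⟩ := exists_swap hf D hD hts
  have hsS : s ∈ SUf f := TT_le_SUf hf hsT
  have hsM : s ∈ M := by
    apply hHM
    refine ⟨mem_stab_of_forall D hD s (Equiv.swap 0 1) ?_, hsS⟩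
    intro i x hx
    fin_cases i
    · simpa using hs01 x hx
    · simpa using hs10 x hx
  have hswap01 : (∀ u ∈ D 0, u ∈ SS hf M) → ∀ w ∈ D 1, w ∈ SS hf M := by
    intro h w hw
    have e := map_eq_of_forall' s (D 0) (D 1) (hfr 0 1) hs01
    rw [← e] at hw
    obtain ⟨u, hu, rfl⟩ := hw
    rw [Matrix.toLin'_apply]
    exact mulVec_mem_SS hf M hMS s hsM u (h u hu)
  have hswap10 : (∀ u ∈ D 1, u ∈ SS hf M) → ∀ w ∈ D 0, w ∈ SS hf M := by
    intro h w hw
    have e := map_eq_of_forall' s (D 1) (D 0) (hfr 1 0) hs10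
    rw [← e] at hw
    obtain ⟨u, hu, rfl⟩ := hw
    rw [Matrix.toLin'_apply]
    exact mulVec_mem_SS hf M hMS s hsM u (h u hu)
  -- it suffices to treat one member
  suffices hone : (∀ u ∈ D 0, u ∈ SS hf M) ∨ (∀ u ∈ D 1, u ∈ SS hf M) by
    have h0 : ∀ u ∈ D 0, u ∈ SS hf M := by
      rcases hone with h | h
      · exact h
      · exact hswap10 h
    have h1 : ∀ u ∈ D 1, u ∈ SS hf M := hswap01 h0
    rw [TT, Subgroup.closure_le]
    rintro _ ⟨u, hu, z, hz, rfl⟩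
    obtain ⟨hu', hmem⟩ := SS_of_isotropic hf (D 0) (D 1) (hts 0) (hts 1) (exists_sum D hD) M hMS
      h0 h1 u hu
    exact hmem z hz
  -- a member not mapped to a member
  have hbad : ∃ i : Fin 2, ¬ ((∀ x ∈ D i, (g : Matrix (Fin n) (Fin n) F) *ᵥ x ∈ D 0) ∨
      (∀ x ∈ D i, (g : Matrix (Fin n) (Fin n) F) *ᵥ x ∈ D 1)) := by
    by_contra hcon
    push Not at hcon
    have h1 : ∀ i : Fin 2, ∃ l : Fin 2,
        ∀ x ∈ D i, (g : Matrix (Fin n) (Fin n) F) *ᵥ x ∈ D l := by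
      intro i
      rcases hcon i with h | h
      · exact ⟨0, h⟩
      · exact ⟨1, h⟩
    choose τ hτ using h1
    have hinj : Function.Injective τ := by
      intro i j hij
      by_contra hne
      have e1 := map_eq_of_forall' g (D i) (D (τ i)) (hfr _ _) (hτ i)
      have e2 := map_eq_of_forall' g (D j) (D (τ j)) (hfr _ _) (hτ j)
      rw [← hij] at e2
      have e3 : D i = D j :=
        Submodule.map_injective_of_injective (toLin'_inj g) (e1.trans e2.symm)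
      have hdis := hD.indep.pairwiseDisjoint hne
      rw [Function.onFun, e3] at hdis
      have hbot : D j = ⊥ := disjoint_self.1 hdis
      have hfr' := hD.finrank_eq j
      rw [hbot, finrank_bot] at hfr'
      have := hD.pos
      omega
    have hbij : Function.Bijective τ := Finite.injective_iff_bijective.1 hinj
    exact hgD (mem_stab_of_forall D hD g (Equiv.ofBijective τ hbij) (fun i x hx => hτ i x hx))
  obtain ⟨i, hi⟩ := hbad
  obtain ⟨c₀, hc₀, hc0, hc1⟩ : ∃ c₀ ∈ D i,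
      (g : Matrix (Fin n) (Fin n) F) *ᵥ c₀ ∉ D 0 ∧
      (g : Matrix (Fin n) (Fin n) F) *ᵥ c₀ ∉ D 1 := by
    by_contra hall
    push Not at hall
    apply hi
    apply union_lemma' (D 0) (D 1) (D i) (g : Matrix (Fin n) (Fin n) F)
    intro x hx
    by_cases h : (g : Matrix (Fin n) (Fin n) F) *ᵥ x ∈ D 0
    · left; exact h
    · right; exact hall x hx h
  obtain ⟨j, hij⟩ : ∃ j : Fin 2, i ≠ j := by
    fin_cases i
    · exact ⟨1, by decide⟩
    · exact ⟨0, by decide⟩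
  set c := (g : Matrix (Fin n) (Fin n) F) *ᵥ c₀ with hcdef
  obtain ⟨cU, hcU, cW, hcW, hc⟩ := exists_sum D hD c
  have hcU0 : cU ≠ 0 := by
    rintro rfl
    rw [zero_add] at hc
    rw [hc] at hc1
    exact hc1 hcW
  have hcW0 : cW ≠ 0 := by
    rintro rfl
    rw [add_zero] at hc
    rw [hc] at hc0
    exact hc0 hcU
  obtain ⟨d, hdY, hdc, -, hdne⟩ := exists_perp_not_plane hf
    ((D j).map (Matrix.toLin' (g : Matrix (Fin n) (Fin n) F)))
    (by rw [finrank_map_GL, hD.finrank_eq]; omega) c c cU cW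
  obtain ⟨d₀, hd₀, rfl⟩ := hdY
  rw [Matrix.toLin'_apply] at hdc hdne
  set d := (g : Matrix (Fin n) (Fin n) F) *ᵥ d₀ with hddef
  obtain ⟨dU, hdU, dW, hdW, hd⟩ := exists_sum D hD d
  have hcd : f c d = 0 := f_swap_eq_zero hf _ _ hdc
  have hcc : f c c = 0 := by rw [hcdef, hgiso]; exact hts i c₀ hc₀ c₀ hc₀
  have hdd : f d d = 0 := by rw [hddef, hgiso]; exact hts j d₀ hd₀ d₀ hd₀
  have hτ : sg hf c d hcd ∈ M := by
    have h1 : f c₀ d₀ = 0 := by
      rw [← hgiso c₀ d₀]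
      exact hcd
    have h3 := hpair i j hij c₀ hc₀ d₀ hd₀ h1
    have h4 := conj_sg hf g hgiso c₀ d₀ h1 (hts j d₀ hd₀ d₀ hd₀)
    have h5 : sg hf c d hcd = g * sg hf c₀ d₀ h1 * g⁻¹ := by rw [h4]
    rw [h5]
    exact M.mul_mem (M.mul_mem hgM h3) (M.inv_mem hgM)
  have h7 : ∀ l : Fin 2, 7 ≤ Module.finrank F (D l) := fun l => by rw [hD.finrank_eq]; exact hk
  by_cases hcase : ∀ α : F, dU ≠ α • cU
  · left
    exact core hf (D 0) (D 1) (hts 0) (hts 1) (exists_sum D hD) M hMS (hpair 0 1 (by decide))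
      (h7 0) c d cU cW dU dW hcU hcW hc hdU hdW hd hcc hdd hcd hτ hcU0 hcase
  · right
    push Not at hcase
    obtain ⟨α, hα⟩ := hcase
    have hcase' : ∀ β : F, dW ≠ β • cW := by
      intro β hβ
      apply hdne α β
      rw [hd, hα, hβ]
    exact core hf (D 1) (D 0) (hts 1) (hts 0) (exists_sum' D hD) M hMS (hpair 1 0 (by decide))
      (h7 1) c d cW cU dW dU hcW hcU (by rw [hc, add_comm]) hdW hdU (by rw [hd, add_comm]) hcc hdd
      hcd hτ hcW0 hcase'

end Cfsg.Agent.H9.SULag
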