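import Cfsg.Agent.H9.SpB
import Cfsg.Agent.H9.GfsSimple3

/-!
# The special unitary group of the antidiagonal Hermitian form: basic definitions
-/

set_option autoImplicit false
set_option linter.unusedSimpArgs false
set_option linter.unusedVariables false
set_option linter.unusedSectionVars false
set_option linter.style.haveILetI false

namespace Cfsg.Agent.H9.SUa

open Matrix Cfsg.Agent.H9.SLnA Cfsg.Agent.H9.SLnB Cfsg.Agent.H9.SpB

variable {n : ℕ} {K : Type*} [Field K]

local notation "Mn" => Matrix (Fin n) (Fin n) K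
local notation "SLn" => Matrix.SpecialLinearGroup (Fin n) K

/-- the adjoint with respect to the antidiagonal Hermitian form: `J σ(M)ᵀ J` -/
def adj (σ : K →+* K) (M : Mn) : Mn := fun i j => σ (M j.rev i.rev)

theorem adj_apply (σ : K →+* K) (M : Mn) (i j : Fin n) : adj σ M i j = σ (M j.rev i.rev) := rfl

theorem adj_mul (σ : K →+* K) (A B : Mn) : adj σ (A * B) = adj σ B * adj σ A := by
  ext i j
  rw [adj_apply, Matrix.mul_apply, Matrix.mul_apply, map_sum]
  rw [← Equiv.sum_comp Fin.revPerm]
  apply Finset.sum_congr rfl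
  intro x _
  rw [adj_apply, adj_apply, map_mul, mul_comm, Fin.revPerm_apply]

theorem adj_one (σ : K →+* K) : adj σ (1 : Mn) = 1 := by
  ext i j
  rw [adj_apply, Matrix.one_apply, Matrix.one_apply]
  by_cases h : i = j
  · subst h
    rw [if_pos rfl, if_pos rfl, map_one]
  · rw [if_neg h, if_neg (fun h' => h (Fin.rev_injective h').symm), map_zero]

theorem adj_adj (σ : K →+* K) (hσ : ∀ x, σ (σ x) = x) (M : Mn) : adj σ (adj σ M) = M := by
  ext i j
  rw [adj_apply, adj_apply, hσ, Fin.rev_rev, Fin.rev_rev]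

theorem adj_add (σ : K →+* K) (A B : Mn) : adj σ (A + B) = adj σ A + adj σ B := by
  ext i j
  rw [adj_apply, Matrix.add_apply, Matrix.add_apply, map_add, adj_apply, adj_apply]

theorem adj_neg (σ : K →+* K) (A : Mn) : adj σ (-A) = -adj σ A := by
  ext i j
  rw [adj_apply, Matrix.neg_apply, Matrix.neg_apply, map_neg, adj_apply]

theorem adj_sub (σ : K →+* K) (A B : Mn) : adj σ (A - B) = adj σ A - adj σ B := by
  rw [sub_eq_add_neg, adj_add, adj_neg, sub_eq_add_neg]

theorem adj_zero (σ : K →+* K) : adj σ (0 : Mn) = 0 := by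
  ext i j
  rw [adj_apply, Matrix.zero_apply, Matrix.zero_apply, map_zero]

theorem adj_single (σ : K →+* K) (i j : Fin n) (c : K) :
    adj σ (single i j c : Mn) = single j.rev i.rev (σ c) := by
  ext a b
  rw [adj_apply, single_apply, single_apply]
  by_cases h : i = b.rev ∧ j = a.rev
  · rw [if_pos h, if_pos ⟨by rw [h.2, Fin.rev_rev], by rw [h.1, Fin.rev_rev]⟩]
  · rw [if_neg h, if_neg, map_zero]
    rintro ⟨h1, h2⟩
    apply h
    exact ⟨by rw [← h2, Fin.rev_rev], by rw [← h1, Fin.rev_rev]⟩

theorem adj_transvection (σ : K →+* K) (i j : Fin n) (c : K) :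
    adj σ (transvection i j c : Mn) = transvection j.rev i.rev (σ c) := by
  rw [transvection, adj_add, adj_one, adj_single, transvection]

theorem adj_diagonal (σ : K →+* K) (d : Fin n → K) :
    adj σ (Matrix.diagonal d : Mn) = Matrix.diagonal (fun i => σ (d i.rev)) := by
  ext i j
  rw [adj_apply, Matrix.diagonal_apply, Matrix.diagonal_apply]
  by_cases h : i = j
  · subst h
    rw [if_pos rfl, if_pos rfl]
  · rw [if_neg h, if_neg (fun h' => h (Fin.rev_injective h').symm), map_zero]

/-- `adj` of an upper triangular matrix is upper triangular -/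
theorem isUpper_adj (σ : K →+* K) {M : Mn} (hM : IsUpper M) : IsUpper (adj σ M) := by
  intro i j hij
  rw [adj_apply, hM _ _ (Fin.rev_lt_rev.mpr hij), map_zero]

theorem adj_diag (σ : K →+* K) (M : Mn) (i : Fin n) : adj σ M i i = σ (M i.rev i.rev) := rfl

section finite

variable [Finite K]

/-- the special unitary group of the antidiagonal form, as a submonoid -/
def HM (n : ℕ) (σ : K →+* K) : Submonoid (Matrix.SpecialLinearGroup (Fin n) K) :=
  { carrier := {g | g.1 * adj σ g.1 = 1}
    one_mem' := by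
      rw [Set.mem_ofPred_eq, Matrix.SpecialLinearGroup.coe_one, adj_one, Matrix.one_mul]
    mul_mem' := by
      intro g h hg hh
      rw [Set.mem_ofPred_eq] at hg hh ⊢
      rw [Matrix.SpecialLinearGroup.coe_mul, adj_mul, Matrix.mul_assoc, ← Matrix.mul_assoc h.1,
        hh, Matrix.one_mul, hg] }

/-- the special unitary group of the antidiagonal form -/
def HG (n : ℕ) (σ : K →+* K) : Subgroup (Matrix.SpecialLinearGroup (Fin n) K) :=
  { HM n σ with
    inv_mem' := by
      intro g hg
      exact inv_mem_of_finite (HM n σ) hg }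

/-- the underlying type -/
abbrev GG (n : ℕ) (σ : K →+* K) : Type _ := ↥(HG n σ)

variable {σ : K →+* K}

theorem mem_HG {g : SLn} : g ∈ HG n σ ↔ g.1 * adj σ g.1 = 1 := Iff.rfl

/-- the matrix of an element -/
def mt (g : GG n σ) : Mn := g.1.1

theorem mt_mul (g h : GG n σ) : mt (g * h) = mt g * mt h := rfl

theorem mt_one : mt (1 : GG n σ) = 1 := rfl

theorem mt_unit (g : GG n σ) : mt g * adj σ (mt g) = 1 := g.2

theorem mt_unit' (g : GG n σ) : adj σ (mt g) * mt g = 1 := mul_eq_one_comm.mp g.2

theorem mt_det (g : GG n σ) : (mt g).det = 1 := g.1.2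

theorem mt_inv (g : GG n σ) : mt g⁻¹ = adj σ (mt g) := by
  have h1 : mt g⁻¹ * mt g = 1 := by
    rw [← mt_mul, inv_mul_cancel, mt_one]
  calc mt g⁻¹ = mt g⁻¹ * (mt g * adj σ (mt g)) := by rw [mt_unit, Matrix.mul_one]
    _ = adj σ (mt g) := by rw [← Matrix.mul_assoc, h1, Matrix.one_mul]

theorem mt_injective : Function.Injective (mt : GG n σ → Mn) := by
  intro g h hgh
  exact Subtype.ext (Subtype.ext hgh)

theorem mt_pow (g : GG n σ) (k : ℕ) : mt (g ^ k) = mt g ^ k := by
  induction k with
  | zero => rw [pow_zero, pow_zero, mt_one]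
  | succ k ih => rw [pow_succ, pow_succ, mt_mul, ih]

theorem mt_conj (g x : GG n σ) : mt (g * x * g⁻¹) = mt g * mt x * adj σ (mt g) := by
  rw [mt_mul, mt_mul, mt_inv]

/-- constructor -/
def mk (M : Mn) (hd : M.det = 1) (hu : M * adj σ M = 1) : GG n σ := ⟨⟨M, hd⟩, hu⟩

theorem mt_mk (M : Mn) (hd : M.det = 1) (hu : M * adj σ M = 1) : mt (mk M hd hu : GG n σ) = M := rfl

/-- the unipotent subgroup -/
def US (n : ℕ) (σ : K →+* K) : Subgroup (GG n σ) :=
  (UU : Subgroup (Matrix.SpecialLinearGroup (Fin n) K)).subgroupOf (HG n σ)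

theorem mem_US {g : GG n σ} : g ∈ US n σ ↔ IsUT (mt g) := by
  unfold US
  rw [Subgroup.mem_subgroupOf, mem_UU]
  rfl

theorem isPGroup_US (p : ℕ) [hp : Fact p.Prime] [CharP K p] : IsPGroup p (US n σ) := by
  unfold US
  exact (isPGroup_UU (n := n) (K := K) p).comap_of_injective (HG n σ).subtype
    (Subgroup.subtype_injective _)

end finite

end Cfsg.Agent.H9.SUa
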