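import Cfsg.Agent.H9.SUa

/-!
# Root elements of the special unitary group of the antidiagonal form
-/

set_option autoImplicit false
set_option linter.unusedSimpArgs false
set_option linter.unusedVariables false
set_option linter.unusedSectionVars false
set_option linter.style.haveILetI false
set_option linter.unreachableTactic false
set_option linter.unusedTactic false

namespace Cfsg.Agent.H9.SUb

open Matrix Cfsg.Agent.H9.SLnA Cfsg.Agent.H9.SLnB Cfsg.Agent.H9.SpB Cfsg.Agent.H9.SUa

variable {n : ℕ} {K : Type*} [Field K]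

local notation "Mn" => Matrix (Fin n) (Fin n) K

/-- the nilpotent part of a root element -/
def nM (σ : K →+* K) (i j : Fin n) (t s : K) : Mn :=
  single i j t - single j.rev i.rev (σ t) + single i i.rev s

/-- the matrix of a root element: `1 + t E_ij - σ(t) E_j'i' + s E_ii'` -/
def xM (σ : K →+* K) (i j : Fin n) (t s : K) : Mn := 1 + nM σ i j t s

/-- validity of the parameters -/
def Valid (σ : K →+* K) (i j : Fin n) (t s : K) : Prop :=
  i ≠ j ∧ i ≠ i.rev ∧ j ≠ i.rev ∧ s + σ s + (if j = j.rev then t * σ t else 0) = 0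

theorem rev_ne_rev {i j : Fin n} (h : i ≠ j) : i.rev ≠ j.rev := fun h' => h (Fin.rev_injective h')

theorem adj_nM (σ : K →+* K) (hσ : ∀ x, σ (σ x) = x) (i j : Fin n) (t s : K) :
    adj σ (nM σ i j t s) = nM σ i j (-t) (σ s) := by
  unfold nM
  rw [adj_add, adj_sub, adj_single, adj_single, adj_single, Fin.rev_rev, Fin.rev_rev, hσ, map_neg,
    ← single_neg, ← single_neg]
  abel

theorem nM_mul_nM (σ : K →+* K) (i j : Fin n) (t s t2 s2 : K) (hij : i ≠ j) (hii : i ≠ i.rev)
    (hji : j ≠ i.rev) :
    nM σ i j t s * nM σ i j t2 s2 = single i i.rev (if j = j.rev then -(t * σ t2) else 0) := by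
  unfold nM
  have h1 : i.rev ≠ j.rev := rev_ne_rev hij
  have h2 : i.rev ≠ i := hii.symm
  have h3 : j ≠ i := hij.symm
  simp only [Matrix.add_mul, Matrix.mul_add, Matrix.sub_mul, Matrix.mul_sub,
    single_mul_single_of_ne _ _ _ _ h1, single_mul_single_of_ne _ _ _ _ h2,
    single_mul_single_of_ne _ _ _ _ h3, sub_zero, add_zero, zero_add, zero_sub, sub_self]
  by_cases hjj : j = j.rev
  · rw [if_pos hjj]
    have : (single i j t : Mn) * single j.rev i.rev (σ t2) = single i i.rev (t * σ t2) := by
      rw [← hjj]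
      exact single_mul_single_same _ _ _ _ _
    rw [this, ← single_neg]
  · rw [if_neg hjj, single_mul_single_of_ne _ _ _ _ hjj, neg_zero, single_zero]

theorem nM_add_nM (σ : K →+* K) (i j : Fin n) (t s t2 s2 : K) :
    nM σ i j t s + nM σ i j t2 s2 = nM σ i j (t + t2) (s + s2) := by
  unfold nM
  rw [map_add, single_add, single_add, single_add]
  abel

theorem nM_zero (σ : K →+* K) (i j : Fin n) (s : K) : nM σ i j 0 s = single i i.rev s := by
  unfold nM
  rw [map_zero, single_zero, single_zero, sub_zero, zero_add]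

/-- unitarity -/
theorem xM_unit (σ : K →+* K) (hσ : ∀ x, σ (σ x) = x) (i j : Fin n) (t s : K)
    (h : Valid σ i j t s) : xM σ i j t s * adj σ (xM σ i j t s) = 1 := by
  obtain ⟨hij, hii, hji, hc⟩ := h
  unfold xM
  rw [adj_add, adj_one, adj_nM σ hσ, Matrix.add_mul, Matrix.mul_add, Matrix.mul_add,
    Matrix.one_mul, Matrix.one_mul, Matrix.mul_one, nM_mul_nM σ i j t s (-t) (σ s) hij hii hji]
  have e : nM σ i j t s + nM σ i j (-t) (σ s) = single i i.rev (s + σ s) := by
    rw [nM_add_nM, add_neg_cancel, nM_zero]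
  have e2 : (1 : Mn) + nM σ i j (-t) (σ s) + (nM σ i j t s +
      single i i.rev (if j = j.rev then -(t * σ (-t)) else 0)) =
      1 + (single i i.rev (s + σ s) + single i i.rev (if j = j.rev then -(t * σ (-t)) else 0)) := by
    rw [← e]
    abel
  rw [e2, ← single_add]
  have e3 : s + σ s + (if j = j.rev then -(t * σ (-t)) else 0) = 0 := by
    by_cases hjj : j = j.rev
    · rw [if_pos hjj] at hc ⊢
      rw [map_neg]
      linear_combination hc
    · rw [if_neg hjj] at hc ⊢
      exact hc
  rw [e3, single_zero, add_zero]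

/-- the root element as a product of transvections -/
theorem xM_eq_prod (σ : K →+* K) (i j : Fin n) (t s : K) (hij : i ≠ j) (hii : i ≠ i.rev)
    (hji : j ≠ i.rev) :
    xM σ i j t s = transvection i j t * transvection j.rev i.rev (-σ t) *
      transvection i i.rev (s + if j = j.rev then t * σ t else 0) := by
  unfold xM nM transvection
  have h1 : i.rev ≠ j.rev := rev_ne_rev hij
  have h2 : i.rev ≠ i := hii.symm
  have h3 : j ≠ i := hij.symm
  by_cases hjj : j = j.rev
  · rw [if_pos hjj]
    have e12 : (single i j t : Mn) * single j.rev i.rev (-σ t) = single i i.rev (-(t * σ t)) := by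
      rw [← hjj, single_mul_single_same, mul_neg]
    simp only [Matrix.add_mul, Matrix.mul_add, Matrix.one_mul, Matrix.mul_one, e12,
      single_mul_single_of_ne _ _ _ _ h1, single_mul_single_of_ne _ _ _ _ h2,
      single_mul_single_of_ne _ _ _ _ h3, add_zero, zero_add]
    rw [single_add, ← single_neg, ← single_neg]
    abel
  · rw [if_neg hjj, add_zero]
    simp only [Matrix.add_mul, Matrix.mul_add, Matrix.one_mul, Matrix.mul_one,
      single_mul_single_of_ne _ _ _ _ h1, single_mul_single_of_ne _ _ _ _ h2,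
      single_mul_single_of_ne _ _ _ _ h3, single_mul_single_of_ne _ _ _ _ hjj, add_zero, zero_add]
    rw [← single_neg]
    abel

theorem xM_det (σ : K →+* K) (i j : Fin n) (t s : K) (hij : i ≠ j) (hii : i ≠ i.rev)
    (hji : j ≠ i.rev) : (xM σ i j t s).det = 1 := by
  rw [xM_eq_prod σ i j t s hij hii hji, Matrix.det_mul, Matrix.det_mul,
    det_transvection_of_ne _ _ hij, det_transvection_of_ne _ _ (rev_ne_rev hij).symm,
    det_transvection_of_ne _ _ hii, one_mul, one_mul]

end Cfsg.Agent.H9.SUb
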