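import Cfsg.Agent.H9.SUb

/-!
# Eichler transformations: conjugation and product laws
-/

set_option autoImplicit false
set_option linter.unusedSimpArgs false
set_option linter.unusedVariables false
set_option linter.unusedSectionVars false
set_option linter.style.haveILetI false
set_option linter.unreachableTactic false
set_option linter.unusedTactic false

namespace Cfsg.Agent.H9.SUc

open Matrix Cfsg.Agent.H9.SLnA Cfsg.Agent.H9.SLnB Cfsg.Agent.H9.SpB Cfsg.Agent.H9.SUa
  Cfsg.Agent.H9.SUb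

variable {n : ℕ} {K : Type*} [Field K]

local notation "Mn" => Matrix (Fin n) (Fin n) K

/-- `v ↦ J σ(v)` -/
def hat (σ : K →+* K) (v : Fin n → K) : Fin n → K := fun b => σ (v b.rev)

theorem hat_apply (σ : K →+* K) (v : Fin n → K) (b : Fin n) : hat σ v b = σ (v b.rev) := rfl

theorem hat_hat (σ : K →+* K) (hσ : ∀ x, σ (σ x) = x) (v : Fin n → K) : hat σ (hat σ v) = v := by
  funext b
  rw [hat_apply, hat_apply, hσ, Fin.rev_rev]

theorem hat_add (σ : K →+* K) (v w : Fin n → K) : hat σ (v + w) = hat σ v + hat σ w := by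
  funext b
  rw [hat_apply, Pi.add_apply, Pi.add_apply, map_add, hat_apply, hat_apply]

theorem hat_smul (σ : K →+* K) (c : K) (v : Fin n → K) : hat σ (c • v) = σ c • hat σ v := by
  funext b
  rw [hat_apply, Pi.smul_apply, Pi.smul_apply, smul_eq_mul, smul_eq_mul, map_mul, hat_apply]

theorem hat_zero (σ : K →+* K) : hat σ (0 : Fin n → K) = 0 := by
  funext b
  rw [hat_apply, Pi.zero_apply, Pi.zero_apply, map_zero]

theorem hat_single (σ : K →+* K) (k : Fin n) (c : K) :
    hat σ (Pi.single k c) = Pi.single k.rev (σ c) := by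
  funext b
  rw [hat_apply]
  by_cases h : b = k.rev
  · rw [h, Fin.rev_rev, Pi.single_eq_same, Pi.single_eq_same]
  · rw [Pi.single_eq_of_ne h, Pi.single_eq_of_ne, map_zero]
    intro h'
    apply h
    rw [← h', Fin.rev_rev]

/-- the Hermitian form `h(x, y) = Σ_b x_b σ(y_b')` -/
def hf (σ : K →+* K) (x y : Fin n → K) : K := hat σ y ⬝ᵥ x

theorem adj_vecMulVec (σ : K →+* K) (hσ : ∀ x, σ (σ x) = x) (a b : Fin n → K) :
    adj σ (vecMulVec a (hat σ b)) = vecMulVec b (hat σ a) := by
  ext x y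
  rw [adj_apply, vecMulVec_apply, vecMulVec_apply, hat_apply, hat_apply, map_mul, hσ, Fin.rev_rev,
    mul_comm]

theorem adj_smul (σ : K →+* K) (c : K) (M : Mn) : adj σ (c • M) = σ c • adj σ M := by
  ext x y
  rw [adj_apply, Matrix.smul_apply, Matrix.smul_apply, smul_eq_mul, smul_eq_mul, map_mul, adj_apply]

theorem hat_vecMul_adj (σ : K →+* K) (g : Mn) (b : Fin n → K) :
    hat σ b ᵥ* adj σ g = hat σ (g *ᵥ b) := by
  funext y
  show ∑ x, hat σ b x * adj σ g x y = σ (∑ x, g y.rev x * b x)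
  rw [map_sum, ← Equiv.sum_comp Fin.revPerm]
  apply Finset.sum_congr rfl
  intro x _
  rw [hat_apply, adj_apply, Fin.revPerm_apply, Fin.rev_rev, map_mul, mul_comm]

/-- the Eichler transformation `x ↦ x + h(x,v) u - h(x,u) v + s h(x,u) u` -/
def EM (σ : K →+* K) (u v : Fin n → K) (s : K) : Mn :=
  1 + vecMulVec u (hat σ v) - vecMulVec v (hat σ u) + s • vecMulVec u (hat σ u)

/-- conjugation law -/
theorem conj_EM (σ : K →+* K) (g : Mn) (hg : g * adj σ g = 1) (u v : Fin n → K) (s : K) :
    g * EM σ u v s * adj σ g = EM σ (g *ᵥ u) (g *ᵥ v) s := by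
  unfold EM
  simp only [Matrix.mul_add, Matrix.mul_sub, Matrix.add_mul, Matrix.sub_mul, Matrix.mul_one, hg,
    Matrix.mul_smul, Matrix.smul_mul, mul_vecMulVec, vecMulVec_mul, hat_vecMul_adj]

/-- product law -/
theorem EM_mul_EM (σ : K →+* K) (u v w : Fin n → K) (s r : K) (huu : hf σ u u = 0)
    (huv : hf σ u v = 0) (hwu : hf σ w u = 0) :
    EM σ u v s * EM σ u w r = EM σ u (v + w) (s + r - hf σ w v) := by
  unfold EM
  unfold hf at huu huv hwu
  simp only [Matrix.mul_add, Matrix.mul_sub, Matrix.add_mul, Matrix.sub_mul, Matrix.mul_one,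
    Matrix.one_mul, Matrix.mul_smul, Matrix.smul_mul, vecMulVec_mul_vecMulVec, huu, huv, hwu,
    zero_smul, smul_zero, vecMulVec_smul, hat_add, vecMulVec_add, add_vecMulVec, sub_zero, add_zero,
    zero_add, sub_smul, add_smul, vecMulVec_zero, zero_vecMulVec]
  unfold hf
  abel

/-- the root elements are Eichler transformations -/
theorem xM_eq_EM (σ : K →+* K) (hσ : ∀ x, σ (σ x) = x) (k j : Fin n) (t s : K) :
    xM σ k j t s = EM σ (Pi.single k 1) (Pi.single j.rev (σ t)) s := by
  unfold xM nM EM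
  have e1 : ∀ (a b : Fin n) (c d : K),
      vecMulVec (Pi.single a c) (Pi.single b d : Fin n → K) = (single a b (c * d) : Mn) := by
    intro a b c d
    ext x y
    rw [vecMulVec_apply, single_apply]
    by_cases hx : a = x
    · by_cases hy : b = y
      · rw [if_pos ⟨hx, hy⟩, ← hx, ← hy, Pi.single_eq_same, Pi.single_eq_same]
      · rw [if_neg (fun h => hy h.2), Pi.single_eq_of_ne (Ne.symm hy), mul_zero]
    · rw [if_neg (fun h => hx h.1), Pi.single_eq_of_ne (Ne.symm hx), zero_mul]
  rw [hat_single, hat_single, Fin.rev_rev, hσ, map_one, e1, e1, e1, one_mul, mul_one, one_mul,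
    smul_single, smul_eq_mul, mul_one]
  abel

end Cfsg.Agent.H9.SUc
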