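import Cfsg.Agent.H9.SUc

/-!
# The unipotent subgroup of the special unitary group: root elements, normalizer, order
-/

set_option autoImplicit false
set_option linter.unusedSimpArgs false
set_option linter.unusedVariables false
set_option linter.unusedSectionVars false
set_option linter.style.haveILetI false
set_option linter.unreachableTactic false
set_option linter.unusedTactic false

namespace Cfsg.Agent.H9.SUd

open Matrix Cfsg.Agent.H9.SLnA Cfsg.Agent.H9.SLnB Cfsg.Agent.H9.SpB Cfsg.Agent.H9.SUa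
  Cfsg.Agent.H9.SUb Cfsg.Agent.H9.SUc

variable {n : ℕ} {K : Type*} [Field K]

local notation "Mn" => Matrix (Fin n) (Fin n) K

/-! ### Field elements -/

theorem exists_eps {σ : K →+* K} (hσ : ∀ x, σ (σ x) = x) (hx0 : ∃ x, σ x ≠ x) :
    ∃ ε : K, ε ≠ 0 ∧ ε + σ ε = 0 := by
  obtain ⟨x0, hx0⟩ := hx0
  refine ⟨x0 - σ x0, sub_ne_zero.mpr (Ne.symm hx0), ?_⟩
  rw [map_sub, hσ]
  ring

theorem exists_theta {σ : K →+* K} (hσ : ∀ x, σ (σ x) = x) (hx0 : ∃ x, σ x ≠ x) :
    ∃ θ : K, θ + σ θ = 1 := by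
  obtain ⟨x0, hx0⟩ := hx0
  have hne : x0 - σ x0 ≠ 0 := sub_ne_zero.mpr (Ne.symm hx0)
  refine ⟨x0 / (x0 - σ x0), ?_⟩
  have e : σ (x0 - σ x0) = -(x0 - σ x0) := by
    rw [map_sub, hσ]
    ring
  rw [map_div₀, e]
  field_simp
  ring

/-- a valid long-root parameter for a given short-root parameter -/
theorem exists_valid_s {σ : K →+* K} (hσ : ∀ x, σ (σ x) = x) (hx0 : ∃ x, σ x ≠ x) (j : Fin n)
    (t : K) : ∃ s : K, s + σ s + (if j = j.rev then t * σ t else 0) = 0 := by
  obtain ⟨θ, hθ⟩ := exists_theta hσ hx0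
  refine ⟨-(θ * (if j = j.rev then t * σ t else 0)), ?_⟩
  by_cases hjj : j = j.rev
  · rw [if_pos hjj, map_neg, map_mul, map_mul, hσ]
    linear_combination (-(t * σ t)) * hθ
  · rw [if_neg hjj, mul_zero, neg_zero, map_zero, add_zero, add_zero]

section finite

variable [Finite K] {σ : K →+* K}

/-- root elements -/
def xx (hσ : ∀ x, σ (σ x) = x) (i j : Fin n) (t s : K) (h : Valid σ i j t s) : GG n σ :=
  mk (xM σ i j t s) (xM_det σ i j t s h.1 h.2.1 h.2.2.1) (xM_unit σ hσ i j t s h)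

theorem mt_xx (hσ : ∀ x, σ (σ x) = x) (i j : Fin n) (t s : K) (h : Valid σ i j t s) :
    mt (xx hσ i j t s h) = xM σ i j t s := rfl

theorem lM_unit (hσ : ∀ x, σ (σ x) = x) (i : Fin n) (s : K) (hii : i ≠ i.rev)
    (hs : s + σ s = 0) :
    (transvection i i.rev s : Mn) * adj σ (transvection i i.rev s) = 1 := by
  rw [adj_transvection, Fin.rev_rev, transvection_mul_transvection_same _ _ hii, hs,
    transvection_zero]

/-- long root elements -/
def xl (hσ : ∀ x, σ (σ x) = x) (i : Fin n) (s : K) (hii : i ≠ i.rev) (hs : s + σ s = 0) :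
    GG n σ :=
  mk (transvection i i.rev s) (det_transvection_of_ne _ _ hii s) (lM_unit hσ i s hii hs)

theorem mt_xl (hσ : ∀ x, σ (σ x) = x) (i : Fin n) (s : K) (hii : i ≠ i.rev) (hs : s + σ s = 0) :
    mt (xl hσ i s hii hs) = transvection i i.rev s := rfl

/-- upper triangular root elements -/
theorem isUT_xM (i j : Fin n) (t s : K) (hij : i < j) (hji : j < i.rev) :
    IsUT (xM σ i j t s) := by
  intro a b hba
  unfold xM nM
  rw [Matrix.add_apply, Matrix.add_apply, Matrix.sub_apply, Matrix.one_apply, single_apply,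
    single_apply, single_apply]
  have h1 : ¬ (i = a ∧ j = b) := by
    rintro ⟨h1, h2⟩
    rw [← h1, ← h2] at hba
    exact absurd hij (not_lt.mpr hba)
  have h2 : ¬ (j.rev = a ∧ i.rev = b) := by
    rintro ⟨h1, h2⟩
    rw [← h1, ← h2] at hba
    exact absurd (Fin.rev_lt_rev.mpr hij) (not_lt.mpr hba)
  have h3 : ¬ (i = a ∧ i.rev = b) := by
    rintro ⟨h1, h2⟩
    rw [← h1, ← h2] at hba
    exact absurd (hij.trans hji) (not_lt.mpr hba)
  rw [if_neg h1, if_neg h2, if_neg h3, sub_zero, add_zero, add_zero]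

theorem xx_mem_US (hσ : ∀ x, σ (σ x) = x) (i j : Fin n) (t s : K) (h : Valid σ i j t s)
    (hij : i < j) (hji : j < i.rev) : xx hσ i j t s h ∈ US n σ :=
  mem_US.mpr (isUT_xM i j t s hij hji)

theorem isUT_transvection' (i j : Fin n) (hij : i < j) (c : K) :
    IsUT (transvection i j c : Mn) := by
  intro a b hba
  have h0 : ¬ (i = a ∧ j = b) := by
    rintro ⟨h1, h2⟩
    rw [← h1, ← h2] at hba
    exact absurd hij (not_lt.mpr hba)
  rw [transvection, Matrix.add_apply, Matrix.one_apply, single_apply, if_neg h0, add_zero]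

theorem xl_mem_US (hσ : ∀ x, σ (σ x) = x) (i : Fin n) (s : K) (hii : i < i.rev)
    (hs : s + σ s = 0) : xl hσ i s hii.ne hs ∈ US n σ :=
  mem_US.mpr (isUT_transvection' i i.rev hii s)

/-- every superdiagonal position is realized by an element of `US` -/
theorem exists_superdiag (hσ : ∀ x, σ (σ x) = x) (hx0 : ∃ x, σ x ≠ x) (i j : Fin n)
    (hij : i.val + 1 = j.val) : ∃ u ∈ US n σ, mt u i j ≠ 0 := by
  have hlt : i < j := by rw [Fin.lt_def]; omega
  rcases lt_trichotomy j i.rev with h | h | h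
  · -- generic or middle
    obtain ⟨s, hs⟩ := exists_valid_s (n := n) hσ hx0 j (1 : K)
    have hv : Valid σ i j 1 s := ⟨hlt.ne, (hlt.trans h).ne, h.ne, hs⟩
    refine ⟨xx hσ i j 1 s hv, xx_mem_US hσ i j 1 s hv hlt h, ?_⟩
    rw [mt_xx]
    unfold xM nM
    rw [Matrix.add_apply, Matrix.add_apply, Matrix.sub_apply, Matrix.one_apply, if_neg hlt.ne,
      single_apply, if_pos ⟨rfl, rfl⟩, single_apply, single_apply,
      if_neg (fun h' => h.ne h'.2.symm), if_neg (fun h' => h.ne h'.2.symm)]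
    simp
  · -- the long root
    obtain ⟨ε, hε, hε2⟩ := exists_eps hσ hx0
    have hii : i < i.rev := by rw [← h]; exact hlt
    refine ⟨xl hσ i ε hii.ne hε2, xl_mem_US hσ i ε hii hε2, ?_⟩
    rw [mt_xl, transvection, Matrix.add_apply, Matrix.one_apply, if_neg hlt.ne, single_apply,
      if_pos ⟨rfl, h.symm⟩, zero_add]
    exact hε
  · -- mirrored
    have hab : j.rev < i.rev := Fin.rev_lt_rev.mpr hlt
    have hba : i.rev < j.rev.rev := by rw [Fin.rev_rev]; exact h
    obtain ⟨s, hs⟩ := exists_valid_s (n := n) hσ hx0 i.rev (1 : K)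
    have hv : Valid σ j.rev i.rev 1 s := ⟨hab.ne, (hab.trans hba).ne, hba.ne, hs⟩
    refine ⟨xx hσ j.rev i.rev 1 s hv, xx_mem_US hσ j.rev i.rev 1 s hv hab hba, ?_⟩
    rw [mt_xx]
    unfold xM nM
    rw [Matrix.add_apply, Matrix.add_apply, Matrix.sub_apply, Matrix.one_apply, if_neg hlt.ne,
      Fin.rev_rev, Fin.rev_rev, single_apply_same,
      single_apply_of_col_ne _ _ (fun h' => h.ne h'),
      single_apply_of_row_ne (fun h' => h.ne (by rw [← h', Fin.rev_rev]))]
    simp

end finite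

end Cfsg.Agent.H9.SUd
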