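import Cfsg.Agent.H9.SUd

/-!
# The normalizer of the unipotent subgroup of the special unitary group, and its order
-/

set_option autoImplicit false
set_option linter.unusedSimpArgs false
set_option linter.unusedVariables false
set_option linter.unusedSectionVars false
set_option linter.style.haveILetI false
set_option linter.unreachableTactic false
set_option linter.unusedTactic false

namespace Cfsg.Agent.H9.SUe

open Matrix Cfsg.Agent.H9.SLnA Cfsg.Agent.H9.SLnB Cfsg.Agent.H9.SpB Cfsg.Agent.H9.SUa
  Cfsg.Agent.H9.SUb Cfsg.Agent.H9.SUc Cfsg.Agent.H9.SUd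

variable {n : ℕ} {K : Type*} [Field K]

local notation "Mn" => Matrix (Fin n) (Fin n) K

/-- the standard flag -/
def Vk (k : ℕ) (v : Fin n → K) : Prop := ∀ j : Fin n, k ≤ j.val → v j = 0

theorem Vk_sub_one_mulVec {u : Mn} (hu : IsUT u) (k : ℕ) (v : Fin n → K) (hv : Vk (k + 1) v) :
    Vk k ((u - 1) *ᵥ v) := by
  intro j hj
  show ∑ b, (u - 1) j b * v b = 0
  apply Finset.sum_eq_zero
  intro b _
  by_cases hb : b ≤ j
  · rw [Matrix.sub_apply, hu j b hb, Matrix.one_apply, sub_self, zero_mul]
  · rw [hv b (by rw [not_le, Fin.lt_def] at hb; omega), mul_zero]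

section finite

variable [Finite K] {σ : K →+* K}

theorem Vk_succ_of_forall (hσ : ∀ x, σ (σ x) = x) (hx0 : ∃ x, σ x ≠ x) (k : ℕ) (v : Fin n → K)
    (h : ∀ u ∈ US n σ, Vk k ((mt u - 1) *ᵥ v)) : Vk (k + 1) v := by
  -- downward induction on the index
  have key : ∀ d : ℕ, ∀ j : Fin n, j.val + d = n → k + 1 ≤ j.val → v j = 0 := by
    intro d
    induction d using Nat.strong_induction_on with
    | _ d ih =>
      intro j hjd hkj
      obtain ⟨i, hi⟩ : ∃ i : Fin n, i.val + 1 = j.val := ⟨⟨j.val - 1, by omega⟩, by simp; omega⟩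
      obtain ⟨u, hu, hne⟩ := exists_superdiag hσ hx0 i j hi
      have hU := mem_US.mp hu
      have h1 := h u hu i (by omega)
      have h2 : ((mt u - 1) *ᵥ v) i = mt u i j * v j := by
        show ∑ b, (mt u - 1) i b * v b = mt u i j * v j
        rw [Finset.sum_eq_single j]
        · rw [Matrix.sub_apply, Matrix.one_apply, if_neg, sub_zero]
          intro h'
          rw [h'] at hi
          omega
        · intro b _ hb
          by_cases hbi : b ≤ i
          · rw [Matrix.sub_apply, hU i b hbi, Matrix.one_apply, sub_self, zero_mul]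
          · have hbj : j.val < b.val := by
              rw [not_le, Fin.lt_def] at hbi
              have : b.val ≠ j.val := fun h' => hb (Fin.ext h')
              omega
            rw [ih (n - b.val) (by omega) b (by omega) (by omega), mul_zero]
        · intro h'
          exact absurd (Finset.mem_univ j) h'
      rw [h2] at h1
      rcases mul_eq_zero.mp h1 with h3 | h3
      · exact absurd h3 hne
      · exact h3
  intro j hj
  exact key (n - j.val) j (by omega) hj

/-- the normalizer of `US` consists of triangular matrices -/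
theorem isUpper_of_mem_normalizer (hσ : ∀ x, σ (σ x) = x) (hx0 : ∃ x, σ x ≠ x) {g : GG n σ}
    (hg : g ∈ Subgroup.normalizer ((US n σ : Subgroup (GG n σ)) : Set (GG n σ))) :
    IsUpper (mt g) := by
  have hflag : ∀ k : ℕ, ∀ v : Fin n → K, Vk k v → Vk k (mt g *ᵥ v) := by
    intro k
    induction k with
    | zero =>
      intro v hv
      have : v = 0 := by
        funext j
        exact hv j (Nat.zero_le _)
      rw [this, Matrix.mulVec_zero]
      intro j _
      rfl
    | succ k ih =>
      intro v hv
      apply Vk_succ_of_forall hσ hx0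
      intro u hu
      have hu' : g⁻¹ * u * g ∈ US n σ := by
        have hg' : g⁻¹ ∈ Subgroup.normalizer ((US n σ : Subgroup (GG n σ)) : Set (GG n σ)) :=
          Subgroup.inv_mem _ hg
        have := (Subgroup.mem_normalizer_iff.mp hg' u).mp hu
        rwa [inv_inv] at this
      have e : (mt u - 1) * mt g = mt g * (mt (g⁻¹ * u * g) - 1) := by
        rw [mt_mul, mt_mul, mt_inv, Matrix.mul_sub, Matrix.mul_one, ← Matrix.mul_assoc,
          ← Matrix.mul_assoc, mt_unit, Matrix.one_mul, Matrix.sub_mul, Matrix.one_mul]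
      rw [Matrix.mulVec_mulVec, e, ← Matrix.mulVec_mulVec]
      apply ih
      exact Vk_sub_one_mulVec (mem_US.mp hu') k v hv
  intro a b hba
  have h1 := hflag (b.val + 1) (Pi.single b 1) (by
    intro j hj
    rw [Pi.single_eq_of_ne]
    intro h'
    rw [h'] at hj
    omega) a (by rw [Fin.lt_def] at hba; omega)
  rwa [Matrix.mulVec_single_one] at h1

/-- a `p`-element of the normalizer of `US` lies in `US` -/
theorem mem_US_of_mem_normalizer (hσ : ∀ x, σ (σ x) = x) (hx0 : ∃ x, σ x ≠ x) (p : ℕ)
    [hp : Fact p.Prime] [CharP K p] {g : GG n σ}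
    (hg : g ∈ Subgroup.normalizer ((US n σ : Subgroup (GG n σ)) : Set (GG n σ))) (k : ℕ)
    (hk : g ^ p ^ k = 1) : g ∈ US n σ := by
  have hA := isUpper_of_mem_normalizer hσ hx0 hg
  rw [SUa.mem_US]
  refine isUT_of_isUpper hA ?_
  intro i
  have h1 := (hA.pow (p ^ k)).2 i
  rw [← mt_pow, hk, mt_one, Matrix.one_apply, if_pos rfl] at h1
  have h2 : (mt g i i - 1) ^ p ^ k = 0 := by
    rw [sub_pow_char_pow, ← h1, one_pow, sub_self]
  have := pow_eq_zero_iff (pow_ne_zero k hp.out.ne_zero) |>.mp h2
  exact sub_eq_zero.mp this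

/-- `US` has the order of a Sylow `p`-subgroup -/
theorem card_US_eq (hσ : ∀ x, σ (σ x) = x) (hx0 : ∃ x, σ x ≠ x) (p : ℕ) [hp : Fact p.Prime]
    [CharP K p] : Nat.card (US n σ) = p ^ (Nat.card (GG n σ)).factorization p :=
  card_eq_of_normalizer p (US n σ) (isPGroup_US p)
    (fun _ hx k hk => mem_US_of_mem_normalizer hσ hx0 p hx k hk)

end finite

end Cfsg.Agent.H9.SUe
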