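import Cfsg.Agent.H9.SUe

/-!
# The unipotent subgroup of the special unitary group is generated by root elements
-/

set_option autoImplicit false
set_option linter.unusedSimpArgs false
set_option linter.unusedVariables false
set_option linter.unusedSectionVars false
set_option linter.style.haveILetI false
set_option linter.unreachableTactic false
set_option linter.unusedTactic false

namespace Cfsg.Agent.H9.SUf

open Matrix Cfsg.Agent.H9.SLnA Cfsg.Agent.H9.SLnB Cfsg.Agent.H9.SpB Cfsg.Agent.H9.SUa
  Cfsg.Agent.H9.SUb Cfsg.Agent.H9.SUc Cfsg.Agent.H9.SUd Cfsg.Agent.H9.SUe

variable {n : ℕ} {K : Type*} [Field K]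

local notation "Mn" => Matrix (Fin n) (Fin n) K

theorem mul_single_apply' (M : Mn) (i j : Fin n) (c : K) (x y : Fin n) :
    (M * single i j c) x y = if y = j then M x i * c else 0 := by
  rw [Matrix.mul_apply]
  by_cases hy : y = j
  · rw [if_pos hy, Finset.sum_eq_single i]
    · rw [single_apply, if_pos ⟨rfl, hy.symm⟩]
    · intro w _ hw
      rw [single_apply, if_neg (fun h => hw h.1.symm), mul_zero]
    · intro h
      exact absurd (Finset.mem_univ i) h
  · rw [if_neg hy]
    apply Finset.sum_eq_zero
    intro w _
    rw [single_apply, if_neg (fun h => hy h.2.symm), mul_zero]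

theorem mul_nM_apply (σ : K →+* K) (M : Mn) (i j : Fin n) (t s : K) (x y : Fin n) :
    (M * nM σ i j t s) x y = (if y = j then M x i * t else 0)
      - (if y = i.rev then M x j.rev * σ t else 0) + (if y = i.rev then M x i * s else 0) := by
  unfold nM
  rw [Matrix.mul_add, Matrix.mul_sub, Matrix.add_apply, Matrix.sub_apply, mul_single_apply',
    mul_single_apply', mul_single_apply']

section finite

variable [Finite K] {σ : K →+* K}

/-- trivial rows force trivial columns -/
theorem cols_of_rows (hσ : ∀ x, σ (σ x) = x) (u : GG n σ) (a : Fin n)
    (hrows : ∀ x y : Fin n, x < a → mt u x y = if x = y then 1 else 0) (z y : Fin n)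
    (hy : a.rev < y) : mt u z y = if z = y then 1 else 0 := by
  have hx : y.rev < a := by
    have := Fin.rev_lt_rev.mpr hy
    rwa [Fin.rev_rev] at this
  have h1 := congrFun (congrFun (mt_unit u) y.rev) z.rev
  rw [Matrix.mul_apply, Finset.sum_eq_single y.rev] at h1
  · rw [hrows _ _ hx, if_pos rfl, one_mul, adj_apply, Fin.rev_rev, Fin.rev_rev,
      Matrix.one_apply] at h1
    have h2 := congrArg σ h1
    rw [hσ] at h2
    rw [h2]
    by_cases hzy : z = y
    · rw [if_pos (by rw [hzy]), if_pos hzy, map_one]
    · rw [if_neg (fun h => hzy (Fin.rev_injective h).symm), if_neg hzy, map_zero]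
  · intro w _ hw
    rw [hrows _ _ hx, if_neg (Ne.symm hw), zero_mul]
  · intro h
    exact absurd (Finset.mem_univ _) h

/-- the entry at `(a, a')` has trace zero once the row is cleared before it -/
theorem trace_zero_entry (hσ : ∀ x, σ (σ x) = x) (u : GG n σ) (hu : IsUT (mt u)) (a : Fin n)
    (ha : a < a.rev)
    (hrows : ∀ x y : Fin n, x < a → mt u x y = if x = y then 1 else 0)
    (hrow : ∀ y : Fin n, a < y → y < a.rev → mt u a y = 0) :
    mt u a a.rev + σ (mt u a a.rev) = 0 := by
  have h1 := congrFun (congrFun (mt_unit u) a) a.rev
  rw [Matrix.mul_apply, Matrix.one_apply, if_neg ha.ne,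
    Finset.sum_eq_add a a.rev ha.ne] at h1
  · rw [adj_apply, adj_apply, Fin.rev_rev, hu.diag, one_mul, map_one, mul_one] at h1
    rw [← h1]
    ring
  · intro w _ hw
    rcases lt_trichotomy w a with h | h | h
    · rw [hu a w h.le, if_neg h.ne', zero_mul]
    · exact absurd h hw.1
    · rcases lt_trichotomy w a.rev with h' | h' | h'
      · rw [hrow w h h', zero_mul]
      · exact absurd h' hw.2
      · rw [cols_of_rows hσ u a hrows a w h', if_neg h.ne, zero_mul]
  · intro h
    exact absurd (Finset.mem_univ _) h
  · intro h
    exact absurd (Finset.mem_univ _) h

/-- **generation**: a subgroup containing the upper root elements contains `US` -/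
theorem US_le_of_root_mem (hσ : ∀ x, σ (σ x) = x) (hx0 : ∃ x, σ x ≠ x) (T : Subgroup (GG n σ))
    (hxx : ∀ (i j : Fin n) (t s : K) (h : Valid σ i j t s), i < j → j < i.rev →
      xx hσ i j t s h ∈ T)
    (hxl : ∀ (i : Fin n) (s : K) (hii : i < i.rev) (hs : s + σ s = 0), xl hσ i s hii.ne hs ∈ T) :
    US n σ ≤ T := by
  have key : ∀ d c : ℕ, c + d = n * n → ∀ u ∈ US n σ,
      (∀ x y : Fin n, x < y → x.val * n + y.val < c → mt u x y = 0) → u ∈ T := by
    intro d
    induction d with
    | zero =>
      intro c hc u hu hz
      have : u = 1 := by
        apply mt_injective
        rw [mt_one]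
        ext x y
        rw [Matrix.one_apply]
        rcases lt_trichotomy x y with h | h | h
        · rw [if_neg h.ne]
          apply hz x y h
          have h1 : x.val * n + y.val < x.val * n + n := by omega
          have h2 : x.val * n + n = (x.val + 1) * n := by ring
          have h3 : (x.val + 1) * n ≤ n * n := by
            rw [mul_comm]
            exact Nat.mul_le_mul_left n (by omega)
          omega
        · subst h
          rw [if_pos rfl, (SUa.mem_US.mp hu).diag]
        · rw [if_neg h.ne', (SUa.mem_US.mp hu).isUpper x y h]
      rw [this]
      exact T.one_mem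
    | succ d ih =>
      intro c hc u hu hz
      have hU := SUa.mem_US.mp hu
      by_cases hpos : ∃ a b : Fin n, a < b ∧ a.val * n + b.val = c
      · obtain ⟨a, b, hab, hcode⟩ := hpos
        have hbefore : ∀ x y : Fin n, x.val * n + y.val < c + 1 →
            x < a ∨ (x = a ∧ y < b) ∨ (x = a ∧ y = b) := by
          intro x y h
          rw [← hcode] at h
          have hyn := y.2
          have hbn := b.2
          rcases lt_trichotomy x.val a.val with h3 | h3 | h3
          · left
            exact h3
          · right
            rw [h3] at h
            rcases lt_or_eq_of_le (show y.val ≤ b.val by omega) with h5 | h5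
            · left
              exact ⟨Fin.ext h3, h5⟩
            · right
              exact ⟨Fin.ext h3, Fin.ext h5⟩
          · exfalso
            have : (a.val + 1) * n ≤ x.val * n := Nat.mul_le_mul_right n h3
            have h4 : (a.val + 1) * n = a.val * n + n := by ring
            omega
        have hrows : ∀ x y : Fin n, x < a → mt u x y = if x = y then 1 else 0 := by
          intro x y hxa
          rcases lt_trichotomy x y with h | h | h
          · rw [if_neg h.ne]
            apply hz x y h
            rw [← hcode]
            have : (x.val + 1) * n ≤ a.val * n := Nat.mul_le_mul_right n hxa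
            have h4 : (x.val + 1) * n = x.val * n + n := by ring
            have := y.2
            omega
          · subst h
            rw [if_pos rfl, hU.diag]
          · rw [if_neg h.ne', hU.isUpper x y h]
        have hrow : ∀ y : Fin n, a < y → y < b → mt u a y = 0 := by
          intro y hay hyb
          apply hz a y hay
          rw [← hcode]
          rw [Fin.lt_def] at hyb
          omega
        obtain ⟨t0, ht0⟩ : ∃ t0 : K, t0 = mt u a b := ⟨_, rfl⟩
        -- the general step
        have hstep : ∀ g : GG n σ, g ∈ T → g ∈ US n σ →
            (∀ x y : Fin n, x < a → mt g x y = if x = y then 1 else 0) →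
            (∀ y : Fin n, a < y → y < b → mt g a y = 0) → mt g a b = -t0 → u ∈ T := by
          intro g hgT hgU hg1 hg2 hg3
          have hG := SUa.mem_US.mp hgU
          have hu' : u * g ∈ T := by
            apply ih (c + 1) (by omega) (u * g) ((US n σ).mul_mem hu hgU)
            intro x y hxy hcode'
            rw [mt_mul, Matrix.mul_apply]
            rcases hbefore x y hcode' with h | ⟨h1, h2⟩ | ⟨h1, h2⟩
            · rw [Finset.sum_eq_single x]
              · rw [hrows x x h, if_pos rfl, one_mul, hg1 x y h, if_neg hxy.ne]
              · intro w _ hw
                rw [hrows x w h, if_neg (Ne.symm hw), zero_mul]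
              · intro h'
                exact absurd (Finset.mem_univ _) h'
            · subst h1
              apply Finset.sum_eq_zero
              intro w _
              rcases lt_trichotomy w x with h | h | h
              · rw [hU.isUpper x w h, zero_mul]
              · rw [h, hg2 y hxy h2, mul_zero]
              · by_cases hwb : w < b
                · rw [hrow w h hwb, zero_mul]
                · rw [hG.isUpper w y (lt_of_lt_of_le h2 (not_lt.mp hwb)), mul_zero]
            · subst h1
              subst h2
              rw [Finset.sum_eq_add x y hxy.ne]
              · rw [hU.diag, one_mul, hg3, hG.diag, mul_one, ← ht0]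
                ring
              · intro w _ hw
                rcases lt_trichotomy w x with h | h | h
                · rw [hU.isUpper x w h, zero_mul]
                · exact absurd h hw.1
                · rcases lt_trichotomy w y with h' | h' | h'
                  · rw [hrow w h h', zero_mul]
                  · exact absurd h' hw.2
                  · rw [hG.isUpper w y h', mul_zero]
              · intro h'
                exact absurd (Finset.mem_univ _) h'
              · intro h'
                exact absurd (Finset.mem_univ _) h'
          have : u = u * g * g⁻¹ := by group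
          rw [this]
          exact T.mul_mem hu' (T.inv_mem hgT)
        rcases lt_trichotomy b a.rev with h | h | h
        · -- a short root element
          obtain ⟨s, hs⟩ := exists_valid_s (n := n) hσ hx0 b (-t0)
          have hv : Valid σ a b (-t0) s := ⟨hab.ne, (hab.trans h).ne, h.ne, hs⟩
          have hab' : a < b.rev := by
            have := Fin.rev_lt_rev.mpr h
            rwa [Fin.rev_rev] at this
          apply hstep (xx hσ a b (-t0) s hv) (hxx a b (-t0) s hv hab h)
            (xx_mem_US hσ a b (-t0) s hv hab h)
          · intro x y hxa
            rw [mt_xx]
            unfold xM nM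
            rw [Matrix.add_apply, Matrix.add_apply, Matrix.sub_apply, Matrix.one_apply,
              single_apply_of_row_ne hxa.ne', single_apply_of_row_ne (hxa.trans hab').ne',
              single_apply_of_row_ne hxa.ne', sub_zero, add_zero, add_zero]
          · intro y hay hyb
            rw [mt_xx]
            unfold xM nM
            rw [Matrix.add_apply, Matrix.add_apply, Matrix.sub_apply, Matrix.one_apply,
              if_neg hay.ne, single_apply_of_col_ne _ _ hyb.ne', single_apply_of_row_ne hab'.ne',
              single_apply_of_col_ne _ _ (hyb.trans h).ne', sub_zero, add_zero, add_zero]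
          · rw [mt_xx]
            unfold xM nM
            rw [Matrix.add_apply, Matrix.add_apply, Matrix.sub_apply, Matrix.one_apply,
              if_neg hab.ne, single_apply_same, single_apply_of_row_ne hab'.ne',
              single_apply_of_col_ne _ _ h.ne', sub_zero, add_zero, zero_add]
        · -- a long root element
          have haa : a < a.rev := by rw [← h]; exact hab
          have htr : t0 + σ t0 = 0 := by
            rw [ht0, h]
            apply trace_zero_entry hσ u hU a haa hrows
            intro y hay hya
            exact hrow y hay (by rw [h]; exact hya)
          have hs : -t0 + σ (-t0) = 0 := by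
            rw [map_neg]
            linear_combination -htr
          apply hstep (xl hσ a (-t0) haa.ne hs) (hxl a (-t0) haa hs) (xl_mem_US hσ a (-t0) haa hs)
          · intro x y hxa
            rw [mt_xl, transvection, Matrix.add_apply, Matrix.one_apply,
              single_apply_of_row_ne hxa.ne', add_zero]
          · intro y hay hyb
            rw [mt_xl, transvection, Matrix.add_apply, Matrix.one_apply, if_neg hay.ne,
              single_apply_of_col_ne _ _ (by rw [← h]; exact hyb.ne'), add_zero]
          · rw [mt_xl, transvection, Matrix.add_apply, Matrix.one_apply, if_neg hab.ne, zero_add, h,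
              single_apply_same]
        · -- automatic
          apply ih (c + 1) (by omega) u hu
          intro x y hxy hcode'
          rcases hbefore x y hcode' with h1 | ⟨h1, h2⟩ | ⟨h1, h2⟩
          · rw [hrows x y h1, if_neg hxy.ne]
          · apply hz x y hxy
            rw [← hcode, h1]
            rw [Fin.lt_def] at h2
            omega
          · rw [h1, h2, cols_of_rows hσ u a hrows a b h, if_neg hab.ne]
      · apply ih (c + 1) (by omega) u hu
        intro x y hxy hcode'
        apply hz x y hxy
        have : x.val * n + y.val ≠ c := fun h => hpos ⟨x, y, hxy, h⟩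
        omega
  intro u hu
  exact key (n * n) 0 (by omega) u hu (fun x y _ h => absurd h (Nat.not_lt_zero _))

end finite

end Cfsg.Agent.H9.SUf
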