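import Cfsg.Agent.H9.SUf

/-!
# Embedding small unitary groups along a self-dual family of indices
-/

set_option autoImplicit false
set_option linter.unusedSimpArgs false
set_option linter.unusedVariables false
set_option linter.unusedSectionVars false
set_option linter.style.haveILetI false
set_option linter.unreachableTactic false
set_option linter.unusedTactic false

namespace Cfsg.Agent.H9.SUg

open Matrix Cfsg.Agent.H9.SLnA Cfsg.Agent.H9.SLnB Cfsg.Agent.H9.SpB Cfsg.Agent.H9.SUa
  Cfsg.Agent.H9.SUb Cfsg.Agent.H9.SUc Cfsg.Agent.H9.SUd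

variable {n k : ℕ} {K : Type*} [Field K]

/-- the coordinate inclusion matrix -/
def PP (K : Type*) [Field K] (f : Fin k → Fin n) : Matrix (Fin n) (Fin k) K :=
  fun x i => if x = f i then 1 else 0

theorem PP_apply (f : Fin k → Fin n) (x : Fin n) (i : Fin k) :
    PP K f x i = if x = f i then 1 else 0 := rfl

theorem PPt_mul_PP (f : Fin k → Fin n) (hf : Function.Injective f) :
    (PP K f)ᵀ * PP K f = 1 := by
  ext i j
  rw [Matrix.mul_apply, Matrix.one_apply]
  rw [Finset.sum_eq_single (f i)]
  · rw [transpose_apply, PP_apply, PP_apply, if_pos rfl, one_mul]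
    by_cases h : i = j
    · rw [if_pos (by rw [h]), if_pos h]
    · rw [if_neg (fun h' => h (hf h')), if_neg h]
  · intro x _ hx
    rw [transpose_apply, PP_apply, if_neg hx, zero_mul]
  · intro h
    exact absurd (Finset.mem_univ _) h

/-- the embedding of `k × k` matrices as a block -/
def emb (f : Fin k → Fin n) (A : Matrix (Fin k) (Fin k) K) : Matrix (Fin n) (Fin n) K :=
  1 + PP K f * (A - 1) * (PP K f)ᵀ

theorem emb_one (f : Fin k → Fin n) : emb f (1 : Matrix (Fin k) (Fin k) K) = 1 := by
  unfold emb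
  rw [sub_self, Matrix.mul_zero, Matrix.zero_mul, add_zero]

theorem emb_mul (f : Fin k → Fin n) (hf : Function.Injective f) (A B : Matrix (Fin k) (Fin k) K) :
    emb f (A * B) = emb f A * emb f B := by
  unfold emb
  have h := PPt_mul_PP (K := K) f hf
  have e : (PP K f) * (A - 1) * (PP K f)ᵀ * (PP K f * (B - 1) * (PP K f)ᵀ)
      = PP K f * ((A - 1) * (B - 1)) * (PP K f)ᵀ := by
    calc (PP K f) * (A - 1) * (PP K f)ᵀ * (PP K f * (B - 1) * (PP K f)ᵀ)
        = PP K f * (A - 1) * ((PP K f)ᵀ * PP K f) * (B - 1) * (PP K f)ᵀ := by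
          simp only [Matrix.mul_assoc]
      _ = PP K f * ((A - 1) * (B - 1)) * (PP K f)ᵀ := by
          rw [h, Matrix.mul_one]
          simp only [Matrix.mul_assoc]
  rw [Matrix.add_mul, Matrix.mul_add, Matrix.mul_add, Matrix.one_mul, Matrix.one_mul,
    Matrix.mul_one, e]
  have e2 : A * B - 1 = (B - 1) + ((A - 1) + (A - 1) * (B - 1)) := by
    rw [Matrix.sub_mul, Matrix.mul_sub, Matrix.mul_sub, Matrix.mul_one, Matrix.one_mul,
      Matrix.mul_one]
    abel
  rw [e2, Matrix.mul_add, Matrix.mul_add, Matrix.add_mul, Matrix.add_mul]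
  abel

theorem PP_single_PPt (f : Fin k → Fin n) (i j : Fin k) (c : K) :
    (PP K f) * single i j c * (PP K f)ᵀ = single (f i) (f j) c := by
  ext x y
  have h1 : ∀ w, ((PP K f) * single i j c) x w =
      if w = j then (if x = f i then c else 0) else 0 := by
    intro w
    rw [Matrix.mul_apply]
    by_cases hw : w = j
    · rw [if_pos hw, Finset.sum_eq_single i]
      · rw [PP_apply, single_apply, if_pos (show i = i ∧ j = w from ⟨rfl, hw.symm⟩)]
        split_ifs <;> simp
      · intro v _ hv
        rw [single_apply, if_neg (fun h => hv h.1.symm), mul_zero]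
      · intro h
        exact absurd (Finset.mem_univ _) h
    · rw [if_neg hw]
      apply Finset.sum_eq_zero
      intro v _
      rw [single_apply, if_neg (fun h => hw h.2.symm), mul_zero]
  rw [Matrix.mul_apply, Finset.sum_eq_single j]
  · rw [h1, if_pos rfl, transpose_apply, PP_apply, single_apply]
    by_cases hx : x = f i
    · by_cases hy : y = f j
      · rw [if_pos hx, if_pos hy, if_pos ⟨hx.symm, hy.symm⟩, mul_one]
      · rw [if_neg hy, mul_zero, if_neg (fun h => hy h.2.symm)]
    · rw [if_neg hx, zero_mul, if_neg (fun h => hx h.1.symm)]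
  · intro w _ hw
    rw [h1, if_neg hw, zero_mul]
  · intro h
    exact absurd (Finset.mem_univ _) h

theorem emb_transvection (f : Fin k → Fin n) (i j : Fin k) (c : K) :
    emb f (transvection i j c) = transvection (f i) (f j) c := by
  unfold emb transvection
  rw [add_sub_cancel_left, PP_single_PPt]

theorem emb_det (f : Fin k → Fin n) (hf : Function.Injective f) (A : Matrix (Fin k) (Fin k) K) :
    (emb f A).det = A.det := by
  unfold emb
  have h := PPt_mul_PP (K := K) f hf
  rw [Matrix.mul_assoc, det_one_add_mul_comm, Matrix.mul_assoc, h, Matrix.mul_one, add_sub_cancel]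

theorem PP_mul_PPt_apply (f : Fin k → Fin n) (hf : Function.Injective f)
    (M : Matrix (Fin k) (Fin k) K) (i j : Fin k) :
    (PP K f * M * (PP K f)ᵀ) (f i) (f j) = M i j := by
  rw [Matrix.mul_apply, Finset.sum_eq_single j]
  · rw [transpose_apply, PP_apply, if_pos rfl, mul_one, Matrix.mul_apply, Finset.sum_eq_single i]
    · rw [PP_apply, if_pos rfl, one_mul]
    · intro w _ hw
      rw [PP_apply, if_neg (fun h => hw (hf h).symm), zero_mul]
    · intro h
      exact absurd (Finset.mem_univ _) h
  · intro w _ hw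
    rw [transpose_apply, PP_apply, if_neg (fun h => hw (hf h).symm), mul_zero]
  · intro h
    exact absurd (Finset.mem_univ _) h

theorem PP_mul_PPt_apply_left (f : Fin k → Fin n) (M : Matrix (Fin k) (Fin k) K) (x y : Fin n)
    (hx : ∀ i, f i ≠ x) : (PP K f * M * (PP K f)ᵀ) x y = 0 := by
  rw [Matrix.mul_apply]
  apply Finset.sum_eq_zero
  intro w _
  rw [Matrix.mul_apply, Finset.sum_eq_zero, zero_mul]
  intro v _
  rw [PP_apply, if_neg (fun h => hx v h.symm), zero_mul]

theorem PP_mul_PPt_apply_right (f : Fin k → Fin n) (M : Matrix (Fin k) (Fin k) K) (x y : Fin n)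
    (hy : ∀ i, f i ≠ y) : (PP K f * M * (PP K f)ᵀ) x y = 0 := by
  rw [Matrix.mul_apply]
  apply Finset.sum_eq_zero
  intro w _
  rw [transpose_apply, PP_apply, if_neg (fun h => hy w h.symm), mul_zero]

theorem emb_apply_mem (f : Fin k → Fin n) (hf : Function.Injective f)
    (A : Matrix (Fin k) (Fin k) K) (i j : Fin k) : emb f A (f i) (f j) = A i j := by
  unfold emb
  rw [Matrix.add_apply, PP_mul_PPt_apply f hf, Matrix.sub_apply, Matrix.one_apply, Matrix.one_apply]
  by_cases h : i = j
  · rw [if_pos (by rw [h]), if_pos h]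
    ring
  · rw [if_neg (fun h' => h (hf h')), if_neg h]
    ring

theorem emb_apply_left (f : Fin k → Fin n) (A : Matrix (Fin k) (Fin k) K) (x y : Fin n)
    (hx : ∀ i, f i ≠ x) : emb f A x y = (1 : Matrix (Fin n) (Fin n) K) x y := by
  unfold emb
  rw [Matrix.add_apply, PP_mul_PPt_apply_left f _ x y hx, add_zero]

theorem emb_apply_right (f : Fin k → Fin n) (A : Matrix (Fin k) (Fin k) K) (x y : Fin n)
    (hy : ∀ i, f i ≠ y) : emb f A x y = (1 : Matrix (Fin n) (Fin n) K) x y := by
  unfold emb
  rw [Matrix.add_apply, PP_mul_PPt_apply_right f _ x y hy, add_zero]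

theorem adj_sum (σ : K →+* K) {ι : Type*} (s : Finset ι) (F : ι → Matrix (Fin n) (Fin n) K) :
    adj σ (∑ i ∈ s, F i) = ∑ i ∈ s, adj σ (F i) := by
  classical
  induction s using Finset.induction_on with
  | empty => rw [Finset.sum_empty, Finset.sum_empty, adj_zero]
  | insert a s ha ih => rw [Finset.sum_insert ha, Finset.sum_insert ha, adj_add, ih]

/-- compatibility with the adjoint, for a self-dual family of indices -/
theorem adj_emb (σ : K →+* K) (f : Fin k → Fin n) (hfd : ∀ i, f i.rev = (f i).rev)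
    (A : Matrix (Fin k) (Fin k) K) : adj σ (emb f A) = emb f (adj σ A) := by
  have key : ∀ M : Matrix (Fin k) (Fin k) K,
      adj σ (PP K f * M * (PP K f)ᵀ) = PP K f * adj σ M * (PP K f)ᵀ := by
    intro M
    conv_lhs => rw [matrix_eq_sum_single M]
    conv_rhs => rw [matrix_eq_sum_single M]
    simp only [Matrix.mul_sum, Matrix.sum_mul, adj_sum, PP_single_PPt, adj_single, hfd]
  unfold emb
  rw [adj_add, adj_one, key, adj_sub, adj_one]

section finite

variable [Finite K] {σ : K →+* K}

/-- the embedding of the small unitary group -/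
def embG (f : Fin k → Fin n) (hf : Function.Injective f) (hfd : ∀ i, f i.rev = (f i).rev) :
    GG k σ →* GG n σ where
  toFun g := mk (emb f (mt g)) (by rw [emb_det f hf, mt_det]) (by
    rw [adj_emb σ f hfd, ← emb_mul f hf, mt_unit, emb_one])
  map_one' := by
    apply mt_injective
    rw [mt_mk, mt_one, mt_one, emb_one]
  map_mul' g h := by
    apply mt_injective
    rw [mt_mk, mt_mul, mt_mul, mt_mk, mt_mk, emb_mul f hf]

theorem mt_embG (f : Fin k → Fin n) (hf : Function.Injective f) (hfd : ∀ i, f i.rev = (f i).rev)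
    (g : GG k σ) : mt (embG f hf hfd g) = emb f (mt g) := rfl

theorem emb_xM (σ : K →+* K) (f : Fin k → Fin n) (hfd : ∀ i, f i.rev = (f i).rev) (i j : Fin k)
    (t s : K) : emb f (xM σ i j t s) = xM σ (f i) (f j) t s := by
  unfold emb xM nM
  rw [add_sub_cancel_left, Matrix.mul_add, Matrix.mul_sub, Matrix.add_mul, Matrix.sub_mul,
    PP_single_PPt, PP_single_PPt, PP_single_PPt, hfd, hfd]

theorem embG_xx (hσ : ∀ x, σ (σ x) = x) (f : Fin k → Fin n) (hf : Function.Injective f)
    (hfd : ∀ i, f i.rev = (f i).rev) (i j : Fin k) (t s : K) (h : Valid σ i j t s)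
    (h' : Valid σ (f i) (f j) t s) :
    embG f hf hfd (xx hσ i j t s h) = xx hσ (f i) (f j) t s h' := by
  apply mt_injective
  rw [mt_embG, mt_xx, mt_xx, emb_xM σ f hfd]

theorem embG_xl (hσ : ∀ x, σ (σ x) = x) (f : Fin k → Fin n) (hf : Function.Injective f)
    (hfd : ∀ i, f i.rev = (f i).rev) (i : Fin k) (s : K) (hii : i ≠ i.rev) (hs : s + σ s = 0)
    (hii' : f i ≠ (f i).rev) :
    embG f hf hfd (xl hσ i s hii hs) = xl hσ (f i) s hii' hs := by
  apply mt_injective
  rw [mt_embG, mt_xl, mt_xl, emb_transvection, hfd]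

end finite

end Cfsg.Agent.H9.SUg
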