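import Cfsg.Agent.H9.SUg

/-!
# Torus elements of the special unitary group as products of root elements
-/

set_option autoImplicit false
set_option linter.unusedSimpArgs false
set_option linter.unusedVariables false
set_option linter.unusedSectionVars false
set_option linter.style.haveILetI false
set_option linter.unreachableTactic false
set_option linter.unusedTactic false

namespace Cfsg.Agent.H9.SUh

open Matrix Cfsg.Agent.H9.SLnA Cfsg.Agent.H9.SLnB Cfsg.Agent.H9.SpB Cfsg.Agent.H9.SUa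
  Cfsg.Agent.H9.SUb Cfsg.Agent.H9.SUc Cfsg.Agent.H9.SUd Cfsg.Agent.H9.SUg

variable {n : ℕ} {K : Type*} [Field K]

/-! ### Explicit small matrices -/

theorem xM4_01 (σ : K →+* K) (t s : K) :
    xM σ (0 : Fin 4) 1 t s = !![1, t, 0, s; 0, 1, 0, 0; 0, 0, 1, -σ t; 0, 0, 0, 1] := by
  ext i j
  fin_cases i <;> fin_cases j <;> simp [xM, nM, single_apply, Fin.rev]

theorem xM4_10 (σ : K →+* K) (t s : K) :
    xM σ (1 : Fin 4) 0 t s = !![1, 0, 0, 0; t, 1, s, 0; 0, 0, 1, 0; 0, 0, -σ t, 1] := by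
  ext i j
  fin_cases i <;> fin_cases j <;> simp [xM, nM, single_apply, Fin.rev]

theorem h4_mat (σ : K →+* K) (c : K) (hc : c ≠ 0) :
    xM σ (1 : Fin 4) 0 (c⁻¹ - 1) 0 * xM σ 0 1 1 0 * xM σ 1 0 (c - 1) 0 * xM σ 0 1 (-c⁻¹) 0
      = Matrix.diagonal ![c, c⁻¹, σ c, (σ c)⁻¹] := by
  have hsc : σ c ≠ 0 := (map_ne_zero σ).mpr hc
  rw [xM4_01, xM4_10, xM4_01, xM4_10]
  ext i j
  fin_cases i <;> fin_cases j <;>
    simp [Matrix.mul_apply, Fin.sum_univ_four, map_sub, map_inv₀, map_neg] <;>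
    first | done | (field_simp; done) | (field_simp; ring1) | (left; field_simp; ring1)

theorem T2_01 (s : K) :
    (transvection (0 : Fin 2) 1 s : Matrix (Fin 2) (Fin 2) K) = !![1, s; 0, 1] := by
  ext i j
  fin_cases i <;> fin_cases j <;> simp [transvection, single_apply]

theorem T2_10 (s : K) :
    (transvection (1 : Fin 2) 0 s : Matrix (Fin 2) (Fin 2) K) = !![1, 0; s, 1] := by
  ext i j
  fin_cases i <;> fin_cases j <;> simp [transvection, single_apply]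

theorem h2_mat (c ε : K) (hc : c ≠ 0) (hε : ε ≠ 0) :
    (transvection (1 : Fin 2) 0 (ε⁻¹ * (c⁻¹ - 1)) : Matrix (Fin 2) (Fin 2) K) * transvection 0 1 ε *
      transvection 1 0 (ε⁻¹ * (c - 1)) * transvection 0 1 (-(ε * c⁻¹))
      = Matrix.diagonal ![c, c⁻¹] := by
  rw [T2_01, T2_10, T2_01, T2_10]
  ext i j
  fin_cases i <;> fin_cases j <;>
    simp [Matrix.mul_apply, Fin.sum_univ_two] <;>
    first | done | (field_simp; done) | (field_simp; ring1) | (left; field_simp; ring1)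

theorem xM3_01 (σ : K →+* K) (t s : K) :
    xM σ (0 : Fin 3) 1 t s = !![1, t, s; 0, 1, -σ t; 0, 0, 1] := by
  ext i j
  fin_cases i <;> fin_cases j <;> simp [xM, nM, single_apply, Fin.rev]

theorem xM3_21 (σ : K →+* K) (t s : K) :
    xM σ (2 : Fin 3) 1 t s = !![1, 0, 0; -σ t, 1, 0; s, t, 1] := by
  ext i j
  fin_cases i <;> fin_cases j <;> simp [xM, nM, single_apply, Fin.rev]

theorem n3_mat (σ : K →+* K) (hσ : ∀ x, σ (σ x) = x) (t s : K) (hs : s ≠ 0)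
    (h : s + σ s + t * σ t = 0) :
    xM σ (2 : Fin 3) 1 (-(t / σ s)) (σ s)⁻¹ * xM σ 0 1 t s * xM σ 2 1 (-(t / s)) (σ s)⁻¹
      = !![0, 0, s; 0, -(σ s / s), 0; (σ s)⁻¹, 0, 0] := by
  have hss : σ s ≠ 0 := (map_ne_zero σ).mpr hs
  rw [xM3_01, xM3_21, xM3_21]
  ext i j
  fin_cases i <;> fin_cases j <;>
    simp [Matrix.mul_apply, Fin.sum_univ_three, map_neg, map_div₀, hσ] <;>
    first | done | (field_simp; done) | (field_simp; ring1) | (field_simp; linear_combination h) |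
      (field_simp; linear_combination -h) | (field_simp; linear_combination (t) * h) |
      (field_simp; linear_combination (σ t) * h) | (field_simp; linear_combination (-t) * h)

theorem adj3_anti (σ : K →+* K) (a b c : K) :
    adj σ (!![0, 0, a; 0, b, 0; c, 0, 0] : Matrix (Fin 3) (Fin 3) K)
      = !![0, 0, σ a; 0, σ b, 0; σ c, 0, 0] := by
  ext i j
  fin_cases i <;> fin_cases j <;> simp [adj_apply, Fin.rev]

theorem h3_mat (σ : K →+* K) (hσ : ∀ x, σ (σ x) = x) (s s0 : K) (hs : s ≠ 0) (hs0 : s0 ≠ 0) :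
    (!![0, 0, s; 0, -(σ s / s), 0; (σ s)⁻¹, 0, 0] : Matrix (Fin 3) (Fin 3) K) *
      adj σ (!![0, 0, s0; 0, -(σ s0 / s0), 0; (σ s0)⁻¹, 0, 0])
      = Matrix.diagonal ![s / s0, (σ s / s) * (s0 / σ s0), σ s0 / σ s] := by
  have hss : σ s ≠ 0 := (map_ne_zero σ).mpr hs
  have hss0 : σ s0 ≠ 0 := (map_ne_zero σ).mpr hs0
  rw [adj3_anti]
  ext i j
  fin_cases i <;> fin_cases j <;>
    simp [Matrix.mul_apply, Fin.sum_univ_three, map_neg, map_div₀, map_inv₀, hσ] <;>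
    first | done | (field_simp; done) | (field_simp; ring1)

/-! ### Entries of embedded diagonal matrices -/

theorem emb_diagonal_apply_ne {k : ℕ} (f : Fin k → Fin n) (hf : Function.Injective f)
    (d : Fin k → K) (x y : Fin n) (hxy : x ≠ y) : emb f (Matrix.diagonal d) x y = 0 := by
  by_cases hx : ∃ i, f i = x
  · obtain ⟨i, rfl⟩ := hx
    by_cases hy : ∃ j, f j = y
    · obtain ⟨j, rfl⟩ := hy
      rw [emb_apply_mem f hf, Matrix.diagonal_apply_ne]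
      intro h
      exact hxy (by rw [h])
    · rw [emb_apply_right f _ _ _ (fun j h => hy ⟨j, h⟩), Matrix.one_apply_ne hxy]
  · rw [emb_apply_left f _ _ _ (fun j h => hx ⟨j, h⟩), Matrix.one_apply_ne hxy]

theorem emb_diagonal_apply_mem {k : ℕ} (f : Fin k → Fin n) (hf : Function.Injective f)
    (d : Fin k → K) (i : Fin k) : emb f (Matrix.diagonal d) (f i) (f i) = d i := by
  rw [emb_apply_mem f hf, Matrix.diagonal_apply_eq]

theorem emb_diagonal_apply_not_mem {k : ℕ} (f : Fin k → Fin n) (d : Fin k → K) (x : Fin n)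
    (hx : ∀ i, f i ≠ x) : emb f (Matrix.diagonal d) x x = 1 := by
  rw [emb_apply_left f _ _ _ hx, Matrix.one_apply_eq]

/-! ### Index families -/

theorem inj4 (a b : Fin n) (hab : a ≠ b) (haa : a ≠ a.rev) (hbb : b ≠ b.rev) (hab' : a ≠ b.rev) :
    Function.Injective ![a, b, b.rev, a.rev] := by
  have h1 : b ≠ a.rev := fun h => hab' (by rw [h, Fin.rev_rev])
  have h2 : b.rev ≠ a.rev := fun h => hab (Fin.rev_injective h).symm
  intro i j h
  fin_cases i <;> fin_cases j <;> first | rfl | (exfalso; revert h; simp; first | exact hab | exact hab.symm | exact haa | exact haa.symm | exact hbb | exact hbb.symm | exact hab' | exact hab'.symm | exact h1 | exact h1.symm | exact h2 | exact h2.symm)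

theorem dual4 (a b : Fin n) : ∀ i : Fin 4, ![a, b, b.rev, a.rev] i.rev = (![a, b, b.rev, a.rev] i).rev := by
  intro i
  fin_cases i <;> simp [Fin.rev_rev] <;> rfl

theorem inj2 (a : Fin n) (haa : a ≠ a.rev) : Function.Injective ![a, a.rev] := by
  intro i j h
  fin_cases i <;> fin_cases j <;>
    first | rfl | (exfalso; revert h; simp; first | exact haa | exact haa.symm)

theorem dual2 (a : Fin n) : ∀ i : Fin 2, ![a, a.rev] i.rev = (![a, a.rev] i).rev := by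
  intro i
  fin_cases i <;> simp [Fin.rev_rev] <;> rfl

theorem inj3 (a c : Fin n) (hac : a ≠ c) (haa : a ≠ a.rev) (hcc : c = c.rev) :
    Function.Injective ![a, c, a.rev] := by
  have h1 : c ≠ a.rev := fun h => hac (by rw [hcc, h, Fin.rev_rev])
  intro i j h
  fin_cases i <;> fin_cases j <;>
    first | rfl | (exfalso; revert h; simp; first | exact hac | exact hac.symm | exact haa | exact haa.symm | exact h1 | exact h1.symm)

theorem dual3 (a c : Fin n) (hcc : c = c.rev) :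
    ∀ i : Fin 3, ![a, c, a.rev] i.rev = (![a, c, a.rev] i).rev := by
  intro i
  fin_cases i
  · rfl
  · exact hcc
  · show a = a.rev.rev
    rw [Fin.rev_rev]

/-! ### Matrix identities in dimension `n` -/

theorem emb_xM' {k : ℕ} (σ : K →+* K) (f : Fin k → Fin n) (hfd : ∀ i, f i.rev = (f i).rev)
    (i j : Fin k) (t s : K) : emb f (xM σ i j t s) = xM σ (f i) (f j) t s := by
  unfold emb xM nM
  rw [add_sub_cancel_left, Matrix.mul_add, Matrix.mul_sub, Matrix.add_mul, Matrix.sub_mul,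
    PP_single_PPt, PP_single_PPt, PP_single_PPt, hfd, hfd]

/-- the torus element for a pair of indices, as a product of four root matrices -/
theorem tor4_mat (σ : K →+* K) (a b : Fin n) (hab : a ≠ b) (haa : a ≠ a.rev) (hbb : b ≠ b.rev)
    (hab' : a ≠ b.rev) (c : K) (hc : c ≠ 0) :
    xM σ b a (c⁻¹ - 1) 0 * xM σ a b 1 0 * xM σ b a (c - 1) 0 * xM σ a b (-c⁻¹) 0
      = emb ![a, b, b.rev, a.rev] (Matrix.diagonal ![c, c⁻¹, σ c, (σ c)⁻¹]) := by
  have hf := inj4 a b hab haa hbb hab'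
  have hfd := dual4 a b
  rw [← h4_mat σ c hc, emb_mul _ hf, emb_mul _ hf, emb_mul _ hf, emb_xM' σ _ hfd, emb_xM' σ _ hfd,
    emb_xM' σ _ hfd, emb_xM' σ _ hfd]
  rfl

/-- the torus element of a long root, as a product of four transvections -/
theorem tor2_mat (a : Fin n) (haa : a ≠ a.rev) (c ε : K) (hc : c ≠ 0) (hε : ε ≠ 0) :
    (transvection a.rev a (ε⁻¹ * (c⁻¹ - 1)) : Matrix (Fin n) (Fin n) K) * transvection a a.rev ε *
      transvection a.rev a (ε⁻¹ * (c - 1)) * transvection a a.rev (-(ε * c⁻¹))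
      = emb ![a, a.rev] (Matrix.diagonal ![c, c⁻¹]) := by
  have hf := inj2 a haa
  rw [← h2_mat c ε hc hε, emb_mul _ hf, emb_mul _ hf, emb_mul _ hf, emb_transvection,
    emb_transvection, emb_transvection, emb_transvection]
  rfl

/-- the monomial element of the middle `SU₃` -/
theorem nn3_mat (σ : K →+* K) (hσ : ∀ x, σ (σ x) = x) (a c : Fin n) (hac : a ≠ c)
    (haa : a ≠ a.rev) (hcc : c = c.rev) (t s : K) (hs : s ≠ 0) (h : s + σ s + t * σ t = 0) :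
    xM σ a.rev c (-(t / σ s)) (σ s)⁻¹ * xM σ a c t s * xM σ a.rev c (-(t / s)) (σ s)⁻¹
      = emb ![a, c, a.rev] (!![0, 0, s; 0, -(σ s / s), 0; (σ s)⁻¹, 0, 0]) := by
  have hf := inj3 a c hac haa hcc
  have hfd := dual3 a c hcc
  rw [← n3_mat σ hσ t s hs h, emb_mul _ hf, emb_mul _ hf, emb_xM' σ _ hfd, emb_xM' σ _ hfd,
    emb_xM' σ _ hfd]
  rfl

/-! ### Trace-zero elements -/

theorem tz_mul (σ : K →+* K) {ε : K} (hε2 : ε + σ ε = 0) (y : K) (hy : σ y = y) :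
    ε * y + σ (ε * y) = 0 := by
  rw [map_mul, hy]
  linear_combination y * hε2

theorem tz_inv_mul (σ : K →+* K) {ε : K} (hε2 : ε + σ ε = 0) (y : K) (hy : σ y = y) :
    ε⁻¹ * y + σ (ε⁻¹ * y) = 0 := by
  have h1 : σ ε = -ε := by linear_combination hε2
  rw [map_mul, hy, map_inv₀, h1, inv_neg]
  ring

theorem tz_neg (σ : K →+* K) {s : K} (hs : s + σ s = 0) : -s + σ (-s) = 0 := by
  rw [map_neg]
  linear_combination -hs

section finite

variable [Finite K] {σ : K →+* K}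

theorem valid_zero (i j : Fin n) (hij : i ≠ j) (hii : i ≠ i.rev) (hji : j ≠ i.rev)
    (hjj : j ≠ j.rev) (t : K) : Valid σ i j t 0 :=
  ⟨hij, hii, hji, by rw [if_neg hjj, map_zero, add_zero, add_zero]⟩

theorem ne_rev_of_ne_rev {a b : Fin n} (h : a ≠ b.rev) : b ≠ a.rev :=
  fun h' => h (by rw [h', Fin.rev_rev])

/-- the torus element for a pair of indices -/
def tor4 (hσ : ∀ x, σ (σ x) = x) (a b : Fin n) (hab : a ≠ b) (haa : a ≠ a.rev) (hbb : b ≠ b.rev)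
    (hab' : a ≠ b.rev) (c : K) : GG n σ :=
  xx hσ b a (c⁻¹ - 1) 0 (valid_zero b a hab.symm hbb hab' haa _) *
    xx hσ a b 1 0 (valid_zero a b hab haa (ne_rev_of_ne_rev hab') hbb _) *
    xx hσ b a (c - 1) 0 (valid_zero b a hab.symm hbb hab' haa _) *
    xx hσ a b (-c⁻¹) 0 (valid_zero a b hab haa (ne_rev_of_ne_rev hab') hbb _)

theorem mt_tor4 (hσ : ∀ x, σ (σ x) = x) (a b : Fin n) (hab : a ≠ b) (haa : a ≠ a.rev)
    (hbb : b ≠ b.rev) (hab' : a ≠ b.rev) (c : K) (hc : c ≠ 0) :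
    mt (tor4 hσ a b hab haa hbb hab' c) =
      emb ![a, b, b.rev, a.rev] (Matrix.diagonal ![c, c⁻¹, σ c, (σ c)⁻¹]) := by
  unfold tor4
  rw [mt_mul, mt_mul, mt_mul, mt_xx, mt_xx, mt_xx, mt_xx]
  exact tor4_mat σ a b hab haa hbb hab' c hc

theorem tor4_mem (hσ : ∀ x, σ (σ x) = x) (a b : Fin n) (hab : a ≠ b) (haa : a ≠ a.rev)
    (hbb : b ≠ b.rev) (hab' : a ≠ b.rev) (c : K) (H : Subgroup (GG n σ))
    (h1 : ∀ (t : K) (hv : Valid σ a b t 0), xx hσ a b t 0 hv ∈ H)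
    (h2 : ∀ (t : K) (hv : Valid σ b a t 0), xx hσ b a t 0 hv ∈ H) :
    tor4 hσ a b hab haa hbb hab' c ∈ H := by
  unfold tor4
  exact H.mul_mem (H.mul_mem (H.mul_mem (h2 _ _) (h1 _ _)) (h2 _ _)) (h1 _ _)

theorem tor4_apply_ne (hσ : ∀ x, σ (σ x) = x) (a b : Fin n) (hab : a ≠ b) (haa : a ≠ a.rev)
    (hbb : b ≠ b.rev) (hab' : a ≠ b.rev) (c : K) (hc : c ≠ 0) (x y : Fin n) (hxy : x ≠ y) :
    mt (tor4 hσ a b hab haa hbb hab' c) x y = 0 := by
  rw [mt_tor4 hσ a b hab haa hbb hab' c hc]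
  exact emb_diagonal_apply_ne _ (inj4 a b hab haa hbb hab') _ x y hxy

theorem tor4_apply_a (hσ : ∀ x, σ (σ x) = x) (a b : Fin n) (hab : a ≠ b) (haa : a ≠ a.rev)
    (hbb : b ≠ b.rev) (hab' : a ≠ b.rev) (c : K) (hc : c ≠ 0) :
    mt (tor4 hσ a b hab haa hbb hab' c) a a = c := by
  rw [mt_tor4 hσ a b hab haa hbb hab' c hc]
  exact emb_diagonal_apply_mem _ (inj4 a b hab haa hbb hab') _ 0

theorem tor4_apply_b (hσ : ∀ x, σ (σ x) = x) (a b : Fin n) (hab : a ≠ b) (haa : a ≠ a.rev)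
    (hbb : b ≠ b.rev) (hab' : a ≠ b.rev) (c : K) (hc : c ≠ 0) :
    mt (tor4 hσ a b hab haa hbb hab' c) b b = c⁻¹ := by
  rw [mt_tor4 hσ a b hab haa hbb hab' c hc]
  exact emb_diagonal_apply_mem _ (inj4 a b hab haa hbb hab') _ 1

theorem tor4_apply_other (hσ : ∀ x, σ (σ x) = x) (a b : Fin n) (hab : a ≠ b) (haa : a ≠ a.rev)
    (hbb : b ≠ b.rev) (hab' : a ≠ b.rev) (c : K) (hc : c ≠ 0) (x : Fin n) (h1 : x ≠ a)
    (h2 : x ≠ b) (h3 : x ≠ b.rev) (h4 : x ≠ a.rev) :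
    mt (tor4 hσ a b hab haa hbb hab' c) x x = 1 := by
  rw [mt_tor4 hσ a b hab haa hbb hab' c hc]
  apply emb_diagonal_apply_not_mem
  intro i
  fin_cases i
  · exact h1.symm
  · exact h2.symm
  · exact h3.symm
  · exact h4.symm

/-- the torus element of a long root -/
def tor2 (hσ : ∀ x, σ (σ x) = x) (a : Fin n) (haa : a ≠ a.rev) (ε : K) (hε2 : ε + σ ε = 0)
    (c : K) (hcσ : σ c = c) : GG n σ :=
  have haa' : a.rev ≠ a.rev.rev := by rw [Fin.rev_rev]; exact haa.symm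
  xl hσ a.rev (ε⁻¹ * (c⁻¹ - 1)) haa' (tz_inv_mul σ hε2 _ (by rw [map_sub, map_inv₀, hcσ, map_one])) *
    xl hσ a ε haa hε2 *
    xl hσ a.rev (ε⁻¹ * (c - 1)) haa' (tz_inv_mul σ hε2 _ (by rw [map_sub, hcσ, map_one])) *
    xl hσ a (-(ε * c⁻¹)) haa (tz_neg σ (tz_mul σ hε2 _ (by rw [map_inv₀, hcσ])))

theorem mt_tor2 (hσ : ∀ x, σ (σ x) = x) (a : Fin n) (haa : a ≠ a.rev) (ε : K) (hε2 : ε + σ ε = 0)
    (c : K) (hcσ : σ c = c) (hc : c ≠ 0) (hε : ε ≠ 0) :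
    mt (tor2 hσ a haa ε hε2 c hcσ) = emb ![a, a.rev] (Matrix.diagonal ![c, c⁻¹]) := by
  unfold tor2
  rw [mt_mul, mt_mul, mt_mul, mt_xl, mt_xl, mt_xl, mt_xl, Fin.rev_rev]
  exact tor2_mat a haa c ε hc hε

theorem tor2_mem (hσ : ∀ x, σ (σ x) = x) (a : Fin n) (haa : a ≠ a.rev) (ε : K) (hε2 : ε + σ ε = 0)
    (c : K) (hcσ : σ c = c) (H : Subgroup (GG n σ))
    (h1 : ∀ (s : K) (hs : s + σ s = 0), xl hσ a s haa hs ∈ H)
    (h2 : ∀ (s : K) (haa' : a.rev ≠ a.rev.rev) (hs : s + σ s = 0), xl hσ a.rev s haa' hs ∈ H) :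
    tor2 hσ a haa ε hε2 c hcσ ∈ H := by
  unfold tor2
  exact H.mul_mem (H.mul_mem (H.mul_mem (h2 _ _ _) (h1 _ _)) (h2 _ _ _)) (h1 _ _)

theorem tor2_apply_ne (hσ : ∀ x, σ (σ x) = x) (a : Fin n) (haa : a ≠ a.rev) (ε : K)
    (hε2 : ε + σ ε = 0) (c : K) (hcσ : σ c = c) (hc : c ≠ 0) (hε : ε ≠ 0) (x y : Fin n)
    (hxy : x ≠ y) : mt (tor2 hσ a haa ε hε2 c hcσ) x y = 0 := by
  rw [mt_tor2 hσ a haa ε hε2 c hcσ hc hε]
  exact emb_diagonal_apply_ne _ (inj2 a haa) _ x y hxy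

theorem tor2_apply_a (hσ : ∀ x, σ (σ x) = x) (a : Fin n) (haa : a ≠ a.rev) (ε : K)
    (hε2 : ε + σ ε = 0) (c : K) (hcσ : σ c = c) (hc : c ≠ 0) (hε : ε ≠ 0) :
    mt (tor2 hσ a haa ε hε2 c hcσ) a a = c := by
  rw [mt_tor2 hσ a haa ε hε2 c hcσ hc hε]
  exact emb_diagonal_apply_mem _ (inj2 a haa) _ 0

theorem tor2_apply_other (hσ : ∀ x, σ (σ x) = x) (a : Fin n) (haa : a ≠ a.rev) (ε : K)
    (hε2 : ε + σ ε = 0) (c : K) (hcσ : σ c = c) (hc : c ≠ 0) (hε : ε ≠ 0) (x : Fin n)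
    (h1 : x ≠ a) (h2 : x ≠ a.rev) : mt (tor2 hσ a haa ε hε2 c hcσ) x x = 1 := by
  rw [mt_tor2 hσ a haa ε hε2 c hcσ hc hε]
  apply emb_diagonal_apply_not_mem
  intro i
  fin_cases i
  · exact h1.symm
  · exact h2.symm

omit [Finite K] in
theorem valid_low (hσ : ∀ x, σ (σ x) = x) (a c : Fin n) (hac : a ≠ c)
    (haa : a ≠ a.rev) (hcc : c = c.rev) (t s : K) (hs : s ≠ 0) (h : s + σ s + t * σ t = 0) (r : K)
    (hr : r * σ r = s * σ s) : Valid σ a.rev c (-(t / r)) (σ s)⁻¹ := by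
  have hss : σ s ≠ 0 := (map_ne_zero σ).mpr hs
  have hr0 : r ≠ 0 := by
    intro h0
    rw [h0, zero_mul] at hr
    exact mul_ne_zero hs hss hr.symm
  have hsr : σ r ≠ 0 := (map_ne_zero σ).mpr hr0
  refine ⟨?_, ?_, ?_, ?_⟩
  · intro h'
    apply hac
    rw [hcc, ← h', Fin.rev_rev]
  · rw [Fin.rev_rev]
    exact haa.symm
  · rw [Fin.rev_rev]
    exact hac.symm
  · rw [if_pos hcc, map_inv₀, hσ, map_neg, map_div₀]
    field_simp
    linear_combination (s * σ s) * h + (s + σ s) * hr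

omit [Finite K] in
theorem valid_mid (a c : Fin n) (hac : a ≠ c) (haa : a ≠ a.rev) (hcc : c = c.rev) (t s : K)
    (h : s + σ s + t * σ t = 0) : Valid σ a c t s := by
  refine ⟨hac, haa, ?_, ?_⟩
  · intro h'
    apply hac
    rw [hcc, h', Fin.rev_rev]
  · rw [if_pos hcc]
    exact h

/-- the monomial element of the middle `SU₃` -/
def nn3 (hσ : ∀ x, σ (σ x) = x) (a c : Fin n) (hac : a ≠ c) (haa : a ≠ a.rev) (hcc : c = c.rev)
    (t s : K) (hs : s ≠ 0) (h : s + σ s + t * σ t = 0) : GG n σ :=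
  xx hσ a.rev c (-(t / σ s)) (σ s)⁻¹
      (valid_low hσ a c hac haa hcc t s hs h (σ s) (by rw [hσ, mul_comm])) *
    xx hσ a c t s (valid_mid a c hac haa hcc t s h) *
    xx hσ a.rev c (-(t / s)) (σ s)⁻¹ (valid_low hσ a c hac haa hcc t s hs h s rfl)

theorem mt_nn3 (hσ : ∀ x, σ (σ x) = x) (a c : Fin n) (hac : a ≠ c) (haa : a ≠ a.rev)
    (hcc : c = c.rev) (t s : K) (hs : s ≠ 0) (h : s + σ s + t * σ t = 0) :
    mt (nn3 hσ a c hac haa hcc t s hs h) =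
      emb ![a, c, a.rev] (!![0, 0, s; 0, -(σ s / s), 0; (σ s)⁻¹, 0, 0]) := by
  unfold nn3
  rw [mt_mul, mt_mul, mt_xx, mt_xx, mt_xx]
  exact nn3_mat σ hσ a c hac haa hcc t s hs h

theorem tz_zero {s0 : K} (hs0 : s0 + σ s0 = 0) : s0 + σ s0 + 0 * σ 0 = 0 := by
  rw [zero_mul, add_zero]
  exact hs0

/-- the torus element of the middle `SU₃` -/
def tor3 (hσ : ∀ x, σ (σ x) = x) (a c : Fin n) (hac : a ≠ c) (haa : a ≠ a.rev) (hcc : c = c.rev)
    (t s : K) (hs : s ≠ 0) (h : s + σ s + t * σ t = 0) (s0 : K) (hs0 : s0 ≠ 0)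
    (h0 : s0 + σ s0 = 0) : GG n σ :=
  nn3 hσ a c hac haa hcc t s hs h * (nn3 hσ a c hac haa hcc 0 s0 hs0 (tz_zero h0))⁻¹

theorem mt_tor3 (hσ : ∀ x, σ (σ x) = x) (a c : Fin n) (hac : a ≠ c) (haa : a ≠ a.rev)
    (hcc : c = c.rev) (t s : K) (hs : s ≠ 0) (h : s + σ s + t * σ t = 0) (s0 : K) (hs0 : s0 ≠ 0)
    (h0 : s0 + σ s0 = 0) :
    mt (tor3 hσ a c hac haa hcc t s hs h s0 hs0 h0) =
      emb ![a, c, a.rev] (Matrix.diagonal ![s / s0, (σ s / s) * (s0 / σ s0), σ s0 / σ s]) := by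
  unfold tor3
  rw [mt_mul, mt_inv, mt_nn3, mt_nn3, adj_emb σ _ (dual3 a c hcc),
    ← emb_mul _ (inj3 a c hac haa hcc), h3_mat σ hσ s s0 hs hs0]

theorem tor3_mem (hσ : ∀ x, σ (σ x) = x) (a c : Fin n) (hac : a ≠ c) (haa : a ≠ a.rev)
    (hcc : c = c.rev) (t s : K) (hs : s ≠ 0) (h : s + σ s + t * σ t = 0) (s0 : K) (hs0 : s0 ≠ 0)
    (h0 : s0 + σ s0 = 0) (H : Subgroup (GG n σ))
    (h1 : ∀ (t s : K) (hv : Valid σ a c t s), xx hσ a c t s hv ∈ H)
    (h2 : ∀ (t s : K) (hv : Valid σ a.rev c t s), xx hσ a.rev c t s hv ∈ H) :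
    tor3 hσ a c hac haa hcc t s hs h s0 hs0 h0 ∈ H := by
  unfold tor3 nn3
  exact H.mul_mem (H.mul_mem (H.mul_mem (h2 _ _ _) (h1 _ _ _)) (h2 _ _ _))
    (H.inv_mem (H.mul_mem (H.mul_mem (h2 _ _ _) (h1 _ _ _)) (h2 _ _ _)))

theorem tor3_apply_ne (hσ : ∀ x, σ (σ x) = x) (a c : Fin n) (hac : a ≠ c) (haa : a ≠ a.rev)
    (hcc : c = c.rev) (t s : K) (hs : s ≠ 0) (h : s + σ s + t * σ t = 0) (s0 : K) (hs0 : s0 ≠ 0)
    (h0 : s0 + σ s0 = 0) (x y : Fin n) (hxy : x ≠ y) :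
    mt (tor3 hσ a c hac haa hcc t s hs h s0 hs0 h0) x y = 0 := by
  rw [mt_tor3]
  exact emb_diagonal_apply_ne _ (inj3 a c hac haa hcc) _ x y hxy

theorem tor3_apply_a (hσ : ∀ x, σ (σ x) = x) (a c : Fin n) (hac : a ≠ c) (haa : a ≠ a.rev)
    (hcc : c = c.rev) (t s : K) (hs : s ≠ 0) (h : s + σ s + t * σ t = 0) (s0 : K) (hs0 : s0 ≠ 0)
    (h0 : s0 + σ s0 = 0) :
    mt (tor3 hσ a c hac haa hcc t s hs h s0 hs0 h0) a a = s / s0 := by
  rw [mt_tor3]
  exact emb_diagonal_apply_mem _ (inj3 a c hac haa hcc) _ 0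

theorem tor3_apply_other (hσ : ∀ x, σ (σ x) = x) (a c : Fin n) (hac : a ≠ c) (haa : a ≠ a.rev)
    (hcc : c = c.rev) (t s : K) (hs : s ≠ 0) (h : s + σ s + t * σ t = 0) (s0 : K) (hs0 : s0 ≠ 0)
    (h0 : s0 + σ s0 = 0) (x : Fin n) (h1 : x ≠ a) (h2 : x ≠ c) (h3 : x ≠ a.rev) :
    mt (tor3 hσ a c hac haa hcc t s hs h s0 hs0 h0) x x = 1 := by
  rw [mt_tor3]
  apply emb_diagonal_apply_not_mem
  intro i
  fin_cases i
  · exact h1.symm
  · exact h2.symm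
  · exact h3.symm

/-- every nonzero scalar is realized by the torus of the middle `SU₃` -/
theorem exists_tor3 (hσ : ∀ x, σ (σ x) = x) (hx0 : ∃ x, σ x ≠ x)
    (hN : ∀ y, σ y = y → ∃ t, t * σ t = y) (l : K) (hl : l ≠ 0) :
    ∃ (t s s0 : K), s ≠ 0 ∧ s + σ s + t * σ t = 0 ∧ s0 ≠ 0 ∧ s0 + σ s0 = 0 ∧ s / s0 = l := by
  obtain ⟨ε, hε, hε2⟩ := exists_eps hσ hx0
  obtain ⟨t, ht⟩ := hN (-(l * ε + σ (l * ε))) (by
    rw [map_neg, map_add, hσ]
    ring)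
  refine ⟨t, l * ε, ε, mul_ne_zero hl hε, ?_, hε, hε2, ?_⟩
  · rw [ht]
    ring
  · field_simp

end finite

end Cfsg.Agent.H9.SUh
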