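import Cfsg.Agent.H9.SUh

/-!
# Eichler calculus in the special unitary group, and the centralizer of the point radical
-/

set_option autoImplicit false
set_option linter.unusedSimpArgs false
set_option linter.unusedVariables false
set_option linter.unusedSectionVars false
set_option linter.style.haveILetI false
set_option linter.unreachableTactic false
set_option linter.unusedTactic false

namespace Cfsg.Agent.H9.SUi

open Matrix Cfsg.Agent.H9.SLnA Cfsg.Agent.H9.SLnB Cfsg.Agent.H9.SpB Cfsg.Agent.H9.SUa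
  Cfsg.Agent.H9.SUb Cfsg.Agent.H9.SUc Cfsg.Agent.H9.SUd Cfsg.Agent.H9.SUe Cfsg.Agent.H9.SUf
  Cfsg.Agent.H9.SUg Cfsg.Agent.H9.SUh

variable {n : ℕ} {K : Type*} [Field K]

local notation "Mn" => Matrix (Fin n) (Fin n) K

/-! ### More Eichler calculus -/

theorem hat_neg (σ : K →+* K) (v : Fin n → K) : hat σ (-v) = -hat σ v := by
  funext b
  rw [hat_apply, Pi.neg_apply, Pi.neg_apply, map_neg, hat_apply]

theorem EM_add_left (σ : K →+* K) (u w : Fin n → K) (s : K) (hs : σ s = -s) (huu : hf σ u u = 0)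
    (hwu : hf σ w u = 0) :
    EM σ (u + w) 0 s = EM σ u 0 s * EM σ w (-(s • u)) s := by
  unfold EM
  unfold hf at huu hwu
  simp only [Matrix.mul_add, Matrix.mul_sub, Matrix.add_mul, Matrix.sub_mul, Matrix.mul_one,
    Matrix.one_mul, Matrix.mul_smul, Matrix.smul_mul, vecMulVec_mul_vecMulVec, huu, hwu,
    zero_smul, smul_zero, vecMulVec_smul, hat_add, vecMulVec_add, add_vecMulVec, sub_zero, add_zero,
    zero_add, sub_smul, add_smul, vecMulVec_zero, zero_vecMulVec, hat_zero, hat_neg, hat_smul, hs,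
    vecMulVec_neg, neg_vecMulVec, smul_vecMulVec, neg_smul, smul_neg, dotProduct_neg, dotProduct_smul,
    Matrix.mul_neg, Matrix.neg_mul, neg_neg, sub_neg_eq_add, neg_zero, smul_add]
  abel

theorem EM_smul_left (σ : K →+* K) (hσ : ∀ x, σ (σ x) = x) (w v : Fin n → K) (a r : K) :
    EM σ (a • w) v r = EM σ w (σ a • v) (r * (a * σ a)) := by
  unfold EM
  simp only [hat_smul, smul_vecMulVec, vecMulVec_smul, smul_smul]
  rw [hσ, mul_comm (σ a) a]

theorem adj_EM (σ : K →+* K) (hσ : ∀ x, σ (σ x) = x) (u v : Fin n → K) (s : K) :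
    adj σ (EM σ u v s) = EM σ u (-v) (σ s) := by
  unfold EM
  rw [adj_add, adj_sub, adj_add, adj_one, adj_smul, adj_vecMulVec σ hσ, adj_vecMulVec σ hσ,
    adj_vecMulVec σ hσ, hat_neg, vecMulVec_neg, neg_vecMulVec]
  abel

theorem EM_zero_zero (σ : K →+* K) (u : Fin n → K) : EM σ u 0 0 = 1 := by
  unfold EM
  rw [hat_zero, vecMulVec_zero, zero_vecMulVec, zero_smul, add_zero, sub_zero, add_zero]

theorem transvection_eq_EM (σ : K →+* K) (hσ : ∀ x, σ (σ x) = x) (i : Fin n) (s : K) :
    (transvection i i.rev s : Mn) = EM σ (Pi.single i 1) 0 s := by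
  have h := xM_eq_EM σ hσ i i 0 s
  rw [map_zero, Pi.single_zero] at h
  rw [← h]
  unfold xM
  rw [nM_zero, transvection]

theorem EM_single_zero (σ : K →+* K) (hσ : ∀ x, σ (σ x) = x) (i : Fin n) (c s : K) :
    EM σ (Pi.single i c) 0 s = (transvection i i.rev (s * (c * σ c)) : Mn) := by
  have e : (Pi.single i c : Fin n → K) = c • Pi.single i 1 := by
    funext x
    rw [Pi.smul_apply, smul_eq_mul]
    by_cases hx : x = i
    · rw [hx, Pi.single_eq_same, Pi.single_eq_same, mul_one]
    · rw [Pi.single_eq_of_ne hx, Pi.single_eq_of_ne hx, mul_zero]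
  rw [e, EM_smul_left σ hσ, smul_zero, ← transvection_eq_EM σ hσ]

theorem hf_single_left (σ : K →+* K) (i : Fin n) (y : Fin n → K) :
    hf σ (Pi.single i 1) y = σ (y i.rev) := by
  unfold hf
  rw [dotProduct_single, mul_one, hat_apply]

theorem hf_single_right (σ : K →+* K) (x : Fin n → K) (i : Fin n) :
    hf σ x (Pi.single i 1) = x i.rev := by
  unfold hf
  rw [hat_single, map_one, single_dotProduct, one_mul]

/-! ### Action on vectors -/

theorem xM_mulVec (σ : K →+* K) (i j : Fin n) (t s : K) (v : Fin n → K) :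
    xM σ i j t s *ᵥ v = v + (t * v j) • Pi.single i (1 : K) - (σ t * v i.rev) • Pi.single j.rev (1 : K)
      + (s * v i.rev) • Pi.single i (1 : K) := by
  unfold xM nM
  rw [Matrix.add_mulVec, Matrix.add_mulVec, Matrix.sub_mulVec, Matrix.one_mulVec,
    single_mulVec_eq, single_mulVec_eq, single_mulVec_eq]
  abel

theorem xM_mulVec_of_zero (σ : K →+* K) (i j : Fin n) (t s : K) (v : Fin n → K) (h1 : v j = 0)
    (h2 : v i.rev = 0) : xM σ i j t s *ᵥ v = v := by
  rw [xM_mulVec, h1, h2, mul_zero, mul_zero, mul_zero, zero_smul, zero_smul, add_zero, sub_zero,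
    add_zero]

theorem transvection_mulVec (i j : Fin n) (c : K) (v : Fin n → K) :
    (transvection i j c : Mn) *ᵥ v = v + (c * v j) • Pi.single i (1 : K) := by
  unfold transvection
  rw [Matrix.add_mulVec, Matrix.one_mulVec, single_mulVec_eq]

/-! ### Entrywise products -/

theorem single_mul_apply' (M : Mn) (i j : Fin n) (c : K) (x y : Fin n) :
    (single i j c * M) x y = if x = i then c * M j y else 0 := by
  rw [Matrix.mul_apply]
  by_cases hx : x = i
  · rw [if_pos hx, Finset.sum_eq_single j]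
    · rw [single_apply, if_pos ⟨hx.symm, rfl⟩]
    · intro w _ hw
      rw [single_apply, if_neg (fun h => hw h.2.symm), zero_mul]
    · intro h
      exact absurd (Finset.mem_univ j) h
  · rw [if_neg hx]
    apply Finset.sum_eq_zero
    intro w _
    rw [single_apply, if_neg (fun h => hx h.1.symm), zero_mul]

theorem nM_mul_apply (σ : K →+* K) (M : Mn) (i j : Fin n) (t s : K) (x y : Fin n) :
    (nM σ i j t s * M) x y = (if x = i then t * M j y else 0)
      - (if x = j.rev then σ t * M i.rev y else 0) + (if x = i then s * M i.rev y else 0) := by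
  unfold nM
  rw [Matrix.add_mul, Matrix.sub_mul, Matrix.add_apply, Matrix.sub_apply, single_mul_apply',
    single_mul_apply', single_mul_apply']

/-- the centralizer of the point radical consists of the matrices `λ + μ E_{oo'}` -/
theorem shape_of_commute (σ : K →+* K) (o : Fin n) (hoo : o ≠ o.rev) (Z : Mn) (ε x0 : K)
    (hε : ε ≠ 0) (hx0 : σ x0 ≠ x0)
    (hl : Z * single o o.rev ε = single o o.rev ε * Z)
    (h1 : ∀ j, j ≠ o → j ≠ o.rev → ∃ s, Z * nM σ o j 1 s = nM σ o j 1 s * Z)
    (h2 : ∀ j, j ≠ o → j ≠ o.rev → ∃ s, Z * nM σ o j x0 s = nM σ o j x0 s * Z) :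
    Z = Z o o • (1 : Mn) + single o o.rev (Z o o.rev) := by
  have hA : ∀ x w : Fin n, (if w = o.rev then Z x o * ε else 0) =
      (if x = o then ε * Z o.rev w else 0) := by
    intro x w
    rw [← SUf.mul_single_apply', hl, single_mul_apply']
  have hrow' : ∀ w, w ≠ o.rev → Z o.rev w = 0 := by
    intro w hw
    have := hA o w
    rw [if_neg hw, if_pos rfl] at this
    rcases mul_eq_zero.mp this.symm with h | h
    · exact absurd h hε
    · exact h
  have hdiag' : Z o.rev o.rev = Z o o := by
    have := hA o o.rev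
    rw [if_pos rfl, if_pos rfl, mul_comm] at this
    exact (mul_left_cancel₀ hε this).symm
  have hB : ∀ j, j ≠ o → j ≠ o.rev → ∀ t s, Z * nM σ o j t s = nM σ o j t s * Z → ∀ y,
      (if y = j then Z o o * t else 0) - (if y = o.rev then Z o j.rev * σ t else 0)
        + (if y = o.rev then Z o o * s else 0) = t * Z j y + s * Z o.rev y := by
    intro j hjo hjo' t s h y
    have := congrFun (congrFun h o) y
    rw [mul_nM_apply, nM_mul_apply, if_pos rfl, if_pos rfl,
      if_neg (fun h' : o = j.rev => hjo' (by rw [h', Fin.rev_rev])), sub_zero] at this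
    exact this
  have hC : ∀ j, j ≠ o → j ≠ o.rev →
      (∀ y, y ≠ j → y ≠ o.rev → Z j y = 0) ∧ Z j j = Z o o ∧ Z j o.rev = 0 ∧ Z o j.rev = 0 := by
    intro j hjo hjo'
    obtain ⟨s1, hs1⟩ := h1 j hjo hjo'
    obtain ⟨s2, hs2⟩ := h2 j hjo hjo'
    have e1 := hB j hjo hjo' 1 s1 hs1
    have e2 := hB j hjo hjo' x0 s2 hs2
    have a1 : ∀ y, y ≠ j → y ≠ o.rev → Z j y = 0 := by
      intro y hyj hyo
      have := e1 y
      rw [if_neg hyj, if_neg hyo, if_neg hyo, hrow' y hyo, mul_zero, add_zero, one_mul, sub_zero,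
        add_zero] at this
      exact this.symm
    have a2 : Z j j = Z o o := by
      have := e1 j
      rw [if_pos rfl, if_neg hjo', if_neg hjo', hrow' j hjo', mul_zero, add_zero, one_mul, sub_zero,
        add_zero, mul_one] at this
      exact this.symm
    have b1 := e1 o.rev
    rw [if_neg hjo'.symm, if_pos rfl, if_pos rfl, hdiag', map_one, mul_one, one_mul] at b1
    have b2 := e2 o.rev
    rw [if_neg hjo'.symm, if_pos rfl, if_pos rfl, hdiag'] at b2
    have c1 : Z j o.rev = -Z o j.rev := by linear_combination -b1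
    have c2 : Z o j.rev * (x0 - σ x0) = 0 := by
      rw [c1] at b2
      linear_combination b2
    have c3 : Z o j.rev = 0 := by
      rcases mul_eq_zero.mp c2 with h | h
      · exact h
      · exact absurd (sub_eq_zero.mp h).symm hx0
    refine ⟨a1, a2, ?_, c3⟩
    rw [c1, c3, neg_zero]
  ext x y
  rw [Matrix.add_apply, Matrix.smul_apply, smul_eq_mul]
  by_cases hxo : x = o
  · subst hxo
    by_cases hy : y = x
    · subst hy
      rw [Matrix.one_apply_eq, single_apply_of_col_ne _ _ hoo.symm, mul_one, add_zero]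
    · rw [Matrix.one_apply_ne (Ne.symm hy), mul_zero, zero_add]
      by_cases hy' : y = x.rev
      · rw [hy', single_apply_same]
      · rw [single_apply_of_col_ne _ _ (Ne.symm hy')]
        have h3 := (hC y.rev (fun h => hy' (by rw [← h, Fin.rev_rev]))
          (fun h => hy (Fin.rev_injective h))).2.2.2
        rw [Fin.rev_rev] at h3
        exact h3
  · rw [single_apply_of_row_ne (Ne.symm hxo), add_zero]
    by_cases hxo' : x = o.rev
    · subst hxo'
      by_cases hy : y = o.rev
      · rw [hy, Matrix.one_apply_eq, mul_one, hdiag']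
      · rw [Matrix.one_apply_ne (Ne.symm hy), mul_zero]
        exact hrow' y hy
    · obtain ⟨a1, a2, a3, -⟩ := hC x hxo hxo'
      by_cases hy : y = x
      · rw [hy, Matrix.one_apply_eq, mul_one, a2]
      · rw [Matrix.one_apply_ne (Ne.symm hy), mul_zero]
        by_cases hy' : y = o.rev
        · rw [hy', a3]
        · exact a1 y hy hy'

/-! ### Entries of the Eichler transformations of the first basis vector -/

theorem EM_o_apply (σ : K →+* K) (o : Fin n) (w : Fin n → K) (s : K) (a b : Fin n) :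
    EM σ (Pi.single o 1) w s a b = (1 : Mn) a b + (if a = o then σ (w b.rev) else 0)
      - (if b = o.rev then w a else 0) + (if a = o ∧ b = o.rev then s else 0) := by
  unfold EM
  rw [Matrix.add_apply, Matrix.sub_apply, Matrix.add_apply, Matrix.smul_apply, vecMulVec_apply,
    vecMulVec_apply, vecMulVec_apply, hat_single, map_one, hat_apply, Pi.single_apply,
    Pi.single_apply, smul_eq_mul]
  by_cases ha : a = o <;> by_cases hb : b = o.rev <;> simp [ha, hb]

theorem rev_max {o : Fin n} (ho : ∀ x : Fin n, o ≤ x) (x : Fin n) : x ≤ o.rev := by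
  have := ho x.rev
  rw [← Fin.rev_le_rev, Fin.rev_rev] at this
  exact this

/-- the elements of the point radical are upper unitriangular -/
theorem isUT_EM_o (σ : K →+* K) (o : Fin n) (ho : ∀ x : Fin n, o ≤ x) (hoo : o ≠ o.rev)
    (w : Fin n → K) (s : K) (hw : w o.rev = 0) : IsUT (EM σ (Pi.single o 1) w s) := by
  intro a b hba
  rw [EM_o_apply, Matrix.one_apply]
  by_cases ha : a = o
  · have hb : b = o := le_antisymm (by rw [← ha]; exact hba) (ho b)
    subst ha
    subst hb
    simp [hw, hoo]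
  · by_cases hb : b = o.rev
    · have ha' : a = o.rev := le_antisymm (rev_max ho a) (by rw [← hb]; exact hba)
      subst hb
      subst ha'
      simp [hw, hoo.symm]
    · simp [ha, hb]

section finite

variable [Finite K] {σ : K →+* K}

theorem mt_conj_EM (g x : GG n σ) (u v : Fin n → K) (s : K) (hx : mt x = EM σ u v s) :
    mt (g * x * g⁻¹) = EM σ (mt g *ᵥ u) (mt g *ᵥ v) s := by
  rw [mt_conj, hx, conj_EM σ _ (mt_unit g)]

theorem mt_xx_EM (hσ : ∀ x, σ (σ x) = x) (i j : Fin n) (t s : K) (h : Valid σ i j t s) :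
    mt (xx hσ i j t s h) = EM σ (Pi.single i 1) (Pi.single j.rev (σ t)) s := by
  rw [mt_xx, xM_eq_EM σ hσ]

theorem mt_xl_EM (hσ : ∀ x, σ (σ x) = x) (i : Fin n) (s : K) (hii : i ≠ i.rev)
    (hs : s + σ s = 0) : mt (xl hσ i s hii hs) = EM σ (Pi.single i 1) 0 s := by
  rw [mt_xl, transvection_eq_EM σ hσ]

/-- an element whose matrix is a long root transvection -/
theorem eq_xl_of_mt (hσ : ∀ x, σ (σ x) = x) (i : Fin n) (hii : i ≠ i.rev) (g : GG n σ) (μ : K)
    (h : mt g = transvection i i.rev μ) : ∃ hs : μ + σ μ = 0, g = xl hσ i μ hii hs := by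
  have h1 := mt_unit g
  rw [h, adj_transvection, Fin.rev_rev, transvection_mul_transvection_same _ _ hii] at h1
  have h2 := congrFun (congrFun h1 i) i.rev
  rw [transvection, Matrix.add_apply, Matrix.one_apply_ne hii, single_apply_same, zero_add] at h2
  refine ⟨h2, ?_⟩
  apply mt_injective
  rw [h, mt_xl]

/-- the centralizer of the point radical -/
theorem shape_of_commute_group (hσ : ∀ x, σ (σ x) = x) (hx0 : ∃ x, σ x ≠ x) (o : Fin n)
    (hoo : o ≠ o.rev) (z : GG n σ)
    (hz : ∀ (j : Fin n) (t s : K) (hv : Valid σ o j t s),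
      z * xx hσ o j t s hv = xx hσ o j t s hv * z)
    (hz' : ∀ (s : K) (hs : s + σ s = 0), z * xl hσ o s hoo hs = xl hσ o s hoo hs * z) :
    mt z = mt z o o • (1 : Mn) + single o o.rev (mt z o o.rev) := by
  obtain ⟨ε, hε, hε2⟩ := exists_eps hσ hx0
  obtain ⟨x0, hx0'⟩ := hx0
  have key : ∀ (j : Fin n), j ≠ o → j ≠ o.rev → ∀ t : K,
      ∃ s, mt z * nM σ o j t s = nM σ o j t s * mt z := by
    intro j hjo hjo' t
    obtain ⟨s, hs⟩ := exists_valid_s (n := n) hσ ⟨x0, hx0'⟩ j t
    have hv : Valid σ o j t s := ⟨Ne.symm hjo, hoo, hjo', hs⟩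
    refine ⟨s, ?_⟩
    have h1 := congrArg SUa.mt (hz j t s hv)
    rw [mt_mul, mt_mul, mt_xx] at h1
    unfold xM at h1
    rw [Matrix.mul_add, Matrix.add_mul, Matrix.mul_one, Matrix.one_mul] at h1
    exact add_left_cancel h1
  apply shape_of_commute σ o hoo (mt z) ε x0 hε hx0'
  · have h1 := congrArg SUa.mt (hz' ε hε2)
    rw [mt_mul, mt_mul, mt_xl] at h1
    unfold transvection at h1
    rw [Matrix.mul_add, Matrix.add_mul, Matrix.mul_one, Matrix.one_mul] at h1
    exact add_left_cancel h1
  · intro j hjo hjo'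
    exact key j hjo hjo' 1
  · intro j hjo hjo'
    exact key j hjo hjo' x0

end finite

end Cfsg.Agent.H9.SUi
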