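import Cfsg.Agent.H9.SUi
import Cfsg.Agent.Lib.Lead.PGroup

/-!
# The unipotent subgroup of the special unitary group has no proper nontrivial strongly closed
subgroup
-/

set_option autoImplicit false
set_option linter.unusedSimpArgs false
set_option linter.unusedVariables false
set_option linter.unusedSectionVars false
set_option linter.style.haveILetI false
set_option linter.unreachableTactic false
set_option linter.unusedTactic false

namespace Cfsg.Agent.H9.SUj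

open Matrix Cfsg.Agent.H9.SLnA Cfsg.Agent.H9.SLnB Cfsg.Agent.H9.SpB Cfsg.Agent.H9.SUa
  Cfsg.Agent.H9.SUb Cfsg.Agent.H9.SUc Cfsg.Agent.H9.SUd Cfsg.Agent.H9.SUe Cfsg.Agent.H9.SUf
  Cfsg.Agent.H9.SUg Cfsg.Agent.H9.SUh Cfsg.Agent.H9.SUi

variable {n : ℕ} {K : Type*} [Field K]

local notation "Mn" => Matrix (Fin n) (Fin n) K

section finite

variable [Finite K] {σ : K →+* K}

/-- the Weyl-type element moving the first basis vector to the `k`-th -/
def GW (hσ : ∀ x, σ (σ x) = x) (o k : Fin n) (hok : o ≠ k) (hoo : o ≠ o.rev) (hkk : k ≠ k.rev)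
    (hok' : o ≠ k.rev) : GG n σ :=
  xx hσ o k (-1) 0 (valid_zero o k hok hoo (ne_rev_of_ne_rev hok') hkk _) *
    xx hσ k o 1 0 (valid_zero k o hok.symm hkk hok' hoo _)

theorem GW_mulVec_o (hσ : ∀ x, σ (σ x) = x) (o k : Fin n) (hok : o ≠ k) (hoo : o ≠ o.rev)
    (hkk : k ≠ k.rev) (hok' : o ≠ k.rev) :
    mt (GW hσ o k hok hoo hkk hok') *ᵥ Pi.single o 1 = Pi.single k 1 := by
  have h1 : xM σ k o 1 0 *ᵥ Pi.single o (1 : K) = Pi.single o 1 + Pi.single k 1 := by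
    rw [xM_mulVec, Pi.single_eq_same, Pi.single_eq_of_ne hok'.symm, mul_one, mul_zero, mul_zero,
      zero_smul, zero_smul, one_smul, sub_zero, add_zero]
  have h2 : xM σ o k (-1) 0 *ᵥ (Pi.single o (1 : K) + Pi.single k 1) = Pi.single k 1 := by
    rw [xM_mulVec, Pi.add_apply, Pi.add_apply, Pi.single_eq_of_ne hok.symm, Pi.single_eq_same,
      Pi.single_eq_of_ne hoo.symm, Pi.single_eq_of_ne (ne_rev_of_ne_rev hok').symm, add_zero,
      mul_zero, mul_zero, zero_smul, zero_smul, zero_add, mul_one, sub_zero, add_zero, neg_smul,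
      one_smul]
    abel
  unfold GW
  rw [mt_mul, mt_xx, mt_xx, ← Matrix.mulVec_mulVec, h1, h2]

theorem GW_mulVec_of_zero (hσ : ∀ x, σ (σ x) = x) (o k : Fin n) (hok : o ≠ k) (hoo : o ≠ o.rev)
    (hkk : k ≠ k.rev) (hok' : o ≠ k.rev) (v : Fin n → K) (h1 : v o = 0) (h2 : v k = 0)
    (h3 : v k.rev = 0) (h4 : v o.rev = 0) :
    mt (GW hσ o k hok hoo hkk hok') *ᵥ v = v := by
  unfold GW
  rw [mt_mul, mt_xx, mt_xx, ← Matrix.mulVec_mulVec, xM_mulVec_of_zero σ k o 1 0 v h1 h3,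
    xM_mulVec_of_zero σ o k (-1) 0 v h2 h4]

theorem xl_zero (hσ : ∀ x, σ (σ x) = x) (i : Fin n) (hii : i ≠ i.rev) (hs : (0 : K) + σ 0 = 0) :
    xl hσ i 0 hii hs = 1 := by
  apply mt_injective
  rw [mt_xl, mt_one, transvection_zero]

theorem lt_rev_o {o : Fin n} (ho : ∀ x : Fin n, o ≤ x) (hoo : o ≠ o.rev) : o < o.rev :=
  lt_of_le_of_ne (ho _) hoo

/-- all long root elements at the first index -/
theorem long_o_mem (hσ : ∀ x, σ (σ x) = x) (hN : ∀ y, σ y = y → ∃ t, t * σ t = y)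
    (T : Subgroup (GG n σ))
    (hsc : ∀ x ∈ T, ∀ g : GG n σ, g * x * g⁻¹ ∈ US n σ → g * x * g⁻¹ ∈ T)
    (o b : Fin n) (ho : ∀ x : Fin n, o ≤ x) (hoo : o ≠ o.rev) (hob : o ≠ b) (hbb : b ≠ b.rev)
    (hob' : o ≠ b.rev) (μ : K) (hμ : μ ≠ 0) (hμs : μ + σ μ = 0) (hmem : xl hσ o μ hoo hμs ∈ T)
    (s : K) (hs : s + σ s = 0) : xl hσ o s hoo hs ∈ T := by
  by_cases hs0 : s = 0
  · subst hs0
    rw [xl_zero]
    exact T.one_mem
  have h1 : σ s = -s := by linear_combination hs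
  have h2 : σ μ = -μ := by linear_combination hμs
  have hy : σ (s / μ) = s / μ := by
    rw [map_div₀, h1, h2, neg_div_neg_eq]
  obtain ⟨c, hc⟩ := hN _ hy
  have hc0 : c ≠ 0 := by
    intro h0
    rw [h0, zero_mul] at hc
    exact div_ne_zero hs0 hμ hc.symm
  have hcol : mt (tor4 hσ o b hob hoo hbb hob' c) *ᵥ Pi.single o 1 = Pi.single o c := by
    rw [Matrix.mulVec_single_one]
    funext x
    rw [Matrix.col_apply]
    by_cases hx : x = o
    · rw [hx, tor4_apply_a hσ o b hob hoo hbb hob' c hc0, Pi.single_eq_same]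
    · rw [tor4_apply_ne hσ o b hob hoo hbb hob' c hc0 x o hx, Pi.single_eq_of_ne hx]
  have e : tor4 hσ o b hob hoo hbb hob' c * xl hσ o μ hoo hμs * (tor4 hσ o b hob hoo hbb hob' c)⁻¹
      = xl hσ o s hoo hs := by
    apply mt_injective
    rw [mt_conj_EM _ _ _ _ _ (mt_xl_EM hσ o μ hoo hμs), hcol, Matrix.mulVec_zero,
      EM_single_zero σ hσ, mt_xl, hc]
    congr 1
    field_simp
  rw [← e]
  apply hsc _ hmem
  rw [e]
  exact xl_mem_US hσ o s (lt_rev_o ho hoo) hs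

/-- all long root elements -/
theorem long_mem (hσ : ∀ x, σ (σ x) = x) (T : Subgroup (GG n σ))
    (hsc : ∀ x ∈ T, ∀ g : GG n σ, g * x * g⁻¹ ∈ US n σ → g * x * g⁻¹ ∈ T)
    (o : Fin n) (ho : ∀ x : Fin n, o ≤ x) (hoo : o ≠ o.rev)
    (hlong : ∀ (s : K) (hs : s + σ s = 0), xl hσ o s hoo hs ∈ T)
    (k : Fin n) (hk : k < k.rev) (s : K) (hs : s + σ s = 0) : xl hσ k s hk.ne hs ∈ T := by
  by_cases hko : k = o
  · subst hko
    exact hlong s hs
  have hok' : o ≠ k.rev := by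
    intro h
    have := ho k
    rw [h] at this
    exact absurd hk (not_lt.mpr this)
  have e : GW hσ o k (Ne.symm hko) hoo hk.ne hok' * xl hσ o s hoo hs *
      (GW hσ o k (Ne.symm hko) hoo hk.ne hok')⁻¹ = xl hσ k s hk.ne hs := by
    apply mt_injective
    rw [mt_conj_EM _ _ _ _ _ (mt_xl_EM hσ o s hoo hs), GW_mulVec_o, Matrix.mulVec_zero,
      ← mt_xl_EM hσ k s hk.ne hs]
  rw [← e]
  apply hsc _ (hlong s hs)
  rw [e]
  exact xl_mem_US hσ k s hk hs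

/-! ### Vectors realized by elements of `T` in the point radical -/

/-- vectors realized in `T` by elements of the point radical -/
def VT (T : Subgroup (GG n σ)) (o : Fin n) (v : Fin n → K) : Prop :=
  ∃ s : K, ∃ x ∈ T, mt x = EM σ (Pi.single o 1) v s

omit [Finite K] in
theorem hf_o_o (o : Fin n) (hoo : o ≠ o.rev) :
    hf σ (Pi.single o (1 : K)) (Pi.single o 1) = 0 := by
  rw [hf_single_left, Pi.single_eq_of_ne hoo.symm, map_zero]

theorem VT.add {T : Subgroup (GG n σ)} {o : Fin n} {v w : Fin n → K} (hoo : o ≠ o.rev)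
    (hv : VT T o v) (hw : VT T o w) (hv0 : v o.rev = 0) (hw0 : w o.rev = 0) : VT T o (v + w) := by
  obtain ⟨s, x, hx, hxm⟩ := hv
  obtain ⟨r, y, hy, hym⟩ := hw
  refine ⟨s + r - hf σ w v, x * y, T.mul_mem hx hy, ?_⟩
  rw [mt_mul, hxm, hym, EM_mul_EM σ _ v w s r (hf_o_o o hoo)
    (by rw [hf_single_left, hv0, map_zero]) (by rw [hf_single_right, hw0])]

theorem VT.neg {T : Subgroup (GG n σ)} {o : Fin n} {v : Fin n → K} (hσ : ∀ x, σ (σ x) = x)
    (hv : VT T o v) : VT T o (-v) := by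
  obtain ⟨s, x, hx, hxm⟩ := hv
  exact ⟨σ s, x⁻¹, T.inv_mem hx, by rw [mt_inv, hxm, adj_EM σ hσ]⟩

theorem VT.conj {T : Subgroup (GG n σ)} {o : Fin n} {v : Fin n → K}
    (hsc : ∀ x ∈ T, ∀ g : GG n σ, g * x * g⁻¹ ∈ US n σ → g * x * g⁻¹ ∈ T)
    (ho : ∀ x : Fin n, o ≤ x) (hoo : o ≠ o.rev) (hv : VT T o v) (g : GG n σ)
    (hg : mt g *ᵥ Pi.single o 1 = Pi.single o 1) (hg0 : (mt g *ᵥ v) o.rev = 0) :
    VT T o (mt g *ᵥ v) := by
  obtain ⟨s, x, hx, hxm⟩ := hv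
  have e : mt (g * x * g⁻¹) = EM σ (Pi.single o 1) (mt g *ᵥ v) s := by
    rw [mt_conj_EM g x _ _ _ hxm, hg]
  refine ⟨s, g * x * g⁻¹, ?_, e⟩
  apply hsc x hx
  rw [SUa.mem_US, e]
  exact isUT_EM_o σ o ho hoo _ s hg0

theorem VT.of_eq {T : Subgroup (GG n σ)} {o : Fin n} {v w : Fin n → K} (hv : VT T o v)
    (h : v = w) : VT T o w := h ▸ hv

theorem VT.of_xx {T : Subgroup (GG n σ)} {o : Fin n} (hσ : ∀ x, σ (σ x) = x) (j : Fin n) (t s : K)
    (hv : Valid σ o j t s) (h : xx hσ o j t s hv ∈ T) : VT T o (Pi.single j.rev (σ t)) :=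
  ⟨s, _, h, mt_xx_EM hσ o j t s hv⟩

theorem xx_mem_of_VT {T : Subgroup (GG n σ)} {o : Fin n} (hσ : ∀ x, σ (σ x) = x) (hoo : o ≠ o.rev)
    (hlong : ∀ (s : K) (hs : s + σ s = 0), xl hσ o s hoo hs ∈ T) (j : Fin n) (t s : K)
    (hv : Valid σ o j t s) (h : VT T o (Pi.single j.rev (σ t))) : xx hσ o j t s hv ∈ T := by
  obtain ⟨s0, x, hx, hxm⟩ := h
  have hv0 : (Pi.single j.rev (σ t) : Fin n → K) o.rev = 0 :=
    Pi.single_eq_of_ne (fun h' => hv.1 (Fin.rev_injective h')) _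
  have e : mt (x⁻¹ * xx hσ o j t s hv) = transvection o o.rev
      (σ s0 + s - hf σ (Pi.single j.rev (σ t)) (-(Pi.single j.rev (σ t)))) := by
    rw [mt_mul, mt_inv, hxm, adj_EM σ hσ, mt_xx_EM, EM_mul_EM σ _ _ _ (σ s0) s (hf_o_o o hoo)
      (by rw [hf_single_left, Pi.neg_apply, hv0, neg_zero, map_zero])
      (by rw [hf_single_right, hv0]), neg_add_cancel, ← transvection_eq_EM σ hσ]
  obtain ⟨hs, e2⟩ := eq_xl_of_mt hσ o hoo _ _ e
  have : xx hσ o j t s hv = x * (x⁻¹ * xx hσ o j t s hv) := by group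
  rw [this, e2]
  exact T.mul_mem hx (hlong _ hs)

/-- the vectors `c e_l`, `l` in the first half -/
theorem VT_low (hσ : ∀ x, σ (σ x) = x) (hx0 : ∃ x, σ x ≠ x) (T : Subgroup (GG n σ))
    (hsc : ∀ x ∈ T, ∀ g : GG n σ, g * x * g⁻¹ ∈ US n σ → g * x * g⁻¹ ∈ T)
    (o : Fin n) (ho : ∀ x : Fin n, o ≤ x) (hoo : o ≠ o.rev)
    (hlong : ∀ (k : Fin n) (hk : k < k.rev) (s : K) (hs : s + σ s = 0), xl hσ k s hk.ne hs ∈ T)
    (l : Fin n) (hlo : l ≠ o) (hl : l < l.rev) (c : K) : VT T o (Pi.single l c) := by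
  obtain ⟨ε, hε, hε2⟩ := exists_eps hσ hx0
  have hol : o < l := lt_of_le_of_ne (ho l) (Ne.symm hlo)
  have hlo' : l < o.rev := lt_of_lt_of_le hl (rev_max ho _)
  obtain ⟨a, ha⟩ : ∃ a : K, a = σ (-(c * ε⁻¹)) := ⟨_, rfl⟩
  have hva : Valid σ o l a 0 := valid_zero o l hol.ne hoo hlo'.ne hl.ne a
  have hu : xx hσ o l a 0 hva ∈ US n σ := xx_mem_US hσ o l a 0 hva hol hlo'
  have hA : xl hσ l ε hl.ne hε2 ∈ T := hlong l hl ε hε2
  have hAU : xl hσ l ε hl.ne hε2 ∈ US n σ := xl_mem_US hσ l ε hl hε2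
  have hconj : xx hσ o l a 0 hva * xl hσ l ε hl.ne hε2 * (xx hσ o l a 0 hva)⁻¹ ∈ T :=
    hsc _ hA _ ((US n σ).mul_mem ((US n σ).mul_mem hu hAU) ((US n σ).inv_mem hu))
  have hvec : mt (xx hσ o l a 0 hva) *ᵥ Pi.single l 1 = Pi.single l 1 + a • Pi.single o 1 := by
    rw [mt_xx, xM_mulVec, Pi.single_eq_same, Pi.single_eq_of_ne hlo'.ne', mul_one, mul_zero,
      mul_zero, zero_smul, zero_smul, sub_zero, add_zero]
  have hσε : σ ε = -ε := by linear_combination hε2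
  have e1 : mt (xx hσ o l a 0 hva * xl hσ l ε hl.ne hε2 * (xx hσ o l a 0 hva)⁻¹) =
      mt (xl hσ l ε hl.ne hε2) *
        EM σ (Pi.single o 1) (σ a • -(ε • Pi.single l 1)) (ε * (a * σ a)) := by
    rw [mt_conj_EM _ _ _ _ _ (mt_xl_EM hσ l ε hl.ne hε2), hvec, Matrix.mulVec_zero,
      EM_add_left σ _ _ ε hσε (hf_o_o l hl.ne) (by
        rw [hf_single_right, Pi.smul_apply, Pi.single_eq_of_ne (hol.trans hl).ne', smul_zero]),
      EM_smul_left σ hσ, ← mt_xl_EM hσ l ε hl.ne hε2]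
  have hX : VT T o (σ a • -(ε • Pi.single l (1 : K))) := by
    refine ⟨ε * (a * σ a), (xl hσ l ε hl.ne hε2)⁻¹ *
      (xx hσ o l a 0 hva * xl hσ l ε hl.ne hε2 * (xx hσ o l a 0 hva)⁻¹),
      T.mul_mem (T.inv_mem hA) hconj, ?_⟩
    rw [mt_mul, mt_inv, e1, ← Matrix.mul_assoc, mt_unit', Matrix.one_mul]
  apply hX.of_eq
  funext x
  rw [Pi.smul_apply, Pi.neg_apply, Pi.smul_apply, smul_eq_mul, smul_eq_mul, ha, hσ]
  by_cases hx : x = l
  · rw [hx, Pi.single_eq_same, Pi.single_eq_same]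
    field_simp
  · rw [Pi.single_eq_of_ne hx, Pi.single_eq_of_ne hx, mul_zero, neg_zero, mul_zero]

/-- the vectors `c e_l'`, `l` in the first half -/
theorem VT_high (hσ : ∀ x, σ (σ x) = x) (hx0 : ∃ x, σ x ≠ x) (T : Subgroup (GG n σ))
    (hsc : ∀ x ∈ T, ∀ g : GG n σ, g * x * g⁻¹ ∈ US n σ → g * x * g⁻¹ ∈ T)
    (o : Fin n) (ho : ∀ x : Fin n, o ≤ x) (hoo : o ≠ o.rev)
    (l : Fin n) (hlo : l ≠ o) (hl : l < l.rev) (hlow : ∀ c : K, VT T o (Pi.single l c)) (c : K) :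
    VT T o (Pi.single l.rev c) := by
  obtain ⟨ε, hε, hε2⟩ := exists_eps hσ hx0
  have hl'' : l.rev ≠ l.rev.rev := by
    rw [Fin.rev_rev]
    exact hl.ne'
  have hlo' : l < o.rev := lt_of_lt_of_le hl (rev_max ho _)
  have hg : mt (xl hσ l.rev ε hl'' hε2) *ᵥ Pi.single o 1 = Pi.single o 1 := by
    rw [mt_xl, transvection_mulVec, Fin.rev_rev, Pi.single_eq_of_ne hlo, mul_zero, zero_smul,
      add_zero]
  have hgv : mt (xl hσ l.rev ε hl'' hε2) *ᵥ Pi.single l (ε⁻¹ * c) =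
      Pi.single l (ε⁻¹ * c) + c • Pi.single l.rev 1 := by
    rw [mt_xl, transvection_mulVec, Fin.rev_rev, Pi.single_eq_same, ← mul_assoc,
      mul_inv_cancel₀ hε, one_mul]
  have h1 : VT T o (Pi.single l (ε⁻¹ * c) + c • Pi.single l.rev 1) := by
    rw [← hgv]
    apply (hlow _).conj hsc ho hoo _ hg
    rw [hgv, Pi.add_apply, Pi.smul_apply, Pi.single_eq_of_ne hlo'.ne',
      Pi.single_eq_of_ne (fun h => hlo (Fin.rev_injective h).symm), smul_zero, add_zero]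
  have h2 := (hlow (ε⁻¹ * c)).neg hσ
  have h3 := h1.add hoo h2 (by
    rw [Pi.add_apply, Pi.smul_apply, Pi.single_eq_of_ne hlo'.ne',
      Pi.single_eq_of_ne (fun h => hlo (Fin.rev_injective h).symm), smul_zero, add_zero])
    (by rw [Pi.neg_apply, Pi.single_eq_of_ne hlo'.ne', neg_zero])
  apply h3.of_eq
  funext x
  rw [Pi.add_apply, Pi.add_apply, Pi.neg_apply, Pi.smul_apply, smul_eq_mul]
  by_cases hx : x = l.rev
  · rw [hx, Pi.single_eq_same, Pi.single_eq_same]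
    ring
  · rw [Pi.single_eq_of_ne hx, Pi.single_eq_of_ne hx]
    ring

/-- the vectors `c e_m`, `m` the middle index -/
theorem VT_mid (hσ : ∀ x, σ (σ x) = x) (hx0 : ∃ x, σ x ≠ x) (T : Subgroup (GG n σ))
    (hsc : ∀ x ∈ T, ∀ g : GG n σ, g * x * g⁻¹ ∈ US n σ → g * x * g⁻¹ ∈ T)
    (o : Fin n) (ho : ∀ x : Fin n, o ≤ x) (hoo : o ≠ o.rev)
    (m : Fin n) (hm : m = m.rev) (q : Fin n) (hqo : q ≠ o) (hq : q < q.rev)
    (hlow : ∀ c : K, VT T o (Pi.single q c)) (hhigh : ∀ c : K, VT T o (Pi.single q.rev c))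
    (c : K) : VT T o (Pi.single m c) := by
  obtain ⟨s1, hs1⟩ := exists_valid_s (n := n) hσ hx0 m (1 : K)
  have hqm : q ≠ m := by
    intro h
    rw [h] at hq
    exact absurd hm hq.ne
  have hmq' : m ≠ q.rev := by
    intro h
    apply hqm
    rw [hm, h, Fin.rev_rev]
  have hmo : m ≠ o := by
    intro h
    rw [h] at hm
    exact hoo hm
  have hmo' : m ≠ o.rev := by
    intro h
    apply hmo
    rw [hm, h, Fin.rev_rev]
  have hoq : o < q := lt_of_le_of_ne (ho q) (Ne.symm hqo)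
  have hqo' : q < o.rev := lt_of_lt_of_le hq (rev_max ho _)
  have hq'o' : q.rev ≠ o.rev := fun h => hqo (Fin.rev_injective h)
  have hvq : Valid σ q m 1 s1 := ⟨hqm, hq.ne, hmq', hs1⟩
  have hg : mt (xx hσ q m 1 s1 hvq) *ᵥ Pi.single o 1 = Pi.single o 1 := by
    rw [mt_xx]
    exact xM_mulVec_of_zero σ q m 1 s1 _ (Pi.single_eq_of_ne hmo _)
      (Pi.single_eq_of_ne (hoq.trans hq).ne' _)
  have hgv : mt (xx hσ q m 1 s1 hvq) *ᵥ Pi.single q.rev (-c) =
      Pi.single q.rev (-c) - (-c) • Pi.single m 1 + (s1 * -c) • Pi.single q 1 := by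
    rw [mt_xx, xM_mulVec, Pi.single_eq_same, Pi.single_eq_of_ne hmq', mul_zero, zero_smul, add_zero,
      map_one, one_mul, ← hm]
  have h1 : VT T o (Pi.single q.rev (-c) - (-c) • Pi.single m 1 + (s1 * -c) • Pi.single q 1) := by
    rw [← hgv]
    apply (hhigh _).conj hsc ho hoo _ hg
    rw [hgv, Pi.add_apply, Pi.sub_apply, Pi.smul_apply, Pi.smul_apply, Pi.single_eq_of_ne hq'o'.symm,
      Pi.single_eq_of_ne hmo'.symm, Pi.single_eq_of_ne hqo'.ne', smul_zero, smul_zero, sub_zero,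
      add_zero]
  have h2 := (hhigh (-c)).neg hσ
  have h3 := (hlow (s1 * -c)).neg hσ
  have h4 := (h1.add hoo h2 (by
    rw [Pi.add_apply, Pi.sub_apply, Pi.smul_apply, Pi.smul_apply, Pi.single_eq_of_ne hq'o'.symm,
      Pi.single_eq_of_ne hmo'.symm, Pi.single_eq_of_ne hqo'.ne', smul_zero, smul_zero, sub_zero,
      add_zero])
    (by rw [Pi.neg_apply, Pi.single_eq_of_ne hq'o'.symm, neg_zero])).add hoo h3 (by
    rw [Pi.add_apply, Pi.add_apply, Pi.sub_apply, Pi.smul_apply, Pi.smul_apply, Pi.neg_apply,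
      Pi.single_eq_of_ne hq'o'.symm, Pi.single_eq_of_ne hmo'.symm, Pi.single_eq_of_ne hqo'.ne',
      smul_zero, smul_zero, sub_zero, add_zero, neg_zero, add_zero])
    (by rw [Pi.neg_apply, Pi.single_eq_of_ne hqo'.ne', neg_zero])
  apply h4.of_eq
  funext x
  simp only [Pi.add_apply, Pi.sub_apply, Pi.neg_apply, Pi.smul_apply, smul_eq_mul, Pi.single_apply]
  split_ifs <;> ring

/-- all vectors `c e_y` -/
theorem VT_all (hσ : ∀ x, σ (σ x) = x) (hx0 : ∃ x, σ x ≠ x) (T : Subgroup (GG n σ))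
    (hsc : ∀ x ∈ T, ∀ g : GG n σ, g * x * g⁻¹ ∈ US n σ → g * x * g⁻¹ ∈ T)
    (o : Fin n) (ho : ∀ x : Fin n, o ≤ x) (hoo : o ≠ o.rev)
    (hlong : ∀ (k : Fin n) (hk : k < k.rev) (s : K) (hs : s + σ s = 0), xl hσ k s hk.ne hs ∈ T)
    (q : Fin n) (hqo : q ≠ o) (hq : q < q.rev)
    (y : Fin n) (hyo : y ≠ o) (hyo' : y ≠ o.rev) (c : K) : VT T o (Pi.single y c) := by
  rcases lt_trichotomy y y.rev with h | h | h
  · exact VT_low hσ hx0 T hsc o ho hoo hlong y hyo h c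
  · exact VT_mid hσ hx0 T hsc o ho hoo y h q hqo hq
      (fun c => VT_low hσ hx0 T hsc o ho hoo hlong q hqo hq c)
      (fun c => VT_high hσ hx0 T hsc o ho hoo q hqo hq
        (fun c => VT_low hσ hx0 T hsc o ho hoo hlong q hqo hq c) c) c
  · have h' : y.rev < y.rev.rev := by rw [Fin.rev_rev]; exact h
    have hy'o : y.rev ≠ o := fun h'' => hyo' (by rw [← h'', Fin.rev_rev])
    have := VT_high hσ hx0 T hsc o ho hoo y.rev hy'o h'
      (fun c => VT_low hσ hx0 T hsc o ho hoo hlong y.rev hy'o h' c) c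
    rwa [Fin.rev_rev] at this

/-- all upper root elements -/
theorem root_mem (hσ : ∀ x, σ (σ x) = x) (hx0 : ∃ x, σ x ≠ x) (T : Subgroup (GG n σ))
    (hsc : ∀ x ∈ T, ∀ g : GG n σ, g * x * g⁻¹ ∈ US n σ → g * x * g⁻¹ ∈ T)
    (o : Fin n) (ho : ∀ x : Fin n, o ≤ x) (hoo : o ≠ o.rev)
    (hlong : ∀ (k : Fin n) (hk : k < k.rev) (s : K) (hs : s + σ s = 0), xl hσ k s hk.ne hs ∈ T)
    (q : Fin n) (hqo : q ≠ o) (hq : q < q.rev)
    (i j : Fin n) (t s : K) (hv : Valid σ i j t s) (hij : i < j) (hji : j < i.rev) :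
    xx hσ i j t s hv ∈ T := by
  have hjo : j ≠ o := (lt_of_le_of_lt (ho i) hij).ne'
  have hjo' : j ≠ o.rev := (lt_of_lt_of_le hji (rev_max ho _)).ne
  have hvo : Valid σ o j t s := ⟨Ne.symm hjo, hoo, hjo', hv.2.2.2⟩
  have h0 : xx hσ o j t s hvo ∈ T :=
    xx_mem_of_VT hσ hoo (fun s hs => hlong o (lt_rev_o ho hoo) s hs) j t s hvo
      (VT_all hσ hx0 T hsc o ho hoo hlong q hqo hq j.rev
        (fun h => hjo' (by rw [← h, Fin.rev_rev])) (fun h => hjo (Fin.rev_injective h)) (σ t))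
  by_cases hio : i = o
  · subst hio
    exact h0
  have hii : i < i.rev := hij.trans hji
  have hoi' : o ≠ i.rev := (lt_of_le_of_lt (ho i) hii).ne
  have e : GW hσ o i (Ne.symm hio) hoo hii.ne hoi' * xx hσ o j t s hvo *
      (GW hσ o i (Ne.symm hio) hoo hii.ne hoi')⁻¹ = xx hσ i j t s hv := by
    apply mt_injective
    rw [mt_conj_EM _ _ _ _ _ (mt_xx_EM hσ o j t s hvo), GW_mulVec_o,
      GW_mulVec_of_zero hσ o i (Ne.symm hio) hoo hii.ne hoi' _
        (Pi.single_eq_of_ne (fun h => hjo' (by rw [h, Fin.rev_rev])) _)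
        (Pi.single_eq_of_ne (fun h => hji.ne (by rw [h, Fin.rev_rev])) _)
        (Pi.single_eq_of_ne (fun h => hij.ne (Fin.rev_injective h)) _)
        (Pi.single_eq_of_ne (fun h => hjo (Fin.rev_injective h).symm) _),
      ← mt_xx_EM hσ i j t s hv]
  rw [← e]
  apply hsc _ h0
  rw [e]
  exact xx_mem_US hσ i j t s hv hij hji

/-- **no proper nontrivial strongly closed subgroup** -/
theorem sc_US (hσ : ∀ x, σ (σ x) = x) (hx0 : ∃ x, σ x ≠ x)
    (hN : ∀ y, σ y = y → ∃ t, t * σ t = y) (p : ℕ) [hp : Fact p.Prime] [CharP K p]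
    (o : Fin n) (ho : ∀ x : Fin n, o ≤ x) (hoo : o ≠ o.rev) (q : Fin n) (hqo : q ≠ o)
    (hq : q < q.rev) (T : Subgroup (GG n σ)) (hT : T ≤ US n σ)
    (hsc : ∀ x ∈ T, ∀ g : GG n σ, g * x * g⁻¹ ∈ US n σ → g * x * g⁻¹ ∈ T) :
    T = ⊥ ∨ T = US n σ := by
  by_cases hbot : T = ⊥
  · exact Or.inl hbot
  right
  apply le_antisymm hT
  have : (T.subgroupOf (US n σ)).Normal := by
    refine ⟨fun x hx u => ?_⟩
    rw [Subgroup.mem_subgroupOf] at hx ⊢
    exact hsc _ hx u.1 ((US n σ).mul_mem ((US n σ).mul_mem u.2 x.2) ((US n σ).inv_mem u.2))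
  have hne : T.subgroupOf (US n σ) ≠ ⊥ := by
    intro h
    apply hbot
    rw [Subgroup.eq_bot_iff_forall]
    intro x hx
    have : (⟨x, hT hx⟩ : US n σ) ∈ T.subgroupOf (US n σ) := by
      rw [Subgroup.mem_subgroupOf]
      exact hx
    rw [h, Subgroup.mem_bot] at this
    exact congrArg Subtype.val this
  obtain ⟨z, hzT, hzZ, hz1⟩ := Cfsg.Agent.Lib.Lead.PGroup.exists_mem_center_of_normal
    (isPGroup_US (n := n) (σ := σ) p) (T.subgroupOf (US n σ)) hne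
  rw [Subgroup.mem_subgroupOf] at hzT
  obtain ⟨z0, hz0⟩ : ∃ z0 : GG n σ, z0 = z.1 := ⟨_, rfl⟩
  rw [← hz0] at hzT
  have hz0U : z0 ∈ US n σ := by rw [hz0]; exact z.2
  have hz01 : z0 ≠ 1 := by
    intro h
    apply hz1
    apply Subtype.ext
    rw [← hz0, h]
    rfl
  have hcomm : ∀ u ∈ US n σ, z0 * u = u * z0 := by
    intro u hu
    have := Subgroup.mem_center_iff.mp hzZ ⟨u, hu⟩
    have h2 := congrArg Subtype.val this
    rw [hz0]
    exact h2.symm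
  have hoo' : o < o.rev := lt_rev_o ho hoo
  have hshape := shape_of_commute_group hσ hx0 o hoo z0
    (fun j t s hv => hcomm _ (xx_mem_US hσ o j t s hv (lt_of_le_of_ne (ho j) hv.1)
      (lt_of_le_of_ne (rev_max ho j) hv.2.2.1)))
    (fun s hs => hcomm _ (xl_mem_US hσ o s hoo' hs))
  rw [(SUa.mem_US.mp hz0U).diag, one_smul] at hshape
  obtain ⟨hμs, hzx⟩ := eq_xl_of_mt hσ o hoo z0 _ hshape
  have hμ : mt z0 o o.rev ≠ 0 := by
    intro h0
    apply hz01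
    apply mt_injective
    rw [hshape, h0, single_zero, add_zero, mt_one]
  rw [hzx] at hzT
  have hoq : o < q := lt_of_le_of_ne (ho q) (Ne.symm hqo)
  have hlongo := long_o_mem hσ hN T hsc o q ho hoo hoq.ne hq.ne (hoq.trans hq).ne _ hμ hμs hzT
  have hlong := long_mem hσ T hsc o ho hoo hlongo
  exact US_le_of_root_mem hσ hx0 T
    (fun i j t s hv hij hji => root_mem hσ hx0 T hsc o ho hoo hlong q hqo hq i j t s hv hij hji)
    (fun i s hii hs => hlong i hii s hs)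

end finite

end Cfsg.Agent.H9.SUj
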