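import Cfsg.Agent.H9.SpB
import Cfsg.Agent.H9.GfsSimple3

/-!
# Centric subgroups of the unipotent subgroup of `Sp₂ₘ(K)`
-/

set_option autoImplicit false
set_option linter.unusedSimpArgs false
set_option linter.unusedVariables false

namespace Cfsg.Agent.H9.SpC

open Matrix Cfsg.Agent.H9.SpA Cfsg.Agent.H9.SpB Cfsg.Agent.H9.SLnA Cfsg.Agent.H9.SLnB
open Cfsg.Agent.H9.GfsSimple3

variable {m : ℕ} {K : Type*} [Field K]

local notation "Sp" => SpG m K
local notation "Mm" => Matrix (Fin m) (Fin m) K
local notation "SLm" => Matrix.SpecialLinearGroup (Fin m) K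

/-- what commuting with a Siegel element means -/
theorem of_commute_sie (y : Sp) (S : Mm) (hS : S.IsSymm) (h : y * sie S hS = sie S hS * y) :
    S * gC y = 0 ∧ gA y * S = S * gD y := by
  have hA := congrArg gA h
  have hB := congrArg gB h
  rw [gA_mul, gA_mul, gA_sie, gC_sie, gB_sie, Matrix.mul_one, Matrix.mul_zero, add_zero,
    Matrix.one_mul] at hA
  rw [gB_mul, gB_mul, gA_sie, gB_sie, gD_sie, Matrix.mul_one, Matrix.one_mul] at hB
  refine ⟨?_, ?_⟩
  · exact (add_eq_left.mp hA.symm)
  · have : gA y * S + gB y = S * gD y + gB y := by rw [hB, add_comm]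
    exact add_right_cancel this

/-- what commuting with a Levi element means -/
theorem of_commute_lev (y : Sp) (A A' : Mm) (hAA : A * A' = 1)
    (h : y * lev A A' hAA = lev A A' hAA * y) :
    gA y * A = A * gA y ∧ gB y * A'ᵀ = A * gB y := by
  have hA := congrArg gA h
  have hB := congrArg gB h
  rw [gA_mul, gA_mul, gA_lev, gC_lev, gB_lev, Matrix.mul_zero, add_zero, Matrix.zero_mul,
    add_zero] at hA
  rw [gB_mul, gB_mul, gA_lev, gB_lev, gD_lev, Matrix.mul_zero, zero_add, Matrix.zero_mul,
    add_zero] at hB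
  exact ⟨hA, hB⟩

theorem single_mul_apply_same (i : Fin m) (c : K) (M : Mm) (j : Fin m) :
    (single i i c * M) i j = c * M i j := by
  rw [Matrix.mul_apply, Finset.sum_eq_single i]
  · rw [single_apply, if_pos ⟨rfl, rfl⟩]
  · intro k _ hk
    rw [single_apply, if_neg (fun h => hk h.2.symm), zero_mul]
  · intro h
    exact absurd (Finset.mem_univ i) h

theorem mul_single_apply_same (i : Fin m) (c : K) (M : Mm) (j : Fin m) :
    (M * single i i c) j i = M j i * c := by
  rw [Matrix.mul_apply, Finset.sum_eq_single i]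
  · rw [single_apply, if_pos ⟨rfl, rfl⟩]
  · intro k _ hk
    rw [single_apply, if_neg (fun h => hk h.1.symm), mul_zero]
  · intro h
    exact absurd (Finset.mem_univ i) h

theorem single_mul_apply_of_ne (i : Fin m) (c : K) (M : Mm) (a j : Fin m) (ha : a ≠ i) :
    (single i i c * M) a j = 0 := by
  rw [Matrix.mul_apply]
  apply Finset.sum_eq_zero
  intro k _
  rw [single_apply, if_neg (fun h => ha h.1.symm), zero_mul]

/-- a triangular matrix with a `p`-power equal to one has unit diagonal -/
theorem diag_eq_one_of_pow (p : ℕ) [hp : Fact p.Prime] [CharP K p] {A : Mm} (hA : IsUpper A)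
    (k : ℕ) (hk : A ^ p ^ k = 1) (i : Fin m) : A i i = 1 := by
  have h1 := (hA.pow (p ^ k)).2 i
  rw [hk, Matrix.one_apply, if_pos rfl] at h1
  have h2 : (A i i - 1) ^ p ^ k = 0 := by
    rw [sub_pow_char_pow, ← h1, one_pow, sub_self]
  have := pow_eq_zero_iff (pow_ne_zero k hp.out.ne_zero) |>.mp h2
  exact sub_eq_zero.mp this

section finite

variable [Finite K]

/-- a `p`-element commuting with the Siegel radical lies in it -/
theorem mem_QS_of_commute (p : ℕ) [hp : Fact p.Prime] [CharP K p] (y : Sp) (k : ℕ)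
    (hk : y ^ p ^ k = 1) (hy : ∀ x ∈ (QS : Subgroup Sp), y * x = x * y) :
    y ∈ (QS : Subgroup Sp) := by
  have hE : ∀ i : Fin m, single i i (1 : K) * gC y = 0 ∧
      gA y * single i i (1 : K) = single i i (1 : K) * gD y := fun i =>
    of_commute_sie y _ (isSymm_single i 1) (hy _ (sie_mem_QS _ _))
  have hC : gC y = 0 := by
    ext i j
    have := congrFun (congrFun (hE i).1 i) j
    rw [single_mul_apply_same, one_mul] at this
    exact this
  have hoff : ∀ j i : Fin m, j ≠ i → gA y j i = 0 := by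
    intro j i hji
    have := congrFun (congrFun (hE i).2 j) i
    rw [mul_single_apply_same, mul_one, single_mul_apply_of_ne _ _ _ _ _ hji] at this
    exact this
  have hup : IsUpper (gA y) := fun i j hji => hoff i j hji.ne'
  have hpow : (gA y) ^ p ^ k = 1 := by
    rw [← (pow_blocks_of_gC hC (p ^ k)).2, hk, gA_one]
  refine ⟨hC, ?_⟩
  ext i j
  rw [Matrix.one_apply]
  by_cases hij : i = j
  · subst hij
    rw [if_pos rfl]
    exact diag_eq_one_of_pow p hup k hpow i
  · rw [if_neg hij]
    exact hoff i j hij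

/-- the Siegel radical is centric -/
theorem centricIn_QS (p : ℕ) [hp : Fact p.Prime] [CharP K p] :
    CentricIn (US : Subgroup Sp) (QS : Subgroup Sp) := by
  refine ⟨QS_le_US, ?_⟩
  intro g hg y hyU hcomm
  refine ⟨g⁻¹ * y * g, ?_, by group⟩
  obtain ⟨k, hk⟩ := (isPGroup_US (m := m) (K := K) p) ⟨y, hyU⟩
  have hk' : y ^ p ^ k = 1 := congrArg Subtype.val hk
  apply mem_QS_of_commute p (g⁻¹ * y * g) k
  · have : (g⁻¹ * y * g) ^ p ^ k = g⁻¹ * y ^ p ^ k * g := by
      have := conj_pow (a := g⁻¹) (b := y) (i := p ^ k)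
      rw [inv_inv] at this
      exact this
    rw [this, hk']
    group
  · intro x hx
    have h1 := hcomm x hx
    calc g⁻¹ * y * g * x = g⁻¹ * (y * (g * x * g⁻¹)) * g := by group
      _ = g⁻¹ * (g * x * g⁻¹ * y) * g := by rw [h1]
      _ = x * (g⁻¹ * y * g) := by group

omit [Finite K] in
theorem isSymm_pair (i j : Fin m) (s : K) : (single i j s + single j i s : Mm).IsSymm := by
  unfold Matrix.IsSymm
  rw [transpose_add, transpose_single, transpose_single, add_comm]

theorem sie_mem_RS (l : Fin m) (hl : ∀ i : Fin m, i ≤ l) (S : Mm) (hS : S.IsSymm)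
    (h : S l l = 0) : sie S hS ∈ (RS l hl : Subgroup Sp) :=
  ⟨QS_le_US (sie_mem_QS S hS), by rw [gB_sie]; exact h⟩

theorem lev_mem_RS (l : Fin m) (hl : ∀ i : Fin m, i ≤ l) (A A' : Mm) (h : A * A' = 1)
    (hA : IsUT A) : lev A A' h ∈ (RS l hl : Subgroup Sp) :=
  ⟨lev_mem_US A A' h hA, by rw [gB_lev]; rfl⟩

/-- a `p`-element commuting with the radical `RS` lies in it -/
theorem mem_RS_of_commute (p : ℕ) [hp : Fact p.Prime] [CharP K p] (hm : 2 ≤ m)
    (l : Fin m) (hl : ∀ i : Fin m, i ≤ l) (y : Sp) (k : ℕ)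
    (hk : y ^ p ^ k = 1) (hy : ∀ x ∈ (RS l hl : Subgroup Sp), y * x = x * y) :
    y ∈ (RS l hl : Subgroup Sp) := by
  obtain ⟨o, ho⟩ : ∃ o : Fin m, o.val = 0 := ⟨⟨0, by omega⟩, rfl⟩
  have hlval : l.val = m - 1 := by
    have h1 := hl ⟨m - 1, by omega⟩
    rw [Fin.le_def] at h1
    have := l.2
    simp only at h1
    omega
  have hol : o < l := by
    rw [Fin.lt_def]
    omega
  have hE : ∀ i : Fin m, i ≠ l → single i i (1 : K) * gC y = 0 ∧
      gA y * single i i (1 : K) = single i i (1 : K) * gD y := fun i hi =>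
    of_commute_sie y _ (isSymm_single i 1) (hy _ (sie_mem_RS l hl _ _ (by
      rw [single_apply, if_neg (fun h => hi h.1)])))
  have hP := of_commute_sie y _ (isSymm_pair o l 1) (hy _ (sie_mem_RS l hl _ _ (by
      rw [Matrix.add_apply, single_apply, single_apply, if_neg (fun h => hol.ne h.1),
        if_neg (fun h => hol.ne h.2), add_zero])))
  have hT : ∀ i j : Fin m, ∀ hij : i < j,
      gA y * transvection i j (1 : K) = transvection i j 1 * gA y ∧
      gB y * (transvection i j (-1 : K))ᵀ = transvection i j 1 * gB y := fun i j hij =>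
    of_commute_lev y _ _ (transvection_mul_neg i j hij.ne 1)
      (hy _ (lev_mem_RS l hl _ _ _ (isUT_transvection i j hij 1)))
  -- `C = 0`
  have hC : gC y = 0 := by
    ext i j
    rw [Matrix.zero_apply]
    by_cases hi : i = l
    · subst hi
      have := congrFun (congrFun hP.1 o) j
      rw [Matrix.add_mul, Matrix.add_apply, Matrix.zero_apply, Matrix.mul_apply,
        Matrix.mul_apply] at this
      have e1 : ∑ x, (single o i (1 : K) : Mm) o x * gC y x j = gC y i j := by
        rw [Finset.sum_eq_single i]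
        · rw [single_apply, if_pos ⟨rfl, rfl⟩, one_mul]
        · intro x _ hx
          rw [single_apply, if_neg (fun h => hx h.2.symm), zero_mul]
        · intro h
          exact absurd (Finset.mem_univ i) h
      have e2 : ∑ x, (single i o (1 : K) : Mm) o x * gC y x j = 0 := by
        apply Finset.sum_eq_zero
        intro x _
        rw [single_apply, if_neg (fun h => hol.ne' h.1), zero_mul]
      rw [e1, e2, add_zero] at this
      exact this
    · have := congrFun (congrFun (hE i hi).1 i) j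
      rw [single_mul_apply_same, one_mul] at this
      exact this
  -- columns `i ≠ l` of `A`
  have hcol : ∀ j i : Fin m, i ≠ l → j ≠ i → gA y j i = 0 := by
    intro j i hi hji
    have := congrFun (congrFun (hE i hi).2 j) i
    rw [mul_single_apply_same, mul_one, single_mul_apply_of_ne _ _ _ _ _ hji] at this
    exact this
  -- rows `j ≠ o` of `A`
  have hrow : ∀ j b : Fin m, j ≠ o → b ≠ j → gA y j b = 0 := by
    intro j b hj hb
    have hoj : o < j := by
      rw [Fin.lt_def]
      have : j.val ≠ o.val := fun h => hj (Fin.ext h)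
      omega
    have := congrFun (congrFun (hT o j hoj).1 o) b
    rw [mul_transvection_apply_of_ne _ _ _ _ hb, transvection_mul_apply_same, one_mul] at this
    exact (add_eq_left.mp this.symm)
  have hup : IsUpper (gA y) := by
    intro i j hji
    by_cases hi : i = o
    · exfalso
      rw [hi, Fin.lt_def] at hji
      omega
    · exact hrow i j hi hji.ne
  have hpow : (gA y) ^ p ^ k = 1 := by
    rw [← (pow_blocks_of_gC hC (p ^ k)).2, hk, gA_one]
  have hUT : IsUT (gA y) :=
    isUT_of_isUpper hup (fun i => diag_eq_one_of_pow p hup k hpow i)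
  refine ⟨⟨hC, hUT⟩, ?_⟩
  have := congrFun (congrFun (hT o l hol).2 l) o
  have e : (transvection o l (-1 : K))ᵀ = transvection l o (-1) := by
    rw [transvection, transvection, transpose_add, transpose_one, transpose_single]
  rw [e, mul_transvection_apply_same, transvection_mul_apply_of_ne _ _ _ _ hol.ne'] at this
  have h2 := add_eq_left.mp this
  rw [neg_mul, one_mul, neg_eq_zero] at h2
  exact h2

/-- the radical `RS` is centric -/
theorem centricIn_RS (p : ℕ) [hp : Fact p.Prime] [CharP K p] (hm : 2 ≤ m)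
    (l : Fin m) (hl : ∀ i : Fin m, i ≤ l) :
    CentricIn (US : Subgroup Sp) (RS l hl : Subgroup Sp) := by
  refine ⟨RS_le_US l hl, ?_⟩
  intro g hg y hyU hcomm
  refine ⟨g⁻¹ * y * g, ?_, by group⟩
  obtain ⟨k, hk⟩ := (isPGroup_US (m := m) (K := K) p) ⟨y, hyU⟩
  have hk' : y ^ p ^ k = 1 := congrArg Subtype.val hk
  apply mem_RS_of_commute p hm l hl (g⁻¹ * y * g) k
  · have : (g⁻¹ * y * g) ^ p ^ k = g⁻¹ * y ^ p ^ k * g := by
      have := conj_pow (a := g⁻¹) (b := y) (i := p ^ k)
      rw [inv_inv] at this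
      exact this
    rw [this, hk']
    group
  · intro x hx
    have h1 := hcomm x hx
    calc g⁻¹ * y * g * x = g⁻¹ * (y * (g * x * g⁻¹)) * g := by group
      _ = g⁻¹ * (g * x * g⁻¹ * y) * g := by rw [h1]
      _ = x * (g⁻¹ * y * g) := by group

/-! ### Normalizers -/

omit [Finite K] in
theorem mem_normalizer_of_conj {G : Type*} [Group G] (H : Subgroup G) (g : G)
    (h1 : ∀ x ∈ H, g * x * g⁻¹ ∈ H) (h2 : ∀ x ∈ H, g⁻¹ * x * g ∈ H) :
    g ∈ Subgroup.normalizer (H : Set G) := by
  rw [Subgroup.mem_normalizer_iff]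
  intro x
  constructor
  · exact h1 x
  · intro hx
    have := h2 _ hx
    have e : g⁻¹ * (g * x * g⁻¹) * g = x := by group
    rwa [e] at this

/-- the Levi subgroup normalizes the Siegel radical -/
theorem lev_mem_normalizer_QS (A A' : Mm) (h : A * A' = 1) :
    lev A A' h ∈ Subgroup.normalizer ((QS : Subgroup Sp) : Set Sp) := by
  apply mem_normalizer_of_conj
  · intro x hx
    obtain ⟨S, hS, rfl⟩ := eq_sie_of_mem_QS hx
    rw [lev_conj_sie]
    exact sie_mem_QS _ _
  · intro x hx
    obtain ⟨S, hS, rfl⟩ := eq_sie_of_mem_QS hx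
    have := lev_conj_sie A' A (mul_eq_one_comm.mp h) S hS
    rw [← lev_inv A A' h, inv_inv] at this
    rw [this]
    exact sie_mem_QS _ _

omit [Finite K] in
theorem sieN_inv (S : Mm) (hS : S.IsSymm) : (sieN S hS)⁻¹ = sieN (-S) hS.neg := by
  rw [inv_eq_iff_mul_eq_one, sieN_mul_sieN, ← sieN_zero]
  exact sieN_congr _ (by simp)

omit [Finite K] in
theorem sieN_pow (S : Mm) (hS : S.IsSymm) (n : ℕ) :
    (sieN S hS) ^ n = sieN (n • S) (by
      unfold Matrix.IsSymm
      rw [transpose_smul, hS.eq]) := by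
  induction n with
  | zero =>
    rw [pow_zero, ← sieN_zero]
    exact sieN_congr _ (by rw [zero_smul])
  | succ n ih =>
    rw [pow_succ, ih, sieN_mul_sieN]
    exact sieN_congr _ (by rw [succ_nsmul])

omit [Finite K] in
theorem sieN_pow_char (p : ℕ) [CharP K p] (S : Mm) (hS : S.IsSymm) : (sieN S hS) ^ p = 1 := by
  rw [sieN_pow, ← sieN_zero]
  apply sieN_congr
  ext i j
  rw [Matrix.smul_apply, nsmul_eq_mul, CharP.cast_eq_zero, zero_mul, Matrix.zero_apply]

omit [Finite K] in
theorem xp_inv (j : Fin m) (a : K) : (xp j a : Sp)⁻¹ = xp j (-a) := by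
  unfold xp
  rw [sie_inv]
  exact sie_congr _ (by rw [single_neg])

omit [Finite K] in
theorem xn_inv (j : Fin m) (a : K) : (xn j a : Sp)⁻¹ = xn j (-a) := by
  unfold xn
  rw [sieN_inv]
  exact sieN_congr _ (by rw [single_neg])

omit [Finite K] in
theorem mul_single_apply_of_ne (i : Fin m) (c : K) (M : Mm) (a j : Fin m) (hj : j ≠ i) :
    (M * single i i c) a j = 0 := by
  rw [Matrix.mul_apply]
  apply Finset.sum_eq_zero
  intro k _
  rw [single_apply, if_neg (fun h => hj h.2.symm), mul_zero]

theorem xp_conj_mem_RS (l : Fin m) (hl : ∀ i : Fin m, i ≤ l) (a : K) (h : Sp)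
    (hh : h ∈ (RS l hl : Subgroup Sp)) : xp l a * h * (xp l a)⁻¹ ∈ (RS l hl : Subgroup Sp) := by
  obtain ⟨⟨hC, hA⟩, hB⟩ := hh
  rw [xp_inv]
  unfold xp
  refine ⟨⟨?_, ?_⟩, ?_⟩
  · rw [gC_mul, gC_mul, gC_sie, gD_sie, gA_sie, gC_sie, gD_mul, gC_sie, hC]
    simp
  · rw [gA_mul, gA_mul, gA_sie, gB_sie, gA_sie, gC_sie, hC]
    simpa using hA
  · simp only [gA_mul, gB_mul, gC_mul, gD_mul, gA_sie, gB_sie, gC_sie, gD_sie, hC, Matrix.mul_zero,
      Matrix.zero_mul, Matrix.one_mul, Matrix.mul_one, add_zero, zero_add]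
    rw [Matrix.add_apply, Matrix.add_apply, mul_single_apply_same, single_mul_apply_same, hB,
      hA.diag l, gD_last_col ⟨hC, hA⟩ l hl l, if_pos rfl]
    ring

theorem xn_conj_mem_RS (l : Fin m) (hl : ∀ i : Fin m, i ≤ l) (a : K) (h : Sp)
    (hh : h ∈ (RS l hl : Subgroup Sp)) : xn l a * h * (xn l a)⁻¹ ∈ (RS l hl : Subgroup Sp) := by
  obtain ⟨⟨hC, hA⟩, hB⟩ := hh
  have hSA : single l l a * gA h = single l l a := by
    ext i j
    by_cases hi : i = l
    · subst hi
      rw [single_mul_apply_same, hA.last_row i hl j, single_apply]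
      by_cases hj : i = j
      · rw [if_pos hj, if_pos ⟨rfl, hj⟩, mul_one]
      · rw [if_neg hj, if_neg (fun h => hj h.2), mul_zero]
    · rw [single_mul_apply_of_ne _ _ _ _ _ hi, single_apply, if_neg (fun h => hi h.1.symm)]
  have hDS : gD h * single l l a = single l l a := by
    ext i j
    by_cases hj : j = l
    · subst hj
      rw [mul_single_apply_same, gD_last_col ⟨hC, hA⟩ j hl i, single_apply]
      by_cases hi : i = j
      · rw [if_pos hi, if_pos ⟨hi.symm, rfl⟩, one_mul]
      · rw [if_neg hi, if_neg (fun h => hi h.1.symm), zero_mul]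
    · rw [mul_single_apply_of_ne _ _ _ _ _ hj, single_apply, if_neg (fun h => hj h.2.symm)]
  have hSBS : single l l a * gB h * single l l a = 0 := by
    ext i j
    rw [Matrix.zero_apply]
    by_cases hj : j = l
    · subst hj
      rw [mul_single_apply_same]
      by_cases hi : i = j
      · subst hi
        rw [single_mul_apply_same, hB, mul_zero, zero_mul]
      · rw [single_mul_apply_of_ne _ _ _ _ _ hi, zero_mul]
    · rw [mul_single_apply_of_ne _ _ _ _ _ hj]
  rw [xn_inv]
  unfold xn
  refine ⟨⟨?_, ?_⟩, ?_⟩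
  · simp only [gA_mul, gB_mul, gC_mul, gD_mul, gA_sieN, gB_sieN, gC_sieN, gD_sieN, hC,
      Matrix.mul_zero, Matrix.zero_mul, Matrix.one_mul, Matrix.mul_one, add_zero, zero_add]
    have e : (single l l (-a) : Mm) = -single l l a := (single_neg l l a).symm
    rw [e, Matrix.mul_neg, Matrix.add_mul, hSA, hDS, hSBS]
    simp
  · simp only [gA_mul, gB_mul, gC_mul, gD_mul, gA_sieN, gB_sieN, gC_sieN, gD_sieN, hC,
      Matrix.mul_zero, Matrix.zero_mul, Matrix.one_mul, Matrix.mul_one, add_zero, zero_add]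
    have e : (single l l (-a) : Mm) = -single l l a := (single_neg l l a).symm
    rw [e, Matrix.mul_neg]
    intro i j hji
    rw [Matrix.add_apply, Matrix.neg_apply, hA i j hji]
    by_cases hj : j = l
    · subst hj
      have hi : i = j := le_antisymm (hl i) hji
      subst hi
      rw [mul_single_apply_same, hB, zero_mul, neg_zero, add_zero]
    · rw [mul_single_apply_of_ne _ _ _ _ _ hj, neg_zero, add_zero]
  · simp only [gA_mul, gB_mul, gC_mul, gD_mul, gA_sieN, gB_sieN, gC_sieN, gD_sieN, hC,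
      Matrix.mul_zero, Matrix.zero_mul, Matrix.one_mul, Matrix.mul_one, add_zero, zero_add]
    exact hB

theorem xp_mem_normalizer_RS (l : Fin m) (hl : ∀ i : Fin m, i ≤ l) (a : K) :
    xp l a ∈ Subgroup.normalizer ((RS l hl : Subgroup Sp) : Set Sp) := by
  apply mem_normalizer_of_conj
  · exact fun x hx => xp_conj_mem_RS l hl a x hx
  · intro x hx
    have := xp_conj_mem_RS l hl (-a) x hx
    rwa [← xp_inv, inv_inv] at this

theorem xn_mem_normalizer_RS (l : Fin m) (hl : ∀ i : Fin m, i ≤ l) (a : K) :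
    xn l a ∈ Subgroup.normalizer ((RS l hl : Subgroup Sp) : Set Sp) := by
  apply mem_normalizer_of_conj
  · exact fun x hx => xn_conj_mem_RS l hl a x hx
  · intro x hx
    have := xn_conj_mem_RS l hl (-a) x hx
    rwa [← xn_inv, inv_inv] at this

end finite

end Cfsg.Agent.H9.SpC
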