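import Cfsg.Agent.H9.SUj
import Cfsg.Agent.H9.SpC

/-!
# Radicals of parabolic subgroups of the special unitary group
-/

set_option autoImplicit false
set_option linter.unusedSimpArgs false
set_option linter.unusedVariables false
set_option linter.unusedSectionVars false
set_option linter.style.haveILetI false
set_option linter.unreachableTactic false
set_option linter.unusedTactic false

namespace Cfsg.Agent.H9.SUk

open Matrix Cfsg.Agent.H9.SLnA Cfsg.Agent.H9.SLnB Cfsg.Agent.H9.SpB Cfsg.Agent.H9.SUa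
  Cfsg.Agent.H9.SUb Cfsg.Agent.H9.SUc Cfsg.Agent.H9.SUd Cfsg.Agent.H9.SUe Cfsg.Agent.H9.SUf
  Cfsg.Agent.H9.SUg Cfsg.Agent.H9.SUh Cfsg.Agent.H9.SUi Cfsg.Agent.H9.SUj

variable {n : ℕ} {K : Type*} [Field K]

local notation "Mn" => Matrix (Fin n) (Fin n) K

/-- vectors supported on `A` -/
def Supp (A : Fin n → Prop) (v : Fin n → K) : Prop := ∀ x, ¬ A x → v x = 0

theorem Supp.add {A : Fin n → Prop} {v w : Fin n → K} (hv : Supp A v) (hw : Supp A w) :
    Supp A (v + w) := by
  intro x hx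
  rw [Pi.add_apply, hv x hx, hw x hx, add_zero]

theorem Supp.sub {A : Fin n → Prop} {v w : Fin n → K} (hv : Supp A v) (hw : Supp A w) :
    Supp A (v - w) := by
  intro x hx
  rw [Pi.sub_apply, hv x hx, hw x hx, sub_zero]

theorem Supp.smul_single {A : Fin n → Prop} (i : Fin n) (c : K) (h : A i ∨ c = 0) :
    Supp A (c • (Pi.single i (1 : K) : Fin n → K)) := by
  intro x hx
  rw [Pi.smul_apply, smul_eq_mul]
  rcases h with h | h
  · rw [Pi.single_eq_of_ne (fun h' : x = i => hx (by rw [h']; exact h)), mul_zero]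
  · rw [h, zero_mul]

theorem xM_mulVec_supp (σ : K →+* K) (A : Fin n → Prop) (i j : Fin n) (t s : K)
    (h1 : A i ∨ ¬ A j) (h2 : A j.rev ∨ ¬ A i.rev) (h3 : A i ∨ ¬ A i.rev) (v : Fin n → K)
    (hv : Supp A v) : Supp A (xM σ i j t s *ᵥ v) := by
  rw [xM_mulVec]
  refine ((hv.add (Supp.smul_single i _ ?_)).sub (Supp.smul_single _ _ ?_)).add
    (Supp.smul_single i _ ?_)
  · rcases h1 with h | h
    · exact Or.inl h
    · right
      rw [hv j h, mul_zero]
  · rcases h2 with h | h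
    · exact Or.inl h
    · right
      rw [hv _ h, mul_zero]
  · rcases h3 with h | h
    · exact Or.inl h
    · right
      rw [hv _ h, mul_zero]

theorem transvection_mulVec_supp (A : Fin n → Prop) (i j : Fin n) (c : K) (h : A i ∨ ¬ A j)
    (v : Fin n → K) (hv : Supp A v) : Supp A ((transvection i j c : Mn) *ᵥ v) := by
  rw [transvection_mulVec]
  refine hv.add (Supp.smul_single i _ ?_)
  rcases h with h | h
  · exact Or.inl h
  · right
    rw [hv j h, mul_zero]

section finite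

variable [Finite K] {σ : K →+* K}

/-- the elements acting trivially on the pieces of the flag `A ⊆ B`, as a submonoid -/
def RRm (σ : K →+* K) (A B : Fin n → Prop) : Submonoid (GG n σ) where
  carrier := {g | (∀ v, Supp A v → mt g *ᵥ v = v) ∧
    (∀ v, Supp B v → ∀ x, ¬ A x → (mt g *ᵥ v) x = v x)}
  one_mem' := by
    refine ⟨fun v _ => ?_, fun v _ x _ => ?_⟩
    · rw [mt_one, Matrix.one_mulVec]
    · rw [mt_one, Matrix.one_mulVec]
  mul_mem' := by
    intro g h hg hh
    refine ⟨fun v hv => ?_, fun v hv x hx => ?_⟩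
    · rw [mt_mul, ← Matrix.mulVec_mulVec, hh.1 v hv, hg.1 v hv]
    · have hw : Supp A (mt h *ᵥ v - v) := by
        intro y hy
        rw [Pi.sub_apply, hh.2 v hv y hy, sub_self]
      have e : mt h *ᵥ v = v + (mt h *ᵥ v - v) := by abel
      rw [mt_mul, ← Matrix.mulVec_mulVec, e, Matrix.mulVec_add, hg.1 _ hw, Pi.add_apply,
        hg.2 v hv x hx, hw x hx, add_zero]

/-- the elements acting trivially on the pieces of the flag `A ⊆ B` -/
def RR (σ : K →+* K) (A B : Fin n → Prop) : Subgroup (GG n σ) :=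
  { RRm σ A B with
    inv_mem' := by
      intro g hg
      exact inv_mem_of_finite (RRm σ A B) hg }

theorem mem_RR {A B : Fin n → Prop} {g : GG n σ} : g ∈ RR σ A B ↔
    (∀ v, Supp A v → mt g *ᵥ v = v) ∧ (∀ v, Supp B v → ∀ x, ¬ A x → (mt g *ᵥ v) x = v x) :=
  Iff.rfl

/-- the stabilizer of the flag, as a submonoid -/
def LLm (σ : K →+* K) (A B : Fin n → Prop) : Submonoid (GG n σ) where
  carrier := {g | (∀ v, Supp A v → Supp A (mt g *ᵥ v)) ∧ (∀ v, Supp B v → Supp B (mt g *ᵥ v))}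
  one_mem' := by
    refine ⟨fun v hv => ?_, fun v hv => ?_⟩
    · rw [mt_one, Matrix.one_mulVec]
      exact hv
    · rw [mt_one, Matrix.one_mulVec]
      exact hv
  mul_mem' := by
    intro g h hg hh
    refine ⟨fun v hv => ?_, fun v hv => ?_⟩
    · rw [mt_mul, ← Matrix.mulVec_mulVec]
      exact hg.1 _ (hh.1 v hv)
    · rw [mt_mul, ← Matrix.mulVec_mulVec]
      exact hg.2 _ (hh.2 v hv)

/-- the stabilizer of the flag -/
def LL (σ : K →+* K) (A B : Fin n → Prop) : Subgroup (GG n σ) :=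
  { LLm σ A B with
    inv_mem' := by
      intro g hg
      exact inv_mem_of_finite (LLm σ A B) hg }

theorem mem_LL {A B : Fin n → Prop} {g : GG n σ} : g ∈ LL σ A B ↔
    (∀ v, Supp A v → Supp A (mt g *ᵥ v)) ∧ (∀ v, Supp B v → Supp B (mt g *ᵥ v)) :=
  Iff.rfl

theorem conj_mem_RR {A B : Fin n → Prop} {g h : GG n σ} (hg : g ∈ LL σ A B) (hh : h ∈ RR σ A B) :
    g * h * g⁻¹ ∈ RR σ A B := by
  have hgi : g⁻¹ ∈ LL σ A B := (LL σ A B).inv_mem hg
  have hgg : ∀ v : Fin n → K, mt g *ᵥ (mt g⁻¹ *ᵥ v) = v := by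
    intro v
    rw [Matrix.mulVec_mulVec, ← mt_mul, mul_inv_cancel, mt_one, Matrix.one_mulVec]
  refine ⟨fun v hv => ?_, fun v hv x hx => ?_⟩
  · rw [mt_mul, mt_mul, ← Matrix.mulVec_mulVec, ← Matrix.mulVec_mulVec, hh.1 _ (hgi.1 v hv), hgg]
  · have hu := hgi.2 v hv
    have hw : Supp A (mt h *ᵥ (mt g⁻¹ *ᵥ v) - mt g⁻¹ *ᵥ v) := by
      intro y hy
      rw [Pi.sub_apply, hh.2 _ hu y hy, sub_self]
    have e : mt h *ᵥ (mt g⁻¹ *ᵥ v) = mt g⁻¹ *ᵥ v + (mt h *ᵥ (mt g⁻¹ *ᵥ v) - mt g⁻¹ *ᵥ v) := by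
      abel
    rw [mt_mul, mt_mul, ← Matrix.mulVec_mulVec, ← Matrix.mulVec_mulVec, e, Matrix.mulVec_add, hgg,
      Pi.add_apply, hg.1 _ hw x hx, add_zero]

/-- the stabilizer of the flag normalizes its radical -/
theorem LL_le_normalizer (A B : Fin n → Prop) :
    LL σ A B ≤ Subgroup.normalizer ((RR σ A B : Subgroup (GG n σ)) : Set (GG n σ)) := by
  intro g hg
  apply Cfsg.Agent.H9.SpC.mem_normalizer_of_conj
  · intro x hx
    exact conj_mem_RR hg hx
  · intro x hx
    have := conj_mem_RR ((LL σ A B).inv_mem hg) hx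
    rwa [inv_inv] at this

/-! ### Entries -/

omit [Finite K] in
theorem supp_single {A : Fin n → Prop} (y : Fin n) (hy : A y) (c : K) :
    Supp A (Pi.single y c : Fin n → K) := by
  intro x hx
  exact Pi.single_eq_of_ne (fun h' : x = y => hx (by rw [h']; exact hy)) _

theorem RR_entry1 {A B : Fin n → Prop} {g : GG n σ} (hg : g ∈ RR σ A B) (y : Fin n) (hy : A y)
    (x : Fin n) : mt g x y = (1 : Mn) x y := by
  have h := congrFun (hg.1 _ (supp_single y hy (1 : K))) x
  rw [Matrix.mulVec_single_one, Matrix.col_apply] at h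
  rw [h, Matrix.one_apply, Pi.single_apply]

theorem RR_entry2 {A B : Fin n → Prop} {g : GG n σ} (hg : g ∈ RR σ A B) (y : Fin n) (hy : B y)
    (x : Fin n) (hx : ¬ A x) : mt g x y = (1 : Mn) x y := by
  have h := hg.2 _ (supp_single y hy (1 : K)) x hx
  rw [Matrix.mulVec_single_one, Matrix.col_apply] at h
  rw [h, Matrix.one_apply, Pi.single_apply]

/-- unitarity on the diagonal of a triangular element -/
theorem diag_rev (g : GG n σ) (hup : IsUpper (mt g)) (x : Fin n) :
    mt g x x * σ (mt g x.rev x.rev) = 1 := by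
  have h := congrFun (congrFun (mt_unit g) x) x
  rw [hup.mul_diag (isUpper_adj σ hup), adj_diag, Matrix.one_apply_eq] at h
  exact h

omit [Finite K] in
theorem middle_unique {x y : Fin n} (hx : x = x.rev) (hy : y = y.rev) : x = y := by
  have h1 := congrArg Fin.val hx
  have h2 := congrArg Fin.val hy
  rw [Fin.val_rev] at h1 h2
  apply Fin.ext
  omega

/-- a triangular element with unit diagonal on the first half is unitriangular -/
theorem mem_US_of_diag (hσ : ∀ x, σ (σ x) = x) (g : GG n σ) (hup : IsUpper (mt g))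
    (hd : ∀ x : Fin n, x < x.rev → mt g x x = 1) : g ∈ US n σ := by
  rw [SUa.mem_US]
  apply isUT_of_isUpper hup
  have h2 : ∀ x : Fin n, x.rev < x → mt g x x = 1 := by
    intro x hx
    have := diag_rev g hup x.rev
    rw [Fin.rev_rev, hd x.rev (by rw [Fin.rev_rev]; exact hx), one_mul] at this
    have h3 := congrArg σ this
    rw [hσ, map_one] at h3
    exact h3
  intro x
  rcases lt_trichotomy x x.rev with h | h | h
  · exact hd x h
  · have hdet := mt_det g
    rw [Matrix.det_of_isUpperTriangular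
      (show (mt g).BlockTriangular id from fun i j hij => hup i j hij),
      Finset.prod_eq_single x] at hdet
    · exact hdet
    · intro y _ hy
      rcases lt_trichotomy y y.rev with h' | h' | h'
      · exact hd y h'
      · exact absurd (middle_unique h' h) hy
      · exact h2 y h'
    · intro h'
      exact absurd (Finset.mem_univ _) h'
  · exact h2 x h

/-- trivial columns in the first half force trivial rows in the second half -/
theorem rows_of_cols (hσ : ∀ x, σ (σ x) = x) (u : GG n σ)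
    (hcols : ∀ x y : Fin n, y < y.rev → mt u x y = (1 : Mn) x y) (x y : Fin n) (hx : x.rev < x) :
    mt u x y = (1 : Mn) x y := by
  have h1 := congrFun (congrFun (mt_unit' u) y.rev) x.rev
  rw [Matrix.mul_apply, Finset.sum_eq_single x.rev] at h1
  · rw [adj_apply, Fin.rev_rev, Fin.rev_rev, hcols x.rev x.rev (by rw [Fin.rev_rev]; exact hx),
      Matrix.one_apply_eq, mul_one] at h1
    have h2 := congrArg σ h1
    rw [hσ] at h2
    rw [h2, Matrix.one_apply, Matrix.one_apply]
    by_cases hxy : x = y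
    · rw [if_pos (by rw [hxy]), if_pos hxy, map_one]
    · rw [if_neg (fun h => hxy (Fin.rev_injective h).symm), if_neg hxy, map_zero]
  · intro w _ hw
    rw [hcols w x.rev (by rw [Fin.rev_rev]; exact hx), Matrix.one_apply_ne hw, mul_zero]
  · intro h
    exact absurd (Finset.mem_univ _) h

/-! ### The point radical and the Siegel radical -/

/-- the point radical -/
def Q0 (σ : K →+* K) (o : Fin n) : Subgroup (GG n σ) := RR σ (fun x => x = o) (fun x => x ≠ o.rev)

/-- the point stabilizer (acting trivially on the point) -/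
def P0 (σ : K →+* K) (o : Fin n) : Subgroup (GG n σ) := LL σ (fun x => x = o) (fun x => x ≠ o.rev)

/-- the Siegel radical -/
def QS (σ : K →+* K) (n : ℕ) : Subgroup (GG n σ) :=
  RR σ (fun x => x < x.rev) (fun x => x ≤ x.rev)

/-- the Siegel parabolic -/
def LS (σ : K →+* K) (n : ℕ) : Subgroup (GG n σ) :=
  LL σ (fun x => x < x.rev) (fun x => x ≤ x.rev)

theorem Q0_le_US (hσ : ∀ x, σ (σ x) = x) (o : Fin n) (ho : ∀ x : Fin n, o ≤ x) (hoo : o ≠ o.rev) :
    Q0 σ o ≤ US n σ := by
  intro g hg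
  apply mem_US_of_diag hσ
  · intro x y hyx
    rw [RR_entry2 hg y (lt_of_lt_of_le hyx (rev_max ho x)).ne x (lt_of_le_of_lt (ho y) hyx).ne',
      Matrix.one_apply_ne hyx.ne']
  · intro x hx
    by_cases hxo : x = o
    · rw [RR_entry1 hg x hxo, Matrix.one_apply_eq]
    · rw [RR_entry2 hg x (lt_of_lt_of_le hx (rev_max ho _)).ne x hxo, Matrix.one_apply_eq]

theorem QS_le_US (hσ : ∀ x, σ (σ x) = x) : QS σ n ≤ US n σ := by
  intro g hg
  have hcols : ∀ x y : Fin n, y < y.rev → mt g x y = (1 : Mn) x y := fun x y hy =>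
    RR_entry1 hg y hy x
  apply mem_US_of_diag hσ
  · intro x y hyx
    rcases lt_trichotomy y y.rev with h | h | h
    · rw [hcols x y h, Matrix.one_apply_ne hyx.ne']
    · have hx : ¬ x < x.rev := by
        intro hx
        have h1 := Fin.rev_lt_rev.mpr hyx
        rw [← h] at h1
        exact absurd ((hx.trans h1).trans hyx) (lt_irrefl _)
      rw [RR_entry2 hg y h.le x hx, Matrix.one_apply_ne hyx.ne']
    · have hx : x.rev < x := (Fin.rev_lt_rev.mpr hyx).trans (h.trans hyx)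
      rw [rows_of_cols hσ g hcols x y hx, Matrix.one_apply_ne hyx.ne']
  · intro x hx
    rw [hcols x x hx, Matrix.one_apply_eq]

/-! ### Membership -/

theorem mem_Q0_of_mt (o : Fin n) (hoo : o ≠ o.rev) (g : GG n σ) (μ : K)
    (h : mt g = transvection o o.rev μ) : g ∈ Q0 σ o := by
  refine ⟨fun v hv => ?_, fun v hv x hx => ?_⟩
  · rw [h, transvection_mulVec, hv o.rev hoo.symm, mul_zero, zero_smul, add_zero]
  · rw [h, transvection_mulVec, hv o.rev (fun h' => h' rfl), mul_zero, zero_smul, add_zero]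

theorem xl_mem_Q0 (hσ : ∀ x, σ (σ x) = x) (o : Fin n) (hoo : o ≠ o.rev) (s : K)
    (hs : s + σ s = 0) : xl hσ o s hoo hs ∈ Q0 σ o :=
  mem_Q0_of_mt o hoo _ s (mt_xl hσ o s hoo hs)

theorem xx_mem_Q0 (hσ : ∀ x, σ (σ x) = x) (o : Fin n) (j : Fin n) (t s : K)
    (hv : Valid σ o j t s) : xx hσ o j t s hv ∈ Q0 σ o := by
  refine ⟨fun v hv' => ?_, fun v hv' x hx => ?_⟩
  · rw [mt_xx]
    exact xM_mulVec_of_zero σ o j t s v (hv' j hv.1.symm) (hv' o.rev hv.2.1.symm)
  · rw [mt_xx, xM_mulVec, hv' o.rev (fun h' => h' rfl), mul_zero, mul_zero, zero_smul, zero_smul,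
      sub_zero, add_zero, Pi.add_apply, Pi.smul_apply, Pi.single_eq_of_ne hx, smul_zero, add_zero]

theorem mem_QS_of_mt (b : Fin n) (hb : b < b.rev) (g : GG n σ) (μ : K)
    (h : mt g = transvection b b.rev μ) : g ∈ QS σ n := by
  refine ⟨fun v hv => ?_, fun v hv x hx => ?_⟩
  · rw [h, transvection_mulVec, hv b.rev (by show ¬ b.rev < b.rev.rev; rw [Fin.rev_rev]; exact not_lt.mpr hb.le), mul_zero,
      zero_smul, add_zero]
  · rw [h, transvection_mulVec, hv b.rev (by show ¬ b.rev ≤ b.rev.rev; rw [Fin.rev_rev]; exact not_le.mpr hb), mul_zero,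
      zero_smul, add_zero]

theorem xl_mem_QS (hσ : ∀ x, σ (σ x) = x) (b : Fin n) (hb : b < b.rev) (s : K)
    (hs : s + σ s = 0) : xl hσ b s hb.ne hs ∈ QS σ n :=
  mem_QS_of_mt b hb _ s (mt_xl hσ b s hb.ne hs)

/-- root elements in the point stabilizer -/
theorem xx_mem_P0 (hσ : ∀ x, σ (σ x) = x) (o : Fin n) (i j : Fin n) (t s : K)
    (hv : Valid σ i j t s) (hjo : j ≠ o) (hio : i ≠ o.rev) : xx hσ i j t s hv ∈ P0 σ o := by
  have hi'o : i.rev ≠ o := fun h => hio (by rw [← h, Fin.rev_rev])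
  have hj'o : j.rev ≠ o.rev := fun h => hjo (Fin.rev_injective h)
  refine ⟨fun v hv' => ?_, fun v hv' => ?_⟩
  · rw [mt_xx]
    exact xM_mulVec_supp σ _ i j t s (Or.inr hjo) (Or.inr hi'o) (Or.inr hi'o) v hv'
  · rw [mt_xx]
    exact xM_mulVec_supp σ _ i j t s (Or.inl hio) (Or.inl hj'o) (Or.inl hio) v hv'

theorem xl_mem_P0 (hσ : ∀ x, σ (σ x) = x) (o : Fin n) (i : Fin n) (s : K) (hii : i ≠ i.rev)
    (hs : s + σ s = 0) (hio : i ≠ o.rev) : xl hσ i s hii hs ∈ P0 σ o := by
  have hi'o : i.rev ≠ o := fun h => hio (by rw [← h, Fin.rev_rev])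
  refine ⟨fun v hv' => ?_, fun v hv' => ?_⟩
  · rw [mt_xl]
    exact transvection_mulVec_supp _ i i.rev s (Or.inr hi'o) v hv'
  · rw [mt_xl]
    exact transvection_mulVec_supp _ i i.rev s (Or.inl hio) v hv'

/-- root elements of the Levi factor of the Siegel parabolic -/
theorem xx_mem_LS (hσ : ∀ x, σ (σ x) = x) (a b : Fin n) (t s : K) (hv : Valid σ a b t s)
    (ha : a < a.rev) (hb : b < b.rev) : xx hσ a b t s hv ∈ LS σ n := by
  refine ⟨fun v hv' => ?_, fun v hv' => ?_⟩
  · rw [mt_xx]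
    exact xM_mulVec_supp σ _ a b t s (Or.inl ha)
      (Or.inr (by show ¬ a.rev < a.rev.rev; rw [Fin.rev_rev]; exact not_lt.mpr ha.le)) (Or.inl ha) v hv'
  · rw [mt_xx]
    exact xM_mulVec_supp σ _ a b t s (Or.inl ha.le)
      (Or.inr (by show ¬ a.rev ≤ a.rev.rev; rw [Fin.rev_rev]; exact not_le.mpr ha)) (Or.inl ha.le) v hv'

/-- the unipotent subgroup stabilizes the point -/
theorem US_le_P0 (o : Fin n) (ho : ∀ x : Fin n, o ≤ x) : US n σ ≤ P0 σ o := by
  intro u hu
  have hU := SUa.mem_US.mp hu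
  refine ⟨fun v hv x hx => ?_, fun v hv x hx => ?_⟩
  · show ∑ w, mt u x w * v w = 0
    apply Finset.sum_eq_zero
    intro w _
    by_cases hw : w = o
    · rw [hw, hU.isUpper x o (lt_of_le_of_ne (ho x) (Ne.symm hx)), zero_mul]
    · rw [hv w hw, mul_zero]
  · have hx' : x = o.rev := not_not.mp hx
    show ∑ w, mt u x w * v w = 0
    apply Finset.sum_eq_zero
    intro w _
    by_cases hw : w = o.rev
    · rw [hv w (fun h => h hw), mul_zero]
    · rw [hx', hU.isUpper o.rev w (lt_of_le_of_ne (rev_max ho w) hw), zero_mul]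

/-! ### Orders of root elements -/

omit [Finite K] in
theorem pow_eq_one_of_nilp (p : ℕ) [hp : Fact p.Prime] [CharP K p] (o : Fin n) (N : Mn)
    (hN : N * N * N = 0) : (1 + N) ^ p ^ 2 = 1 := by
  haveI : Nonempty (Fin n) := ⟨o⟩
  rw [add_pow_char_pow_of_commute p 2 (Commute.one_left N), one_pow]
  have h4 : 3 ≤ p ^ 2 := by
    have := hp.out.two_le
    nlinarith
  have e : p ^ 2 = 3 + (p ^ 2 - 3) := by omega
  have h3 : N ^ 3 = 0 := by
    rw [pow_succ, pow_two, hN]
  rw [e, pow_add, h3, zero_mul, add_zero]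

theorem exists_orderOf_of_pow_sq {G : Type*} [Group G] (p : ℕ) [hp : Fact p.Prime] (g : G)
    (h : g ^ p ^ 2 = 1) : ∃ k : ℕ, orderOf g = p ^ k := by
  obtain ⟨k, -, hk⟩ := (Nat.dvd_prime_pow hp.out).mp (orderOf_dvd_of_pow_eq_one h)
  exact ⟨k, hk⟩

theorem xx_orderOf (hσ : ∀ x, σ (σ x) = x) (p : ℕ) [hp : Fact p.Prime] [CharP K p] (i j : Fin n)
    (t s : K) (hv : Valid σ i j t s) : ∃ k : ℕ, orderOf (xx hσ i j t s hv) = p ^ k := by
  apply exists_orderOf_of_pow_sq p
  apply mt_injective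
  rw [mt_pow, mt_xx, mt_one]
  unfold xM
  apply pow_eq_one_of_nilp p i
  rw [nM_mul_nM σ i j t s t s hv.1 hv.2.1 hv.2.2.1]
  unfold nM
  rw [Matrix.mul_add, Matrix.mul_sub, single_mul_single_of_ne _ _ _ _ hv.2.1.symm,
    single_mul_single_of_ne _ _ _ _ (rev_ne_rev hv.1), single_mul_single_of_ne _ _ _ _ hv.2.1.symm,
    sub_zero, add_zero]

theorem xl_orderOf (hσ : ∀ x, σ (σ x) = x) (p : ℕ) [hp : Fact p.Prime] [CharP K p] (i : Fin n)
    (s : K) (hii : i ≠ i.rev) (hs : s + σ s = 0) :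
    ∃ k : ℕ, orderOf (xl hσ i s hii hs) = p ^ k := by
  apply exists_orderOf_of_pow_sq p
  apply mt_injective
  rw [mt_pow, mt_xl, mt_one]
  unfold transvection
  apply pow_eq_one_of_nilp p i
  rw [single_mul_single_of_ne _ _ _ _ hii.symm, Matrix.zero_mul]

/-! ### Centricity -/

/-- a subgroup containing every `p`-element of its centralizer is centric -/
theorem centricIn_of_commute {G : Type*} [Group G] (p : ℕ) [hp : Fact p.Prime] (S0 R : Subgroup G)
    (hS0 : IsPGroup p S0) (hR : R ≤ S0)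
    (h : ∀ z : G, ∀ k : ℕ, z ^ p ^ k = 1 → (∀ x ∈ R, z * x = x * z) → z ∈ R) :
    Cfsg.Agent.H9.GfsSimple3.CentricIn S0 R := by
  refine ⟨hR, ?_⟩
  intro g hg y hyU hcomm
  refine ⟨g⁻¹ * y * g, ?_, by group⟩
  obtain ⟨k, hk⟩ := hS0 ⟨y, hyU⟩
  have hk' : y ^ p ^ k = 1 := congrArg Subtype.val hk
  apply h (g⁻¹ * y * g) k
  · have : (g⁻¹ * y * g) ^ p ^ k = g⁻¹ * y ^ p ^ k * g := by
      have := conj_pow (a := g⁻¹) (b := y) (i := p ^ k)
      rw [inv_inv] at this
      exact this
    rw [this, hk']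
    group
  · intro x hx
    have h1 := hcomm x hx
    calc g⁻¹ * y * g * x = g⁻¹ * (y * (g * x * g⁻¹)) * g := by group
      _ = g⁻¹ * (g * x * g⁻¹ * y) * g := by rw [h1]
      _ = x * (g⁻¹ * y * g) := by group

/-- the point radical is centric -/
theorem centricIn_Q0 (hσ : ∀ x, σ (σ x) = x) (hx0 : ∃ x, σ x ≠ x) (p : ℕ) [hp : Fact p.Prime]
    [CharP K p] (o : Fin n) (ho : ∀ x : Fin n, o ≤ x) (hoo : o ≠ o.rev) :
    Cfsg.Agent.H9.GfsSimple3.CentricIn (US n σ) (Q0 σ o) := by
  apply centricIn_of_commute p _ _ (SUa.isPGroup_US p) (Q0_le_US hσ o ho hoo)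
  intro z k hk hz
  have hshape := shape_of_commute_group hσ hx0 o hoo z
    (fun j t s hv => hz _ (xx_mem_Q0 hσ o j t s hv)) (fun s hs => hz _ (xl_mem_Q0 hσ o hoo s hs))
  have hup : IsUpper (mt z) := by
    intro x y hyx
    rw [hshape, Matrix.add_apply, Matrix.smul_apply, Matrix.one_apply_ne hyx.ne', smul_zero,
      zero_add, single_apply, if_neg]
    rintro ⟨h1, h2⟩
    rw [← h1, ← h2] at hyx
    exact absurd hyx (not_lt.mpr (ho _))
  have hpow : (mt z) ^ p ^ k = 1 := by rw [← mt_pow, hk, mt_one]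
  have h1 := Cfsg.Agent.H9.SpC.diag_eq_one_of_pow p hup k hpow o
  rw [h1, one_smul] at hshape
  exact mem_Q0_of_mt o hoo z _ hshape

/-- the Siegel radical is centric -/
theorem centricIn_QS (hσ : ∀ x, σ (σ x) = x) (hx0 : ∃ x, σ x ≠ x) (p : ℕ) [hp : Fact p.Prime]
    [CharP K p] : Cfsg.Agent.H9.GfsSimple3.CentricIn (US n σ) (QS σ n) := by
  apply centricIn_of_commute p _ _ (SUa.isPGroup_US p) (QS_le_US hσ)
  intro z k hk hz
  obtain ⟨ε, hε, hε2⟩ := exists_eps hσ hx0
  have hA : ∀ b : Fin n, b < b.rev → ∀ x w : Fin n,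
      (if w = b.rev then mt z x b * ε else 0) = (if x = b then ε * mt z b.rev w else 0) := by
    intro b hb x w
    have h1 := congrArg SUa.mt (hz _ (xl_mem_QS hσ b hb ε hε2))
    rw [mt_mul, mt_mul, mt_xl] at h1
    unfold transvection at h1
    rw [Matrix.mul_add, Matrix.add_mul, Matrix.mul_one, Matrix.one_mul] at h1
    have h2 := add_left_cancel h1
    rw [← SUf.mul_single_apply', h2, single_mul_apply']
  have hcol : ∀ b : Fin n, b < b.rev → ∀ x, x ≠ b → mt z x b = 0 := by
    intro b hb x hx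
    have := hA b hb x b.rev
    rw [if_pos rfl, if_neg hx] at this
    rcases mul_eq_zero.mp this with h | h
    · exact h
    · exact absurd h hε
  have hrow : ∀ b : Fin n, b < b.rev → ∀ w, w ≠ b.rev → mt z b.rev w = 0 := by
    intro b hb w hw
    have := hA b hb b w
    rw [if_neg hw, if_pos rfl] at this
    rcases mul_eq_zero.mp this.symm with h | h
    · exact absurd h hε
    · exact h
  have hrow' : ∀ x : Fin n, x.rev < x → ∀ w, w ≠ x → mt z x w = 0 := by
    intro x hx w hw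
    have := hrow x.rev (by rw [Fin.rev_rev]; exact hx) w (by rw [Fin.rev_rev]; exact hw)
    rwa [Fin.rev_rev] at this
  have hup : IsUpper (mt z) := by
    intro x y hyx
    by_cases hy : y < y.rev
    · exact hcol y hy x hyx.ne'
    · have hx : x.rev < x :=
        lt_of_lt_of_le (Fin.rev_lt_rev.mpr hyx) ((not_lt.mp hy).trans hyx.le)
      exact hrow' x hx y hyx.ne
  have hpow : (mt z) ^ p ^ k = 1 := by rw [← mt_pow, hk, mt_one]
  have hd : ∀ x, mt z x x = 1 := Cfsg.Agent.H9.SpC.diag_eq_one_of_pow p hup k hpow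
  refine ⟨fun v hv => ?_, fun v hv x hx => ?_⟩
  · funext x
    show ∑ w, mt z x w * v w = v x
    rw [Finset.sum_eq_single x]
    · rw [hd, one_mul]
    · intro w _ hw
      by_cases hwA : w < w.rev
      · rw [hcol w hwA x (Ne.symm hw), zero_mul]
      · rw [hv w hwA, mul_zero]
    · intro h
      exact absurd (Finset.mem_univ _) h
  · show ∑ w, mt z x w * v w = v x
    rw [Finset.sum_eq_single x]
    · rw [hd, one_mul]
    · intro w _ hw
      by_cases hwA : w < w.rev
      · rw [hcol w hwA x (Ne.symm hw), zero_mul]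
      · by_cases hwB : w ≤ w.rev
        · have hwm : w = w.rev := le_antisymm hwB (not_lt.mp hwA)
          have hx' : x.rev < x := by
            rcases lt_or_eq_of_le (not_lt.mp hx) with h | h
            · exact h
            · exact absurd (middle_unique hwm h.symm) hw
          rw [hrow' x hx' w hw, zero_mul]
        · rw [hv w hwB, mul_zero]
    · intro h
      exact absurd (Finset.mem_univ _) h

end finite

end Cfsg.Agent.H9.SUk
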