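import Cfsg.Agent.H9.SUk

/-!
# The certificate for the special unitary group of the antidiagonal form
-/

set_option autoImplicit false
set_option linter.unusedSimpArgs false
set_option linter.unusedVariables false
set_option linter.unusedSectionVars false
set_option linter.style.haveILetI false
set_option linter.unreachableTactic false
set_option linter.unusedTactic false

namespace Cfsg.Agent.H9.SUl

open Matrix Cfsg.Agent.H9.SLnA Cfsg.Agent.H9.SLnB Cfsg.Agent.H9.SpB Cfsg.Agent.H9.SUa
  Cfsg.Agent.H9.SUb Cfsg.Agent.H9.SUc Cfsg.Agent.H9.SUd Cfsg.Agent.H9.SUe Cfsg.Agent.H9.SUf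
  Cfsg.Agent.H9.SUg Cfsg.Agent.H9.SUh Cfsg.Agent.H9.SUi Cfsg.Agent.H9.SUj Cfsg.Agent.H9.SUk
  Cfsg.Agent.H9.GfsSimple3

variable {n : ℕ} {K : Type*} [Field K]

local notation "Mn" => Matrix (Fin n) (Fin n) K

section finite

variable [Finite K] {σ : K →+* K}

theorem upper_conj_mem_US (g : GG n σ) (hup : IsUpper (mt g)) (u : GG n σ) (hu : u ∈ US n σ) :
    g * u * g⁻¹ ∈ US n σ := by
  rw [SUa.mem_US, mt_conj]
  have hU := SUa.mem_US.mp hu
  have ha := isUpper_adj σ hup
  refine isUT_of_isUpper ((hup.mul hU.isUpper).mul ha) (fun i => ?_)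
  rw [(hup.mul hU.isUpper).mul_diag ha, hup.mul_diag hU.isUpper, hU.diag, mul_one,
    ← hup.mul_diag ha, mt_unit, Matrix.one_apply_eq]

/-- triangular elements normalize the unipotent subgroup -/
theorem upper_mem_normalizer (g : GG n σ) (hup : IsUpper (mt g)) :
    g ∈ Subgroup.normalizer ((US n σ : Subgroup (GG n σ)) : Set (GG n σ)) := by
  apply Cfsg.Agent.H9.SpC.mem_normalizer_of_conj
  · exact upper_conj_mem_US g hup
  · intro x hx
    have hup' : IsUpper (mt g⁻¹) := by
      rw [mt_inv]
      exact isUpper_adj σ hup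
    have := upper_conj_mem_US g⁻¹ hup' x hx
    rwa [inv_inv] at this

theorem US_le_genSub (hσ : ∀ x, σ (σ x) = x) (hx0 : ∃ x, σ x ≠ x) (p : ℕ) [hp : Fact p.Prime]
    [CharP K p] (o : Fin n) (ho : ∀ x : Fin n, o ≤ x) (hoo : o ≠ o.rev) :
    US n σ ≤ genSub p (US n σ) := by
  intro u hu
  apply Subgroup.subset_closure
  refine ⟨Subgroup.le_normalizer hu, Q0 σ o, centricIn_Q0 hσ hx0 p o ho hoo, ?_⟩
  apply Subgroup.subset_closure
  refine ⟨LL_le_normalizer _ _ (US_le_P0 o ho hu), ?_⟩
  obtain ⟨k, hk⟩ := (SUa.isPGroup_US (n := n) (σ := σ) p) ⟨u, hu⟩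
  have hk' : u ^ p ^ k = 1 := congrArg Subtype.val hk
  obtain ⟨j, -, hj⟩ := (Nat.dvd_prime_pow hp.out).mp (orderOf_dvd_of_pow_eq_one hk')
  exact ⟨j, hj⟩

theorem isUpper_of_offdiag {M : Mn} (h : ∀ x y, x ≠ y → M x y = 0) : IsUpper M :=
  fun x y hyx => h x y hyx.ne'

theorem tor4_mem_genSub (hσ : ∀ x, σ (σ x) = x) (hx0 : ∃ x, σ x ≠ x) (p : ℕ) [hp : Fact p.Prime]
    [CharP K p] (a b : Fin n) (hab : a ≠ b) (ha : a < a.rev) (hb : b < b.rev) (hab' : a ≠ b.rev)
    (c : K) (hc : c ≠ 0) : tor4 hσ a b hab ha.ne hb.ne hab' c ∈ genSub p (US n σ) := by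
  apply Subgroup.subset_closure
  refine ⟨upper_mem_normalizer _ (isUpper_of_offdiag
    (tor4_apply_ne hσ a b hab ha.ne hb.ne hab' c hc)), QS σ n, centricIn_QS hσ hx0 p, ?_⟩
  apply tor4_mem
  · intro t hv
    exact Subgroup.subset_closure
      ⟨LL_le_normalizer _ _ (xx_mem_LS hσ a b t 0 hv ha hb), xx_orderOf hσ p a b t 0 hv⟩
  · intro t hv
    exact Subgroup.subset_closure
      ⟨LL_le_normalizer _ _ (xx_mem_LS hσ b a t 0 hv hb ha), xx_orderOf hσ p b a t 0 hv⟩

theorem tor2_mem_genSub (hσ : ∀ x, σ (σ x) = x) (hx0 : ∃ x, σ x ≠ x) (p : ℕ) [hp : Fact p.Prime]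
    [CharP K p] (o : Fin n) (ho : ∀ x : Fin n, o ≤ x) (hoo : o ≠ o.rev) (a : Fin n) (hao : a ≠ o)
    (ha : a < a.rev) (ε : K) (hε2 : ε + σ ε = 0) (hε : ε ≠ 0) (c : K) (hcσ : σ c = c) (hc : c ≠ 0) :
    tor2 hσ a ha.ne ε hε2 c hcσ ∈ genSub p (US n σ) := by
  have hao' : a ≠ o.rev := (lt_of_lt_of_le ha (rev_max ho _)).ne
  have ha'o' : a.rev ≠ o.rev := fun h => hao (Fin.rev_injective h)
  apply Subgroup.subset_closure
  refine ⟨upper_mem_normalizer _ (isUpper_of_offdiag
    (tor2_apply_ne hσ a ha.ne ε hε2 c hcσ hc hε)), Q0 σ o, centricIn_Q0 hσ hx0 p o ho hoo, ?_⟩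
  apply tor2_mem
  · intro s hs
    exact Subgroup.subset_closure
      ⟨LL_le_normalizer _ _ (xl_mem_P0 hσ o a s ha.ne hs hao'), xl_orderOf hσ p a s ha.ne hs⟩
  · intro s haa' hs
    exact Subgroup.subset_closure
      ⟨LL_le_normalizer _ _ (xl_mem_P0 hσ o a.rev s haa' hs ha'o'),
        xl_orderOf hσ p a.rev s haa' hs⟩

theorem tor3_mem_genSub (hσ : ∀ x, σ (σ x) = x) (hx0 : ∃ x, σ x ≠ x) (p : ℕ) [hp : Fact p.Prime]
    [CharP K p] (o : Fin n) (ho : ∀ x : Fin n, o ≤ x) (hoo : o ≠ o.rev) (a m : Fin n) (hao : a ≠ o)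
    (ha : a < a.rev) (hm : m = m.rev) (ham : a ≠ m) (t s : K) (hs : s ≠ 0)
    (h : s + σ s + t * σ t = 0) (s0 : K) (hs0 : s0 ≠ 0) (h0 : s0 + σ s0 = 0) :
    tor3 hσ a m ham ha.ne hm t s hs h s0 hs0 h0 ∈ genSub p (US n σ) := by
  have hao' : a ≠ o.rev := (lt_of_lt_of_le ha (rev_max ho _)).ne
  have ha'o' : a.rev ≠ o.rev := fun h => hao (Fin.rev_injective h)
  have hmo : m ≠ o := by
    intro h'
    rw [h'] at hm
    exact hoo hm
  apply Subgroup.subset_closure
  refine ⟨upper_mem_normalizer _ (isUpper_of_offdiag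
    (tor3_apply_ne hσ a m ham ha.ne hm t s hs h s0 hs0 h0)), Q0 σ o,
    centricIn_Q0 hσ hx0 p o ho hoo, ?_⟩
  apply tor3_mem
  · intro t s hv
    exact Subgroup.subset_closure
      ⟨LL_le_normalizer _ _ (xx_mem_P0 hσ o a m t s hv hmo hao'), xx_orderOf hσ p a m t s hv⟩
  · intro t s hv
    exact Subgroup.subset_closure
      ⟨LL_le_normalizer _ _ (xx_mem_P0 hσ o a.rev m t s hv hmo ha'o'),
        xx_orderOf hσ p a.rev m t s hv⟩

/-- triangular elements lie in `genSub` -/
theorem mem_genSub_of_upper (hσ : ∀ x, σ (σ x) = x) (hx0 : ∃ x, σ x ≠ x)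
    (hN : ∀ y, σ y = y → ∃ t, t * σ t = y) (p : ℕ) [hp : Fact p.Prime] [CharP K p]
    (o : Fin n) (ho : ∀ x : Fin n, o ≤ x) (hoo : o ≠ o.rev) (hn : 4 ≤ n) :
    ∀ d k : ℕ, k + d = n / 2 → ∀ g : GG n σ, IsUpper (mt g) →
      (∀ x : Fin n, x.val < k → mt g x x = 1) → g ∈ genSub p (US n σ) := by
  have ho0 : o.val = 0 := by
    have := ho ⟨0, by omega⟩
    rw [Fin.le_def] at this
    exact Nat.le_zero.mp this
  intro d
  induction d with
  | zero =>
    intro k hk g hup hd
    apply US_le_genSub hσ hx0 p o ho hoo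
    apply mem_US_of_diag hσ g hup
    intro x hx
    apply hd
    rw [Fin.lt_def, Fin.val_rev] at hx
    omega
  | succ d ih =>
    intro k hk g hup hd
    obtain ⟨a, hak⟩ : ∃ a : Fin n, a.val = k := ⟨⟨k, by omega⟩, rfl⟩
    have ha : a < a.rev := by
      rw [Fin.lt_def, Fin.val_rev]
      omega
    obtain ⟨c, hc⟩ : ∃ c : K, c = mt g a a := ⟨_, rfl⟩
    have hc0 : c ≠ 0 := by
      rw [hc]
      exact left_ne_zero_of_mul_eq_one (diag_rev g hup a)
    -- the general step
    have step : ∀ T : GG n σ, T ∈ genSub p (US n σ) → (∀ x y, x ≠ y → mt T x y = 0) →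
        mt T a a = c⁻¹ → (∀ x : Fin n, x.val < k → mt T x x = 1) → g ∈ genSub p (US n σ) := by
      intro T hT hToff hTa hTx
      have hTup : IsUpper (mt T) := isUpper_of_offdiag hToff
      have h1 : T * g ∈ genSub p (US n σ) := by
        apply ih (k + 1) (by omega) (T * g)
        · rw [mt_mul]
          exact hTup.mul hup
        · intro x hx
          rw [mt_mul, hTup.mul_diag hup]
          by_cases hxa : x = a
          · rw [hxa, hTa, ← hc, inv_mul_cancel₀ hc0]
          · have hxk : x.val < k := by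
              have : x.val ≠ a.val := fun h => hxa (Fin.ext h)
              omega
            rw [hTx x hxk, hd x hxk, one_mul]
      have : g = T⁻¹ * (T * g) := by group
      rw [this]
      exact Subgroup.mul_mem _ (Subgroup.inv_mem _ hT) h1
    by_cases hk1 : k + 1 < n / 2
    · -- a torus element of the Levi factor of the Siegel parabolic
      obtain ⟨b, hbk⟩ : ∃ b : Fin n, b.val = k + 1 := ⟨⟨k + 1, by omega⟩, rfl⟩
      have hb : b < b.rev := by
        rw [Fin.lt_def, Fin.val_rev]
        omega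
      have hab : a ≠ b := by
        intro h
        rw [h] at hak
        omega
      have hab' : a ≠ b.rev := by
        intro h
        have := congrArg Fin.val h
        rw [Fin.val_rev] at this
        omega
      apply step (tor4 hσ a b hab ha.ne hb.ne hab' c⁻¹)
        (tor4_mem_genSub hσ hx0 p a b hab ha hb hab' c⁻¹ (inv_ne_zero hc0))
        (tor4_apply_ne hσ a b hab ha.ne hb.ne hab' c⁻¹ (inv_ne_zero hc0))
        (tor4_apply_a hσ a b hab ha.ne hb.ne hab' c⁻¹ (inv_ne_zero hc0))
      intro x hx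
      apply tor4_apply_other hσ a b hab ha.ne hb.ne hab' c⁻¹ (inv_ne_zero hc0)
      · intro h
        rw [h] at hx
        omega
      · intro h
        rw [h] at hx
        omega
      · intro h
        have := congrArg Fin.val h
        rw [Fin.val_rev] at this
        omega
      · intro h
        have := congrArg Fin.val h
        rw [Fin.val_rev] at this
        omega
    · have hkn : k + 1 = n / 2 := by omega
      have hao : a ≠ o := by
        intro h
        rw [h] at hak
        omega
      by_cases hmid : ∃ m : Fin n, m = m.rev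
      · -- the torus of the middle `SU₃`
        obtain ⟨m, hm⟩ := hmid
        have hmv : 2 * m.val + 1 = n := by
          have := congrArg Fin.val hm
          rw [Fin.val_rev] at this
          omega
        have ham : a ≠ m := by
          intro h
          rw [h] at hak
          omega
        obtain ⟨t, s, s0, hs, hv, hs0, h0, hl⟩ := exists_tor3 hσ hx0 hN c⁻¹ (inv_ne_zero hc0)
        apply step (tor3 hσ a m ham ha.ne hm t s hs hv s0 hs0 h0)
          (tor3_mem_genSub hσ hx0 p o ho hoo a m hao ha hm ham t s hs hv s0 hs0 h0)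
          (tor3_apply_ne hσ a m ham ha.ne hm t s hs hv s0 hs0 h0)
          (by rw [tor3_apply_a, hl])
        intro x hx
        apply tor3_apply_other
        · intro h
          rw [h] at hx
          omega
        · intro h
          rw [h] at hx
          omega
        · intro h
          have := congrArg Fin.val h
          rw [Fin.val_rev] at this
          omega
      · -- the torus of the long root
        have hev : n % 2 = 0 := by
          by_contra h
          apply hmid
          refine ⟨⟨n / 2, by omega⟩, ?_⟩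
          apply Fin.ext
          rw [Fin.val_rev]
          show n / 2 = n - (n / 2 + 1)
          omega
        obtain ⟨ε, hε, hε2⟩ := exists_eps hσ hx0
        have hone : ∀ x : Fin n, x ≠ a → x ≠ a.rev → mt g x x = 1 := by
          intro x hxa hxa'
          have h1 : x.val ≠ k := fun h => hxa (Fin.ext (by rw [h, hak]))
          have h2 : x.val ≠ k + 1 := by
            intro h
            apply hxa'
            apply Fin.ext
            rw [Fin.val_rev, h, hak]
            omega
          by_cases hxk : x.val < k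
          · exact hd x hxk
          · have h3 : x.rev.val < k := by
              rw [Fin.val_rev]
              have := x.2
              omega
            have h4 := diag_rev g hup x.rev
            rw [Fin.rev_rev, hd x.rev h3, one_mul] at h4
            have h5 := congrArg σ h4
            rw [hσ, map_one] at h5
            exact h5
        have hdet := mt_det g
        rw [Matrix.det_of_isUpperTriangular
          (show (mt g).BlockTriangular id from fun i j hij => hup i j hij),
          Finset.prod_eq_mul a a.rev ha.ne] at hdet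
        · have h6 := diag_rev g hup a
          rw [← hc] at hdet h6
          have h7 : mt g a.rev a.rev = σ (mt g a.rev a.rev) := by
            apply mul_left_cancel₀ hc0
            rw [hdet, h6]
          have hcσ : σ c⁻¹ = c⁻¹ := by
            have h8 : c⁻¹ = mt g a.rev a.rev := by
              rw [← mul_one c⁻¹, ← hdet, ← mul_assoc, inv_mul_cancel₀ hc0, one_mul]
            rw [h8, ← h7]
          apply step (tor2 hσ a ha.ne ε hε2 c⁻¹ hcσ)
            (tor2_mem_genSub hσ hx0 p o ho hoo a hao ha ε hε2 hε c⁻¹ hcσ (inv_ne_zero hc0))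
            (tor2_apply_ne hσ a ha.ne ε hε2 c⁻¹ hcσ (inv_ne_zero hc0) hε)
            (tor2_apply_a hσ a ha.ne ε hε2 c⁻¹ hcσ (inv_ne_zero hc0) hε)
          intro x hx
          apply tor2_apply_other hσ a ha.ne ε hε2 c⁻¹ hcσ (inv_ne_zero hc0) hε
          · intro h
            rw [h] at hx
            omega
          · intro h
            have := congrArg Fin.val h
            rw [Fin.val_rev] at this
            omega
        · intro x _ hx
          exact hone x hx.1 hx.2
        · intro h
          exact absurd (Finset.mem_univ _) h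
        · intro h
          exact absurd (Finset.mem_univ _) h

/-- **the certificate for the special unitary group of the antidiagonal form** -/
theorem cert2_US (hσ : ∀ x, σ (σ x) = x) (hx0 : ∃ x, σ x ≠ x)
    (hN : ∀ y, σ y = y → ∃ t, t * σ t = y) (p : ℕ) [hp : Fact p.Prime] [CharP K p] (hn : 4 ≤ n) :
    Cert2 p (US n σ) := by
  obtain ⟨o, ho0⟩ : ∃ o : Fin n, o.val = 0 := ⟨⟨0, by omega⟩, rfl⟩
  have ho : ∀ x : Fin n, o ≤ x := by
    intro x
    rw [Fin.le_def, ho0]
    exact Nat.zero_le _
  have hoo : o ≠ o.rev := by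
    intro h
    have := congrArg Fin.val h
    rw [Fin.val_rev] at this
    omega
  obtain ⟨q, hq1⟩ : ∃ q : Fin n, q.val = 1 := ⟨⟨1, by omega⟩, rfl⟩
  have hqo : q ≠ o := by
    intro h
    rw [h] at hq1
    omega
  have hq : q < q.rev := by
    rw [Fin.lt_def, Fin.val_rev]
    omega
  refine ⟨card_US_eq hσ hx0 p, ?_, sc_US hσ hx0 hN p o ho hoo q hqo hq, ?_⟩
  · intro h
    obtain ⟨ε, hε, hε2⟩ := exists_eps hσ hx0
    have h1 : xl hσ o ε hoo hε2 ∈ US n σ := xl_mem_US hσ o ε (lt_rev_o ho hoo) hε2
    rw [h, Subgroup.mem_bot] at h1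
    have h2 := congrFun (congrFun (congrArg SUa.mt h1) o) o.rev
    rw [mt_xl, mt_one, transvection, Matrix.add_apply, Matrix.one_apply_ne hoo, single_apply_same,
      zero_add] at h2
    exact hε h2
  · intro g hg
    exact ⟨g, mem_genSub_of_upper hσ hx0 hN p o ho hoo hn (n / 2) 0 (by omega) g
      (isUpper_of_mem_normalizer hσ hx0 hg) (fun x hx => absurd hx (Nat.not_lt_zero _)),
      fun x _ => rfl⟩

end finite

end Cfsg.Agent.H9.SUl
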