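import Cfsg.Agent.H9.SUl
import Cfsg.Agent.Lib.Helper5.Herm
import Cfsg.Agent.S0279
import Cfsg.Agent.S0754

/-!
# Base change from the antidiagonal Hermitian form to the standard one
-/

set_option autoImplicit false
set_option linter.unusedSimpArgs false
set_option linter.unusedVariables false
set_option linter.unusedSectionVars false
set_option linter.style.haveILetI false
set_option linter.unreachableTactic false
set_option linter.unusedTactic false

namespace Cfsg.Agent.H9.SUm

open Matrix Cfsg.Agent.H9.SLnA Cfsg.Agent.H9.SLnB Cfsg.Agent.H9.SpB Cfsg.Agent.H9.SUa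
  Cfsg.Agent.H9.SUb Cfsg.Agent.H9.SUc Cfsg.Agent.H9.SUd Cfsg.Agent.H9.SUi

variable {n : ℕ} {K : Type*} [Field K]

local notation "Mn" => Matrix (Fin n) (Fin n) K

/-- the reversal matrix -/
def Jrev (n : ℕ) (K : Type*) [Field K] : Matrix (Fin n) (Fin n) K :=
  fun i j => if j = i.rev then 1 else 0

theorem Jrev_mulVec (v : Fin n → K) (i : Fin n) : (Jrev n K *ᵥ v) i = v i.rev := by
  show ∑ j, Jrev n K i j * v j = v i.rev
  rw [Finset.sum_eq_single i.rev]
  · unfold Jrev
    rw [if_pos rfl, one_mul]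
  · intro j _ hj
    unfold Jrev
    rw [if_neg hj, zero_mul]
  · intro h
    exact absurd (Finset.mem_univ _) h

/-- the diagonal part of the base change -/
def dB (σ : K →+* K) (l θ : K) (i : Fin n) : K := if i.rev < i then -(l * σ θ) else 1

/-- the antidiagonal part of the base change -/
def aB (l θ : K) (i : Fin n) : K := if i < i.rev then θ else if i.rev < i then l else 0

/-- the base change matrix -/
def PB (σ : K →+* K) (l θ : K) : Mn :=
  Matrix.diagonal (dB σ l θ) + Matrix.diagonal (aB l θ) * Jrev n K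

theorem PB_mulVec (σ : K →+* K) (l θ : K) (v : Fin n → K) (i : Fin n) :
    (PB σ l θ *ᵥ v) i = dB σ l θ i * v i + aB l θ i * v i.rev := by
  unfold PB
  rw [Matrix.add_mulVec, Pi.add_apply, Matrix.mulVec_diagonal, ← Matrix.mulVec_mulVec,
    Matrix.mulVec_diagonal, Jrev_mulVec]

/-- the base change carries the antidiagonal form to the standard one -/
theorem herm_PB (σ : K →+* K) (hσ : ∀ x, σ (σ x) = x) (l θ : K) (hl : l * σ l = -1)
    (hθ : θ + σ θ = 1) (u v : Fin n → K) :
    ∑ i, (PB σ l θ *ᵥ u) i * σ ((PB σ l θ *ᵥ v) i) = hf σ u v := by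
  have e : hf σ u v = ∑ i, u i * σ (v i.rev) := by
    unfold hf
    show ∑ i, hat σ v i * u i = _
    apply Finset.sum_congr rfl
    intro i _
    rw [hat_apply, mul_comm]
  rw [e, ← sub_eq_zero, ← Finset.sum_sub_distrib]
  apply Finset.sum_ninvolution Fin.rev
  · intro i
    rw [PB_mulVec, PB_mulVec, PB_mulVec, PB_mulVec, Fin.rev_rev]
    unfold dB aB
    rw [Fin.rev_rev]
    rcases lt_trichotomy i i.rev with h | h | h
    · rw [if_neg (not_lt.mpr h.le), if_pos h, if_pos h, if_neg (not_lt.mpr h.le), if_pos h]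
      simp only [map_add, map_mul, map_neg, hσ, map_one]
      linear_combination (u i * σ (v i) + θ * σ θ * u i.rev * σ (v i.rev)
        - σ θ * u i.rev * σ (v i) - θ * u i * σ (v i.rev)) * hl
        + (u i * σ (v i.rev) + u i.rev * σ (v i)) * hθ
    · rw [← h]
      simp only [lt_irrefl, if_false, zero_mul, add_zero, one_mul]
      ring
    · rw [if_pos h, if_neg (not_lt.mpr h.le), if_neg (not_lt.mpr h.le), if_pos h, if_pos h]
      simp only [map_add, map_mul, map_neg, hσ, map_one]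
      linear_combination (u i.rev * σ (v i.rev) + θ * σ θ * u i * σ (v i)
        - σ θ * u i * σ (v i.rev) - θ * u i.rev * σ (v i)) * hl
        + (u i * σ (v i.rev) + u i.rev * σ (v i)) * hθ
  · intro i hi h
    apply hi
    rw [PB_mulVec, PB_mulVec, h]
    unfold dB aB
    rw [h]
    simp only [lt_irrefl, if_false, zero_mul, add_zero, one_mul]
    ring
  · intro i
    exact Finset.mem_univ _
  · intro i
    exact Fin.rev_rev i

/-! ### Unitarity in terms of the form -/

theorem hf_mulVec (σ : K →+* K) (g : Mn) (hg : adj σ g * g = 1) (x y : Fin n → K) :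
    hf σ (g *ᵥ x) (g *ᵥ y) = hf σ x y := by
  unfold hf
  rw [← hat_vecMul_adj, Matrix.dotProduct_mulVec, Matrix.vecMul_vecMul, hg, Matrix.vecMul_one]

theorem unit_of_hf (σ : K →+* K) (g : Mn)
    (h : ∀ x y, hf σ (g *ᵥ x) (g *ᵥ y) = hf σ x y) : adj σ g * g = 1 := by
  ext a b
  have h1 := h (Pi.single b 1) (Pi.single a.rev 1)
  unfold hf at h1
  rw [← hat_vecMul_adj, Matrix.dotProduct_mulVec, Matrix.vecMul_vecMul, hat_single, Fin.rev_rev,
    map_one, Matrix.single_vecMul, one_smul, dotProduct_single, mul_one, single_dotProduct, one_mul,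
    Matrix.row_apply] at h1
  rw [h1, Matrix.one_apply, Pi.single_apply]

/-- the base change is invertible -/
theorem isUnit_PB (σ : K →+* K) (hσ : ∀ x, σ (σ x) = x) (l θ : K) (hl : l * σ l = -1)
    (hθ : θ + σ θ = 1) : IsUnit (PB σ l θ : Mn) := by
  rw [← Matrix.mulVec_injective_iff_isUnit]
  intro u u' h
  have h0 : PB σ l θ *ᵥ (u - u') = 0 := by
    rw [Matrix.mulVec_sub, h, sub_self]
  rw [← sub_eq_zero]
  funext b
  have h1 := herm_PB σ hσ l θ hl hθ (u - u') (Pi.single b.rev 1)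
  rw [h0, hf_single_right, Fin.rev_rev] at h1
  rw [← h1]
  simp

/-! ### The Frobenius involution -/

section frob

variable [Fintype K] {q : ℕ}

open Cfsg.Agent.Lib.Helper5.Herm

/-- the Frobenius map `x ↦ x ^ q` as a ring homomorphism -/
def frob (hK : Fintype.card K = q ^ 2) : K →+* K where
  toFun x := x ^ q
  map_one' := one_pow q
  map_mul' a b := mul_pow a b q
  map_zero' := zero_pow (by have := one_lt_q hK; omega)
  map_add' a b := frob_add hK a b

theorem frob_apply (hK : Fintype.card K = q ^ 2) (x : K) : frob hK x = x ^ q := rfl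

theorem frob_invol (hK : Fintype.card K = q ^ 2) (x : K) : frob hK (frob hK x) = x :=
  frob_frob hK x

theorem exists_frob_ne (hK : Fintype.card K = q ^ 2) : ∃ x : K, frob hK x ≠ x := by
  classical
  have hq := one_lt_q hK
  obtain ⟨g, hg⟩ := IsCyclic.exists_generator (α := Kˣ)
  have hord : orderOf g = q ^ 2 - 1 := by
    rw [orderOf_eq_card_of_forall_mem_zpowers hg, Nat.card_eq_fintype_card, Fintype.card_units, hK]
  refine ⟨(g : K), fun h => ?_⟩
  rw [frob_apply] at h
  have h1 : g ^ (q - 1) = 1 := by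
    have h2 : g ^ (q - 1) * g = 1 * g := by
      rw [← pow_succ, Nat.sub_add_cancel (by omega), one_mul]
      apply Units.ext
      rw [Units.val_pow_eq_pow_val, h]
    exact mul_right_cancel h2
  have h3 := orderOf_dvd_of_pow_eq_one h1
  rw [hord] at h3
  have h4 := Nat.le_of_dvd (by omega) h3
  have h5 : q * q ≤ q ^ 2 := by rw [sq]
  have h6 : 2 * q ≤ q * q := Nat.mul_le_mul_right q hq
  omega

theorem norm_surj (hK : Fintype.card K = q ^ 2) (y : K) (hy : frob hK y = y) :
    ∃ t : K, t * frob hK t = y := by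
  by_cases hy0 : y = 0
  · exact ⟨0, by rw [hy0, zero_mul]⟩
  have hc := Cfsg.Agent.S0754.result hK y hy0 hy
  have hne : Nat.card {x : K // x ^ (q + 1) = y} ≠ 0 := by
    rw [hc]
    omega
  obtain ⟨⟨t, ht⟩⟩ := (Nat.card_ne_zero.mp hne).1
  exact ⟨t, by rw [frob_apply, ← pow_succ', ht]⟩

end frob

/-! ### The isomorphism with the special unitary group of the standard form -/

section transfer

variable [Fintype K] {q : ℕ}

theorem hermForm_PB (hK : Fintype.card K = q ^ 2) (l θ : K) (hl : l * frob hK l = -1)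
    (hθ : θ + frob hK θ = 1) (u v : Fin n → K) :
    Cfsg.hermForm n K q (PB (frob hK) l θ *ᵥ u) (PB (frob hK) l θ *ᵥ v) = hf (frob hK) u v :=
  herm_PB (frob hK) (frob_invol hK) l θ hl hθ u v

theorem PB_mul_inv (hK : Fintype.card K = q ^ 2) (l θ : K) (hl : l * frob hK l = -1)
    (hθ : θ + frob hK θ = 1) : (PB (frob hK) l θ : Mn) * (PB (frob hK) l θ)⁻¹ = 1 :=
  Matrix.mul_nonsing_inv _ ((Matrix.isUnit_iff_isUnit_det _).mp
    (isUnit_PB (frob hK) (frob_invol hK) l θ hl hθ))

theorem PB_inv_mul (hK : Fintype.card K = q ^ 2) (l θ : K) (hl : l * frob hK l = -1)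
    (hθ : θ + frob hK θ = 1) : (PB (frob hK) l θ : Mn)⁻¹ * PB (frob hK) l θ = 1 :=
  Matrix.nonsing_inv_mul _ ((Matrix.isUnit_iff_isUnit_det _).mp
    (isUnit_PB (frob hK) (frob_invol hK) l θ hl hθ))

/-- conjugation by the base change, into the special unitary group of the standard form -/
noncomputable def toSU (hK : Fintype.card K = q ^ 2) (l θ : K) (hl : l * frob hK l = -1)
    (hθ : θ + frob hK θ = 1) : GG n (frob hK) →* Cfsg.SU n K q where
  toFun g := ⟨⟨PB (frob hK) l θ * mt g * (PB (frob hK) l θ)⁻¹, by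
      rw [Matrix.det_conj (isUnit_PB (frob hK) (frob_invol hK) l θ hl hθ), mt_det]⟩, by
    intro u v
    show Cfsg.hermForm n K q ((PB (frob hK) l θ * mt g * (PB (frob hK) l θ)⁻¹) *ᵥ u)
      ((PB (frob hK) l θ * mt g * (PB (frob hK) l θ)⁻¹) *ᵥ v) = Cfsg.hermForm n K q u v
    rw [← Matrix.mulVec_mulVec, ← Matrix.mulVec_mulVec, ← Matrix.mulVec_mulVec,
      ← Matrix.mulVec_mulVec, hermForm_PB hK l θ hl hθ, hf_mulVec _ _ (mt_unit' g),
      ← hermForm_PB hK l θ hl hθ, Matrix.mulVec_mulVec, Matrix.mulVec_mulVec,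
      PB_mul_inv hK l θ hl hθ, Matrix.one_mulVec, Matrix.one_mulVec]⟩
  map_one' := by
    apply Subtype.ext
    apply Subtype.ext
    show PB (frob hK) l θ * mt (1 : GG n (frob hK)) * (PB (frob hK) l θ)⁻¹ = 1
    rw [mt_one, Matrix.mul_one, PB_mul_inv hK l θ hl hθ]
  map_mul' g h := by
    apply Subtype.ext
    apply Subtype.ext
    show PB (frob hK) l θ * mt (g * h) * (PB (frob hK) l θ)⁻¹ =
      (PB (frob hK) l θ * mt g * (PB (frob hK) l θ)⁻¹) *
        (PB (frob hK) l θ * mt h * (PB (frob hK) l θ)⁻¹)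
    rw [mt_mul]
    calc PB (frob hK) l θ * (mt g * mt h) * (PB (frob hK) l θ)⁻¹
        = PB (frob hK) l θ * mt g * 1 * mt h * (PB (frob hK) l θ)⁻¹ := by
          rw [Matrix.mul_one]
          simp only [Matrix.mul_assoc]
      _ = _ := by
          rw [← PB_inv_mul hK l θ hl hθ]
          simp only [Matrix.mul_assoc]

theorem toSU_val (hK : Fintype.card K = q ^ 2) (l θ : K) (hl : l * frob hK l = -1)
    (hθ : θ + frob hK θ = 1) (g : GG n (frob hK)) :
    (toSU hK l θ hl hθ g).1.1 = PB (frob hK) l θ * mt g * (PB (frob hK) l θ)⁻¹ := rfl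

theorem toSU_injective (hK : Fintype.card K = q ^ 2) (l θ : K) (hl : l * frob hK l = -1)
    (hθ : θ + frob hK θ = 1) : Function.Injective (toSU (n := n) hK l θ hl hθ) := by
  intro g h hgh
  apply mt_injective
  have h1 := congrArg (fun x : Cfsg.SU n K q => x.1.1) hgh
  simp only [toSU_val] at h1
  calc mt g = (PB (frob hK) l θ)⁻¹ * (PB (frob hK) l θ * mt g * (PB (frob hK) l θ)⁻¹) *
        PB (frob hK) l θ := by
        rw [Matrix.mul_assoc, Matrix.mul_assoc, Matrix.mul_assoc, PB_inv_mul hK l θ hl hθ,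
          Matrix.mul_one, ← Matrix.mul_assoc, PB_inv_mul hK l θ hl hθ, Matrix.one_mul]
    _ = (PB (frob hK) l θ)⁻¹ * (PB (frob hK) l θ * mt h * (PB (frob hK) l θ)⁻¹) *
        PB (frob hK) l θ := by rw [h1]
    _ = mt h := by
        rw [Matrix.mul_assoc, Matrix.mul_assoc, Matrix.mul_assoc, PB_inv_mul hK l θ hl hθ,
          Matrix.mul_one, ← Matrix.mul_assoc, PB_inv_mul hK l θ hl hθ, Matrix.one_mul]

theorem toSU_surjective (hK : Fintype.card K = q ^ 2) (l θ : K) (hl : l * frob hK l = -1)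
    (hθ : θ + frob hK θ = 1) : Function.Surjective (toSU (n := n) hK l θ hl hθ) := by
  intro h
  obtain ⟨H, hH⟩ : ∃ H : Mn, H = h.1.1 := ⟨_, rfl⟩
  have hpres : ∀ u v : Fin n → K,
      Cfsg.hermForm n K q (H *ᵥ u) (H *ᵥ v) = Cfsg.hermForm n K q u v := by
    intro u v
    rw [hH]
    exact h.2 u v
  obtain ⟨M, hM⟩ : ∃ M : Mn, M = (PB (frob hK) l θ)⁻¹ * H * PB (frob hK) l θ := ⟨_, rfl⟩
  have hPM : PB (frob hK) l θ * M = H * PB (frob hK) l θ := by
    rw [hM, ← Matrix.mul_assoc, ← Matrix.mul_assoc, PB_mul_inv hK l θ hl hθ, Matrix.one_mul]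
  have hdet : M.det = 1 := by
    rw [hM, Matrix.det_conj' (isUnit_PB (frob hK) (frob_invol hK) l θ hl hθ), hH]
    exact h.1.2
  have hunit : adj (frob hK) M * M = 1 := by
    apply unit_of_hf
    intro x y
    rw [← hermForm_PB hK l θ hl hθ, Matrix.mulVec_mulVec, Matrix.mulVec_mulVec, hPM,
      ← Matrix.mulVec_mulVec, ← Matrix.mulVec_mulVec, hpres, hermForm_PB hK l θ hl hθ]
  refine ⟨mk M hdet (mul_eq_one_comm.mp hunit), ?_⟩
  apply Subtype.ext
  apply Subtype.ext
  rw [toSU_val, mt_mk, ← hH, hPM, Matrix.mul_assoc, PB_mul_inv hK l θ hl hθ, Matrix.mul_one]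

open Cfsg Cfsg.Agent.H9.GfsSimple3 in
/-- **the `p`-fusion system of `PSU_n(q)`, `n ≥ 4`, in characteristic `p` is simple** -/
theorem fusion_simple (p : ℕ) [hp : Fact p.Prime] [CharP K p] (hK : Fintype.card K = q ^ 2)
    (hn : 4 ≤ n) (S : Sylow p (Cfsg.PSU n K q)) :
    (groupFusionSystem (S : Subgroup (Cfsg.PSU n K q))).IsSimple p := by
  have hσ := frob_invol hK
  have hx0 := exists_frob_ne hK
  have hN := norm_surj hK
  obtain ⟨l, hl⟩ := hN (-1) (by rw [map_neg, map_one])
  obtain ⟨θ, hθ⟩ := exists_theta hσ hx0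
  have c1 := Cfsg.Agent.H9.SUl.cert2_US (n := n) hσ hx0 hN p hn
  have hker : (toSU (n := n) hK l θ hl hθ).ker = ⊥ :=
    (MonoidHom.ker_eq_bot_iff _).mpr (toSU_injective hK l θ hl hθ)
  have c2 := Cert2.map p (toSU (n := n) hK l θ hl hθ) (toSU_surjective hK l θ hl hθ)
    (by rw [hker]; exact bot_le) (by rw [hker, Subgroup.card_bot]; exact Nat.coprime_one_left p)
    _ c1
  have hpq : p ∣ q := by
    have h1 : p ∣ Fintype.card K :=
      (CharP.cast_eq_zero_iff K p (Fintype.card K)).mp (Nat.cast_card_eq_zero K)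
    rw [hK] at h1
    exact hp.out.dvd_of_dvd_pow h1
  have hcop : (Nat.card (Subgroup.center (Cfsg.SU n K q))).Coprime p := by
    rw [Cfsg.Agent.S0279.result hK n (by omega), Nat.coprime_comm, hp.out.coprime_iff_not_dvd]
    intro h
    have h2 : p ∣ q + 1 := h.trans (Nat.gcd_dvd_right n (q + 1))
    have h3 : p ∣ 1 := (Nat.dvd_add_right hpq).mp h2
    exact hp.out.one_lt.ne' (Nat.dvd_one.mp h3)
  have c3 := Cert2.map p (QuotientGroup.mk' (Subgroup.center (Cfsg.SU n K q)))
    (QuotientGroup.mk'_surjective _) (by rw [QuotientGroup.ker_mk'])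
    (by rw [QuotientGroup.ker_mk']; exact hcop) _ c2
  exact isSimple_of_cert2 p _ c3 S

end transfer

end Cfsg.Agent.H9.SUm
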