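import Cfsg.Agent.H9.SelfDualTwo

set_option autoImplicit false
set_option linter.unusedSectionVars false

namespace Cfsg.Agent.H9.SelfDual

open Module LinearMap

variable {F : Type*} [Field F] {G : Type*} [Group G] {V : Type*} [AddCommGroup V] [Module F V]

/-- a nondegenerate symmetric bilinear form on any finite-dimensional space -/
theorem exists_symm_form (W : Type*) [AddCommGroup W] [Module F W] [FiniteDimensional F W] :
    ∃ D : LinearMap.BilinForm F W, (∀ x y, D x y = D y x) ∧ (∀ x, (∀ y, D x y = 0) → x = 0) := by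
  classical
  let b := Module.finBasis F W
  refine ⟨b.toDual, ?_, ?_⟩
  · have : (b.toDual : LinearMap.BilinForm F W) = (b.toDual : LinearMap.BilinForm F W).flip := by
      apply b.ext
      intro i
      apply b.ext
      intro j
      rw [LinearMap.flip_apply, Basis.toDual_apply, Basis.toDual_apply]
      simp [eq_comm]
    intro x y
    conv_lhs => rw [this]
    rw [LinearMap.flip_apply]
  · intro x hx
    apply b.toDual_injective
    rw [map_zero]
    ext y
    exact hx y

theorem two_case [Fintype G] [FiniteDimensional F V] (h2 : (2 : F) = 0)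
    (hG : (Fintype.card G : F) ≠ 0)
    (ρ : Representation F G V) (B : LinearMap.BilinForm F V) (hB : B.Nondegenerate)
    (hBinv : ∀ g : G, ∀ x y : V, B (ρ g x) (ρ g y) = B x y) :
    ∃ U W : Submodule F V, IsCompl U W ∧ (∀ g : G, ∀ u ∈ U, ρ g u ∈ U) ∧
      (∀ g : G, ∀ w ∈ W, ρ g w ∈ W) ∧
      (∃ A : LinearMap.BilinForm F V, (∀ x : V, A x x = 0) ∧
        (∀ g : G, ∀ x ∈ U, ∀ y ∈ U, A (ρ g x) (ρ g y) = A x y) ∧
        (∀ x ∈ U, (∀ y ∈ U, A x y = 0) → x = 0)) ∧
      (∃ S : LinearMap.BilinForm F V, (∀ x y : V, S x y = S y x) ∧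
        (∀ g : G, ∀ x ∈ W, ∀ y ∈ W, S (ρ g x) (ρ g y) = S x y) ∧
        (∀ x ∈ W, (∀ y ∈ W, S x y = 0) → x = 0)) ∧
      (∀ g : G, ∀ w ∈ W, ρ g w = w) := by
  set U := LinearMap.ker (normMap ρ) with hU
  set W := fixedSub ρ with hW
  have hc : IsCompl U W := isCompl_ker_norm_fixed ρ hG
  have hUinv : Inv ρ U := inv_ker_normMap ρ
  have hWinv : Inv ρ W := inv_fixedSub ρ
  -- orthogonality
  have huw : ∀ u ∈ U, ∀ w ∈ W, B u w = 0 := by
    intro u hu w hw
    have h1 : (Fintype.card G : F) * B u w = 0 := by
      have : ∀ g : G, B (ρ g u) w = B u w := fun g => by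
        conv_lhs => rw [← hw g]
        rw [hBinv]
      calc (Fintype.card G : F) * B u w = ∑ g : G, B (ρ g u) w := by
            rw [Finset.sum_congr rfl (fun g _ => this g), Finset.sum_const, Finset.card_univ,
              nsmul_eq_mul]
        _ = B (normMap ρ u) w := by
            rw [normMap_apply, map_sum, LinearMap.sum_apply]
        _ = 0 := by rw [LinearMap.mem_ker.1 hu, map_zero, LinearMap.zero_apply]
    rcases mul_eq_zero.1 h1 with h | h
    · exact absurd h hG
    · exact h
  have hBU : (B.restrict U).Nondegenerate := by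
    apply LinearMap.BilinForm.Nondegenerate.ofSeparatingLeft
    intro u hu
    apply Subtype.ext
    apply hB.1
    intro z
    have hz : z ∈ U ⊔ W := by rw [hc.sup_eq_top]; trivial
    obtain ⟨a, ha, b, hb, rfl⟩ := Submodule.mem_sup.1 hz
    rw [map_add, huw _ u.2 b hb, add_zero]
    have := hu ⟨a, ha⟩
    simpa using this
  have hBUinv : ∀ g : G, ∀ a b : U,
      (B.restrict U) (subRep ρ U hUinv g a) (subRep ρ U hUinv g b) = (B.restrict U) a b := by
    intro g a b
    simp only [LinearMap.BilinForm.restrict_apply, subRep_apply]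
    exact hBinv g a b
  have hUfix : ∀ v : U, (∀ g : G, subRep ρ U hUinv g v = v) → v = 0 := by
    intro v hv
    apply Subtype.ext
    have h1 : (v : V) ∈ W := by
      intro g
      have := congrArg Subtype.val (hv g)
      rwa [subRep_apply] at this
    have : (v : V) ∈ U ⊓ W := ⟨v.2, h1⟩
    rw [hc.inf_eq_bot] at this
    exact (Submodule.mem_bot F).1 this
  obtain ⟨AU, hAalt, hAinv, hAnd⟩ :=
    two_main h2 hG (finrank F U) U (subRep ρ U hUinv) (B.restrict U) rfl hBU hBUinv hUfix
  obtain ⟨D, hDsymm, hDnd⟩ := exists_symm_form (F := F) W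
  set πU : V →ₗ[F] U := U.projectionOnto W hc with hπU
  set πW : V →ₗ[F] W := W.projectionOnto U hc.symm with hπW
  have hπUeq : ∀ g x, πU (ρ g x) = subRep ρ U hUinv g (πU x) := by
    intro g x
    apply Subtype.ext
    rw [subRep_apply, hπU, Submodule.coe_projectionOnto_apply, Submodule.coe_projectionOnto_apply]
    exact proj_equiv ρ hc hUinv hWinv g x
  refine ⟨U, W, hc, hUinv, hWinv, ⟨AU.comp πU πU, ?_, ?_, ?_⟩, ⟨D.comp πW πW, ?_, ?_, ?_⟩, ?_⟩
  · intro x
    rw [LinearMap.BilinForm.comp_apply]; exact hAalt _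
  · intro g x _ y _
    rw [LinearMap.BilinForm.comp_apply, LinearMap.BilinForm.comp_apply, hπUeq, hπUeq, hAinv]
  · intro x hx hxy
    have h1 : πU x = 0 := by
      apply hAnd
      intro y'
      have := hxy (y' : V) y'.2
      rw [LinearMap.BilinForm.comp_apply, hπU, Submodule.projectionOnto_apply_left] at this
      exact this
    have h2' := Submodule.projectionOnto_apply_of_mem_left hc hx
    rw [← hπU, h1] at h2'
    exact (congrArg Subtype.val h2').symm
  · intro x y
    rw [LinearMap.BilinForm.comp_apply, LinearMap.BilinForm.comp_apply]; exact hDsymm _ _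
  · intro g x hx y hy
    rw [hx g, hy g]
  · intro x hx hxy
    have h1 : πW x = 0 := by
      apply hDnd
      intro y'
      have := hxy (y' : V) y'.2
      rw [LinearMap.BilinForm.comp_apply, hπW, Submodule.projectionOnto_apply_left] at this
      exact this
    have h2' := Submodule.projectionOnto_apply_of_mem_left hc.symm hx
    rw [← hπW, h1] at h2'
    exact (congrArg Subtype.val h2').symm
  · intro g w hw
    exact hw g

end Cfsg.Agent.H9.SelfDual
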