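import Mathlib

set_option autoImplicit false
set_option linter.unusedSectionVars false

namespace Cfsg.Agent.H9.SelfDual

open Module LinearMap Filter

variable {F : Type*} [Field F] {V : Type*} [AddCommGroup V] [Module F V] [FiniteDimensional F V]

/-- The asymmetry of a nondegenerate bilinear form: `B y (asym x) = B x y`. -/
noncomputable def asym (B : LinearMap.BilinForm F V) (hB : B.Nondegenerate) : V →ₗ[F] V :=
  ((B.flip.toDual hB.flip).symm : Dual F V →ₗ[F] V) ∘ₗ B

lemma asym_spec (B : LinearMap.BilinForm F V) (hB : B.Nondegenerate) (x y : V) :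
    B y (asym B hB x) = B x y := by
  have h := LinearMap.BilinForm.apply_toDual_symm_apply (B := B.flip) (hB := hB.flip) (B x) y
  rw [LinearMap.BilinForm.flip_apply] at h
  exact h

lemma eq_of_forall_right (B : LinearMap.BilinForm F V) (hB : B.Nondegenerate) {a b : V}
    (h : ∀ y, B y a = B y b) : a = b := by
  have h2 : ∀ y, B y (a - b) = 0 := fun y => by rw [map_sub, h y, sub_self]
  have := hB.2 (a - b) h2
  exact sub_eq_zero.1 this

lemma eq_zero_of_forall_right (B : LinearMap.BilinForm F V) (hB : B.Nondegenerate) {a : V}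
    (h : ∀ y, B y a = 0) : a = 0 := hB.2 a h

lemma eq_zero_of_forall_left (B : LinearMap.BilinForm F V) (hB : B.Nondegenerate) {a : V}
    (h : ∀ y, B a y = 0) : a = 0 := hB.1 a h

lemma asym_isom (B : LinearMap.BilinForm F V) (hB : B.Nondegenerate) (x y : V) :
    B (asym B hB x) (asym B hB y) = B x y := by
  rw [asym_spec, asym_spec]

lemma asym_injective (B : LinearMap.BilinForm F V) (hB : B.Nondegenerate) :
    Function.Injective (asym B hB) := by
  rw [← LinearMap.ker_eq_bot, LinearMap.ker_eq_bot']
  intro x hx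
  apply eq_zero_of_forall_left B hB
  intro y
  rw [← asym_spec B hB x y, hx, map_zero]

lemma asym_surjective (B : LinearMap.BilinForm F V) (hB : B.Nondegenerate) :
    Function.Surjective (asym B hB) :=
  LinearMap.injective_iff_surjective.1 (asym_injective B hB)

/-- An isometry commutes with the asymmetry. -/
lemma asym_comm (B : LinearMap.BilinForm F V) (hB : B.Nondegenerate) (T : V →ₗ[F] V)
    (hT : ∀ x y, B (T x) (T y) = B x y) (x : V) : asym B hB (T x) = T (asym B hB x) := by
  have hinj : Function.Injective T := by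
    rw [← LinearMap.ker_eq_bot, LinearMap.ker_eq_bot']
    intro x hx
    apply eq_zero_of_forall_left B hB
    intro y
    rw [← hT, hx, map_zero, LinearMap.zero_apply]
  have hsurj : Function.Surjective T := LinearMap.injective_iff_surjective.1 hinj
  apply eq_of_forall_right B hB
  intro y
  obtain ⟨y', rfl⟩ := hsurj y
  rw [asym_spec, hT, hT, asym_spec]


section fit

variable (B : LinearMap.BilinForm F V) (hB : B.Nondegenerate)

/-- `f = σ + 1`. -/
noncomputable def ff : Module.End F V := asym B hB + 1

lemma ff_apply (x : V) : ff B hB x = asym B hB x + x := by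
  simp [ff]

lemma comm_sf : Commute (asym B hB : Module.End F V) (ff B hB) := by
  unfold ff
  exact (Commute.refl _).add_right (Commute.one_right _)

lemma adj1 (a b : V) : B (asym B hB a) (ff B hB b) = B (ff B hB a) b := by
  rw [ff_apply, ff_apply, map_add, map_add, LinearMap.add_apply, asym_isom]
  ring

lemma adj2 (a b : V) : B (ff B hB a) (asym B hB b) = B a (ff B hB b) := by
  rw [ff_apply, ff_apply, map_add, map_add, LinearMap.add_apply, asym_isom]
  ring

lemma adj1_pow (n : ℕ) (a b : V) :
    B (((asym B hB : Module.End F V) ^ n) a) ((ff B hB ^ n) b) = B ((ff B hB ^ n) a) b := by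
  induction n generalizing a b with
  | zero => simp
  | succ n ih =>
    have hc : Commute (ff B hB) ((asym B hB : Module.End F V) ^ n) :=
      ((comm_sf B hB).pow_left n).symm
    have e1 : ((asym B hB : Module.End F V) ^ (n + 1)) a
        = asym B hB (((asym B hB : Module.End F V) ^ n) a) := by
      rw [pow_succ', Module.End.mul_apply]
    have e2 : (ff B hB ^ (n + 1)) b = ff B hB ((ff B hB ^ n) b) := by
      rw [pow_succ', Module.End.mul_apply]
    have e3 : ff B hB (((asym B hB : Module.End F V) ^ n) a)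
        = ((asym B hB : Module.End F V) ^ n) (ff B hB a) := by
      have := congrArg (fun g : Module.End F V => g a) hc.eq
      simpa [Module.End.mul_apply] using this
    have e4 : (ff B hB ^ (n + 1)) a = (ff B hB ^ n) (ff B hB a) := by
      rw [pow_succ, Module.End.mul_apply]
    rw [e1, e2, adj1, e3, ih, e4]

lemma adj2_pow (n : ℕ) (a b : V) :
    B ((ff B hB ^ n) a) (((asym B hB : Module.End F V) ^ n) b) = B a ((ff B hB ^ n) b) := by
  induction n generalizing a b with
  | zero => simp
  | succ n ih =>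
    have hc : Commute (ff B hB) ((asym B hB : Module.End F V) ^ n) :=
      ((comm_sf B hB).pow_left n).symm
    have e1 : ((asym B hB : Module.End F V) ^ (n + 1)) b
        = asym B hB (((asym B hB : Module.End F V) ^ n) b) := by
      rw [pow_succ', Module.End.mul_apply]
    have e2 : (ff B hB ^ (n + 1)) a = ff B hB ((ff B hB ^ n) a) := by
      rw [pow_succ', Module.End.mul_apply]
    have e3 : ff B hB (((asym B hB : Module.End F V) ^ n) b)
        = ((asym B hB : Module.End F V) ^ n) (ff B hB b) := by
      have := congrArg (fun g : Module.End F V => g b) hc.eq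
      simpa [Module.End.mul_apply] using this
    have e4 : (ff B hB ^ (n + 1)) b = (ff B hB ^ n) (ff B hB b) := by
      rw [pow_succ, Module.End.mul_apply]
    rw [e1, e2, adj2, e3, ih, e4]

lemma asym_pow_bij (n : ℕ) : Function.Bijective ⇑((asym B hB : Module.End F V) ^ n) := by
  induction n with
  | zero =>
    rw [pow_zero]
    exact ⟨fun a b h => by simpa using h, fun b => ⟨b, by simp⟩⟩
  | succ n ih =>
    have : ⇑((asym B hB : Module.End F V) ^ (n + 1))
        = ⇑(asym B hB) ∘ ⇑((asym B hB : Module.End F V) ^ n) := by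
      ext x
      rw [pow_succ', Module.End.mul_apply]; rfl
    rw [this]
    exact Function.Bijective.comp ⟨asym_injective B hB, asym_surjective B hB⟩ ih

/-- preimage of a kernel element under `σ^n` is a kernel element -/
lemma ker_pre (n : ℕ) {u : V} (hu : (ff B hB ^ n) u = 0) :
    ∃ u', ((asym B hB : Module.End F V) ^ n) u' = u ∧ (ff B hB ^ n) u' = 0 := by
  obtain ⟨u', rfl⟩ := (asym_pow_bij B hB n).2 u
  refine ⟨u', rfl, ?_⟩
  have hc : Commute (ff B hB ^ n) ((asym B hB : Module.End F V) ^ n) :=
    (((comm_sf B hB).pow_left n).pow_right n).symm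
  have := congrArg (fun g : Module.End F V => g u') hc.eq
  simp only [Module.End.mul_apply] at this
  rw [hu] at this
  apply (asym_pow_bij B hB n).1
  rw [← this, map_zero]

lemma orth1 (n : ℕ) {u : V} (hu : (ff B hB ^ n) u = 0) (c : V) : B u ((ff B hB ^ n) c) = 0 := by
  obtain ⟨u', rfl, hu'⟩ := ker_pre B hB n hu
  rw [adj1_pow, hu', map_zero, LinearMap.zero_apply]

lemma orth2 (n : ℕ) {u : V} (hu : (ff B hB ^ n) u = 0) (c : V) : B ((ff B hB ^ n) c) u = 0 := by
  obtain ⟨u', rfl, hu'⟩ := ker_pre B hB n hu
  rw [adj2_pow, hu', map_zero]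

end fit


lemma ff_comm_isom (B : LinearMap.BilinForm F V) (hB : B.Nondegenerate) (T : V →ₗ[F] V)
    (hT : ∀ x y, B (T x) (T y) = B x y) (n : ℕ) (x : V) :
    (ff B hB ^ n) (T x) = T ((ff B hB ^ n) x) := by
  induction n generalizing x with
  | zero => simp
  | succ n ih =>
    rw [pow_succ, Module.End.mul_apply, Module.End.mul_apply, ff_apply, ff_apply,
      asym_comm B hB T hT, ← map_add, ih]

theorem odd_main (h2 : (2 : F) ≠ 0) (B : LinearMap.BilinForm F V) (hB : B.Nondegenerate) :
    ∃ U W : Submodule F V, IsCompl U W ∧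
      (∀ T : V →ₗ[F] V, (∀ x y, B (T x) (T y) = B x y) →
        (∀ u ∈ U, T u ∈ U) ∧ (∀ w ∈ W, T w ∈ W)) ∧
      (∀ x ∈ U, (∀ y ∈ U, B x y - B y x = 0) → x = 0) ∧
      (∀ x ∈ W, (∀ y ∈ W, B x y + B y x = 0) → x = 0) := by
  obtain ⟨n, hn, hn1⟩ :=
    ((ff B hB).eventually_isCompl_ker_pow_range_pow.and (eventually_ge_atTop 1)).exists
  have hsplit : ∀ y : V, ∃ u w, (ff B hB ^ n) u = 0 ∧ w ∈ range (ff B hB ^ n) ∧ y = u + w := by
    intro y
    have : y ∈ ker (ff B hB ^ n) ⊔ range (ff B hB ^ n) := by
      rw [hn.sup_eq_top]; trivial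
    obtain ⟨u, hu, w, hw, rfl⟩ := Submodule.mem_sup.1 this
    exact ⟨u, w, LinearMap.mem_ker.1 hu, hw, rfl⟩
  refine ⟨ker (ff B hB ^ n), range (ff B hB ^ n), hn, ?_, ?_, ?_⟩
  · intro T hT
    refine ⟨fun u hu => ?_, fun w hw => ?_⟩
    · rw [LinearMap.mem_ker] at hu ⊢
      rw [ff_comm_isom B hB T hT, hu, map_zero]
    · obtain ⟨c, rfl⟩ := hw
      exact ⟨T c, ff_comm_isom B hB T hT n c⟩
  · intro x hx hxy
    rw [LinearMap.mem_ker] at hx
    -- z = σ x - x
    have hcs : Commute (ff B hB ^ n) (asym B hB : Module.End F V) :=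
      ((comm_sf B hB).pow_right n).symm
    have hz : (ff B hB ^ n) (asym B hB x - x) = 0 := by
      rw [map_sub, hx, sub_zero]
      have := congrArg (fun g : Module.End F V => g x) hcs.eq
      simp only [Module.End.mul_apply] at this
      rw [this, hx, map_zero]
    have hz0 : asym B hB x - x = 0 := by
      apply eq_zero_of_forall_right B hB
      intro y
      obtain ⟨u, w, hu, ⟨c, rfl⟩, rfl⟩ := hsplit y
      rw [map_add, LinearMap.add_apply, orth2 B hB n hz c, add_zero, map_sub, asym_spec]
      exact hxy u (LinearMap.mem_ker.2 hu)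
    have hsx : asym B hB x = x := sub_eq_zero.1 hz0
    have hfx : ∀ k : ℕ, (ff B hB ^ k) x = (2 : F) ^ k • x := by
      intro k
      induction k with
      | zero => simp
      | succ k ih =>
        rw [pow_succ', Module.End.mul_apply, ih, map_smul, ff_apply, hsx, pow_succ, mul_smul,
          two_smul]
    rw [hfx n] at hx
    rcases smul_eq_zero.1 hx with h | h
    · exact absurd h (pow_ne_zero n h2)
    · exact h
  · intro x hx hxy
    obtain ⟨c, rfl⟩ := hx
    have hfx : ff B hB ((ff B hB ^ n) c) = 0 := by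
      apply eq_zero_of_forall_right B hB
      intro y
      obtain ⟨u, w, hu, hw, rfl⟩ := hsplit y
      have e1 : ff B hB ((ff B hB ^ n) c) = (ff B hB ^ n) (ff B hB c) := by
        rw [← Module.End.mul_apply, ← Module.End.mul_apply, ← pow_succ', ← pow_succ]
      rw [map_add, LinearMap.add_apply]
      have : B u (ff B hB ((ff B hB ^ n) c)) = 0 := by
        rw [e1]; exact orth1 B hB n hu _
      rw [this, zero_add, ff_apply, map_add, asym_spec, add_comm]
      exact (add_comm _ _).trans (hxy w hw)
    have hk : (ff B hB ^ n) c ∈ ker (ff B hB ^ n) := by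
      rw [LinearMap.mem_ker]
      obtain ⟨m, rfl⟩ : ∃ m, n = m + 1 := ⟨n - 1, by omega⟩
      have e : ∀ v : V, (ff B hB ^ (m + 1)) v = (ff B hB ^ m) (ff B hB v) := fun v => by
        rw [pow_succ (ff B hB) m, Module.End.mul_apply]
      rw [e ((ff B hB ^ (m + 1)) c), hfx, map_zero]
    have : (ff B hB ^ n) c ∈ ker (ff B hB ^ n) ⊓ range (ff B hB ^ n) := ⟨hk, ⟨c, rfl⟩⟩
    rw [hn.inf_eq_bot] at this
    exact (Submodule.mem_bot F).1 this

end Cfsg.Agent.H9.SelfDual
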