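import Cfsg.Agent.H9.SelfDualRep

set_option autoImplicit false
set_option linter.unusedSectionVars false

namespace Cfsg.Agent.H9.SelfDual

open Module LinearMap

universe u

variable {F : Type*} [Field F] {G : Type*} [Group G] {V : Type u} [AddCommGroup V] [Module F V]

/-- the "symmetric vectors" -/
def Rsub (B : LinearMap.BilinForm F V) : Submodule F V where
  carrier := {x | ∀ y, B x y = B y x}
  add_mem' := fun {a b} ha hb y => by
    rw [map_add, LinearMap.add_apply, map_add, ha y, hb y]
  zero_mem' := fun y => by simp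
  smul_mem' := fun c x hx y => by
    rw [map_smul, LinearMap.smul_apply, map_smul, hx y]

lemma mem_Rsub (B : LinearMap.BilinForm F V) (x : V) : x ∈ Rsub B ↔ ∀ y, B x y = B y x := Iff.rfl

lemma mem_orth (B : LinearMap.BilinForm F V) (N : Submodule F V) (m : V) :
    m ∈ B.orthogonal N ↔ ∀ n ∈ N, B n m = 0 := by
  rw [LinearMap.BilinForm.mem_orthogonal_iff]

lemma binv_left (ρ : Representation F G V) (B : LinearMap.BilinForm F V)
    (hBinv : ∀ g : G, ∀ x y : V, B (ρ g x) (ρ g y) = B x y) (g : G) (x y : V) :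
    B (ρ g x) y = B x (ρ g⁻¹ y) := by
  conv_lhs => rw [← rho_apply_inv ρ g y]
  rw [hBinv]

lemma binv_right (ρ : Representation F G V) (B : LinearMap.BilinForm F V)
    (hBinv : ∀ g : G, ∀ x y : V, B (ρ g x) (ρ g y) = B x y) (g : G) (x y : V) :
    B x (ρ g y) = B (ρ g⁻¹ x) y := by
  conv_lhs => rw [← rho_apply_inv ρ g x]
  rw [hBinv]

lemma inv_Rsub (ρ : Representation F G V) (B : LinearMap.BilinForm F V)
    (hBinv : ∀ g : G, ∀ x y : V, B (ρ g x) (ρ g y) = B x y) : Inv ρ (Rsub B) := by
  intro g x hx y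
  rw [binv_left ρ B hBinv, hx, binv_right ρ B hBinv]

lemma inv_orth (ρ : Representation F G V) (B : LinearMap.BilinForm F V)
    (hBinv : ∀ g : G, ∀ x y : V, B (ρ g x) (ρ g y) = B x y) {Z : Submodule F V} (hZ : Inv ρ Z) :
    Inv ρ (B.orthogonal Z) := by
  intro g x hx
  rw [mem_orth] at hx ⊢
  intro z hz
  rw [binv_right ρ B hBinv]
  exact hx _ (hZ g⁻¹ z hz)

/-- additivity of `x ↦ B x x` on sums of symmetric vectors in characteristic 2 -/
lemma Q_sum (h2 : (2 : F) = 0) (B : LinearMap.BilinForm F V) {ι : Type*} (S : Finset ι)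
    (a : ι → V) (ha : ∀ i, a i ∈ Rsub B) :
    B (∑ i ∈ S, a i) (∑ i ∈ S, a i) = ∑ i ∈ S, B (a i) (a i) := by
  classical
  induction S using Finset.induction_on with
  | empty => simp
  | insert i S hi ih =>
    have e := ha i (∑ i ∈ S, a i)
    rw [Finset.sum_insert hi, Finset.sum_insert hi, map_add, map_add, LinearMap.add_apply,
      LinearMap.add_apply, ih, ← e]
    have : B (a i) (∑ i ∈ S, a i) + B (a i) (∑ i ∈ S, a i) = 0 := by
      rw [← two_mul, h2, zero_mul]
    linear_combination this

lemma Q_zero [Fintype G] (h2 : (2 : F) = 0) (hG : (Fintype.card G : F) ≠ 0)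
    (ρ : Representation F G V) (B : LinearMap.BilinForm F V)
    (hBinv : ∀ g : G, ∀ x y : V, B (ρ g x) (ρ g y) = B x y)
    (hfix : ∀ v : V, (∀ g : G, ρ g v = v) → v = 0) {x : V} (hx : x ∈ Rsub B) : B x x = 0 := by
  have hs : ∑ g : G, ρ g x = 0 := by
    apply hfix
    intro h
    have := rho_normMap ρ h x
    rwa [normMap_apply] at this
  have h1 := Q_sum h2 B (Finset.univ : Finset G) (fun g => ρ g x)
    (fun g => inv_Rsub ρ B hBinv g x hx)
  rw [hs, map_zero] at h1
  simp only [hBinv, Finset.sum_const, Finset.card_univ, nsmul_eq_mul] at h1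
  rcases mul_eq_zero.1 h1.symm with h | h
  · exact absurd h hG
  · exact h


lemma add_self_zero (h2 : (2 : F) = 0) (a : F) : a + a = 0 := by
  rw [← two_mul, h2, zero_mul]

theorem case_bot [Fintype G] [FiniteDimensional F V] (h2 : (2 : F) = 0)
    (hG : (Fintype.card G : F) ≠ 0)
    (ρ : Representation F G V) (B : LinearMap.BilinForm F V) (hB : B.Nondegenerate)
    (hBinv : ∀ g : G, ∀ x y : V, B (ρ g x) (ρ g y) = B x y)
    (hfix : ∀ v : V, (∀ g : G, ρ g v = v) → v = 0)
    (hT : Rsub B ⊓ B.orthogonal (Rsub B) = ⊥) :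
    ∃ A : LinearMap.BilinForm F V, (∀ x, A x x = 0) ∧
      (∀ g : G, ∀ x y : V, A (ρ g x) (ρ g y) = A x y) ∧ (∀ x, (∀ y, A x y = 0) → x = 0) := by
  have hdisj : Disjoint (Rsub B) (B.orthogonal (Rsub B)) := disjoint_iff.2 hT
  have hc : IsCompl (Rsub B) (B.orthogonal (Rsub B)) := by
    refine ⟨hdisj, codisjoint_iff.2 (Submodule.eq_top_of_disjoint _ _ ?_ hdisj)⟩
    rw [LinearMap.BilinForm.finrank_orthogonal hB]
    have := Submodule.finrank_le (Rsub B)
    omega
  have hRinv := inv_Rsub ρ B hBinv
  have hRpinv := inv_orth ρ B hBinv hRinv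
  -- orthogonality facts
  have hrs : ∀ r ∈ Rsub B, ∀ s ∈ B.orthogonal (Rsub B), B r s = 0 := fun r hr s hs =>
    (mem_orth B _ s).1 hs r hr
  have hsr : ∀ r ∈ Rsub B, ∀ s ∈ B.orthogonal (Rsub B), B s r = 0 := fun r hr s hs => by
    rw [← hr s]; exact hrs r hr s hs
  set π : V →ₗ[F] V := (B.orthogonal (Rsub B)).projection (Rsub B) hc.symm with hπ
  set π' : V →ₗ[F] V := (Rsub B).projection (B.orthogonal (Rsub B)) hc with hπ'
  have hsum : ∀ x, π' x + π x = x := fun x => Submodule.projection_add_projection_eq_self hc x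
  have hπmem : ∀ x, π x ∈ B.orthogonal (Rsub B) := fun x => Submodule.projection_apply_mem hc.symm x
  have hπ'mem : ∀ x, π' x ∈ Rsub B := fun x => Submodule.projection_apply_mem hc x
  have hBxy : ∀ x y, B x y = B (π' x) (π' y) + B (π x) (π y) := by
    intro x y
    conv_lhs => rw [← hsum x, ← hsum y]
    rw [map_add, map_add, LinearMap.add_apply, LinearMap.add_apply,
      hrs _ (hπ'mem x) _ (hπmem y), hsr _ (hπ'mem y) _ (hπmem x)]
    ring
  refine ⟨B + B.flip.comp π π, ?_, ?_, ?_⟩
  · intro x
    rw [LinearMap.add_apply, LinearMap.add_apply, LinearMap.BilinForm.comp_apply,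
      LinearMap.BilinForm.flip_apply, hBxy x x,
      Q_zero h2 hG ρ B hBinv hfix (hπ'mem x), zero_add]
    exact add_self_zero h2 _
  · intro g x y
    rw [LinearMap.add_apply, LinearMap.add_apply, LinearMap.add_apply, LinearMap.add_apply,
      LinearMap.BilinForm.comp_apply, LinearMap.BilinForm.comp_apply,
      LinearMap.BilinForm.flip_apply, LinearMap.BilinForm.flip_apply, hBinv, hπ,
      proj_equiv ρ hc.symm hRpinv hRinv, proj_equiv ρ hc.symm hRpinv hRinv, hBinv]
  · intro x hx
    have hA : ∀ y, B x y + B (π y) (π x) = 0 := by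
      intro y
      have := hx y
      rwa [LinearMap.add_apply, LinearMap.add_apply, LinearMap.BilinForm.comp_apply,
        LinearMap.BilinForm.flip_apply] at this
    -- r-part vanishes
    have hr0 : π' x = 0 := by
      apply hB.1
      intro y
      have h1 := hA (π' y)
      have e0 : π (π' y) = 0 := by
        rw [hπ]; exact Submodule.projection_apply_of_mem_right hc.symm (hπ'mem y)
      rw [e0, map_zero, LinearMap.zero_apply, add_zero, hBxy x (π' y), e0, map_zero, add_zero] at h1
      have e1 : π' (π' y) = π' y := by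
        rw [hπ']; exact Submodule.projection_apply_of_mem_left hc (hπ'mem y)
      rw [e1] at h1
      rw [hBxy (π' x) y]
      have e2 : π' (π' x) = π' x := by
        rw [hπ']; exact Submodule.projection_apply_of_mem_left hc (hπ'mem x)
      have e3 : π (π' x) = 0 := by
        rw [hπ]; exact Submodule.projection_apply_of_mem_right hc.symm (hπ'mem x)
      rw [e2, e3, map_zero, LinearMap.zero_apply, add_zero, h1]
    have hxs : x = π x := by
      have := hsum x
      rw [hr0, zero_add] at this
      exact this.symm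
    -- s-part symmetric
    have hsR : π x ∈ Rsub B := by
      intro y
      have h1 := hA y
      rw [hBxy x y, hr0, map_zero, LinearMap.zero_apply, zero_add] at h1
      rw [hBxy (π x) y, hBxy y (π x)]
      have e2 : π' (π x) = 0 := by
        rw [hπ']; exact Submodule.projection_apply_of_mem_right hc (hπmem x)
      have e3 : π (π x) = π x := by
        rw [hπ]; exact Submodule.projection_apply_of_mem_left hc.symm (hπmem x)
      rw [e2, e3, map_zero, LinearMap.zero_apply, map_zero, zero_add, zero_add]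
      have := add_self_zero h2 (B (π y) (π x))
      linear_combination h1 - this
    have : π x ∈ Rsub B ⊓ B.orthogonal (Rsub B) := ⟨hsR, hπmem x⟩
    rw [hT] at this
    rw [hxs]
    exact (Submodule.mem_bot F).1 this


theorem case_step [FiniteDimensional F V] (h2 : (2 : F) = 0)
    (ρ : Representation F G V) (B : LinearMap.BilinForm F V) (hB : B.Nondegenerate)
    (hBinv : ∀ g : G, ∀ x y : V, B (ρ g x) (ρ g y) = B x y)
    (T Y T' : Submodule F V) (_hTR : T ≤ Rsub B) (hTiso : ∀ t ∈ T, ∀ t' ∈ T, B t t' = 0)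
    (hTinv : Inv ρ T) (hYinv : Inv ρ Y) (hT'inv : Inv ρ T')
    (hTY : T ⊓ Y = ⊥) (hsup : T ⊔ Y = B.orthogonal T) (hc : IsCompl (B.orthogonal T) T')
    (AY : LinearMap.BilinForm F Y) (hAalt : ∀ y, AY y y = 0)
    (hAinv : ∀ g : G, ∀ y y' : Y, AY (subRep ρ Y hYinv g y) (subRep ρ Y hYinv g y') = AY y y')
    (hAnd : ∀ y, (∀ y', AY y y' = 0) → y = 0) :
    ∃ A : LinearMap.BilinForm F V, (∀ x, A x x = 0) ∧
      (∀ g : G, ∀ x y : V, A (ρ g x) (ρ g y) = A x y) ∧ (∀ x, (∀ y, A x y = 0) → x = 0) := by
  have hTle : T ≤ B.orthogonal T := hsup ▸ le_sup_left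
  have hYle : Y ≤ B.orthogonal T := hsup ▸ le_sup_right
  have hcT : IsCompl T (Y ⊔ T') := by
    constructor
    · rw [Submodule.disjoint_def]
      intro x hx hx'
      obtain ⟨y, hy, t', ht', rfl⟩ := Submodule.mem_sup.1 hx'
      have h1 : t' ∈ B.orthogonal T := by
        have : t' = (y + t') - y := by abel
        rw [this]
        exact Submodule.sub_mem _ (hTle hx) (hYle hy)
      have h2' : t' ∈ B.orthogonal T ⊓ T' := ⟨h1, ht'⟩
      rw [hc.inf_eq_bot, Submodule.mem_bot] at h2'
      subst h2'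
      rw [add_zero] at hx ⊢
      have : y ∈ T ⊓ Y := ⟨hx, hy⟩
      rw [hTY] at this
      exact (Submodule.mem_bot F).1 this
    · rw [codisjoint_iff, ← sup_assoc, hsup, hc.sup_eq_top]
  have hcY : IsCompl Y (T ⊔ T') := by
    constructor
    · rw [Submodule.disjoint_def]
      intro x hx hx'
      obtain ⟨t, ht, t', ht', rfl⟩ := Submodule.mem_sup.1 hx'
      have h1 : t' ∈ B.orthogonal T := by
        have : t' = (t + t') - t := by abel
        rw [this]
        exact Submodule.sub_mem _ (hYle hx) (hTle ht)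
      have h2' : t' ∈ B.orthogonal T ⊓ T' := ⟨h1, ht'⟩
      rw [hc.inf_eq_bot, Submodule.mem_bot] at h2'
      subst h2'
      rw [add_zero] at hx ⊢
      have : t ∈ T ⊓ Y := ⟨ht, hx⟩
      rw [hTY] at this
      exact (Submodule.mem_bot F).1 this
    · rw [codisjoint_iff, ← sup_assoc, sup_comm Y T, hsup, hc.sup_eq_top]
  set πT : V →ₗ[F] V := T.projection (Y ⊔ T') hcT with hπT
  set πY : V →ₗ[F] Y := Y.projectionOnto (T ⊔ T') hcY with hπY
  have hπTmem : ∀ x, πT x ∈ T := fun x => Submodule.projection_apply_mem hcT x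
  have hπT_T : ∀ t ∈ T, πT t = t := fun t ht => Submodule.projection_apply_of_mem_left hcT ht
  have hπT_Y : ∀ y ∈ Y, πT y = 0 := fun y hy =>
    Submodule.projection_apply_of_mem_right hcT (Submodule.mem_sup_left hy)
  have hπT_T' : ∀ t' ∈ T', πT t' = 0 := fun y hy =>
    Submodule.projection_apply_of_mem_right hcT (Submodule.mem_sup_right hy)
  have hπY_Y : ∀ y : Y, πY (y : V) = y := fun y => Submodule.projectionOnto_apply_left hcY y
  have hπY_T : ∀ t ∈ T, πY t = 0 := fun t ht =>
    Submodule.projectionOnto_apply_of_mem_right hcY (Submodule.mem_sup_left ht)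
  have hπY_T' : ∀ t' ∈ T', πY t' = 0 := fun t ht =>
    Submodule.projectionOnto_apply_of_mem_right hcY (Submodule.mem_sup_right ht)
  have hπTeq : ∀ g x, πT (ρ g x) = ρ g (πT x) := fun g x =>
    proj_equiv ρ hcT hTinv (hYinv.sup hT'inv) g x
  have hπYeq : ∀ g x, πY (ρ g x) = subRep ρ Y hYinv g (πY x) := by
    intro g x
    apply Subtype.ext
    rw [subRep_apply, hπY, Submodule.coe_projectionOnto_apply, Submodule.coe_projectionOnto_apply]
    exact proj_equiv ρ hcY hYinv (hTinv.sup hT'inv) g x
  have hAval : ∀ x y, (AY.comp πY πY + B.comp πT LinearMap.id + (B.comp πT LinearMap.id).flip) x y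
      = AY (πY x) (πY y) + B (πT x) y + B (πT y) x := by
    intro x y
    simp [LinearMap.add_apply, LinearMap.BilinForm.comp_apply, LinearMap.BilinForm.flip_apply]
  refine ⟨AY.comp πY πY + B.comp πT LinearMap.id + (B.comp πT LinearMap.id).flip, ?_, ?_, ?_⟩
  · intro x
    rw [hAval, hAalt, zero_add]
    exact add_self_zero h2 _
  · intro g x y
    rw [hAval, hAval, hπYeq, hπYeq, hAinv, hπTeq, hπTeq, hBinv, hBinv]
  · intro x hx
    have hA : ∀ y, AY (πY x) (πY y) + B (πT x) y + B (πT y) x = 0 := fun y => by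
      rw [← hAval]; exact hx y
    -- Step 1: x ∈ T^⊥
    have hxTp : x ∈ B.orthogonal T := by
      rw [mem_orth]
      intro t ht
      have h1 := hA t
      rw [hπY_T t ht, map_zero, zero_add, hπT_T t ht, hTiso _ (hπTmem x) t ht, zero_add] at h1
      exact h1
    -- Step 2: πT x = 0
    have hπTx : πT x = 0 := by
      apply hB.1
      intro z
      have hz : z ∈ B.orthogonal T ⊔ T' := by rw [hc.sup_eq_top]; trivial
      obtain ⟨a, ha, b, hb, rfl⟩ := Submodule.mem_sup.1 hz
      rw [map_add]
      have e1 : B (πT x) a = 0 := (mem_orth B T a).1 ha _ (hπTmem x)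
      have e2 : B (πT x) b = 0 := by
        have h1 := hA b
        rw [hπY_T' b hb, map_zero, zero_add, hπT_T' b hb, map_zero, LinearMap.zero_apply,
          add_zero] at h1
        exact h1
      rw [e1, e2, add_zero]
    -- Step 3: πY x = 0
    have hπYx : πY x = 0 := by
      apply hAnd
      intro y'
      have h1 := hA (y' : V)
      rw [hπY_Y, hπTx, map_zero, LinearMap.zero_apply, add_zero, hπT_Y _ y'.2, map_zero,
        LinearMap.zero_apply, add_zero] at h1
      exact h1
    -- Step 4
    rw [← hsup] at hxTp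
    obtain ⟨t, ht, y, hy, rfl⟩ := Submodule.mem_sup.1 hxTp
    have e1 : t = 0 := by
      have := hπTx
      rwa [map_add, hπT_T t ht, hπT_Y y hy, add_zero] at this
    have e2 : y = 0 := by
      have := hπYx
      rw [map_add, hπY_T t ht, zero_add] at this
      have h3 := hπY_Y ⟨y, hy⟩
      rw [this] at h3
      exact (congrArg Subtype.val h3).symm
    rw [e1, e2, add_zero]


theorem two_main [Fintype G] (h2 : (2 : F) = 0) (hG : (Fintype.card G : F) ≠ 0) :
    ∀ (n : ℕ) (V : Type u) [AddCommGroup V] [Module F V] [FiniteDimensional F V]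
      (ρ : Representation F G V) (B : LinearMap.BilinForm F V),
      finrank F V = n → B.Nondegenerate → (∀ g : G, ∀ x y : V, B (ρ g x) (ρ g y) = B x y) →
      (∀ v : V, (∀ g : G, ρ g v = v) → v = 0) →
      ∃ A : LinearMap.BilinForm F V, (∀ x, A x x = 0) ∧
        (∀ g : G, ∀ x y : V, A (ρ g x) (ρ g y) = A x y) ∧ (∀ x, (∀ y, A x y = 0) → x = 0) := by
  intro n
  induction n using Nat.strong_induction_on with
  | _ n ih =>
  intro V _ _ _ ρ B hn hB hBinv hfix
  by_cases hT : Rsub B ⊓ B.orthogonal (Rsub B) = ⊥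
  · exact case_bot h2 hG ρ B hB hBinv hfix hT
  · set T := Rsub B ⊓ B.orthogonal (Rsub B) with hTdef
    have hTR : T ≤ Rsub B := inf_le_left
    have hTiso : ∀ t ∈ T, ∀ t' ∈ T, B t t' = 0 := fun t ht t' ht' =>
      (mem_orth B _ t').1 ht'.2 t ht.1
    have hRinv := inv_Rsub ρ B hBinv
    have hTinv : Inv ρ T := hRinv.inf (inv_orth ρ B hBinv hRinv)
    have hTpinv := inv_orth ρ B hBinv hTinv
    have hTle : T ≤ B.orthogonal T := fun t ht =>
      (mem_orth B T t).2 (fun t' ht' => hTiso t' ht' t ht)
    obtain ⟨Y, hYinv, hYle, hTY, hsup⟩ := maschke_rel ρ hG hTle hTinv hTpinv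
    obtain ⟨T', hT'inv, hc⟩ := maschke ρ hG (B.orthogonal T) hTpinv
    have hTpos : 0 < finrank F T :=
      Nat.pos_of_ne_zero (fun h => hT (Submodule.finrank_eq_zero.1 h))
    have hfo := LinearMap.BilinForm.finrank_orthogonal hB T
    have hfr : finrank F Y < n := by
      have h1 := Submodule.finrank_mono hYle
      have h3 := Submodule.finrank_le T
      omega
    -- the double orthogonal
    have hdo : B.flip.orthogonal (B.orthogonal T) = T := by
      symm
      apply Submodule.eq_of_le_of_finrank_eq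
      · intro t ht
        rw [mem_orth]
        intro x hx
        rw [LinearMap.BilinForm.flip_apply]
        exact (mem_orth B T x).1 hx t ht
      · rw [LinearMap.BilinForm.finrank_orthogonal hB.flip, hfo]
        have h3 := Submodule.finrank_le T
        omega
    have hBY : (B.restrict Y).Nondegenerate := by
      apply LinearMap.BilinForm.Nondegenerate.ofSeparatingLeft
      intro y hy
      have hyT : (y : V) ∈ B.flip.orthogonal (B.orthogonal T) := by
        rw [mem_orth]
        intro x hx
        rw [LinearMap.BilinForm.flip_apply]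
        rw [← hsup] at hx
        obtain ⟨t, ht, y', hy', rfl⟩ := Submodule.mem_sup.1 hx
        rw [map_add]
        have e1 : B (y : V) t = 0 := by
          rw [← hTR ht (y : V)]
          exact (mem_orth B T _).1 (hYle y.2) t ht
        have e2 : B (y : V) y' = 0 := by
          have := hy ⟨y', hy'⟩
          simpa using this
        rw [e1, e2, add_zero]
      rw [hdo] at hyT
      have : (y : V) ∈ T ⊓ Y := ⟨hyT, y.2⟩
      rw [hTY] at this
      exact Subtype.ext ((Submodule.mem_bot F).1 this)
    have hBYinv : ∀ g : G, ∀ a b : Y,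
        (B.restrict Y) (subRep ρ Y hYinv g a) (subRep ρ Y hYinv g b) = (B.restrict Y) a b := by
      intro g a b
      simp only [LinearMap.BilinForm.restrict_apply, subRep_apply]
      exact hBinv g a b
    have hYfix : ∀ v : Y, (∀ g : G, subRep ρ Y hYinv g v = v) → v = 0 := by
      intro v hv
      apply Subtype.ext
      apply hfix
      intro g
      have := congrArg Subtype.val (hv g)
      rwa [subRep_apply] at this
    obtain ⟨AY, hAalt, hAinv, hAnd⟩ :=
      ih (finrank F Y) (hn ▸ hfr) Y (subRep ρ Y hYinv) (B.restrict Y) rfl hBY hBYinv hYfix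
    exact case_step h2 ρ B hB hBinv T Y T' hTR hTiso hTinv hYinv hT'inv hTY hsup hc AY hAalt
      hAinv hAnd

end Cfsg.Agent.H9.SelfDual
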