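import Mathlib

set_option autoImplicit false

/-! A square matrix over a field is similar to its transpose: a non-degenerate symmetric
bilinear form for which the matrix is self-adjoint, built from the structure theorem for
`F[X]`-modules and the Frobenius form on `F[X] ⧸ (f)`. -/

namespace Cfsg.Agent.H9.SimTranspose

open Polynomial

section Cyclic

variable {F : Type*} [Field F]

/-- the monic associate -/
noncomputable def mon (f : F[X]) : F[X] := f * C (f.leadingCoeff)⁻¹

theorem mon_monic {f : F[X]} (hf : f ≠ 0) : (mon f).Monic := monic_mul_leadingCoeff_inv hf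

theorem natDegree_mon {f : F[X]} (hf : f ≠ 0) : (mon f).natDegree = f.natDegree :=
  natDegree_mul_leadingCoeff_inv f hf

theorem mon_dvd_iff {f : F[X]} (hf : f ≠ 0) (g : F[X]) : mon f ∣ g ↔ f ∣ g := by
  have hu : IsUnit (C (f.leadingCoeff)⁻¹ : F[X]) :=
    isUnit_C.2 (isUnit_iff_ne_zero.2 (inv_ne_zero (leadingCoeff_ne_zero.2 hf)))
  exact (hu.mul_right_dvd)

/-- the Frobenius functional: top coefficient of the remainder -/
noncomputable def L (f : F[X]) : F[X] →ₗ[F] F :=
  (lcoeff F (f.natDegree - 1)).comp (modByMonicHom (mon f))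

theorem L_apply (f g : F[X]) : L f g = (g %ₘ mon f).coeff (f.natDegree - 1) := rfl

theorem L_of_dvd {f g : F[X]} (hf : f ≠ 0) (h : f ∣ g) : L f g = 0 := by
  rw [L_apply, (modByMonic_eq_zero_iff_dvd (mon_monic hf)).2 ((mon_dvd_iff hf g).2 h), coeff_zero]

theorem L_of_lt {f g : F[X]} (hf : f ≠ 0) (h : g.degree < f.degree) :
    L f g = g.coeff (f.natDegree - 1) := by
  rw [L_apply, (modByMonic_eq_self_iff (mon_monic hf)).2]
  rw [degree_eq_natDegree (mon_monic hf).ne_zero, natDegree_mon hf, ← degree_eq_natDegree hf]
  exact h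

theorem L_congr {f g g' : F[X]} (hf : f ≠ 0) (h : f ∣ g - g') : L f g = L f g' := by
  have := L_of_dvd hf h
  rw [map_sub, sub_eq_zero] at this
  exact this

/-- for `g` not divisible by `f` there is `h` with `L f (g * h) ≠ 0` -/
theorem exists_L_ne_zero {f g : F[X]} (hf : f ≠ 0) (hg : ¬ f ∣ g) : ∃ h : F[X], L f (g * h) ≠ 0 := by
  have hm := mon_monic hf
  set g' := g %ₘ mon f with hg'
  have hg'0 : g' ≠ 0 := by
    intro h0
    exact hg ((mon_dvd_iff hf g).1 ((modByMonic_eq_zero_iff_dvd hm).1 h0))
  have hdeg : g'.degree < f.degree := by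
    have := degree_modByMonic_lt g hm
    rwa [degree_eq_natDegree hm.ne_zero, natDegree_mon hf, ← degree_eq_natDegree hf] at this
  have hnat : g'.natDegree < f.natDegree := natDegree_lt_natDegree hg'0 hdeg
  have hcong : f ∣ g - g' := by
    rw [← mon_dvd_iff hf]
    have : g - g' = mon f * (g /ₘ mon f) := by
      rw [hg']
      have := modByMonic_add_div g (mon f)
      linear_combination -this
    rw [this]
    exact dvd_mul_right _ _
  refine ⟨X ^ (f.natDegree - 1 - g'.natDegree), ?_⟩
  have h1 : L f (g * X ^ (f.natDegree - 1 - g'.natDegree)) =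
      L f (g' * X ^ (f.natDegree - 1 - g'.natDegree)) := by
    apply L_congr hf
    rw [← sub_mul]
    exact hcong.mul_right _
  rw [h1, L_of_lt hf]
  · rw [coeff_mul_X_pow']
    rw [if_pos (by omega)]
    have : f.natDegree - 1 - (f.natDegree - 1 - g'.natDegree) = g'.natDegree := by omega
    rw [this]
    exact leadingCoeff_ne_zero.2 hg'0
  · rw [degree_mul, degree_X_pow, degree_eq_natDegree hg'0, degree_eq_natDegree hf]
    have : g'.natDegree + (f.natDegree - 1 - g'.natDegree) < f.natDegree := by omega
    exact_mod_cast this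

end Cyclic

section Quot

variable {F : Type*} [Field F]

/-- the cyclic module -/
abbrev Qf (f : F[X]) := F[X] ⧸ (Submodule.span F[X] {f} : Submodule F[X] F[X])

theorem mk_eq_iff (f g g' : F[X]) :
    (Submodule.Quotient.mk g : Qf f) = Submodule.Quotient.mk g' ↔ f ∣ g - g' := by
  rw [Submodule.Quotient.eq, Submodule.mem_span_singleton]
  constructor
  · rintro ⟨a, ha⟩
    exact ⟨a, by rw [← ha, smul_eq_mul, mul_comm]⟩
  · rintro ⟨a, ha⟩
    exact ⟨a, by rw [ha, smul_eq_mul, mul_comm]⟩

/-- the underlying function of the form -/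
noncomputable def betaFun (f : F[X]) (hf : f ≠ 0) (z w : Qf f) : F :=
  Quotient.liftOn₂' z w (fun g h => L f (g * h)) (by
    intro a₁ a₂ b₁ b₂ h₁ h₂
    rw [Submodule.quotientRel_def, Submodule.mem_span_singleton] at h₁ h₂
    obtain ⟨c₁, hc₁⟩ := h₁
    obtain ⟨c₂, hc₂⟩ := h₂
    apply L_congr hf
    refine ⟨c₁ * a₂ + b₁ * c₂, ?_⟩
    rw [smul_eq_mul] at hc₁ hc₂
    linear_combination (-a₂) * hc₁ - b₁ * hc₂)

theorem betaFun_mk (f : F[X]) (hf : f ≠ 0) (g h : F[X]) :
    betaFun f hf (Submodule.Quotient.mk g) (Submodule.Quotient.mk h) = L f (g * h) := rfl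

/-- the Frobenius form on `F[X] ⧸ (f)` -/
noncomputable def beta (f : F[X]) (hf : f ≠ 0) : Qf f →ₗ[F] Qf f →ₗ[F] F :=
  LinearMap.mk₂ F (betaFun f hf)
    (by
      intro z₁ z₂ w
      induction z₁ using Submodule.Quotient.induction_on with | _ g₁ => ?_
      induction z₂ using Submodule.Quotient.induction_on with | _ g₂ => ?_
      induction w using Submodule.Quotient.induction_on with | _ h => ?_
      rw [← Submodule.Quotient.mk_add, betaFun_mk, betaFun_mk, betaFun_mk, add_mul, map_add])
    (by
      intro c z w
      induction z using Submodule.Quotient.induction_on with | _ g => ?_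
      induction w using Submodule.Quotient.induction_on with | _ h => ?_
      rw [← Submodule.Quotient.mk_smul, betaFun_mk, betaFun_mk, smul_mul_assoc, map_smul])
    (by
      intro z w₁ w₂
      induction z using Submodule.Quotient.induction_on with | _ g => ?_
      induction w₁ using Submodule.Quotient.induction_on with | _ h₁ => ?_
      induction w₂ using Submodule.Quotient.induction_on with | _ h₂ => ?_
      rw [← Submodule.Quotient.mk_add, betaFun_mk, betaFun_mk, betaFun_mk, mul_add, map_add])
    (by
      intro c z w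
      induction z using Submodule.Quotient.induction_on with | _ g => ?_
      induction w using Submodule.Quotient.induction_on with | _ h => ?_
      rw [← Submodule.Quotient.mk_smul, betaFun_mk, betaFun_mk, mul_smul_comm, map_smul])

theorem beta_mk (f : F[X]) (hf : f ≠ 0) (g h : F[X]) :
    beta f hf (Submodule.Quotient.mk g) (Submodule.Quotient.mk h) = L f (g * h) := rfl

theorem beta_symm (f : F[X]) (hf : f ≠ 0) (z w : Qf f) : beta f hf z w = beta f hf w z := by
  induction z using Submodule.Quotient.induction_on with | _ g => ?_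
  induction w using Submodule.Quotient.induction_on with | _ h => ?_
  rw [beta_mk, beta_mk, mul_comm]

theorem beta_X_smul (f : F[X]) (hf : f ≠ 0) (z w : Qf f) :
    beta f hf ((X : F[X]) • z) w = beta f hf z ((X : F[X]) • w) := by
  induction z using Submodule.Quotient.induction_on with | _ g => ?_
  induction w using Submodule.Quotient.induction_on with | _ h => ?_
  rw [← Submodule.Quotient.mk_smul, ← Submodule.Quotient.mk_smul, beta_mk, beta_mk, smul_eq_mul,
    smul_eq_mul]
  congr 1
  ring

theorem beta_separating (f : F[X]) (hf : f ≠ 0) (z : Qf f) (hz : ∀ w, beta f hf z w = 0) :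
    z = 0 := by
  induction z using Submodule.Quotient.induction_on with | _ g => ?_
  by_contra hne
  have hndvd : ¬ f ∣ g := by
    intro hd
    apply hne
    rw [← Submodule.Quotient.mk_zero, mk_eq_iff, sub_zero]
    exact hd
  obtain ⟨h, hh⟩ := exists_L_ne_zero hf hndvd
  exact hh (hz (Submodule.Quotient.mk h))

end Quot

section Main

universe u

variable {F : Type u} [Field F] {n : ℕ}

open DirectSum in
/-- a non-degenerate form for which `A` is self-adjoint -/
theorem exists_form (A : Matrix (Fin n) (Fin n) F) :
    ∃ B : LinearMap.BilinForm F (Fin n → F), B.Nondegenerate ∧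
      B.compLeft (Matrix.toLin' A) = B.compRight (Matrix.toLin' A) := by
  classical
  set φ : (Fin n → F) →ₗ[F] (Fin n → F) := Matrix.toLin' A with hφ
  have hN : Module.IsTorsion F[X] (Module.AEval' φ) :=
    Module.AEval.isTorsion_of_finiteDimensional F (Fin n → F) φ
  obtain ⟨ι, _, p, hp, e, ⟨E⟩⟩ := Module.equiv_directSum_of_isTorsion hN
  have hf : ∀ i, p i ^ e i ≠ 0 := fun i => pow_ne_zero _ (hp i).ne_zero
  -- the components
  let π : ∀ i, (Fin n → F) →ₗ[F] Qf (p i ^ e i) := fun i =>
    { toFun := fun x => E (Module.AEval'.of φ x) i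
      map_add' := by
        intro x y
        rw [map_add, map_add, DirectSum.add_apply]
      map_smul' := by
        intro c x
        rw [map_smul, ← algebraMap_smul F[X] c (Module.AEval'.of φ x), map_smul,
          DirectSum.smul_apply, algebraMap_smul, RingHom.id_apply] }
  have hπ : ∀ i x, π i x = E (Module.AEval'.of φ x) i := fun i x => rfl
  have hπX : ∀ i x, π i (φ x) = (X : F[X]) • π i x := by
    intro i x
    rw [hπ, hπ, ← Module.AEval'.X_smul_of, map_smul, DirectSum.smul_apply]
  let B : LinearMap.BilinForm F (Fin n → F) :=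
    ∑ i, (beta (p i ^ e i) (hf i)).compl₁₂ (π i) (π i)
  have hB : ∀ x y, B x y = ∑ i, beta (p i ^ e i) (hf i) (π i x) (π i y) := by
    intro x y
    simp only [B, LinearMap.sum_apply, LinearMap.compl₁₂_apply]
  have hsymm : ∀ x y, B x y = B y x := by
    intro x y
    rw [hB, hB]
    exact Finset.sum_congr rfl (fun i _ => beta_symm _ _ _ _)
  have hsep : ∀ x, (∀ y, B x y = 0) → x = 0 := by
    intro x hx
    have hcomp : ∀ i, π i x = 0 := by
      intro i
      apply beta_separating (p i ^ e i) (hf i)
      intro w
      set y : Fin n → F := (Module.AEval'.of φ).symm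
        (E.symm (DirectSum.of (fun j => Qf (p j ^ e j)) i w)) with hy
      have hyj : ∀ j, π j y = DirectSum.of (fun j => Qf (p j ^ e j)) i w j := by
        intro j
        rw [hπ, hy, LinearEquiv.apply_symm_apply, LinearEquiv.apply_symm_apply]
      have := hx y
      rw [hB, Finset.sum_eq_single i] at this
      · rw [hyj, DirectSum.of_eq_same] at this
        exact this
      · intro j _ hji
        rw [hyj, DirectSum.of_eq_of_ne _ _ _ hji, map_zero]
      · intro h
        exact absurd (Finset.mem_univ i) h
    have : E (Module.AEval'.of φ x) = 0 := by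
      apply DFinsupp.ext
      intro i
      exact hcomp i
    have h2 : Module.AEval'.of φ x = 0 := by
      rw [← E.map_zero] at this
      exact E.injective this
    rw [← (Module.AEval'.of φ).map_zero] at h2
    exact (Module.AEval'.of φ).injective h2
  refine ⟨B, ⟨hsep, ?_⟩, ?_⟩
  · intro y hy
    apply hsep
    intro x
    rw [hsymm]
    exact hy x
  · apply LinearMap.ext₂
    intro x y
    rw [LinearMap.BilinForm.compLeft_apply, LinearMap.BilinForm.compRight_apply, hB, hB]
    refine Finset.sum_congr rfl (fun i _ => ?_)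
    rw [hπX, hπX, beta_X_smul]

/-- a square matrix over a field is similar to its transpose -/
theorem isConj_transpose (A : Matrix (Fin n) (Fin n) F) : IsConj A A.transpose := by
  obtain ⟨B, hnd, hsa⟩ := exists_form A
  set G := LinearMap.BilinForm.toMatrix' B with hG
  have h1 : A.transpose * G = G * A := by
    have := congrArg LinearMap.BilinForm.toMatrix' hsa
    rw [LinearMap.BilinForm.toMatrix'_compLeft, LinearMap.BilinForm.toMatrix'_compRight,
      LinearMap.toMatrix'_toLin'] at this
    exact this
  have hdet : G.det ≠ 0 := by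
    rw [← Matrix.nondegenerate_iff_det_ne_zero, LinearMap.BilinForm.nondegenerate_toMatrix'_iff]
    exact hnd
  have hunit : IsUnit G := (Matrix.isUnit_iff_isUnit_det G).2 (IsUnit.mk0 _ hdet)
  obtain ⟨u, hu⟩ := hunit
  refine ⟨u, ?_⟩
  rw [SemiconjBy, hu]
  exact h1.symm

end Main

end Cfsg.Agent.H9.SimTranspose
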