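import Mathlib
import Cfsg.Agent.H9.Zsigmondy

set_option autoImplicit false

namespace Cfsg.Agent.H9.SingerConj

/-- a prime power which is one less than a power of two is a prime -/
theorem eq_one_of_pow_add_one {p e m : ℕ} (hp : p.Prime) (he : 1 ≤ e) (h : p ^ e + 1 = 2 ^ m) :
    e = 1 := by
  -- p is odd
  have hp2 : p ≠ 2 := by
    rintro rfl
    have h1 : (2 ^ e + 1) % 2 = 1 := by
      obtain ⟨e', rfl⟩ : ∃ e', e = e' + 1 := ⟨e - 1, by omega⟩
      rw [pow_succ]; omega
    rcases Nat.eq_zero_or_pos m with hm | hm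
    · rw [hm] at h
      have : 0 < 2 ^ e := by positivity
      omega
    · obtain ⟨m', rfl⟩ : ∃ m', m = m' + 1 := ⟨m - 1, by omega⟩
      rw [h, pow_succ] at h1
      omega
  have hodd : p % 2 = 1 := by
    rcases hp.eq_two_or_odd with h2 | h2
    · exact absurd h2 hp2
    · exact h2
  by_contra he1
  have he2 : 2 ≤ e := by omega
  have hpe : 2 ≤ p ^ e := by
    calc 2 ≤ p := hp.two_le
      _ = p ^ 1 := (pow_one p).symm
      _ ≤ p ^ e := Nat.pow_le_pow_right hp.pos he
  rcases Nat.even_or_odd e with hev | hod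
  · obtain ⟨f, hf⟩ := hev
    have h1 : p ^ e = (p ^ f) ^ 2 := by rw [hf, ← two_mul, mul_comm, pow_mul]
    have h2 : (p ^ f) % 2 = 1 := by
      rw [Nat.pow_mod, hodd]; simp
    have h3 : ((p ^ f) ^ 2) % 4 = 1 := by
      have : (p ^ f) % 4 = 1 ∨ (p ^ f) % 4 = 3 := by omega
      rcases this with h | h <;> rw [Nat.pow_mod, h]
    have h4 : (2 ^ m) % 4 = 2 := by rw [← h, h1]; omega
    have hm : m = 1 := by
      rcases Nat.lt_or_ge m 2 with hm | hm
      · interval_cases m
        · simp at h4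
        · rfl
      · obtain ⟨m', rfl⟩ : ∃ m', m = m' + 2 := ⟨m - 2, by omega⟩
        rw [pow_add] at h4
        omega
    rw [hm] at h
    omega
  · -- e odd
    have hdvd : p + 1 ∣ 2 ^ m := by
      have := Odd.nat_add_dvd_pow_add_pow p 1 hod
      rwa [one_pow, h] at this
    obtain ⟨s, -, hs⟩ := (Nat.dvd_prime_pow Nat.prime_two).1 hdvd
    have hs2 : 2 ≤ s := by
      by_contra hlt
      have : s = 0 ∨ s = 1 := by omega
      have hp3 : 3 ≤ p := by
        have := hp.two_le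
        omega
      rcases this with rfl | rfl <;> simp at hs <;> omega
    -- p² ≡ 1 mod 2(p+1)
    obtain ⟨j, hj⟩ : ∃ j, p = 2 * j + 1 := ⟨p / 2, by omega⟩
    have hsq : p ^ 2 ≡ 1 [MOD 2 * (p + 1)] := by
      have : p ^ 2 = 1 + 2 * (p + 1) * j := by rw [hj]; ring
      rw [this]
      exact ((Nat.modEq_iff_dvd' (by omega)).2 (by simp)).symm
    obtain ⟨k, hk⟩ := hod
    have hpe2 : p ^ e ≡ p [MOD 2 * (p + 1)] := by
      rw [hk, pow_succ, pow_mul]
      have := (hsq.pow k).mul_right p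
      rwa [one_pow, one_mul] at this
    have hmod : 2 ^ m ≡ 2 ^ s [MOD 2 ^ (s + 1)] := by
      have h1 := hpe2.add_right 1
      rw [h, hs, ← pow_succ'] at h1
      exact h1
    have hlt : 2 ^ s < 2 ^ (s + 1) := Nat.pow_lt_pow_right (by norm_num) (by omega)
    have hms : m = s := by
      rcases Nat.lt_or_ge s m with hsm | hsm
      · exfalso
        have hd : 2 ^ (s + 1) ∣ 2 ^ m := Nat.pow_dvd_pow 2 hsm
        have h0 : 2 ^ m % 2 ^ (s + 1) = 0 := Nat.mod_eq_zero_of_dvd hd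
        have h1 : 2 ^ s % 2 ^ (s + 1) = 2 ^ s := Nat.mod_eq_of_lt hlt
        unfold Nat.ModEq at hmod
        rw [h0, h1] at hmod
        have : 0 < 2 ^ s := by positivity
        omega
      · have hlt' : 2 ^ m < 2 ^ (s + 1) :=
          lt_of_le_of_lt (Nat.pow_le_pow_right (by norm_num) hsm) hlt
        unfold Nat.ModEq at hmod
        rw [Nat.mod_eq_of_lt hlt', Nat.mod_eq_of_lt hlt] at hmod
        exact Nat.pow_right_injective (le_refl 2) hmod
    rw [hms, ← hs] at h
    have hpp : p ^ e = p ^ 1 := by rw [pow_one]; omega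
    have := Nat.pow_right_injective hp.two_le hpp
    omega

/-- existence of a primitive prime divisor in the setting of the Singer theorem -/
theorem exists_ppd {F : Type*} [Field F] [Fintype F] (n : ℕ) (hn : 2 ≤ n)
    (hex1 : ¬ (n = 6 ∧ Fintype.card F = 2))
    (hex2 : ¬ (n = 2 ∧ (Fintype.card F).Prime ∧ ∃ a : ℕ, Fintype.card F + 1 = 2 ^ a)) :
    ∃ r : ℕ, r.Prime ∧ r ∣ Fintype.card F ^ n - 1 ∧
      ∀ k : ℕ, 0 < k → k < n → ¬ r ∣ Fintype.card F ^ k - 1 := by
  apply Cfsg.Agent.H9.Zsigmondy.zsigmondy _ _ Fintype.one_lt_card (by omega)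
  · rintro ⟨h1, h2⟩
    exact hex1 ⟨h2, h1⟩
  · rintro ⟨h2, m, hm⟩
    apply hex2
    refine ⟨h2, ?_, m, hm⟩
    obtain ⟨p, hp⟩ := CharP.exists F
    have : Fact p.Prime := ⟨CharP.char_is_prime F p⟩
    obtain ⟨e, hpp, he⟩ := FiniteField.card F p
    rw [he] at hm
    have h1 := eq_one_of_pow_add_one hpp e.pos hm
    rw [he, h1, pow_one]
    exact hpp

end Cfsg.Agent.H9.SingerConj
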