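import Mathlib

set_option autoImplicit false

namespace Cfsg.Agent.H9.SingerConj

variable {F K : Type*} [Field F] [Field K] [Algebra F K]

/-- fixed point congruence for an invariant subspace -/
theorem card_modEq [Finite K] (u : Module.End F K) (r : ℕ) (hr : r.Prime) (hu : u ^ r = 1)
    (W : Submodule F K) (hW : ∀ w ∈ W, u w ∈ W) :
    Nat.card W ≡ Nat.card (W ⊓ LinearMap.ker (u - 1) : Submodule F K) [MOD r] := by
  classical
  have : Fact r.Prime := ⟨hr⟩
  have : Fintype W := Fintype.ofFinite _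
  let f : Function.End W := fun w => ⟨u w.1, hW w.1 w.2⟩
  have hfpow : ∀ k : ℕ, ∀ w : W, ((f ^ k) w).1 = (u ^ k) w.1 := by
    intro k
    induction k with
    | zero => intro w; rfl
    | succ k ih =>
      intro w
      rw [pow_succ', pow_succ']
      change (f ((f ^ k) w)).1 = u ((u ^ k) w.1)
      rw [← ih w]
  have hf : f ^ r ^ 1 = 1 := by
    rw [pow_one]
    funext w
    apply Subtype.ext
    rw [hfpow, hu]
    rfl
  have h := Equiv.Perm.card_fixedPoints_modEq (f := f) hf
  rw [Fintype.card_eq_nat_card, Fintype.card_eq_nat_card] at h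
  have e : Function.fixedPoints f ≃ (W ⊓ LinearMap.ker (u - 1) : Submodule F K) :=
    { toFun := fun w => ⟨w.1.1, Submodule.mem_inf.2 ⟨w.1.2, by
        have h1 : f w.1 = w.1 := w.2
        have h2 : u w.1.1 = w.1.1 := congrArg Subtype.val h1
        rw [LinearMap.mem_ker, LinearMap.sub_apply, h2]
        simp⟩⟩
      invFun := fun w => ⟨⟨w.1, (Submodule.mem_inf.1 w.2).1⟩, by
        have h1 := (Submodule.mem_inf.1 w.2).2
        rw [LinearMap.mem_ker, LinearMap.sub_apply, sub_eq_zero] at h1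
        change f ⟨w.1, _⟩ = ⟨w.1, _⟩
        apply Subtype.ext
        exact h1⟩
      left_inv := fun w => rfl
      right_inv := fun w => rfl }
  rw [Nat.card_congr e] at h
  exact h

/-- arithmetic of a primitive prime divisor -/
theorem exp_cases {q n r j k : ℕ} (hq : 2 ≤ q) (hn : 1 ≤ n) (hr : r.Prime) (hdvd : r ∣ q ^ n - 1)
    (hprim : ∀ k, 0 < k → k < n → ¬ r ∣ q ^ k - 1) (hjk : j ≤ k) (hkn : k ≤ n)
    (h : q ^ k ≡ q ^ j [MOD r]) : k = j ∨ (k = n ∧ j = 0) := by
  have hrq : ¬ r ∣ q := by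
    intro hd
    have h1 : r ∣ q ^ n := dvd_pow hd (by omega)
    have h2 : 1 ≤ q ^ n := Nat.one_le_pow _ _ (by omega)
    have h3 : r ∣ q ^ n - (q ^ n - 1) := Nat.dvd_sub h1 hdvd
    have h4 : q ^ n - (q ^ n - 1) = 1 := by omega
    rw [h4] at h3
    exact hr.one_lt.ne' (Nat.dvd_one.1 h3)
  have hle : q ^ j ≤ q ^ k := Nat.pow_le_pow_right (by omega) hjk
  have h1 : r ∣ q ^ k - q ^ j := (Nat.modEq_iff_dvd' hle).1 h.symm
  have h2 : q ^ k - q ^ j = q ^ j * (q ^ (k - j) - 1) := by
    rw [Nat.mul_sub_one, ← pow_add]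
    congr 2
    omega
  rw [h2] at h1
  have h3 : r ∣ q ^ (k - j) - 1 := by
    rcases (Nat.Prime.dvd_mul hr).1 h1 with h | h
    · exact absurd (hr.dvd_of_dvd_pow h) hrq
    · exact h
  by_contra hne
  push Not at hne
  have h4 : 0 < k - j := by
    have := hne.1
    omega
  have h5 : k - j < n := by
    by_contra h6
    have : k = n ∧ j = 0 := by omega
    exact hne.2 this.1 this.2
  exact hprim _ h4 h5 h3

theorem irreducible [Fintype F] [Finite K] (n : ℕ) (hn : 1 ≤ n) (hdim : Module.finrank F K = n)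
    (u : Module.End F K) (r : ℕ) (hr : r.Prime) (hdvd : r ∣ Fintype.card F ^ n - 1)
    (hprim : ∀ k, 0 < k → k < n → ¬ r ∣ Fintype.card F ^ k - 1) (hu : u ^ r = 1) (hu1 : u ≠ 1)
    (W : Submodule F K) (hW : ∀ w ∈ W, u w ∈ W) : W = ⊥ ∨ W = ⊤ := by
  have hq : 2 ≤ Fintype.card F := Fintype.one_lt_card
  have hfin : Module.Finite F K := inferInstance
  have hcard : ∀ V : Submodule F K, Nat.card V = Fintype.card F ^ Module.finrank F V := by
    intro V
    rw [Module.natCard_eq_pow_finrank (K := F), Nat.card_eq_fintype_card]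
  have hle : ∀ V : Submodule F K, Module.finrank F V ≤ n := by
    intro V
    rw [← hdim]
    exact Submodule.finrank_le V
  -- no fixed vectors
  have hker : LinearMap.ker (u - 1) = ⊥ := by
    have h := card_modEq u r hr hu ⊤ (fun _ _ => Submodule.mem_top)
    rw [hcard, hcard, finrank_top, hdim, top_inf_eq] at h
    rcases exp_cases hq hn hr hdvd hprim (hle _) le_rfl h with h1 | ⟨-, h1⟩
    · exfalso
      have h2 : LinearMap.ker (u - 1) = ⊤ := by
        apply Submodule.eq_top_of_finrank_eq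
        rw [← h1, hdim]
      apply hu1
      have h3 : u - 1 = 0 := LinearMap.ker_eq_top.1 h2
      exact sub_eq_zero.1 h3
    · exact Submodule.finrank_eq_zero.1 h1
  have h := card_modEq u r hr hu W hW
  rw [hker, inf_bot_eq, hcard, hcard, finrank_bot] at h
  rcases exp_cases hq hn hr hdvd hprim (Nat.zero_le _) (hle W) h with h1 | ⟨h1, -⟩
  · left
    exact Submodule.finrank_eq_zero.1 h1
  · right
    apply Submodule.eq_top_of_finrank_eq
    rw [h1, hdim]

end Cfsg.Agent.H9.SingerConj
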