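import Mathlib
import Cfsg.Agent.H9.SingerConjA
import Cfsg.Agent.H9.SingerConjB

set_option autoImplicit false

namespace Cfsg.Agent.H9.SingerConj


theorem exists_algHom_of_isField {F K : Type*} [Field F] [Field K] [Algebra F K] [Finite K]
    {A : Type*} [Ring A] [Algebra F A] [Finite A] (hA : IsField A)
    (hcard : Nat.card A = Nat.card K) : ∃ ψ : K →ₐ[F] A, Function.Bijective ψ := by
  let _ : Field A := hA.toField
  have hF : Finite F := Finite.of_injective _ (algebraMap F K).injective
  have hq : 1 < Nat.card F := Finite.one_lt_card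
  have h1 : Nat.card A = Nat.card F ^ Module.finrank F A := Module.natCard_eq_pow_finrank (K := F)
  have h2 : Nat.card K = Nat.card F ^ Module.finrank F K := Module.natCard_eq_pow_finrank (K := F)
  have h3 : Module.finrank F K = Module.finrank F A := by
    apply Nat.pow_right_injective hq
    change Nat.card F ^ _ = Nat.card F ^ _
    rw [← h1, ← h2, hcard]
  obtain ⟨ψ⟩ := FiniteField.nonempty_algHom_of_finrank_dvd (F := F) (K := K) (L := A) (by rw [h3])
  refine ⟨ψ, ?_⟩
  exact Function.Injective.bijective_of_nat_card_le ψ.toRingHom.injective hcard.le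



variable {F K : Type*} [Field F] [Fintype F] [Field K] [Fintype K] [Algebra F K]

/-- the field structure on the commutant -/
theorem struct (n : ℕ) (hn : 2 ≤ n) (hdim : Module.finrank F K = n)
    (r : ℕ) (hr : r.Prime) (hdvd : r ∣ Fintype.card F ^ n - 1)
    (hprim : ∀ k : ℕ, 0 < k → k < n → ¬ r ∣ Fintype.card F ^ k - 1)
    (U : Subgroup (Module.End F K)ˣ) (hU : IsMulCommutative U)
    (hcard : Nat.card U = Fintype.card K - 1) :
    ∃ A : Subalgebra F (Module.End F K), IsField A ∧ Nat.card A = Nat.card K ∧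
      (∀ g ∈ U, (g : Module.End F K) ∈ A) ∧
      (∀ a ∈ A, a ≠ 0 → ∃ g ∈ U, (g : Module.End F K) = a) := by
  classical
  have hKcard : Fintype.card K = Fintype.card F ^ n := by
    rw [← hdim]; exact Module.card_eq_pow_finrank
  have hK1 : 1 < Fintype.card K := Fintype.one_lt_card
  have hUpos : Nat.card U ≠ 0 := by rw [hcard]; omega
  have hfinU : Finite U := Nat.finite_of_card_ne_zero hUpos
  have : Fact r.Prime := ⟨hr⟩
  obtain ⟨u, hu⟩ := exists_prime_orderOf_dvd_card' (G := U) r (by rw [hcard, hKcard]; exact hdvd)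
  set u0 : Module.End F K := ((u : (Module.End F K)ˣ) : Module.End F K) with hu0
  have hu0r : u0 ^ r = 1 := by
    have h1 : u ^ r = 1 := by rw [← hu]; exact pow_orderOf_eq_one u
    have h2 : ((u : (Module.End F K)ˣ)) ^ r = 1 := by
      have := congrArg (fun x : U => (x : (Module.End F K)ˣ)) h1
      simpa using this
    have h3 := congrArg (fun x : (Module.End F K)ˣ => (x : Module.End F K)) h2
    simpa using h3
  have hu01 : u0 ≠ 1 := by
    intro h
    have h1 : (u : (Module.End F K)ˣ) = 1 := Units.ext h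
    have h2 : u = 1 := Subtype.ext h1
    rw [h2, orderOf_one] at hu
    exact hr.one_lt.ne hu
  have hirr := irreducible n (by omega) hdim u0 r hr hdvd hprim hu0r hu01
  set A : Subalgebra F (Module.End F K) := Subalgebra.centralizer F {u0} with hA
  have hmemA : ∀ a : Module.End F K, a ∈ A ↔ u0 * a = a * u0 := by
    intro a
    rw [hA, Subalgebra.mem_centralizer_iff]
    simp
  -- nonzero elements are injective
  have hinj : ∀ a ∈ A, a ≠ 0 → LinearMap.ker a = ⊥ := by
    intro a ha ha0
    rcases hirr (LinearMap.ker a) (by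
      intro w hw
      rw [LinearMap.mem_ker] at hw ⊢
      have h1 : (a * u0) w = (u0 * a) w := by rw [(hmemA a).1 ha]
      rw [Module.End.mul_apply, Module.End.mul_apply, hw, map_zero] at h1
      exact h1) with h | h
    · exact h
    · exact absurd (LinearMap.ker_eq_top.1 h) ha0
  -- evaluation at one is injective
  have hev : Function.Injective (fun a : A => (a : Module.End F K) 1) := by
    intro a b hab
    by_contra hne
    have h1 : (a : Module.End F K) - (b : Module.End F K) ≠ 0 := by
      intro h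
      exact hne (Subtype.ext (sub_eq_zero.1 h))
    have h2 := hinj _ (A.sub_mem a.2 b.2) h1
    have h3 : (1 : K) ∈ LinearMap.ker ((a : Module.End F K) - (b : Module.End F K)) := by
      rw [LinearMap.mem_ker, LinearMap.sub_apply]
      exact sub_eq_zero.2 hab
    rw [h2, Submodule.mem_bot] at h3
    exact one_ne_zero h3
  have hfinA : Finite A := Finite.of_injective _ hev
  have hAle : Nat.card A ≤ Nat.card K := Nat.card_le_card_of_injective _ hev
  -- the group U lies in A
  have hUA : ∀ g ∈ U, (g : Module.End F K) ∈ A := by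
    intro g hg
    rw [hmemA]
    have h1 : (⟨g, hg⟩ : U) * u = u * ⟨g, hg⟩ := mul_comm' _ _
    have h2 : g * (u : (Module.End F K)ˣ) = u * g := congrArg Subtype.val h1
    have h3 := congrArg (fun x : (Module.End F K)ˣ => (x : Module.End F K)) h2
    simpa [hu0] using h3.symm
  let ι : Option U → A := fun o => match o with
    | none => 0
    | some g => ⟨((g : (Module.End F K)ˣ) : Module.End F K), hUA _ g.2⟩
  have hunit0 : ∀ g : (Module.End F K)ˣ, (g : Module.End F K) ≠ 0 := fun g => g.ne_zero
  have hιinj : Function.Injective ι := by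
    intro a b hab
    rcases a with _ | a <;> rcases b with _ | b
    · rfl
    · exfalso
      have h1 : (0 : Module.End F K) = ((b : (Module.End F K)ˣ) : Module.End F K) :=
        congrArg Subtype.val hab
      exact hunit0 _ h1.symm
    · exfalso
      have h1 : ((a : (Module.End F K)ˣ) : Module.End F K) = 0 :=
        congrArg Subtype.val hab
      exact hunit0 _ h1
    · have h1 : ((a : (Module.End F K)ˣ) : Module.End F K) = ((b : (Module.End F K)ˣ) : Module.End F K) :=
        congrArg Subtype.val hab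
      rw [Subtype.ext (Units.ext h1)]
  have hcardO : Nat.card (Option U) = Nat.card K := by
    rw [Finite.card_option, hcard, Nat.card_eq_fintype_card]
    omega
  have hιbij : Function.Bijective ι :=
    Function.Injective.bijective_of_nat_card_le hιinj (by rw [hcardO]; exact hAle)
  have hcardA : Nat.card A = Nat.card K := by
    rw [← hcardO]
    exact (Nat.card_congr (Equiv.ofBijective ι hιbij)).symm
  have hsurj : ∀ a ∈ A, a ≠ 0 → ∃ g ∈ U, (g : Module.End F K) = a := by
    intro a ha ha0
    obtain ⟨o, ho⟩ := hιbij.2 ⟨a, ha⟩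
    rcases o with _ | g
    · exfalso
      apply ha0
      exact (congrArg Subtype.val ho).symm
    · exact ⟨g.1, g.2, congrArg Subtype.val ho⟩
  refine ⟨A, ?_, hcardA, hUA, hsurj⟩
  refine ⟨⟨0, 1, ?_⟩, ?_, ?_⟩
  · intro h
    have := congrArg Subtype.val h
    exact zero_ne_one this
  · intro a b
    by_cases ha : a = 0
    · rw [ha]; simp
    by_cases hb : b = 0
    · rw [hb]; simp
    obtain ⟨g, hg, hga⟩ := hsurj a.1 a.2 (fun h => ha (Subtype.ext h))
    obtain ⟨h, hh, hhb⟩ := hsurj b.1 b.2 (fun h => hb (Subtype.ext h))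
    apply Subtype.ext
    change a.1 * b.1 = b.1 * a.1
    rw [← hga, ← hhb]
    have h1 : (⟨g, hg⟩ : U) * ⟨h, hh⟩ = ⟨h, hh⟩ * ⟨g, hg⟩ := mul_comm' _ _
    have h2 : g * h = h * g := congrArg Subtype.val h1
    have h3 := congrArg (fun x : (Module.End F K)ˣ => (x : Module.End F K)) h2
    simpa using h3
  · intro a ha
    obtain ⟨g, hg, hga⟩ := hsurj a.1 a.2 (fun h => ha (Subtype.ext h))
    refine ⟨⟨((g⁻¹ : (Module.End F K)ˣ) : Module.End F K), hUA _ (U.inv_mem hg)⟩, ?_⟩
    apply Subtype.ext
    change a.1 * ((g⁻¹ : (Module.End F K)ˣ) : Module.End F K) = 1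
    rw [← hga]
    exact g.mul_inv




omit [Fintype F] in
theorem conj_of_struct (U : Subgroup (Module.End F K)ˣ)
    (A : Subalgebra F (Module.End F K)) (ψ : K →ₐ[F] A) (hψ : Function.Bijective ψ)
    (hUA : ∀ g ∈ U, (g : Module.End F K) ∈ A)
    (hAU : ∀ a ∈ A, a ≠ 0 → ∃ g ∈ U, (g : Module.End F K) = a) :
    ∃ g : (Module.End F K)ˣ, U.map (MulAut.conj g).toMonoidHom =
      (Units.map ((Algebra.lmul F K : K →ₐ[F] Module.End F K) : K →* Module.End F K)).range := by
  classical
  let g0 : Module.End F K :=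
    { toFun := fun x => ((ψ x : A) : Module.End F K) 1
      map_add' := by intro x y; simp
      map_smul' := by intro c x; simp }
  have hg0 : ∀ x, g0 x = ((ψ x : A) : Module.End F K) 1 := fun x => rfl
  have hψ0 : ∀ x : K, x ≠ 0 → ((ψ x : A) : Module.End F K) ≠ 0 := by
    intro x hx h
    have h1 : ψ x = 0 := Subtype.ext h
    rw [← map_zero ψ] at h1
    exact hx (hψ.1 h1)
  have hg0inj : Function.Injective g0 := by
    rw [← LinearMap.ker_eq_bot, Submodule.eq_bot_iff]
    intro x hx
    rw [LinearMap.mem_ker, hg0] at hx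
    by_contra hx0
    obtain ⟨w, hw, hwx⟩ := hAU _ (ψ x).2 (hψ0 x hx0)
    rw [← hwx] at hx
    have h1 : ((w⁻¹ : (Module.End F K)ˣ) : Module.End F K) ((w : Module.End F K) 1) = 1 := by
      rw [← Module.End.mul_apply, Units.inv_mul]; rfl
    rw [hx, map_zero] at h1
    exact zero_ne_one h1
  have hg0bij : Function.Bijective g0 := ⟨hg0inj, LinearMap.injective_iff_surjective.1 hg0inj⟩
  have hunit : IsUnit g0 := (Module.End.isUnit_iff g0).2 hg0bij
  obtain ⟨G, hG⟩ := hunit
  have hmul : ∀ x y : K, g0 (x * y) = ((ψ x : A) : Module.End F K) (g0 y) := by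
    intro x y
    rw [hg0, hg0, map_mul]
    rfl
  have key : ∀ (x : Kˣ) (w : (Module.End F K)ˣ), (w : Module.End F K) = ((ψ x : A) : Module.End F K) →
      G * Units.map ((Algebra.lmul F K : K →ₐ[F] Module.End F K) : K →* Module.End F K) x = w * G := by
    intro x w hw
    apply Units.ext
    apply LinearMap.ext
    intro y
    rw [Units.val_mul, Units.val_mul, hG, hw, Module.End.mul_apply, Module.End.mul_apply, ← hmul]
    rfl
  have key2 : ∀ (x : Kˣ) (w : (Module.End F K)ˣ), (w : Module.End F K) = ((ψ x : A) : Module.End F K) →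
      (MulAut.conj G⁻¹).toMonoidHom w =
        Units.map ((Algebra.lmul F K : K →ₐ[F] Module.End F K) : K →* Module.End F K) x := by
    intro x w hw
    change G⁻¹ * w * G⁻¹⁻¹ = _
    rw [inv_inv, mul_assoc, ← key x w hw, ← mul_assoc, inv_mul_cancel, one_mul]
  refine ⟨G⁻¹, ?_⟩
  ext z
  rw [Subgroup.mem_map, MonoidHom.mem_range]
  constructor
  · rintro ⟨w, hw, rfl⟩
    obtain ⟨x, hx⟩ := hψ.2 ⟨w, hUA w hw⟩
    have hx0 : x ≠ 0 := by
      rintro rfl
      rw [map_zero] at hx
      have := congrArg Subtype.val hx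
      exact w.ne_zero this.symm
    refine ⟨Units.mk0 x hx0, ?_⟩
    rw [key2 (Units.mk0 x hx0) w]
    rw [Units.val_mk0, hx]
  · rintro ⟨x, rfl⟩
    obtain ⟨w, hw, hwx⟩ := hAU _ (ψ x).2 (hψ0 x x.ne_zero)
    exact ⟨w, hw, key2 x w hwx⟩


theorem main (n : ℕ) (hn : 2 ≤ n) (hdim : Module.finrank F K = n)
    (hex1 : ¬ (n = 6 ∧ Fintype.card F = 2))
    (hex2 : ¬ (n = 2 ∧ (Fintype.card F).Prime ∧ ∃ a : ℕ, Fintype.card F + 1 = 2 ^ a))
    (U : Subgroup (Module.End F K)ˣ) (hU : IsMulCommutative U)
    (hcard : Nat.card U = Fintype.card K - 1) :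
    ∃ g : (Module.End F K)ˣ, U.map (MulAut.conj g).toMonoidHom =
      (Units.map ((Algebra.lmul F K : K →ₐ[F] Module.End F K) : K →* Module.End F K)).range := by
  obtain ⟨r, hr, hdvd, hprim⟩ := exists_ppd (F := F) n hn hex1 hex2
  obtain ⟨A, hfield, hcardA, hUA, hAU⟩ := struct n hn hdim r hr hdvd hprim U hU hcard
  have : Finite A := Nat.finite_of_card_ne_zero (by rw [hcardA]; exact Nat.card_pos.ne')
  obtain ⟨ψ, hψ⟩ := exists_algHom_of_isField (F := F) (K := K) hfield hcardA
  exact conj_of_struct U A ψ hψ hUA hAU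

end Cfsg.Agent.H9.SingerConj
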