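import Mathlib
import Cfsg.Agent.H9.Sol3A
import Cfsg.Agent.H9.KleinPSL2

set_option autoImplicit false

/-! Orders two and three in `PSL₂(F)` through traces, and the matrix form of the solvability
alternatives. -/

namespace Cfsg.Agent.H9.Sol3

open Matrix Subgroup
open Cfsg.Agent.H9.AutPSL2
open Cfsg.Agent.H9.Solubilizer
open Cfsg.Agent.H9.KleinPSL2 (sq_of_trace)

universe u

section traces

variable {F : Type u} [Field F]

local notation "SL2" => Matrix.SpecialLinearGroup (Fin 2) F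
local notation "PSL2" => Matrix.ProjectiveSpecialLinearGroup (Fin 2) F

/-- the trace -/
def tr (X : SL2) : F := X.1 0 0 + X.1 1 1

theorem two_ne_zero3 (h3 : (3 : F) = 0) : (2 : F) ≠ 0 := by
  intro h2
  have : (1 : F) = 0 := by linear_combination h3 - h2
  exact one_ne_zero this

theorem one_00 : (1 : SL2).1 0 0 = 1 := by simp
theorem one_01 : (1 : SL2).1 0 1 = 0 := by simp
theorem one_10 : (1 : SL2).1 1 0 = 0 := by simp
theorem one_11 : (1 : SL2).1 1 1 = 1 := by simp

theorem tr_one : tr (1 : SL2) = 2 := by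
  unfold tr; rw [one_00, one_11]; norm_num

theorem tr_neg (X : SL2) : tr (-X) = -tr X := by
  unfold tr; rw [neg_00, neg_11]; ring

theorem tr_inv (X : SL2) : tr X⁻¹ = tr X := by
  unfold tr; rw [inv_00, inv_11]; ring

theorem tr_mul_comm (X Y : SL2) : tr (X * Y) = tr (Y * X) := by
  unfold tr; simp only [mul_00, mul_11]; ring

/-- `tr (X Y⁻¹) = tr X tr Y - tr (X Y)` -/
theorem tr_mul_inv (X Y : SL2) : tr (X * Y⁻¹) = tr X * tr Y - tr (X * Y) := by
  unfold tr; simp only [mul_00, mul_11, inv_00, inv_01, inv_10, inv_11]; ring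

/-- the cube of an element -/
theorem cube_entries (X : SL2) :
    X * X * X = 1 ∨ X * X * X = -1 ∨ tr X ^ 2 ≠ 1 := by
  by_cases h : tr X ^ 2 = 1
  · have hd := det_eq X
    unfold tr at h
    have h' : (tr X - 1) * (tr X + 1) = 0 := by unfold tr; linear_combination h
    rcases mul_eq_zero.1 h' with h1 | h1
    · right; left
      unfold tr at h1
      apply ext4 <;> simp only [mul_00, mul_01, mul_10, mul_11, neg_00, neg_01, neg_10, neg_11,
        one_00, one_01, one_10, one_11]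
      · linear_combination (X.1 0 0) * h + (2 * X.1 0 0 + X.1 1 1) * (-hd) - h1
      · linear_combination (X.1 0 1) * h + (X.1 0 1) * (-hd)
      · linear_combination (X.1 1 0) * h + (X.1 1 0) * (-hd)
      · linear_combination (X.1 1 1) * h + (2 * X.1 1 1 + X.1 0 0) * (-hd) - h1
    · left
      unfold tr at h1
      apply ext4 <;> simp only [mul_00, mul_01, mul_10, mul_11, neg_00, neg_01, neg_10, neg_11,
        one_00, one_01, one_10, one_11]
      · linear_combination (X.1 0 0) * h + (2 * X.1 0 0 + X.1 1 1) * (-hd) - h1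
      · linear_combination (X.1 0 1) * h + (X.1 0 1) * (-hd)
      · linear_combination (X.1 1 0) * h + (X.1 1 0) * (-hd)
      · linear_combination (X.1 1 1) * h + (2 * X.1 1 1 + X.1 0 0) * (-hd) - h1
  · exact Or.inr (Or.inr h)

theorem pr_eq_one_iff (X : SL2) : (pr X : PSL2) = 1 ↔ X = 1 ∨ X = -1 := by
  rw [← map_one pr, pr_eq_iff]

theorem pr_neg (X : SL2) : (pr (-X) : PSL2) = pr X := by
  rw [pr_eq_iff]
  right; rfl

/-- trace zero gives order at most two in `PSL₂` -/
theorem pr_sq_of_tr (X : SL2) (h : tr X = 0) : (pr X : PSL2) ^ 2 = 1 := by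
  have h1 : X * X = -1 := by
    apply sq_of_trace
    unfold tr at h
    linear_combination h
  rw [pow_two, ← map_mul, h1, pr_neg, map_one]

/-- trace `±1` gives order dividing three in `PSL₂` -/
theorem pr_cube_of_tr (X : SL2) (h : tr X ^ 2 = 1) : (pr X : PSL2) ^ 3 = 1 := by
  have e : (pr X : PSL2) ^ 3 = pr (X * X * X) := by
    rw [map_mul, map_mul]
    simp only [pow_succ, pow_zero, one_mul]
  rw [e]
  rcases cube_entries X with h1 | h1 | h1
  · rw [h1, map_one]
  · rw [h1, pr_neg, map_one]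
  · exact absurd h h1

end traces

section converses

variable {F : Type u} [Field F] [Fintype F]

local notation "SL2" => Matrix.SpecialLinearGroup (Fin 2) F
local notation "PSL2" => Matrix.ProjectiveSpecialLinearGroup (Fin 2) F

omit [Fintype F] in
theorem tr_of_sq_neg (h2 : (2 : F) ≠ 0) (X : SL2) (h : X * X = -1) : tr X = 0 := by
  have e00 := congrArg (fun g : SL2 => g.1 0 0) h
  have e01 := congrArg (fun g : SL2 => g.1 0 1) h
  have e10 := congrArg (fun g : SL2 => g.1 1 0) h
  have e11 := congrArg (fun g : SL2 => g.1 1 1) h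
  simp only [mul_00, mul_01, mul_10, mul_11, neg_00, neg_01, neg_10, neg_11,
    one_00, one_01, one_10, one_11] at e00 e01 e10 e11
  have hd := det_eq X
  by_contra ht
  unfold tr at ht
  have h01 : X.1 0 1 = 0 := by
    have : X.1 0 1 * (X.1 0 0 + X.1 1 1) = 0 := by linear_combination e01
    exact (mul_eq_zero.1 this).resolve_right ht
  have had : X.1 0 0 = X.1 1 1 := by
    have : (X.1 0 0 - X.1 1 1) * (X.1 0 0 + X.1 1 1) = 0 := by linear_combination e00 - e11
    have := (mul_eq_zero.1 this).resolve_right ht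
    linear_combination this
  apply h2
  rw [h01] at e00 hd
  rw [had] at e00 hd
  linear_combination e00 - hd

/-- order at most two in `PSL₂` -/
theorem of_pr_sq (h2 : (2 : F) ≠ 0) (X : SL2) (h : (pr X : PSL2) ^ 2 = 1) :
    X = 1 ∨ X = -1 ∨ tr X = 0 := by
  rw [pow_two, ← map_mul, pr_eq_one_iff] at h
  rcases h with h | h
  · rcases Cfsg.Agent.S2431.eq_of_sq_eq_one h2 X h with h1 | h1
    · exact Or.inl h1
    · exact Or.inr (Or.inl h1)
  · exact Or.inr (Or.inr (tr_of_sq_neg h2 X h))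

omit [Fintype F] in
/-- order dividing three in `PSL₂`, characteristic three -/
theorem of_pr_cube (h3 : (3 : F) = 0) (X : SL2) (h : (pr X : PSL2) ^ 3 = 1) :
    tr X ^ 2 = 1 := by
  have e : (pr X : PSL2) ^ 3 = pr (X * X * X) := by
    rw [map_mul, map_mul]
    simp only [pow_succ, pow_zero, one_mul]
  rw [e, ← map_one pr, pr_eq_iff] at h
  have hd := det_eq X
  have key : ∀ ε : F, (X * X * X).1 0 0 = ε → (X * X * X).1 0 1 = 0 → (X * X * X).1 1 0 = 0 →
      (X * X * X).1 1 1 = ε → tr X ^ 2 = 1 := by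
    intro ε e00 e01 e10 e11
    simp only [mul_00, mul_01, mul_10, mul_11] at e00 e01 e10 e11
    by_contra ht
    have ht' : tr X ^ 2 - 1 ≠ 0 := fun h' => ht (by linear_combination h')
    unfold tr at ht ht'
    have h01 : X.1 0 1 = 0 := by
      have : X.1 0 1 * ((X.1 0 0 + X.1 1 1) ^ 2 - 1) = 0 := by
        linear_combination e01 + X.1 0 1 * hd
      exact (mul_eq_zero.1 this).resolve_right ht'
    have had : X.1 0 0 = X.1 1 1 := by
      have : (X.1 0 0 - X.1 1 1) * ((X.1 0 0 + X.1 1 1) ^ 2 - 1) = 0 := by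
        linear_combination e00 - e11 + (X.1 0 0 - X.1 1 1) * hd
      have := (mul_eq_zero.1 this).resolve_right ht'
      linear_combination this
    apply ht
    rw [h01] at hd
    rw [had] at hd ⊢
    linear_combination 4 * hd + h3
  rcases h with h | h
  · apply key 1
    · rw [h, one_00]
    · rw [h, one_01]
    · rw [h, one_10]
    · rw [h, one_11]
  · apply key (-1)
    · rw [h, neg_00, one_00]
    · rw [h, neg_01, one_01, neg_zero]
    · rw [h, neg_10, one_10, neg_zero]
    · rw [h, neg_11, one_11]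

end converses

section forms

variable {F : Type u} [Field F] [Fintype F]

local notation "SL2" => Matrix.SpecialLinearGroup (Fin 2) F
local notation "PSL2" => Matrix.ProjectiveSpecialLinearGroup (Fin 2) F

/-- `Y` normalizes `⟨X⟩` modulo the centre -/
def Nrm (X Y : SL2) : Prop :=
  Y * X = X * Y ∨ Y * X = -(X * Y) ∨ Y * X = X⁻¹ * Y ∨ Y * X = -(X⁻¹ * Y)

/-- `X` and one of `Y`, `X Y` have trace zero -/
def Inv (X Y : SL2) : Prop := tr X = 0 ∧ (tr Y = 0 ∨ tr (X * Y) = 0)

/-- the tetrahedral trace conditions -/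
def TM (X Y : SL2) : Prop :=
  (tr X = 0 ∧ tr Y ^ 2 = 1 ∧ tr (X * Y) ^ 2 = 1) ∨
  (tr X ^ 2 = 1 ∧ tr Y = 0 ∧ tr (X * Y) ^ 2 = 1) ∨
  (tr X ^ 2 = 1 ∧ tr Y ^ 2 = 1 ∧ (tr (X * Y) = 0 ∨ tr (X * Y⁻¹) = 0))

omit [Fintype F] in
theorem cond_of_Nrm (X Y : SL2) (h : Nrm X Y) : Cond (pr X : PSL2) (pr Y) := by
  left
  rw [← map_inv, ← map_mul, ← map_mul, ← map_inv]
  rcases h with h | h | h | h
  · left
    congr 1
    rw [h]; group
  · left
    rw [pr_eq_iff]
    right
    rw [h, neg_mul, mul_inv_cancel_right]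
  · right
    congr 1
    rw [h]; group
  · right
    rw [pr_eq_iff]
    right
    rw [h, neg_mul, mul_inv_cancel_right]

omit [Fintype F] in
theorem cond_of_Inv (X Y : SL2) (h : Inv X Y) : Cond (pr X : PSL2) (pr Y) := by
  right
  obtain ⟨hx, h | h⟩ := h
  · refine ⟨?_, Or.inl ?_⟩
    · rw [← pow_two]; exact pr_sq_of_tr X hx
    · rw [← pow_two]; exact pr_sq_of_tr Y h
  · refine ⟨?_, Or.inr ?_⟩
    · rw [← pow_two]; exact pr_sq_of_tr X hx
    · rw [← pow_two, ← map_mul]; exact pr_sq_of_tr _ h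

omit [Fintype F] in
theorem T_of_TM (X Y : SL2) (h : TM X Y) : T (pr X : PSL2) (pr Y) := by
  rcases h with ⟨hx, hy, hz⟩ | ⟨hx, hy, hz⟩ | ⟨hx, hy, hz | hz⟩
  · left
    refine ⟨pr_sq_of_tr X hx, pr_cube_of_tr Y hy, ?_⟩
    rw [← map_mul]; exact pr_cube_of_tr _ hz
  · right; left
    refine ⟨pr_cube_of_tr X hx, pr_sq_of_tr Y hy, ?_⟩
    rw [← map_mul]; exact pr_cube_of_tr _ hz
  · right; right
    refine ⟨pr_cube_of_tr X hx, pr_cube_of_tr Y hy, Or.inl ?_⟩
    rw [← map_mul]; exact pr_sq_of_tr _ hz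
  · right; right
    refine ⟨pr_cube_of_tr X hx, pr_cube_of_tr Y hy, Or.inr ?_⟩
    rw [← map_inv, ← map_mul]; exact pr_sq_of_tr _ hz

omit [Fintype F] in
theorem Nrm_of_left (X Y : SL2) (h : X = 1 ∨ X = -1) : Nrm X Y := by
  left
  rcases h with rfl | rfl
  · rw [mul_one, one_mul]
  · rw [mul_neg, neg_mul, mul_one, one_mul]

omit [Fintype F] in
theorem Nrm_of_right (X Y : SL2) (h : Y = 1 ∨ Y = -1) : Nrm X Y := by
  left
  rcases h with rfl | rfl
  · rw [mul_one, one_mul]
  · rw [mul_neg, neg_mul, mul_one, one_mul]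

omit [Fintype F] in
theorem Nrm_of_mul (X Y : SL2) (h : X * Y = 1 ∨ X * Y = -1) : Nrm X Y := by
  left
  rcases h with h | h
  · rw [h]; exact mul_eq_one_comm.1 h
  · rw [h]
    have hY : Y = X⁻¹ * (-1) := by rw [← h]; group
    rw [hY, mul_neg, mul_one, neg_mul, inv_mul_cancel]

omit [Fintype F] in
theorem Nrm_of_mul_inv (X Y : SL2) (h : X * Y⁻¹ = 1 ∨ X * Y⁻¹ = -1) : Nrm X Y := by
  left
  rcases h with h | h
  · have : X = Y := by
      calc X = X * Y⁻¹ * Y := by group
        _ = Y := by rw [h, one_mul]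
    rw [this]
  · have : X = -Y := by
      calc X = X * Y⁻¹ * Y := by group
        _ = -Y := by rw [h, neg_mul, one_mul]
    rw [this, mul_neg, neg_mul]

theorem of_Cond (h2 : (2 : F) ≠ 0) (X Y : SL2) (h : Cond (pr X : PSL2) (pr Y)) :
    Nrm X Y ∨ Inv X Y := by
  rcases h with (h | h) | ⟨hx, h⟩
  · left
    rw [← map_inv, ← map_mul, ← map_mul, pr_eq_iff] at h
    rcases h with h | h
    · left
      calc Y * X = (Y * X * Y⁻¹) * Y := by group
        _ = X * Y := by rw [h]
    · right; left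
      calc Y * X = (Y * X * Y⁻¹) * Y := by group
        _ = -(X * Y) := by rw [h, neg_mul]
  · left
    rw [← map_inv, ← map_mul, ← map_mul, ← map_inv, pr_eq_iff] at h
    rcases h with h | h
    · right; right; left
      calc Y * X = (Y * X * Y⁻¹) * Y := by group
        _ = X⁻¹ * Y := by rw [h]
    · right; right; right
      calc Y * X = (Y * X * Y⁻¹) * Y := by group
        _ = -(X⁻¹ * Y) := by rw [h, neg_mul]
  · rw [← pow_two] at hx
    rcases of_pr_sq h2 X hx with h1 | h1 | h1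
    · exact Or.inl (Nrm_of_left X Y (Or.inl h1))
    · exact Or.inl (Nrm_of_left X Y (Or.inr h1))
    · rcases h with h | h
      · rw [← pow_two] at h
        rcases of_pr_sq h2 Y h with h4 | h4 | h4
        · exact Or.inl (Nrm_of_right X Y (Or.inl h4))
        · exact Or.inl (Nrm_of_right X Y (Or.inr h4))
        · exact Or.inr ⟨h1, Or.inl h4⟩
      · rw [← pow_two, ← map_mul] at h
        rcases of_pr_sq h2 _ h with h4 | h4 | h4
        · exact Or.inl (Nrm_of_mul X Y (Or.inl h4))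
        · exact Or.inl (Nrm_of_mul X Y (Or.inr h4))
        · exact Or.inr ⟨h1, Or.inr h4⟩

theorem of_T (h3 : (3 : F) = 0) (X Y : SL2) (h : T (pr X : PSL2) (pr Y)) :
    Nrm X Y ∨ TM X Y := by
  have h2 := two_ne_zero3 h3
  rcases h with ⟨hx, hy, hz⟩ | ⟨hx, hy, hz⟩ | ⟨hx, hy, hz | hz⟩
  · rw [← map_mul] at hz
    rcases of_pr_sq h2 X hx with h1 | h1 | h1
    · exact Or.inl (Nrm_of_left X Y (Or.inl h1))
    · exact Or.inl (Nrm_of_left X Y (Or.inr h1))
    · exact Or.inr (Or.inl ⟨h1, of_pr_cube h3 Y hy, of_pr_cube h3 _ hz⟩)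
  · rw [← map_mul] at hz
    rcases of_pr_sq h2 Y hy with h1 | h1 | h1
    · exact Or.inl (Nrm_of_right X Y (Or.inl h1))
    · exact Or.inl (Nrm_of_right X Y (Or.inr h1))
    · exact Or.inr (Or.inr (Or.inl ⟨of_pr_cube h3 X hx, h1, of_pr_cube h3 _ hz⟩))
  · rw [← map_mul] at hz
    rcases of_pr_sq h2 _ hz with h1 | h1 | h1
    · exact Or.inl (Nrm_of_mul X Y (Or.inl h1))
    · exact Or.inl (Nrm_of_mul X Y (Or.inr h1))
    · exact Or.inr (Or.inr (Or.inr ⟨of_pr_cube h3 X hx, of_pr_cube h3 Y hy, Or.inl h1⟩))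
  · rw [← map_inv, ← map_mul] at hz
    rcases of_pr_sq h2 _ hz with h1 | h1 | h1
    · exact Or.inl (Nrm_of_mul_inv X Y (Or.inl h1))
    · exact Or.inl (Nrm_of_mul_inv X Y (Or.inr h1))
    · exact Or.inr (Or.inr (Or.inr ⟨of_pr_cube h3 X hx, of_pr_cube h3 Y hy, Or.inr h1⟩))

end forms

end Cfsg.Agent.H9.Sol3
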