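import Mathlib
import Cfsg.Agent.H9.Sol3B

set_option autoImplicit false

/-! Pairs of elements of `PSL₂(3)`. -/

namespace Cfsg.Agent.H9.Sol3

open Matrix Subgroup
open Cfsg.Agent.H9.AutPSL2
open Cfsg.Agent.H9.Solubilizer

universe u

set_option maxRecDepth 100000 in
set_option synthInstance.maxHeartbeats 2000000 in
set_option synthInstance.maxSize 100000 in
theorem f3_decide : ∀ a b c d : ZMod 3, a * d - b * c = 1 → ∀ e f g h : ZMod 3, e * h - f * g = 1 →
    (a + d) ^ 2 = 1 → (e + h) ^ 2 = 1 → a * e + b * g + (c * f + d * h) = -((a + d) * (e + h)) →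
    (e * a + f * c = a * e + b * g ∧ e * b + f * d = a * f + b * h ∧
      g * a + h * c = c * e + d * g ∧ g * b + h * d = c * f + d * h) := by
  decide

theorem f3_cases : ∀ t : ZMod 3, t = 0 ∨ t ^ 2 = 1 := by decide

section general

variable {F : Type u} [Field F]

local notation "SL2" => Matrix.SpecialLinearGroup (Fin 2) F

/-- two trace conditions force `Y` to invert `X` modulo the centre -/
theorem Nrm_of_tr_zero (X Y : SL2) (hy : tr Y = 0) (hz : tr (X * Y) = 0) : Y * X = X⁻¹ * Y := by
  unfold tr at hy hz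
  simp only [mul_00, mul_11] at hz
  apply ext4 <;> simp only [mul_00, mul_01, mul_10, mul_11, inv_00, inv_01, inv_10, inv_11]
  · linear_combination hz - X.1 1 1 * hy
  · linear_combination X.1 0 1 * hy
  · linear_combination X.1 1 0 * hy
  · linear_combination hz - X.1 0 0 * hy

end general

section f3

variable {K : Type u} [Field K] [Fintype K]

local notation "SL2" => Matrix.SpecialLinearGroup (Fin 2) K

theorem comm_F3 (hK : Fintype.card K = 3) (A B : SL2) (hx : tr A ^ 2 = 1) (hy : tr B ^ 2 = 1)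
    (hz : tr (A * B) = -(tr A * tr B)) : B * A = A * B := by
  have φ : ZMod 3 ≃+* K := ZMod.ringEquivOfPrime K Nat.prime_three hK
  obtain ⟨a, ha⟩ := φ.surjective (A.1 0 0)
  obtain ⟨b, hb⟩ := φ.surjective (A.1 0 1)
  obtain ⟨c, hc⟩ := φ.surjective (A.1 1 0)
  obtain ⟨d, hd⟩ := φ.surjective (A.1 1 1)
  obtain ⟨e, he⟩ := φ.surjective (B.1 0 0)
  obtain ⟨f, hf⟩ := φ.surjective (B.1 0 1)
  obtain ⟨g, hg⟩ := φ.surjective (B.1 1 0)
  obtain ⟨h, hh⟩ := φ.surjective (B.1 1 1)
  have hdA := det_eq A
  have hdB := det_eq B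
  unfold tr at hx hy hz
  simp only [mul_00, mul_11] at hz
  rw [← ha, ← hb, ← hc, ← hd] at hdA
  rw [← he, ← hf, ← hg, ← hh] at hdB
  rw [← ha, ← hd] at hx
  rw [← he, ← hh] at hy
  rw [← ha, ← hb, ← hc, ← hd, ← he, ← hf, ← hg, ← hh] at hz
  have h1 : a * d - b * c = 1 := by
    apply φ.injective
    rw [map_sub, map_mul, map_mul, map_one]; exact hdA
  have h2 : e * h - f * g = 1 := by
    apply φ.injective
    rw [map_sub, map_mul, map_mul, map_one]; exact hdB
  have h3 : (a + d) ^ 2 = 1 := by
    apply φ.injective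
    rw [map_pow, map_add, map_one]; exact hx
  have h4 : (e + h) ^ 2 = 1 := by
    apply φ.injective
    rw [map_pow, map_add, map_one]; exact hy
  have h5 : a * e + b * g + (c * f + d * h) = -((a + d) * (e + h)) := by
    apply φ.injective
    simp only [map_add, map_mul, map_neg]
    exact hz
  obtain ⟨e00, e01, e10, e11⟩ := f3_decide a b c d h1 e f g h h2 h3 h4 h5
  apply ext4 <;> simp only [mul_00, mul_01, mul_10, mul_11]
  · have := congrArg φ e00
    simp only [map_add, map_mul] at this
    rw [ha, hb, hc, he, hf, hg] at this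
    exact this
  · have := congrArg φ e01
    simp only [map_add, map_mul] at this
    rw [ha, hb, hd, he, hf, hh] at this
    exact this
  · have := congrArg φ e10
    simp only [map_add, map_mul] at this
    rw [ha, hc, hd, he, hg, hh] at this
    exact this
  · have := congrArg φ e11
    simp only [map_add, map_mul] at this
    rw [hb, hc, hd, hf, hg, hh] at this
    exact this

theorem cases_F3 (hK : Fintype.card K = 3) (t : K) : t = 0 ∨ t ^ 2 = 1 := by
  have φ : ZMod 3 ≃+* K := ZMod.ringEquivOfPrime K Nat.prime_three hK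
  obtain ⟨a, rfl⟩ := φ.surjective t
  rcases f3_cases a with h | h
  · left; rw [h, map_zero]
  · right; rw [← map_pow, h, map_one]

/-- pairs of elements of `SL₂(3)` -/
theorem pairs_F3 (hK : Fintype.card K = 3) (A B : SL2) : Nrm A B ∨ Inv A B ∨ TM A B := by
  rcases cases_F3 hK (tr A) with hx | hx
  · rcases cases_F3 hK (tr B) with hy | hy
    · exact Or.inr (Or.inl ⟨hx, Or.inl hy⟩)
    · rcases cases_F3 hK (tr (A * B)) with hz | hz
      · exact Or.inr (Or.inl ⟨hx, Or.inr hz⟩)
      · exact Or.inr (Or.inr (Or.inl ⟨hx, hy, hz⟩))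
  · rcases cases_F3 hK (tr B) with hy | hy
    · rcases cases_F3 hK (tr (A * B)) with hz | hz
      · exact Or.inl (Or.inr (Or.inr (Or.inl (Nrm_of_tr_zero A B hy hz))))
      · exact Or.inr (Or.inr (Or.inr (Or.inl ⟨hx, hy, hz⟩)))
    · rcases cases_F3 hK (tr (A * B)) with hz | hz
      · exact Or.inr (Or.inr (Or.inr (Or.inr ⟨hx, hy, Or.inl hz⟩)))
      · by_cases hw : tr (A * B⁻¹) = 0
        · exact Or.inr (Or.inr (Or.inr (Or.inr ⟨hx, hy, Or.inr hw⟩)))
        · left; left
          apply comm_F3 hK A B hx hy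
          rw [tr_mul_inv] at hw
          have h1 : (tr (A * B) - tr A * tr B) * (tr (A * B) + tr A * tr B) = 0 := by
            linear_combination hz - (tr A) ^ 2 * hy - hx
          rcases mul_eq_zero.1 h1 with h2 | h2
          · exfalso
            apply hw
            linear_combination -h2
          · linear_combination h2

/-- pairs of elements of `PSL₂(3)` -/
theorem pairs_PSL_F3 (hK : Fintype.card K = 3)
    (a b : Matrix.ProjectiveSpecialLinearGroup (Fin 2) K) : Cond a b ∨ T a b := by
  obtain ⟨A, rfl⟩ := pr_surjective a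
  obtain ⟨B, rfl⟩ := pr_surjective b
  rcases pairs_F3 hK A B with h | h | h
  · exact Or.inl (cond_of_Nrm A B h)
  · exact Or.inl (cond_of_Inv A B h)
  · exact Or.inr (T_of_TM A B h)

end f3

end Cfsg.Agent.H9.Sol3
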