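import Mathlib
import Cfsg.Agent.H9.Sol3C
import Cfsg.Agent.H9.QCases2
import Cfsg.Agent.H9.DicksonMain

set_option autoImplicit false

/-! Pairs of elements of `PSL₂(3^p)` generating a proper subgroup. -/

namespace Cfsg.Agent.H9.Sol3

open Matrix Subgroup
open Cfsg.Agent.H9.AutPSL2
open Cfsg.Agent.H9.Solubilizer
open Cfsg.Agent.H9.PSL2Borel
open Cfsg.Agent.H9.PSL2MaxEven

universe u

section transport

variable {G H : Type*} [Group G] [Group H]

theorem Cond_map (f : G →* H) (a b : G) (h : Cond a b) : Cond (f a) (f b) := by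
  rcases h with (h | h) | ⟨h1, h | h⟩
  · left; left
    rw [← map_inv, ← map_mul, ← map_mul, h]
  · left; right
    rw [← map_inv, ← map_mul, ← map_mul, ← map_inv, h]
  · right
    refine ⟨?_, Or.inl ?_⟩
    · rw [← map_mul, h1, map_one]
    · rw [← map_mul, h, map_one]
  · right
    refine ⟨?_, Or.inr ?_⟩
    · rw [← map_mul, h1, map_one]
    · rw [← map_mul, ← map_mul, h, map_one]

theorem T_map (f : G →* H) (a b : G) (h : T a b) : T (f a) (f b) := by
  rcases h with ⟨h1, h2, h3⟩ | ⟨h1, h2, h3⟩ | ⟨h1, h2, h3 | h3⟩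
  · left
    refine ⟨?_, ?_, ?_⟩
    · rw [← map_pow, h1, map_one]
    · rw [← map_pow, h2, map_one]
    · rw [← map_mul, ← map_pow, h3, map_one]
  · right; left
    refine ⟨?_, ?_, ?_⟩
    · rw [← map_pow, h1, map_one]
    · rw [← map_pow, h2, map_one]
    · rw [← map_mul, ← map_pow, h3, map_one]
  · right; right
    refine ⟨?_, ?_, Or.inl ?_⟩
    · rw [← map_pow, h1, map_one]
    · rw [← map_pow, h2, map_one]
    · rw [← map_mul, ← map_pow, h3, map_one]
  · right; right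
    refine ⟨?_, ?_, Or.inr ?_⟩
    · rw [← map_pow, h1, map_one]
    · rw [← map_pow, h2, map_one]
    · rw [← map_inv, ← map_mul, ← map_pow, h3, map_one]

theorem Cond_of_equiv (e : G ≃* H) (a b : G) (h : Cond (e a) (e b)) : Cond a b := by
  have := Cond_map e.symm.toMonoidHom _ _ h
  simpa using this

theorem T_of_equiv (e : G ≃* H) (a b : G) (h : T (e a) (e b)) : T a b := by
  have := T_map e.symm.toMonoidHom _ _ h
  simpa using this

end transport

section arith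

theorem card_eq_three (p : ℕ) (hp : p.Prime) (n r : ℕ) (hr : r.Prime) (h : n ^ r = 3 ^ p) :
    n = 3 := by
  have hdiv : n ∣ 3 ^ p := by
    rw [← h]; exact dvd_pow_self n hr.pos.ne'
  obtain ⟨m, -, rfl⟩ := (Nat.dvd_prime_pow Nat.prime_three).1 hdiv
  rw [← pow_mul] at h
  have hmr : m * r = p := Nat.pow_right_injective (by norm_num : 2 ≤ 3) h
  have hrp : r = p := by
    rcases (Nat.dvd_prime hp).1 (Dvd.intro_left m hmr) with h1 | h1
    · exact absurd h1 hr.one_lt.ne'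
    · exact h1
  rw [hrp] at hmr
  have : m = 1 := by
    have : m * p = 1 * p := by rw [one_mul]; exact hmr
    exact Nat.eq_of_mul_eq_mul_right hp.pos this
  rw [this, pow_one]

theorem not_sq (p : ℕ) (hodd : Odd p) (n : ℕ) (h : n ^ 2 = 3 ^ p) : False := by
  have hdiv : n ∣ 3 ^ p := by
    rw [← h]; exact dvd_pow_self n two_ne_zero
  obtain ⟨m, -, rfl⟩ := (Nat.dvd_prime_pow Nat.prime_three).1 hdiv
  rw [← pow_mul] at h
  have hmr : m * 2 = p := Nat.pow_right_injective (by norm_num : 2 ≤ 3) h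
  obtain ⟨k, hk⟩ := hodd
  omega

theorem three_le (p : ℕ) (hp : p.Prime) (hodd : Odd p) : 3 ≤ p := by
  have := hp.two_le
  obtain ⟨k, hk⟩ := hodd
  omega

theorem pow_ge (p : ℕ) (hp : p.Prime) (hodd : Odd p) : 27 ≤ 3 ^ p := by
  calc 27 = 3 ^ 3 := by norm_num
    _ ≤ 3 ^ p := Nat.pow_le_pow_right (by norm_num) (three_le p hp hodd)

end arith

section classify

variable {F : Type u} [Field F] [Fintype F]

local notation "SL2" => Matrix.SpecialLinearGroup (Fin 2) F
local notation "PSL2" => Matrix.ProjectiveSpecialLinearGroup (Fin 2) F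

theorem charP_three (p : ℕ) (hp : p.Prime) (hq : Fintype.card F = 3 ^ p) : CharP F 3 := by
  obtain ⟨p', hp'⟩ := CharP.exists F
  haveI := hp'
  haveI : Fact p'.Prime := ⟨CharP.char_is_prime F p'⟩
  obtain ⟨f, -, hf⟩ := FiniteField.card F p'
  have hp3 : p' = 3 := by
    have h3 : 3 ∣ p' ^ (f : ℕ) := by
      rw [← hf, hq]; exact dvd_pow_self 3 hp.pos.ne'
    have := Nat.Prime.dvd_of_dvd_pow Nat.prime_three h3
    exact ((Nat.prime_dvd_prime_iff_eq Nat.prime_three (CharP.char_is_prime F p')).1 this).symm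
  subst hp3
  exact hp'

theorem pair_classify3 (p : ℕ) (hp : p.Prime) (hodd : Odd p) (hq : Fintype.card F = 3 ^ p)
    (x y : PSL2) (hne : closure ({x, y} : Set PSL2) ≠ ⊤) :
    (∃ g : PSL2, x ∈ BorC g ∧ y ∈ BorC g) ∨ Cond x y ∨ T x y := by
  classical
  haveI : Fact (Nat.Prime 3) := ⟨Nat.prime_three⟩
  haveI : CharP F 3 := charP_three p hp hq
  have h27 := pow_ge p hp hodd
  have h5 : 5 ≤ Fintype.card F := by rw [hq]; omega
  have hq4 : 4 ≤ Fintype.card F := by omega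
  have hoddq : Odd (Fintype.card F) := by
    rw [hq]; exact Odd.pow (by decide)
  have hsimple := Cfsg.Agent.H9.PSL2MinSimple.isSimple (F := F) hq4
  obtain ⟨M, hM, hle⟩ := exists_coatom_ge _ hne
  have hxM : x ∈ M := hle (subset_closure (by simp))
  have hyM : y ∈ M := hle (subset_closure (by simp))
  have hnab : ∃ a b : M, a * b ≠ b * a := by
    by_contra hcon
    push Not at hcon
    apply Cfsg.Agent.H9.PSL2MaxGen.no_abelian_maximal Cfsg.Agent.H9.PSL2MaxGen.hna M hM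
    intro a ha b hb
    exact congrArg Subtype.val (hcon ⟨a, ha⟩ ⟨b, hb⟩)
  have hdih : ∀ k : ℕ, (M ≃* DihedralGroup k) → Cond x y := by
    intro k e
    have := pair_of_equiv e ⟨x, hxM⟩ ⟨y, hyM⟩ (dihedral_pair k _ _)
    exact Cond_map M.subtype _ _ this
  have hsub : ∀ (F₀ : Type) [Field F₀] [Fintype F₀] (r : ℕ), r.Prime →
      Fintype.card F₀ ^ r = Fintype.card F →
      (M ≃* Matrix.ProjectiveSpecialLinearGroup (Fin 2) F₀) → Cond x y ∨ T x y := by
    intro F₀ _ _ r hr hcard e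
    rw [hq] at hcard
    have h3 := card_eq_three p hp _ r hr hcard
    rcases pairs_PSL_F3 h3 (e ⟨x, hxM⟩) (e ⟨y, hyM⟩) with h | h
    · left
      exact Cond_map M.subtype _ _ (Cond_of_equiv e _ _ h)
    · right
      exact T_map M.subtype _ _ (T_of_equiv e _ _ h)
  have hq3 : Fintype.card F ≠ 3 := by omega
  have hD := Cfsg.Agent.H9.DicksonUN.dickson (Fintype.card F) 3 rfl M
  rcases hD with ⟨k, hk, ⟨hc, hck⟩ | ⟨⟨e⟩⟩⟩ | ⟨P, K', hK', ⟨e⟩⟩ | ⟨⟨e⟩⟩ | ⟨⟨e⟩⟩ | ⟨⟨e⟩⟩ |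
    ⟨K', i1, i2, m, hm, ⟨⟨e⟩⟩ | ⟨⟨e⟩⟩⟩
  · -- cyclic
    exfalso
    obtain ⟨a, b, hab⟩ := hnab
    exact Cfsg.Agent.H9.DicksonMax.no_cyclic a b hab (MonoidHom.id M) Function.injective_id
  · -- dihedral
    exact Or.inr (Or.inl (hdih k e))
  · -- Borel
    left
    obtain ⟨g, hg⟩ := borel_type' 3 hq4 M hM P K' hK' e
    exact ⟨g, hg ▸ hxM, hg ▸ hyM⟩
  · -- A4
    right
    rcases Cfsg.Agent.H9.QCases.a4_case hoddq h5 3 M hM e with ⟨hq', -, -⟩ |
      ⟨F₀, i1, i2, r, hr, -, hcard, ⟨e'⟩⟩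
    · exact absurd hq' hq3
    · exact hsub F₀ r hr hcard.symm e'
  · -- S4
    exfalso
    rcases Cfsg.Agent.H9.QCases.s4_case hoddq h5 3 M hM e with ⟨hq', -⟩ |
      ⟨F₀, i1, i2, hcard, -⟩
    · exact absurd hq' hq3
    · rw [hq] at hcard
      exact not_sq p hodd _ hcard.symm
  · -- A5
    right
    rcases Cfsg.Agent.H9.QCases.a5_case hoddq h5 3 M hM e with ⟨-, hq' | ⟨hq', -⟩⟩ |
      ⟨F₀, i1, i2, r, hr, -, hcard, ⟨e'⟩⟩
    · exact absurd hq' hq3
    · exfalso
      rw [hq] at hq'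
      exact not_sq p hodd 3 hq'.symm
    · exact hsub F₀ r hr hcard.symm e'
  · -- PSL2(K')
    right
    obtain ⟨hmp, -⟩ := Cfsg.Agent.H9.QCases.psl_case hoddq h5 3 M hM K' m hm e
    exact hsub K' m hmp hm e
  · -- PGL2(K')
    exfalso
    have hm2 := Cfsg.Agent.H9.QCases.pgl_case hoddq h5 3 M hM K' m hm e
    subst hm2
    rw [hq] at hm
    exact not_sq p hodd _ hm

end classify

end Cfsg.Agent.H9.Sol3
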