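import Mathlib
import Cfsg.Agent.H9.Sol3D

set_option autoImplicit false

/-! The solvability criterion for pairs in `PSL₂(3^p)` in matrix form. -/

namespace Cfsg.Agent.H9.Sol3

open Matrix Subgroup
open Cfsg.Agent.H9.AutPSL2
open Cfsg.Agent.H9.Solubilizer
open Cfsg.Agent.H9.PSL2Borel
open Cfsg.Agent.H9.PSL2MaxEven

universe u

section criterion

variable {F : Type u} [Field F] [Fintype F]

local notation "SL2" => Matrix.SpecialLinearGroup (Fin 2) F
local notation "PSL2" => Matrix.ProjectiveSpecialLinearGroup (Fin 2) F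

/-- a common fixed point on the projective line -/
def Red (X Y : SL2) : Prop := ∃ g : SL2, (g⁻¹ * X * g).1 1 0 = 0 ∧ (g⁻¹ * Y * g).1 1 0 = 0

/-- the solvability predicate on `SL₂` -/
def Solv (X Y : SL2) : Prop := Group.IsSolvable (closure ({pr X, pr Y} : Set PSL2))

theorem three_eq_zero (p : ℕ) (hp : p.Prime) (hq : Fintype.card F = 3 ^ p) : (3 : F) = 0 := by
  haveI := charP_three p hp hq
  have : ((3 : ℕ) : F) = 0 := CharP.cast_eq_zero _ 3
  exact_mod_cast this

omit [Fintype F] in
theorem mem_BorC_pr (g Z : SL2) : (pr Z : PSL2) ∈ BorC (pr g) ↔ (g⁻¹ * Z * g).1 1 0 = 0 := by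
  rw [mem_BorC, ← map_inv, ← map_mul, ← map_mul]
  constructor
  · rintro ⟨m, hm, hpm⟩
    rw [pr_eq_iff] at hpm
    rcases hpm with h | h
    · rw [← h]; exact hm
    · have : g⁻¹ * Z * g = -m := by rw [h, neg_neg]
      rw [this, neg_10, hm, neg_zero]
  · intro h
    exact ⟨_, h, rfl⟩

theorem solv_iff (p : ℕ) (hp : p.Prime) (hodd : Odd p) (hq : Fintype.card F = 3 ^ p)
    (X Y : SL2) : Solv X Y ↔ (Red X Y ∨ Nrm X Y ∨ Inv X Y ∨ TM X Y) := by
  have h3 := three_eq_zero p hp hq
  have h2 := two_ne_zero3 h3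
  have h27 := pow_ge p hp hodd
  have hq4 : 4 ≤ Fintype.card F := by rw [hq]; omega
  constructor
  · intro hs
    have hne : closure ({pr X, pr Y} : Set PSL2) ≠ ⊤ := by
      intro htop
      apply Cfsg.Agent.H9.PSL2MinSimple.not_solvable (F := F) hq4
      unfold Solv at hs
      rw [htop] at hs
      exact Group.isSolvable_of_surjective (f := (Subgroup.topEquiv (G := PSL2)).toMonoidHom)
        (Subgroup.topEquiv (G := PSL2)).surjective
    rcases pair_classify3 p hp hodd hq (pr X) (pr Y) hne with ⟨g, hx, hy⟩ | h | h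
    · left
      obtain ⟨g0, rfl⟩ := pr_surjective g
      exact ⟨g0, (mem_BorC_pr g0 X).1 hx, (mem_BorC_pr g0 Y).1 hy⟩
    · rcases of_Cond h2 X Y h with h' | h'
      · exact Or.inr (Or.inl h')
      · exact Or.inr (Or.inr (Or.inl h'))
    · rcases of_T h3 X Y h with h' | h'
      · exact Or.inr (Or.inl h')
      · exact Or.inr (Or.inr (Or.inr h'))
  · rintro (⟨g, hx, hy⟩ | h | h | h)
    · have hle : closure ({pr X, pr Y} : Set PSL2) ≤ BorC (pr g) := by
        rw [closure_le]
        rintro z (rfl | hz)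
        · exact (mem_BorC_pr g X).2 hx
        · rw [Set.mem_singleton_iff] at hz
          subst hz
          exact (mem_BorC_pr g Y).2 hy
      have := isSolvable_BorC (pr g : PSL2)
      exact Group.isSolvable_of_isSolvable_injective (f := Subgroup.inclusion hle)
        (Subgroup.inclusion_injective hle)
    · exact solvable_of_Cond _ _ (cond_of_Nrm X Y h)
    · exact solvable_of_Cond _ _ (cond_of_Inv X Y h)
    · exact solvable_of_T _ _ (T_of_TM X Y h)

/-- the kernel of the projection has two elements -/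
theorem card_ker_pr (h2 : (2 : F) ≠ 0) : Nat.card (pr : SL2 →* PSL2).ker = 2 := by
  have hker : (pr : SL2 →* PSL2).ker = Subgroup.center SL2 := by
    unfold pr
    exact QuotientGroup.ker_mk' _
  rw [hker]
  have hne : (-1 : SL2) ≠ 1 := Cfsg.Agent.S2431.negOne_ne_one h2
  have hset : ((Subgroup.center SL2 : Subgroup SL2) : Set SL2) = {1, -1} := by
    ext z
    rw [SetLike.mem_coe, mem_center_iff']
    simp
  have e : Nat.card (Subgroup.center SL2) =
      Nat.card ((Subgroup.center SL2 : Subgroup SL2) : Set SL2) := rfl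
  rw [e, hset, Nat.card_coe_set_eq, Set.ncard_pair hne.symm]

/-- solubilizers in `PSL₂` and `SL₂` -/
theorem card_solv_lift (h2 : (2 : F) ≠ 0) (X : SL2) :
    Nat.card {Y : SL2 // Solv X Y} =
      2 * Nat.card {y : PSL2 // Group.IsSolvable (closure ({pr X, y} : Set PSL2))} := by
  have := Cfsg.Agent.H9.KleinGeneral.card_preimage (pr : SL2 →* PSL2) pr_surjective
    {y : PSL2 | Group.IsSolvable (closure ({pr X, y} : Set PSL2))}
  rw [card_ker_pr h2, mul_comm] at this
  exact this

end criterion

end Cfsg.Agent.H9.Sol3
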