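import Mathlib
import Cfsg.Agent.H9.Solubilizer2

set_option autoImplicit false

/-! Solubilizers in `SL₂(2^p)`: the three matrix descriptions. -/

namespace Cfsg.Agent.H9.Solubilizer

open Matrix Subgroup
open Cfsg.Agent.H9.AutPSL2
open Cfsg.Agent.H9.DicksonUN
open Cfsg.Agent.H9.PSL2Borel
open Cfsg.Agent.H9.PSL2MaxEven

universe u

section char2

variable {F : Type u} [Field F]

local notation "SL2" => Matrix.SpecialLinearGroup (Fin 2) F

theorem neg_eq' (h2 : (2 : F) = 0) (a : F) : -a = a := by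
  linear_combination (-a) * h2

/-- in characteristic two an element of order at most two has trace zero -/
theorem trace_zero_of_sq (h2 : (2 : F) = 0) (Z : SL2) (h : Z * Z = 1) :
    Z.1 0 0 + Z.1 1 1 = 0 := by
  have e00 := congrArg (fun g : SL2 => g.1 0 0) h
  have e01 := congrArg (fun g : SL2 => g.1 0 1) h
  have e10 := congrArg (fun g : SL2 => g.1 1 0) h
  simp only [mul_00, mul_01, mul_10, Matrix.SpecialLinearGroup.coe_one, Matrix.one_apply_eq,
    ne_eq, zero_ne_one, one_ne_zero, not_false_eq_true, Matrix.one_apply_ne] at e00 e01 e10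
  have hd := det_eq Z
  by_contra ht
  have h01 : Z.1 0 1 = 0 := by
    have : Z.1 0 1 * (Z.1 0 0 + Z.1 1 1) = 0 := by linear_combination e01
    rcases mul_eq_zero.1 this with h' | h'
    · exact h'
    · exact absurd h' ht
  apply ht
  rw [h01] at e00 hd
  have h1 : (Z.1 0 0 - 1) ^ 2 = 0 := by linear_combination e00 + (1 - Z.1 0 0) * h2
  have h00 : Z.1 0 0 = 1 := by
    have := pow_eq_zero_iff (two_ne_zero) |>.1 h1
    linear_combination this
  have h11 : Z.1 1 1 = 1 := by rw [h00] at hd; linear_combination hd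
  rw [h00, h11]
  linear_combination h2

/-- in characteristic two an element of trace zero has order at most two -/
theorem sq_of_trace_zero (h2 : (2 : F) = 0) (Z : SL2) (h : Z.1 0 0 + Z.1 1 1 = 0) :
    Z * Z = 1 := by
  have hd := det_eq Z
  have h11 : Z.1 1 1 = Z.1 0 0 := by linear_combination h - Z.1 0 0 * h2
  apply ext4 <;> simp only [mul_00, mul_01, mul_10, mul_11, Matrix.SpecialLinearGroup.coe_one,
    Matrix.one_apply_eq, ne_eq, zero_ne_one, one_ne_zero, not_false_eq_true,
    Matrix.one_apply_ne, h11]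
  · rw [h11] at hd
    linear_combination hd + Z.1 0 1 * Z.1 1 0 * h2
  · linear_combination Z.1 0 0 * Z.1 0 1 * h2
  · linear_combination Z.1 0 0 * Z.1 1 0 * h2
  · rw [h11] at hd
    linear_combination hd + Z.1 0 1 * Z.1 1 0 * h2

/-- conjugates of upper triangular matrices by upper triangular matrices -/
theorem UT_of_conj_UT (g Y : SL2) (hg : g.1 1 0 = 0) (h : (g⁻¹ * Y * g).1 1 0 = 0) :
    Y.1 1 0 = 0 := by
  have hgU : g ∈ (UTs : Subgroup SL2) := hg
  have hU : g⁻¹ * Y * g ∈ (UTs : Subgroup SL2) := h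
  have e : Y = g * (g⁻¹ * Y * g) * g⁻¹ := by group
  have : Y ∈ (UTs : Subgroup SL2) := by
    rw [e]; exact mul_mem (mul_mem hgU hU) (inv_mem hgU)
  exact this

end char2

section sets

variable {F : Type u} [Field F] [Fintype F]

local notation "SL2" => Matrix.SpecialLinearGroup (Fin 2) F

/-- matrices with non-zero lower-left entry and `Y₁₁ = Y₀₀ + s Y₁₀` -/
def T (s : F) : Set SL2 := {Y | Y.1 1 0 ≠ 0 ∧ Y.1 1 1 = Y.1 0 0 + s * Y.1 1 0}

/-- parametrization of `T s` -/
def phi (s : F) (x : Fˣ × F) : SL2 :=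
  ⟨!![x.2, (x.2 * (x.2 + s * (x.1 : F)) - 1) * ((x.1⁻¹ : Fˣ) : F); (x.1 : F),
    x.2 + s * (x.1 : F)], by
    rw [Matrix.det_fin_two_of]
    have h1 : ((x.1⁻¹ : Fˣ) : F) * (x.1 : F) = 1 := by simp
    linear_combination (-(x.2 * (x.2 + s * (x.1 : F)) - 1)) * h1⟩

omit [Fintype F] in
theorem phi_injective (s : F) : Function.Injective (phi s) := by
  rintro ⟨a, b⟩ ⟨a', b'⟩ h
  have e10 := congrArg (fun g : SL2 => g.1 1 0) h
  have e00 := congrArg (fun g : SL2 => g.1 0 0) h
  simp only [phi, Matrix.of_apply, Matrix.cons_val', Matrix.cons_val_zero, Matrix.cons_val_one,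
    Matrix.empty_val', Matrix.cons_val_fin_one] at e10 e00
  exact Prod.ext (Units.ext e10) e00

omit [Fintype F] in
theorem range_phi (s : F) : Set.range (phi s) = T s := by
  ext Y
  constructor
  · rintro ⟨⟨a, b⟩, rfl⟩
    refine ⟨?_, ?_⟩
    · show (a : F) ≠ 0
      exact a.ne_zero
    · show b + s * (a : F) = b + s * (a : F)
      rfl
  · rintro ⟨h10, h11⟩
    refine ⟨⟨Units.mk0 _ h10, Y.1 0 0⟩, ?_⟩
    have hd := det_eq Y
    apply ext4
    · rfl
    · show (Y.1 0 0 * (Y.1 0 0 + s * Y.1 1 0) - 1) * (Y.1 1 0)⁻¹ = Y.1 0 1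
      rw [← h11]
      field_simp
      linear_combination hd
    · rfl
    · show Y.1 0 0 + s * Y.1 1 0 = Y.1 1 1
      exact h11.symm

theorem ncard_T (s : F) : (T s).ncard = (Fintype.card F - 1) * Fintype.card F := by
  rw [← range_phi, ← Set.image_univ, Set.ncard_image_of_injective _ (phi_injective s),
    Set.ncard_univ, Nat.card_prod, Nat.card_units, Nat.card_eq_fintype_card]

theorem ncard_UTs :
    ((UTs : Subgroup SL2) : Set SL2).ncard = Fintype.card F * (Fintype.card F - 1) := by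
  rw [← card_UTs]
  exact (Nat.card_coe_set_eq _).symm

/-- lower triangular, not diagonal -/
def Lo : Set SL2 := {Y | Y.1 1 0 ≠ 0 ∧ Y.1 0 1 = 0}

def philo (x : Fˣ × Fˣ) : SL2 :=
  ⟨!![(x.1 : F), 0; (x.2 : F), ((x.1⁻¹ : Fˣ) : F)], by
    rw [Matrix.det_fin_two_of]; simp⟩

omit [Fintype F] in
theorem philo_injective : Function.Injective (philo (F := F)) := by
  rintro ⟨a, b⟩ ⟨a', b'⟩ h
  have e10 := congrArg (fun g : SL2 => g.1 1 0) h
  have e00 := congrArg (fun g : SL2 => g.1 0 0) h
  simp only [philo, Matrix.of_apply, Matrix.cons_val', Matrix.cons_val_zero, Matrix.cons_val_one,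
    Matrix.empty_val', Matrix.cons_val_fin_one] at e10 e00
  exact Prod.ext (Units.ext e00) (Units.ext e10)

omit [Fintype F] in
theorem range_philo : Set.range (philo (F := F)) = Lo := by
  ext Y
  constructor
  · rintro ⟨⟨a, b⟩, rfl⟩
    refine ⟨?_, rfl⟩
    show (b : F) ≠ 0
    exact b.ne_zero
  · rintro ⟨h10, h01⟩
    have hd := det_eq Y
    rw [h01, zero_mul, sub_zero] at hd
    have h00 : Y.1 0 0 ≠ 0 := by
      intro h; rw [h, zero_mul] at hd; exact zero_ne_one hd
    refine ⟨⟨Units.mk0 _ h00, Units.mk0 _ h10⟩, ?_⟩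
    apply ext4
    · rfl
    · exact h01.symm
    · rfl
    · show ((Units.mk0 (Y.1 0 0) h00)⁻¹ : Fˣ).1 = Y.1 1 1
      rw [Units.val_inv_eq_inv_val, Units.val_mk0]
      field_simp
      linear_combination -hd

theorem ncard_Lo : (Lo : Set SL2).ncard = (Fintype.card F - 1) * (Fintype.card F - 1) := by
  rw [← range_philo, ← Set.image_univ, Set.ncard_image_of_injective _ philo_injective,
    Set.ncard_univ, Nat.card_prod, Nat.card_units, Nat.card_eq_fintype_card]

/-- antidiagonal -/
def An : Set SL2 := {Y | Y.1 0 0 = 0 ∧ Y.1 1 1 = 0}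

def phian (b : Fˣ) : SL2 :=
  ⟨!![0, (b : F); -((b⁻¹ : Fˣ) : F), 0], by
    rw [Matrix.det_fin_two_of]; simp⟩

omit [Fintype F] in
theorem phian_injective : Function.Injective (phian (F := F)) := by
  intro a a' h
  have e01 := congrArg (fun g : SL2 => g.1 0 1) h
  simp only [phian, Matrix.of_apply, Matrix.cons_val', Matrix.cons_val_zero, Matrix.cons_val_one,
    Matrix.empty_val', Matrix.cons_val_fin_one] at e01
  exact Units.ext e01

omit [Fintype F] in
theorem range_phian : Set.range (phian (F := F)) = An := by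
  ext Y
  constructor
  · rintro ⟨b, rfl⟩
    exact ⟨rfl, rfl⟩
  · rintro ⟨h00, h11⟩
    have hd := det_eq Y
    rw [h00, zero_mul, zero_sub] at hd
    have h01 : Y.1 0 1 ≠ 0 := by
      intro h; rw [h, zero_mul, neg_zero] at hd; exact zero_ne_one hd
    refine ⟨Units.mk0 _ h01, ?_⟩
    apply ext4
    · exact h00.symm
    · rfl
    · show -((Units.mk0 (Y.1 0 1) h01)⁻¹ : Fˣ).1 = Y.1 1 0
      rw [Units.val_inv_eq_inv_val, Units.val_mk0]
      field_simp
      linear_combination hd
    · exact h11.symm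

theorem ncard_An : (An : Set SL2).ncard = Fintype.card F - 1 := by
  rw [← range_phian, ← Set.image_univ, Set.ncard_image_of_injective _ phian_injective,
    Set.ncard_univ, Nat.card_units, Nat.card_eq_fintype_card]

end sets

end Cfsg.Agent.H9.Solubilizer
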