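import Mathlib
import Cfsg.Agent.H9.Solubilizer3
import Cfsg.Agent.H9.PSL2Tori

set_option autoImplicit false

/-! Solubilizers in `SL₂(2^p)`: the three counts. -/

namespace Cfsg.Agent.H9.Solubilizer

open Matrix Subgroup
open Cfsg.Agent.H9.AutPSL2
open Cfsg.Agent.H9.DicksonUN
open Cfsg.Agent.H9.PSL2Borel
open Cfsg.Agent.H9.PSL2MaxEven
open Cfsg.Agent.H9.PSL2Tori
open Cfsg.Agent.H9.DicksonSS

universe u

section counts

variable {F : Type u} [Field F] [Fintype F]

local notation "SL2" => Matrix.SpecialLinearGroup (Fin 2) F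

/-- the solubilizer of a transvection -/
theorem sol_u (h2 : (2 : F) = 0) (p : ℕ) (hp : p.Prime) (hq : Fintype.card F = 2 ^ p)
    {c : F} (hc : c ≠ 0) (Y : SL2) :
    Group.IsSolvable (closure ({u c, Y} : Set SL2)) ↔
      (Y.1 1 0 = 0 ∨ Y ∈ T (0 : F) ∨ Y ∈ T c) := by
  have huu : u c * u c = 1 := by
    rw [← u_add]
    have : c + c = 0 := by linear_combination c * h2
    rw [this, u_zero]
  have key : ∀ s : F, Y.1 1 0 ≠ 0 → (Y ∈ T s ↔ Y.1 0 0 + Y.1 1 1 + s * Y.1 1 0 = 0) := by
    intro s h10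
    constructor
    · rintro ⟨-, h11⟩
      rw [h11]
      linear_combination (Y.1 0 0 + s * Y.1 1 0) * h2
    · intro h
      refine ⟨h10, ?_⟩
      linear_combination h - (Y.1 0 0 + s * Y.1 1 0) * h2
  have htr : (u c * Y).1 0 0 + (u c * Y).1 1 1 = Y.1 0 0 + Y.1 1 1 + c * Y.1 1 0 := by
    simp only [mul_00, mul_11, u_00, u_01, u_10, u_11]; ring
  rw [solvable_iff h2 p hp hq]
  constructor
  · rintro (⟨g, hX, hY⟩ | (h | h) | ⟨-, h | h⟩)
    · left
      have h1 := conj_u_10 g⁻¹ c
      rw [inv_inv, hX] at h1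
      have hg : g.1 1 0 = 0 := by
        have h3 : (g⁻¹).1 1 0 ^ 2 * c = 0 := by linear_combination h1
        rcases mul_eq_zero.1 h3 with h4 | h4
        · have := pow_eq_zero_iff (two_ne_zero) |>.1 h4
          rw [inv_10] at this
          linear_combination -this
        · exact absurd h4 hc
      exact UT_of_conj_UT g Y hg hY
    · left
      have : Y * u c = u c * Y := by
        calc Y * u c = (Y * u c * Y⁻¹) * Y := by group
          _ = u c * Y := by rw [h]
      exact ((commute_u_iff hc Y).1 this).1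
    · left
      rw [u_inv, neg_eq' h2] at h
      have : Y * u c = u c * Y := by
        calc Y * u c = (Y * u c * Y⁻¹) * Y := by group
          _ = u c * Y := by rw [h]
      exact ((commute_u_iff hc Y).1 this).1
    · by_cases h10 : Y.1 1 0 = 0
      · exact Or.inl h10
      · right; left
        rw [key 0 h10, zero_mul, add_zero]
        exact trace_zero_of_sq h2 Y h
    · by_cases h10 : Y.1 1 0 = 0
      · exact Or.inl h10
      · right; right
        rw [key c h10, ← htr]
        exact trace_zero_of_sq h2 _ h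
  · rintro (h | h | h)
    · left
      refine ⟨1, ?_, ?_⟩
      · simp
      · simpa using h
    · right; right
      refine ⟨huu, Or.inl ?_⟩
      have h10 := h.1
      rw [key 0 h10, zero_mul, add_zero] at h
      exact sq_of_trace_zero h2 Y h
    · right; right
      refine ⟨huu, Or.inr ?_⟩
      have h10 := h.1
      rw [key c h10, ← htr] at h
      exact sq_of_trace_zero h2 _ h

theorem card_sol_u (h2 : (2 : F) = 0) (p : ℕ) (hp : p.Prime) (hq : Fintype.card F = 2 ^ p)
    {c : F} (hc : c ≠ 0) :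
    Nat.card {Y : SL2 // Group.IsSolvable (closure ({u c, Y} : Set SL2))} =
      3 * 2 ^ p * (2 ^ p - 1) := by
  classical
  have hset : {Y : SL2 | Group.IsSolvable (closure ({u c, Y} : Set SL2))} =
      ((UTs : Subgroup SL2) : Set SL2) ∪ T (0 : F) ∪ T c := by
    ext Y
    rw [Set.mem_ofPred_eq, sol_u h2 p hp hq hc, Set.mem_union, Set.mem_union, or_assoc]
    rfl
  have hd1 : Disjoint (((UTs : Subgroup SL2) : Set SL2) ∪ T (0 : F)) (T c) := by
    rw [Set.disjoint_left]
    rintro Y (hY | hY) hY'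
    · exact hY'.1 hY
    · have h1 := hY.2
      have h2' := hY'.2
      rw [h1] at h2'
      have : c * Y.1 1 0 = 0 := by linear_combination -h2'
      rcases mul_eq_zero.1 this with h | h
      · exact hc h
      · exact hY.1 h
  have hd2 : Disjoint ((UTs : Subgroup SL2) : Set SL2) (T (0 : F)) := by
    rw [Set.disjoint_left]
    intro Y hY hY'
    exact hY'.1 hY
  show Nat.card ↥{Y : SL2 | Group.IsSolvable (closure ({u c, Y} : Set SL2))} = _
  rw [Nat.card_coe_set_eq, hset, Set.ncard_union_eq hd1, Set.ncard_union_eq hd2, ncard_UTs,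
    ncard_T, ncard_T, hq]
  ring

/-- the solubilizer of a split torus element -/
theorem sol_dg (h2 : (2 : F) = 0) (p : ℕ) (hp : p.Prime) (hq : Fintype.card F = 2 ^ p)
    (e : Fˣ) (he : ((e : F)) ^ 2 ≠ 1) (Y : SL2) :
    Group.IsSolvable (closure ({dg e, Y} : Set SL2)) ↔
      (Y.1 1 0 = 0 ∨ Y ∈ (Lo : Set SL2) ∨ Y ∈ (An : Set SL2)) := by
  have hne := (sq_ne_one_iff e).1 he
  rw [solvable_iff h2 p hp hq]
  constructor
  · rintro (⟨g, hX, hY⟩ | (h | h) | ⟨h, -⟩)
    · have h1 : (g⁻¹ * dg e * g).1 1 0 =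
          (g⁻¹).1 1 0 * (g⁻¹).1 1 1 * ((e : F) - ((e⁻¹ : Fˣ) : F)) := by
        have : g⁻¹ * dg e * g = g⁻¹ * dg e * g⁻¹⁻¹ := by rw [inv_inv]
        rw [this]
        simp only [mul_10, mul_11, inv_00, inv_10, dg_00, dg_01, dg_10, dg_11]
        ring
      rw [hX] at h1
      have h3 : (g⁻¹).1 1 0 * (g⁻¹).1 1 1 = 0 := by
        rcases mul_eq_zero.1 h1.symm with h4 | h4
        · exact h4
        · exact absurd h4 hne
      rcases mul_eq_zero.1 h3 with h4 | h4
      · left
        rw [inv_10] at h4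
        exact UT_of_conj_UT g Y (by linear_combination -h4) hY
      · rw [inv_11] at h4
        have hd := det_eq g
        rw [h4, zero_mul, zero_sub] at hd
        have hg10 : g.1 1 0 ≠ 0 := by
          intro h; rw [h, mul_zero, neg_zero] at hd; exact zero_ne_one hd
        have h5 : (g⁻¹ * Y * g).1 1 0 = -(g.1 1 0) ^ 2 * Y.1 0 1 := by
          simp only [mul_10, mul_11, mul_00, mul_01, inv_10, inv_11, h4]
          ring
        rw [hY] at h5
        have h01 : Y.1 0 1 = 0 := by
          have : (g.1 1 0) ^ 2 * Y.1 0 1 = 0 := by linear_combination h5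
          rcases mul_eq_zero.1 this with h6 | h6
          · exact absurd (pow_eq_zero_iff (two_ne_zero) |>.1 h6) hg10
          · exact h6
        by_cases h10 : Y.1 1 0 = 0
        · exact Or.inl h10
        · exact Or.inr (Or.inl ⟨h10, h01⟩)
    · left
      have : Y * dg e = dg e * Y := by
        calc Y * dg e = (Y * dg e * Y⁻¹) * Y := by group
          _ = dg e * Y := by rw [h]
      exact ((commute_dg_iff e he Y).1 this).2
    · right; right
      have hc : Y * dg e = (dg e)⁻¹ * Y := by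
        calc Y * dg e = (Y * dg e * Y⁻¹) * Y := by group
          _ = (dg e)⁻¹ * Y := by rw [h]
      have e00 := congrArg (fun g : SL2 => g.1 0 0) hc
      have e11 := congrArg (fun g : SL2 => g.1 1 1) hc
      simp only [mul_00, mul_11, inv_00, inv_01, inv_10, inv_11, dg_00, dg_01, dg_10,
        dg_11] at e00 e11
      constructor
      · have : Y.1 0 0 * ((e : F) - ((e⁻¹ : Fˣ) : F)) = 0 := by linear_combination e00
        rcases mul_eq_zero.1 this with h6 | h6
        · exact h6
        · exact absurd h6 hne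
      · have : Y.1 1 1 * ((e : F) - ((e⁻¹ : Fˣ) : F)) = 0 := by linear_combination -e11
        rcases mul_eq_zero.1 this with h6 | h6
        · exact h6
        · exact absurd h6 hne
    · exfalso
      apply he
      have e00 := congrArg (fun g : SL2 => g.1 0 0) h
      simp only [mul_00, dg_00, dg_01, dg_10, Matrix.SpecialLinearGroup.coe_one,
        Matrix.one_apply_eq] at e00
      linear_combination e00
  · rintro (h | h | h)
    · left
      refine ⟨1, ?_, ?_⟩
      · simp
      · simpa using h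
    · left
      refine ⟨wE, ?_, ?_⟩
      · have : wE⁻¹ * dg e * wE = wE⁻¹ * dg e * wE⁻¹⁻¹ := by rw [inv_inv]
        rw [this]
        simp only [mul_10, mul_11, mul_00, mul_01, inv_00, inv_01, inv_10, inv_11, dg_00, dg_01,
          dg_10, dg_11]
        simp [wE]
      · have : wE⁻¹ * Y * wE = wE⁻¹ * Y * wE⁻¹⁻¹ := by rw [inv_inv]
        rw [this]
        simp only [mul_10, mul_11, mul_00, mul_01, inv_00, inv_01, inv_10, inv_11]
        simp [wE, h.2]
    · right; left; right
      obtain ⟨h00, h11⟩ := h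
      have hd := det_eq Y
      rw [h00, zero_mul, zero_sub] at hd
      have h1 : ((e⁻¹ : Fˣ) : F) * (e : F) = 1 := by simp
      apply ext4 <;> simp only [mul_00, mul_01, mul_10, mul_11, inv_00, inv_01, inv_10, inv_11,
        dg_00, dg_01, dg_10, dg_11, h00, h11]
      · linear_combination (((e⁻¹ : Fˣ) : F)) * hd
      · ring
      · ring
      · linear_combination ((e : F)) * hd

theorem card_sol_dg (h2 : (2 : F) = 0) (p : ℕ) (hp : p.Prime) (hq : Fintype.card F = 2 ^ p)
    (e : Fˣ) (he : ((e : F)) ^ 2 ≠ 1) :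
    Nat.card {Y : SL2 // Group.IsSolvable (closure ({dg e, Y} : Set SL2))} =
      2 * 2 ^ p * (2 ^ p - 1) := by
  classical
  have hset : {Y : SL2 | Group.IsSolvable (closure ({dg e, Y} : Set SL2))} =
      ((UTs : Subgroup SL2) : Set SL2) ∪ (Lo : Set SL2) ∪ (An : Set SL2) := by
    ext Y
    rw [Set.mem_ofPred_eq, sol_dg h2 p hp hq e he, Set.mem_union, Set.mem_union, or_assoc]
    rfl
  have hd1 : Disjoint (((UTs : Subgroup SL2) : Set SL2) ∪ (Lo : Set SL2)) (An : Set SL2) := by
    rw [Set.disjoint_left]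
    rintro Y (hY | hY) hY'
    · have hd := det_eq Y
      have h10 : Y.1 1 0 = 0 := hY
      rw [hY'.1, h10, zero_mul, mul_zero, sub_zero] at hd
      exact zero_ne_one hd
    · have hd := det_eq Y
      rw [hY'.1, hY.2, zero_mul, zero_mul, sub_zero] at hd
      exact zero_ne_one hd
  have hd2 : Disjoint ((UTs : Subgroup SL2) : Set SL2) (Lo : Set SL2) := by
    rw [Set.disjoint_left]
    intro Y hY hY'
    exact hY'.1 hY
  have hpos : 1 ≤ 2 ^ p := Nat.one_le_two_pow
  obtain ⟨r, hr⟩ : ∃ r, 2 ^ p = r + 1 := ⟨2 ^ p - 1, by omega⟩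
  show Nat.card ↥{Y : SL2 | Group.IsSolvable (closure ({dg e, Y} : Set SL2))} = _
  rw [Nat.card_coe_set_eq, hset, Set.ncard_union_eq hd1, Set.ncard_union_eq hd2, ncard_UTs,
    ncard_Lo, ncard_An, hq, hr, Nat.add_sub_cancel]
  ring

/-- the solubilizer of a nonsplit torus element -/
theorem sol_ns (h2 : (2 : F) = 0) (p : ℕ) (hp : p.Prime) (hq : Fintype.card F = 2 ^ p)
    (X : SL2) (hirr : ∀ a : F, a ^ 2 - X.1.trace * a + 1 ≠ 0) (hX2 : X * X ≠ 1) (Y : SL2) :
    Group.IsSolvable (closure ({X, Y} : Set SL2)) ↔ Y ∈ Nx X := by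
  rw [solvable_iff h2 p hp hq, mem_Nx]
  constructor
  · rintro (⟨g, hX, -⟩ | h | ⟨h, -⟩)
    · exfalso
      apply hirr ((g⁻¹ * X * g).1 0 0)
      have htr : (g⁻¹ * X * g).1.trace = X.1.trace := by
        have : g⁻¹ * X * g = g⁻¹ * X * g⁻¹⁻¹ := by rw [inv_inv]
        rw [this]
        exact trace_conj g⁻¹ X
      have hd := det_eq (g⁻¹ * X * g)
      rw [hX, mul_zero, sub_zero] at hd
      rw [← htr, Matrix.trace_fin_two]
      linear_combination -hd
    · exact h
    · exact absurd h hX2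
  · intro h
    exact Or.inr (Or.inl h)

theorem card_Nx_nonsplit (h2 : (2 : F) = 0) (X : SL2) (hX : NonScalar X)
    (hss : X.1.trace ^ 2 ≠ 4) (hirr : ∀ a : F, a ^ 2 - X.1.trace * a + 1 ≠ 0) :
    Nat.card (Nx X) = 2 * (Fintype.card F + 1) := by
  have hT := card_Tor_nonsplit X hX hss hirr
  have hZ : Nat.card (Subgroup.center SL2) = 1 := by
    rw [center_eq_bot h2, Subgroup.card_bot]
  have hq : 1 < Fintype.card F := Fintype.one_lt_card
  obtain ⟨e⟩ := dihedral_Nx X hX hss (Fintype.card F + 1) (by omega) (by rw [hT, hZ, one_mul])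
  rw [Nat.card_congr ((Nx X).equivMapOfInjective (pr : SL2 →* _)
    (Cfsg.Agent.H9.A4Char2.pr_injective h2)).toEquiv, Nat.card_congr e.toEquiv,
    DihedralGroup.nat_card]

theorem card_sol_ns (h2 : (2 : F) = 0) (p : ℕ) (hp : p.Prime) (hq : Fintype.card F = 2 ^ p)
    (X : SL2) (hX : NonScalar X) (hss : X.1.trace ^ 2 ≠ 4)
    (hirr : ∀ a : F, a ^ 2 - X.1.trace * a + 1 ≠ 0) (hX2 : X * X ≠ 1) :
    Nat.card {Y : SL2 // Group.IsSolvable (closure ({X, Y} : Set SL2))} =
      2 * (2 ^ p + 1) := by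
  rw [← hq, ← card_Nx_nonsplit h2 X hX hss hirr]
  exact Nat.card_congr (Equiv.subtypeEquivRight (fun Y => sol_ns h2 p hp hq X hirr hX2 Y))

end counts

end Cfsg.Agent.H9.Solubilizer
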