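import Mathlib
import Cfsg.Agent.H9.Sol3E
import Cfsg.Agent.H9.Solubilizer4

set_option autoImplicit false

/-! Solubilizers in `PSL₂(3^p)`: elements of order three. -/

namespace Cfsg.Agent.H9.Sol3

open Matrix Subgroup
open Cfsg.Agent.H9.AutPSL2
open Cfsg.Agent.H9.DicksonUN
open Cfsg.Agent.H9.Solubilizer
open Cfsg.Agent.H9.PSL2Borel

universe u

section unip

variable {F : Type u} [Field F] [Fintype F]

local notation "SL2" => Matrix.SpecialLinearGroup (Fin 2) F
local notation "PSL2" => Matrix.ProjectiveSpecialLinearGroup (Fin 2) F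

omit [Fintype F] in
theorem tr_u (β : F) : tr (u β) = 2 := by
  unfold tr; rw [u_00, u_11]; norm_num

omit [Fintype F] in
theorem tr_u_mul (β : F) (Y : SL2) : tr (u β * Y) = tr Y + β * Y.1 1 0 := by
  unfold tr; simp only [mul_00, mul_11, u_00, u_01, u_10, u_11]; ring

/-- the set of the tetrahedral partners of `u β` -/
def W (β : F) : Set SL2 := {Y | (β * Y.1 1 0) ^ 2 = 1 ∧ tr Y ^ 3 = tr Y}

theorem solv_u (p : ℕ) (hp : p.Prime) (hodd : Odd p) (hq : Fintype.card F = 3 ^ p)
    {β : F} (hβ : β ≠ 0) (Y : SL2) :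
    Solv (u β) Y ↔ (Y.1 1 0 = 0 ∨ Y ∈ W β) := by
  have h3 := three_eq_zero p hp hq
  have h2 := two_ne_zero3 h3
  rw [solv_iff p hp hodd hq]
  constructor
  · rintro (⟨g, hX, hY⟩ | h | ⟨h, -⟩ | h)
    · left
      have h1 := conj_u_10 g⁻¹ β
      rw [inv_inv, hX] at h1
      have hg : g.1 1 0 = 0 := by
        have h4 : (g⁻¹).1 1 0 ^ 2 * β = 0 := by linear_combination h1
        rcases mul_eq_zero.1 h4 with h5 | h5
        · have := pow_eq_zero_iff (two_ne_zero) |>.1 h5
          rw [inv_10] at this
          linear_combination -this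
        · exact absurd h5 hβ
      exact UT_of_conj_UT g Y hg hY
    · left
      have key : ∀ s : F, s * β ≠ 0 → Y.1 0 0 = Y.1 0 0 + s * β * Y.1 1 0 → Y.1 1 0 = 0 := by
        intro s hs h
        have : s * β * Y.1 1 0 = 0 := by linear_combination -h
        exact (mul_eq_zero.1 this).resolve_left hs
      rcases h with h | h | h | h
      · have e00 := congrArg (fun g : SL2 => g.1 0 0) h
        simp only [mul_00, u_00, u_01, u_10, u_11] at e00
        apply key 1 (by rwa [one_mul])
        linear_combination e00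
      · have e10 := congrArg (fun g : SL2 => g.1 1 0) h
        simp only [mul_10, neg_10, u_00, u_01, u_10, u_11] at e10
        have : (2 : F) * Y.1 1 0 = 0 := by linear_combination e10
        exact (mul_eq_zero.1 this).resolve_left h2
      · have e00 := congrArg (fun g : SL2 => g.1 0 0) h
        simp only [mul_00, inv_00, inv_01, u_00, u_01, u_10, u_11] at e00
        apply key (-1) (by simpa using hβ)
        linear_combination e00
      · have e10 := congrArg (fun g : SL2 => g.1 1 0) h
        simp only [mul_10, neg_10, inv_10, inv_11, u_00, u_01, u_10, u_11] at e10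
        have : (2 : F) * Y.1 1 0 = 0 := by linear_combination e10
        exact (mul_eq_zero.1 this).resolve_left h2
    · exfalso
      rw [tr_u] at h
      exact h2 h
    · right
      rcases h with ⟨hx, -, -⟩ | ⟨-, hy, hz⟩ | ⟨-, hy, hz | hz⟩
      · exfalso
        rw [tr_u] at hx
        exact h2 hx
      · rw [tr_u_mul, hy, zero_add] at hz
        refine ⟨hz, ?_⟩
        rw [hy]; ring
      · rw [tr_u_mul] at hz
        refine ⟨?_, ?_⟩
        · have : β * Y.1 1 0 = -tr Y := by linear_combination hz
          rw [this, neg_sq]; exact hy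
        · linear_combination tr Y * hy
      · rw [tr_mul_inv, tr_u_mul, tr_u] at hz
        refine ⟨?_, ?_⟩
        · have : β * Y.1 1 0 = tr Y := by linear_combination -hz
          rw [this]; exact hy
        · linear_combination tr Y * hy
  · rintro (h | ⟨hc, ht⟩)
    · left
      refine ⟨1, ?_, ?_⟩
      · simp
      · simpa using h
    · right; right; right
      have hx : tr (u β) ^ 2 = 1 := by
        rw [tr_u]; linear_combination h3
      have ht' : tr Y * (tr Y ^ 2 - 1) = 0 := by linear_combination ht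
      rcases mul_eq_zero.1 ht' with h0 | h1
      · right; left
        refine ⟨hx, h0, ?_⟩
        rw [tr_u_mul, h0, zero_add]; exact hc
      · right; right
        have hy : tr Y ^ 2 = 1 := by linear_combination h1
        refine ⟨hx, hy, ?_⟩
        have h4 : (tr Y + β * Y.1 1 0) * (tr Y - β * Y.1 1 0) = 0 := by
          linear_combination hy - hc
        rcases mul_eq_zero.1 h4 with h5 | h5
        · left; rw [tr_u_mul]; exact h5
        · right; rw [tr_mul_inv, tr_u_mul, tr_u]; linear_combination h5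

omit [Fintype F] in
theorem card_signs (h2 : (2 : F) ≠ 0) {β : F} (hβ : β ≠ 0) :
    Nat.card {c : F // (β * c) ^ 2 = 1} = 2 := by
  have hset : {c : F | (β * c) ^ 2 = 1} = {β⁻¹, -β⁻¹} := by
    ext c
    simp only [Set.mem_ofPred_eq, Set.mem_insert_iff, Set.mem_singleton_iff]
    constructor
    · intro h
      have h1 : (β * c - 1) * (β * c + 1) = 0 := by linear_combination h
      rcases mul_eq_zero.1 h1 with h4 | h4
      · left
        field_simp
        linear_combination h4
      · right
        field_simp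
        linear_combination h4
    · rintro (rfl | rfl)
      · field_simp
      · field_simp
  have hne : β⁻¹ ≠ -β⁻¹ := by
    intro h
    have h1 : (2 : F) * β⁻¹ = 0 := by linear_combination h
    rcases mul_eq_zero.1 h1 with h4 | h4
    · exact h2 h4
    · exact inv_ne_zero hβ h4
  show Nat.card ↥{c : F | (β * c) ^ 2 = 1} = 2
  rw [hset, Nat.card_coe_set_eq, Set.ncard_pair hne]

omit [Fintype F] in
theorem card_cubes (h2 : (2 : F) ≠ 0) : Nat.card {t : F // t ^ 3 = t} = 3 := by
  have hset : {t : F | t ^ 3 = t} = {0, 1, -1} := by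
    ext t
    simp only [Set.mem_ofPred_eq, Set.mem_insert_iff, Set.mem_singleton_iff]
    constructor
    · intro h
      have h1 : t * ((t - 1) * (t + 1)) = 0 := by linear_combination h
      rcases mul_eq_zero.1 h1 with h4 | h4
      · exact Or.inl h4
      · rcases mul_eq_zero.1 h4 with h5 | h5
        · right; left; linear_combination h5
        · right; right; linear_combination h5
    · rintro (rfl | rfl | rfl) <;> ring
  have h01 : (0 : F) ∉ ({1, -1} : Set F) := by
    simp
  have h11 : (1 : F) ≠ -1 := by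
    intro h
    apply h2
    linear_combination h
  show Nat.card ↥{t : F | t ^ 3 = t} = 3
  rw [hset, Nat.card_coe_set_eq, Set.ncard_insert_of_notMem h01, Set.ncard_pair h11]

/-- parametrization of `W β` -/
def psiW (β : F) (x : {c : F // (β * c) ^ 2 = 1} × {t : F // t ^ 3 = t} × F) : SL2 :=
  ⟨!![x.2.2, (x.2.2 * (x.2.1.1 - x.2.2) - 1) * x.1.1⁻¹; x.1.1, x.2.1.1 - x.2.2], by
    rw [Matrix.det_fin_two_of]
    have hc : x.1.1 ≠ 0 := by
      intro h
      have := x.1.2
      rw [h, mul_zero] at this
      norm_num at this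
    field_simp
    ring⟩

omit [Fintype F] in
theorem psiW_injective (β : F) : Function.Injective (psiW β) := by
  rintro ⟨⟨c, hc⟩, ⟨t, ht⟩, a⟩ ⟨⟨c', hc'⟩, ⟨t', ht'⟩, a'⟩ h
  have e10 := congrArg (fun g : SL2 => g.1 1 0) h
  have e00 := congrArg (fun g : SL2 => g.1 0 0) h
  have e11 := congrArg (fun g : SL2 => g.1 1 1) h
  simp only [psiW, Matrix.of_apply, Matrix.cons_val', Matrix.cons_val_zero, Matrix.cons_val_one,
    Matrix.empty_val', Matrix.cons_val_fin_one] at e10 e00 e11
  subst e10
  subst e00
  have : t = t' := by linear_combination e11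
  subst this
  rfl

omit [Fintype F] in
theorem range_psiW (β : F) : Set.range (psiW β) = W β := by
  ext Y
  constructor
  · rintro ⟨⟨⟨c, hc⟩, ⟨t, ht⟩, a⟩, rfl⟩
    refine ⟨hc, ?_⟩
    have : tr (psiW β (⟨c, hc⟩, ⟨t, ht⟩, a)) = t := by
      unfold tr
      show a + (t - a) = t
      ring
    rw [this]; exact ht
  · rintro ⟨hc, ht⟩
    refine ⟨(⟨Y.1 1 0, hc⟩, ⟨tr Y, ht⟩, Y.1 0 0), ?_⟩
    have hd := det_eq Y
    have hc0 : Y.1 1 0 ≠ 0 := by
      intro h
      rw [h, mul_zero] at hc
      norm_num at hc
    apply ext4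
    · rfl
    · show (Y.1 0 0 * (tr Y - Y.1 0 0) - 1) * (Y.1 1 0)⁻¹ = Y.1 0 1
      unfold tr
      field_simp
      linear_combination hd
    · rfl
    · show tr Y - Y.1 0 0 = Y.1 1 1
      unfold tr; ring

theorem ncard_W (h2 : (2 : F) ≠ 0) {β : F} (hβ : β ≠ 0) :
    (W β).ncard = 6 * Fintype.card F := by
  rw [← range_psiW, ← Set.image_univ, Set.ncard_image_of_injective _ (psiW_injective β),
    Set.ncard_univ, Nat.card_prod, Nat.card_prod, card_signs h2 hβ, card_cubes h2,
    Nat.card_eq_fintype_card]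
  ring

theorem card_solv_u (p : ℕ) (hp : p.Prime) (hodd : Odd p) (hq : Fintype.card F = 3 ^ p)
    {β : F} (hβ : β ≠ 0) :
    Nat.card {Y : SL2 // Solv (u β) Y} = 3 ^ p * (3 ^ p + 5) := by
  classical
  have h3 := three_eq_zero p hp hq
  have h2 := two_ne_zero3 h3
  have hset : {Y : SL2 | Solv (u β) Y} = ((UTs : Subgroup SL2) : Set SL2) ∪ W β := by
    ext Y
    rw [Set.mem_ofPred_eq, solv_u p hp hodd hq hβ, Set.mem_union]
    rfl
  have hd : Disjoint ((UTs : Subgroup SL2) : Set SL2) (W β) := by
    rw [Set.disjoint_left]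
    intro Y hY hY'
    have h10 : Y.1 1 0 = 0 := hY
    have := hY'.1
    rw [h10, mul_zero] at this
    norm_num at this
  have hpos : 1 ≤ 3 ^ p := Nat.one_le_pow _ _ (by norm_num)
  obtain ⟨r, hr⟩ : ∃ r, 3 ^ p = r + 1 := ⟨3 ^ p - 1, by omega⟩
  show Nat.card ↥{Y : SL2 | Solv (u β) Y} = _
  rw [Nat.card_coe_set_eq, hset, Set.ncard_union_eq hd, ncard_UTs, ncard_W h2 hβ, hq, hr,
    Nat.add_sub_cancel]
  ring

end unip

end Cfsg.Agent.H9.Sol3
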