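import Mathlib
import Cfsg.Agent.H9.Sol3F

set_option autoImplicit false

/-! Solubilizers in `PSL₂(3^p)`: semisimple elements of order greater than two. -/

namespace Cfsg.Agent.H9.Sol3

open Matrix Subgroup
open Cfsg.Agent.H9.AutPSL2
open Cfsg.Agent.H9.DicksonUN
open Cfsg.Agent.H9.Solubilizer
open Cfsg.Agent.H9.PSL2Borel
open Cfsg.Agent.H9.PSL2Tori
open Cfsg.Agent.H9.DicksonSS

universe u

section semisimple

variable {F : Type u} [Field F] [Fintype F]

local notation "SL2" => Matrix.SpecialLinearGroup (Fin 2) F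
local notation "PSL2" => Matrix.ProjectiveSpecialLinearGroup (Fin 2) F

theorem card_mod4 (p : ℕ) (hodd : Odd p) : 3 ^ p % 4 = 3 := by
  have := Cfsg.Agent.H9.QCases.pow3_mod8 p hodd
  omega

/-- `-1` is not a square in a field of order `3^p`, `p` odd -/
theorem neg_one_nonsq (p : ℕ) (hodd : Odd p) (hq : Fintype.card F = 3 ^ p) (a : F) :
    a ^ 2 ≠ -1 := by
  intro h
  have h1 : IsSquare (-1 : F) := ⟨a, by rw [← h, pow_two]⟩
  rw [FiniteField.isSquare_neg_one_iff, hq, card_mod4 p hodd] at h1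
  exact h1 rfl

omit [Fintype F] in
theorem tr_dg (e : Fˣ) : tr (dg e) = (e : F) + ((e⁻¹ : Fˣ) : F) := by
  unfold tr; rw [dg_00, dg_11]

omit [Fintype F] in
theorem tr_dg_ne (e : Fˣ) (hns : ∀ a : F, a ^ 2 ≠ -1) : tr (dg e) ≠ 0 := by
  rw [tr_dg]
  intro h
  apply hns (e : F)
  have h1 : (e : F) * ((e⁻¹ : Fˣ) : F) = 1 := by simp
  linear_combination (e : F) * h - h1

omit [Fintype F] in
theorem tr_dg_sq_ne (h3 : (3 : F) = 0) (e : Fˣ) (he : ((e : F)) ^ 2 ≠ 1) : tr (dg e) ^ 2 ≠ 1 := by
  rw [tr_dg]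
  intro h
  have h1 : (e : F) * ((e⁻¹ : Fˣ) : F) = 1 := by simp
  have h4 : ((e : F) + ((e⁻¹ : Fˣ) : F) - 1) * ((e : F) + ((e⁻¹ : Fˣ) : F) + 1) = 0 := by
    linear_combination h
  apply he
  rcases mul_eq_zero.1 h4 with h5 | h5
  · have h6 : ((e : F) + 1) ^ 2 = 0 := by
      linear_combination (e : F) * h5 - h1 + (e : F) * h3
    have := pow_eq_zero_iff (two_ne_zero) |>.1 h6
    have : (e : F) = -1 := by linear_combination this
    rw [this]; ring
  · have h6 : ((e : F) - 1) ^ 2 = 0 := by
      linear_combination (e : F) * h5 - h1 - (e : F) * h3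
    have := pow_eq_zero_iff (two_ne_zero) |>.1 h6
    have : (e : F) = 1 := by linear_combination this
    rw [this]; ring

/-- the solubilizer of a split torus element -/
theorem solv_dg (p : ℕ) (hp : p.Prime) (hodd : Odd p) (hq : Fintype.card F = 3 ^ p)
    (e : Fˣ) (he : ((e : F)) ^ 2 ≠ 1) (Y : SL2) :
    Solv (dg e) Y ↔ (Y.1 1 0 = 0 ∨ Y ∈ (Lo : Set SL2) ∨ Y ∈ (An : Set SL2)) := by
  have h3 := three_eq_zero p hp hq
  have h2 := two_ne_zero3 h3
  have hns := neg_one_nonsq p hodd hq
  have hne := (sq_ne_one_iff e).1 he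
  have htr := tr_dg_ne e hns
  have htr2 := tr_dg_sq_ne h3 e he
  rw [tr_dg] at htr
  have he0 : (e : F) ≠ 0 := e.ne_zero
  rw [solv_iff p hp hodd hq]
  constructor
  · rintro (⟨g, hX, hY⟩ | h | ⟨h, -⟩ | h)
    · have h1 : (g⁻¹ * dg e * g).1 1 0 =
          (g⁻¹).1 1 0 * (g⁻¹).1 1 1 * ((e : F) - ((e⁻¹ : Fˣ) : F)) := by
        have : g⁻¹ * dg e * g = g⁻¹ * dg e * g⁻¹⁻¹ := by rw [inv_inv]
        rw [this]
        simp only [mul_10, mul_11, inv_00, inv_10, dg_00, dg_01, dg_10, dg_11]
        ring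
      rw [hX] at h1
      have h4 : (g⁻¹).1 1 0 * (g⁻¹).1 1 1 = 0 := by
        rcases mul_eq_zero.1 h1.symm with h4 | h4
        · exact h4
        · exact absurd h4 hne
      rcases mul_eq_zero.1 h4 with h4 | h4
      · left
        rw [inv_10] at h4
        exact UT_of_conj_UT g Y (by linear_combination -h4) hY
      · rw [inv_11] at h4
        have hd := det_eq g
        rw [h4, zero_mul, zero_sub] at hd
        have hg10 : g.1 1 0 ≠ 0 := by
          intro h; rw [h, mul_zero, neg_zero] at hd; exact zero_ne_one hd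
        have h5 : (g⁻¹ * Y * g).1 1 0 = -(g.1 1 0) ^ 2 * Y.1 0 1 := by
          simp only [mul_10, mul_11, mul_00, mul_01, inv_10, inv_11, h4]
          ring
        rw [hY] at h5
        have h01 : Y.1 0 1 = 0 := by
          have : (g.1 1 0) ^ 2 * Y.1 0 1 = 0 := by linear_combination h5
          rcases mul_eq_zero.1 this with h6 | h6
          · exact absurd (pow_eq_zero_iff (two_ne_zero) |>.1 h6) hg10
          · exact h6
        by_cases h10 : Y.1 1 0 = 0
        · exact Or.inl h10
        · exact Or.inr (Or.inl ⟨h10, h01⟩)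
    · rcases h with h | h | h | h
      · left
        exact ((commute_dg_iff e he Y).1 h).2
      · exfalso
        have e00 := congrArg (fun g : SL2 => g.1 0 0) h
        have e11 := congrArg (fun g : SL2 => g.1 1 1) h
        have e01 := congrArg (fun g : SL2 => g.1 0 1) h
        simp only [mul_00, mul_01, mul_11, neg_00, neg_01, neg_11, dg_00, dg_01, dg_10,
          dg_11] at e00 e11 e01
        have hd := det_eq Y
        have h00 : Y.1 0 0 = 0 := by
          have : (2 : F) * (e : F) * Y.1 0 0 = 0 := by linear_combination e00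
          exact (mul_eq_zero.1 this).resolve_left (mul_ne_zero h2 he0)
        have h01 : Y.1 0 1 = 0 := by
          have : ((e : F) + ((e⁻¹ : Fˣ) : F)) * Y.1 0 1 = 0 := by linear_combination e01
          exact (mul_eq_zero.1 this).resolve_left htr
        rw [h00, h01, zero_mul, zero_mul, sub_zero] at hd
        exact zero_ne_one hd
      · right; right
        have e00 := congrArg (fun g : SL2 => g.1 0 0) h
        have e11 := congrArg (fun g : SL2 => g.1 1 1) h
        simp only [mul_00, mul_11, inv_00, inv_01, inv_10, inv_11, dg_00, dg_01, dg_10,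
          dg_11] at e00 e11
        constructor
        · have : Y.1 0 0 * ((e : F) - ((e⁻¹ : Fˣ) : F)) = 0 := by linear_combination e00
          exact (mul_eq_zero.1 this).resolve_right hne
        · have : Y.1 1 1 * ((e : F) - ((e⁻¹ : Fˣ) : F)) = 0 := by linear_combination -e11
          exact (mul_eq_zero.1 this).resolve_right hne
      · right; right
        have e00 := congrArg (fun g : SL2 => g.1 0 0) h
        have e11 := congrArg (fun g : SL2 => g.1 1 1) h
        simp only [mul_00, mul_11, neg_00, neg_11, inv_00, inv_01, inv_10, inv_11, dg_00, dg_01,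
          dg_10, dg_11] at e00 e11
        constructor
        · have : Y.1 0 0 * ((e : F) + ((e⁻¹ : Fˣ) : F)) = 0 := by linear_combination e00
          exact (mul_eq_zero.1 this).resolve_right htr
        · have : Y.1 1 1 * ((e : F) + ((e⁻¹ : Fˣ) : F)) = 0 := by linear_combination e11
          exact (mul_eq_zero.1 this).resolve_right htr
    · exfalso
      rw [tr_dg] at h
      exact htr h
    · exfalso
      rcases h with ⟨hx, -, -⟩ | ⟨hx, -, -⟩ | ⟨hx, -, -⟩
      · rw [tr_dg] at hx
        exact htr hx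
      · exact htr2 hx
      · exact htr2 hx
  · rintro (h | h | h)
    · left
      refine ⟨1, ?_, ?_⟩
      · simp
      · simpa using h
    · left
      refine ⟨wE, ?_, ?_⟩
      · have : wE⁻¹ * dg e * wE = wE⁻¹ * dg e * wE⁻¹⁻¹ := by rw [inv_inv]
        rw [this]
        simp only [mul_10, mul_11, mul_00, mul_01, inv_00, inv_01, inv_10, inv_11, dg_00, dg_01,
          dg_10, dg_11]
        simp [wE]
      · have : wE⁻¹ * Y * wE = wE⁻¹ * Y * wE⁻¹⁻¹ := by rw [inv_inv]
        rw [this]
        simp only [mul_10, mul_11, mul_00, mul_01, inv_00, inv_01, inv_10, inv_11]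
        simp [wE, h.2]
    · right; left; right; right; left
      obtain ⟨h00, h11⟩ := h
      have hd := det_eq Y
      rw [h00, zero_mul, zero_sub] at hd
      have h1 : ((e⁻¹ : Fˣ) : F) * (e : F) = 1 := by simp
      apply ext4 <;> simp only [mul_00, mul_01, mul_10, mul_11, inv_00, inv_01, inv_10, inv_11,
        dg_00, dg_01, dg_10, dg_11, h00, h11]
      · ring
      · ring
      · ring
      · ring

theorem card_solv_dg (p : ℕ) (hp : p.Prime) (hodd : Odd p) (hq : Fintype.card F = 3 ^ p)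
    (e : Fˣ) (he : ((e : F)) ^ 2 ≠ 1) :
    Nat.card {Y : SL2 // Solv (dg e) Y} = 2 * 3 ^ p * (3 ^ p - 1) := by
  classical
  have hset : {Y : SL2 | Solv (dg e) Y} =
      ((UTs : Subgroup SL2) : Set SL2) ∪ (Lo : Set SL2) ∪ (An : Set SL2) := by
    ext Y
    rw [Set.mem_ofPred_eq, solv_dg p hp hodd hq e he, Set.mem_union, Set.mem_union, or_assoc]
    rfl
  have hd1 : Disjoint (((UTs : Subgroup SL2) : Set SL2) ∪ (Lo : Set SL2)) (An : Set SL2) := by
    rw [Set.disjoint_left]
    rintro Y (hY | hY) hY'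
    · have hd := det_eq Y
      have h10 : Y.1 1 0 = 0 := hY
      rw [hY'.1, h10, zero_mul, mul_zero, sub_zero] at hd
      exact zero_ne_one hd
    · have hd := det_eq Y
      rw [hY'.1, hY.2, zero_mul, zero_mul, sub_zero] at hd
      exact zero_ne_one hd
  have hd2 : Disjoint ((UTs : Subgroup SL2) : Set SL2) (Lo : Set SL2) := by
    rw [Set.disjoint_left]
    intro Y hY hY'
    exact hY'.1 hY
  have hpos : 1 ≤ 3 ^ p := Nat.one_le_pow _ _ (by norm_num)
  obtain ⟨r, hr⟩ : ∃ r, 3 ^ p = r + 1 := ⟨3 ^ p - 1, by omega⟩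
  show Nat.card ↥{Y : SL2 | Solv (dg e) Y} = _
  rw [Nat.card_coe_set_eq, hset, Set.ncard_union_eq hd1, Set.ncard_union_eq hd2, ncard_UTs,
    ncard_Lo, ncard_An, hq, hr, Nat.add_sub_cancel]
  ring

omit [Fintype F] in
theorem tr_conj (g X : SL2) : tr (g * X * g⁻¹) = tr X := by
  unfold tr
  simp only [mul_00, mul_01, mul_10, mul_11, inv_00, inv_01, inv_10, inv_11]
  have hd := det_eq g
  linear_combination (X.1 0 0 + X.1 1 1) * hd

omit [Fintype F] in
theorem tr_eq_trace (X : SL2) : tr X = X.1.trace := by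
  unfold tr; rw [Matrix.trace_fin_two]

/-- the solubilizer of a nonsplit torus element -/
theorem solv_ns (p : ℕ) (hp : p.Prime) (hodd : Odd p) (hq : Fintype.card F = 3 ^ p)
    (X : SL2) (hirr : ∀ a : F, a ^ 2 - X.1.trace * a + 1 ≠ 0) (ht0 : tr X ≠ 0)
    (ht1 : tr X ^ 2 ≠ 1) (Y : SL2) : Solv X Y ↔ Y ∈ Nx X := by
  have h3 := three_eq_zero p hp hq
  have h2 := two_ne_zero3 h3
  rw [solv_iff p hp hodd hq, mem_Nx]
  constructor
  · rintro (⟨g, hX, -⟩ | h | ⟨h, -⟩ | h)
    · exfalso
      apply hirr ((g⁻¹ * X * g).1 0 0)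
      have htr : (g⁻¹ * X * g).1.trace = X.1.trace := by
        have : g⁻¹ * X * g = g⁻¹ * X * g⁻¹⁻¹ := by rw [inv_inv]
        rw [this]
        exact trace_conj g⁻¹ X
      have hd := det_eq (g⁻¹ * X * g)
      rw [hX, mul_zero, sub_zero] at hd
      rw [← htr, Matrix.trace_fin_two]
      linear_combination -hd
    · have hneg : ∀ Z : SL2, Y * X * Y⁻¹ = -Z → tr Z = tr X → False := by
        intro Z hZ hZX
        have := tr_conj Y X
        rw [hZ, tr_neg, hZX] at this
        apply ht0
        have h4 : (2 : F) * tr X = 0 := by linear_combination -this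
        exact (mul_eq_zero.1 h4).resolve_left h2
      rcases h with h | h | h | h
      · left
        rw [h]; group
      · exfalso
        apply hneg X _ rfl
        rw [h, neg_mul, mul_inv_cancel_right]
      · right
        rw [h]; group
      · exfalso
        apply hneg X⁻¹ _ (tr_inv X)
        rw [h, neg_mul, mul_inv_cancel_right]
    · exact absurd h ht0
    · exfalso
      rcases h with ⟨hx, -, -⟩ | ⟨hx, -, -⟩ | ⟨hx, -, -⟩
      · exact ht0 hx
      · exact ht1 hx
      · exact ht1 hx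
  · rintro (h | h)
    · right; left; left
      calc Y * X = (Y * X * Y⁻¹) * Y := by group
        _ = X * Y := by rw [h]
    · right; left; right; right; left
      calc Y * X = (Y * X * Y⁻¹) * Y := by group
        _ = X⁻¹ * Y := by rw [h]

theorem card_Nx_ns (X : SL2) (hX : NonScalar X) (hss : X.1.trace ^ 2 ≠ 4)
    (hirr : ∀ a : F, a ^ 2 - X.1.trace * a + 1 ≠ 0) :
    Nat.card (Nx X) = 2 * (Fintype.card F + 1) := by
  classical
  have hT := card_Tor_nonsplit X hX hss hirr
  obtain ⟨w, hw⟩ := exists_inverts_nonsplit X hX hss hirr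
  have hne := ne_inv X hX hss
  have hset : ((Nx X : Subgroup SL2) : Set SL2) =
      ((Tor X : Subgroup SL2) : Set SL2) ∪ (fun t => w * t) '' ((Tor X : Subgroup SL2) : Set SL2) := by
    ext Y
    rw [SetLike.mem_coe, mem_Nx, Set.mem_union, SetLike.mem_coe, mem_Tor]
    constructor
    · rintro (h | h)
      · left
        calc Y * X = (Y * X * Y⁻¹) * Y := by group
          _ = X * Y := by rw [h]
      · right
        refine ⟨w⁻¹ * Y, ?_, by group⟩
        rw [SetLike.mem_coe, mem_Tor]
        have h5 : w⁻¹ * X⁻¹ * w = X := by rw [← hw]; group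
        calc w⁻¹ * Y * X = w⁻¹ * (Y * X * Y⁻¹) * Y := by group
          _ = (w⁻¹ * X⁻¹ * w) * (w⁻¹ * Y) := by rw [h]; group
          _ = X * (w⁻¹ * Y) := by rw [h5]
    · rintro (h | ⟨t, ht, rfl⟩)
      · left
        rw [h]; group
      · right
        rw [SetLike.mem_coe, mem_Tor] at ht
        calc w * t * X * (w * t)⁻¹ = w * (t * X) * t⁻¹ * w⁻¹ := by group
          _ = w * X * w⁻¹ := by rw [ht]; group
          _ = X⁻¹ := hw
  have hdisj : Disjoint ((Tor X : Subgroup SL2) : Set SL2)
      ((fun t => w * t) '' ((Tor X : Subgroup SL2) : Set SL2)) := by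
    rw [Set.disjoint_left]
    rintro Y hY ⟨t, ht, rfl⟩
    rw [SetLike.mem_coe, mem_Tor] at hY ht
    apply hne
    have hY' : w * t * X = X * (w * t) := hY
    have h5 : w * X = X * w := by
      calc w * X = w * (X * t) * t⁻¹ := by group
        _ = w * (t * X) * t⁻¹ := by rw [ht]
        _ = (w * t * X) * t⁻¹ := by group
        _ = (X * (w * t)) * t⁻¹ := by rw [hY']
        _ = X * w := by group
    calc X = (w * X) * w⁻¹ := by rw [h5]; group
      _ = X⁻¹ := by rw [← hw]
  have hinj : Function.Injective (fun t : SL2 => w * t) := mul_right_injective w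
  have e : Nat.card (Nx X) = Nat.card ((Nx X : Subgroup SL2) : Set SL2) := rfl
  have e' : Nat.card (Tor X) = Nat.card ((Tor X : Subgroup SL2) : Set SL2) := rfl
  rw [e, hset, Nat.card_coe_set_eq, Set.ncard_union_eq hdisj,
    Set.ncard_image_of_injective _ hinj, ← Nat.card_coe_set_eq, ← e', hT]
  ring

/-- the elements inverting a nonsplit torus element -/
theorem ncard_inverting_ns (X : SL2) (hX : NonScalar X) (hss : X.1.trace ^ 2 ≠ 4)
    (hirr : ∀ a : F, a ^ 2 - X.1.trace * a + 1 ≠ 0) :
    {Y : SL2 | Y * X * Y⁻¹ = X⁻¹}.ncard = Fintype.card F + 1 := by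
  classical
  have hT := card_Tor_nonsplit X hX hss hirr
  obtain ⟨w, hw⟩ := exists_inverts_nonsplit X hX hss hirr
  have hset : {Y : SL2 | Y * X * Y⁻¹ = X⁻¹} =
      (fun t => w * t) '' ((Tor X : Subgroup SL2) : Set SL2) := by
    ext Y
    rw [Set.mem_ofPred_eq]
    constructor
    · intro h
      refine ⟨w⁻¹ * Y, ?_, by group⟩
      rw [SetLike.mem_coe, mem_Tor]
      have h5 : w⁻¹ * X⁻¹ * w = X := by rw [← hw]; group
      calc w⁻¹ * Y * X = w⁻¹ * (Y * X * Y⁻¹) * Y := by group
        _ = (w⁻¹ * X⁻¹ * w) * (w⁻¹ * Y) := by rw [h]; group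
        _ = X * (w⁻¹ * Y) := by rw [h5]
    · rintro ⟨t, ht, rfl⟩
      rw [SetLike.mem_coe, mem_Tor] at ht
      calc w * t * X * (w * t)⁻¹ = w * (t * X) * t⁻¹ * w⁻¹ := by group
        _ = w * X * w⁻¹ := by rw [ht]; group
        _ = X⁻¹ := hw
  have hinj : Function.Injective (fun t : SL2 => w * t) := mul_right_injective w
  have e' : Nat.card (Tor X) = Nat.card ((Tor X : Subgroup SL2) : Set SL2) := rfl
  rw [hset, Set.ncard_image_of_injective _ hinj, ← Nat.card_coe_set_eq, ← e', hT]

theorem card_solv_ns (p : ℕ) (hp : p.Prime) (hodd : Odd p) (hq : Fintype.card F = 3 ^ p)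
    (X : SL2) (hX : NonScalar X) (hirr : ∀ a : F, a ^ 2 - X.1.trace * a + 1 ≠ 0)
    (ht0 : tr X ≠ 0) (ht1 : tr X ^ 2 ≠ 1) :
    Nat.card {Y : SL2 // Solv X Y} = 2 * (3 ^ p + 1) := by
  have h3 := three_eq_zero p hp hq
  have hss : X.1.trace ^ 2 ≠ 4 := by
    rw [← tr_eq_trace]
    intro h
    apply ht1
    linear_combination h + h3
  rw [← hq, ← card_Nx_ns X hX hss hirr]
  exact Nat.card_congr (Equiv.subtypeEquivRight (fun Y => solv_ns p hp hodd hq X hirr ht0 ht1 Y))

end semisimple

end Cfsg.Agent.H9.Sol3
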