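import Mathlib
import Cfsg.Agent.H9.Sol3G

set_option autoImplicit false

/-! Solubilizers in `PSL₂(3^p)`: involutions. -/

namespace Cfsg.Agent.H9.Sol3

open Matrix Subgroup
open Cfsg.Agent.H9.AutPSL2
open Cfsg.Agent.H9.DicksonUN
open Cfsg.Agent.H9.Solubilizer
open Cfsg.Agent.H9.PSL2Borel
open Cfsg.Agent.H9.PSL2Tori
open Cfsg.Agent.H9.DicksonSS
open Cfsg.Agent.H9.KleinPSL2 (X0)

universe u

section invol

variable {F : Type u} [Field F] [Fintype F]

local notation "SL2" => Matrix.SpecialLinearGroup (Fin 2) F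
local notation "PSL2" => Matrix.ProjectiveSpecialLinearGroup (Fin 2) F

omit [Fintype F] in
theorem X0_00 : (X0 : SL2).1 0 0 = 0 := rfl
omit [Fintype F] in
theorem X0_01 : (X0 : SL2).1 0 1 = 1 := rfl
omit [Fintype F] in
theorem X0_10 : (X0 : SL2).1 1 0 = -1 := rfl
omit [Fintype F] in
theorem X0_11 : (X0 : SL2).1 1 1 = 0 := rfl

omit [Fintype F] in
theorem tr_X0 : tr (X0 : SL2) = 0 := by
  unfold tr; rw [X0_00, X0_11, add_zero]

omit [Fintype F] in
theorem tr_X0_mul (Y : SL2) : tr (X0 * Y) = Y.1 1 0 - Y.1 0 1 := by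
  unfold tr; simp only [mul_00, mul_11, X0_00, X0_01, X0_10, X0_11]; ring

omit [Fintype F] in
theorem X0_inv : (X0 : SL2)⁻¹ = -X0 := by
  apply ext4 <;> simp only [inv_00, inv_01, inv_10, inv_11, neg_00, neg_01, neg_10, neg_11,
    X0_00, X0_01, X0_10, X0_11] <;> ring

/-- trace zero -/
def SA : Set SL2 := {Y | tr Y = 0}
/-- symmetric -/
def SB : Set SL2 := {Y | Y.1 1 0 = Y.1 0 1}
/-- commuting with `X0` -/
def SC : Set SL2 := {Y | Y.1 1 1 = Y.1 0 0 ∧ Y.1 1 0 = -Y.1 0 1}
/-- the tetrahedral partners of `X0` -/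
def SD : Set SL2 := {Y | tr Y ^ 2 = 1 ∧ (Y.1 1 0 - Y.1 0 1) ^ 2 = 1}

omit [Fintype F] in
theorem comm_X0_iff (Y : SL2) : Y * X0 = X0 * Y ↔ Y ∈ (SC : Set SL2) := by
  constructor
  · intro h
    have e00 := congrArg (fun g : SL2 => g.1 0 0) h
    have e01 := congrArg (fun g : SL2 => g.1 0 1) h
    simp only [mul_00, mul_01, X0_00, X0_01, X0_10, X0_11] at e00 e01
    exact ⟨by linear_combination -e01, by linear_combination -e00⟩
  · rintro ⟨h1, h2⟩
    apply ext4 <;> simp only [mul_00, mul_01, mul_10, mul_11, X0_00, X0_01, X0_10, X0_11, h1, h2] <;>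
      ring

omit [Fintype F] in
theorem anti_X0_iff (Y : SL2) :
    Y * X0 = -(X0 * Y) ↔ (Y ∈ (SA : Set SL2) ∧ Y ∈ (SB : Set SL2)) := by
  constructor
  · intro h
    have e00 := congrArg (fun g : SL2 => g.1 0 0) h
    have e01 := congrArg (fun g : SL2 => g.1 0 1) h
    simp only [mul_00, mul_01, neg_00, neg_01, X0_00, X0_01, X0_10, X0_11] at e00 e01
    refine ⟨?_, ?_⟩
    · show tr Y = 0
      unfold tr
      linear_combination e01
    · show Y.1 1 0 = Y.1 0 1
      linear_combination e00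
  · rintro ⟨h1, h2⟩
    have h1' : Y.1 0 0 + Y.1 1 1 = 0 := h1
    have h2' : Y.1 1 0 = Y.1 0 1 := h2
    apply ext4 <;> simp only [mul_00, mul_01, mul_10, mul_11, neg_00, neg_01, neg_10, neg_11,
      X0_00, X0_01, X0_10, X0_11, h2']
    · ring
    · linear_combination h1'
    · linear_combination -h1'
    · ring

theorem solv_X0 (p : ℕ) (hp : p.Prime) (hodd : Odd p) (hq : Fintype.card F = 3 ^ p) (Y : SL2) :
    Solv X0 Y ↔ (Y ∈ (SA : Set SL2) ∨ Y ∈ (SB : Set SL2) ∨ Y ∈ (SC : Set SL2) ∨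
      Y ∈ (SD : Set SL2)) := by
  have h3 := three_eq_zero p hp hq
  have h2 := two_ne_zero3 h3
  have hns := neg_one_nonsq p hodd hq
  rw [solv_iff p hp hodd hq]
  constructor
  · rintro (⟨g, hX, -⟩ | h | ⟨-, h | h⟩ | h)
    · exfalso
      apply hns ((g⁻¹ * X0 * g).1 0 0)
      have htr : tr (g⁻¹ * X0 * g) = 0 := by
        have : g⁻¹ * X0 * g = g⁻¹ * X0 * g⁻¹⁻¹ := by rw [inv_inv]
        rw [this, tr_conj, tr_X0]
      have hd := det_eq (g⁻¹ * X0 * g)
      rw [hX, mul_zero, sub_zero] at hd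
      unfold tr at htr
      linear_combination -hd + (g⁻¹ * X0 * g).1 0 0 * htr
    · unfold Nrm at h
      rw [X0_inv] at h
      rcases h with h | h | h | h
      · exact Or.inr (Or.inr (Or.inl ((comm_X0_iff Y).1 h)))
      · exact Or.inl ((anti_X0_iff Y).1 h).1
      · rw [neg_mul] at h
        exact Or.inl ((anti_X0_iff Y).1 h).1
      · rw [neg_mul, neg_neg] at h
        exact Or.inr (Or.inr (Or.inl ((comm_X0_iff Y).1 h)))
    · exact Or.inl h
    · right; left
      rw [tr_X0_mul] at h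
      show Y.1 1 0 = Y.1 0 1
      linear_combination h
    · rcases h with ⟨-, hy, hz⟩ | ⟨hx, -, -⟩ | ⟨hx, -, -⟩
      · right; right; right
        rw [tr_X0_mul] at hz
        exact ⟨hy, hz⟩
      · exfalso
        rw [tr_X0] at hx
        norm_num at hx
      · exfalso
        rw [tr_X0] at hx
        norm_num at hx
  · rintro (h | h | h | h)
    · exact Or.inr (Or.inr (Or.inl ⟨tr_X0, Or.inl h⟩))
    · refine Or.inr (Or.inr (Or.inl ⟨tr_X0, Or.inr ?_⟩))
      rw [tr_X0_mul]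
      have : Y.1 1 0 = Y.1 0 1 := h
      rw [this, sub_self]
    · exact Or.inr (Or.inl (Or.inl ((comm_X0_iff Y).2 h)))
    · refine Or.inr (Or.inr (Or.inr (Or.inl ⟨tr_X0, h.1, ?_⟩)))
      rw [tr_X0_mul]
      exact h.2

/-- parametrization of the trace zero matrices -/
def phiA (hns : ∀ a : F, a ^ 2 ≠ -1) (x : F × Fˣ) : SL2 :=
  ⟨!![x.1, (x.2 : F); -(1 + x.1 ^ 2) * ((x.2⁻¹ : Fˣ) : F), -x.1], by
    rw [Matrix.det_fin_two_of]
    have h1 : (x.2 : F) * ((x.2⁻¹ : Fˣ) : F) = 1 := by simp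
    linear_combination (1 + x.1 ^ 2) * h1⟩

omit [Fintype F] in
theorem phiA_injective (hns : ∀ a : F, a ^ 2 ≠ -1) : Function.Injective (phiA hns) := by
  rintro ⟨a, b⟩ ⟨a', b'⟩ h
  have e00 := congrArg (fun g : SL2 => g.1 0 0) h
  have e01 := congrArg (fun g : SL2 => g.1 0 1) h
  simp only [phiA, Matrix.of_apply, Matrix.cons_val', Matrix.cons_val_zero, Matrix.cons_val_one,
    Matrix.empty_val', Matrix.cons_val_fin_one] at e00 e01
  exact Prod.ext e00 (Units.ext e01)

omit [Fintype F] in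
theorem range_phiA (hns : ∀ a : F, a ^ 2 ≠ -1) : Set.range (phiA hns) = (SA : Set SL2) := by
  ext Y
  constructor
  · rintro ⟨⟨a, b⟩, rfl⟩
    show a + -a = 0
    ring
  · intro hY
    have hY' : Y.1 0 0 + Y.1 1 1 = 0 := hY
    have hd := det_eq Y
    have h01 : Y.1 0 1 ≠ 0 := by
      intro h
      apply hns (Y.1 0 0)
      rw [h, zero_mul, sub_zero] at hd
      linear_combination -hd + Y.1 0 0 * hY'
    refine ⟨(Y.1 0 0, Units.mk0 _ h01), ?_⟩
    apply ext4
    · rfl
    · rfl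
    · show -(1 + Y.1 0 0 ^ 2) * ((Units.mk0 (Y.1 0 1) h01)⁻¹ : Fˣ).1 = Y.1 1 0
      rw [Units.val_inv_eq_inv_val, Units.val_mk0]
      field_simp
      linear_combination hd - Y.1 0 0 * hY'
    · show -Y.1 0 0 = Y.1 1 1
      linear_combination -hY'

theorem ncard_SA (hns : ∀ a : F, a ^ 2 ≠ -1) :
    (SA : Set SL2).ncard = Fintype.card F * (Fintype.card F - 1) := by
  rw [← range_phiA hns, ← Set.image_univ, Set.ncard_image_of_injective _ (phiA_injective hns),
    Set.ncard_univ, Nat.card_prod, Nat.card_units, Nat.card_eq_fintype_card]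

theorem ncard_SB (hns : ∀ a : F, a ^ 2 ≠ -1) :
    (SB : Set SL2).ncard = Fintype.card F * (Fintype.card F - 1) := by
  have hset : (SB : Set SL2) = (fun Z : SL2 => X0⁻¹ * Z) '' (SA : Set SL2) := by
    ext Y
    constructor
    · intro h
      refine ⟨X0 * Y, ?_, by group⟩
      show tr (X0 * Y) = 0
      rw [tr_X0_mul]
      have : Y.1 1 0 = Y.1 0 1 := h
      rw [this, sub_self]
    · rintro ⟨Z, hZ, rfl⟩
      have hZ' : tr Z = 0 := hZ
      show (X0⁻¹ * Z).1 1 0 = (X0⁻¹ * Z).1 0 1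
      unfold tr at hZ'
      simp only [mul_10, mul_01, inv_00, inv_01, inv_10, inv_11, X0_00, X0_01, X0_10, X0_11]
      linear_combination hZ'
  rw [hset, Set.ncard_image_of_injective _ (mul_right_injective _), ncard_SA hns]

omit [Fintype F] in
theorem X0_nonScalar (h2 : (2 : F) ≠ 0) : NonScalar (X0 : SL2) := by
  rintro ⟨a, ha⟩
  have := congrFun (congrFun ha 0) 1
  rw [X0_01] at this
  simp at this

omit [Fintype F] in
theorem X0_trace : (X0 : SL2).1.trace = 0 := by
  rw [← tr_eq_trace, tr_X0]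

omit [Fintype F] in
theorem X0_hss (h3 : (3 : F) = 0) : (X0 : SL2).1.trace ^ 2 ≠ 4 := by
  rw [X0_trace]
  intro h
  have : (1 : F) = 0 := by linear_combination -h - h3
  exact one_ne_zero this

omit [Fintype F] in
theorem X0_hirr (hns : ∀ a : F, a ^ 2 ≠ -1) :
    ∀ a : F, a ^ 2 - (X0 : SL2).1.trace * a + 1 ≠ 0 := by
  intro a h
  rw [X0_trace] at h
  apply hns a
  linear_combination h

omit [Fintype F] in
theorem SC_eq : (SC : Set SL2) = ((Tor X0 : Subgroup SL2) : Set SL2) := by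
  ext Y
  rw [SetLike.mem_coe, mem_Tor, comm_X0_iff]

theorem ncard_SC (h3 : (3 : F) = 0) (hns : ∀ a : F, a ^ 2 ≠ -1) :
    (SC : Set SL2).ncard = Fintype.card F + 1 := by
  have h2 := two_ne_zero3 h3
  have hT := card_Tor_nonsplit (X0 : SL2) (X0_nonScalar h2) (X0_hss h3) (X0_hirr hns)
  have e' : Nat.card (Tor (X0 : SL2)) = Nat.card ((Tor X0 : Subgroup SL2) : Set SL2) := rfl
  rw [SC_eq, ← Nat.card_coe_set_eq, ← e', hT]

theorem ncard_SAB (h3 : (3 : F) = 0) (hns : ∀ a : F, a ^ 2 ≠ -1) :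
    ((SA : Set SL2) ∩ (SB : Set SL2)).ncard = Fintype.card F + 1 := by
  have h2 := two_ne_zero3 h3
  have hset : (SA : Set SL2) ∩ (SB : Set SL2) = {Y : SL2 | Y * X0 * Y⁻¹ = X0⁻¹} := by
    ext Y
    rw [Set.mem_inter_iff, ← anti_X0_iff, Set.mem_ofPred_eq, X0_inv]
    constructor
    · intro h
      rw [h, neg_mul, mul_inv_cancel_right]
    · intro h
      calc Y * X0 = (Y * X0 * Y⁻¹) * Y := by group
        _ = -(X0 * Y) := by rw [h, neg_mul]
  rw [hset]
  exact ncard_inverting_ns (X0 : SL2) (X0_nonScalar h2) (X0_hss h3) (X0_hirr hns)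

omit [Fintype F] in
theorem SABC_eq (h2 : (2 : F) ≠ 0) :
    ((SA : Set SL2) ∪ (SB : Set SL2)) ∩ (SC : Set SL2) = {1, -1, X0, -X0} := by
  ext Y
  simp only [Set.mem_inter_iff, Set.mem_union, Set.mem_insert_iff, Set.mem_singleton_iff]
  constructor
  · rintro ⟨h | h, h11, h10⟩
    · have h' : Y.1 0 0 + Y.1 1 1 = 0 := h
      have hd := det_eq Y
      have h00 : Y.1 0 0 = 0 := by
        rw [h11] at h'
        have : (2 : F) * Y.1 0 0 = 0 := by linear_combination h'
        exact (mul_eq_zero.1 this).resolve_left h2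
      rw [h00] at h11
      rw [h00, h11, h10, zero_mul, zero_sub] at hd
      have h4 : (Y.1 0 1 - 1) * (Y.1 0 1 + 1) = 0 := by linear_combination hd
      rcases mul_eq_zero.1 h4 with h5 | h5
      · right; right; left
        apply ext4 <;> simp only [X0_00, X0_01, X0_10, X0_11, h00, h11, h10]
        · linear_combination h5
        · linear_combination -h5
      · right; right; right
        apply ext4 <;> simp only [neg_00, neg_01, neg_10, neg_11, X0_00, X0_01, X0_10, X0_11,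
          h00, h11, h10]
        · ring
        · linear_combination h5
        · linear_combination -h5
        · ring
    · have h' : Y.1 1 0 = Y.1 0 1 := h
      have hd := det_eq Y
      have h01 : Y.1 0 1 = 0 := by
        rw [h10] at h'
        have : (2 : F) * Y.1 0 1 = 0 := by linear_combination -h'
        exact (mul_eq_zero.1 this).resolve_left h2
      rw [h01, neg_zero] at h10
      rw [h01, h11, h10, zero_mul, sub_zero] at hd
      have h4 : (Y.1 0 0 - 1) * (Y.1 0 0 + 1) = 0 := by linear_combination hd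
      rcases mul_eq_zero.1 h4 with h5 | h5
      · left
        apply ext4 <;> simp only [one_00, one_01, one_10, one_11, h01, h11, h10]
        · linear_combination h5
        · linear_combination h5
      · right; left
        apply ext4 <;> simp only [neg_00, neg_01, neg_10, neg_11, one_00, one_01, one_10, one_11,
          h01, h11, h10]
        · linear_combination h5
        · ring
        · ring
        · linear_combination h5
  · rintro (rfl | rfl | rfl | rfl)
    · refine ⟨Or.inr ?_, ?_, ?_⟩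
      · show (1 : SL2).1 1 0 = (1 : SL2).1 0 1
        rw [one_10, one_01]
      · rw [one_11, one_00]
      · rw [one_10, one_01, neg_zero]
    · refine ⟨Or.inr ?_, ?_, ?_⟩
      · show (-1 : SL2).1 1 0 = (-1 : SL2).1 0 1
        rw [neg_10, neg_01, one_10, one_01]
      · rw [neg_11, neg_00, one_11, one_00]
      · simp only [neg_10, neg_01, one_10, one_01, neg_zero]
    · refine ⟨Or.inl tr_X0, ?_, ?_⟩
      · rw [X0_11, X0_00]
      · rw [X0_10, X0_01]
    · refine ⟨Or.inl ?_, ?_, ?_⟩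
      · show tr (-X0 : SL2) = 0
        rw [tr_neg, tr_X0, neg_zero]
      · rw [neg_11, neg_00, X0_11, X0_00]
      · rw [neg_10, neg_01, X0_10, X0_01]

theorem ncard_SABC (h2 : (2 : F) ≠ 0) :
    (((SA : Set SL2) ∪ (SB : Set SL2)) ∩ (SC : Set SL2)).ncard = 4 := by
  rw [SABC_eq h2]
  have hne1 : (1 : SL2) ≠ -1 := (Cfsg.Agent.S2431.negOne_ne_one h2).symm
  have hX1 : ∀ ε : F, (X0 : SL2).1 0 1 ≠ 0 := by
    intro ε; rw [X0_01]; exact one_ne_zero
  have h1 : (1 : SL2) ≠ X0 := by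
    intro h
    have := congrArg (fun g : SL2 => g.1 0 1) h
    simp only [one_01, X0_01] at this
    exact zero_ne_one this
  have h1' : (1 : SL2) ≠ -X0 := by
    intro h
    have := congrArg (fun g : SL2 => g.1 0 1) h
    simp only [one_01, neg_01, X0_01] at this
    have : (1 : F) = 0 := by linear_combination this
    exact one_ne_zero this
  have h2' : (-1 : SL2) ≠ X0 := by
    intro h
    have := congrArg (fun g : SL2 => g.1 0 1) h
    simp only [neg_01, one_01, X0_01, neg_zero] at this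
    exact zero_ne_one this
  have h2'' : (-1 : SL2) ≠ -X0 := by
    intro h
    have := congrArg (fun g : SL2 => g.1 0 1) h
    simp only [neg_01, one_01, X0_01, neg_zero] at this
    have : (1 : F) = 0 := by linear_combination this
    exact one_ne_zero this
  have h3' : (X0 : SL2) ≠ -X0 := by
    intro h
    have := congrArg (fun g : SL2 => g.1 0 1) h
    simp only [neg_01, X0_01] at this
    apply h2
    linear_combination this
  rw [Set.ncard_insert_of_notMem, Set.ncard_insert_of_notMem, Set.ncard_pair h3']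
  · simp only [Set.mem_insert_iff, Set.mem_singleton_iff, not_or]
    exact ⟨h2', h2''⟩
  · simp only [Set.mem_insert_iff, Set.mem_singleton_iff, not_or]
    exact ⟨hne1, h1, h1'⟩

omit [Fintype F] in
theorem card_sq_one (h2 : (2 : F) ≠ 0) : Nat.card {s : F // s ^ 2 = 1} = 2 := by
  have hset : {s : F | s ^ 2 = 1} = {1, -1} := by
    ext c
    simp only [Set.mem_ofPred_eq, Set.mem_insert_iff, Set.mem_singleton_iff]
    constructor
    · intro h
      have h1 : (c - 1) * (c + 1) = 0 := by linear_combination h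
      rcases mul_eq_zero.1 h1 with h4 | h4
      · left; linear_combination h4
      · right; linear_combination h4
    · rintro (rfl | rfl) <;> ring
  have hne : (1 : F) ≠ -1 := by
    intro h
    apply h2
    linear_combination h
  show Nat.card ↥{s : F | s ^ 2 = 1} = 2
  rw [hset, Nat.card_coe_set_eq, Set.ncard_pair hne]

omit [Fintype F] in
theorem Tor_X0_entries (τ : ↥(Tor (X0 : SL2))) :
    τ.1.1 1 1 = τ.1.1 0 0 ∧ τ.1.1 1 0 = -τ.1.1 0 1 ∧ τ.1.1 0 0 ^ 2 + τ.1.1 0 1 ^ 2 = 1 := by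
  have h := (comm_X0_iff τ.1).1 ((mem_Tor _ _).1 τ.2)
  obtain ⟨h1, h2⟩ := h
  refine ⟨h1, h2, ?_⟩
  have hd := det_eq τ.1
  rw [h1, h2] at hd
  linear_combination hd

/-- parametrization of `SD` -/
def psiD (x : ↥(Tor (X0 : SL2)) × {s : F // s ^ 2 = 1} × {t : F // t ^ 2 = 1}) : SL2 :=
  ⟨!![-x.2.1.1 - x.1.1.1 0 0, x.1.1.1 0 1 + x.2.2.1; x.1.1.1 0 1 - x.2.2.1,
    x.1.1.1 0 0 - x.2.1.1], by
    rw [Matrix.det_fin_two_of]
    have h := (Tor_X0_entries x.1).2.2
    linear_combination -h + x.2.1.2 + x.2.2.2⟩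

omit [Fintype F] in
theorem psiD_injective (h2 : (2 : F) ≠ 0) : Function.Injective (psiD (F := F)) := by
  rintro ⟨τ, ⟨s, hs⟩, ⟨t, ht⟩⟩ ⟨τ', ⟨s', hs'⟩, ⟨t', ht'⟩⟩ h
  have e00 := congrArg (fun g : SL2 => g.1 0 0) h
  have e01 := congrArg (fun g : SL2 => g.1 0 1) h
  have e10 := congrArg (fun g : SL2 => g.1 1 0) h
  have e11 := congrArg (fun g : SL2 => g.1 1 1) h
  simp only [psiD, Matrix.of_apply, Matrix.cons_val', Matrix.cons_val_zero, Matrix.cons_val_one,
    Matrix.empty_val', Matrix.cons_val_fin_one] at e00 e01 e10 e11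
  have hss : s = s' := by
    have : (2 : F) * (s - s') = 0 := by linear_combination -e00 - e11
    have := (mul_eq_zero.1 this).resolve_left h2
    linear_combination this
  have htt : t = t' := by
    have : (2 : F) * (t - t') = 0 := by linear_combination e01 - e10
    have := (mul_eq_zero.1 this).resolve_left h2
    linear_combination this
  subst hss
  subst htt
  have hu : τ.1.1 0 0 = τ'.1.1 0 0 := by linear_combination e11
  have hv : τ.1.1 0 1 = τ'.1.1 0 1 := by linear_combination e01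
  obtain ⟨a1, a2, -⟩ := Tor_X0_entries τ
  obtain ⟨b1, b2, -⟩ := Tor_X0_entries τ'
  have : τ = τ' := by
    apply Subtype.ext
    apply ext4
    · exact hu
    · exact hv
    · rw [a2, b2, hv]
    · rw [a1, b1, hu]
  rw [this]

omit [Fintype F] in
theorem range_psiD (h3 : (3 : F) = 0) : Set.range (psiD (F := F)) = (SD : Set SL2) := by
  ext Y
  constructor
  · rintro ⟨⟨τ, ⟨s, hs⟩, ⟨t, ht⟩⟩, rfl⟩
    constructor
    · show ((-s - τ.1.1 0 0) + (τ.1.1 0 0 - s)) ^ 2 = 1
      linear_combination 4 * hs + h3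
    · show ((τ.1.1 0 1 - t) - (τ.1.1 0 1 + t)) ^ 2 = 1
      linear_combination 4 * ht + h3
  · rintro ⟨hs, ht⟩
    unfold tr at hs
    have hd := det_eq Y
    have huv : (Y.1 0 0 - Y.1 1 1) * (Y.1 0 0 - Y.1 1 1) -
        (-(Y.1 0 1 + Y.1 1 0)) * (Y.1 0 1 + Y.1 1 0) = 1 := by
      linear_combination hs + ht - 4 * hd - h3
    set τ0 : SL2 := ⟨!![Y.1 0 0 - Y.1 1 1, -(Y.1 0 1 + Y.1 1 0); Y.1 0 1 + Y.1 1 0,
      Y.1 0 0 - Y.1 1 1], by rw [Matrix.det_fin_two_of]; exact huv⟩ with hτ0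
    have hmem : τ0 ∈ Tor (X0 : SL2) := by
      rw [mem_Tor, comm_X0_iff]
      refine ⟨rfl, ?_⟩
      show Y.1 0 1 + Y.1 1 0 = - -(Y.1 0 1 + Y.1 1 0)
      ring
    refine ⟨(⟨τ0, hmem⟩, ⟨Y.1 0 0 + Y.1 1 1, hs⟩, ⟨Y.1 1 0 - Y.1 0 1, ht⟩), ?_⟩
    apply ext4
    · show -(Y.1 0 0 + Y.1 1 1) - (Y.1 0 0 - Y.1 1 1) = Y.1 0 0
      linear_combination (-Y.1 0 0) * h3
    · show -(Y.1 0 1 + Y.1 1 0) + (Y.1 1 0 - Y.1 0 1) = Y.1 0 1
      linear_combination (-Y.1 0 1) * h3
    · show -(Y.1 0 1 + Y.1 1 0) - (Y.1 1 0 - Y.1 0 1) = Y.1 1 0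
      linear_combination (-Y.1 1 0) * h3
    · show (Y.1 0 0 - Y.1 1 1) - (Y.1 0 0 + Y.1 1 1) = Y.1 1 1
      linear_combination (-Y.1 1 1) * h3

theorem ncard_SD (h3 : (3 : F) = 0) (hns : ∀ a : F, a ^ 2 ≠ -1) :
    (SD : Set SL2).ncard = 4 * (Fintype.card F + 1) := by
  have h2 := two_ne_zero3 h3
  have hT := card_Tor_nonsplit (X0 : SL2) (X0_nonScalar h2) (X0_hss h3) (X0_hirr hns)
  rw [← range_psiD h3, ← Set.image_univ, Set.ncard_image_of_injective _ (psiD_injective h2),
    Set.ncard_univ, Nat.card_prod, Nat.card_prod, card_sq_one h2, hT]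
  ring

theorem card_solv_X0 (p : ℕ) (hp : p.Prime) (hodd : Odd p) (hq : Fintype.card F = 3 ^ p) :
    Nat.card {Y : SL2 // Solv X0 Y} = 2 * (3 ^ p * (3 ^ p + 1)) := by
  classical
  have h3 := three_eq_zero p hp hq
  have h2 := two_ne_zero3 h3
  have hns := neg_one_nonsq p hodd hq
  have hset : {Y : SL2 | Solv X0 Y} =
      (((SA : Set SL2) ∪ (SB : Set SL2)) ∪ (SC : Set SL2)) ∪ (SD : Set SL2) := by
    ext Y
    rw [Set.mem_ofPred_eq, solv_X0 p hp hodd hq, Set.mem_union, Set.mem_union, Set.mem_union,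
      or_assoc, or_assoc]
  have hd : Disjoint (((SA : Set SL2) ∪ (SB : Set SL2)) ∪ (SC : Set SL2)) (SD : Set SL2) := by
    rw [Set.disjoint_left]
    rintro Y ((hY | hY) | hY) ⟨h1, h2'⟩
    · have : tr Y = 0 := hY
      rw [this] at h1
      norm_num at h1
    · have : Y.1 1 0 = Y.1 0 1 := hY
      rw [this, sub_self] at h2'
      norm_num at h2'
    · obtain ⟨a1, a2⟩ := hY
      have hd := det_eq Y
      unfold tr at h1
      rw [a1] at h1 hd
      rw [a2] at h2' hd
      have : (2 : F) = 0 := by linear_combination h1 + h2' - 4 * hd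
      exact h2 this
  have e1 := Set.ncard_union_add_ncard_inter (SA : Set SL2) (SB : Set SL2)
  have e2 := Set.ncard_union_add_ncard_inter ((SA : Set SL2) ∪ (SB : Set SL2)) (SC : Set SL2)
  rw [ncard_SA hns, ncard_SB hns, ncard_SAB h3 hns] at e1
  rw [ncard_SABC h2, ncard_SC h3 hns] at e2
  show Nat.card ↥{Y : SL2 | Solv X0 Y} = _
  rw [Nat.card_coe_set_eq, hset, Set.ncard_union_eq hd, ncard_SD h3 hns]
  rw [hq] at e1 e2 ⊢
  have hpos : 1 ≤ 3 ^ p := Nat.one_le_pow _ _ (by norm_num)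
  obtain ⟨r, hr⟩ : ∃ r, 3 ^ p = r + 1 := ⟨3 ^ p - 1, by omega⟩
  rw [hr] at e1 e2 ⊢
  rw [Nat.add_sub_cancel] at e1
  have e3 : (r + 1) * (r + 1 + 1) = r * r + 3 * r + 2 := by ring
  have e4 : (r + 1) * r = r * r + r := by ring
  rw [e3]
  rw [e4] at e1
  omega

end invol

end Cfsg.Agent.H9.Sol3
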