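import Mathlib
import Cfsg.Agent.H9.Sol3H
import Cfsg.Agent.H9.SL2OddCls

set_option autoImplicit false

/-! Solubilizers in `PSL₂(3^p)`: the four counts in `PSL₂`. -/

namespace Cfsg.Agent.H9.Sol3

open Matrix Subgroup
open Cfsg.Agent.H9.AutPSL2
open Cfsg.Agent.H9.DicksonUN
open Cfsg.Agent.H9.Solubilizer
open Cfsg.Agent.H9.PSL2Borel
open Cfsg.Agent.H9.PSL2Tori
open Cfsg.Agent.H9.DicksonSS
open Cfsg.Agent.H9.KleinPSL2 (X0)

universe u

section general

theorem solvable_map {G G' : Type*} [Group G] [Group G'] (E : G ≃* G') (x y : G) :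
    Group.IsSolvable (closure ({E x, E y} : Set G')) ↔
      Group.IsSolvable (closure ({x, y} : Set G)) := by
  have h : closure ({E x, E y} : Set G') = (closure ({x, y} : Set G)).map (E : G →* G') := by
    rw [MonoidHom.map_closure, Set.image_pair]; rfl
  rw [h]
  let e := E.subgroupMap (closure ({x, y} : Set G))
  constructor
  · intro hs
    exact Group.isSolvable_of_surjective (f := e.symm.toMonoidHom) e.symm.surjective
  · intro hs
    exact Group.isSolvable_of_surjective (f := e.toMonoidHom) e.surjective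

theorem card_solvable_map {G G' : Type*} [Group G] [Group G'] (E : G ≃* G') (x : G) :
    Nat.card {y' : G' // Group.IsSolvable (closure ({E x, y'} : Set G'))} =
      Nat.card {y : G // Group.IsSolvable (closure ({x, y} : Set G))} :=
  (Nat.card_congr (E.toEquiv.subtypeEquiv (fun y => (solvable_map E x y).symm))).symm

end general

section counts

variable {F : Type u} [Field F] [Fintype F]

local notation "SL2" => Matrix.SpecialLinearGroup (Fin 2) F
local notation "PSL2" => Matrix.ProjectiveSpecialLinearGroup (Fin 2) F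

/-- the solubilizer of `pr X` in `PSL₂` -/
def SolP (X : SL2) : Type u :=
  {y : PSL2 // Group.IsSolvable (closure ({pr X, y} : Set PSL2))}

omit [Fintype F] in
theorem card_SolP_conj (g X : SL2) : Nat.card (SolP (g * X * g⁻¹)) = Nat.card (SolP X) := by
  have := card_solvable_map (MulAut.conj (pr g : PSL2)) (pr X)
  rw [MulAut.conj_apply, ← map_inv, ← map_mul, ← map_mul] at this
  exact this

omit [Fintype F] in
theorem card_SolP_neg (X : SL2) : Nat.card (SolP (-X)) = Nat.card (SolP X) := by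
  unfold SolP
  rw [pr_neg]

theorem card_SolP (h2 : (2 : F) ≠ 0) (X : SL2) :
    Nat.card {Y : SL2 // Solv X Y} = 2 * Nat.card (SolP X) :=
  card_solv_lift h2 X

omit [Fintype F] in
theorem nonScalar_of_pr_ne (X : SL2) (h : (pr X : PSL2) ≠ 1) : NonScalar X := by
  apply nonScalar_of_not_mem_center
  intro hc
  apply h
  rw [pr_eq_one_iff]
  exact (mem_center_iff' X).1 hc

/-- involutions -/
theorem card_SolP_invol (p : ℕ) (hp : p.Prime) (hodd : Odd p) (hq : Fintype.card F = 3 ^ p)
    (X : SL2) (ho : orderOf (pr X : PSL2) = 2) :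
    Nat.card (SolP X) = 3 ^ p * (3 ^ p + 1) := by
  have h3 := three_eq_zero p hp hq
  have h2 := two_ne_zero3 h3
  have hns := neg_one_nonsq p hodd hq
  have hx1 : (pr X : PSL2) ≠ 1 := by
    intro h
    rw [h, orderOf_one] at ho
    omega
  have hx2 : (pr X : PSL2) ^ 2 = 1 := by
    have := pow_orderOf_eq_one (pr X : PSL2)
    rwa [ho] at this
  have htr : tr X = 0 := by
    rcases of_pr_sq h2 X hx2 with h | h | h
    · exfalso; apply hx1; rw [h, map_one]
    · exfalso; apply hx1; rw [pr_eq_one_iff]; exact Or.inr h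
    · exact h
  have hX := nonScalar_of_pr_ne X hx1
  have hoddq : Fintype.card F % 2 = 1 := by
    have := card_mod4 p hodd
    rw [hq]; omega
  have hconj : IsConj X (X0 : SL2) := by
    apply Cfsg.Agent.H9.SL2OddCls.isConj_of_trace_eq hoddq X X0 hX (X0_nonScalar h2)
    · rw [X0_trace, ← tr_eq_trace, htr]
    · exact X0_hss h3
  rw [isConj_iff] at hconj
  obtain ⟨c, hc⟩ := hconj
  have e1 := card_SolP_conj c X
  rw [hc] at e1
  have e2 := card_SolP h2 (X0 : SL2)
  rw [card_solv_X0 p hp hodd hq] at e2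
  omega

/-- elements of order three -/
theorem card_SolP_three (p : ℕ) (hp : p.Prime) (hodd : Odd p) (hq : Fintype.card F = 3 ^ p)
    (X : SL2) (ho : orderOf (pr X : PSL2) = 3) :
    2 * Nat.card (SolP X) = 3 ^ p * (3 ^ p + 5) := by
  have h3 := three_eq_zero p hp hq
  have h2 := two_ne_zero3 h3
  have hx1 : (pr X : PSL2) ≠ 1 := by
    intro h
    rw [h, orderOf_one] at ho
    omega
  have hx3 : (pr X : PSL2) ^ 3 = 1 := by
    have := pow_orderOf_eq_one (pr X : PSL2)
    rwa [ho] at this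
  have htr := of_pr_cube h3 X hx3
  -- reduce to trace two
  have key : ∀ Z : SL2, (pr Z : PSL2) ≠ 1 → Z.1.trace = 2 →
      2 * Nat.card (SolP Z) = 3 ^ p * (3 ^ p + 5) := by
    intro Z hZ1 hZt
    obtain ⟨m, c, hmc⟩ := exists_conj_u Z hZt
    have hc : c ≠ 0 := by
      rintro rfl
      apply hZ1
      rw [u_zero] at hmc
      have : Z = 1 := by
        calc Z = m⁻¹ * (m * Z * m⁻¹) * m := by group
          _ = 1 := by rw [hmc]; group
      rw [this, map_one]
    have e1 := card_SolP_conj m Z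
    rw [hmc] at e1
    rw [← e1, ← card_SolP h2, card_solv_u p hp hodd hq hc]
  have h4 : (tr X - 1) * (tr X + 1) = 0 := by linear_combination htr
  rcases mul_eq_zero.1 h4 with h5 | h5
  · rw [← card_SolP_neg]
    apply key
    · rw [pr_neg]; exact hx1
    · rw [← tr_eq_trace, tr_neg]
      linear_combination -h5 - h3
  · apply key X hx1
    rw [← tr_eq_trace]
    linear_combination h5 - h3

theorem dvd_two_of' (n q : ℕ) (hq : 1 ≤ q) (h1 : n ∣ q - 1) (h2 : n ∣ q + 1) : n ∣ 2 := by
  have := Nat.dvd_sub h2 h1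
  have e : q + 1 - (q - 1) = 2 := by omega
  rwa [e] at this

omit [Fintype F] in
theorem orderOf_dvd_card_Tor' [Finite F] (X : SL2) : orderOf X ∣ Nat.card (Tor X) := by
  have hmem : X ∈ Tor X := by rw [mem_Tor]
  have := orderOf_dvd_natCard (⟨X, hmem⟩ : Tor X)
  rwa [Subgroup.orderOf_mk] at this

omit [Fintype F] in
theorem order_facts (h3 : (3 : F) = 0) (p : ℕ) (hp : p.Prime) (X : SL2)
    (hx1 : (pr X : PSL2) ≠ 1)
    (hx2 : orderOf (pr X : PSL2) ≠ 2) (hd : orderOf (pr X : PSL2) ∣ 3 ^ p - 1 ∨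
      orderOf (pr X : PSL2) ∣ 3 ^ p + 1) : tr X ≠ 0 ∧ tr X ^ 2 ≠ 1 := by
  constructor
  · intro h
    have h4 := pr_sq_of_tr X h
    have h5 := orderOf_dvd_of_pow_eq_one h4
    rcases (Nat.dvd_prime Nat.prime_two).1 h5 with h6 | h6
    · exact hx1 (orderOf_eq_one_iff.1 h6)
    · exact hx2 h6
  · intro h
    have h4 := pr_cube_of_tr X h
    have h5 := orderOf_dvd_of_pow_eq_one h4
    rcases (Nat.dvd_prime Nat.prime_three).1 h5 with h6 | h6
    · exact hx1 (orderOf_eq_one_iff.1 h6)
    · rw [h6] at hd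
      have h7 : 3 ∣ 3 ^ p := dvd_pow_self 3 hp.pos.ne'
      have hpos : 1 ≤ 3 ^ p := Nat.one_le_pow _ _ (by norm_num)
      rcases hd with hd | hd
      · omega
      · omega

/-- split semisimple elements -/
theorem card_SolP_split (p : ℕ) (hp : p.Prime) (hodd : Odd p) (hq : Fintype.card F = 3 ^ p)
    (X : SL2) (hx1 : (pr X : PSL2) ≠ 1) (hx2 : orderOf (pr X : PSL2) ≠ 2)
    (hd : orderOf (pr X : PSL2) ∣ 3 ^ p - 1) :
    Nat.card (SolP X) = 3 ^ p * (3 ^ p - 1) := by
  have h3 := three_eq_zero p hp hq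
  have h2 := two_ne_zero3 h3
  obtain ⟨ht0, ht1⟩ := order_facts h3 p hp X hx1 hx2 (Or.inl hd)
  have hX := nonScalar_of_pr_ne X hx1
  have hss : X.1.trace ^ 2 ≠ 4 := by
    rw [← tr_eq_trace]
    intro h
    apply ht1
    linear_combination h + h3
  have hpos : 1 ≤ 3 ^ p := Nat.one_le_pow _ _ (by norm_num)
  have hroot : ∃ lam : F, lam ^ 2 - X.1.trace * lam + 1 = 0 := by
    by_contra hcon
    push Not at hcon
    have hT := card_Tor_nonsplit X hX hss hcon
    have h1 := orderOf_dvd_card_Tor' X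
    rw [hT, hq] at h1
    have h4 : orderOf (pr X : PSL2) ∣ orderOf X := orderOf_map_dvd _ X
    have h5 := dvd_two_of' _ _ hpos hd (h4.trans h1)
    rcases (Nat.dvd_prime Nat.prime_two).1 h5 with h6 | h6
    · exact hx1 (orderOf_eq_one_iff.1 h6)
    · exact hx2 h6
  obtain ⟨lam, hlam⟩ := hroot
  obtain ⟨g, e, he, hg⟩ := exists_conj_dg_of_root X hX hss lam hlam
  have e1 := card_SolP_conj g X
  rw [hg] at e1
  have e2 := card_SolP h2 (dg e)
  rw [card_solv_dg p hp hodd hq e he] at e2
  rw [← e1]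
  have : 2 * (3 ^ p * (3 ^ p - 1)) = 2 * Nat.card (SolP (dg e)) := by
    rw [← e2]; ring
  omega

/-- nonsplit semisimple elements -/
theorem card_SolP_nonsplit (p : ℕ) (hp : p.Prime) (hodd : Odd p) (hq : Fintype.card F = 3 ^ p)
    (X : SL2) (hx1 : (pr X : PSL2) ≠ 1) (hx2 : orderOf (pr X : PSL2) ≠ 2)
    (hd : orderOf (pr X : PSL2) ∣ 3 ^ p + 1) :
    Nat.card (SolP X) = 3 ^ p + 1 := by
  have h3 := three_eq_zero p hp hq
  have h2 := two_ne_zero3 h3
  obtain ⟨ht0, ht1⟩ := order_facts h3 p hp X hx1 hx2 (Or.inr hd)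
  have hX := nonScalar_of_pr_ne X hx1
  have hss : X.1.trace ^ 2 ≠ 4 := by
    rw [← tr_eq_trace]
    intro h
    apply ht1
    linear_combination h + h3
  have hpos : 1 ≤ 3 ^ p := Nat.one_le_pow _ _ (by norm_num)
  have hirr : ∀ a : F, a ^ 2 - X.1.trace * a + 1 ≠ 0 := by
    intro lam hlam
    have hT := card_Tor_split X hX hss lam hlam
    have h1 := orderOf_dvd_card_Tor' X
    rw [hT, hq] at h1
    have h4 : orderOf (pr X : PSL2) ∣ orderOf X := orderOf_map_dvd _ X
    have h5 := dvd_two_of' _ _ hpos (h4.trans h1) hd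
    rcases (Nat.dvd_prime Nat.prime_two).1 h5 with h6 | h6
    · exact hx1 (orderOf_eq_one_iff.1 h6)
    · exact hx2 h6
  have e2 := card_SolP h2 X
  rw [card_solv_ns p hp hodd hq X hX hirr ht0 ht1] at e2
  omega

end counts

end Cfsg.Agent.H9.Sol3
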