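import Mathlib
import Cfsg.Agent.Lib.Lead.PauliFormA

set_option autoImplicit false
set_option linter.style.haveILetI false
set_option linter.unusedSectionVars false

/-! Abstract group theory: a finite `2`-group of exponent `4` with centre of order `2` all of
whose characteristic abelian subgroups are cyclic has central squares and commutators
(it is extraspecial).  The first part generalizes the counting argument of
`Cfsg.Agent.Lib.Lead.PauliForm.omegaCenterSub_eq_top`. -/

namespace Cfsg.Agent.H9.Sp4

open Subgroup
open scoped commutatorElement
open Cfsg.Agent.Lib.Lead.PauliForm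

section general

variable {G : Type*} [Group G] [Finite G]

/-- if the centre of `omegaCenterSub G` is the centre of `G`, then `omegaCenterSub G = ⊤` -/
theorem omegaCenterSub_eq_top_of (hp : IsPGroup 2 G) (hcyc : IsCyclic (center G))
    (hDZ : omegaCenterSub G ⊓ centralizer (omegaCenterSub G : Set G) = center G) :
    omegaCenterSub G = ⊤ := by
  classical
  obtain ⟨C, hC⟩ : ∃ C, C = omegaCenterSub G := ⟨_, rfl⟩
  rw [← hC] at hDZ ⊢
  -- the centraliser of `C` is the centre
  have hQ : centralizer (C : Set G) = center G := by
    apply le_antisymm _ (center_le_centralizer _)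
    intro q hq
    by_contra hqZ
    let π := QuotientGroup.mk' (center G)
    have hCchar : C.Characteristic := by rw [hC]; infer_instance
    have hQn : (centralizer (C : Set G)).Normal := inferInstance
    let Qbar := (centralizer (C : Set G)).map π
    haveI : Qbar.Normal := Subgroup.Normal.map hQn π (QuotientGroup.mk'_surjective (center G))
    have hQbar : Qbar ≠ ⊥ := by
      intro h
      have h1 : π q ∈ Qbar := Subgroup.mem_map_of_mem π hq
      rw [h, Subgroup.mem_bot] at h1
      exact hqZ ((QuotientGroup.eq_one_iff q).mp h1)
    have hpq : IsPGroup 2 (G ⧸ center G) := hp.to_quotient (center G)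
    haveI : Fact (Nat.Prime 2) := ⟨Nat.prime_two⟩
    obtain ⟨z, hzQ, hzZ, hz1⟩ := Cfsg.Agent.Lib.Lead.PGroup.exists_mem_center_of_normal hpq Qbar hQbar
    obtain ⟨k, hk⟩ := (IsPGroup.iff_orderOf.mp hpq) z
    have hk0 : k ≠ 0 := by
      intro h
      rw [h, pow_zero, orderOf_eq_one_iff] at hk
      exact hz1 hk
    obtain ⟨m, rfl⟩ : ∃ m, k = m + 1 := Nat.exists_eq_succ_of_ne_zero hk0
    obtain ⟨w, hw⟩ : ∃ w, w = z ^ (2 ^ m) := ⟨_, rfl⟩
    have hw2 : w ^ 2 = 1 := by
      rw [hw, ← pow_mul, ← pow_succ, ← hk]
      exact pow_orderOf_eq_one z
    have hw1 : w ≠ 1 := by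
      intro h
      rw [hw] at h
      have h1 := orderOf_dvd_of_pow_eq_one h
      rw [hk] at h1
      have h2 := Nat.le_of_dvd (by positivity) h1
      have h3 : 2 ^ m < 2 ^ (m + 1) := Nat.pow_lt_pow_right (by norm_num) (Nat.lt_succ_self m)
      omega
    have hwQ : w ∈ Qbar := by rw [hw]; exact pow_mem hzQ _
    have hwZ : w ∈ center (G ⧸ center G) := by rw [hw]; exact pow_mem hzZ _
    obtain ⟨x, hxQ, hxw⟩ := Subgroup.mem_map.mp hwQ
    have hxC : x ∈ C := by
      rw [hC]
      refine ⟨?_, fun y => ?_⟩
      · rw [← QuotientGroup.eq_one_iff]
        show π (x ^ 2) = 1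
        rw [map_pow, hxw, hw2]
      · rw [← QuotientGroup.eq_one_iff]
        show π ⁅x, y⁆ = 1
        rw [map_commutatorElement, hxw, commutatorElement_eq_one_iff_commute]
        exact (Subgroup.mem_center_iff.mp hwZ (π y)).symm
    have hxD : x ∈ C ⊓ centralizer (C : Set G) := Subgroup.mem_inf.mpr ⟨hxC, hxQ⟩
    rw [hDZ] at hxD
    apply hw1
    rw [← hxw]
    exact (QuotientGroup.eq_one_iff x).mpr hxD
  -- the chain argument
  have key : ∀ T : Finset G, (∀ t ∈ T, t ∈ C) →
      (centralizer ((center G : Set G) ∪ ↑T)).index * Nat.card (center G)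
        ≤ Nat.card (closure ((center G : Set G) ∪ ↑T)) := by
    intro T
    induction T using Finset.induction_on with
    | empty =>
      intro _
      simp only [Finset.coe_empty, Set.union_empty]
      rw [centralizer_center, index_top, closure_eq, one_mul]
    | insert c T hcT ih =>
      intro hT
      have hTC : ∀ t ∈ T, t ∈ C := fun t ht => hT t (Finset.mem_insert_of_mem ht)
      have hcC : c ∈ C := hT c (Finset.mem_insert_self c T)
      specialize ih hTC
      obtain ⟨s, hs⟩ : ∃ s : Set G, s = (center G : Set G) ∪ ↑T := ⟨_, rfl⟩
      rw [← hs] at ih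
      have hs' : (center G : Set G) ∪ ↑(insert c T) = insert c s := by
        rw [hs, Finset.coe_insert, Set.union_insert]
      rw [hs']
      have hmono : closure s ≤ closure (insert c s) := closure_mono (Set.subset_insert c s)
      by_cases hcs : c ∈ closure s
      · have h1 : closure (insert c s) = closure s := by
          apply le_antisymm _ hmono
          rw [closure_le]
          intro x hx
          rcases hx with rfl | hx
          · exact hcs
          · exact subset_closure hx
        have h2 : centralizer (insert c s) = centralizer s := by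
          rw [← centralizer_closure, h1, centralizer_closure]
        rw [h1, h2]
        exact ih
      · have hcard : 2 * Nat.card (closure s) ≤ Nat.card (closure (insert c s)) :=
          two_mul_card_closure_le s c hcs
        have hidx : (centralizer (insert c s)).index ≤ (centralizer s).index * 2 := by
          have hle : centralizer ({c} : Set G) ⊓ centralizer s ≤ centralizer (insert c s) := by
            intro g hg
            obtain ⟨hg1, hg2⟩ := Subgroup.mem_inf.mp hg
            rw [mem_centralizer_iff] at hg1 hg2 ⊢
            intro h hh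
            rcases hh with rfl | hh
            · exact hg1 h rfl
            · exact hg2 h hh
          calc (centralizer (insert c s)).index
              ≤ (centralizer ({c} : Set G) ⊓ centralizer s).index := Subgroup.index_antitone hle
            _ ≤ (centralizer ({c} : Set G)).index * (centralizer s).index :=
                Subgroup.index_inf_le
            _ ≤ 2 * (centralizer s).index :=
                Nat.mul_le_mul_right _ (index_centralizer_le_two hcyc (by rw [← hC]; exact hcC))
            _ = (centralizer s).index * 2 := mul_comm _ _
        calc (centralizer (insert c s)).index * Nat.card (center G)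
            ≤ (centralizer s).index * 2 * Nat.card (center G) := Nat.mul_le_mul_right _ hidx
          _ = 2 * ((centralizer s).index * Nat.card (center G)) := by ring
          _ ≤ 2 * Nat.card (closure s) := Nat.mul_le_mul_left _ ih
          _ ≤ Nat.card (closure (insert c s)) := hcard
  have hfin : (C : Set G).Finite := Set.toFinite _
  have hfinal := key hfin.toFinset (fun t ht => by simpa using ht)
  have hun : (center G : Set G) ∪ ↑hfin.toFinset = (C : Set G) := by
    rw [Set.Finite.coe_toFinset]
    apply Set.union_eq_self_of_subset_left
    rw [hC]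
    exact center_le_omegaCenterSub
  rw [hun, hQ, closure_eq] at hfinal
  have h3 : (center G).index * Nat.card (center G) = Nat.card G := by
    rw [mul_comm]
    exact (center G).card_mul_index
  rw [h3] at hfinal
  exact Subgroup.eq_top_of_le_card C hfinal

end general

section charchar

variable {G : Type*} [Group G]

/-- a characteristic subgroup of a characteristic subgroup is characteristic -/
theorem char_of_char (H : Subgroup G) [hH : H.Characteristic] (A : Subgroup H)
    [hA : A.Characteristic] : (A.map H.subtype).Characteristic := by
  rw [characteristic_iff_map_le]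
  intro φ
  rintro _ ⟨_, ⟨x, hx, rfl⟩, rfl⟩
  have hHφ : ∀ y : G, y ∈ H → φ y ∈ H := by
    intro y hy
    have := (characteristic_iff_map_le.1 hH) φ
    exact this ⟨y, hy, rfl⟩
  have hHφ' : ∀ y : G, y ∈ H → φ.symm y ∈ H := by
    intro y hy
    have := (characteristic_iff_map_le.1 hH) φ.symm
    exact this ⟨y, hy, rfl⟩
  let ψ : H ≃* H :=
    { toFun := fun y => ⟨φ y, hHφ y y.2⟩
      invFun := fun y => ⟨φ.symm y, hHφ' y y.2⟩
      left_inv := fun y => by apply Subtype.ext; simp
      right_inv := fun y => by apply Subtype.ext; simp
      map_mul' := fun y y' => by apply Subtype.ext; simp }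
  have h1 : ψ x ∈ A := by
    have := (characteristic_iff_map_le.1 hA) ψ
    exact this ⟨x, hx, rfl⟩
  exact ⟨ψ x, h1, rfl⟩

/-- powers of an element of order at most two -/
theorem zpow_eq_of_sq_eq_one (w : G) (hw : w * w = 1) (k : ℤ) : w ^ k = 1 ∨ w ^ k = w := by
  rcases Int.emod_two_eq_zero_or_one k with h | h
  · left
    obtain ⟨m, hm⟩ : (2 : ℤ) ∣ k := Int.dvd_of_emod_eq_zero h
    rw [hm, zpow_mul, zpow_two, hw, one_zpow]
  · right
    obtain ⟨m, hm⟩ : (2 : ℤ) ∣ k - 1 := by omega
    have : k = 2 * m + 1 := by omega
    rw [this, zpow_add, zpow_mul, zpow_two, hw, one_zpow, one_mul, zpow_one]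

end charchar

end Cfsg.Agent.H9.Sp4
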