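import Mathlib
import Cfsg.Agent.H9.Sp4A

set_option autoImplicit false
set_option linter.style.haveILetI false
set_option linter.unusedSectionVars false

/-! Abstract group theory: a finite `2`-group of exponent `4` with centre of order `2` all of
whose characteristic abelian subgroups are cyclic has central squares and commutators. -/

namespace Cfsg.Agent.H9.Sp4

open Subgroup
open scoped commutatorElement
open Cfsg.Agent.Lib.Lead.PauliForm

variable {G : Type*} [Group G] [Finite G]

/-- squares and commutators are central -/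
theorem extraspecial_facts (hp : IsPGroup 2 G) (hexp : Monoid.exponent G = 4)
    (hchar : ∀ A : Subgroup G, A.Characteristic → IsMulCommutative A → IsCyclic A)
    (hZ : Nat.card (center G) = 2) :
    (∀ x y : G, ⁅x, y⁆ ∈ center G) ∧ ∀ x : G, x * x ∈ center G := by
  classical
  have hcyc : IsCyclic (center G) := hchar _ inferInstance inferInstance
  suffices hsq : ∀ x : G, x * x ∈ center G by
    refine ⟨fun x y => ?_, hsq⟩
    have : ⁅x, y⁆ = (x * x) * ((x⁻¹ * y) * (x⁻¹ * y)) * (y⁻¹ * y⁻¹) := by
      simp only [commutatorElement_def]; group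
    rw [this]
    exact mul_mem (mul_mem (hsq _) (hsq _)) (hsq _)
  obtain ⟨C, hC⟩ : ∃ C, C = omegaCenterSub G := ⟨_, rfl⟩
  obtain ⟨D, hD⟩ : ∃ D, D = C ⊓ centralizer (C : Set G) := ⟨_, rfl⟩
  by_cases hDZ : D = center G
  · have htop := omegaCenterSub_eq_top_of hp hcyc (by rw [← hC, ← hD]; exact hDZ)
    intro x
    have : x ∈ omegaCenterSub G := by rw [htop]; exact mem_top x
    rw [← pow_two]
    exact this.1
  -- the other case
  have hx4 : ∀ x : G, x ^ 4 = 1 := fun x => by rw [← hexp]; exact Monoid.pow_exponent_eq_one x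
  have hCchar : C.Characteristic := by rw [hC]; infer_instance
  have hDchar : D.Characteristic := by rw [hD]; infer_instance
  have hDab : ∀ e ∈ D, ∀ h ∈ D, h * e = e * h := by
    intro e he h hh
    rw [hD] at he hh
    exact (mem_centralizer_iff.1 (mem_inf.1 he).2) h (mem_inf.1 hh).1
  have hDcomm : IsMulCommutative D :=
    ⟨⟨fun a b => Subtype.ext (hDab b.1 b.2 a.1 a.2)⟩⟩
  have hDcyc : IsCyclic D := hchar D hDchar hDcomm
  have hZD : center G ≤ D := by
    rw [hD, hC]
    exact le_inf center_le_omegaCenterSub (center_le_centralizer _)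
  have hDcard4 : Nat.card D ∣ 4 := by
    have h1 : Monoid.exponent D = Nat.card D := IsCyclic.exponent_eq_card
    have h2 : Monoid.exponent D ∣ Monoid.exponent G :=
      Monoid.exponent_dvd_of_monoidHom D.subtype D.subtype_injective
    rwa [h1, hexp] at h2
  have hDcard : Nat.card D = 4 := by
    have h2 : 2 ∣ Nat.card D := by rw [← hZ]; exact Subgroup.card_dvd_of_le hZD
    have hne : Nat.card D ≠ 2 := by
      intro h
      exact hDZ (Subgroup.eq_of_le_of_card_ge hZD (by rw [hZ, h])).symm
    have hle : Nat.card D ≤ 4 := Nat.le_of_dvd (by norm_num) hDcard4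
    obtain ⟨k, hk⟩ := h2
    have hpos : 0 < Nat.card D := Nat.card_pos
    have : k = 1 ∨ k = 2 := by omega
    rcases this with rfl | rfl
    · omega
    · omega
  obtain ⟨d', hd'⟩ := hDcyc.exists_generator
  have hd'ord : orderOf d' = 4 := by rw [orderOf_eq_card_of_forall_mem_zpowers hd', hDcard]
  obtain ⟨d, hd⟩ : ∃ d : G, d = d' := ⟨_, rfl⟩
  have hdord : orderOf d = 4 := by rw [hd, Subgroup.orderOf_coe]; exact hd'ord
  have hdD : d ∈ D := by rw [hd]; exact d'.2
  have hdC : d ∈ omegaCenterSub G := by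
    rw [← hC]
    rw [hD] at hdD
    exact (mem_inf.1 hdD).1
  have hDz : ∀ e ∈ D, e ∈ zpowers d := by
    intro e he
    obtain ⟨k, hk⟩ := mem_zpowers_iff.1 (hd' ⟨e, he⟩)
    refine mem_zpowers_iff.2 ⟨k, ?_⟩
    rw [hd]
    have := congrArg Subtype.val hk
    rwa [Subgroup.coe_zpow] at this
  have hd2Z : d * d ∈ center G := by rw [← pow_two]; exact hdC.1
  have hD2 : ∀ e ∈ D, e * e = 1 → e ∈ center G := by
    intro e he he2
    obtain ⟨k, rfl⟩ := mem_zpowers_iff.1 (hDz e he)
    have h4 : ((orderOf d : ℕ) : ℤ) ∣ k * 2 := by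
      rw [orderOf_dvd_iff_zpow_eq_one, zpow_mul, zpow_two]
      exact he2
    rw [hdord] at h4
    obtain ⟨m, hm⟩ : (2 : ℤ) ∣ k := by omega
    rw [hm, zpow_mul, zpow_two]
    exact zpow_mem hd2Z m
  obtain ⟨G₁, hG₁⟩ : ∃ G₁, G₁ = centralizer (D : Set G) := ⟨_, rfl⟩
  have hG₁char : G₁.Characteristic := by rw [hG₁]; infer_instance
  have hG₁d : G₁ = centralizer ({d} : Set G) := by
    rw [hG₁]
    have : D = closure ({d} : Set G) := by
      rw [← zpowers_eq_closure]
      exact le_antisymm (fun e he => hDz e he) (zpowers_le.2 hdD)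
    rw [this, centralizer_closure]
  have hidx : G₁.index ≤ 2 := by rw [hG₁d]; exact index_centralizer_le_two hcyc hdC
  have hDG₁ : D ≤ G₁ := by
    rw [hG₁]
    intro e he
    rw [mem_centralizer_iff]
    intro h hh
    exact hDab e he h hh
  have hp₁ : IsPGroup 2 G₁ := hp.to_subgroup G₁
  have hexp₁ : Monoid.exponent G₁ = 4 := by
    apply Nat.dvd_antisymm
    · have := Monoid.exponent_dvd_of_monoidHom G₁.subtype G₁.subtype_injective
      rwa [hexp] at this
    · have := Monoid.order_dvd_exponent (⟨d, hDG₁ hdD⟩ : G₁)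
      have h1 : orderOf (⟨d, hDG₁ hdD⟩ : G₁) = 4 := by
        rw [← Subgroup.orderOf_coe]
        exact hdord
      rwa [h1] at this
  have hchar₁ : ∀ A : Subgroup G₁, A.Characteristic → IsMulCommutative A → IsCyclic A := by
    intro A hA hAc
    haveI := hA
    haveI := hAc
    haveI := hG₁char
    have h1 : (A.map G₁.subtype).Characteristic := char_of_char G₁ A
    have h2 : IsCyclic (A.map G₁.subtype) := hchar _ h1 inferInstance
    exact (MulEquiv.isCyclic (A.equivMapOfInjective G₁.subtype G₁.subtype_injective)).2 h2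
  have h2 : D.subgroupOf G₁ ≤ center G₁ := by
    intro e he
    rw [mem_center_iff]
    intro g
    apply Subtype.ext
    have hg : (g : G) ∈ centralizer (D : Set G) := by rw [← hG₁]; exact g.2
    exact ((mem_centralizer_iff.1 hg) e.1 (mem_subgroupOf.1 he)).symm
  have h3 : Nat.card (D.subgroupOf G₁) = 4 := by
    rw [← hDcard]
    exact Nat.card_congr (subgroupOfEquivOfLe hDG₁).toEquiv
  have hZ₁ : Nat.card (center G₁) = 4 := by
    have hc : IsCyclic (center G₁) := hchar₁ _ inferInstance inferInstance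
    have h1 : Nat.card (center G₁) ∣ 4 := by
      have e1 : Monoid.exponent (center G₁) = Nat.card (center G₁) := IsCyclic.exponent_eq_card
      have e2 := Monoid.exponent_dvd_of_monoidHom (center G₁).subtype
        (center G₁).subtype_injective
      rwa [e1, hexp₁] at e2
    have h4 := Subgroup.card_le_of_le h2
    have := Nat.le_of_dvd (by norm_num) h1
    omega
  have hcenter₁ : center G₁ = D.subgroupOf G₁ :=
    (eq_of_le_of_card_ge h2 (by rw [hZ₁, h3])).symm
  obtain ⟨fc, fs⟩ := symplectic_type_facts hp₁ hexp₁ hchar₁ hZ₁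
  have sq₁ : ∀ x ∈ G₁, x * x ∈ center G := by
    intro x hx
    have h1 := fs ⟨x, hx⟩
    rw [hcenter₁, mem_subgroupOf] at h1
    apply hD2 _ (by simpa [pow_two] using h1)
    have := hx4 x
    rw [show (4 : ℕ) = 2 + 2 from rfl, pow_add, pow_two] at this
    exact this
  have comm₁ : ∀ x ∈ G₁, ∀ y ∈ G₁, ⁅x, y⁆ ∈ center G := by
    intro x hx y hy
    obtain ⟨h1, h2'⟩ := fc ⟨x, hx⟩ ⟨y, hy⟩
    rw [hcenter₁, mem_subgroupOf] at h1
    have hcoe : (((⁅(⟨x, hx⟩ : G₁), ⟨y, hy⟩⁆ : G₁)) : G) = ⁅x, y⁆ := by
      simp only [commutatorElement_def, Subgroup.coe_mul, Subgroup.coe_inv]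
    rw [hcoe] at h1
    apply hD2 _ h1
    have := congrArg Subtype.val h2'
    rw [Subgroup.coe_pow, hcoe, pow_two] at this
    exact this
  have hidx2 : G₁.index = 2 := by
    have h1 : G₁.index ≠ 0 := Subgroup.index_ne_zero_of_finite
    have h2' : G₁.index ≠ 1 := by
      intro h
      rw [Subgroup.index_eq_one] at h
      have hdZ : d ∈ center G := by
        rw [mem_center_iff]
        intro g
        have hg : g ∈ G₁ := by rw [h]; exact mem_top g
        rw [hG₁d, mem_centralizer_iff] at hg
        exact (hg d rfl).symm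
      have := Subgroup.orderOf_dvd_natCard (center G) hdZ
      rw [hdord, hZ] at this
      omega
    omega
  have hzc : ∀ c ∈ center G, c * c = 1 := by
    intro c hc
    have := pow_card_eq_one' (x := (⟨c, hc⟩ : center G))
    rw [hZ] at this
    have := congrArg Subtype.val this
    simpa [pow_two] using this
  have hG₁n : G₁.Normal := inferInstance
  have hsqcomm : ∀ x x' : G, (x * x) * (x' * x') = (x' * x') * (x * x) := by
    intro x x'
    by_cases hx : x ∈ G₁
    · exact (mem_center_iff.1 (sq₁ x hx) _).symm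
    by_cases hx' : x' ∈ G₁
    · exact mem_center_iff.1 (sq₁ x' hx') _
    obtain ⟨g, hg⟩ : ∃ g, g = x⁻¹ * x' := ⟨_, rfl⟩
    have hgG : g ∈ G₁ := by
      rw [hg, Subgroup.mul_mem_iff_of_index_two hidx2, inv_mem_iff]
      exact ⟨fun h => absurd h hx, fun h => absurd h hx'⟩
    have hx'eq : x' = x * g := by rw [hg]; group
    have hs : x * x ∈ G₁ := by rw [← pow_two]; exact Subgroup.sq_mem_of_index_two hidx2 x
    obtain ⟨c, hc⟩ : ∃ c, c = ⁅x * x, g⁆ := ⟨_, rfl⟩
    have hcZ : c ∈ center G := by rw [hc]; exact comm₁ _ hs _ hgG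
    have hcc : ∀ w, w * c = c * w := mem_center_iff.1 hcZ
    have hc2 : c * c = 1 := hzc c hcZ
    have e1 : (x * x) * g = c * (g * (x * x)) := by
      rw [hc]; simp only [commutatorElement_def]; group
    have e2 : (x * x) * (x * g * x⁻¹) = c * ((x * g * x⁻¹) * (x * x)) := by
      calc (x * x) * (x * g * x⁻¹) = x * ((x * x) * g) * x⁻¹ := by group
        _ = x * (c * (g * (x * x))) * x⁻¹ := by rw [e1]
        _ = (x * c) * (g * (x * x)) * x⁻¹ := by group
        _ = (c * x) * (g * (x * x)) * x⁻¹ := by rw [hcc x]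
        _ = c * ((x * g * x⁻¹) * (x * x)) := by group
    have e3 : x' * x' = (x * g * x⁻¹) * (x * x) * g := by rw [hx'eq]; group
    rw [e3]
    calc (x * x) * ((x * g * x⁻¹) * (x * x) * g)
        = ((x * x) * (x * g * x⁻¹)) * ((x * x) * g) := by group
      _ = (c * ((x * g * x⁻¹) * (x * x))) * (c * (g * (x * x))) := by rw [e2, e1]
      _ = c * (((x * g * x⁻¹) * (x * x)) * c) * (g * (x * x)) := by group
      _ = c * (c * ((x * g * x⁻¹) * (x * x))) * (g * (x * x)) := by rw [hcc]
      _ = (c * c) * ((x * g * x⁻¹) * (x * x) * g) * (x * x) := by group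
      _ = (x * g * x⁻¹) * (x * x) * g * (x * x) := by rw [hc2, one_mul]
  -- the subgroup generated by the squares
  obtain ⟨S, hS⟩ : ∃ S : Set G, S = Set.range (fun x : G => x * x) := ⟨_, rfl⟩
  have hScomm : ∀ a ∈ S, ∀ b ∈ S, a * b = b * a := by
    rw [hS]
    rintro _ ⟨x, rfl⟩ _ ⟨y, rfl⟩
    exact hsqcomm x y
  haveI hUc : IsMulCommutative (closure S) := isMulCommutative_closure hScomm
  have hUchar : (closure S).Characteristic := by
    rw [characteristic_iff_map_le]
    intro φ
    rw [MonoidHom.map_closure]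
    apply Subgroup.closure_mono
    rw [hS]
    rintro _ ⟨_, ⟨x, rfl⟩, rfl⟩
    exact ⟨φ x, by simp⟩
  have hUcyc : IsCyclic (closure S) := hchar _ hUchar hUc
  have hUab : ∀ a ∈ closure S, ∀ b ∈ closure S, a * b = b * a := by
    intro a ha b hb
    have := hUc.is_comm.comm (⟨a, ha⟩ : closure S) ⟨b, hb⟩
    exact congrArg Subtype.val this
  have hU2 : ∀ e ∈ closure S, e * e = 1 := by
    intro e he
    induction he using closure_induction with
    | mem e he =>
      rw [hS] at he
      obtain ⟨x, rfl⟩ := he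
      have := hx4 x
      rw [show (4 : ℕ) = 2 + 2 from rfl, pow_add, pow_two] at this
      exact this
    | one => simp
    | mul a b ha hb iha ihb =>
      have hab := hUab a ha b hb
      calc a * b * (a * b) = a * (b * a) * b := by group
        _ = a * (a * b) * b := by rw [hab]
        _ = (a * a) * (b * b) := by group
        _ = 1 := by rw [iha, ihb, one_mul]
    | inv a ha iha =>
      calc a⁻¹ * a⁻¹ = (a * a)⁻¹ := by group
        _ = 1 := by rw [iha, inv_one]
  obtain ⟨w, hw⟩ := hUcyc.exists_generator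
  have hw2 : (w : G) * w = 1 := hU2 w w.2
  have hUw : ∀ e ∈ closure S, e = 1 ∨ e = (w : G) := by
    intro e he
    obtain ⟨k, hk⟩ := mem_zpowers_iff.1 (hw ⟨e, he⟩)
    have hk' : (w : G) ^ k = e := by
      have := congrArg Subtype.val hk
      rwa [Subgroup.coe_zpow] at this
    rw [← hk']
    exact zpow_eq_of_sq_eq_one (w : G) hw2 k
  have hddU : d * d ∈ closure S := subset_closure (by rw [hS]; exact ⟨d, rfl⟩)
  have hdd1 : d * d ≠ 1 := by
    intro h
    have := orderOf_dvd_of_pow_eq_one (show d ^ 2 = 1 by rw [pow_two]; exact h)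
    rw [hdord] at this
    omega
  have hwd : (w : G) = d * d := by
    rcases hUw _ hddU with h | h
    · exact absurd h hdd1
    · exact h.symm
  intro x
  have hxU : x * x ∈ closure S := subset_closure (by rw [hS]; exact ⟨x, rfl⟩)
  rcases hUw _ hxU with h | h
  · rw [h]; exact one_mem _
  · rw [h, hwd]; exact hd2Z

end Cfsg.Agent.H9.Sp4
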