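import Mathlib
import Cfsg.Agent.H9.Sp4B

set_option autoImplicit false
set_option linter.style.haveILetI false
set_option linter.unusedSectionVars false

/-! Abstract group theory: generators of an extraspecial group of order `2⁵` of minus type. -/

namespace Cfsg.Agent.H9.Sp4

open Subgroup
open scoped commutatorElement
open Cfsg.Agent.Lib.Lead.PauliForm

section signs

variable {G : Type*} [Group G] (n : G) (hnc : ∀ w : G, w * n = n * w) (hn2 : n * n = 1)

include hnc hn2

theorem anti_symm {x y : G} (h : x * y = n * (y * x)) : y * x = n * (x * y) := by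
  rw [h, ← mul_assoc, hn2, one_mul]

theorem sq_mul_of_comm {x y : G} (h : x * y = y * x) : (x * y) * (x * y) = (x * x) * (y * y) := by
  calc (x * y) * (x * y) = x * (y * x) * y := by group
    _ = x * (x * y) * y := by rw [h]
    _ = (x * x) * (y * y) := by group

theorem sq_mul_of_anti {x y : G} (h : x * y = n * (y * x)) :
    (x * y) * (x * y) = n * ((x * x) * (y * y)) := by
  have h' := anti_symm n hnc hn2 h
  calc (x * y) * (x * y) = x * (y * x) * y := by group
    _ = x * (n * (x * y)) * y := by rw [h']
    _ = (x * n) * (x * y * y) := by group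
    _ = (n * x) * (x * y * y) := by rw [hnc x]
    _ = n * ((x * x) * (y * y)) := by group

theorem ne_of_anti (hn1 : n ≠ 1) {x y : G} (h : x * y = n * (y * x)) : x * y ≠ y * x := by
  intro h'
  apply hn1
  have : n * (y * x) = 1 * (y * x) := by rw [← h, h', one_mul]
  exact mul_right_cancel this

/-- normalization of an anticommuting pair -/
theorem pair_normalize (x y : G) (hxy : x * y = n * (y * x)) (hx : x * x = 1 ∨ x * x = n)
    (hy : y * y = 1 ∨ y * y = n) :
    ∃ x' y' : G, x' ∈ closure ({x, y} : Set G) ∧ y' ∈ closure ({x, y} : Set G) ∧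
      x' * y' = n * (y' * x') ∧
      ((x' * x' = 1 ∧ y' * y' = 1) ∨ (x' * x' = n ∧ y' * y' = n)) := by
  have hxm : x ∈ closure ({x, y} : Set G) := subset_closure (by simp)
  have hym : y ∈ closure ({x, y} : Set G) := subset_closure (by simp)
  have hyx := anti_symm n hnc hn2 hxy
  have hsq := sq_mul_of_anti n hnc hn2 hxy
  rcases hx with hx | hx <;> rcases hy with hy | hy
  · exact ⟨x, y, hxm, hym, hxy, Or.inl ⟨hx, hy⟩⟩
  · refine ⟨x, x * y, hxm, mul_mem hxm hym, ?_, Or.inl ⟨hx, ?_⟩⟩
    · calc x * (x * y) = x * (n * (y * x)) := by rw [hxy]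
        _ = (x * n) * (y * x) := by group
        _ = (n * x) * (y * x) := by rw [hnc x]
        _ = n * (x * y * x) := by group
    · rw [hsq, hx, hy, one_mul, hn2]
  · refine ⟨y, x * y, hym, mul_mem hxm hym, ?_, Or.inl ⟨hy, ?_⟩⟩
    · calc y * (x * y) = (y * x) * y := by group
        _ = (n * (x * y)) * y := by rw [hyx]
        _ = n * (x * y * y) := by group
    · rw [hsq, hx, hy, mul_one, hn2]
  · exact ⟨x, y, hxm, hym, hxy, Or.inr ⟨hx, hy⟩⟩

end signs

section closure_lemmas

variable {G : Type*} [Group G]

theorem closure_le_centralizer_of (s : Set G) (x : G) (hs : ∀ y ∈ s, y * x = x * y) :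
    closure s ≤ centralizer ({x} : Set G) := by
  rw [closure_le]
  intro y hy
  rw [SetLike.mem_coe, mem_centralizer_iff]
  intro h hh
  rw [Set.mem_singleton_iff] at hh
  subst hh
  exact (hs y hy).symm

theorem not_mem_closure_of (s : Set G) (x y : G) (hs : ∀ z ∈ s, z * x = x * z)
    (hxy : y * x ≠ x * y) : y ∉ closure s := by
  intro h
  have := mem_centralizer_iff.mp (closure_le_centralizer_of s x hs h) x rfl
  exact hxy this.symm

theorem mem_centralizer_pair (a b x : G) :
    x ∈ centralizer ({a} : Set G) ⊓ centralizer ({b} : Set G) ↔ a * x = x * a ∧ b * x = x * b := by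
  rw [Subgroup.mem_inf, mem_centralizer_iff, mem_centralizer_iff]
  constructor
  · rintro ⟨h1, h2⟩
    exact ⟨h1 a rfl, h2 b rfl⟩
  · rintro ⟨h1, h2⟩
    refine ⟨fun h hh => ?_, fun h hh => ?_⟩
    · rw [Set.mem_singleton_iff] at hh; subst hh; exact h1
    · rw [Set.mem_singleton_iff] at hh; subst hh; exact h2

/-- an abelian subgroup generated by involutions has exponent two -/
theorem sq_eq_one_of_closure (s : Set G) (hs : ∀ a ∈ s, ∀ b ∈ s, a * b = b * a)
    (hs2 : ∀ a ∈ s, a * a = 1) : ∀ e ∈ closure s, e * e = 1 := by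
  haveI hUc : IsMulCommutative (closure s) := isMulCommutative_closure hs
  have hUab : ∀ a ∈ closure s, ∀ b ∈ closure s, a * b = b * a := by
    intro a ha b hb
    have := hUc.is_comm.comm (⟨a, ha⟩ : closure s) ⟨b, hb⟩
    exact congrArg Subtype.val this
  intro e he
  induction he using closure_induction with
  | mem e he => exact hs2 e he
  | one => simp
  | mul a b ha hb iha ihb =>
    have hab := hUab a ha b hb
    calc a * b * (a * b) = a * (b * a) * b := by group
      _ = a * (a * b) * b := by rw [hab]
      _ = (a * a) * (b * b) := by group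
      _ = 1 := by rw [iha, ihb, one_mul]
  | inv a ha iha =>
    calc a⁻¹ * a⁻¹ = (a * a)⁻¹ := by group
      _ = 1 := by rw [iha, inv_one]

end closure_lemmas

end Cfsg.Agent.H9.Sp4
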