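import Mathlib
import Cfsg.Agent.H9.Sp4C

set_option autoImplicit false
set_option linter.style.haveILetI false
set_option linter.unusedSectionVars false

/-! Abstract group theory: generators of an extraspecial group of order `2⁵` of minus type
(continued). -/

namespace Cfsg.Agent.H9.Sp4

open Subgroup
open scoped commutatorElement
open Cfsg.Agent.Lib.Lead.PauliForm

section gens

variable {G : Type*} [Group G] [Finite G] (n : G) (hnc : ∀ w : G, w * n = n * w) (hn2 : n * n = 1)
  (hn1 : n ≠ 1)

include hnc hn2 hn1

/-- three independent commuting involutions generate a group of order at least eight -/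
theorem card_closure_three (u v p q : G) (hup : u * p = n * (p * u))
    (huq : u * q = q * u) (hvq : v * q = n * (q * v)) :
    8 ≤ Nat.card (closure ({v, u, n} : Set G)) := by
  have m0 : n ∉ closure (∅ : Set G) := by
    rw [Subgroup.closure_empty, mem_bot]
    exact hn1
  have c0 := two_mul_card_closure_le _ _ m0
  have c00 : Nat.card (closure (∅ : Set G)) = 1 := by rw [Subgroup.closure_empty]; exact Subgroup.card_bot
  have m1 : u ∉ closure (insert n (∅ : Set G)) := by
    apply not_mem_closure_of _ p u _ (ne_of_anti n hnc hn2 hn1 hup)
    intro z hz
    rcases hz with rfl | hz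
    · exact (hnc p).symm
    · exact absurd hz (Set.notMem_empty z)
  have c1 := two_mul_card_closure_le _ _ m1
  have m2 : v ∉ closure (insert u (insert n (∅ : Set G))) := by
    apply not_mem_closure_of _ q v _ (ne_of_anti n hnc hn2 hn1 hvq)
    intro z hz
    rcases hz with rfl | rfl | hz
    · exact huq
    · exact (hnc q).symm
    · exact absurd hz (Set.notMem_empty z)
  have c2 := two_mul_card_closure_le _ _ m2
  have : ({v, u, n} : Set G) = insert v (insert u (insert n (∅ : Set G))) := by
    simp
  rw [this]
  omega

variable (hminus : ∀ A : Subgroup G, IsMulCommutative A → (∀ x ∈ A, x * x = 1) → Nat.card A < 8)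

include hminus

/-- no two commuting independent involutions -/
theorem no_E8 (u v p q : G) (hu : u * u = 1) (hv : v * v = 1) (huv : u * v = v * u)
    (hup : u * p = n * (p * u))
    (huq : u * q = q * u) (hvq : v * q = n * (q * v)) : False := by
  have hcard := card_closure_three n hnc hn2 hn1 u v p q hup huq hvq
  have hcomm : ∀ a ∈ ({v, u, n} : Set G), ∀ b ∈ ({v, u, n} : Set G), a * b = b * a := by
    intro a ha b hb
    rcases ha with rfl | rfl | rfl <;> rcases hb with rfl | rfl | rfl
    · rfl
    · exact huv.symm
    · exact hnc _
    · exact huv
    · rfl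
    · exact hnc _
    · exact (hnc _).symm
    · exact (hnc _).symm
    · rfl
  have hsq : ∀ a ∈ ({v, u, n} : Set G), a * a = 1 := by
    intro a ha
    rcases ha with rfl | rfl | rfl
    · exact hv
    · exact hu
    · exact hn2
  have := hminus (closure ({v, u, n} : Set G)) (isMulCommutative_closure hcomm)
    (sq_eq_one_of_closure _ hcomm hsq)
  omega

end gens

end Cfsg.Agent.H9.Sp4
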