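import Mathlib
import Cfsg.Agent.H9.Sp4D

set_option autoImplicit false
set_option linter.style.haveILetI false
set_option linter.unusedSectionVars false

/-! Abstract group theory: generators of an extraspecial group of order `2⁵` of minus type
(the main statement). -/

namespace Cfsg.Agent.H9.Sp4

open Subgroup
open scoped commutatorElement
open Cfsg.Agent.Lib.Lead.PauliForm

section main

variable {G : Type*} [Group G] [Finite G]

/-- standard generators of `D₈ ∘ Q₈` -/
def IsStdGens (n a1 b1 a2 b2 : G) : Prop :=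
  a1 * a1 = 1 ∧ b1 * b1 = 1 ∧ a2 * a2 = n ∧ b2 * b2 = n ∧ a1 * b1 = n * (b1 * a1) ∧
    a2 * b2 = n * (b2 * a2) ∧ a1 * a2 = a2 * a1 ∧ a1 * b2 = b2 * a1 ∧ b1 * a2 = a2 * b1 ∧
    b1 * b2 = b2 * b1

variable (n : G) (hnc : ∀ w : G, w * n = n * w) (hn2 : n * n = 1) (hn1 : n ≠ 1)

include hnc hn2 hn1

/-- two mutually commuting anticommuting pairs generate a group of order `32` -/
theorem closure_pairs_eq_top (hcard : Nat.card G = 32) (a1 b1 a2 b2 : G)
    (h1 : a1 * b1 = n * (b1 * a1)) (h2 : a2 * b2 = n * (b2 * a2)) (h3 : a1 * a2 = a2 * a1)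
    (h4 : a1 * b2 = b2 * a1) (h5 : b1 * a2 = a2 * b1) (h6 : b1 * b2 = b2 * b1) :
    closure ({b1, a1, b2, a2} : Set G) = ⊤ := by
  have hab1 := ne_of_anti n hnc hn2 hn1 h1
  have hab2 := ne_of_anti n hnc hn2 hn1 h2
  have m0 : n ∉ closure (∅ : Set G) := by
    rw [Subgroup.closure_empty, mem_bot]
    exact hn1
  have c0 := two_mul_card_closure_le _ _ m0
  have c00 : Nat.card (closure (∅ : Set G)) = 1 := by
    rw [Subgroup.closure_empty]; exact Subgroup.card_bot
  obtain ⟨s0, hs0⟩ : ∃ s0 : Set G, s0 = insert n (∅ : Set G) := ⟨_, rfl⟩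
  rw [← hs0] at c0
  have hs0c : ∀ x : G, ∀ z ∈ s0, z * x = x * z := by
    intro x z hz
    rw [hs0] at hz
    rcases hz with rfl | hz
    · exact (hnc x).symm
    · exact absurd hz (Set.notMem_empty z)
  have m1 : a1 ∉ closure s0 := not_mem_closure_of s0 b1 a1 (hs0c b1) hab1
  have m2 : b1 ∉ closure (insert a1 s0) := by
    apply not_mem_closure_of _ a1 b1 _ hab1.symm
    intro z hz
    rcases hz with rfl | hz
    · rfl
    · exact hs0c a1 z hz
  have m3 : a2 ∉ closure (insert b1 (insert a1 s0)) := by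
    apply not_mem_closure_of _ b2 a2 _ hab2
    intro z hz
    rcases hz with rfl | rfl | hz
    · exact h6
    · exact h4
    · exact hs0c b2 z hz
  have m4 : b2 ∉ closure (insert a2 (insert b1 (insert a1 s0))) := by
    apply not_mem_closure_of _ a2 b2 _ hab2.symm
    intro z hz
    rcases hz with rfl | rfl | rfl | hz
    · rfl
    · exact h5
    · exact h3
    · exact hs0c a2 z hz
  have c1 := two_mul_card_closure_le _ _ m1
  have c2 := two_mul_card_closure_le _ _ m2
  have c3 := two_mul_card_closure_le _ _ m3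
  have c4 := two_mul_card_closure_le _ _ m4
  have hbig : closure (insert b2 (insert a2 (insert b1 (insert a1 s0)))) = ⊤ := by
    apply Subgroup.eq_top_of_le_card
    rw [hcard]
    omega
  rw [eq_top_iff, ← hbig, closure_le]
  intro x hx
  rcases hx with rfl | rfl | rfl | rfl | hx
  · exact subset_closure (by simp)
  · exact subset_closure (by simp)
  · exact subset_closure (by simp)
  · exact subset_closure (by simp)
  · rw [hs0] at hx
    rcases hx with rfl | hx
    · have : x = (a1 * b1) * (b1 * a1)⁻¹ := by rw [h1]; group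
      rw [this]
      have ha : a1 ∈ closure ({b1, a1, b2, a2} : Set G) := subset_closure (by simp)
      have hb : b1 ∈ closure ({b1, a1, b2, a2} : Set G) := subset_closure (by simp)
      exact mul_mem (mul_mem ha hb) (inv_mem (mul_mem hb ha))
    · exact absurd hx (Set.notMem_empty x)

variable (hcen : ∀ c ∈ center G, c = 1 ∨ c = n) (hZ : Nat.card (center G) = 2)
  (hcyc : IsCyclic (center G)) (hfc : ∀ x y : G, ⁅x, y⁆ ∈ center G)
  (hfs : ∀ x : G, x * x ∈ center G) (hcard : Nat.card G = 32)
  (hminus : ∀ A : Subgroup G, IsMulCommutative A → (∀ x ∈ A, x * x = 1) → Nat.card A < 8)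

include hcen hZ hcyc hfc hfs hcard hminus

/-- elements commute up to the central involution -/
theorem comm_or_anti (x y : G) : x * y = y * x ∨ x * y = n * (y * x) := by
  have h : x * y = ⁅x, y⁆ * (y * x) := by simp only [commutatorElement_def]; group
  rcases hcen _ (hfc x y) with h1 | h1
  · left; rw [h, h1, one_mul]
  · right; rw [h, h1]

/-- standard generators exist -/
theorem exists_std_gens :
    ∃ a1 b1 a2 b2 : G, IsStdGens n a1 b1 a2 b2 ∧ closure ({b1, a1, b2, a2} : Set G) = ⊤ := by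
  classical
  have K2 := comm_or_anti n hnc hn2 hn1 hcen hZ hcyc hfc hfs hcard hminus
  have K3 : ∀ x : G, x * x = 1 ∨ x * x = n := fun x => hcen _ (hfs x)
  have hidx : ∀ c : G, (centralizer ({c} : Set G)).index ≤ 2 := by
    intro c
    exact index_centralizer_le_two hcyc ⟨by rw [pow_two]; exact hfs c, hfc c⟩
  -- first pair
  obtain ⟨a, ha⟩ : ∃ a : G, a ∉ center G := by
    by_contra hcon
    push Not at hcon
    have : center G = ⊤ := (Subgroup.eq_top_iff' _).mpr hcon
    rw [this, Subgroup.card_top, hcard] at hZ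
    norm_num at hZ
  obtain ⟨b, hb⟩ : ∃ b : G, b * a ≠ a * b := by
    by_contra hcon
    push Not at hcon
    exact ha (Subgroup.mem_center_iff.mpr hcon)
  have hab : a * b = n * (b * a) := by
    rcases K2 a b with h | h
    · exact absurd h.symm hb
    · exact h
  -- the centraliser of the first pair
  obtain ⟨H2, hH2⟩ : ∃ H2 : Subgroup G,
      H2 = centralizer ({a} : Set G) ⊓ centralizer ({b} : Set G) := ⟨_, rfl⟩
  have hH2mem : ∀ x : G, x ∈ H2 ↔ a * x = x * a ∧ b * x = x * b := by
    intro x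
    rw [hH2]
    exact mem_centralizer_pair a b x
  have hH2card : 8 ≤ Nat.card H2 := by
    have h1 : H2.index ≤ 4 := by
      rw [hH2]
      calc (centralizer ({a} : Set G) ⊓ centralizer ({b} : Set G)).index
          ≤ (centralizer ({a} : Set G)).index * (centralizer ({b} : Set G)).index :=
            Subgroup.index_inf_le
        _ ≤ 2 * 2 := Nat.mul_le_mul (hidx a) (hidx b)
    have h2 : Nat.card H2 * H2.index = 32 := by rw [Subgroup.card_mul_index, hcard]
    nlinarith
  obtain ⟨a', ha'H, b', hb'H, hab'⟩ : ∃ a' ∈ H2, ∃ b' ∈ H2, a' * b' ≠ b' * a' := by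
    by_contra hcon
    push Not at hcon
    have ha1H : a ∉ closure (H2 : Set G) := by
      rw [closure_eq, hH2mem]
      rintro ⟨-, h⟩
      exact hb h
    have c1 := two_mul_card_closure_le (H2 : Set G) a ha1H
    rw [closure_eq] at c1
    have hb1L : b ∉ closure (insert a (H2 : Set G)) := by
      apply not_mem_closure_of _ a b _ hb
      intro z hz
      rcases hz with rfl | hz
      · rfl
      · exact ((hH2mem z).mp hz).1.symm
    have c2 := two_mul_card_closure_le _ b hb1L
    have htop2 : closure (insert b (insert a (H2 : Set G))) = ⊤ := by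
      apply Subgroup.eq_top_of_le_card
      rw [hcard]
      omega
    have hH2Z : H2 ≤ center G := by
      intro x hx
      have hxc : x ∈ centralizer (insert b (insert a (H2 : Set G))) := by
        rw [mem_centralizer_iff]
        intro h hh
        rcases hh with rfl | rfl | hh
        · exact ((hH2mem x).mp hx).2
        · exact ((hH2mem x).mp hx).1
        · exact hcon h hh x hx
      rw [← centralizer_closure, htop2, Subgroup.coe_top, centralizer_univ] at hxc
      exact hxc
    have := Subgroup.card_le_of_le hH2Z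
    rw [hZ] at this
    omega
  have hab'' : a' * b' = n * (b' * a') := by
    rcases K2 a' b' with h | h
    · exact absurd h hab'
    · exact h
  -- normalize the second pair
  obtain ⟨x2, y2, hx2, hy2, hxy2, ht2⟩ :=
    pair_normalize n hnc hn2 a' b' hab'' (K3 a') (K3 b')
  have hcl2 : closure ({a', b'} : Set G) ≤ H2 := by
    rw [closure_le]
    intro z hz
    rcases hz with rfl | rfl
    · exact ha'H
    · exact hb'H
  have hx2H := (hH2mem x2).1 (hcl2 hx2)
  have hy2H := (hH2mem y2).1 (hcl2 hy2)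
  -- normalize the first pair
  obtain ⟨x1, y1, hx1, hy1, hxy1, ht1⟩ := pair_normalize n hnc hn2 a b hab (K3 a) (K3 b)
  have hcl1 : closure ({a, b} : Set G)
      ≤ centralizer ({x2} : Set G) ⊓ centralizer ({y2} : Set G) := by
    rw [closure_le]
    intro z hz
    rw [SetLike.mem_coe, mem_centralizer_pair]
    rcases hz with rfl | rfl
    · exact ⟨hx2H.1.symm, hy2H.1.symm⟩
    · exact ⟨hx2H.2.symm, hy2H.2.symm⟩
  have hx1K := (mem_centralizer_pair x2 y2 x1).1 (hcl1 hx1)
  have hy1K := (mem_centralizer_pair x2 y2 y1).1 (hcl1 hy1)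
  -- x2 * x1 = x1 * x2, y2 * x1 = x1 * y2, x2 * y1 = y1 * x2, y2 * y1 = y1 * y2
  rcases ht1 with ⟨e1, e2⟩ | ⟨e1, e2⟩ <;> rcases ht2 with ⟨e3, e4⟩ | ⟨e3, e4⟩
  · -- both of dihedral type
    exfalso
    exact no_E8 n hnc hn2 hn1 hminus x1 x2 y1 y2 e1 e3 hx1K.1.symm hxy1 hx1K.2.symm hxy2
  · refine ⟨x1, y1, x2, y2, ⟨e1, e2, e3, e4, hxy1, hxy2, hx1K.1.symm, hx1K.2.symm,
      hy1K.1.symm, hy1K.2.symm⟩, ?_⟩
    exact closure_pairs_eq_top n hnc hn2 hn1 hcard x1 y1 x2 y2 hxy1 hxy2 hx1K.1.symm
      hx1K.2.symm hy1K.1.symm hy1K.2.symm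
  · refine ⟨x2, y2, x1, y1, ⟨e3, e4, e1, e2, hxy2, hxy1, hx1K.1, hy1K.1,
      hx1K.2, hy1K.2⟩, ?_⟩
    exact closure_pairs_eq_top n hnc hn2 hn1 hcard x2 y2 x1 y1 hxy2 hxy1 hx1K.1
      hy1K.1 hx1K.2 hy1K.2
  · -- both of quaternion type
    exfalso
    have hu : (x1 * x2) * (x1 * x2) = 1 := by
      rw [sq_mul_of_comm n hnc hn2 hx1K.1.symm, e1, e3, hn2]
    have hv : (y1 * y2) * (y1 * y2) = 1 := by
      rw [sq_mul_of_comm n hnc hn2 hy1K.2.symm, e2, e4, hn2]
    have huv : (x1 * x2) * (y1 * y2) = (y1 * y2) * (x1 * x2) := by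
      calc (x1 * x2) * (y1 * y2) = x1 * (x2 * y1) * y2 := by group
        _ = x1 * (y1 * x2) * y2 := by rw [hy1K.1]
        _ = (x1 * y1) * (x2 * y2) := by group
        _ = (n * (y1 * x1)) * (n * (y2 * x2)) := by rw [hxy1, hxy2]
        _ = n * (y1 * x1 * n) * (y2 * x2) := by group
        _ = n * (n * (y1 * x1)) * (y2 * x2) := by rw [hnc]
        _ = (n * n) * (y1 * (x1 * y2) * x2) := by group
        _ = y1 * (y2 * x1) * x2 := by rw [hn2, one_mul, hx1K.2.symm]
        _ = (y1 * y2) * (x1 * x2) := by group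
    have hup : (x1 * x2) * y1 = n * (y1 * (x1 * x2)) := by
      calc (x1 * x2) * y1 = x1 * (x2 * y1) := by group
        _ = x1 * (y1 * x2) := by rw [hy1K.1]
        _ = (x1 * y1) * x2 := by group
        _ = n * (y1 * x1) * x2 := by rw [hxy1]
        _ = n * (y1 * (x1 * x2)) := by group
    have huq : (x1 * x2) * x1 = x1 * (x1 * x2) := by
      calc (x1 * x2) * x1 = x1 * (x2 * x1) := by group
        _ = x1 * (x1 * x2) := by rw [hx1K.1]
    have hvq : (y1 * y2) * x1 = n * (x1 * (y1 * y2)) := by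
      have hyx1 := anti_symm n hnc hn2 hxy1
      calc (y1 * y2) * x1 = y1 * (y2 * x1) := by group
        _ = y1 * (x1 * y2) := by rw [hx1K.2]
        _ = (y1 * x1) * y2 := by group
        _ = n * (x1 * y1) * y2 := by rw [hyx1]
        _ = n * (x1 * (y1 * y2)) := by group
    exact no_E8 n hnc hn2 hn1 hminus (x1 * x2) (y1 * y2) y1 x1 hu hv huv hup huq hvq

end main

end Cfsg.Agent.H9.Sp4
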