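import Mathlib
import Cfsg.Prelude.Def_GeometricClasses
import Cfsg.Agent.H9.Sp4E

set_option autoImplicit false
set_option linter.style.haveILetI false
set_option linter.unusedSectionVars false

/-! The structure of an absolutely irreducible extraspecial group `2^{1+4}_-` of matrices. -/

namespace Cfsg.Agent.H9.Sp4

open Matrix Subgroup
open scoped commutatorElement
open Cfsg.Agent.Lib.Lead.PauliForm

variable {ι : Type} [Fintype ι] [DecidableEq ι] {F : Type*} [Field F]

/-- the data of an extraspecial group `2^{1+4}_-` of matrices with its standard generators -/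
structure ESData (R : Subgroup (GL ι F)) (n a1 b1 a2 b2 : GL ι F) : Prop where
  n_mem : n ∈ R
  a1_mem : a1 ∈ R
  b1_mem : b1 ∈ R
  a2_mem : a2 ∈ R
  b2_mem : b2 ∈ R
  n_val : (n : Matrix ι ι F) = -1
  gens : IsStdGens n a1 b1 a2 b2
  pm : ∀ x ∈ R, ∀ y ∈ R, x * y = y * x ∨ x * y = n * (y * x)
  sq : ∀ x ∈ R, x * x = 1 ∨ x * x = n
  cen : ∀ c ∈ R, (∀ y ∈ R, y * c = c * y) → c = 1 ∨ c = n
  closure_eq : closure ({b1, a1, b2, a2} : Set (GL ι F)) = R
  comm : ∀ M : Matrix ι ι F, (∀ y ∈ R, (y : Matrix ι ι F) * M = M * (y : Matrix ι ι F)) →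
    ∃ c : F, M = c • (1 : Matrix ι ι F)
  card : Nat.card R = 32
  minus : ∀ A : Subgroup (GL ι F), A ≤ R → (∀ x ∈ A, ∀ y ∈ A, x * y = y * x) →
    (∀ x ∈ A, x * x = 1) → Nat.card A < 8

theorem smul_one_inj [Nonempty ι] {c d : F}
    (h : c • (1 : Matrix ι ι F) = d • (1 : Matrix ι ι F)) : c = d := by
  obtain ⟨k⟩ := ‹Nonempty ι›
  have := congrFun (congrFun h k) k
  simpa using this

/-- the structure theorem -/
theorem exists_ESData [Nonempty ι] (R : Subgroup (GL ι F))
    (hRs : Cfsg.Geo.IsSymplecticTypeGroup 2 R)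
    (hRi : Cfsg.Geo.ActsAbsolutelyIrreducibly (Cfsg.Geo.matrixSet R))
    (hR5 : Nat.card R = 2 ^ 5) (hRZ : Nat.card (Subgroup.center R) = 2)
    (hRm : Cfsg.Geo.IsOfMinusType 2 R) :
    ∃ n a1 b1 a2 b2 : GL ι F, ESData R n a1 b1 a2 b2 := by
  classical
  haveI : Finite R := Nat.finite_of_card_ne_zero (by rw [hR5]; norm_num)
  have hp : IsPGroup 2 R := hRs.pGroup
  have hexp : Monoid.exponent R = 4 := by rw [hRs.exponent_eq]; norm_num
  have hcard : Nat.card R = 32 := by rw [hR5]; norm_num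
  obtain ⟨hfc, hfs⟩ := extraspecial_facts hp hexp hRs.cyclic_of_characteristic hRZ
  have hcyc : IsCyclic (center R) := hRs.cyclic_of_characteristic _ inferInstance inferInstance
  obtain ⟨g, hg⟩ := hcyc.exists_generator
  have hgord : orderOf g = 2 := by rw [orderOf_eq_card_of_forall_mem_zpowers hg, hRZ]
  obtain ⟨n, hn⟩ : ∃ n : R, n = (g : R) := ⟨_, rfl⟩
  have hnord : orderOf n = 2 := by rw [hn, Subgroup.orderOf_coe, hgord]
  have hnZ : n ∈ center R := by rw [hn]; exact g.2
  have hnc : ∀ w : R, w * n = n * w := Subgroup.mem_center_iff.1 hnZ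
  have hn2 : n * n = 1 := by
    have := pow_orderOf_eq_one n
    rwa [hnord, pow_two] at this
  have hn1 : n ≠ 1 := by
    intro h
    rw [h, orderOf_one] at hnord
    omega
  have hcen : ∀ c ∈ center R, c = 1 ∨ c = n := by
    intro c hc
    obtain ⟨k, hk⟩ := Subgroup.mem_zpowers_iff.mp (hg ⟨c, hc⟩)
    have hk' : n ^ k = c := by
      rw [hn]
      have := congrArg Subtype.val hk
      rwa [Subgroup.coe_zpow] at this
    rw [← hk']
    exact zpow_eq_of_sq_eq_one n hn2 k
  have hminus : ∀ A : Subgroup R, IsMulCommutative A → (∀ x ∈ A, x * x = 1) → Nat.card A < 8 := by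
    intro A hA hA2
    have := hRm A hA hA2
    norm_num at this
    exact this
  obtain ⟨a1, b1, a2, b2, hgens, hcl⟩ :=
    exists_std_gens n hnc hn2 hn1 hcen hRZ hcyc hfc hfs hcard hminus
  have K2 := comm_or_anti n hnc hn2 hn1 hcen hRZ hcyc hfc hfs hcard hminus
  -- the central involution is `-1`
  have hnval : ((n : GL ι F) : Matrix ι ι F) = -1 := by
    obtain ⟨c, hc⟩ : ∃ c : F, ((n : GL ι F) : Matrix ι ι F) = c • (1 : Matrix ι ι F) := by
      apply hRi.2
      rintro s ⟨y, hy, rfl⟩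
      have h1 := hnc ⟨y, hy⟩
      have h2 := congrArg (fun u : R => ((u : GL ι F) : Matrix ι ι F)) h1
      simp only [Subgroup.coe_mul, Units.val_mul] at h2
      exact h2.symm
    have hcc : c * c = 1 := by
      have h1 := congrArg (fun u : R => ((u : GL ι F) : Matrix ι ι F)) hn2
      simp only [Subgroup.coe_mul, Units.val_mul, Subgroup.coe_one, Units.val_one] at h1
      rw [hc, smul_mul_assoc, Matrix.one_mul, smul_smul] at h1
      apply smul_one_inj (ι := ι)
      rw [h1, one_smul]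
    rcases mul_self_eq_one_iff.mp hcc with h | h
    · exfalso
      apply hn1
      apply Subtype.ext
      apply Units.ext
      rw [hc, h, one_smul]
      rfl
    · rw [hc, h, neg_smul, one_smul]
  obtain ⟨e1, e2, e3, e4, e5, e6, e7, e8, e9, e10⟩ := hgens
  have coe : ∀ {x y : R}, x = y → (x : GL ι F) = (y : GL ι F) := fun h => congrArg Subtype.val h
  refine ⟨n, a1, b1, a2, b2, ⟨n.2, a1.2, b1.2, a2.2, b2.2, hnval,
    ⟨coe e1, coe e2, coe e3, coe e4, coe e5, coe e6, coe e7, coe e8, coe e9, coe e10⟩,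
    ?_, ?_, ?_, ?_, ?_, hcard, ?_⟩⟩
  · intro x hx y hy
    rcases K2 ⟨x, hx⟩ ⟨y, hy⟩ with h | h
    · left; exact coe h
    · right; exact coe h
  · intro x hx
    rcases hcen _ (hfs ⟨x, hx⟩) with h | h
    · left; exact coe h
    · right; exact coe h
  · intro c hc hcy
    have : (⟨c, hc⟩ : R) ∈ center R := by
      rw [Subgroup.mem_center_iff]
      intro y
      exact Subtype.ext (hcy y y.2)
    rcases hcen _ this with h | h
    · left; exact coe h
    · right; exact coe h
  · have h1 := congrArg (Subgroup.map R.subtype) hcl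
    rw [MonoidHom.map_closure, ← MonoidHom.range_eq_map, Subgroup.range_subtype] at h1
    refine Eq.trans ?_ h1
    congr 1
    ext x
    simp only [Set.mem_image, Set.mem_insert_iff, Set.mem_singleton_iff, Subgroup.coe_subtype]
    constructor
    · rintro (rfl | rfl | rfl | rfl)
      · exact ⟨b1, Or.inl rfl, rfl⟩
      · exact ⟨a1, Or.inr (Or.inl rfl), rfl⟩
      · exact ⟨b2, Or.inr (Or.inr (Or.inl rfl)), rfl⟩
      · exact ⟨a2, Or.inr (Or.inr (Or.inr rfl)), rfl⟩
    · rintro ⟨y, (rfl | rfl | rfl | rfl), rfl⟩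
      · exact Or.inl rfl
      · exact Or.inr (Or.inl rfl)
      · exact Or.inr (Or.inr (Or.inl rfl))
      · exact Or.inr (Or.inr (Or.inr rfl))
  · intro M hM
    apply hRi.2
    rintro s ⟨y, hy, rfl⟩
    exact (hM y hy).symm
  · intro A hAR hAc hA2
    have h1 := hminus (A.subgroupOf R) ⟨⟨fun x y => ?_⟩⟩ ?_
    · rwa [Nat.card_congr (Subgroup.subgroupOfEquivOfLe hAR).toEquiv] at h1
    · apply Subtype.ext
      apply Subtype.ext
      exact hAc _ (Subgroup.mem_subgroupOf.1 x.2) _ (Subgroup.mem_subgroupOf.1 y.2)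
    · intro x hx
      apply Subtype.ext
      exact hA2 _ (Subgroup.mem_subgroupOf.1 hx)
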