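import Mathlib
import Cfsg.Agent.H9.Sp4F
import Cfsg.Agent.H9.Pauli4F

set_option autoImplicit false
set_option linter.style.haveILetI false
set_option linter.unusedSectionVars false

/-! The extraspecial group `2^{1+4}_-` of matrices: the averaging identity and the trace formula
for elements of the normalizer. -/

namespace Cfsg.Agent.H9.Sp4

open Matrix Subgroup

variable {ι : Type} [Fintype ι] [DecidableEq ι] {F : Type*} [Field F]

/-- a `GL` element whose matrix is scalar is central -/
theorem central_of_scalar (k : GL ι F) (c : F)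
    (hc : (k : Matrix ι ι F) = c • (1 : Matrix ι ι F)) (m : GL ι F) : k * m = m * k := by
  apply Units.ext
  rw [Units.val_mul, Units.val_mul, hc, Matrix.smul_mul, Matrix.one_mul, Matrix.mul_smul,
    Matrix.mul_one]

section basics

variable {R : Subgroup (GL ι F)} {n a1 b1 a2 b2 : GL ι F} (h : ESData R n a1 b1 a2 b2)

include h

theorem ESData.n_scalar : (n : Matrix ι ι F) = (-1 : F) • (1 : Matrix ι ι F) := by
  rw [h.n_val, neg_smul, one_smul]

theorem ESData.n_comm (m : GL ι F) : n * m = m * n := central_of_scalar n (-1) h.n_scalar m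

theorem ESData.n_comm' (m : GL ι F) : m * n = n * m := (h.n_comm m).symm

theorem ESData.n_sq : n * n = 1 := by
  apply Units.ext
  rw [Units.val_mul, h.n_val, Units.val_one, neg_mul_neg, Matrix.one_mul]

theorem ESData.n_ne_one (hι : Fintype.card ι = 4) (h2 : (2 : F) ≠ 0) : n ≠ 1 := by
  intro h1
  have hne : Nonempty ι := by
    rw [← Fintype.card_pos_iff, hι]; norm_num
  obtain ⟨k⟩ := hne
  have := congrArg (fun u : GL ι F => (u : Matrix ι ι F) k k) h1
  simp only [h.n_val, Units.val_one, Matrix.neg_apply, Matrix.one_apply_eq] at this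
  apply h2
  linear_combination -this

theorem ESData.val_n_mul (x : GL ι F) : ((n * x : GL ι F) : Matrix ι ι F) = -(x : Matrix ι ι F) := by
  rw [Units.val_mul, h.n_val, neg_mul, Matrix.one_mul]

/-- a matrix commuting with all elements of `R` is scalar -/
theorem ESData.scalar_of_commute (g : GL ι F) (hg : ∀ y ∈ R, y * g = g * y) :
    ∃ c : F, (g : Matrix ι ι F) = c • (1 : Matrix ι ι F) := by
  apply h.comm
  intro y hy
  have := congrArg (fun u : GL ι F => (u : Matrix ι ι F)) (hg y hy)
  simpa only [Units.val_mul] using this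

/-- a non-scalar element of `R` anticommutes with some element of `R` -/
theorem ESData.exists_anticommute (s : GL ι F) (hs : s ∈ R)
    (hns : ∀ c : F, (s : Matrix ι ι F) ≠ c • (1 : Matrix ι ι F)) :
    ∃ w ∈ R, w * s = n * (s * w) := by
  by_contra hcon
  push Not at hcon
  obtain ⟨c, hc⟩ := h.scalar_of_commute s (fun y hy => by
    rcases h.pm y hy s hs with h1 | h1
    · exact h1
    · exact absurd h1 (hcon y hy))
  exact hns c hc

/-- non-scalar elements of `R` have trace zero -/
theorem ESData.trace_eq_zero (h2 : (2 : F) ≠ 0) (s : GL ι F) (hs : s ∈ R)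
    (hns : ∀ c : F, (s : Matrix ι ι F) ≠ c • (1 : Matrix ι ι F)) :
    Matrix.trace (s : Matrix ι ι F) = 0 := by
  obtain ⟨w, _, hws⟩ := h.exists_anticommute s hs hns
  have h1 : w * s * w⁻¹ = n * s := by
    rw [hws]; group
  have h3 : Matrix.trace ((w * s * w⁻¹ : GL ι F) : Matrix ι ι F)
      = Matrix.trace ((n * s : GL ι F) : Matrix ι ι F) := by rw [h1]
  rw [h.val_n_mul, Matrix.trace_neg] at h3
  have h4 : Matrix.trace ((w * s * w⁻¹ : GL ι F) : Matrix ι ι F) = Matrix.trace (s : Matrix ι ι F) := by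
    rw [Units.val_mul, Units.val_mul]
    exact Matrix.trace_units_conj w (s : Matrix ι ι F)
  rw [h4] at h3
  have : (2 : F) * Matrix.trace (s : Matrix ι ι F) = 0 := by linear_combination h3
  rcases mul_eq_zero.1 this with h5 | h5
  · exact absurd h5 h2
  · exact h5

/-- scalar elements of `R` -/
theorem ESData.scalar_mem (s : GL ι F) (hs : s ∈ R) (c : F)
    (hc : (s : Matrix ι ι F) = c • (1 : Matrix ι ι F)) : s = 1 ∨ s = n :=
  h.cen s hs (fun y _ => (central_of_scalar s c hc y).symm)

end basics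

section avg

variable {R : Subgroup (GL ι F)} {n a1 b1 a2 b2 : GL ι F} (h : ESData R n a1 b1 a2 b2)

include h

/-- the averaging identity -/
theorem ESData.sum_conj_eq (hι : Fintype.card ι = 4) [Fintype ↥R] (M : Matrix ι ι F) :
    ∃ c : F, (∑ y : ↥R, ((y : GL ι F) : Matrix ι ι F) * M *
        (((y : GL ι F)⁻¹ : GL ι F) : Matrix ι ι F)) = c • 1 ∧
      4 * c = (Fintype.card ↥R : F) * Matrix.trace M := by
  obtain ⟨S, hS⟩ : ∃ S, S = ∑ y : ↥R, ((y : GL ι F) : Matrix ι ι F) * M *
        (((y : GL ι F)⁻¹ : GL ι F) : Matrix ι ι F) := ⟨_, rfl⟩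
  have hcomm : ∀ s : GL ι F, s ∈ R →
      (s : Matrix ι ι F) * S = S * (s : Matrix ι ι F) := by
    intro s hs
    have h1 : (s : Matrix ι ι F) * S * ((s⁻¹ : GL ι F) : Matrix ι ι F) = S := by
      rw [hS, Finset.mul_sum, Finset.sum_mul]
      refine Fintype.sum_equiv (Equiv.mulLeft (⟨s, hs⟩ : ↥R)) _ _ ?_
      intro y
      simp only [Equiv.coe_mulLeft, Subgroup.coe_mul, _root_.mul_inv_rev, Units.val_mul]
      simp only [Matrix.mul_assoc]
    calc (s : Matrix ι ι F) * S
        = (s : Matrix ι ι F) * S * (((s⁻¹ : GL ι F) : Matrix ι ι F)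
          * (s : Matrix ι ι F)) := by rw [Units.inv_mul, Matrix.mul_one]
      _ = ((s : Matrix ι ι F) * S * ((s⁻¹ : GL ι F) : Matrix ι ι F))
          * (s : Matrix ι ι F) := by simp only [Matrix.mul_assoc]
      _ = S * (s : Matrix ι ι F) := by rw [h1]
  obtain ⟨c, hc⟩ := h.comm S hcomm
  refine ⟨c, by rw [← hS, hc], ?_⟩
  have ht : Matrix.trace S = (Fintype.card ↥R : F) * Matrix.trace M := by
    rw [hS, Matrix.trace_sum]
    have : ∀ y : ↥R, Matrix.trace (((y : GL ι F) : Matrix ι ι F) * M *
        (((y : GL ι F)⁻¹ : GL ι F) : Matrix ι ι F)) = Matrix.trace M := by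
      intro y
      exact Matrix.trace_units_conj (y : GL ι F) M
    rw [Finset.sum_congr rfl (fun y _ => this y), Finset.sum_const, Finset.card_univ, nsmul_eq_mul]
  rw [← ht, hc, Matrix.trace_smul, Matrix.trace_one, hι, smul_eq_mul]
  push_cast
  ring

end avg

end Cfsg.Agent.H9.Sp4
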