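import Mathlib
import Cfsg.Agent.H9.Sp4G

set_option autoImplicit false
set_option linter.style.haveILetI false
set_option linter.unusedSectionVars false

/-! The extraspecial group `2^{1+4}_-` of matrices: the trace formula for elements of the
normalizer and the possible orders of centralizers. -/

namespace Cfsg.Agent.H9.Sp4

open Matrix Subgroup

variable {ι : Type} [Fintype ι] [DecidableEq ι] {F : Type*} [Field F]

section formula

variable {R : Subgroup (GL ι F)} {n a1 b1 a2 b2 : GL ι F} (h : ESData R n a1 b1 a2 b2)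

include h

theorem ESData.finite : Finite ↥R := Nat.finite_of_card_ne_zero (by rw [h.card]; norm_num)

/-- centralizer of `g` in `R`, as a subgroup of it -/
def CR (R : Subgroup (GL ι F)) (g : GL ι F) : Subgroup ↥R :=
  (Subgroup.centralizer {g}).subgroupOf R

omit h in
theorem mem_CR (g : GL ι F) (y : ↥R) : y ∈ CR R g ↔ (y : GL ι F) * g = g * y := by
  unfold CR
  rw [Subgroup.mem_subgroupOf, Subgroup.mem_centralizer_singleton_iff]

omit h in
theorem card_CR_eq (g : GL ι F) :
    Nat.card ↥(CR R g) = Nat.card ↥(R ⊓ Subgroup.centralizer {g}) := by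
  unfold CR
  rw [← Subgroup.inf_subgroupOf_left]
  exact Nat.card_congr (Subgroup.subgroupOfEquivOfLe inf_le_left).toEquiv

omit h in
theorem conj_mem_of_normalizer (g : GL ι F)
    (hg : g ∈ Subgroup.normalizer (R : Set (GL ι F))) (y : GL ι F)
    (hy : y ∈ R) : g * y * g⁻¹ ∈ R :=
  (Subgroup.mem_normalizer_iff.1 hg y).1 hy

omit h in
theorem comm_mem_of_normalizer (g : GL ι F)
    (hg : g ∈ Subgroup.normalizer (R : Set (GL ι F))) (y : GL ι F)
    (hy : y ∈ R) : y * g * y⁻¹ * g⁻¹ ∈ R := by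
  have : y * g * y⁻¹ * g⁻¹ = y * (g * y⁻¹ * g⁻¹) := by group
  rw [this]
  exact Subgroup.mul_mem _ hy (conj_mem_of_normalizer g hg _ (Subgroup.inv_mem _ hy))

/-- a scalar commutator with an element of the normalizer, a power of which is scalar and of
order prime to two, is trivial -/
theorem ESData.comm_eq_one_of_scalar (r : ℕ) (hr : Nat.Coprime r 32)
    (g : GL ι F) (z : F)
    (hz : ((g ^ r : GL ι F) : Matrix ι ι F) = z • (1 : Matrix ι ι F))
    (y : GL ι F) (hk : y * g * y⁻¹ * g⁻¹ ∈ R) (c : F)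
    (hc : ((y * g * y⁻¹ * g⁻¹ : GL ι F) : Matrix ι ι F) = c • (1 : Matrix ι ι F)) :
    y * g * y⁻¹ * g⁻¹ = 1 := by
  obtain ⟨k, hkdef⟩ : ∃ k, k = y * g * y⁻¹ * g⁻¹ := ⟨_, rfl⟩
  rw [← hkdef] at hk hc ⊢
  have hkc := central_of_scalar k c hc
  have hgc := central_of_scalar (g ^ r) z hz
  have h1 : y * g * y⁻¹ = k * g := by rw [hkdef]; group
  have h2 : (y * g * y⁻¹) ^ r = g ^ r := by
    rw [conj_pow, ← hgc y]
    group
  have h3 : (k * g) ^ r = k ^ r * g ^ r := (show Commute k g from hkc g).mul_pow r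
  have h4 : k ^ r = 1 := by
    rw [h1, h3] at h2
    exact mul_eq_right.1 h2
  have h5 : k ^ 32 = 1 := by
    haveI := h.finite
    have := pow_card_eq_one' (x := (⟨k, hk⟩ : ↥R))
    rw [h.card] at this
    have := congrArg (fun u : ↥R => (u : GL ι F)) this
    simpa using this
  have h6 := pow_gcd_eq_one.2 ⟨h4, h5⟩
  rw [Nat.Coprime.gcd_eq_one hr, pow_one] at h6
  exact h6

/-- the trace formula for elements of the normalizer -/
theorem ESData.trace_formula (hι : Fintype.card ι = 4) (h2 : (2 : F) ≠ 0) (r : ℕ)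
    (hr : Nat.Coprime r 32) (g : GL ι F)
    (hg : g ∈ Subgroup.normalizer (R : Set (GL ι F))) (z : F)
    (hz : ((g ^ r : GL ι F) : Matrix ι ι F) = z • (1 : Matrix ι ι F)) :
    2 * Matrix.trace (g : Matrix ι ι F) *
      Matrix.trace ((g⁻¹ : GL ι F) : Matrix ι ι F)
      = (Nat.card ↥(R ⊓ Subgroup.centralizer {g}) : F) := by
  classical
  haveI := h.finite
  haveI : Fintype ↥R := Fintype.ofFinite _
  obtain ⟨c, hS, hc⟩ := h.sum_conj_eq hι (g : Matrix ι ι F)
  have hcardF : (Fintype.card ↥R : F) = 32 := by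
    rw [← Nat.card_eq_fintype_card, h.card]
    norm_num
  rw [hcardF] at hc
  have h1 := congrArg (fun S => S * ((g⁻¹ : GL ι F) : Matrix ι ι F)) hS
  simp only [Finset.sum_mul] at h1
  have h3 := congrArg Matrix.trace h1
  rw [Matrix.trace_sum, Matrix.smul_mul, Matrix.one_mul, Matrix.trace_smul, smul_eq_mul] at h3
  have hterm : ∀ y : ↥R,
      Matrix.trace (((y : GL ι F) : Matrix ι ι F) * (g : Matrix ι ι F) *
        (((y : GL ι F)⁻¹ : GL ι F) : Matrix ι ι F) *
        ((g⁻¹ : GL ι F) : Matrix ι ι F))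
      = if y ∈ CR R g then (4 : F) else 0 := by
    intro y
    have hmat : ((y : GL ι F) : Matrix ι ι F) * (g : Matrix ι ι F) *
        (((y : GL ι F)⁻¹ : GL ι F) : Matrix ι ι F) *
        ((g⁻¹ : GL ι F) : Matrix ι ι F)
        = (((y : GL ι F) * g * (y : GL ι F)⁻¹ * g⁻¹ : GL ι F) :
          Matrix ι ι F) := by
      simp only [Units.val_mul]
    rw [hmat]
    have hk := comm_mem_of_normalizer g hg y y.2
    split_ifs with hy
    · have : (y : GL ι F) * g * (y : GL ι F)⁻¹ * g⁻¹ = 1 := by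
        rw [(mem_CR g y).1 hy]
        group
      rw [this, Units.val_one, Matrix.trace_one, hι]
      norm_num
    · apply h.trace_eq_zero h2 _ hk
      intro c' hc'
      apply hy
      rw [mem_CR]
      have h' := h.comm_eq_one_of_scalar r hr g z hz y hk c' hc'
      calc (y : GL ι F) * g = ((y : GL ι F) * g * (y : GL ι F)⁻¹ * g⁻¹) * (g * y) := by
            group
        _ = g * y := by rw [h', one_mul]
  rw [Finset.sum_congr rfl (fun y _ => hterm y), Finset.sum_ite, Finset.sum_const_zero, add_zero,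
    Finset.sum_const, nsmul_eq_mul] at h3
  rw [← card_CR_eq]
  have hcardC : (Nat.card ↥(CR R g) : F)
      = ((Finset.univ.filter (fun y : ↥R => y ∈ CR R g)).card : F) := by
    rw [Nat.card_eq_fintype_card, Fintype.card_subtype]
  rw [hcardC]
  have h16 : (16 : F) ≠ 0 := by
    have : (16 : F) = 2 ^ 4 := by norm_num
    rw [this]
    exact pow_ne_zero 4 h2
  apply (mul_right_inj' h16).1
  linear_combination (-4 : F) * h3 - (Matrix.trace ((g⁻¹ : GL ι F) : Matrix ι ι F)) * hc

end formula

end Cfsg.Agent.H9.Sp4
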