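import Mathlib
import Cfsg.Agent.H9.Sp4H

set_option autoImplicit false
set_option linter.style.haveILetI false
set_option linter.unusedSectionVars false

/-! The extraspecial group `2^{1+4}_-` of matrices: counting fixed points of elements of the
normalizer. -/

namespace Cfsg.Agent.H9.Sp4

open Matrix Subgroup

variable {ι : Type} [Fintype ι] [DecidableEq ι] {F : Type*} [Field F]

section count

variable {R : Subgroup (GL ι F)} {n a1 b1 a2 b2 : GL ι F} (h : ESData R n a1 b1 a2 b2)

include h

theorem ESData.orderOf_n (hι : Fintype.card ι = 4) (h2 : (2 : F) ≠ 0) : orderOf n = 2 := by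
  have : Fact (Nat.Prime 2) := ⟨Nat.prime_two⟩
  apply orderOf_eq_prime
  · rw [pow_two]; exact h.n_sq
  · exact h.n_ne_one hι h2

theorem ESData.zpowers_le_inf_centralizer (g : GL ι F) :
    Subgroup.zpowers n ≤ R ⊓ Subgroup.centralizer {g} := by
  rw [Subgroup.zpowers_le, Subgroup.mem_inf, Subgroup.mem_centralizer_singleton_iff]
  exact ⟨h.n_mem, h.n_comm g⟩

theorem ESData.card_inf_cases (hι : Fintype.card ι = 4) (h2 : (2 : F) ≠ 0)
    (D : Subgroup (GL ι F)) (hD : Subgroup.zpowers n ≤ D) (hDP : D ≤ R) :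
    Nat.card ↥D = 2 ∨ Nat.card ↥D = 4 ∨ Nat.card ↥D = 8 ∨ Nat.card ↥D = 16 ∨
      Nat.card ↥D = 32 := by
  haveI := h.finite
  haveI : Finite ↥D := Finite.of_injective (fun y : ↥D => (⟨y.1, hDP y.2⟩ : ↥R))
    (fun a b hab => Subtype.ext (congrArg (fun u : ↥R => (u : GL ι F)) hab))
  have h4 : 2 ∣ Nat.card ↥D := by
    have := Subgroup.card_dvd_of_le hD
    rwa [Nat.card_zpowers, h.orderOf_n hι h2] at this
  have h64 : Nat.card ↥D ∣ 2 ^ 5 := by
    have := Subgroup.card_dvd_of_le hDP
    rwa [h.card] at this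
  obtain ⟨k, hk6, hk⟩ := (Nat.dvd_prime_pow Nat.prime_two).1 h64
  rw [hk] at h4 ⊢
  interval_cases k <;> first | (exfalso; revert h4; norm_num; done) | norm_num

/-- an element of `GL` centralizing `R` is scalar -/
theorem ESData.scalar_of_card_eq (g : GL ι F)
    (hc : Nat.card ↥(R ⊓ Subgroup.centralizer {g}) = 32) :
    ∃ c : F, (g : Matrix ι ι F) = c • (1 : Matrix ι ι F) := by
  haveI := h.finite
  have heq : R ⊓ Subgroup.centralizer {g} = R :=
    Subgroup.eq_of_le_of_card_ge inf_le_left (by rw [hc, h.card])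
  apply h.scalar_of_commute g
  intro y hy
  have : y ∈ R ⊓ Subgroup.centralizer {g} := by
    rw [heq]
    exact hy
  exact Subgroup.mem_centralizer_singleton_iff.1 (Subgroup.mem_inf.1 this).2

/-- the congruence for the centralizer in a stable subgroup of `R` -/
theorem ESData.card_inf_modEq (r : ℕ) [Fact r.Prime] (g : GL ι F)
    (z : F)
    (hz : ((g ^ r : GL ι F) : Matrix ι ι F) = z • (1 : Matrix ι ι F))
    (D : Subgroup (GL ι F)) (hDR : D ≤ R) (hD : ∀ y ∈ D, g * y * g⁻¹ ∈ D) :
    Nat.card ↥D ≡ Nat.card ↥(D ⊓ Subgroup.centralizer {g}) [MOD r] := by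
  haveI := h.finite
  haveI : Finite ↥D := Finite.of_injective (fun y : ↥D => (⟨y.1, hDR y.2⟩ : ↥R))
    (fun a b hab => Subtype.ext (congrArg (fun u : ↥R => (u : GL ι F)) hab))
  exact Cfsg.Agent.H9.Pauli4.card_modEq_centralizer D g r hD
    (fun y _ => central_of_scalar (g ^ r) z hz y)

/-- the centralizer in `R` of a non-scalar element has order `16` -/
theorem ESData.card_centralizer_of_not_scalar (hι : Fintype.card ι = 4) (h2 : (2 : F) ≠ 0)
    (s : GL ι F) (hs : s ∈ R)
    (hns : ∀ c : F, (s : Matrix ι ι F) ≠ c • (1 : Matrix ι ι F)) :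
    Nat.card ↥(R ⊓ Subgroup.centralizer {s}) = 16 := by
  obtain ⟨a, haP, has⟩ := h.exists_anticommute s hs hns
  have hn1 := h.n_ne_one hι h2
  have hidx : ((Subgroup.centralizer {s}).subgroupOf R).index = 2 := by
    rw [Subgroup.index_eq_two_iff]
    refine ⟨⟨a, haP⟩, ?_⟩
    intro b
    rw [Subgroup.mem_subgroupOf, Subgroup.mem_subgroupOf, Subgroup.mem_centralizer_singleton_iff,
      Subgroup.mem_centralizer_singleton_iff, Subgroup.coe_mul]
    rcases h.pm b b.2 s hs with hbz | hbz
    · -- `b` commutes with `s`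
      refine Or.inr ⟨hbz, ?_⟩
      intro h'
      have hbas : (b : GL ι F) * a * s = n * (s * ((b : GL ι F) * a)) := by
        calc (b : GL ι F) * a * s = (b : GL ι F) * (a * s) := by group
          _ = (b : GL ι F) * (n * (s * a)) := by rw [has]
          _ = ((b : GL ι F) * n) * (s * a) := by group
          _ = (n * (b : GL ι F)) * (s * a) := by rw [h.n_comm']
          _ = n * (((b : GL ι F) * s) * a) := by group
          _ = n * ((s * (b : GL ι F)) * a) := by rw [hbz]
          _ = n * (s * ((b : GL ι F) * a)) := by group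
      rw [h'] at hbas
      have h1 : 1 * (s * ((b : GL ι F) * a)) = n * (s * ((b : GL ι F) * a)) := by
        rw [one_mul]; exact hbas
      exact hn1 (mul_right_cancel h1).symm
    · refine Or.inl ⟨?_, ?_⟩
      · calc (b : GL ι F) * a * s = (b : GL ι F) * (a * s) := by group
          _ = (b : GL ι F) * (n * (s * a)) := by rw [has]
          _ = ((b : GL ι F) * n) * (s * a) := by group
          _ = (n * (b : GL ι F)) * (s * a) := by rw [h.n_comm']
          _ = n * (((b : GL ι F) * s) * a) := by group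
          _ = n * ((n * (s * (b : GL ι F))) * a) := by rw [hbz]
          _ = (n * n) * (s * ((b : GL ι F) * a)) := by group
          _ = s * ((b : GL ι F) * a) := by rw [h.n_sq, one_mul]
      · intro h'
        rw [h'] at hbz
        have h1 : 1 * (s * (b : GL ι F)) = n * (s * (b : GL ι F)) := by
          rw [one_mul]; exact hbz
        exact hn1 (mul_right_cancel h1).symm
  have hmul := Subgroup.card_mul_index ((Subgroup.centralizer {s}).subgroupOf R)
  rw [hidx, h.card] at hmul
  have hc := card_CR_eq (R := R) s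
  unfold CR at hc
  rw [← hc]
  omega

/-- the possible orders of the centralizer in `R` of an element of the normalizer, a prime
power of which is scalar -/
theorem ESData.card_centralizer_cases (hι : Fintype.card ι = 4) (h2 : (2 : F) ≠ 0)
    (r : ℕ) [Fact r.Prime] (g : GL ι F)
    (hg : g ∈ Subgroup.normalizer (R : Set (GL ι F))) (z : F)
    (hz : ((g ^ r : GL ι F) : Matrix ι ι F) = z • (1 : Matrix ι ι F)) :
    (Nat.card ↥(R ⊓ Subgroup.centralizer {g}) = 2 ∨
      Nat.card ↥(R ⊓ Subgroup.centralizer {g}) = 4 ∨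
      Nat.card ↥(R ⊓ Subgroup.centralizer {g}) = 8 ∨
      Nat.card ↥(R ⊓ Subgroup.centralizer {g}) = 16 ∨
      Nat.card ↥(R ⊓ Subgroup.centralizer {g}) = 32) ∧
    32 ≡ Nat.card ↥(R ⊓ Subgroup.centralizer {g}) [MOD r] := by
  refine ⟨h.card_inf_cases hι h2 _ (h.zpowers_le_inf_centralizer g) inf_le_left, ?_⟩
  have := h.card_inf_modEq r g z hz R le_rfl
    (fun y hy => conj_mem_of_normalizer g hg y hy)
  rwa [h.card] at this

end count

end Cfsg.Agent.H9.Sp4
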