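import Mathlib
import Cfsg.Agent.H9.Sp4I

set_option autoImplicit false
set_option linter.style.haveILetI false
set_option linter.unusedSectionVars false

/-! The extraspecial group `2^{1+4}_-` of matrices: elements of the normalizer a prime power of
which is scalar. -/

namespace Cfsg.Agent.H9.Sp4

open Matrix Subgroup

variable {ι : Type} [Fintype ι] [DecidableEq ι] {F : Type*} [Field F]

section cases

variable {R : Subgroup (GL ι F)} {n a1 b1 a2 b2 : GL ι F} (h : ESData R n a1 b1 a2 b2)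

include h

/-- no element of the normalizer with seventh power scalar has centralizer of order `4` -/
theorem ESData.card_centralizer_ne_four (hι : Fintype.card ι = 4) (h2 : (2 : F) ≠ 0)
    (g : GL ι F)
    (hg : g ∈ Subgroup.normalizer (R : Set (GL ι F))) (z : F)
    (hz : ((g ^ 7 : GL ι F) : Matrix ι ι F) = z • (1 : Matrix ι ι F)) :
    Nat.card ↥(R ⊓ Subgroup.centralizer {g}) ≠ 4 := by
  intro h8
  haveI := h.finite
  have : Fact (Nat.Prime 7) := ⟨by norm_num⟩
  have hZ2 : Nat.card ↥(Subgroup.zpowers n) = 2 := by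
    rw [Nat.card_zpowers, h.orderOf_n hι h2]
  haveI : Finite ↥(Subgroup.zpowers n) := Nat.finite_of_card_ne_zero (by rw [hZ2]; norm_num)
  -- a non-scalar element of the centralizer
  obtain ⟨y₀, hy₀C, hy₀Z⟩ : ∃ y₀ ∈ R ⊓ Subgroup.centralizer {g},
      y₀ ∉ Subgroup.zpowers n := by
    by_contra hcon
    push Not at hcon
    have hle : R ⊓ Subgroup.centralizer {g} ≤ Subgroup.zpowers n := hcon
    have := Subgroup.card_le_of_le hle
    rw [h8, hZ2] at this
    omega
  have hy₀P : y₀ ∈ R := (Subgroup.mem_inf.1 hy₀C).1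
  have hy₀g : y₀ * g = g * y₀ := Subgroup.mem_centralizer_singleton_iff.1 (Subgroup.mem_inf.1 hy₀C).2
  have hns : ∀ c : F, (y₀ : Matrix ι ι F) ≠ c • (1 : Matrix ι ι F) := by
    intro c hc
    apply hy₀Z
    rcases h.scalar_mem y₀ hy₀P c hc with h1 | h1
    · rw [h1]; exact Subgroup.one_mem _
    · rw [h1]; exact Subgroup.mem_zpowers n
  have hD16 := h.card_centralizer_of_not_scalar hι h2 y₀ hy₀P hns
  -- the centralizer of `y₀` is stable
  have hstab : ∀ y ∈ R ⊓ Subgroup.centralizer {y₀}, g * y * g⁻¹ ∈ R ⊓ Subgroup.centralizer {y₀} := by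
    intro y hy
    obtain ⟨hyP, hyC⟩ := Subgroup.mem_inf.1 hy
    rw [Subgroup.mem_centralizer_singleton_iff] at hyC
    refine Subgroup.mem_inf.2 ⟨conj_mem_of_normalizer g hg y hyP, ?_⟩
    rw [Subgroup.mem_centralizer_singleton_iff]
    have hgi : g⁻¹ * y₀ = y₀ * g⁻¹ := by
      calc g⁻¹ * y₀ = g⁻¹ * (y₀ * g) * g⁻¹ := by group
        _ = g⁻¹ * (g * y₀) * g⁻¹ := by rw [hy₀g]
        _ = y₀ * g⁻¹ := by group
    calc g * y * g⁻¹ * y₀ = g * y * (g⁻¹ * y₀) := by group
      _ = g * y * (y₀ * g⁻¹) := by rw [hgi]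
      _ = g * (y * y₀) * g⁻¹ := by group
      _ = g * (y₀ * y) * g⁻¹ := by rw [hyC]
      _ = (g * y₀) * y * g⁻¹ := by group
      _ = (y₀ * g) * y * g⁻¹ := by rw [hy₀g]
      _ = y₀ * (g * y * g⁻¹) := by group
  have hmod := h.card_inf_modEq 7 g z hz (R ⊓ Subgroup.centralizer {y₀}) inf_le_left hstab
  rw [hD16] at hmod
  have hle1 : R ⊓ Subgroup.centralizer {y₀} ⊓ Subgroup.centralizer {g}
      ≤ R ⊓ Subgroup.centralizer {g} :=
    inf_le_inf_right _ inf_le_left
  have hle2 : Subgroup.zpowers n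
      ≤ R ⊓ Subgroup.centralizer {y₀} ⊓ Subgroup.centralizer {g} := by
    rw [Subgroup.zpowers_le]
    refine Subgroup.mem_inf.2 ⟨Subgroup.mem_inf.2 ⟨h.n_mem, ?_⟩, ?_⟩
    · rw [Subgroup.mem_centralizer_singleton_iff]; exact h.n_comm y₀
    · rw [Subgroup.mem_centralizer_singleton_iff]; exact h.n_comm g
  have hd1 := Subgroup.card_dvd_of_le hle1
  have hd2 := Subgroup.card_dvd_of_le hle2
  rw [h8] at hd1
  rw [hZ2] at hd2
  obtain ⟨m, hm⟩ : ∃ m, m = Nat.card ↥(R ⊓ Subgroup.centralizer {y₀} ⊓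
      Subgroup.centralizer {g}) := ⟨_, rfl⟩
  rw [← hm] at hd1 hd2 hmod
  have hm4 : m ≤ 4 := Nat.le_of_dvd (by norm_num) hd1
  have hm2 : m = 2 := by
    interval_cases m <;> first | rfl | (exfalso; revert hmod; decide)
  have heq : Subgroup.zpowers n
      = R ⊓ Subgroup.centralizer {y₀} ⊓ Subgroup.centralizer {g} := by
    haveI : Finite ↥(R ⊓ Subgroup.centralizer {y₀} ⊓ Subgroup.centralizer {g}) :=
      Finite.of_injective (fun y => (⟨y.1, (Subgroup.mem_inf.1 (Subgroup.mem_inf.1 y.2).1).1⟩ : ↥R))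
        (fun a b hab => Subtype.ext (congrArg (fun u : ↥R => (u : GL ι F)) hab))
    exact Subgroup.eq_of_le_of_card_ge hle2 (by rw [← hm, hm2, hZ2])
  apply hy₀Z
  rw [heq]
  refine Subgroup.mem_inf.2 ⟨Subgroup.mem_inf.2 ⟨hy₀P, ?_⟩, (Subgroup.mem_inf.1 hy₀C).2⟩
  rw [Subgroup.mem_centralizer_singleton_iff]

omit h in
/-- a prime dividing one of `30, 28, 24, 16` is at most seven -/
theorem prime_le_seven (r : ℕ) (hr : r.Prime) (hd : r ∣ 1680) : r ≤ 7 := by
  have h1 : (1680 : ℕ) = 2 ^ 4 * (3 * (5 * 7)) := by norm_num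
  rw [h1] at hd
  rcases (Nat.Prime.dvd_mul hr).1 hd with hd | hd
  · have := (Nat.prime_dvd_prime_iff_eq hr Nat.prime_two).1 (hr.dvd_of_dvd_pow hd)
    omega
  rcases (Nat.Prime.dvd_mul hr).1 hd with hd | hd
  · have := (Nat.prime_dvd_prime_iff_eq hr Nat.prime_three).1 hd
    omega
  rcases (Nat.Prime.dvd_mul hr).1 hd with hd | hd
  · have := (Nat.prime_dvd_prime_iff_eq hr Nat.prime_five).1 hd
    omega
  · have := (Nat.prime_dvd_prime_iff_eq hr (by norm_num : Nat.Prime 7)).1 hd
    omega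

/-- an element of the normalizer with `r`-th power scalar, `r ≥ 7` prime, is scalar -/
theorem ESData.scalar_of_seven_le (hι : Fintype.card ι = 4) (h2 : (2 : F) ≠ 0)
    (r : ℕ) [hr : Fact r.Prime] (hr7 : 7 ≤ r)
    (g : GL ι F)
    (hg : g ∈ Subgroup.normalizer (R : Set (GL ι F))) (z : F)
    (hz : ((g ^ r : GL ι F) : Matrix ι ι F) = z • (1 : Matrix ι ι F)) :
    ∃ c : F, (g : Matrix ι ι F) = c • (1 : Matrix ι ι F) := by
  obtain ⟨hcases, hmod⟩ := h.card_centralizer_cases hι h2 r g hg z hz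
  have hd : ∀ m : ℕ, Nat.card ↥(R ⊓ Subgroup.centralizer {g}) = m → m ≤ 32 →
      r ∣ 32 - m := by
    intro m hm hle
    rw [hm] at hmod
    exact (Nat.modEq_iff_dvd' hle).1 hmod.symm
  rcases hcases with h' | h' | h' | h' | h'
  · have := prime_le_seven r hr.out ((hd 2 h' (by norm_num)).trans (by norm_num))
    have h30 : r ∣ 30 := hd 2 h' (by norm_num)
    have : r = 7 := by omega
    rw [this] at h30
    omega
  · have := prime_le_seven r hr.out ((hd 4 h' (by norm_num)).trans (by norm_num))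
    have : r = 7 := by omega
    subst this
    exact absurd h' (h.card_centralizer_ne_four hι h2 g hg z hz)
  · have := prime_le_seven r hr.out ((hd 8 h' (by norm_num)).trans (by norm_num))
    have h24 : r ∣ 24 := hd 8 h' (by norm_num)
    have : r = 7 := by omega
    rw [this] at h24
    omega
  · have := prime_le_seven r hr.out ((hd 16 h' (by norm_num)).trans (by norm_num))
    have h16 : r ∣ 16 := hd 16 h' (by norm_num)
    have : r = 7 := by omega
    rw [this] at h16
    omega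
  · exact h.scalar_of_card_eq g h'

/-- the trace condition for elements of the normalizer with scalar fifth power -/
theorem ESData.trace_five (hι : Fintype.card ι = 4) (h2 : (2 : F) ≠ 0)
    (g : GL ι F)
    (hg : g ∈ Subgroup.normalizer (R : Set (GL ι F))) (z : F)
    (hz : ((g ^ 5 : GL ι F) : Matrix ι ι F) = z • (1 : Matrix ι ι F))
    (hns : ∀ c : F, (g : Matrix ι ι F) ≠ c • (1 : Matrix ι ι F)) :
    2 * Matrix.trace (g : Matrix ι ι F) *
        Matrix.trace ((g⁻¹ : GL ι F) : Matrix ι ι F) = 2 := by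
  have : Fact (Nat.Prime 5) := ⟨Nat.prime_five⟩
  obtain ⟨hcases, hmod⟩ := h.card_centralizer_cases hι h2 5 g hg z hz
  have hf := h.trace_formula hι h2 5 (by norm_num) g hg z hz
  rcases hcases with h' | h' | h' | h' | h'
  · rw [hf, h']; norm_num
  · rw [h'] at hmod; exact absurd hmod (by decide)
  · rw [h'] at hmod; exact absurd hmod (by decide)
  · rw [h'] at hmod; exact absurd hmod (by decide)
  · obtain ⟨c, hc⟩ := h.scalar_of_card_eq g h'
    exact absurd hc (hns c)

end cases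

end Cfsg.Agent.H9.Sp4
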