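import Mathlib
import Cfsg.Agent.H9.Sp4J

set_option autoImplicit false
set_option linter.style.haveILetI false
set_option linter.unusedSectionVars false

/-! The extraspecial group `2^{1+4}_-` of matrices: elements of the normalizer with scalar cube
centralize a non-central element. -/

namespace Cfsg.Agent.H9.Sp4

open Matrix Subgroup

variable {ι : Type} [Fintype ι] [DecidableEq ι] {F : Type*} [Field F]

section three

variable {R : Subgroup (GL ι F)} {n a1 b1 a2 b2 : GL ι F} (h : ESData R n a1 b1 a2 b2)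

include h

/-- an element of the normalizer with scalar cube does not act fixed point freely -/
theorem ESData.card_centralizer_ne_two (hι : Fintype.card ι = 4) (h2 : (2 : F) ≠ 0)
    (g : GL ι F)
    (hg : g ∈ Subgroup.normalizer (R : Set (GL ι F))) (z : F)
    (hz : ((g ^ 3 : GL ι F) : Matrix ι ι F) = z • (1 : Matrix ι ι F)) :
    Nat.card ↥(R ⊓ Subgroup.centralizer {g}) ≠ 2 := by
  intro hc2
  haveI := h.finite
  have : Fact (Nat.Prime 3) := ⟨Nat.prime_three⟩
  have hn1 := h.n_ne_one hι h2
  have hnc : ∀ w : GL ι F, w * n = n * w := h.n_comm'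
  have hn2 := h.n_sq
  have hZ2 : Nat.card ↥(Subgroup.zpowers n) = 2 := by
    rw [Nat.card_zpowers, h.orderOf_n hι h2]
  have hCZ : R ⊓ Subgroup.centralizer {g} = Subgroup.zpowers n := by
    haveI : Finite ↥(R ⊓ Subgroup.centralizer {g}) :=
      Nat.finite_of_card_ne_zero (by rw [hc2]; norm_num)
    exact (Subgroup.eq_of_le_of_card_ge (h.zpowers_le_inf_centralizer g)
      (by rw [hc2, hZ2])).symm
  have hfix : ∀ u ∈ R, g * u * g⁻¹ = u → u = 1 ∨ u = n := by
    intro u hu hgu
    have hmem : u ∈ R ⊓ Subgroup.centralizer {g} := by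
      refine Subgroup.mem_inf.2 ⟨hu, ?_⟩
      rw [Subgroup.mem_centralizer_singleton_iff]
      calc u * g = (g * u * g⁻¹) * g := by rw [hgu]
        _ = g * u := by group
    rw [hCZ] at hmem
    obtain ⟨k, hk⟩ := Subgroup.mem_zpowers_iff.1 hmem
    rw [← hk]
    exact zpow_eq_of_sq_eq_one n hn2 k
  have hg3 : ∀ u : GL ι F, g * (g * (g * u * g⁻¹) * g⁻¹) * g⁻¹ = u := by
    intro u
    have hc := central_of_scalar (g ^ 3) z hz u
    calc g * (g * (g * u * g⁻¹) * g⁻¹) * g⁻¹ = (g ^ 3 * u) * (g ^ 3)⁻¹ := by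
          rw [show g ^ 3 = g * g * g by rw [pow_succ, pow_two]]
          group
      _ = (u * g ^ 3) * (g ^ 3)⁻¹ := by rw [hc]
      _ = u := by group
  obtain ⟨e1, e2, e3, e4, e5, e6, e7, e8, e9, e10⟩ := h.gens
  obtain ⟨t, ht⟩ : ∃ t, t = a1 := ⟨_, rfl⟩
  have htR : t ∈ R := by rw [ht]; exact h.a1_mem
  have ht2 : t * t = 1 := by rw [ht]; exact e1
  obtain ⟨t₁, ht₁⟩ : ∃ t₁, t₁ = g * t * g⁻¹ := ⟨_, rfl⟩
  obtain ⟨t₂, ht₂⟩ : ∃ t₂, t₂ = g * t₁ * g⁻¹ := ⟨_, rfl⟩
  have ht₁R : t₁ ∈ R := by rw [ht₁]; exact conj_mem_of_normalizer g hg t htR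
  have ht₂R : t₂ ∈ R := by rw [ht₂]; exact conj_mem_of_normalizer g hg t₁ ht₁R
  have ht₃ : g * t₂ * g⁻¹ = t := by rw [ht₂, ht₁]; exact hg3 t
  have ht₁2 : t₁ * t₁ = 1 := by
    rw [ht₁]
    calc g * t * g⁻¹ * (g * t * g⁻¹) = g * (t * t) * g⁻¹ := by group
      _ = 1 := by rw [ht2]; group
  have ht₂2 : t₂ * t₂ = 1 := by
    rw [ht₂]
    calc g * t₁ * g⁻¹ * (g * t₁ * g⁻¹) = g * (t₁ * t₁) * g⁻¹ := by group
      _ = 1 := by rw [ht₁2]; group
  -- `t` is not fixed, even up to sign
  have htn : t ≠ 1 ∧ t ≠ n := by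
    have hne := ne_of_anti n hnc hn2 hn1 e5
    constructor
    · intro h1
      apply hne
      rw [← ht, h1, one_mul, mul_one]
    · intro h1
      apply hne
      rw [← ht, h1]
      exact (hnc b1).symm
  have hfix1 : g * t * g⁻¹ ≠ t := by
    intro h1
    rcases hfix t htR h1 with h' | h'
    · exact htn.1 h'
    · exact htn.2 h'
  have hcn : ∀ v : GL ι F, g * (n * v) * g⁻¹ = n * (g * v * g⁻¹) := by
    intro v
    calc g * (n * v) * g⁻¹ = (g * n) * v * g⁻¹ := by group
      _ = (n * g) * v * g⁻¹ := by rw [hnc g]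
      _ = n * (g * v * g⁻¹) := by group
  have key : ∀ v : GL ι F, g * v * g⁻¹ ≠ n * v := by
    intro v hv
    have h3 : g * (g * (g * v * g⁻¹) * g⁻¹) * g⁻¹ = n * v := by
      calc g * (g * (g * v * g⁻¹) * g⁻¹) * g⁻¹ = g * (g * (n * v) * g⁻¹) * g⁻¹ := by rw [hv]
        _ = g * (n * (g * v * g⁻¹)) * g⁻¹ := by rw [hcn v]
        _ = g * (n * (n * v)) * g⁻¹ := by rw [hv]
        _ = g * ((n * n) * v) * g⁻¹ := by group
        _ = g * v * g⁻¹ := by rw [hn2, one_mul]
        _ = n * v := hv
    rw [hg3 v] at h3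
    apply hn1
    have : n * v = 1 * v := by rw [← h3, one_mul]
    exact mul_right_cancel this
  -- the product of the orbit is fixed
  obtain ⟨u, hu⟩ : ∃ u, u = t * t₁ * t₂ := ⟨_, rfl⟩
  have huR : u ∈ R := by rw [hu]; exact Subgroup.mul_mem _ (Subgroup.mul_mem _ htR ht₁R) ht₂R
  have hgu : g * u * g⁻¹ = t₁ * t₂ * t := by
    rw [hu]
    calc g * (t * t₁ * t₂) * g⁻¹ = (g * t * g⁻¹) * (g * t₁ * g⁻¹) * (g * t₂ * g⁻¹) := by group
      _ = t₁ * t₂ * t := by rw [← ht₁, ← ht₂, ht₃]
  have hgu' : g * u * g⁻¹ = u := by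
    rcases h.pm t htR (t₁ * t₂) (Subgroup.mul_mem _ ht₁R ht₂R) with h1 | h1
    · rw [hgu, hu, mul_assoc t, h1]
    · exfalso
      have h5 : g * u * g⁻¹ = n * u := by
        rw [hgu, hu, mul_assoc t, h1, ← mul_assoc, hn2, one_mul]
      exact key u h5
  have hu1n : u = 1 ∨ u = n := hfix u huR hgu'
  -- hence `t` and `t₁` commute
  have hsq : (t * t₁) * (t * t₁) = 1 := by
    have h1 : t₂ = (t * t₁)⁻¹ * u := by rw [hu]; group
    have h2' : ((t * t₁)⁻¹ * u) * ((t * t₁)⁻¹ * u) = 1 := by rw [← h1]; exact ht₂2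
    have h3 : ((t * t₁)⁻¹ * u) * ((t * t₁)⁻¹ * u) = ((t * t₁) * (t * t₁))⁻¹ := by
      rcases hu1n with h' | h'
      · rw [h']; group
      · have hw : ∀ w : GL ι F, (w * n) * (w * n) = w * w := by
          intro w
          calc (w * n) * (w * n) = w * (n * w) * n := by group
            _ = w * (w * n) * n := by rw [← hnc w]
            _ = (w * w) * (n * n) := by group
            _ = w * w := by rw [hn2, mul_one]
        rw [h', hw]
        group
    rw [h3] at h2'
    exact inv_eq_one.1 h2'
  have hcomm : t * t₁ = t₁ * t := by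
    rcases h.pm t htR t₁ ht₁R with h1 | h1
    · exact h1
    · exfalso
      have := sq_mul_of_anti n hnc hn2 h1
      rw [hsq, ht2, ht₁2, one_mul, mul_one] at this
      exact hn1 this.symm
  -- the elementary abelian subgroup
  obtain ⟨A, hA⟩ : ∃ A : Subgroup (GL ι F), A = closure ({t₁, t, n} : Set (GL ι F)) := ⟨_, rfl⟩
  have hgen : ∀ a ∈ ({t₁, t, n} : Set (GL ι F)), ∀ b ∈ ({t₁, t, n} : Set (GL ι F)),
      a * b = b * a := by
    intro a ha b hb
    rcases ha with rfl | rfl | rfl <;> rcases hb with rfl | rfl | rfl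
    · rfl
    · exact hcomm.symm
    · exact hnc _
    · exact hcomm
    · rfl
    · exact hnc _
    · exact (hnc _).symm
    · exact (hnc _).symm
    · rfl
  have hgen2 : ∀ a ∈ ({t₁, t, n} : Set (GL ι F)), a * a = 1 := by
    intro a ha
    rcases ha with rfl | rfl | rfl
    · exact ht₁2
    · exact ht2
    · exact hn2
  have hAR : A ≤ R := by
    rw [hA, closure_le]
    intro a ha
    rcases ha with rfl | rfl | rfl
    · exact ht₁R
    · exact htR
    · exact h.n_mem
  have hAab : ∀ x ∈ A, ∀ y ∈ A, x * y = y * x := by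
    rw [hA]
    intro x hx y hy
    haveI := isMulCommutative_closure hgen
    have := (inferInstance : IsMulCommutative (closure ({t₁, t, n} : Set (GL ι F)))).is_comm.comm
      (⟨x, hx⟩ : closure ({t₁, t, n} : Set (GL ι F))) ⟨y, hy⟩
    exact congrArg Subtype.val this
  have hA2 : ∀ x ∈ A, x * x = 1 := by
    rw [hA]
    exact sq_eq_one_of_closure _ hgen hgen2
  have hlt := h.minus A hAR hAab hA2
  -- but `A` is stable and has order at least eight
  have ht₂A : t₂ ∈ A := by
    have h1 : t₂ = (t * t₁)⁻¹ * u := by rw [hu]; group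
    rw [h1, hA]
    have htm : t ∈ closure ({t₁, t, n} : Set (GL ι F)) := subset_closure (by simp)
    have ht₁m : t₁ ∈ closure ({t₁, t, n} : Set (GL ι F)) := subset_closure (by simp)
    have hnm : n ∈ closure ({t₁, t, n} : Set (GL ι F)) := subset_closure (by simp)
    refine Subgroup.mul_mem _ (Subgroup.inv_mem _ (Subgroup.mul_mem _ htm ht₁m)) ?_
    rcases hu1n with h' | h'
    · rw [h']; exact Subgroup.one_mem _
    · rw [h']; exact hnm
  have hstab : ∀ y ∈ A, g * y * g⁻¹ ∈ A := by
    intro y hy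
    rw [hA] at hy
    induction hy using closure_induction with
    | mem y hy =>
      rcases hy with rfl | rfl | rfl
      · rw [← ht₂]; exact ht₂A
      · rw [← ht₁, hA]; exact subset_closure (by simp)
      · have : g * y * g⁻¹ = y := by
          calc g * y * g⁻¹ = (g * y) * g⁻¹ := rfl
            _ = (y * g) * g⁻¹ := by rw [hnc g]
            _ = y := by group
        rw [this, hA]; exact subset_closure (by simp)
    | one =>
      have : g * 1 * g⁻¹ = 1 := by group
      rw [this]; exact Subgroup.one_mem _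
    | mul a b _ _ iha ihb =>
      have : g * (a * b) * g⁻¹ = (g * a * g⁻¹) * (g * b * g⁻¹) := by group
      rw [this]; exact Subgroup.mul_mem _ iha ihb
    | inv a _ iha =>
      have : g * a⁻¹ * g⁻¹ = (g * a * g⁻¹)⁻¹ := by group
      rw [this]; exact Subgroup.inv_mem _ iha
  have hmod := h.card_inf_modEq 3 g z hz A hAR hstab
  have hAinf : A ⊓ Subgroup.centralizer {g} = Subgroup.zpowers n := by
    apply le_antisymm
    · rw [← hCZ]
      exact inf_le_inf_right _ hAR
    · rw [Subgroup.zpowers_le, Subgroup.mem_inf, Subgroup.mem_centralizer_singleton_iff]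
      refine ⟨?_, h.n_comm g⟩
      rw [hA]; exact subset_closure (by simp)
  rw [hAinf, hZ2] at hmod
  have hZA : Subgroup.zpowers n ≤ A := by rw [← hAinf]; exact inf_le_left
  have hcases := h.card_inf_cases hι h2 A hZA hAR
  -- `A` has at least four elements
  have h4 : 4 ≤ Nat.card ↥A := by
    have m0 : n ∉ closure (∅ : Set (GL ι F)) := by
      rw [Subgroup.closure_empty, mem_bot]
      exact hn1
    have m1 : t ∉ closure (insert n (∅ : Set (GL ι F))) := by
      apply not_mem_closure_of _ b1 t _ (by rw [ht]; exact ne_of_anti n hnc hn2 hn1 e5)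
      intro w hw
      rcases hw with rfl | hw
      · exact (hnc b1).symm
      · exact absurd hw (Set.notMem_empty w)
    have hle : closure (insert t (insert n (∅ : Set (GL ι F)))) ≤ A := by
      rw [hA]
      apply Subgroup.closure_mono
      intro w hw
      rcases hw with rfl | rfl | hw
      · simp
      · simp
      · exact absurd hw (Set.notMem_empty w)
    haveI : Finite ↥A := Finite.of_injective (fun y : ↥A => (⟨y.1, hAR y.2⟩ : ↥R))
      (fun a b hab => Subtype.ext (congrArg (fun u : ↥R => (u : GL ι F)) hab))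
    have hsub : ∀ S : Subgroup (GL ι F), S ≤ A → Finite ↥S := fun S hS =>
      Finite.of_injective (fun y : ↥S => (⟨y.1, hS y.2⟩ : ↥A))
        (fun a b hab => Subtype.ext (congrArg (fun u : ↥A => (u : GL ι F)) hab))
    have hcardle := Subgroup.card_le_of_le hle
    -- count inside the finite group `A`
    have c1 : 2 ≤ Nat.card ↥(closure (insert n (∅ : Set (GL ι F)))) := by
      have hle1 : closure (insert n (∅ : Set (GL ι F))) ≤ A :=
        le_trans (Subgroup.closure_mono (Set.subset_insert _ _)) hle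
      haveI := hsub _ hle1
      have hpos : n ∈ closure (insert n (∅ : Set (GL ι F))) := subset_closure (by simp)
      have : Subgroup.zpowers n ≤ closure (insert n (∅ : Set (GL ι F))) := by
        rw [Subgroup.zpowers_le]; exact hpos
      have := Subgroup.card_le_of_le this
      rw [hZ2] at this
      exact this
    have c2 : 2 * Nat.card ↥(closure (insert n (∅ : Set (GL ι F))))
        ≤ Nat.card ↥(closure (insert t (insert n (∅ : Set (GL ι F))))) := by
      haveI := hsub _ hle
      have hmono : closure (insert n (∅ : Set (GL ι F)))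
          ≤ closure (insert t (insert n (∅ : Set (GL ι F)))) :=
        Subgroup.closure_mono (Set.subset_insert _ _)
      haveI := hsub _ (le_trans hmono hle)
      obtain ⟨k, hk⟩ := Subgroup.card_dvd_of_le hmono
      rcases k with _ | _ | k
      · exfalso
        rw [mul_zero] at hk
        exact Nat.card_pos.ne' hk
      · exfalso
        rw [zero_add, mul_one] at hk
        have := Subgroup.eq_of_le_of_card_ge hmono hk.le
        apply m1
        rw [this]
        exact subset_closure (Set.mem_insert _ _)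
      · rw [hk]
        nlinarith [Nat.card_pos (α := closure (insert n (∅ : Set (GL ι F))))]
    omega
  rcases hcases with h' | h' | h' | h' | h'
  · omega
  · rw [h'] at hmod; exact absurd hmod (by decide)
  · omega
  · omega
  · omega

end three

end Cfsg.Agent.H9.Sp4
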