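import Mathlib
import Cfsg.Agent.H9.Sp4K

set_option autoImplicit false
set_option linter.style.haveILetI false
set_option linter.unusedSectionVars false

/-! The extraspecial group `2^{1+4}_-` of matrices: the trace condition for elements with scalar
cube, and the normalizer contains no transvections. -/

namespace Cfsg.Agent.H9.Sp4

open Matrix Subgroup

variable {ι : Type} [Fintype ι] [DecidableEq ι] {F : Type*} [Field F]

section three

variable {R : Subgroup (GL ι F)} {n a1 b1 a2 b2 : GL ι F} (h : ESData R n a1 b1 a2 b2)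

include h

/-- the trace condition for elements of the normalizer with scalar cube -/
theorem ESData.trace_three (hι : Fintype.card ι = 4) (h2 : (2 : F) ≠ 0)
    (g : GL ι F)
    (hg : g ∈ Subgroup.normalizer (R : Set (GL ι F))) (z : F)
    (hz : ((g ^ 3 : GL ι F) : Matrix ι ι F) = z • (1 : Matrix ι ι F))
    (hns : ∀ c : F, (g : Matrix ι ι F) ≠ c • (1 : Matrix ι ι F)) :
    2 * Matrix.trace (g : Matrix ι ι F) *
        Matrix.trace ((g⁻¹ : GL ι F) : Matrix ι ι F) = 8 := by
  have : Fact (Nat.Prime 3) := ⟨Nat.prime_three⟩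
  obtain ⟨hcases, hmod⟩ := h.card_centralizer_cases hι h2 3 g hg z hz
  have hf := h.trace_formula hι h2 3 (by norm_num) g hg z hz
  rcases hcases with h' | h' | h' | h' | h'
  · exact absurd h' (h.card_centralizer_ne_two hι h2 g hg z hz)
  · rw [h'] at hmod; exact absurd hmod (by decide)
  · rw [hf, h']; norm_num
  · rw [h'] at hmod; exact absurd hmod (by decide)
  · obtain ⟨c, hc⟩ := h.scalar_of_card_eq g h'
    exact absurd hc (hns c)

end three

section rankone

/-- the rank one property of `vecMulVec` -/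
theorem vecMulVec_rank_one (v φ : ι → F) (M : Matrix ι ι F) :
    vecMulVec v φ * M * vecMulVec v φ = Matrix.trace (vecMulVec v φ * M) • vecMulVec v φ := by
  rw [Matrix.vecMulVec_mul, Matrix.vecMulVec_mul_vecMulVec, Matrix.trace_vecMulVec]
  ext a b
  simp only [Matrix.vecMulVec_apply, Pi.smul_apply, Matrix.smul_apply, smul_eq_mul]
  rw [dotProduct_comm v]
  ring

variable (N : Matrix ι ι F)
  (hrk : ∀ M : Matrix ι ι F, N * M * N = Matrix.trace (N * M) • N)

include hrk

theorem rk_trace1 (Y Yi : Matrix ι ι F) :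
    Matrix.trace (Y * N * Yi * N) = Matrix.trace (N * Y) * Matrix.trace (N * Yi) := by
  have h1 : Y * N * Yi * N = (Y * N * Yi) * N := rfl
  rw [h1, Matrix.trace_mul_comm]
  have h2 : N * (Y * N * Yi) = (N * Y * N) * Yi := by simp only [Matrix.mul_assoc]
  rw [h2, hrk, Matrix.smul_mul, Matrix.trace_smul, smul_eq_mul]

theorem rk_trace2 (Y Yi Ci : Matrix ι ι F) :
    Matrix.trace (Y * N * Yi * N * Ci) = Matrix.trace (N * Yi) * Matrix.trace (N * (Ci * Y)) := by
  have h1 : Y * N * Yi * N * Ci = Y * (N * Yi * N * Ci) := by simp only [Matrix.mul_assoc]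
  rw [h1, Matrix.trace_mul_comm]
  have h2 : N * Yi * N * Ci * Y = (N * Yi * N) * (Ci * Y) := by simp only [Matrix.mul_assoc]
  rw [h2, hrk, Matrix.smul_mul, Matrix.trace_smul, smul_eq_mul]

end rankone

section unip

theorem inv_val_of_mul_eq_one (g : GL ι F) (B : Matrix ι ι F)
    (h : (g : Matrix ι ι F) * B = 1) :
    ((g⁻¹ : GL ι F) : Matrix ι ι F) = B := by
  calc ((g⁻¹ : GL ι F) : Matrix ι ι F)
      = ((g⁻¹ : GL ι F) : Matrix ι ι F) * ((g : Matrix ι ι F) * B) := by
        rw [h, Matrix.mul_one]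
    _ = B := by rw [← Matrix.mul_assoc, Units.inv_mul, Matrix.one_mul]

/-- the matrix of a commutator with a unipotent element `1 + N`, `N² = 0` -/
theorem val_comm_unip (g y : GL ι F) (N : Matrix ι ι F)
    (hN : (g : Matrix ι ι F) = 1 + N) (hN2 : N * N = 0) :
    ((y * g * y⁻¹ * g⁻¹ : GL ι F) : Matrix ι ι F)
      = 1 + (y : Matrix ι ι F) * N
          * ((y⁻¹ : GL ι F) : Matrix ι ι F) - N
        - (y : Matrix ι ι F) * N
          * ((y⁻¹ : GL ι F) : Matrix ι ι F) * N := by
  have hginv : ((g⁻¹ : GL ι F) : Matrix ι ι F) = 1 - N := by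
    apply inv_val_of_mul_eq_one
    rw [hN]
    calc (1 + N) * (1 - N) = 1 - N * N := by noncomm_ring
      _ = 1 := by rw [hN2, sub_zero]
  obtain ⟨Y, hY⟩ : ∃ Y, Y = (y : Matrix ι ι F) := ⟨_, rfl⟩
  obtain ⟨Yi, hYi⟩ : ∃ Yi, Yi = ((y⁻¹ : GL ι F) : Matrix ι ι F) := ⟨_, rfl⟩
  have hYYi : Y * Yi = 1 := by rw [hY, hYi, Units.mul_inv]
  simp only [Units.val_mul]
  rw [hginv, hN, ← hY, ← hYi]
  calc Y * (1 + N) * Yi * (1 - N) = (Y * Yi + Y * N * Yi) * (1 - N) := by noncomm_ring
    _ = (1 + Y * N * Yi) * (1 - N) := by rw [hYYi]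
    _ = 1 + Y * N * Yi - N - Y * N * Yi * N := by noncomm_ring

theorem trace_comm_unip (hι : Fintype.card ι = 4) (g y : GL ι F) (N : Matrix ι ι F)
    (hN : (g : Matrix ι ι F) = 1 + N) (hN2 : N * N = 0) :
    Matrix.trace ((y * g * y⁻¹ * g⁻¹ : GL ι F) : Matrix ι ι F)
      = 4 - Matrix.trace ((y : Matrix ι ι F) * N *
        ((y⁻¹ : GL ι F) : Matrix ι ι F) * N) := by
  rw [val_comm_unip g y N hN hN2]
  have htM : Matrix.trace ((y : Matrix ι ι F) * N * ((y⁻¹ : GL ι F) : Matrix ι ι F))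
      = Matrix.trace N := Matrix.trace_units_conj y N
  simp only [Matrix.trace_sub, Matrix.trace_add, Matrix.trace_one, hι, htM]
  push_cast
  ring

end unip

end Cfsg.Agent.H9.Sp4
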