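import Mathlib
import Cfsg.Agent.H9.Sp4L

set_option autoImplicit false
set_option linter.style.haveILetI false
set_option linter.unusedSectionVars false

/-! The extraspecial group `2^{1+4}_-` of matrices: the normalizer contains no transvections. -/

namespace Cfsg.Agent.H9.Sp4

open Matrix Subgroup

variable {ι : Type} [Fintype ι] [DecidableEq ι] {F : Type*} [Field F]

section main

variable {R : Subgroup (GL ι F)} {n a1 b1 a2 b2 : GL ι F} (h : ESData R n a1 b1 a2 b2)
  (hι : Fintype.card ι = 4) (h2 : (2 : F) ≠ 0)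
  (g : GL ι F) (hg : g ∈ Subgroup.normalizer (R : Set (GL ι F)))
  (r : ℕ) (hr : Nat.Coprime r 32) (hgr : g ^ r = 1)
  (N : Matrix ι ι F) (hN : (g : Matrix ι ι F) = 1 + N)
  (hrk : ∀ M : Matrix ι ι F, N * M * N = Matrix.trace (N * M) • N)
  (htr : Matrix.trace N = 0)

include h hι h2 hg hr hgr hN hrk htr

/-- elements of `R` on which the functional `tr (N ·)` vanishes commute with `1 + N` -/
theorem ESData.comm_of_trace_zero (w : GL ι F) (hw : w ∈ R)
    (hℓ : Matrix.trace (N * (w : Matrix ι ι F)) = 0) : w * g = g * w := by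
  have hN2 : N * N = 0 := by
    have := hrk 1
    rw [Matrix.mul_one, htr, zero_smul] at this
    exact this
  by_contra hne
  have hg1 : ((g ^ r : GL ι F) : Matrix ι ι F)
      = (1 : F) • (1 : Matrix ι ι F) := by
    rw [hgr, one_smul, Units.val_one]
  have hk := comm_mem_of_normalizer g hg w hw
  have ht : Matrix.trace ((w * g * w⁻¹ * g⁻¹ : GL ι F) : Matrix ι ι F) = 0 := by
    apply h.trace_eq_zero h2 _ hk
    intro c hc
    apply hne
    have h' := h.comm_eq_one_of_scalar r hr g 1 hg1 w hk c hc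
    calc w * g = (w * g * w⁻¹ * g⁻¹) * (g * w) := by group
      _ = g * w := by rw [h', one_mul]
  rw [trace_comm_unip hι g w N hN hN2, rk_trace1 N hrk, hℓ, zero_mul, sub_zero] at ht
  have h4 : (4 : F) = 2 * 2 := by norm_num
  rw [h4] at ht
  rcases mul_eq_zero.1 ht with h' | h' <;> exact h2 h'

/-- a unipotent element `1 + N`, `N` of rank one, of order prime to two in the normalizer of
`R` is trivial -/
theorem ESData.eq_one_of_rank_one : g = 1 := by
  classical
  haveI := h.finite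
  have hN2 : N * N = 0 := by
    have := hrk 1
    rw [Matrix.mul_one, htr, zero_smul] at this
    exact this
  have hn1 := h.n_ne_one hι h2
  have hne' : Nonempty ι := by
    rw [← Fintype.card_pos_iff, hι]; norm_num
  by_contra hne
  -- some element of `R` does not commute with `g`
  obtain ⟨y, hyP, hyg⟩ : ∃ y ∈ R, y * g ≠ g * y := by
    by_contra hcon
    push Not at hcon
    obtain ⟨c, hc⟩ := h.scalar_of_commute g hcon
    apply hne
    have hNc : N = (c - 1) • (1 : Matrix ι ι F) := by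
      have : N = (g : Matrix ι ι F) - 1 := by rw [hN]; abel
      rw [this, hc, sub_smul, one_smul]
    obtain ⟨k0⟩ := hne'
    have h00 := congrFun (congrFun hN2 k0) k0
    rw [hNc, Matrix.smul_mul, Matrix.one_mul, Matrix.smul_apply, Matrix.smul_apply,
      Matrix.one_apply_eq, smul_eq_mul, smul_eq_mul, mul_one, Matrix.zero_apply] at h00
    have hc1 : c = 1 := by
      have := mul_self_eq_zero.1 h00
      linear_combination this
    apply Units.ext
    rw [hc, hc1, one_smul, Units.val_one]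
  have hg1 : ((g ^ r : GL ι F) : Matrix ι ι F)
      = (1 : F) • (1 : Matrix ι ι F) := by
    rw [hgr, one_smul, Units.val_one]
  obtain ⟨k, hkdef⟩ : ∃ k, k = y * g * y⁻¹ * g⁻¹ := ⟨_, rfl⟩
  have hk : k ∈ R := by rw [hkdef]; exact comm_mem_of_normalizer g hg y hyP
  have hkns : ∀ c : F, (k : Matrix ι ι F) ≠ c • (1 : Matrix ι ι F) := by
    intro c hc
    apply hyg
    rw [hkdef] at hk hc
    have h' := h.comm_eq_one_of_scalar r hr g 1 hg1 y hk c hc
    calc y * g = (y * g * y⁻¹ * g⁻¹) * (g * y) := by group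
      _ = g * y := by rw [h', one_mul]
  have hyns : ∀ c : F, (y : Matrix ι ι F) ≠ c • (1 : Matrix ι ι F) := by
    intro c hc
    exact hyg (central_of_scalar y c hc g)
  have hℓy : Matrix.trace (N * ((y⁻¹ : GL ι F) : Matrix ι ι F)) ≠ 0 := by
    intro h'
    have := h.comm_of_trace_zero hι h2 g hg r hr hgr N hN hrk htr y⁻¹
      (Subgroup.inv_mem _ hyP) h'
    apply hyg
    calc y * g = y * (g * y⁻¹) * y := by group
      _ = y * (y⁻¹ * g) * y := by rw [this]
      _ = g * y := by group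
  -- the key step
  have key : ∀ c : GL ι F, c ∈ R → c * y = y * c →
      (∀ a : F, (c : Matrix ι ι F) ≠ a • (1 : Matrix ι ι F)) →
      (∀ a : F, ((k * c⁻¹ : GL ι F) : Matrix ι ι F)
        ≠ a • (1 : Matrix ι ι F)) → (c⁻¹ * y) * g = g * (c⁻¹ * y) := by
    intro c hcP hcy hcns hkcns
    apply h.comm_of_trace_zero hι h2 g hg r hr hgr N hN hrk htr _
      (Subgroup.mul_mem _ (Subgroup.inv_mem _ hcP) hyP)
    have hcins : ∀ a : F, ((c⁻¹ : GL ι F) : Matrix ι ι F)
        ≠ a • (1 : Matrix ι ι F) := by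
      intro a ha
      have h1 := central_of_scalar c⁻¹ a ha
      obtain ⟨w, hw, hcw⟩ := h.exists_anticommute c hcP hcns
      have h3 : w * c = c * w := by
        have := h1 w
        calc w * c = c * (c⁻¹ * w) * c := by group
          _ = c * (w * c⁻¹) * c := by rw [this]
          _ = c * w := by group
      rw [h3] at hcw
      have : n = 1 := by
        calc n = (n * (c * w)) * (c * w)⁻¹ := by group
          _ = 1 := by rw [← hcw]; group
      exact hn1 this
    have ht0 : Matrix.trace ((k * c⁻¹ : GL ι F) : Matrix ι ι F) = 0 :=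
      h.trace_eq_zero h2 _ (Subgroup.mul_mem _ hk (Subgroup.inv_mem _ hcP)) hkcns
    have htc : Matrix.trace ((c⁻¹ : GL ι F) : Matrix ι ι F) = 0 :=
      h.trace_eq_zero h2 _ (Subgroup.inv_mem _ hcP) hcins
    obtain ⟨Y, hY⟩ : ∃ Y, Y = (y : Matrix ι ι F) := ⟨_, rfl⟩
    obtain ⟨Yi, hYi⟩ : ∃ Yi, Yi = ((y⁻¹ : GL ι F) : Matrix ι ι F) := ⟨_, rfl⟩
    obtain ⟨Ci, hCi⟩ : ∃ Ci, Ci = ((c⁻¹ : GL ι F) : Matrix ι ι F) := ⟨_, rfl⟩
    have hcomm : Yi * Ci * Y = Ci := by
      rw [hY, hYi, hCi, ← Units.val_mul, ← Units.val_mul]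
      congr 1
      calc y⁻¹ * c⁻¹ * y = (c * y)⁻¹ * y := by group
        _ = (y * c)⁻¹ * y := by rw [hcy]
        _ = c⁻¹ := by group
    rw [Units.val_mul, hkdef, val_comm_unip g y N hN hN2, ← hY, ← hYi, ← hCi] at ht0
    have e : (1 + Y * N * Yi - N - Y * N * Yi * N) * Ci
        = Ci + Y * N * Yi * Ci - N * Ci - Y * N * Yi * N * Ci := by noncomm_ring
    rw [e, Matrix.trace_sub, Matrix.trace_sub, Matrix.trace_add, rk_trace2 N hrk] at ht0
    have e2 : Matrix.trace (Y * N * Yi * Ci) = Matrix.trace (N * Ci) := by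
      have h1 : Y * N * Yi * Ci = Y * (N * Yi * Ci) := by simp only [Matrix.mul_assoc]
      rw [h1, Matrix.trace_mul_comm]
      have h2' : N * Yi * Ci * Y = N * (Yi * Ci * Y) := by simp only [Matrix.mul_assoc]
      rw [h2', hcomm]
    rw [e2] at ht0
    rw [← hCi] at htc
    rw [htc] at ht0
    rw [Units.val_mul, ← hCi, ← hY]
    have h0 : Matrix.trace (N * Yi) * Matrix.trace (N * (Ci * Y)) = 0 := by
      linear_combination -ht0
    rcases mul_eq_zero.1 h0 with h' | h'
    · rw [hYi] at h'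
      exact absurd h' hℓy
    · exact h'
  -- counting
  obtain ⟨Zs, hZs⟩ : ∃ Zs : Set (GL ι F),
      Zs = (Subgroup.zpowers n : Set (GL ι F)) := ⟨_, rfl⟩
  have hZcard : Zs.ncard = 2 := by
    rw [hZs, ← Nat.card_coe_set_eq]
    show Nat.card ↥(Subgroup.zpowers n) = 2
    rw [Nat.card_zpowers, h.orderOf_n hι h2]
  have hZfin : Zs.Finite := by
    apply Set.finite_of_ncard_ne_zero
    rw [hZcard]; norm_num
  obtain ⟨S, hS⟩ : ∃ S : Set (GL ι F),
      S = ((fun z => z * 1) '' Zs ∪ (fun z => z * k) '' Zs)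
        ∪ ((fun z => z * y⁻¹) '' Zs ∪ (fun z => z * (k * y⁻¹)) '' Zs) := ⟨_, rfl⟩
  have hScard : S.ncard ≤ 8 := by
    rw [hS]
    have h1 := Set.ncard_image_le (f := fun z : GL ι F => z * 1) hZfin
    have h2' := Set.ncard_image_le (f := fun z : GL ι F => z * k) hZfin
    have h3 := Set.ncard_image_le (f := fun z : GL ι F => z * y⁻¹) hZfin
    have h4 := Set.ncard_image_le (f := fun z : GL ι F => z * (k * y⁻¹)) hZfin
    have h5 := Set.ncard_union_le ((fun z : GL ι F => z * 1) '' Zs)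
      ((fun z : GL ι F => z * k) '' Zs)
    have h6 := Set.ncard_union_le ((fun z : GL ι F => z * y⁻¹) '' Zs)
      ((fun z : GL ι F => z * (k * y⁻¹)) '' Zs)
    have h7 := Set.ncard_union_le (((fun z : GL ι F => z * 1) '' Zs)
      ∪ ((fun z : GL ι F => z * k) '' Zs)) (((fun z : GL ι F => z * y⁻¹) '' Zs)
      ∪ ((fun z : GL ι F => z * (k * y⁻¹)) '' Zs))
    omega
  have hDcard : ((R ⊓ Subgroup.centralizer {y} : Subgroup (GL ι F)) :
      Set (GL ι F)).ncard = 16 := by
    rw [← Nat.card_coe_set_eq]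
    exact h.card_centralizer_of_not_scalar hι h2 y hyP hyns
  have hSfin : S.Finite := by
    rw [hS]
    exact ((hZfin.image _).union (hZfin.image _)).union ((hZfin.image _).union (hZfin.image _))
  obtain ⟨c, hcD, hcS⟩ := Set.exists_mem_notMem_of_ncard_lt_ncard
    (s := S) (t := ((R ⊓ Subgroup.centralizer {y} : Subgroup (GL ι F)) :
      Set (GL ι F))) (by rw [hDcard]; omega) hSfin
  rw [SetLike.mem_coe, Subgroup.mem_inf, Subgroup.mem_centralizer_singleton_iff] at hcD
  obtain ⟨hcP, hcy⟩ := hcD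
  have hcy' : c * y = y * c := hcy
  -- scalar elements of `R` lie in `Zs`
  have hscal : ∀ w : GL ι F, w ∈ R → ∀ a : F,
      (w : Matrix ι ι F) = a • (1 : Matrix ι ι F) → w ∈ Zs := by
    intro w hw a ha
    rw [hZs]
    rcases h.scalar_mem w hw a ha with h1 | h1
    · rw [h1]; exact Subgroup.one_mem _
    · rw [h1]; exact Subgroup.mem_zpowers n
  have hZinv : ∀ w : GL ι F, w ∈ Zs → w⁻¹ ∈ Zs := by
    intro w hw
    rw [hZs] at hw ⊢
    exact Subgroup.inv_mem _ hw
  have hc1 : ∀ a : F, (c : Matrix ι ι F) ≠ a • (1 : Matrix ι ι F) := by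
    intro a ha
    apply hcS
    rw [hS]
    left; left
    exact ⟨c, hscal c hcP a ha, mul_one c⟩
  have hc2 : ∀ a : F, ((k * c⁻¹ : GL ι F) : Matrix ι ι F)
      ≠ a • (1 : Matrix ι ι F) := by
    intro a ha
    apply hcS
    rw [hS]
    left; right
    refine ⟨(k * c⁻¹)⁻¹, hZinv _ (hscal _ (Subgroup.mul_mem _ hk (Subgroup.inv_mem _ hcP)) a ha), ?_⟩
    show (k * c⁻¹)⁻¹ * k = c
    group
  have hc3 : ∀ a : F, ((c * y : GL ι F) : Matrix ι ι F)
      ≠ a • (1 : Matrix ι ι F) := by
    intro a ha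
    apply hcS
    rw [hS]
    right; left
    refine ⟨c * y, hscal _ (Subgroup.mul_mem _ hcP hyP) a ha, ?_⟩
    show c * y * y⁻¹ = c
    group
  have hc4 : ∀ a : F, ((k * (c * y)⁻¹ : GL ι F) : Matrix ι ι F)
      ≠ a • (1 : Matrix ι ι F) := by
    intro a ha
    apply hcS
    rw [hS]
    right; right
    refine ⟨(k * (c * y)⁻¹)⁻¹, hZinv _ (hscal _ (Subgroup.mul_mem _ hk
      (Subgroup.inv_mem _ (Subgroup.mul_mem _ hcP hyP))) a ha), ?_⟩
    show (k * (c * y)⁻¹)⁻¹ * (k * y⁻¹) = c
    group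
  have e1 := key c hcP hcy' hc1 hc2
  have e2 := key (c * y) (Subgroup.mul_mem _ hcP hyP) (by rw [hcy', mul_assoc, hcy']) hc3 hc4
  have e3 : (c * y)⁻¹ * y = c⁻¹ := by
    calc (c * y)⁻¹ * y = (y * c)⁻¹ * y := by rw [hcy']
      _ = c⁻¹ := by group
  rw [e3] at e2
  apply hyg
  have e4 : c * g = g * c := by
    calc c * g = c * (g * c⁻¹) * c := by group
      _ = c * (c⁻¹ * g) * c := by rw [e2]
      _ = g * c := by group
  calc y * g = c * ((c⁻¹ * y) * g) := by group
    _ = c * (g * (c⁻¹ * y)) := by rw [e1]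
    _ = (c * g) * (c⁻¹ * y) := by group
    _ = (g * c) * (c⁻¹ * y) := by rw [e4]
    _ = g * y := by group

end main

end Cfsg.Agent.H9.Sp4
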