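import Mathlib
import Cfsg.Prelude.Def_ClassicalGeometry
import Cfsg.Agent.Lib.Helper5.Symp

set_option autoImplicit false
set_option linter.style.haveILetI false
set_option linter.unusedSectionVars false

/-! Explicit elements of `Sp₄(F)`: a `2 × 2` block on a hyperbolic pair. -/

namespace Cfsg.Agent.H9.Sp4

open Matrix

variable {F : Type*} [Field F]

/-- membership in `spGL` in terms of Mathlib's symplectic group -/
theorem mem_spGL_iff (m : ℕ) (g : GL (Fin m ⊕ Fin m) F) :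
    g ∈ Cfsg.spGL m F ↔
      (g : Matrix (Fin m ⊕ Fin m) (Fin m ⊕ Fin m) F) ∈ Matrix.symplecticGroup (Fin m) F := by
  rw [Cfsg.Agent.Lib.Helper5.Symp.mem_iff_sympForm]
  rfl

/-- a `2 × 2` matrix acting on the hyperbolic pair `(inl 0, inr 0)` -/
def blk (M : Matrix (Fin 2) (Fin 2) F) : Matrix (Fin 2 ⊕ Fin 2) (Fin 2 ⊕ Fin 2) F :=
  Matrix.fromBlocks (Matrix.diagonal ![M 0 0, 1]) (Matrix.diagonal ![M 0 1, 0])
    (Matrix.diagonal ![M 1 0, 0]) (Matrix.diagonal ![M 1 1, 1])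

theorem blk_one : blk (1 : Matrix (Fin 2) (Fin 2) F) = 1 := by
  unfold blk
  rw [← Matrix.fromBlocks_one]
  congr 1 <;> ext i j <;> fin_cases i <;> fin_cases j <;> simp

theorem blk_mul (M M' : Matrix (Fin 2) (Fin 2) F) : blk (M * M') = blk M * blk M' := by
  unfold blk
  rw [Matrix.fromBlocks_multiply]
  simp only [Matrix.diagonal_mul_diagonal, Matrix.diagonal_add, Matrix.mul_apply, Fin.sum_univ_two]
  congr 1 <;> ext i j <;> fin_cases i <;> fin_cases j <;> simp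

theorem blk_pow (M : Matrix (Fin 2) (Fin 2) F) (k : ℕ) : blk (M ^ k) = blk M ^ k := by
  induction k with
  | zero => rw [pow_zero, pow_zero, blk_one]
  | succ k ih => rw [pow_succ, pow_succ, blk_mul, ih]

theorem trace_blk (M : Matrix (Fin 2) (Fin 2) F) : Matrix.trace (blk M) = Matrix.trace M + 2 := by
  simp [Matrix.trace, Fintype.sum_sum_type, Fin.sum_univ_two, blk]
  ring

theorem blk_mem_symplectic (M : Matrix (Fin 2) (Fin 2) F) (hdet : M.det = 1) :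
    blk M ∈ Matrix.symplecticGroup (Fin 2) F := by
  rw [SymplecticGroup.mem_iff']
  rw [Matrix.det_fin_two] at hdet
  unfold blk Matrix.J
  rw [Matrix.fromBlocks_transpose, Matrix.fromBlocks_multiply, Matrix.fromBlocks_multiply]
  simp only [Matrix.diagonal_transpose, Matrix.mul_zero, Matrix.mul_one, Matrix.mul_neg, zero_add,
    add_zero, Matrix.neg_mul, Matrix.diagonal_mul_diagonal]
  congr 1 <;> ext i j <;> fin_cases i <;> fin_cases j <;> simp <;>
    first | ring1 | linear_combination hdet | linear_combination -hdet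

theorem blk_eq_smul (M : Matrix (Fin 2) (Fin 2) F) (z : F)
    (h : blk M = z • (1 : Matrix (Fin 2 ⊕ Fin 2) (Fin 2 ⊕ Fin 2) F)) : M = 1 := by
  have h11 := congrFun (congrFun h (Sum.inl 1)) (Sum.inl 1)
  have h00 := congrFun (congrFun h (Sum.inl 0)) (Sum.inl 0)
  have h01 := congrFun (congrFun h (Sum.inl 0)) (Sum.inr 0)
  have h10 := congrFun (congrFun h (Sum.inr 0)) (Sum.inl 0)
  have h22 := congrFun (congrFun h (Sum.inr 0)) (Sum.inr 0)
  simp [blk] at h11 h00 h01 h10 h22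
  ext i j
  fin_cases i <;> fin_cases j <;> simp
  · rw [h00, ← h11]
  · exact h01
  · exact h10
  · rw [h22, ← h11]

/-- the block element of `GL` -/
def blkG (M Mi : Matrix (Fin 2) (Fin 2) F) (h1 : M * Mi = 1) (h2 : Mi * M = 1) :
    GL (Fin 2 ⊕ Fin 2) F :=
  ⟨blk M, blk Mi, by rw [← blk_mul, h1, blk_one], by rw [← blk_mul, h2, blk_one]⟩

theorem blkG_val (M Mi : Matrix (Fin 2) (Fin 2) F) (h1 : M * Mi = 1) (h2 : Mi * M = 1) :
    ((blkG M Mi h1 h2 : GL (Fin 2 ⊕ Fin 2) F) : Matrix (Fin 2 ⊕ Fin 2) (Fin 2 ⊕ Fin 2) F)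
      = blk M := rfl

theorem blkG_inv_val (M Mi : Matrix (Fin 2) (Fin 2) F) (h1 : M * Mi = 1) (h2 : Mi * M = 1) :
    (((blkG M Mi h1 h2)⁻¹ : GL (Fin 2 ⊕ Fin 2) F) : Matrix (Fin 2 ⊕ Fin 2) (Fin 2 ⊕ Fin 2) F)
      = blk Mi := rfl

theorem blkG_mem (M Mi : Matrix (Fin 2) (Fin 2) F) (h1 : M * Mi = 1) (h2 : Mi * M = 1)
    (hdet : M.det = 1) : blkG M Mi h1 h2 ∈ Cfsg.spGL 2 F := by
  rw [mem_spGL_iff, blkG_val]
  exact blk_mem_symplectic M hdet

theorem blkG_pow (M Mi : Matrix (Fin 2) (Fin 2) F) (h1 : M * Mi = 1) (h2 : Mi * M = 1) (k : ℕ)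
    (hk : M ^ k = 1) : (blkG M Mi h1 h2) ^ k = 1 := by
  apply Units.ext
  rw [Units.val_pow_eq_pow_val, blkG_val, ← blk_pow, hk, blk_one, Units.val_one]

theorem blkG_not_scalar (M Mi : Matrix (Fin 2) (Fin 2) F) (h1 : M * Mi = 1) (h2 : Mi * M = 1)
    (hM : M ≠ 1) (z : F) :
    ((blkG M Mi h1 h2 : GL (Fin 2 ⊕ Fin 2) F) : Matrix (Fin 2 ⊕ Fin 2) (Fin 2 ⊕ Fin 2) F)
      ≠ z • (1 : Matrix (Fin 2 ⊕ Fin 2) (Fin 2 ⊕ Fin 2) F) := by
  intro h
  rw [blkG_val] at h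
  exact hM (blk_eq_smul M z h)

end Cfsg.Agent.H9.Sp4
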