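import Mathlib
import Cfsg.Agent.H9.Sp4M
import Cfsg.Agent.H9.Sp4N

set_option autoImplicit false
set_option linter.style.haveILetI false
set_option linter.unusedSectionVars false

/-! Explicit elements of `Sp₄(F)` of order three, five and `p` with no conjugate in the
normalizer of an extraspecial group `2^{1+4}_-`. -/

namespace Cfsg.Agent.H9.Sp4

open Matrix

section conj

variable {ι : Type} [Fintype ι] [DecidableEq ι] {F : Type*} [Field F]

theorem trace_conj (k x : GL ι F) :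
    Matrix.trace ((k⁻¹ * x * k : GL ι F) : Matrix ι ι F) = Matrix.trace (x : Matrix ι ι F) := by
  rw [Units.val_mul, Units.val_mul]
  exact Matrix.trace_units_conj' k (x : Matrix ι ι F)

theorem conj_inv (k x : GL ι F) : (k⁻¹ * x * k)⁻¹ = k⁻¹ * x⁻¹ * k := by group

theorem conj_pow_eq_one (k x : GL ι F) (r : ℕ) (hx : x ^ r = 1) : (k⁻¹ * x * k) ^ r = 1 := by
  have := conj_pow (a := k⁻¹) (b := x) (i := r)
  rw [inv_inv] at this
  rw [this, hx]
  group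

theorem conj_not_scalar (k x : GL ι F)
    (hx : ∀ z : F, (x : Matrix ι ι F) ≠ z • (1 : Matrix ι ι F)) (c : F) :
    ((k⁻¹ * x * k : GL ι F) : Matrix ι ι F) ≠ c • (1 : Matrix ι ι F) := by
  intro hc
  apply hx c
  have hcen := central_of_scalar (k⁻¹ * x * k) c hc
  have : x = k⁻¹ * x * k := by
    calc x = k * (k⁻¹ * x * k) * k⁻¹ := by group
      _ = (k⁻¹ * x * k) * k * k⁻¹ := by rw [← hcen k]
      _ = k⁻¹ * x * k := by group
  rw [this]
  exact hc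

theorem conj_pow_scalar (k x : GL ι F) (r : ℕ) (z : F)
    (hx : ((x ^ r : GL ι F) : Matrix ι ι F) = z • (1 : Matrix ι ι F)) :
    (((k⁻¹ * x * k) ^ r : GL ι F) : Matrix ι ι F) = z • (1 : Matrix ι ι F) := by
  have := conj_pow (a := k⁻¹) (b := x) (i := r)
  rw [inv_inv] at this
  rw [this]
  have hcen := central_of_scalar (x ^ r) z hx
  have : k⁻¹ * x ^ r * k = x ^ r := by
    calc k⁻¹ * x ^ r * k = k⁻¹ * (x ^ r * k) := by group
      _ = k⁻¹ * (k * x ^ r) := by rw [hcen k]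
      _ = x ^ r := by group
  rw [this]
  exact hx

end conj

section tests

variable {F : Type*} [Field F]

/-- the block of order three -/
def M3 : Matrix (Fin 2) (Fin 2) F := !![0, -1; 1, -1]

def M3i : Matrix (Fin 2) (Fin 2) F := !![-1, 1; -1, 0]

theorem M3_mul_M3i : (M3 : Matrix (Fin 2) (Fin 2) F) * M3i = 1 := by
  ext i j; fin_cases i <;> fin_cases j <;> simp [M3, M3i]

theorem M3i_mul_M3 : (M3i : Matrix (Fin 2) (Fin 2) F) * M3 = 1 := by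
  ext i j; fin_cases i <;> fin_cases j <;> simp [M3, M3i]

theorem M3_pow : (M3 : Matrix (Fin 2) (Fin 2) F) ^ 3 = 1 := by
  rw [pow_succ, pow_two]
  ext i j; fin_cases i <;> fin_cases j <;> simp [M3]

/-- an element of order three of `Sp₄(F)` -/
def y3 : GL (Fin 2 ⊕ Fin 2) F := blkG M3 M3i M3_mul_M3i M3i_mul_M3

theorem y3_mem : (y3 : GL (Fin 2 ⊕ Fin 2) F) ∈ Cfsg.spGL 2 F := by
  apply blkG_mem
  rw [Matrix.det_fin_two]
  simp [M3]

theorem y3_pow : (y3 : GL (Fin 2 ⊕ Fin 2) F) ^ 3 = 1 := blkG_pow _ _ _ _ 3 M3_pow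

theorem y3_not_scalar (z : F) :
    ((y3 : GL (Fin 2 ⊕ Fin 2) F) : Matrix (Fin 2 ⊕ Fin 2) (Fin 2 ⊕ Fin 2) F)
      ≠ z • (1 : Matrix (Fin 2 ⊕ Fin 2) (Fin 2 ⊕ Fin 2) F) := by
  apply blkG_not_scalar
  intro h
  have := congrFun (congrFun h 0) 1
  simp [M3] at this

theorem trace_y3 : Matrix.trace ((y3 : GL (Fin 2 ⊕ Fin 2) F) :
    Matrix (Fin 2 ⊕ Fin 2) (Fin 2 ⊕ Fin 2) F) = 1 := by
  unfold y3
  rw [blkG_val, trace_blk, Matrix.trace_fin_two]
  simp [M3]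
  norm_num

theorem trace_y3_inv : Matrix.trace (((y3 : GL (Fin 2 ⊕ Fin 2) F)⁻¹ : GL (Fin 2 ⊕ Fin 2) F) :
    Matrix (Fin 2 ⊕ Fin 2) (Fin 2 ⊕ Fin 2) F) = 1 := by
  unfold y3
  rw [blkG_inv_val, trace_blk, Matrix.trace_fin_two]
  simp [M3i]
  norm_num

/-- the block of order five -/
def M5 (t : F) : Matrix (Fin 2) (Fin 2) F := !![0, -1; 1, t]

def M5i (t : F) : Matrix (Fin 2) (Fin 2) F := !![t, 1; -1, 0]

theorem M5_mul_M5i (t : F) : M5 t * M5i t = 1 := by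
  ext i j; fin_cases i <;> fin_cases j <;> simp [M5, M5i]

theorem M5i_mul_M5 (t : F) : M5i t * M5 t = 1 := by
  ext i j; fin_cases i <;> fin_cases j <;> simp [M5, M5i]

theorem M5_sq (t : F) : M5 t * M5 t = t • M5 t - 1 := by
  ext i j; fin_cases i <;> fin_cases j <;> simp [M5] <;> ring

theorem pow_five_of_sq2 (M : Matrix (Fin 2) (Fin 2) F) (t : F) (ht : t ^ 2 + t - 1 = 0)
    (hM : M * M = t • M - 1) : M ^ 5 = 1 := by
  have h3 : M * M * M = (t ^ 2 - 1) • M - t • (1 : Matrix (Fin 2) (Fin 2) F) := by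
    rw [hM, Matrix.sub_mul, Matrix.smul_mul, hM, Matrix.one_mul]
    module
  have h5 : M ^ 5 = (M * M) * (M * M * M) := by
    rw [pow_succ, pow_succ, pow_succ, pow_succ, pow_one]
    simp only [Matrix.mul_assoc]
  rw [h5, h3, hM]
  simp only [Matrix.sub_mul, Matrix.mul_sub, Matrix.smul_mul, Matrix.mul_smul, Matrix.one_mul,
    Matrix.mul_one, hM]
  have e1 : t ^ 4 - 3 * t ^ 2 + 1 = 0 := by linear_combination (t ^ 2 - t - 1) * ht
  have e2 : t ^ 3 - 2 * t + 1 = 0 := by linear_combination (t - 1) * ht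
  have : (t ^ 2 - 1) • (t • (t • M - 1) - M) - t • (t • M - 1)
      = (t ^ 4 - 3 * t ^ 2 + 1) • M - (t ^ 3 - 2 * t + 1) • (1 : Matrix (Fin 2) (Fin 2) F) + 1 := by
    module
  rw [this, e1, e2, zero_smul, zero_smul, sub_zero, zero_add]

/-- an element of order five of `Sp₄(F)` -/
def y5 (t : F) : GL (Fin 2 ⊕ Fin 2) F := blkG (M5 t) (M5i t) (M5_mul_M5i t) (M5i_mul_M5 t)

theorem y5_mem (t : F) : y5 t ∈ Cfsg.spGL 2 F := by
  apply blkG_mem
  rw [Matrix.det_fin_two]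
  simp [M5]

theorem y5_pow (t : F) (ht : t ^ 2 + t - 1 = 0) : (y5 t) ^ 5 = 1 :=
  blkG_pow _ _ _ _ 5 (pow_five_of_sq2 _ t ht (M5_sq t))

theorem y5_not_scalar (t z : F) :
    ((y5 t : GL (Fin 2 ⊕ Fin 2) F) : Matrix (Fin 2 ⊕ Fin 2) (Fin 2 ⊕ Fin 2) F)
      ≠ z • (1 : Matrix (Fin 2 ⊕ Fin 2) (Fin 2 ⊕ Fin 2) F) := by
  apply blkG_not_scalar
  intro h
  have := congrFun (congrFun h 0) 1
  simp [M5] at this

theorem trace_y5 (t : F) : Matrix.trace ((y5 t : GL (Fin 2 ⊕ Fin 2) F) :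
    Matrix (Fin 2 ⊕ Fin 2) (Fin 2 ⊕ Fin 2) F) = t + 2 := by
  unfold y5
  rw [blkG_val, trace_blk, Matrix.trace_fin_two]
  simp [M5]

theorem trace_y5_inv (t : F) : Matrix.trace (((y5 t : GL (Fin 2 ⊕ Fin 2) F)⁻¹ :
    GL (Fin 2 ⊕ Fin 2) F) : Matrix (Fin 2 ⊕ Fin 2) (Fin 2 ⊕ Fin 2) F) = t + 2 := by
  unfold y5
  rw [blkG_inv_val, trace_blk, Matrix.trace_fin_two]
  simp [M5i]

/-- the unipotent block -/
def Mu : Matrix (Fin 2) (Fin 2) F := !![1, 1; 0, 1]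

def Mui : Matrix (Fin 2) (Fin 2) F := !![1, -1; 0, 1]

theorem Mu_mul_Mui : (Mu : Matrix (Fin 2) (Fin 2) F) * Mui = 1 := by
  ext i j; fin_cases i <;> fin_cases j <;> simp [Mu, Mui]

theorem Mui_mul_Mu : (Mui : Matrix (Fin 2) (Fin 2) F) * Mu = 1 := by
  ext i j; fin_cases i <;> fin_cases j <;> simp [Mu, Mui]

theorem Mu_pow (k : ℕ) : (Mu : Matrix (Fin 2) (Fin 2) F) ^ k = !![1, (k : F); 0, 1] := by
  induction k with
  | zero =>
    rw [pow_zero]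
    ext i j; fin_cases i <;> fin_cases j <;> simp
  | succ k ih =>
    rw [pow_succ, ih]
    ext i j; fin_cases i <;> fin_cases j <;> simp [Mu]
    ring

/-- a transvection of `Sp₄(F)` -/
def yu : GL (Fin 2 ⊕ Fin 2) F := blkG Mu Mui Mu_mul_Mui Mui_mul_Mu

theorem yu_mem : (yu : GL (Fin 2 ⊕ Fin 2) F) ∈ Cfsg.spGL 2 F := by
  apply blkG_mem
  rw [Matrix.det_fin_two]
  simp [Mu]

theorem yu_pow (p : ℕ) (hp : (p : F) = 0) : (yu : GL (Fin 2 ⊕ Fin 2) F) ^ p = 1 := by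
  apply blkG_pow
  rw [Mu_pow, hp]
  ext i j; fin_cases i <;> fin_cases j <;> simp

theorem yu_not_scalar (z : F) :
    ((yu : GL (Fin 2 ⊕ Fin 2) F) : Matrix (Fin 2 ⊕ Fin 2) (Fin 2 ⊕ Fin 2) F)
      ≠ z • (1 : Matrix (Fin 2 ⊕ Fin 2) (Fin 2 ⊕ Fin 2) F) := by
  apply blkG_not_scalar
  intro h
  have := congrFun (congrFun h 0) 1
  simp [Mu] at this

/-- the nilpotent part of the transvection -/
def yuN : Matrix (Fin 2 ⊕ Fin 2) (Fin 2 ⊕ Fin 2) F :=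
  vecMulVec (Pi.single (Sum.inl 0) 1) (Pi.single (Sum.inr 0) 1)

theorem yu_val : ((yu : GL (Fin 2 ⊕ Fin 2) F) : Matrix (Fin 2 ⊕ Fin 2) (Fin 2 ⊕ Fin 2) F)
    = 1 + yuN := by
  unfold yu
  rw [blkG_val]
  ext i j
  rcases i with i | i <;> rcases j with j | j <;> fin_cases i <;> fin_cases j <;>
    simp [blk, Mu, yuN, Matrix.vecMulVec_apply, Matrix.one_apply]

theorem yuN_trace : Matrix.trace (yuN : Matrix (Fin 2 ⊕ Fin 2) (Fin 2 ⊕ Fin 2) F) = 0 := by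
  unfold yuN
  rw [Matrix.trace_vecMulVec]
  simp [dotProduct, Fintype.sum_sum_type]

end tests

end Cfsg.Agent.H9.Sp4
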