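import Mathlib
import Cfsg.Agent.H9.Klein6d

set_option autoImplicit false

namespace Cfsg.Agent.H9.Sp4O5

open Matrix Cfsg.Agent.H9.Klein6

universe u
variable {F : Type u} [Field F]

/-- the index type of the five dimensional space -/
abbrev I5 : Type := Unit ⊕ (Fin 2 ⊕ Fin 2)

/-- the reindexing -/
def e4 : Fin 4 ≃ Fin 2 ⊕ Fin 2 where
  toFun := ![.inl 0, .inl 1, .inr 0, .inr 1]
  invFun := Sum.elim ![0, 1] ![2, 3]
  left_inv := by decide
  right_inv := by decide

/-- the vector of the symplectic form -/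
def vJ : I6 → F
  | .inl i => if i = 1 then -1 else 0
  | .inr i => if i = 1 then 1 else 0

theorem phi_vJ : phi (vJ : I6 → F) = (Matrix.J (Fin 2) F).submatrix e4 e4 := by
  ext i j
  fin_cases i <;> fin_cases j <;> simp [phi, vJ, e4, Matrix.J]

theorem Q6_vJ : Q6 (vJ : I6 → F) = -1 := by
  simp [Q6, vJ]

/-- the inclusion of the five dimensional space -/
def iota (u : I5 → F) : I6 → F
  | .inl i => if i = 0 then u (.inr (.inl 0)) else if i = 1 then u (.inl ()) else u (.inr (.inl 1))
  | .inr i => if i = 0 then u (.inr (.inr 0)) else if i = 1 then u (.inl ()) else u (.inr (.inr 1))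

/-- the projection -/
def pi (v : I6 → F) : I5 → F
  | .inl _ => v (.inl 1)
  | .inr (.inl i) => if i = 0 then v (.inl 0) else v (.inl 2)
  | .inr (.inr i) => if i = 0 then v (.inr 0) else v (.inr 2)

theorem pi_iota (u : I5 → F) : pi (iota u) = u := by
  funext i
  rcases i with i | i | i
  · rfl
  · fin_cases i <;> simp [pi, iota]
  · fin_cases i <;> simp [pi, iota]

theorem iota_pi (v : I6 → F) (h : v (.inl 1) = v (.inr 1)) : iota (pi v) = v := by
  funext i
  rcases i with i | i <;> fin_cases i <;> simp [pi, iota, h]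

theorem iota_l1 (u : I5 → F) : iota u (.inl 1) = iota u (.inr 1) := by
  simp [iota]

theorem Q6_iota (u : I5 → F) : Q6 (iota u) = Cfsg.quadFormOdd 2 F u := by
  simp [Q6, iota, Cfsg.quadFormOdd, Fin.sum_univ_two]
  ring

theorem iota_add (u v : I5 → F) : iota (u + v) = iota u + iota v := by
  funext i
  rcases i with i | i <;> fin_cases i <;> simp [iota]

theorem iota_smul (c : F) (u : I5 → F) : iota (c • u) = c • iota u := by
  funext i
  rcases i with i | i <;> fin_cases i <;> simp [iota]

theorem pi_add (u v : I6 → F) : pi (u + v) = pi u + pi v := by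
  funext i
  rcases i with i | i | i
  · rfl
  · fin_cases i <;> simp [pi]
  · fin_cases i <;> simp [pi]

theorem pi_smul (c : F) (u : I6 → F) : pi (c • u) = c • pi u := by
  funext i
  rcases i with i | i | i
  · rfl
  · fin_cases i <;> simp [pi]
  · fin_cases i <;> simp [pi]

/-- the polar pairing with `vJ` -/
theorem polar_vJ (v : I6 → F) : Q6 (vJ + v) - Q6 vJ - Q6 v = v (.inl 1) - v (.inr 1) := by
  simp [Q6, vJ]
  ring

/-- the matrices fixing the form -/
def Good (A : Matrix (Fin 4) (Fin 4) F) : Prop :=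
  A * phi (vJ : I6 → F) * Aᵀ = phi vJ

theorem Good.act_vJ {A : Matrix (Fin 4) (Fin 4) F} (h : Good A) : act A vJ = vJ := by
  apply phi_injective
  rw [phi_act, h]

theorem Good.det {A : Matrix (Fin 4) (Fin 4) F} (h : Good A) : A.det = 1 := by
  have h1 := Q6_act A (vJ : I6 → F)
  rw [h, psi_phi, Q6_vJ] at h1
  linear_combination h1

theorem Good.mul {A B : Matrix (Fin 4) (Fin 4) F} (hA : Good A) (hB : Good B) : Good (A * B) := by
  unfold Good at *
  rw [Matrix.transpose_mul]
  calc A * B * phi vJ * (Bᵀ * Aᵀ) = A * (B * phi vJ * Bᵀ) * Aᵀ := by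
        simp only [Matrix.mul_assoc]
    _ = phi vJ := by rw [hB, hA]

theorem Good.one : Good (1 : Matrix (Fin 4) (Fin 4) F) := by
  unfold Good
  rw [Matrix.transpose_one, one_mul, mul_one]

theorem Good.act_mem {A : Matrix (Fin 4) (Fin 4) F} (h : Good A) (v : I6 → F)
    (hv : v (.inl 1) = v (.inr 1)) : act A v (.inl 1) = act A v (.inr 1) := by
  have h1 := polar_vJ (act A v)
  rw [← h.act_vJ, ← act_add, Q6_act' A h.det, Q6_act' A h.det, Q6_act' A h.det,
    polar_vJ, hv, sub_self] at h1
  linear_combination -h1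

/-- the action on the five dimensional space -/
def act5 (A : Matrix (Fin 4) (Fin 4) F) (u : I5 → F) : I5 → F := pi (act A (iota u))

theorem iota_act5 {A : Matrix (Fin 4) (Fin 4) F} (h : Good A) (u : I5 → F) :
    iota (act5 A u) = act A (iota u) :=
  iota_pi _ (h.act_mem _ (iota_l1 u))

theorem act5_add (A : Matrix (Fin 4) (Fin 4) F) (u v : I5 → F) :
    act5 A (u + v) = act5 A u + act5 A v := by
  unfold act5
  rw [iota_add, act_add, pi_add]

theorem act5_smul (A : Matrix (Fin 4) (Fin 4) F) (c : F) (u : I5 → F) :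
    act5 A (c • u) = c • act5 A u := by
  unfold act5
  rw [iota_smul, act_smul, pi_smul]

theorem act5_one (u : I5 → F) : act5 (1 : Matrix (Fin 4) (Fin 4) F) u = u := by
  unfold act5
  rw [act_one, pi_iota]

theorem act5_mul {A B : Matrix (Fin 4) (Fin 4) F} (hB : Good B) (u : I5 → F) :
    act5 (A * B) u = act5 A (act5 B u) := by
  unfold act5
  rw [act_mul, ← iota_act5 hB]
  rfl

theorem Q_act5 {A : Matrix (Fin 4) (Fin 4) F} (h : Good A) (u : I5 → F) :
    Cfsg.quadFormOdd 2 F (act5 A u) = Cfsg.quadFormOdd 2 F u := by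
  rw [← Q6_iota, iota_act5 h, Q6_act' A h.det, Q6_iota]

/-- the action as a linear map -/
def Lin5 (A : Matrix (Fin 4) (Fin 4) F) : (I5 → F) →ₗ[F] (I5 → F) where
  toFun := act5 A
  map_add' := act5_add A
  map_smul' c v := by simp [act5_smul]

theorem Lin5_apply (A : Matrix (Fin 4) (Fin 4) F) (v : I5 → F) : Lin5 A v = act5 A v := rfl

local notation "Sp4" => Matrix.symplecticGroup (Fin 2) F

/-- reindexed matrix of a symplectic matrix -/
def M4 (A : Sp4) : Matrix (Fin 4) (Fin 4) F := A.1.submatrix e4 e4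

theorem M4_mul (A B : Sp4) : M4 (A * B) = M4 A * M4 B := by
  unfold M4
  rw [Matrix.submatrix_mul_equiv]
  rfl

theorem M4_one : M4 (1 : Sp4) = 1 := by
  unfold M4
  exact Matrix.submatrix_one_equiv e4

theorem M4_good (A : Sp4) : Good (M4 A) := by
  unfold Good M4
  rw [phi_vJ, Matrix.transpose_submatrix, Matrix.submatrix_mul_equiv, Matrix.submatrix_mul_equiv,
    _root_.SymplecticGroup.mem_iff.1 A.2]

theorem M4_injective : Function.Injective (M4 : Sp4 → Matrix (Fin 4) (Fin 4) F) := by
  intro A B h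
  apply Subtype.ext
  ext i j
  have := congrFun (congrFun h (e4.symm i)) (e4.symm j)
  simpa [M4] using this

/-- the action as a monoid hom to matrices -/
noncomputable def Rm : Sp4 →* Matrix I5 I5 F where
  toFun A := LinearMap.toMatrix' (Lin5 (M4 A))
  map_one' := by
    have : Lin5 (M4 (1 : Sp4)) = LinearMap.id := by
      refine LinearMap.ext fun v => ?_
      simp only [M4_one, Lin5_apply, act5_one, LinearMap.id_apply]
    rw [this, LinearMap.toMatrix'_id]
  map_mul' A B := by
    have : Lin5 (M4 (A * B)) = (Lin5 (M4 A)).comp (Lin5 (M4 B)) := by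
      refine LinearMap.ext fun v => ?_
      simp only [M4_mul, Lin5_apply, act5_mul (M4_good B), LinearMap.comp_apply]
    rw [this, LinearMap.toMatrix'_comp]

theorem Rm_mulVec (A : Sp4) (v : I5 → F) : Rm A *ᵥ v = act5 (M4 A) v := by
  change LinearMap.toMatrix' (Lin5 (M4 A)) *ᵥ v = _
  rw [← Matrix.toLin'_apply, Matrix.toLin'_toMatrix', Lin5_apply]

/-- into `GL₅` -/
noncomputable def R0 : Sp4 →* GL I5 F := Rm.toHomUnits

theorem R0_val (A : Sp4) : (R0 A).1 = Rm A := rfl

theorem R0_mem (A : Sp4) : R0 A ∈ Cfsg.isometryGroup F (Cfsg.quadFormOdd 2 F) := by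
  intro u _
  change Cfsg.quadFormOdd 2 F ((R0 A).1 *ᵥ u) = Cfsg.quadFormOdd 2 F u
  rw [R0_val, Rm_mulVec, Q_act5 (M4_good A)]

/-- the representation in the orthogonal group -/
noncomputable def RO : Sp4 →* Cfsg.isometryGroup F (Cfsg.quadFormOdd 2 F) :=
  R0.codRestrict _ R0_mem

theorem RO_mulVec (A : Sp4) (v : I5 → F) :
    ((RO A).1 : GL I5 F).1 *ᵥ v = act5 (M4 A) v := Rm_mulVec A v

local notation "OO" => Cfsg.isometryGroup F (Cfsg.quadFormOdd 2 F)

theorem RO_eq_one_iff (A : Sp4) : (RO A : OO) = 1 ↔ ∀ v, act5 (M4 A) v = v := by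
  constructor
  · intro h v
    rw [← RO_mulVec, h]
    simp
  · intro h
    apply Subtype.ext
    apply Units.ext
    change (R0 A).1 = 1
    rw [R0_val]
    apply Matrix.toLin'.injective
    refine LinearMap.ext fun v => ?_
    rw [Matrix.toLin'_apply, Rm_mulVec, h, Matrix.toLin'_one, LinearMap.id_apply]

end Cfsg.Agent.H9.Sp4O5
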