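import Mathlib
import Cfsg.Agent.H9.Sp4O5
import Cfsg.Agent.H9.PerfIdx
import Cfsg.Agent.S0245
import Cfsg.Agent.S0269
import Cfsg.Agent.S0286

set_option autoImplicit false

namespace Cfsg.Agent.H9.Sp4O5

open Matrix Cfsg.Agent.H9.Klein6
open scoped commutatorElement

universe u
variable {F : Type u} [Field F]

local notation "Sp4" => Matrix.symplecticGroup (Fin 2) F
local notation "OO" => Cfsg.isometryGroup F (Cfsg.quadFormOdd 2 F)

theorem act_eq_of_act5 (h2 : (2 : F) ≠ 0) {A : Matrix (Fin 4) (Fin 4) F} (hA : Good A)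
    (h : ∀ u, act5 A u = u) (v : I6 → F) : act A v = v := by
  set c : F := (v (.inr 1) - v (.inl 1)) / 2 with hc
  set w : I6 → F := v - c • vJ with hw
  have hw1 : w (.inl 1) = w (.inr 1) := by
    simp only [hw, Pi.sub_apply, Pi.smul_apply, smul_eq_mul, vJ]
    simp only [if_true]
    rw [hc]
    field_simp
    ring
  have h1 : act A w = w := by
    rw [← iota_pi w hw1, ← iota_act5 hA, h]
  have hv : v = w + c • vJ := by rw [hw]; abel
  rw [hv, act_add, act_smul, h1, hA.act_vJ]

theorem M4_neg_one (A : Sp4) (h : A.1 = -1) : M4 A = -1 := by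
  unfold M4
  rw [h]
  ext i j
  simp [Matrix.one_apply]

theorem act5_neg_one (u : I5 → F) : act5 (-1 : Matrix (Fin 4) (Fin 4) F) u = u := by
  unfold act5
  rw [act_neg_one, pi_iota]

theorem mem_ker_iff (h2 : (2 : F) ≠ 0) (A : Sp4) :
    A ∈ (RO : Sp4 →* OO).ker ↔ A.1 = 1 ∨ A.1 = -1 := by
  rw [MonoidHom.mem_ker, RO_eq_one_iff]
  constructor
  · intro h
    rcases eq_pm_one_of_act (M4 A) (act_eq_of_act5 h2 (M4_good A) h) with h1 | h1
    · left
      have : A = 1 := M4_injective (h1.trans M4_one.symm)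
      rw [this]; rfl
    · right
      ext i j
      have := congrFun (congrFun h1 (e4.symm i)) (e4.symm j)
      simpa [M4, Matrix.one_apply] using this
  · rintro (h | h) v
    · have : A = 1 := Subtype.ext h
      rw [this, M4_one, act5_one]
    · rw [M4_neg_one A h, act5_neg_one]

/-- swapping the first hyperbolic pair -/
def swM : Matrix I5 I5 F :=
  (Equiv.swap (Sum.inr (Sum.inl 0) : I5) (Sum.inr (Sum.inr 0))).permMatrix F

theorem swM_sq : (swM : Matrix I5 I5 F) * swM = 1 := by
  unfold swM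
  rw [← Matrix.permMatrix_mul]
  simp

theorem det_swM : (swM : Matrix I5 I5 F).det = -1 := by
  unfold swM
  rw [Matrix.det_permutation, Equiv.Perm.sign_swap (by decide)]
  simp

theorem Q_swM (v : I5 → F) : Cfsg.quadFormOdd 2 F (swM *ᵥ v) = Cfsg.quadFormOdd 2 F v := by
  unfold swM
  rw [Matrix.permMatrix_mulVec]
  have h1 : Equiv.swap (Sum.inr (Sum.inl 0) : I5) (Sum.inr (Sum.inr 0)) (Sum.inr (Sum.inl 0)) =
      Sum.inr (Sum.inr 0) := Equiv.swap_apply_left _ _
  have h2 : Equiv.swap (Sum.inr (Sum.inl 0) : I5) (Sum.inr (Sum.inr 0)) (Sum.inr (Sum.inr 0)) =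
      Sum.inr (Sum.inl 0) := Equiv.swap_apply_right _ _
  have h3 : Equiv.swap (Sum.inr (Sum.inl 0) : I5) (Sum.inr (Sum.inr 0)) (Sum.inr (Sum.inl 1)) =
      Sum.inr (Sum.inl 1) := Equiv.swap_apply_of_ne_of_ne (by decide) (by decide)
  have h4 : Equiv.swap (Sum.inr (Sum.inl 0) : I5) (Sum.inr (Sum.inr 0)) (Sum.inr (Sum.inr 1)) =
      Sum.inr (Sum.inr 1) := Equiv.swap_apply_of_ne_of_ne (by decide) (by decide)
  have h5 : Equiv.swap (Sum.inr (Sum.inl 0) : I5) (Sum.inr (Sum.inr 0)) (Sum.inl ()) =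
      Sum.inl () := Equiv.swap_apply_of_ne_of_ne (by decide) (by decide)
  simp only [Cfsg.quadFormOdd, Fin.sum_univ_two, Function.comp_apply, h1, h2, h3, h4, h5]
  ring

/-- the swap as an isometry -/
def sw : OO := ⟨⟨swM, swM, swM_sq, swM_sq⟩, by
  intro u _
  change Cfsg.quadFormOdd 2 F (swM *ᵥ u) = Cfsg.quadFormOdd 2 F u
  exact Q_swM u⟩

theorem commutator_ne_top (h2 : (2 : F) ≠ 0) : commutator OO ≠ ⊤ := by
  intro h
  let d : OO →* Fˣ := Matrix.GeneralLinearGroup.det.comp (Subgroup.subtype _)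
  have hle : commutator OO ≤ d.ker := Abelianization.commutator_subset_ker d
  rw [h] at hle
  have hsw : (sw : OO) ∈ d.ker := hle (Subgroup.mem_top _)
  rw [MonoidHom.mem_ker] at hsw
  have h1 := congrArg Units.val hsw
  rw [show d sw = Matrix.GeneralLinearGroup.det (sw : OO).1 from rfl,
    Matrix.GeneralLinearGroup.val_det_apply,
    show (((sw : OO).1 : Matrix.GeneralLinearGroup I5 F) : Matrix I5 I5 F) = swM from rfl,
    det_swM, Units.val_one] at h1
  apply h2
  linear_combination -h1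

theorem card_ker [Finite F] (h2 : (2 : F) ≠ 0) : Nat.card (RO : Sp4 →* OO).ker = 2 := by
  classical
  have hne : (-1 : Matrix (Fin 2 ⊕ Fin 2) (Fin 2 ⊕ Fin 2) F) ≠ 1 := by
    intro h
    have := congrFun (congrFun h (.inl 0)) (.inl 0)
    simp at this
    apply h2
    linear_combination -this
  let m : Sp4 := ⟨-1, _root_.SymplecticGroup.neg_mem (one_mem _)⟩
  have hm : m ∈ (RO : Sp4 →* OO).ker := (mem_ker_iff h2 m).2 (Or.inr rfl)
  have hm1 : m ≠ 1 := by
    intro h
    exact hne (congrArg Subtype.val h)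
  have hall : ∀ x : (RO : Sp4 →* OO).ker, x = 1 ∨ x = ⟨m, hm⟩ := by
    rintro ⟨A, hA⟩
    rcases (mem_ker_iff h2 A).1 hA with h | h
    · left
      exact Subtype.ext (Subtype.ext h)
    · right
      exact Subtype.ext (Subtype.ext h)
  have hfin : Finite (RO : Sp4 →* OO).ker := inferInstance
  have : Fintype (RO : Sp4 →* OO).ker := Fintype.ofFinite _
  rw [Nat.card_eq_fintype_card]
  have huniv : (Finset.univ : Finset (RO : Sp4 →* OO).ker) = {1, ⟨m, hm⟩} := by
    ext x
    simp only [Finset.mem_univ, Finset.mem_insert, Finset.mem_singleton, true_iff]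
    exact hall x
  rw [← Finset.card_univ, huniv, Finset.card_pair]
  intro h
  exact hm1 (congrArg Subtype.val h).symm

theorem two_ne_zero_of_odd [Fintype F] (hodd : Odd (Fintype.card F)) : (2 : F) ≠ 0 := by
  intro h
  have hchar : ringChar F = 2 := by
    have : ringChar F ∣ 2 := by
      apply ringChar.dvd
      exact_mod_cast h
    rcases (Nat.dvd_prime Nat.prime_two).1 this with h1 | h1
    · exact absurd h1 (CharP.ringChar_ne_one)
    · exact h1
  exact (Nat.not_even_iff_odd.2 hodd) (Nat.even_iff.2 (FiniteField.even_card_of_char_two hchar))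

theorem card_OO_eq [Fintype F] (hodd : Odd (Fintype.card F)) : Nat.card OO = 2 * Nat.card Sp4 := by
  rw [Cfsg.Agent.S0286.result (F := F) rfl hodd 2, Cfsg.Agent.S0245.result (F := F) rfl 2]
  ring

theorem index_range [Fintype F] (hodd : Odd (Fintype.card F)) :
    (RO : Sp4 →* OO).range.index = 4 := by
  have h1 := Subgroup.card_mul_index (RO : Sp4 →* OO).range
  have h2 := Subgroup.card_mul_index (RO : Sp4 →* OO).ker
  rw [Subgroup.index_ker, card_ker (two_ne_zero_of_odd hodd)] at h2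
  rw [card_OO_eq hodd, ← h2] at h1
  have hpos : 0 < Nat.card (RO : Sp4 →* OO).range := Nat.card_pos
  apply Nat.eq_of_mul_eq_mul_left hpos
  rw [h1]; ring

theorem commutator_Sp4 [Fintype F] (hodd : Odd (Fintype.card F)) : commutator Sp4 = ⊤ := by
  apply Cfsg.Agent.S0269.result 2
  right; left
  refine ⟨rfl, ?_⟩
  have h1 : 1 < Fintype.card F := Fintype.one_lt_card
  obtain ⟨k, hk⟩ := hodd
  omega

theorem perfect_range [Fintype F] (hodd : Odd (Fintype.card F)) :
    ⁅(RO : Sp4 →* OO).range, (RO : Sp4 →* OO).range⁆ = (RO : Sp4 →* OO).range := by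
  rw [MonoidHom.range_eq_map, ← Subgroup.map_commutator, ← commutator_def, commutator_Sp4 hodd]

theorem Omega_eq_range [Fintype F] (hodd : Odd (Fintype.card F)) :
    Cfsg.Omega F (Cfsg.quadFormOdd 2 F) = (RO : Sp4 →* OO).range :=
  Cfsg.Agent.H9.PerfIdx.commutator_eq _ (perfect_range hodd) (Or.inr (index_range hodd))
    (fun _ => commutator_ne_top (two_ne_zero_of_odd hodd))

theorem ker_le_center (h2 : (2 : F) ≠ 0) : (RO : Sp4 →* OO).ker ≤ Subgroup.center Sp4 := by
  intro A hA
  rcases (mem_ker_iff h2 A).1 hA with h | h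
  · have : A = 1 := Subtype.ext h
    rw [this]; exact Subgroup.one_mem _
  · rw [Subgroup.mem_center_iff]
    intro C
    apply Subtype.ext
    change C.1 * A.1 = A.1 * C.1
    rw [h]
    simp

end Cfsg.Agent.H9.Sp4O5
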