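import Mathlib
import Cfsg.Agent.H9.Sp4O

set_option autoImplicit false
set_option linter.style.haveILetI false
set_option linter.unusedSectionVars false

/-! Explicit elements of `Sp₄(F)` with no conjugate in the normalizer of an extraspecial group
`2^{1+4}_-`. -/

namespace Cfsg.Agent.H9.Sp4

open Matrix

variable {F : Type*} [Field F]

theorem card_index4 : Fintype.card (Fin 2 ⊕ Fin 2) = 4 := by
  simp

section obstruct

variable {R : Subgroup (GL (Fin 2 ⊕ Fin 2) F)} {n a1 b1 a2 b2 : GL (Fin 2 ⊕ Fin 2) F}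
  (h : ESData R n a1 b1 a2 b2) (h2 : (2 : F) ≠ 0)

include h h2

/-- the element of order three has no conjugate in the normalizer -/
theorem no_conj_three (h3 : (3 : F) ≠ 0) (k : GL (Fin 2 ⊕ Fin 2) F)
    (hk : k⁻¹ * y3 * k ∈ Subgroup.normalizer (R : Set (GL (Fin 2 ⊕ Fin 2) F))) : False := by
  have hpow : (((k⁻¹ * y3 * k) ^ 3 : GL (Fin 2 ⊕ Fin 2) F) :
      Matrix (Fin 2 ⊕ Fin 2) (Fin 2 ⊕ Fin 2) F)
      = (1 : F) • (1 : Matrix (Fin 2 ⊕ Fin 2) (Fin 2 ⊕ Fin 2) F) := by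
    rw [conj_pow_eq_one k y3 3 y3_pow, Units.val_one, one_smul]
  have ht := h.trace_three card_index4 h2 _ hk 1 hpow (conj_not_scalar k y3 y3_not_scalar)
  rw [conj_inv, trace_conj, trace_conj, trace_y3, trace_y3_inv] at ht
  have h6 : (2 : F) * 3 = 0 := by linear_combination -ht
  rcases mul_eq_zero.1 h6 with h' | h'
  · exact h2 h'
  · exact h3 h'

/-- the element of order five has no conjugate in the normalizer -/
theorem no_conj_five (h5 : (5 : F) ≠ 0) (t : F) (ht : t ^ 2 + t - 1 = 0)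
    (k : GL (Fin 2 ⊕ Fin 2) F)
    (hk : k⁻¹ * y5 t * k ∈ Subgroup.normalizer (R : Set (GL (Fin 2 ⊕ Fin 2) F))) : False := by
  have hpow : (((k⁻¹ * y5 t * k) ^ 5 : GL (Fin 2 ⊕ Fin 2) F) :
      Matrix (Fin 2 ⊕ Fin 2) (Fin 2 ⊕ Fin 2) F)
      = (1 : F) • (1 : Matrix (Fin 2 ⊕ Fin 2) (Fin 2 ⊕ Fin 2) F) := by
    rw [conj_pow_eq_one k (y5 t) 5 (y5_pow t ht), Units.val_one, one_smul]
  have htr := h.trace_five card_index4 h2 _ hk 1 hpow (conj_not_scalar k (y5 t) (y5_not_scalar t))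
  rw [conj_inv, trace_conj, trace_conj, trace_y5, trace_y5_inv] at htr
  -- `2 (t + 2)² = 2` and `t² + t - 1 = 0` force `5 = 0`
  have h1 : (t + 2) * (t + 2) = 1 := by
    apply mul_left_cancel₀ h2
    linear_combination htr
  have h3t : 3 * t + 4 = 0 := by linear_combination h1 - ht
  have : (5 : F) = 0 := by linear_combination (3 * t - 1) * h3t - 9 * ht
  exact h5 this

/-- the transvection has no conjugate in the normalizer -/
theorem no_conj_unip (p : ℕ) (hp : (p : F) = 0) (hpodd : Nat.Coprime p 32)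
    (k : GL (Fin 2 ⊕ Fin 2) F)
    (hk : k⁻¹ * yu * k ∈ Subgroup.normalizer (R : Set (GL (Fin 2 ⊕ Fin 2) F))) : False := by
  obtain ⟨Ki, hKi⟩ : ∃ Ki, Ki = ((k⁻¹ : GL (Fin 2 ⊕ Fin 2) F) :
    Matrix (Fin 2 ⊕ Fin 2) (Fin 2 ⊕ Fin 2) F) := ⟨_, rfl⟩
  obtain ⟨K, hK⟩ : ∃ K, K = (k : Matrix (Fin 2 ⊕ Fin 2) (Fin 2 ⊕ Fin 2) F) := ⟨_, rfl⟩
  have hKKi : K * Ki = 1 := by rw [hK, hKi, Units.mul_inv]
  have hKiK : Ki * K = 1 := by rw [hK, hKi, Units.inv_mul]
  have hgp : (k⁻¹ * yu * k) ^ p = 1 := conj_pow_eq_one k yu p (yu_pow p hp)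
  have hN : ((k⁻¹ * yu * k : GL (Fin 2 ⊕ Fin 2) F) : Matrix (Fin 2 ⊕ Fin 2) (Fin 2 ⊕ Fin 2) F)
      = 1 + Ki * yuN * K := by
    rw [Units.val_mul, Units.val_mul, yu_val, ← hK, ← hKi, Matrix.mul_add, Matrix.add_mul,
      Matrix.mul_one, hKiK]
  have hrk0 : ∀ M : Matrix (Fin 2 ⊕ Fin 2) (Fin 2 ⊕ Fin 2) F,
      (yuN : Matrix (Fin 2 ⊕ Fin 2) (Fin 2 ⊕ Fin 2) F) * M * yuN
        = Matrix.trace (yuN * M) • yuN := fun M => vecMulVec_rank_one _ _ M
  have hrk : ∀ M : Matrix (Fin 2 ⊕ Fin 2) (Fin 2 ⊕ Fin 2) F,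
      (Ki * yuN * K) * M * (Ki * yuN * K)
        = Matrix.trace ((Ki * yuN * K) * M) • (Ki * yuN * K) := by
    intro M
    have h1 := hrk0 (K * M * Ki)
    calc (Ki * yuN * K) * M * (Ki * yuN * K)
        = Ki * (yuN * (K * M * Ki) * yuN) * K := by simp only [Matrix.mul_assoc]
      _ = Ki * (Matrix.trace (yuN * (K * M * Ki)) • yuN) * K := by rw [h1]
      _ = Matrix.trace (yuN * (K * M * Ki)) • (Ki * yuN * K) := by
          rw [Matrix.mul_smul, Matrix.smul_mul]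
      _ = Matrix.trace ((Ki * yuN * K) * M) • (Ki * yuN * K) := by
          congr 1
          have e : yuN * (K * M * Ki) = (yuN * K * M) * Ki := by simp only [Matrix.mul_assoc]
          rw [e, Matrix.trace_mul_comm]
          simp only [Matrix.mul_assoc]
  have htr : Matrix.trace (Ki * yuN * K) = 0 := by
    have e : Ki * yuN * K = Ki * (yuN * K) := by simp only [Matrix.mul_assoc]
    rw [e, Matrix.trace_mul_comm, Matrix.mul_assoc, hKKi, Matrix.mul_one, yuN_trace]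
  have h1 := h.eq_one_of_rank_one card_index4 h2 _ hk p hpodd hgp _ hN hrk htr
  have h2' : (yu : GL (Fin 2 ⊕ Fin 2) F) = 1 := by
    calc (yu : GL (Fin 2 ⊕ Fin 2) F) = k * (k⁻¹ * yu * k) * k⁻¹ := by group
      _ = 1 := by rw [h1]; group
  apply yu_not_scalar (F := F) 1
  rw [h2', Units.val_one, one_smul]

end obstruct

end Cfsg.Agent.H9.Sp4
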