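import Mathlib
import Cfsg.Agent.H9.Sp4N
import Cfsg.Agent.H9.Pauli4Q
import Cfsg.Agent.Lib.Helper8.SpSSE
import Cfsg.Agent.Lib.Helper8.SpCountA

set_option autoImplicit false
set_option linter.style.haveILetI false
set_option linter.unusedSectionVars false

/-! Conjugacy in `Sp₄(F)` of semisimple elements: involutions, elements with square `-1` and
elements of order five. -/

namespace Cfsg.Agent.H9.Sp4

open Matrix Polynomial

variable {F : Type*} [Field F]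

/-- semisimple elements of `spGL` with the same characteristic polynomial are conjugate -/
theorem sp_conj_of_charpoly [Finite F] (m : ℕ) (x y : GL (Fin m ⊕ Fin m) F)
    (hx : x ∈ Cfsg.spGL m F) (hy : y ∈ Cfsg.spGL m F)
    (hxs : Module.End.IsSemisimple
      (Matrix.toLin' (x : Matrix (Fin m ⊕ Fin m) (Fin m ⊕ Fin m) F)))
    (hys : Module.End.IsSemisimple
      (Matrix.toLin' (y : Matrix (Fin m ⊕ Fin m) (Fin m ⊕ Fin m) F)))
    (hc : (x : Matrix (Fin m ⊕ Fin m) (Fin m ⊕ Fin m) F).charpoly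
      = (y : Matrix (Fin m ⊕ Fin m) (Fin m ⊕ Fin m) F).charpoly) :
    ∃ g ∈ Cfsg.spGL m F, g⁻¹ * x * g = y := by
  rw [mem_spGL_iff] at hx hy
  have hconj := Cfsg.Agent.Lib.Helper8.SpSS.isConj_of_charpoly_eq
    (⟨_, hx⟩ : symplecticGroup (Fin m) F) ⟨_, hy⟩ hxs hys hc
  rw [isConj_iff] at hconj
  obtain ⟨c, hc'⟩ := hconj
  have h1 : (c : Matrix (Fin m ⊕ Fin m) (Fin m ⊕ Fin m) F)
      * ((c⁻¹ : symplecticGroup (Fin m) F) : Matrix (Fin m ⊕ Fin m) (Fin m ⊕ Fin m) F) = 1 := by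
    have : ((c * c⁻¹ : symplecticGroup (Fin m) F) :
        Matrix (Fin m ⊕ Fin m) (Fin m ⊕ Fin m) F) = 1 := by
      rw [mul_inv_cancel]; rfl
    exact this
  have h2 : ((c⁻¹ : symplecticGroup (Fin m) F) : Matrix (Fin m ⊕ Fin m) (Fin m ⊕ Fin m) F)
      * (c : Matrix (Fin m ⊕ Fin m) (Fin m ⊕ Fin m) F) = 1 := by
    have : ((c⁻¹ * c : symplecticGroup (Fin m) F) :
        Matrix (Fin m ⊕ Fin m) (Fin m ⊕ Fin m) F) = 1 := by
      rw [inv_mul_cancel]; rfl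
    exact this
  -- `g = c⁻¹`
  refine ⟨⟨((c⁻¹ : symplecticGroup (Fin m) F) : Matrix (Fin m ⊕ Fin m) (Fin m ⊕ Fin m) F),
    (c : Matrix (Fin m ⊕ Fin m) (Fin m ⊕ Fin m) F), h2, h1⟩, ?_, ?_⟩
  · rw [mem_spGL_iff]
    exact (c⁻¹).2
  · apply Units.ext
    have h3 := congrArg (fun u : symplecticGroup (Fin m) F =>
      (u : Matrix (Fin m ⊕ Fin m) (Fin m ⊕ Fin m) F)) hc'
    simp only [Units.val_mul]
    exact h3

end Cfsg.Agent.H9.Sp4

namespace Cfsg.Agent.H9.Sp4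

open Matrix Polynomial

variable {F : Type*} [Field F]

/-- the coefficients of the characteristic polynomial of a non-scalar element of `Sp₄(F)` with
scalar square -/
theorem charpoly_coeff_of_sq (h2 : (2 : F) ≠ 0)
    (X : Matrix (Fin 2 ⊕ Fin 2) (Fin 2 ⊕ Fin 2) F) (hX : X ∈ symplecticGroup (Fin 2) F)
    (ε : F) (hε : ε * ε = 1) (hsq : X * X = ε • (1 : Matrix (Fin 2 ⊕ Fin 2) (Fin 2 ⊕ Fin 2) F))
    (hns : ∀ c : F, X ≠ c • (1 : Matrix (Fin 2 ⊕ Fin 2) (Fin 2 ⊕ Fin 2) F)) :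
    X.charpoly.coeff 0 = 1 ∧ X.charpoly.coeff 1 = 0 ∧ X.charpoly.coeff 2 = -(2 * ε) ∧
      X.charpoly.coeff 3 = 0 ∧ X.charpoly.coeff 4 = 1 ∧ X.charpoly.natDegree = 4 := by
  obtain ⟨P, hP⟩ : ∃ P, P = X.charpoly := ⟨_, rfl⟩
  rw [← hP]
  have hdeg : P.natDegree = 4 := by
    rw [hP, Matrix.charpoly_natDegree_eq_dim]
    simp
  have hmonic : P.Monic := by rw [hP]; exact Matrix.charpoly_monic X
  have hc4 : P.coeff 4 = 1 := by
    have := hmonic.coeff_natDegree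
    rwa [hdeg] at this
  have hsymm := Cfsg.Agent.Lib.Helper8.SpCount.charpoly_coeff_symm
    (⟨X, hX⟩ : symplecticGroup (Fin 2) F)
  have hc0 : P.coeff 0 = 1 := by
    have := hsymm 0 (by norm_num)
    rw [← hP] at this
    rw [← this]
    exact hc4
  have hc13 : P.coeff 3 = P.coeff 1 := by
    have := hsymm 1 (by norm_num)
    rw [← hP] at this
    exact this
  -- Cayley-Hamilton
  have hCH : Polynomial.aeval X P = 0 := by rw [hP]; exact Matrix.aeval_self_charpoly X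
  rw [Polynomial.aeval_eq_sum_range, hdeg] at hCH
  have hX2 : X ^ 2 = ε • (1 : Matrix (Fin 2 ⊕ Fin 2) (Fin 2 ⊕ Fin 2) F) := by
    rw [pow_two, hsq]
  have hX3 : X ^ 3 = ε • X := by
    rw [pow_succ, hX2, Matrix.smul_mul, Matrix.one_mul]
  have hX4 : X ^ 4 = (1 : Matrix (Fin 2 ⊕ Fin 2) (Fin 2 ⊕ Fin 2) F) := by
    rw [show (4 : ℕ) = 2 + 2 from rfl, pow_add, hX2, Matrix.smul_mul, Matrix.one_mul, smul_smul,
      hε, one_smul]
  simp only [Finset.sum_range_succ, Finset.sum_range_zero, zero_add, pow_zero, pow_one, hX2, hX3,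
    hX4, hc4, hc0] at hCH
  have hCH' : (1 + ε * P.coeff 2 + 1) • (1 : Matrix (Fin 2 ⊕ Fin 2) (Fin 2 ⊕ Fin 2) F)
      + (P.coeff 1 + ε * P.coeff 3) • X = 0 := by
    rw [← hCH]
    module
  have hb : P.coeff 1 + ε * P.coeff 3 = 0 := by
    by_contra hb
    apply hns (-(1 + ε * P.coeff 2 + 1) / (P.coeff 1 + ε * P.coeff 3))
    have h1 : (P.coeff 1 + ε * P.coeff 3) • X
        = (-(1 + ε * P.coeff 2 + 1)) • (1 : Matrix (Fin 2 ⊕ Fin 2) (Fin 2 ⊕ Fin 2) F) := by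
      rw [neg_smul]
      exact eq_neg_of_add_eq_zero_right hCH'
    calc X = (P.coeff 1 + ε * P.coeff 3)⁻¹ • ((P.coeff 1 + ε * P.coeff 3) • X) := by
          rw [smul_smul, inv_mul_cancel₀ hb, one_smul]
      _ = (-(1 + ε * P.coeff 2 + 1) / (P.coeff 1 + ε * P.coeff 3))
            • (1 : Matrix (Fin 2 ⊕ Fin 2) (Fin 2 ⊕ Fin 2) F) := by
          rw [h1, smul_smul]
          congr 1
          field_simp
  have ha : 1 + ε * P.coeff 2 + 1 = 0 := by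
    rw [hb, zero_smul, add_zero] at hCH'
    have := congrFun (congrFun hCH' (Sum.inl 0)) (Sum.inl 0)
    simpa using this
  -- the trace
  have hinv : ((⟨X, hX⟩ : symplecticGroup (Fin 2) F)⁻¹ : symplecticGroup (Fin 2) F).1 = ε • X := by
    have h1 : ((⟨X, hX⟩ : symplecticGroup (Fin 2) F)⁻¹ : symplecticGroup (Fin 2) F).1 * X = 1 := by
      have : (((⟨X, hX⟩ : symplecticGroup (Fin 2) F)⁻¹ * ⟨X, hX⟩ : symplecticGroup (Fin 2) F) :
          Matrix (Fin 2 ⊕ Fin 2) (Fin 2 ⊕ Fin 2) F) = 1 := by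
        rw [inv_mul_cancel]; rfl
      exact this
    calc ((⟨X, hX⟩ : symplecticGroup (Fin 2) F)⁻¹ : symplecticGroup (Fin 2) F).1
        = ((⟨X, hX⟩ : symplecticGroup (Fin 2) F)⁻¹ : symplecticGroup (Fin 2) F).1
            * (X * (ε • X)) := by
          rw [Matrix.mul_smul, hsq, smul_smul, hε, one_smul, Matrix.mul_one]
      _ = ε • X := by rw [← Matrix.mul_assoc, h1, Matrix.one_mul]
  have hcinv := Cfsg.Agent.Lib.Helper8.SpCount.charpoly_inv_eq (⟨X, hX⟩ : symplecticGroup (Fin 2) F)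
  have htr1 : Matrix.trace X = -P.coeff 3 := by
    rw [hP]
    have := Matrix.trace_eq_neg_charpoly_coeff X
    simpa using this
  have htr2 : Matrix.trace (ε • X) = -P.coeff 3 := by
    have h1 : ((⟨X, hX⟩ : symplecticGroup (Fin 2) F)⁻¹ : symplecticGroup (Fin 2) F).1.charpoly
        = P := by rw [hP]; exact hcinv
    rw [hinv] at h1
    rw [← h1]
    have := Matrix.trace_eq_neg_charpoly_coeff (ε • X)
    simpa using this
  rw [Matrix.trace_smul, htr1, smul_eq_mul] at htr2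
  have hc3 : P.coeff 3 = 0 := by
    have h4 : (2 : F) * P.coeff 3 = 0 := by
      rw [← hc13] at hb
      linear_combination hb + htr2
    rcases mul_eq_zero.1 h4 with h' | h'
    · exact absurd h' h2
    · exact h'
  refine ⟨hc0, by rw [← hc13, hc3], ?_, hc3, hc4, hdeg⟩
  linear_combination ε * ha - P.coeff 2 * hε

end Cfsg.Agent.H9.Sp4

namespace Cfsg.Agent.H9.Sp4

open Matrix Polynomial

variable {F : Type*} [Field F]

/-- non-scalar elements of `Sp₄(F)` with the same scalar square are conjugate -/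
theorem sp_conj_of_sq [Finite F] (h2 : (2 : F) ≠ 0) (x y : GL (Fin 2 ⊕ Fin 2) F)
    (hx : x ∈ Cfsg.spGL 2 F) (hy : y ∈ Cfsg.spGL 2 F) (ε : F) (hε : ε * ε = 1)
    (hxsq : (x : Matrix (Fin 2 ⊕ Fin 2) (Fin 2 ⊕ Fin 2) F) * x
      = ε • (1 : Matrix (Fin 2 ⊕ Fin 2) (Fin 2 ⊕ Fin 2) F))
    (hysq : (y : Matrix (Fin 2 ⊕ Fin 2) (Fin 2 ⊕ Fin 2) F) * y
      = ε • (1 : Matrix (Fin 2 ⊕ Fin 2) (Fin 2 ⊕ Fin 2) F))
    (hxns : ∀ c : F, (x : Matrix (Fin 2 ⊕ Fin 2) (Fin 2 ⊕ Fin 2) F)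
      ≠ c • (1 : Matrix (Fin 2 ⊕ Fin 2) (Fin 2 ⊕ Fin 2) F))
    (hyns : ∀ c : F, (y : Matrix (Fin 2 ⊕ Fin 2) (Fin 2 ⊕ Fin 2) F)
      ≠ c • (1 : Matrix (Fin 2 ⊕ Fin 2) (Fin 2 ⊕ Fin 2) F)) :
    ∃ g ∈ Cfsg.spGL 2 F, g⁻¹ * x * g = y := by
  have h4 : ((4 : ℕ) : F) ≠ 0 := by
    have : ((4 : ℕ) : F) = 2 * 2 := by norm_num
    rw [this]
    exact mul_ne_zero h2 h2
  have hpow : ∀ X : Matrix (Fin 2 ⊕ Fin 2) (Fin 2 ⊕ Fin 2) F,
      X * X = ε • (1 : Matrix (Fin 2 ⊕ Fin 2) (Fin 2 ⊕ Fin 2) F) → X ^ 4 = 1 := by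
    intro X hX
    rw [show (4 : ℕ) = 2 + 2 from rfl, pow_add, pow_two, hX, Matrix.smul_mul, Matrix.one_mul,
      smul_smul, hε, one_smul]
  apply sp_conj_of_charpoly 2 x y hx hy
    (Cfsg.Agent.H9.SemisimpleConj.isSemisimple_of_pow_eq_one _ 4 h4 (hpow _ hxsq))
    (Cfsg.Agent.H9.SemisimpleConj.isSemisimple_of_pow_eq_one _ 4 h4 (hpow _ hysq))
  obtain ⟨a0, a1, a2, a3, a4, ad⟩ := charpoly_coeff_of_sq h2 _ ((mem_spGL_iff 2 x).1 hx) ε hε hxsq hxns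
  obtain ⟨b0, b1, b2, b3, b4, bd⟩ := charpoly_coeff_of_sq h2 _ ((mem_spGL_iff 2 y).1 hy) ε hε hysq hyns
  ext k
  by_cases hk : k ≤ 4
  · interval_cases k
    · rw [a0, b0]
    · rw [a1, b1]
    · rw [a2, b2]
    · rw [a3, b3]
    · rw [a4, b4]
  · push Not at hk
    rw [Polynomial.coeff_eq_zero_of_natDegree_lt (by rw [ad]; exact hk),
      Polynomial.coeff_eq_zero_of_natDegree_lt (by rw [bd]; exact hk)]

/-- the characteristic polynomial of an element of order five -/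
theorem charpoly_of_pow_five [Fintype F] (q : ℕ) (hq : Nat.card F = q)
    (hord : orderOf (q : ZMod 5) = 4) (X : Matrix (Fin 2 ⊕ Fin 2) (Fin 2 ⊕ Fin 2) F)
    (hX5 : X ^ 5 = 1) (hX1 : X ≠ 1) : X.charpoly = Cfsg.Agent.H9.Pauli4.phi5 := by
  have hdim : Module.finrank F (Fin 2 ⊕ Fin 2 → F) = 4 := by
    rw [Module.finrank_fintype_fun_eq_card]
    simp
  have hp : (Matrix.toLin' X) ^ 5 = 1 := by
    rw [← Matrix.toLin'_pow, hX5, Matrix.toLin'_one]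
    rfl
  have hI := Cfsg.Agent.H9.Pauli4.irred_of_order q hq 5 4 Nat.prime_five hord hdim (by norm_num)
    (Matrix.toLin' X) hp (by
      intro h
      apply hX1
      apply Matrix.toLin'.injective
      rw [h, Matrix.toLin'_one]
      rfl)
  rw [← Matrix.charpoly_toLin', Cfsg.Agent.H9.SemisimpleConj.Irred.charpoly_eq hI,
    Cfsg.Agent.H9.Pauli4.minpoly_eq_phi5 _ hI hp hdim]

/-- non-trivial elements of `Sp₄(F)` of order five are conjugate when `|F|` has order four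
modulo five -/
theorem sp_conj_of_pow_five [Fintype F] (q : ℕ) (hq : Nat.card F = q)
    (hord : orderOf (q : ZMod 5) = 4) (h5 : (5 : F) ≠ 0) (x y : GL (Fin 2 ⊕ Fin 2) F)
    (hx : x ∈ Cfsg.spGL 2 F) (hy : y ∈ Cfsg.spGL 2 F) (hx5 : x ^ 5 = 1) (hx1 : x ≠ 1)
    (hy5 : y ^ 5 = 1) (hy1 : y ≠ 1) : ∃ g ∈ Cfsg.spGL 2 F, g⁻¹ * x * g = y := by
  have h5' : ((5 : ℕ) : F) ≠ 0 := by exact_mod_cast h5
  have hv : ∀ u : GL (Fin 2 ⊕ Fin 2) F, u ^ 5 = 1 →
      (u : Matrix (Fin 2 ⊕ Fin 2) (Fin 2 ⊕ Fin 2) F) ^ 5 = 1 := by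
    intro u hu
    rw [← Units.val_pow_eq_pow_val, hu, Units.val_one]
  have hv1 : ∀ u : GL (Fin 2 ⊕ Fin 2) F, u ≠ 1 →
      (u : Matrix (Fin 2 ⊕ Fin 2) (Fin 2 ⊕ Fin 2) F) ≠ 1 := by
    intro u hu h
    apply hu
    apply Units.ext
    rw [h, Units.val_one]
  apply sp_conj_of_charpoly 2 x y hx hy
    (Cfsg.Agent.H9.SemisimpleConj.isSemisimple_of_pow_eq_one _ 5 h5' (hv x hx5))
    (Cfsg.Agent.H9.SemisimpleConj.isSemisimple_of_pow_eq_one _ 5 h5' (hv y hy5))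
  rw [charpoly_of_pow_five q hq hord _ (hv x hx5) (hv1 x hx1),
    charpoly_of_pow_five q hq hord _ (hv y hy5) (hv1 y hy1)]

end Cfsg.Agent.H9.Sp4
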