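import Mathlib
import Cfsg.Agent.H9.Sp4M

set_option autoImplicit false
set_option linter.style.haveILetI false
set_option linter.unusedSectionVars false

/-! The commutator pairing calculus, and the elements `1 + s` of the normalizer of an
extraspecial group of matrices. -/

namespace Cfsg.Agent.H9.Sp4

open Matrix Subgroup

section pairing

variable {G : Type*} [Group G] (n : G) (hnc : ∀ w : G, w * n = n * w) (hn2 : n * n = 1)

include hnc hn2

theorem cm_mul_left {a b c : G} (h1 : a * c = c * a) (h2 : b * c = c * b) :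
    (a * b) * c = c * (a * b) := by
  calc (a * b) * c = a * (b * c) := by group
    _ = a * (c * b) := by rw [h2]
    _ = (a * c) * b := by group
    _ = (c * a) * b := by rw [h1]
    _ = c * (a * b) := by group

theorem ac_mul_left_ca {a b c : G} (h1 : a * c = c * a) (h2 : b * c = n * (c * b)) :
    (a * b) * c = n * (c * (a * b)) := by
  calc (a * b) * c = a * (b * c) := by group
    _ = a * (n * (c * b)) := by rw [h2]
    _ = (a * n) * (c * b) := by group
    _ = (n * a) * (c * b) := by rw [hnc a]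
    _ = n * ((a * c) * b) := by group
    _ = n * ((c * a) * b) := by rw [h1]
    _ = n * (c * (a * b)) := by group

theorem ac_mul_left_ac {a b c : G} (h1 : a * c = n * (c * a)) (h2 : b * c = c * b) :
    (a * b) * c = n * (c * (a * b)) := by
  calc (a * b) * c = a * (b * c) := by group
    _ = a * (c * b) := by rw [h2]
    _ = (a * c) * b := by group
    _ = (n * (c * a)) * b := by rw [h1]
    _ = n * (c * (a * b)) := by group

theorem cm_mul_left_aa {a b c : G} (h1 : a * c = n * (c * a)) (h2 : b * c = n * (c * b)) :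
    (a * b) * c = c * (a * b) := by
  calc (a * b) * c = a * (b * c) := by group
    _ = a * (n * (c * b)) := by rw [h2]
    _ = (a * n) * (c * b) := by group
    _ = (n * a) * (c * b) := by rw [hnc a]
    _ = n * ((a * c) * b) := by group
    _ = n * ((n * (c * a)) * b) := by rw [h1]
    _ = (n * n) * (c * (a * b)) := by group
    _ = c * (a * b) := by rw [hn2, one_mul]

theorem cm_mul_right {a b c : G} (h1 : c * a = a * c) (h2 : c * b = b * c) :
    c * (a * b) = (a * b) * c := (cm_mul_left n hnc hn2 h1.symm h2.symm).symm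

theorem ac_mul_right_ca {a b c : G} (h1 : c * a = a * c) (h2 : c * b = n * (b * c)) :
    c * (a * b) = n * ((a * b) * c) :=
  anti_symm n hnc hn2 (ac_mul_left_ca n hnc hn2 h1.symm (anti_symm n hnc hn2 h2))

theorem ac_mul_right_ac {a b c : G} (h1 : c * a = n * (a * c)) (h2 : c * b = b * c) :
    c * (a * b) = n * ((a * b) * c) :=
  anti_symm n hnc hn2 (ac_mul_left_ac n hnc hn2 (anti_symm n hnc hn2 h1) h2.symm)

theorem cm_mul_right_aa {a b c : G} (h1 : c * a = n * (a * c)) (h2 : c * b = n * (b * c)) :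
    c * (a * b) = (a * b) * c :=
  (cm_mul_left_aa n hnc hn2 (anti_symm n hnc hn2 h1) (anti_symm n hnc hn2 h2)).symm

end pairing

section gS

variable {ι : Type} [Fintype ι] [DecidableEq ι] {F : Type*} [Field F]

/-- the element `1 + s` for `s² = -1` -/
def gS (h2 : (2 : F) ≠ 0) (s : GL ι F)
    (hs : (s : Matrix ι ι F) * (s : Matrix ι ι F) = -1) : GL ι F :=
  ⟨1 + (s : Matrix ι ι F), (2 : F)⁻¹ • (1 - (s : Matrix ι ι F)), by
    rw [Matrix.mul_smul]
    have : (1 + (s : Matrix ι ι F)) * (1 - (s : Matrix ι ι F))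
        = 1 - (s : Matrix ι ι F) * (s : Matrix ι ι F) := by noncomm_ring
    rw [this, hs, sub_neg_eq_add]
    have e : (1 : Matrix ι ι F) + 1 = (2 : F) • (1 : Matrix ι ι F) := by
      rw [two_smul]
    rw [e, smul_smul, inv_mul_cancel₀ h2, one_smul], by
    rw [Matrix.smul_mul]
    have : (1 - (s : Matrix ι ι F)) * (1 + (s : Matrix ι ι F))
        = 1 - (s : Matrix ι ι F) * (s : Matrix ι ι F) := by noncomm_ring
    rw [this, hs, sub_neg_eq_add]
    have e : (1 : Matrix ι ι F) + 1 = (2 : F) • (1 : Matrix ι ι F) := by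
      rw [two_smul]
    rw [e, smul_smul, inv_mul_cancel₀ h2, one_smul]⟩

theorem gS_val (h2 : (2 : F) ≠ 0) (s : GL ι F)
    (hs : (s : Matrix ι ι F) * (s : Matrix ι ι F) = -1) :
    ((gS h2 s hs : GL ι F) : Matrix ι ι F) = 1 + (s : Matrix ι ι F) := rfl

theorem gS_inv_val (h2 : (2 : F) ≠ 0) (s : GL ι F)
    (hs : (s : Matrix ι ι F) * (s : Matrix ι ι F) = -1) :
    (((gS h2 s hs)⁻¹ : GL ι F) : Matrix ι ι F) = (2 : F)⁻¹ • (1 - (s : Matrix ι ι F)) := rfl

/-- conjugation by `1 + s` fixes the elements commuting with `s` -/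
theorem gS_conj_comm (h2 : (2 : F) ≠ 0) (s : GL ι F)
    (hs : (s : Matrix ι ι F) * (s : Matrix ι ι F) = -1) (t : GL ι F) (hts : t * s = s * t) :
    gS h2 s hs * t * (gS h2 s hs)⁻¹ = t := by
  rw [mul_inv_eq_iff_eq_mul]
  apply Units.ext
  rw [Units.val_mul, Units.val_mul, gS_val, Matrix.add_mul, Matrix.mul_add, Matrix.one_mul,
    Matrix.mul_one, ← Units.val_mul, ← Units.val_mul, hts]

variable {R : Subgroup (GL ι F)} {n a1 b1 a2 b2 : GL ι F} (h : ESData R n a1 b1 a2 b2)

include h

/-- conjugation by `1 + s` multiplies the elements anticommuting with `s` by `s` -/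
theorem ESData.gS_conj_anti (h2 : (2 : F) ≠ 0) (s : GL ι F)
    (hs : (s : Matrix ι ι F) * (s : Matrix ι ι F) = -1) (t : GL ι F)
    (hts : t * s = n * (s * t)) :
    gS h2 s hs * t * (gS h2 s hs)⁻¹ = s * t := by
  apply Units.ext
  rw [Units.val_mul, Units.val_mul, gS_val, gS_inv_val, Units.val_mul]
  have hTS : (t : Matrix ι ι F) * (s : Matrix ι ι F)
      = -((s : Matrix ι ι F) * (t : Matrix ι ι F)) := by
    have h1 : ((t * s : GL ι F) : Matrix ι ι F) = ((n * (s * t) : GL ι F) : Matrix ι ι F) := by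
      rw [hts]
    rw [h.val_n_mul, Units.val_mul, Units.val_mul] at h1
    exact h1
  obtain ⟨S, hS⟩ : ∃ S, S = (s : Matrix ι ι F) := ⟨_, rfl⟩
  obtain ⟨T, hT⟩ : ∃ T, T = (t : Matrix ι ι F) := ⟨_, rfl⟩
  rw [← hS, ← hT] at hTS
  rw [← hS] at hs
  rw [← hS, ← hT]
  have hSTS : S * T * S = T := by
    rw [Matrix.mul_assoc, hTS, Matrix.mul_neg, ← Matrix.mul_assoc, hs, Matrix.neg_mul,
      Matrix.one_mul, neg_neg]
  rw [Matrix.mul_smul]
  have e : (1 + S) * T * (1 - S) = T - T * S + S * T - S * T * S := by noncomm_ring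
  rw [e, hSTS, hTS]
  have e2 : T - -(S * T) + S * T - T = (2 : F) • (S * T) := by
    rw [two_smul]; abel
  rw [e2, smul_smul, inv_mul_cancel₀ h2, one_smul]

/-- `1 + s` normalizes `R` -/
theorem ESData.gS_mem_normalizer (h2 : (2 : F) ≠ 0) (s : GL ι F) (hsR : s ∈ R)
    (hs : (s : Matrix ι ι F) * (s : Matrix ι ι F) = -1) :
    gS h2 s hs ∈ Subgroup.normalizer (R : Set (GL ι F)) := by
  haveI := h.finite
  haveI : Finite (R : Set (GL ι F)) := h.finite
  apply Subgroup.mem_normalizer_fintype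
  intro t ht
  rw [SetLike.mem_coe] at ht ⊢
  rcases h.pm t ht s hsR with h1 | h1
  · rw [gS_conj_comm h2 s hs t h1]
    exact ht
  · rw [h.gS_conj_anti h2 s hs t h1]
    exact Subgroup.mul_mem _ hsR ht

end gS

end Cfsg.Agent.H9.Sp4
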