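import Mathlib
import Cfsg.Agent.H9.Sp4R

set_option autoImplicit false
set_option linter.style.haveILetI false
set_option linter.unusedSectionVars false

/-! An element of order five (modulo scalars) of the normalizer of an extraspecial group of
matrices, from five pairwise anticommuting involutions. -/

namespace Cfsg.Agent.H9.Sp4

open Matrix Subgroup

variable {ι : Type} [Fintype ι] [DecidableEq ι] {F : Type*} [Field F]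

section pair

variable {R : Subgroup (GL ι F)} {n a1 b1 a2 b2 : GL ι F} (h : ESData R n a1 b1 a2 b2)
  (h2 : (2 : F) ≠ 0)

include h

/-- the product of two anticommuting involutions has square `-1` -/
theorem ESData.pair_sq (a b : GL ι F) (ha : a * a = 1) (hb : b * b = 1)
    (hab : a * b = n * (b * a)) :
    ((a * b : GL ι F) : Matrix ι ι F) * ((a * b : GL ι F) : Matrix ι ι F) = -1 := by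
  have h1 := sq_mul_of_anti n h.n_comm' h.n_sq hab
  rw [ha, hb, one_mul, mul_one] at h1
  rw [← Units.val_mul, h1, h.n_val]

theorem ESData.pair_conj_a (a b : GL ι F) (ha : a * a = 1) (hb : b * b = 1)
    (hab : a * b = n * (b * a)) :
    gS h2 (a * b) (h.pair_sq a b ha hb hab) * a * (gS h2 (a * b) (h.pair_sq a b ha hb hab))⁻¹
      = n * b := by
  have hba := anti_symm n h.n_comm' h.n_sq hab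
  rw [h.gS_conj_anti h2 (a * b) _ a]
  · calc (a * b) * a = a * (b * a) := by group
      _ = a * (n * (a * b)) := by rw [hba]
      _ = (a * n) * (a * b) := by group
      _ = (n * a) * (a * b) := by rw [h.n_comm' a]
      _ = n * ((a * a) * b) := by group
      _ = n * b := by rw [ha, one_mul]
  · -- `a * (a * b) = n * ((a * b) * a)`
    exact ac_mul_right_ca n h.n_comm' h.n_sq rfl hab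

theorem ESData.pair_conj_b (a b : GL ι F) (ha : a * a = 1) (hb : b * b = 1)
    (hab : a * b = n * (b * a)) :
    gS h2 (a * b) (h.pair_sq a b ha hb hab) * b * (gS h2 (a * b) (h.pair_sq a b ha hb hab))⁻¹
      = a := by
  have hba := anti_symm n h.n_comm' h.n_sq hab
  rw [h.gS_conj_anti h2 (a * b) _ b]
  · calc (a * b) * b = a * (b * b) := by group
      _ = a := by rw [hb, mul_one]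
  · exact ac_mul_right_ac n h.n_comm' h.n_sq hba rfl

theorem ESData.pair_conj_c (a b : GL ι F) (ha : a * a = 1) (hb : b * b = 1)
    (hab : a * b = n * (b * a)) (c : GL ι F) (hca : c * a = n * (a * c))
    (hcb : c * b = n * (b * c)) :
    gS h2 (a * b) (h.pair_sq a b ha hb hab) * c * (gS h2 (a * b) (h.pair_sq a b ha hb hab))⁻¹
      = c :=
  gS_conj_comm h2 (a * b) _ c (cm_mul_right_aa n h.n_comm' h.n_sq hca hcb)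

/-- conjugation commutes with multiplication by the central involution -/
theorem ESData.conj_n_mul (g c : GL ι F) : g * (n * c) * g⁻¹ = n * (g * c * g⁻¹) := by
  calc g * (n * c) * g⁻¹ = (g * n) * c * g⁻¹ := by group
    _ = (n * g) * c * g⁻¹ := by rw [h.n_comm' g]
    _ = n * (g * c * g⁻¹) := by group

end pair

section five

variable {R : Subgroup (GL ι F)} {n a1 b1 a2 b2 : GL ι F} (h : ESData R n a1 b1 a2 b2)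
  (h2 : (2 : F) ≠ 0)
  (t₁ t₂ t₃ t₄ t₅ : GL ι F)
  (q₁ : t₁ * t₁ = 1) (q₂ : t₂ * t₂ = 1) (q₃ : t₃ * t₃ = 1) (q₄ : t₄ * t₄ = 1) (q₅ : t₅ * t₅ = 1)
  (A₁₂ : t₁ * t₂ = n * (t₂ * t₁)) (A₁₃ : t₁ * t₃ = n * (t₃ * t₁)) (A₁₄ : t₁ * t₄ = n * (t₄ * t₁))
  (A₁₅ : t₁ * t₅ = n * (t₅ * t₁)) (A₂₃ : t₂ * t₃ = n * (t₃ * t₂)) (A₂₄ : t₂ * t₄ = n * (t₄ * t₂))
  (A₂₅ : t₂ * t₅ = n * (t₅ * t₂)) (A₃₄ : t₃ * t₄ = n * (t₄ * t₃)) (A₃₅ : t₃ * t₅ = n * (t₅ * t₃))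
  (A₄₅ : t₄ * t₅ = n * (t₅ * t₄))

/-- the product of the four rotations -/
def rot5 : GL ι F :=
  gS h2 (t₁ * t₂) (h.pair_sq t₁ t₂ q₁ q₂ A₁₂) * gS h2 (t₂ * t₃) (h.pair_sq t₂ t₃ q₂ q₃ A₂₃)
    * gS h2 (t₃ * t₄) (h.pair_sq t₃ t₄ q₃ q₄ A₃₄) * gS h2 (t₄ * t₅) (h.pair_sq t₄ t₅ q₄ q₅ A₄₅)

theorem conj_four (g₁ g₂ g₃ g₄ c : GL ι F) :
    (g₁ * g₂ * g₃ * g₄) * c * (g₁ * g₂ * g₃ * g₄)⁻¹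
      = g₁ * (g₂ * (g₃ * (g₄ * c * g₄⁻¹) * g₃⁻¹) * g₂⁻¹) * g₁⁻¹ := by group

include A₁₃ A₁₄ A₁₅ A₂₄ A₂₅ A₃₅

theorem rot5_conj₁ :
    rot5 h h2 t₁ t₂ t₃ t₄ t₅ q₁ q₂ q₃ q₄ q₅ A₁₂ A₂₃ A₃₄ A₄₅ * t₁
      * (rot5 h h2 t₁ t₂ t₃ t₄ t₅ q₁ q₂ q₃ q₄ q₅ A₁₂ A₂₃ A₃₄ A₄₅)⁻¹ = n * t₂ := by
  unfold rot5
  rw [conj_four,
    h.pair_conj_c h2 t₄ t₅ q₄ q₅ A₄₅ t₁ A₁₄ A₁₅,
    h.pair_conj_c h2 t₃ t₄ q₃ q₄ A₃₄ t₁ A₁₃ A₁₄,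
    h.pair_conj_c h2 t₂ t₃ q₂ q₃ A₂₃ t₁ A₁₂ A₁₃,
    h.pair_conj_a h2 t₁ t₂ q₁ q₂ A₁₂]

theorem rot5_conj₂ :
    rot5 h h2 t₁ t₂ t₃ t₄ t₅ q₁ q₂ q₃ q₄ q₅ A₁₂ A₂₃ A₃₄ A₄₅ * t₂
      * (rot5 h h2 t₁ t₂ t₃ t₄ t₅ q₁ q₂ q₃ q₄ q₅ A₁₂ A₂₃ A₃₄ A₄₅)⁻¹ = n * t₃ := by
  have hn := h.n_comm' 
  have hs := h.n_sq
  unfold rot5
  rw [conj_four,
    h.pair_conj_c h2 t₄ t₅ q₄ q₅ A₄₅ t₂ A₂₄ A₂₅,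
    h.pair_conj_c h2 t₃ t₄ q₃ q₄ A₃₄ t₂ A₂₃ A₂₄,
    h.pair_conj_a h2 t₂ t₃ q₂ q₃ A₂₃,
    h.conj_n_mul,
    h.pair_conj_c h2 t₁ t₂ q₁ q₂ A₁₂ t₃ (anti_symm n hn hs A₁₃) (anti_symm n hn hs A₂₃)]

theorem rot5_conj₃ :
    rot5 h h2 t₁ t₂ t₃ t₄ t₅ q₁ q₂ q₃ q₄ q₅ A₁₂ A₂₃ A₃₄ A₄₅ * t₃
      * (rot5 h h2 t₁ t₂ t₃ t₄ t₅ q₁ q₂ q₃ q₄ q₅ A₁₂ A₂₃ A₃₄ A₄₅)⁻¹ = n * t₄ := by
  have hn := h.n_comm' 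
  have hs := h.n_sq
  unfold rot5
  rw [conj_four,
    h.pair_conj_c h2 t₄ t₅ q₄ q₅ A₄₅ t₃ A₃₄ A₃₅,
    h.pair_conj_a h2 t₃ t₄ q₃ q₄ A₃₄,
    h.conj_n_mul,
    h.pair_conj_c h2 t₂ t₃ q₂ q₃ A₂₃ t₄ (anti_symm n hn hs A₂₄) (anti_symm n hn hs A₃₄),
    h.conj_n_mul,
    h.pair_conj_c h2 t₁ t₂ q₁ q₂ A₁₂ t₄ (anti_symm n hn hs A₁₄) (anti_symm n hn hs A₂₄)]

theorem rot5_conj₄ :
    rot5 h h2 t₁ t₂ t₃ t₄ t₅ q₁ q₂ q₃ q₄ q₅ A₁₂ A₂₃ A₃₄ A₄₅ * t₄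
      * (rot5 h h2 t₁ t₂ t₃ t₄ t₅ q₁ q₂ q₃ q₄ q₅ A₁₂ A₂₃ A₃₄ A₄₅)⁻¹ = n * t₅ := by
  have hn := h.n_comm' 
  have hs := h.n_sq
  unfold rot5
  rw [conj_four,
    h.pair_conj_a h2 t₄ t₅ q₄ q₅ A₄₅,
    h.conj_n_mul,
    h.pair_conj_c h2 t₃ t₄ q₃ q₄ A₃₄ t₅ (anti_symm n hn hs A₃₅) (anti_symm n hn hs A₄₅),
    h.conj_n_mul,
    h.pair_conj_c h2 t₂ t₃ q₂ q₃ A₂₃ t₅ (anti_symm n hn hs A₂₅) (anti_symm n hn hs A₃₅),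
    h.conj_n_mul,
    h.pair_conj_c h2 t₁ t₂ q₁ q₂ A₁₂ t₅ (anti_symm n hn hs A₁₅) (anti_symm n hn hs A₂₅)]

theorem rot5_conj₅ :
    rot5 h h2 t₁ t₂ t₃ t₄ t₅ q₁ q₂ q₃ q₄ q₅ A₁₂ A₂₃ A₃₄ A₄₅ * t₅
      * (rot5 h h2 t₁ t₂ t₃ t₄ t₅ q₁ q₂ q₃ q₄ q₅ A₁₂ A₂₃ A₃₄ A₄₅)⁻¹ = t₁ := by
  unfold rot5
  rw [conj_four,
    h.pair_conj_b h2 t₄ t₅ q₄ q₅ A₄₅,
    h.pair_conj_b h2 t₃ t₄ q₃ q₄ A₃₄,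
    h.pair_conj_b h2 t₂ t₃ q₂ q₃ A₂₃,
    h.pair_conj_b h2 t₁ t₂ q₁ q₂ A₁₂]

end five

section cycle

variable {G : Type*} [Group G]

/-- an element permuting five elements cyclically has fifth power commuting with them -/
theorem pow_five_comm_of_cycle (N u₁ u₂ u₃ u₄ u₅ : G) (c₁ : N * u₁ * N⁻¹ = u₂)
    (c₂ : N * u₂ * N⁻¹ = u₃) (c₃ : N * u₃ * N⁻¹ = u₄) (c₄ : N * u₄ * N⁻¹ = u₅)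
    (c₅ : N * u₅ * N⁻¹ = u₁) : N ^ 5 * u₁ = u₁ * N ^ 5 := by
  have h5 : N ^ 5 = N * N * N * N * N := by
    rw [pow_succ, pow_succ, pow_succ, pow_succ, pow_one]
  have e : N ^ 5 * u₁ * (N ^ 5)⁻¹
      = N * (N * (N * (N * (N * u₁ * N⁻¹) * N⁻¹) * N⁻¹) * N⁻¹) * N⁻¹ := by
    rw [h5]; group
  rw [c₁, c₂, c₃, c₄, c₅] at e
  exact mul_inv_eq_iff_eq_mul.1 e

end cycle

section five'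

variable {R : Subgroup (GL ι F)} {n a1 b1 a2 b2 : GL ι F} (h : ESData R n a1 b1 a2 b2)
  (h2 : (2 : F) ≠ 0)
  (t₁ t₂ t₃ t₄ t₅ : GL ι F)
  (q₁ : t₁ * t₁ = 1) (q₂ : t₂ * t₂ = 1) (q₃ : t₃ * t₃ = 1) (q₄ : t₄ * t₄ = 1) (q₅ : t₅ * t₅ = 1)
  (A₁₂ : t₁ * t₂ = n * (t₂ * t₁)) (A₁₃ : t₁ * t₃ = n * (t₃ * t₁)) (A₁₄ : t₁ * t₄ = n * (t₄ * t₁))
  (A₁₅ : t₁ * t₅ = n * (t₅ * t₁)) (A₂₃ : t₂ * t₃ = n * (t₃ * t₂)) (A₂₄ : t₂ * t₄ = n * (t₄ * t₂))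
  (A₂₅ : t₂ * t₅ = n * (t₅ * t₂)) (A₃₄ : t₃ * t₄ = n * (t₄ * t₃)) (A₃₅ : t₃ * t₅ = n * (t₅ * t₃))
  (A₄₅ : t₄ * t₅ = n * (t₅ * t₄))

include A₁₃ A₁₄ A₁₅ A₂₄ A₂₅ A₃₅

/-- the fifth power of the rotation commutes with the five involutions -/
theorem rot5_pow_comm (t : GL ι F) (ht : t = t₁ ∨ t = t₂ ∨ t = t₃ ∨ t = t₄ ∨ t = t₅) :
    t * (rot5 h h2 t₁ t₂ t₃ t₄ t₅ q₁ q₂ q₃ q₄ q₅ A₁₂ A₂₃ A₃₄ A₄₅) ^ 5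
      = (rot5 h h2 t₁ t₂ t₃ t₄ t₅ q₁ q₂ q₃ q₄ q₅ A₁₂ A₂₃ A₃₄ A₄₅) ^ 5 * t := by
  obtain ⟨N, hN⟩ : ∃ N, N = rot5 h h2 t₁ t₂ t₃ t₄ t₅ q₁ q₂ q₃ q₄ q₅ A₁₂ A₂₃ A₃₄ A₄₅ := ⟨_, rfl⟩
  have r₁ := rot5_conj₁ h h2 t₁ t₂ t₃ t₄ t₅ q₁ q₂ q₃ q₄ q₅ A₁₂ A₁₃ A₁₄ A₁₅ A₂₃ A₂₄ A₂₅ A₃₄ A₃₅ A₄₅
  have r₂ := rot5_conj₂ h h2 t₁ t₂ t₃ t₄ t₅ q₁ q₂ q₃ q₄ q₅ A₁₂ A₁₃ A₁₄ A₁₅ A₂₃ A₂₄ A₂₅ A₃₄ A₃₅ A₄₅
  have r₃ := rot5_conj₃ h h2 t₁ t₂ t₃ t₄ t₅ q₁ q₂ q₃ q₄ q₅ A₁₂ A₁₃ A₁₄ A₁₅ A₂₃ A₂₄ A₂₅ A₃₄ A₃₅ A₄₅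
  have r₄ := rot5_conj₄ h h2 t₁ t₂ t₃ t₄ t₅ q₁ q₂ q₃ q₄ q₅ A₁₂ A₁₃ A₁₄ A₁₅ A₂₃ A₂₄ A₂₅ A₃₄ A₃₅ A₄₅
  have r₅ := rot5_conj₅ h h2 t₁ t₂ t₃ t₄ t₅ q₁ q₂ q₃ q₄ q₅ A₁₂ A₁₃ A₁₄ A₁₅ A₂₃ A₂₄ A₂₅ A₃₄ A₃₅ A₄₅
  rw [← hN] at r₁ r₂ r₃ r₄ r₅ ⊢
  have hnn : ∀ c : GL ι F, n * (n * c) = c := by
    intro c
    rw [← mul_assoc, h.n_sq, one_mul]
  -- the signed cycle
  have c₁ : N * t₁ * N⁻¹ = n * t₂ := r₁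
  have c₂ : N * (n * t₂) * N⁻¹ = t₃ := by rw [h.conj_n_mul, r₂, hnn]
  have c₃ : N * t₃ * N⁻¹ = n * t₄ := r₃
  have c₄ : N * (n * t₄) * N⁻¹ = t₅ := by rw [h.conj_n_mul, r₄, hnn]
  have c₅ : N * t₅ * N⁻¹ = t₁ := r₅
  have hcancel : ∀ c : GL ι F, N ^ 5 * (n * c) = (n * c) * N ^ 5 → c * N ^ 5 = N ^ 5 * c := by
    intro c hc
    have h1 : n * (N ^ 5 * c) = n * (c * N ^ 5) := by
      calc n * (N ^ 5 * c) = (n * N ^ 5) * c := by group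
        _ = (N ^ 5 * n) * c := by rw [h.n_comm' (N ^ 5)]
        _ = N ^ 5 * (n * c) := by group
        _ = (n * c) * N ^ 5 := hc
        _ = n * (c * N ^ 5) := by group
    exact (mul_left_cancel h1).symm
  rcases ht with rfl | rfl | rfl | rfl | rfl
  · exact (pow_five_comm_of_cycle N _ _ _ _ _ c₁ c₂ c₃ c₄ c₅).symm
  · exact hcancel _ (pow_five_comm_of_cycle N _ _ _ _ _ c₂ c₃ c₄ c₅ c₁)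
  · exact (pow_five_comm_of_cycle N _ _ _ _ _ c₃ c₄ c₅ c₁ c₂).symm
  · exact hcancel _ (pow_five_comm_of_cycle N _ _ _ _ _ c₄ c₅ c₁ c₂ c₃)
  · exact (pow_five_comm_of_cycle N _ _ _ _ _ c₅ c₁ c₂ c₃ c₄).symm

/-- the fifth power of the rotation is scalar -/
theorem rot5_pow_scalar
    (hcl : R ≤ closure ({t₁, t₂, t₃, t₄, t₅} : Set (GL ι F))) :
    ∃ z : F, (((rot5 h h2 t₁ t₂ t₃ t₄ t₅ q₁ q₂ q₃ q₄ q₅ A₁₂ A₂₃ A₃₄ A₄₅) ^ 5 : GL ι F) :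
      Matrix ι ι F) = z • (1 : Matrix ι ι F) := by
  apply h.scalar_of_commute
  intro y hy
  have hle := closure_le_centralizer_of ({t₁, t₂, t₃, t₄, t₅} : Set (GL ι F))
    ((rot5 h h2 t₁ t₂ t₃ t₄ t₅ q₁ q₂ q₃ q₄ q₅ A₁₂ A₂₃ A₃₄ A₄₅) ^ 5) (by
      intro t ht
      apply rot5_pow_comm h h2 t₁ t₂ t₃ t₄ t₅ q₁ q₂ q₃ q₄ q₅ A₁₂ A₁₃ A₁₄ A₁₅ A₂₃ A₂₄ A₂₅ A₃₄ A₃₅ A₄₅
      simpa using ht)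
  have := hle (hcl hy)
  rw [mem_centralizer_iff] at this
  exact (this _ rfl).symm

/-- the rotation is not scalar -/
theorem rot5_not_scalar (hι : Fintype.card ι = 4) (z : F) :
    ((rot5 h h2 t₁ t₂ t₃ t₄ t₅ q₁ q₂ q₃ q₄ q₅ A₁₂ A₂₃ A₃₄ A₄₅ : GL ι F) : Matrix ι ι F)
      ≠ z • (1 : Matrix ι ι F) := by
  intro hz
  have hc := central_of_scalar _ z hz t₁
  have r₁ := rot5_conj₁ h h2 t₁ t₂ t₃ t₄ t₅ q₁ q₂ q₃ q₄ q₅ A₁₂ A₁₃ A₁₄ A₁₅ A₂₃ A₂₄ A₂₅ A₃₄ A₃₅ A₄₅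
  rw [hc, mul_inv_cancel_right] at r₁
  -- `t₁ = n * t₂`
  have h1 : t₁ * t₂ = n := by rw [r₁, mul_assoc, q₂, mul_one]
  have h3 : t₂ * t₁ = n := by
    rw [r₁]
    calc t₂ * (n * t₂) = (t₂ * n) * t₂ := by group
      _ = (n * t₂) * t₂ := by rw [h.n_comm' t₂]
      _ = n * (t₂ * t₂) := by group
      _ = n := by rw [q₂, mul_one]
  rw [h1, h3, h.n_sq] at A₁₂
  exact h.n_ne_one hι h2 A₁₂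

end five'

section normalizer

variable {R : Subgroup (GL ι F)} {n a1 b1 a2 b2 : GL ι F} (h : ESData R n a1 b1 a2 b2)
  (h2 : (2 : F) ≠ 0)
  (t₁ t₂ t₃ t₄ t₅ : GL ι F)
  (q₁ : t₁ * t₁ = 1) (q₂ : t₂ * t₂ = 1) (q₃ : t₃ * t₃ = 1) (q₄ : t₄ * t₄ = 1) (q₅ : t₅ * t₅ = 1)
  (A₁₂ : t₁ * t₂ = n * (t₂ * t₁)) (A₂₃ : t₂ * t₃ = n * (t₃ * t₂))
  (A₃₄ : t₃ * t₄ = n * (t₄ * t₃)) (A₄₅ : t₄ * t₅ = n * (t₅ * t₄))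

theorem rot5_mem_normalizer (m₁ : t₁ ∈ R) (m₂ : t₂ ∈ R) (m₃ : t₃ ∈ R) (m₄ : t₄ ∈ R)
    (m₅ : t₅ ∈ R) :
    rot5 h h2 t₁ t₂ t₃ t₄ t₅ q₁ q₂ q₃ q₄ q₅ A₁₂ A₂₃ A₃₄ A₄₅
      ∈ Subgroup.normalizer (R : Set (GL ι F)) := by
  unfold rot5
  exact Subgroup.mul_mem _ (Subgroup.mul_mem _ (Subgroup.mul_mem _
    (h.gS_mem_normalizer h2 _ (Subgroup.mul_mem _ m₁ m₂) _)
    (h.gS_mem_normalizer h2 _ (Subgroup.mul_mem _ m₂ m₃) _))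
    (h.gS_mem_normalizer h2 _ (Subgroup.mul_mem _ m₃ m₄) _))
    (h.gS_mem_normalizer h2 _ (Subgroup.mul_mem _ m₄ m₅) _)

end normalizer

end Cfsg.Agent.H9.Sp4
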