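import Mathlib
import Cfsg.Agent.H9.Sp4S

set_option autoImplicit false
set_option linter.style.haveILetI false
set_option linter.unusedSectionVars false

/-! Five pairwise anticommuting involutions of an extraspecial group `2^{1+4}_-` of matrices. -/

namespace Cfsg.Agent.H9.Sp4

open Matrix Subgroup

variable {ι : Type} [Fintype ι] [DecidableEq ι] {F : Type*} [Field F]

variable {R : Subgroup (GL ι F)} {n a1 b1 a2 b2 : GL ι F}

/-- five pairwise anticommuting involutions generating `R` -/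
theorem ESData.exists_five (h : ESData R n a1 b1 a2 b2) :
    ∃ t₁ t₂ t₃ t₄ t₅ : GL ι F, t₁ ∈ R ∧ t₂ ∈ R ∧ t₃ ∈ R ∧ t₄ ∈ R ∧ t₅ ∈ R ∧
      t₁ * t₁ = 1 ∧ t₂ * t₂ = 1 ∧ t₃ * t₃ = 1 ∧ t₄ * t₄ = 1 ∧ t₅ * t₅ = 1 ∧
      t₁ * t₂ = n * (t₂ * t₁) ∧ t₁ * t₃ = n * (t₃ * t₁) ∧ t₁ * t₄ = n * (t₄ * t₁) ∧
      t₁ * t₅ = n * (t₅ * t₁) ∧ t₂ * t₃ = n * (t₃ * t₂) ∧ t₂ * t₄ = n * (t₄ * t₂) ∧
      t₂ * t₅ = n * (t₅ * t₂) ∧ t₃ * t₄ = n * (t₄ * t₃) ∧ t₃ * t₅ = n * (t₅ * t₃) ∧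
      t₄ * t₅ = n * (t₅ * t₄) ∧ R ≤ closure ({t₁, t₂, t₃, t₄, t₅} : Set (GL ι F)) := by
  have hn := h.n_comm'
  have hs := h.n_sq
  obtain ⟨e1, e2, e3, e4, e5, e6, e7, e8, e9, e10⟩ := h.gens
  -- `X = b1`, `Z = a1`, `I = a2`, `J = b2`
  have XZ : b1 * a1 = n * (a1 * b1) := anti_symm n hn hs e5
  have ZX : a1 * b1 = n * (b1 * a1) := e5
  have XI : b1 * a2 = a2 * b1 := e9
  have XJ : b1 * b2 = b2 * b1 := e10
  have ZI : a1 * a2 = a2 * a1 := e7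
  have ZJ : a1 * b2 = b2 * a1 := e8
  have IJ : a2 * b2 = n * (b2 * a2) := e6
  have JI : b2 * a2 = n * (a2 * b2) := anti_symm n hn hs e6
  -- `w = X * Z`
  have wX : (b1 * a1) * b1 = n * (b1 * (b1 * a1)) := ac_mul_left_ca n hn hs rfl ZX
  have wZ : (b1 * a1) * a1 = n * (a1 * (b1 * a1)) := ac_mul_left_ac n hn hs XZ rfl
  have wI : (b1 * a1) * a2 = a2 * (b1 * a1) := cm_mul_left n hn hs XI ZI
  have wJ : (b1 * a1) * b2 = b2 * (b1 * a1) := cm_mul_left n hn hs XJ ZJ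
  have Xw : b1 * (b1 * a1) = n * ((b1 * a1) * b1) := anti_symm n hn hs wX
  have Zw : a1 * (b1 * a1) = n * ((b1 * a1) * a1) := anti_symm n hn hs wZ
  have ww : (b1 * a1) * (b1 * a1) = n := by
    rw [sq_mul_of_anti n hn hs XZ, e1, e2, mul_one, mul_one]
  -- `K = I * J`
  have XK : b1 * (a2 * b2) = (a2 * b2) * b1 := cm_mul_right n hn hs XI XJ
  have ZK : a1 * (a2 * b2) = (a2 * b2) * a1 := cm_mul_right n hn hs ZI ZJ
  have IK : a2 * (a2 * b2) = n * ((a2 * b2) * a2) := ac_mul_right_ca n hn hs rfl IJ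
  have JK : b2 * (a2 * b2) = n * ((a2 * b2) * b2) := ac_mul_right_ac n hn hs JI rfl
  have wK : (b1 * a1) * (a2 * b2) = (a2 * b2) * (b1 * a1) := cm_mul_right n hn hs wI wJ
  have KK : (a2 * b2) * (a2 * b2) = n := by
    rw [sq_mul_of_anti n hn hs IJ, e3, e4, hs, mul_one]
  -- the anticommutation relations
  have A13 : b1 * (a2 * (b1 * a1)) = n * ((a2 * (b1 * a1)) * b1) :=
    ac_mul_right_ca n hn hs XI Xw
  have A14 : b1 * (b2 * (b1 * a1)) = n * ((b2 * (b1 * a1)) * b1) :=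
    ac_mul_right_ca n hn hs XJ Xw
  have A15 : b1 * ((a2 * b2) * (b1 * a1)) = n * (((a2 * b2) * (b1 * a1)) * b1) :=
    ac_mul_right_ca n hn hs XK Xw
  have A23 : a1 * (a2 * (b1 * a1)) = n * ((a2 * (b1 * a1)) * a1) :=
    ac_mul_right_ca n hn hs ZI Zw
  have A24 : a1 * (b2 * (b1 * a1)) = n * ((b2 * (b1 * a1)) * a1) :=
    ac_mul_right_ca n hn hs ZJ Zw
  have A25 : a1 * ((a2 * b2) * (b1 * a1)) = n * (((a2 * b2) * (b1 * a1)) * a1) :=
    ac_mul_right_ca n hn hs ZK Zw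
  have t3J : (a2 * (b1 * a1)) * b2 = n * (b2 * (a2 * (b1 * a1))) :=
    ac_mul_left_ac n hn hs IJ wJ
  have t3w : (a2 * (b1 * a1)) * (b1 * a1) = (b1 * a1) * (a2 * (b1 * a1)) :=
    cm_mul_left n hn hs wI.symm rfl
  have A34 : (a2 * (b1 * a1)) * (b2 * (b1 * a1)) = n * ((b2 * (b1 * a1)) * (a2 * (b1 * a1))) :=
    ac_mul_right_ac n hn hs t3J t3w
  have t3K : (a2 * (b1 * a1)) * (a2 * b2) = n * ((a2 * b2) * (a2 * (b1 * a1))) :=
    ac_mul_left_ac n hn hs IK wK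
  have A35 : (a2 * (b1 * a1)) * ((a2 * b2) * (b1 * a1))
      = n * (((a2 * b2) * (b1 * a1)) * (a2 * (b1 * a1))) :=
    ac_mul_right_ac n hn hs t3K t3w
  have t4K : (b2 * (b1 * a1)) * (a2 * b2) = n * ((a2 * b2) * (b2 * (b1 * a1))) :=
    ac_mul_left_ac n hn hs JK wK
  have t4w : (b2 * (b1 * a1)) * (b1 * a1) = (b1 * a1) * (b2 * (b1 * a1)) :=
    cm_mul_left n hn hs wJ.symm rfl
  have A45 : (b2 * (b1 * a1)) * ((a2 * b2) * (b1 * a1))
      = n * (((a2 * b2) * (b1 * a1)) * (b2 * (b1 * a1))) :=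
    ac_mul_right_ac n hn hs t4K t4w
  -- the squares
  have q3 : (a2 * (b1 * a1)) * (a2 * (b1 * a1)) = 1 := by
    rw [sq_mul_of_comm n hn hs wI.symm, e3, ww, hs]
  have q4 : (b2 * (b1 * a1)) * (b2 * (b1 * a1)) = 1 := by
    rw [sq_mul_of_comm n hn hs wJ.symm, e4, ww, hs]
  have q5 : ((a2 * b2) * (b1 * a1)) * ((a2 * b2) * (b1 * a1)) = 1 := by
    rw [sq_mul_of_comm n hn hs wK.symm, KK, ww, hs]
  have mw : b1 * a1 ∈ R := Subgroup.mul_mem _ h.b1_mem h.a1_mem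
  refine ⟨b1, a1, a2 * (b1 * a1), b2 * (b1 * a1), (a2 * b2) * (b1 * a1),
    h.b1_mem, h.a1_mem, Subgroup.mul_mem _ h.a2_mem mw, Subgroup.mul_mem _ h.b2_mem mw,
    Subgroup.mul_mem _ (Subgroup.mul_mem _ h.a2_mem h.b2_mem) mw,
    e2, e1, q3, q4, q5, XZ, A13, A14, A15, A23, A24, A25, A34, A35, A45, ?_⟩
  rw [← h.closure_eq, closure_le]
  obtain ⟨S, hS⟩ : ∃ S : Set (GL ι F), S = {b1, a1, a2 * (b1 * a1), b2 * (b1 * a1),
    (a2 * b2) * (b1 * a1)} := ⟨_, rfl⟩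
  rw [← hS]
  have m1 : b1 ∈ closure S := subset_closure (by rw [hS]; simp)
  have m2 : a1 ∈ closure S := subset_closure (by rw [hS]; simp)
  have m3 : a2 * (b1 * a1) ∈ closure S := subset_closure (by rw [hS]; simp)
  have m4 : b2 * (b1 * a1) ∈ closure S := subset_closure (by rw [hS]; simp)
  have mw' : b1 * a1 ∈ closure S := Subgroup.mul_mem _ m1 m2
  have m5 : a2 ∈ closure S := by
    have : a2 = (a2 * (b1 * a1)) * (b1 * a1)⁻¹ := by group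
    rw [this]
    exact Subgroup.mul_mem _ m3 (Subgroup.inv_mem _ mw')
  have m6 : b2 ∈ closure S := by
    have : b2 = (b2 * (b1 * a1)) * (b1 * a1)⁻¹ := by group
    rw [this]
    exact Subgroup.mul_mem _ m4 (Subgroup.inv_mem _ mw')
  intro y hy
  rcases hy with rfl | rfl | rfl | rfl
  · exact m1
  · exact m2
  · exact m6
  · exact m5

end Cfsg.Agent.H9.Sp4
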