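import Mathlib
import Cfsg.Agent.H9.Sp4T
import Cfsg.Agent.H9.Sp4N

set_option autoImplicit false
set_option linter.style.haveILetI false
set_option linter.unusedSectionVars false

/-! An element of order five of `Sp₄(F)` normalizing an extraspecial group `2^{1+4}_-`. -/

namespace Cfsg.Agent.H9.Sp4

open Matrix Subgroup

section scalar

variable {ι : Type} [Fintype ι] [DecidableEq ι] {F : Type*} [Field F]

/-- the scalar matrix as an element of the general linear group -/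
def scG (c : F) (hc : c ≠ 0) : GL ι F :=
  ⟨c • (1 : Matrix ι ι F), c⁻¹ • (1 : Matrix ι ι F), by
    rw [smul_mul_smul_comm, mul_inv_cancel₀ hc, one_smul, Matrix.one_mul], by
    rw [smul_mul_smul_comm, inv_mul_cancel₀ hc, one_smul, Matrix.one_mul]⟩

theorem scG_val (c : F) (hc : c ≠ 0) :
    ((scG c hc : GL ι F) : Matrix ι ι F) = c • (1 : Matrix ι ι F) := rfl

theorem scG_mul_val (c : F) (hc : c ≠ 0) (g : GL ι F) :
    ((scG c hc * g : GL ι F) : Matrix ι ι F) = c • (g : Matrix ι ι F) := by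
  rw [Units.val_mul, scG_val, Matrix.smul_mul, Matrix.one_mul]

theorem scG_comm (c : F) (hc : c ≠ 0) (g : GL ι F) : scG c hc * g = g * scG c hc := by
  apply Units.ext
  rw [Units.val_mul, Units.val_mul, scG_val, Matrix.smul_mul, Matrix.one_mul, Matrix.mul_smul,
    Matrix.mul_one]

theorem scG_mem_normalizer (c : F) (hc : c ≠ 0) (R : Subgroup (GL ι F)) :
    scG c hc ∈ Subgroup.normalizer (R : Set (GL ι F)) := by
  rw [Subgroup.mem_normalizer_iff]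
  intro g
  rw [scG_comm, mul_inv_cancel_right]

theorem scG_mul_pow_val (c : F) (hc : c ≠ 0) (g : GL ι F) (k : ℕ) :
    (((scG c hc * g) ^ k : GL ι F) : Matrix ι ι F) = c ^ k • ((g ^ k : GL ι F) : Matrix ι ι F) := by
  have hcm : Commute (scG c hc) g := scG_comm c hc g
  rw [hcm.mul_pow, Units.val_mul, Units.val_pow_eq_pow_val, scG_val, smul_pow, one_pow,
    Matrix.smul_mul, Matrix.one_mul]

end scalar

section simil

variable {F : Type*} [Field F]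

/-- similitudes of the standard alternating form -/
def IsSimil (A : Matrix (Fin 2 ⊕ Fin 2) (Fin 2 ⊕ Fin 2) F) (c : F) : Prop :=
  A * Matrix.J (Fin 2) F * Aᵀ = c • Matrix.J (Fin 2) F

theorem IsSimil.mul {A B : Matrix (Fin 2 ⊕ Fin 2) (Fin 2 ⊕ Fin 2) F} {c d : F}
    (hA : IsSimil A c) (hB : IsSimil B d) : IsSimil (A * B) (c * d) := by
  unfold IsSimil at *
  rw [Matrix.transpose_mul]
  calc A * B * Matrix.J (Fin 2) F * (Bᵀ * Aᵀ)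
      = A * (B * Matrix.J (Fin 2) F * Bᵀ) * Aᵀ := by simp only [Matrix.mul_assoc]
    _ = A * (d • Matrix.J (Fin 2) F) * Aᵀ := by rw [hB]
    _ = d • (A * Matrix.J (Fin 2) F * Aᵀ) := by rw [Matrix.mul_smul, Matrix.smul_mul]
    _ = (c * d) • Matrix.J (Fin 2) F := by rw [hA, smul_smul, mul_comm]

theorem IsSimil.smul {A : Matrix (Fin 2 ⊕ Fin 2) (Fin 2 ⊕ Fin 2) F} {c : F}
    (hA : IsSimil A c) (k : F) : IsSimil (k • A) (k * k * c) := by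
  unfold IsSimil at *
  rw [Matrix.transpose_smul, Matrix.smul_mul, Matrix.smul_mul, Matrix.mul_smul, hA, smul_smul,
    smul_smul]

theorem isSimil_one_add (S : Matrix (Fin 2 ⊕ Fin 2) (Fin 2 ⊕ Fin 2) F)
    (hS : S ∈ Matrix.symplecticGroup (Fin 2) F) (hsq : S * S = -1) : IsSimil (1 + S) 2 := by
  unfold IsSimil
  have h1 : S * Matrix.J (Fin 2) F * Sᵀ = Matrix.J (Fin 2) F := SymplecticGroup.mem_iff.1 hS
  have h2 : Matrix.J (Fin 2) F * Sᵀ = -(S * Matrix.J (Fin 2) F) := by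
    have e : S * (S * Matrix.J (Fin 2) F * Sᵀ) = S * Matrix.J (Fin 2) F := by rw [h1]
    rw [← Matrix.mul_assoc, ← Matrix.mul_assoc, hsq, Matrix.neg_mul, Matrix.neg_mul,
      Matrix.one_mul] at e
    rw [← e, neg_neg]
  rw [Matrix.transpose_add, Matrix.transpose_one]
  calc (1 + S) * Matrix.J (Fin 2) F * (1 + Sᵀ)
      = Matrix.J (Fin 2) F + S * Matrix.J (Fin 2) F + Matrix.J (Fin 2) F * Sᵀ
        + S * Matrix.J (Fin 2) F * Sᵀ := by noncomm_ring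
    _ = (2 : F) • Matrix.J (Fin 2) F := by
      rw [h1, h2, two_smul]; abel

end simil

section five

variable {F : Type*} [Field F]
variable {R : Subgroup (GL (Fin 2 ⊕ Fin 2) F)} {n a1 b1 a2 b2 : GL (Fin 2 ⊕ Fin 2) F}

theorem gS_isSimil (h2 : (2 : F) ≠ 0) (hRf : R ≤ Cfsg.spGL 2 F)
    (s : GL (Fin 2 ⊕ Fin 2) F) (hsR : s ∈ R)
    (hs : (s : Matrix (Fin 2 ⊕ Fin 2) (Fin 2 ⊕ Fin 2) F)
      * (s : Matrix (Fin 2 ⊕ Fin 2) (Fin 2 ⊕ Fin 2) F) = -1) :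
    IsSimil ((gS h2 s hs : GL (Fin 2 ⊕ Fin 2) F) : Matrix (Fin 2 ⊕ Fin 2) (Fin 2 ⊕ Fin 2) F) 2 := by
  rw [gS_val]
  exact isSimil_one_add _ ((mem_spGL_iff 2 s).1 (hRf hsR)) hs

theorem sq_eq_one_of_scalar_mem (z : F)
    (hz : (z • (1 : Matrix (Fin 2 ⊕ Fin 2) (Fin 2 ⊕ Fin 2) F)) ∈ Matrix.symplecticGroup (Fin 2) F) :
    z * z = 1 := by
  rw [SymplecticGroup.mem_iff, Matrix.transpose_smul, Matrix.transpose_one, Matrix.smul_mul,
    Matrix.one_mul, Matrix.mul_smul, Matrix.mul_one, smul_smul] at hz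
  have := congrFun (congrFun hz (Sum.inl 0)) (Sum.inr 0)
  simp [Matrix.J] at this
  exact this

/-- an element of order five of `Sp₄(F)` normalizing `R` -/
theorem ESData.exists_normalizer_five (h : ESData R n a1 b1 a2 b2) (h2 : (2 : F) ≠ 0)
    (hRf : R ≤ Cfsg.spGL 2 F) :
    ∃ x : GL (Fin 2 ⊕ Fin 2) F, x ∈ Cfsg.spGL 2 F ∧
      x ∈ Subgroup.normalizer (R : Set (GL (Fin 2 ⊕ Fin 2) F)) ∧ x ^ 5 = 1 ∧ x ≠ 1 := by
  obtain ⟨t₁, t₂, t₃, t₄, t₅, m₁, m₂, m₃, m₄, m₅, q₁, q₂, q₃, q₄, q₅, A₁₂, A₁₃, A₁₄, A₁₅, A₂₃,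
    A₂₄, A₂₅, A₃₄, A₃₅, A₄₅, hcl⟩ := h.exists_five
  obtain ⟨N, hN⟩ : ∃ N, N = rot5 h h2 t₁ t₂ t₃ t₄ t₅ q₁ q₂ q₃ q₄ q₅ A₁₂ A₂₃ A₃₄ A₄₅ := ⟨_, rfl⟩
  have hNn : N ∈ Subgroup.normalizer (R : Set (GL (Fin 2 ⊕ Fin 2) F)) := by
    rw [hN]
    exact rot5_mem_normalizer h h2 t₁ t₂ t₃ t₄ t₅ q₁ q₂ q₃ q₄ q₅ A₁₂ A₂₃ A₃₄ A₄₅ m₁ m₂ m₃ m₄ m₅
  obtain ⟨z, hz⟩ : ∃ z : F, ((N ^ 5 : GL (Fin 2 ⊕ Fin 2) F) :
      Matrix (Fin 2 ⊕ Fin 2) (Fin 2 ⊕ Fin 2) F) = z • 1 := by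
    rw [hN]
    exact rot5_pow_scalar h h2 t₁ t₂ t₃ t₄ t₅ q₁ q₂ q₃ q₄ q₅ A₁₂ A₁₃ A₁₄ A₁₅ A₂₃ A₂₄ A₂₅ A₃₄ A₃₅
      A₄₅ hcl
  have hNns : ∀ z' : F, (N : Matrix (Fin 2 ⊕ Fin 2) (Fin 2 ⊕ Fin 2) F) ≠ z' • 1 := by
    intro z'
    rw [hN]
    exact rot5_not_scalar h h2 t₁ t₂ t₃ t₄ t₅ q₁ q₂ q₃ q₄ q₅ A₁₂ A₁₃ A₁₄ A₁₅ A₂₃ A₂₄ A₂₅ A₃₄ A₃₅
      A₄₅ (by simp) z'
  have hNs : IsSimil (N : Matrix (Fin 2 ⊕ Fin 2) (Fin 2 ⊕ Fin 2) F) (2 * 2 * 2 * 2) := by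
    rw [hN]
    unfold rot5
    rw [Units.val_mul, Units.val_mul, Units.val_mul]
    exact (((gS_isSimil h2 hRf _ (Subgroup.mul_mem _ m₁ m₂) _).mul
      (gS_isSimil h2 hRf _ (Subgroup.mul_mem _ m₂ m₃) _)).mul
      (gS_isSimil h2 hRf _ (Subgroup.mul_mem _ m₃ m₄) _)).mul
      (gS_isSimil h2 hRf _ (Subgroup.mul_mem _ m₄ m₅) _)
  have h4 : (4 : F) ≠ 0 := by
    have : (4 : F) = 2 * 2 := by norm_num
    rw [this]
    exact mul_ne_zero h2 h2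
  obtain ⟨c, hc⟩ : ∃ c : F, c = 4⁻¹ := ⟨_, rfl⟩
  have hc0 : c ≠ 0 := by rw [hc]; exact inv_ne_zero h4
  obtain ⟨M, hM⟩ : ∃ M : GL (Fin 2 ⊕ Fin 2) F, M = scG c hc0 * N := ⟨_, rfl⟩
  have hMsp : M ∈ Cfsg.spGL 2 F := by
    rw [mem_spGL_iff, hM, scG_mul_val, SymplecticGroup.mem_iff]
    have h1 := hNs.smul c
    unfold IsSimil at h1
    rw [h1]
    have h3 : c * c * (2 * 2 * 2 * 2) = 1 := by
      rw [hc]
      field_simp
      norm_num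
    rw [h3, one_smul]
  have hMn : M ∈ Subgroup.normalizer (R : Set (GL (Fin 2 ⊕ Fin 2) F)) := by
    rw [hM]
    exact Subgroup.mul_mem _ (scG_mem_normalizer c hc0 R) hNn
  obtain ⟨z₀, hz₀⟩ : ∃ z₀ : F, z₀ = c ^ 5 * z := ⟨_, rfl⟩
  have hM5 : ((M ^ 5 : GL (Fin 2 ⊕ Fin 2) F) : Matrix (Fin 2 ⊕ Fin 2) (Fin 2 ⊕ Fin 2) F)
      = z₀ • 1 := by
    rw [hM, scG_mul_pow_val, hz, smul_smul, hz₀]
  have hMns : ∀ z' : F, (M : Matrix (Fin 2 ⊕ Fin 2) (Fin 2 ⊕ Fin 2) F) ≠ z' • 1 := by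
    intro z' hz'
    rw [hM, scG_mul_val] at hz'
    apply hNns (c⁻¹ * z')
    rw [← smul_smul, ← hz', smul_smul, inv_mul_cancel₀ hc0, one_smul]
  have hz₀sq : z₀ * z₀ = 1 := by
    have hmem : M ^ 5 ∈ Cfsg.spGL 2 F := Subgroup.pow_mem _ hMsp 5
    rw [mem_spGL_iff, hM5] at hmem
    exact sq_eq_one_of_scalar_mem z₀ hmem
  rcases mul_self_eq_one_iff.mp hz₀sq with h1 | h1
  · refine ⟨M, hMsp, hMn, ?_, ?_⟩
    · apply Units.ext
      rw [hM5, h1, one_smul, Units.val_one]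
    · intro hM1
      apply hMns 1
      rw [hM1, Units.val_one, one_smul]
  · have hn5 : n ^ 5 = n := by
      have : n ^ 5 = (n * n) * (n * n) * n := by
        rw [pow_succ, pow_succ, pow_succ, pow_succ, pow_one]; group
      rw [this, h.n_sq, one_mul, one_mul]
    refine ⟨n * M, Subgroup.mul_mem _ (hRf h.n_mem) hMsp,
      Subgroup.mul_mem _ (Subgroup.le_normalizer h.n_mem) hMn, ?_, ?_⟩
    · have hcm : Commute n M := h.n_comm M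
      rw [hcm.mul_pow, hn5]
      apply Units.ext
      rw [h.val_n_mul, hM5, h1, neg_smul, one_smul, neg_neg, Units.val_one]
    · intro hM1
      apply hMns (-1)
      have : M = n := by
        have e : n * (n * M) = n * 1 := by rw [hM1]
        rw [← mul_assoc, h.n_sq, one_mul, mul_one] at e
        exact e
      rw [this, h.n_val, neg_smul, one_smul]

end five

end Cfsg.Agent.H9.Sp4
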