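import Mathlib

/-!
# Block elements of the symplectic group `Sp₂ₘ(K)`

Elements of `Matrix.symplecticGroup (Fin m) K` in block form: the Levi elements `lev A A'`
(`diag(A, A⁻ᵀ)`), the Siegel elements `sie S` (`[1 S; 0 1]`, `S` symmetric), their opposites
`sieN S` and the Weyl reflections `wj j`.
-/

set_option autoImplicit false
set_option linter.unusedSimpArgs false

namespace Cfsg.Agent.H9.SpA

open Matrix

/-- the symplectic group `Sp₂ₘ(K)` as a type -/
abbrev SpG (m : ℕ) (K : Type*) [Field K] : Type _ := ↥(Matrix.symplecticGroup (Fin m) K)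

variable {m : ℕ} {K : Type*} [Field K]

local notation "Sp" => SpG m K
local notation "Mm" => Matrix (Fin m) (Fin m) K

/-- the four blocks -/
def gA (g : Sp) : Mm := g.1.toBlocks₁₁
def gB (g : Sp) : Mm := g.1.toBlocks₁₂
def gC (g : Sp) : Mm := g.1.toBlocks₂₁
def gD (g : Sp) : Mm := g.1.toBlocks₂₂

theorem val_eq (g : Sp) : g.1 = fromBlocks (gA g) (gB g) (gC g) (gD g) :=
  (fromBlocks_toBlocks g.1).symm

theorem ext_blocks {g h : Sp} (hA : gA g = gA h) (hB : gB g = gB h) (hC : gC g = gC h)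
    (hD : gD g = gD h) : g = h := by
  apply Subtype.ext
  rw [val_eq g, val_eq h, hA, hB, hC, hD]

theorem blocks_of_val {g : Sp} {A B C D : Mm} (h : g.1 = fromBlocks A B C D) :
    gA g = A ∧ gB g = B ∧ gC g = C ∧ gD g = D := by
  have := val_eq g
  rw [h] at this
  have h2 := fromBlocks_inj.mp this
  exact ⟨h2.1.symm, h2.2.1.symm, h2.2.2.1.symm, h2.2.2.2.symm⟩

theorem mul_val (g h : Sp) : (g * h).1 = fromBlocks (gA g * gA h + gB g * gC h)
    (gA g * gB h + gB g * gD h) (gC g * gA h + gD g * gC h) (gC g * gB h + gD g * gD h) := by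
  rw [Submonoid.coe_mul]
  conv_lhs => rw [val_eq g, val_eq h, fromBlocks_multiply]

theorem gA_mul (g h : Sp) : gA (g * h) = gA g * gA h + gB g * gC h := (blocks_of_val (mul_val g h)).1
theorem gB_mul (g h : Sp) : gB (g * h) = gA g * gB h + gB g * gD h :=
  (blocks_of_val (mul_val g h)).2.1
theorem gC_mul (g h : Sp) : gC (g * h) = gC g * gA h + gD g * gC h :=
  (blocks_of_val (mul_val g h)).2.2.1
theorem gD_mul (g h : Sp) : gD (g * h) = gC g * gB h + gD g * gD h :=
  (blocks_of_val (mul_val g h)).2.2.2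

theorem one_val : (1 : Sp).1 = fromBlocks (1 : Mm) 0 0 1 := by
  rw [Submonoid.coe_one, fromBlocks_one]

theorem gA_one : gA (1 : Sp) = 1 := (blocks_of_val one_val).1
theorem gB_one : gB (1 : Sp) = 0 := (blocks_of_val one_val).2.1
theorem gC_one : gC (1 : Sp) = 0 := (blocks_of_val one_val).2.2.1
theorem gD_one : gD (1 : Sp) = 1 := (blocks_of_val one_val).2.2.2

/-- the symplectic conditions on the blocks -/
theorem symp_cond (g : Sp) : (gA g)ᵀ * gC g = (gC g)ᵀ * gA g ∧
    (gB g)ᵀ * gD g = (gD g)ᵀ * gB g ∧ (gA g)ᵀ * gD g - (gC g)ᵀ * gB g = 1 := by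
  have := g.2
  rw [val_eq g] at this
  exact SymplecticGroup.fromBlocks_mem_iff.mp this

theorem inv_val (g : Sp) : (g⁻¹).1 = fromBlocks (gD g)ᵀ (-(gB g)ᵀ) (-(gC g)ᵀ) (gA g)ᵀ := by
  rw [SymplecticGroup.coe_inv]
  conv_lhs => rw [val_eq g]
  rw [J, fromBlocks_transpose, Matrix.neg_mul, fromBlocks_multiply, Matrix.neg_mul,
    fromBlocks_multiply, fromBlocks_neg]
  simp

theorem gA_inv (g : Sp) : gA g⁻¹ = (gD g)ᵀ := (blocks_of_val (inv_val g)).1
theorem gB_inv (g : Sp) : gB g⁻¹ = -(gB g)ᵀ := (blocks_of_val (inv_val g)).2.1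
theorem gC_inv (g : Sp) : gC g⁻¹ = -(gC g)ᵀ := (blocks_of_val (inv_val g)).2.2.1
theorem gD_inv (g : Sp) : gD g⁻¹ = (gA g)ᵀ := (blocks_of_val (inv_val g)).2.2.2

/-! ### Siegel elements -/

/-- `[1 S; 0 1]` -/
def sie (S : Mm) (hS : S.IsSymm) : Sp :=
  ⟨fromBlocks 1 S 0 1, SymplecticGroup.fromBlocks_mem_iff.mpr (by
    refine ⟨by simp, ?_, by simp⟩
    rw [hS.eq]
    simp)⟩

theorem sie_val (S : Mm) (hS : S.IsSymm) : (sie S hS).1 = fromBlocks 1 S 0 1 := rfl

theorem gA_sie (S : Mm) (hS : S.IsSymm) : gA (sie S hS) = 1 := (blocks_of_val (sie_val S hS)).1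
theorem gB_sie (S : Mm) (hS : S.IsSymm) : gB (sie S hS) = S := (blocks_of_val (sie_val S hS)).2.1
theorem gC_sie (S : Mm) (hS : S.IsSymm) : gC (sie S hS) = 0 :=
  (blocks_of_val (sie_val S hS)).2.2.1
theorem gD_sie (S : Mm) (hS : S.IsSymm) : gD (sie S hS) = 1 :=
  (blocks_of_val (sie_val S hS)).2.2.2

theorem sie_congr {S S' : Mm} (hS : S.IsSymm) (h : S = S') :
    sie S hS = sie S' (h ▸ hS) := by
  subst h
  rfl

theorem sie_mul_sie (S S' : Mm) (hS : S.IsSymm) (hS' : S'.IsSymm) :
    sie S hS * sie S' hS' = sie (S + S') (hS.add hS') := by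
  apply Subtype.ext
  rw [Submonoid.coe_mul, sie_val, sie_val, sie_val, fromBlocks_multiply]
  simp [add_comm]

theorem sie_zero : sie (0 : Mm) (isSymm_zero) = 1 := by
  apply Subtype.ext
  rw [sie_val, one_val]

theorem sie_inv (S : Mm) (hS : S.IsSymm) : (sie S hS)⁻¹ = sie (-S) hS.neg := by
  rw [inv_eq_iff_mul_eq_one, sie_mul_sie, ← sie_zero]
  exact sie_congr _ (by simp)

theorem sie_injective {S S' : Mm} {hS : S.IsSymm} {hS' : S'.IsSymm}
    (h : sie S hS = sie S' hS') : S = S' := by
  have := congrArg gB h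
  rwa [gB_sie, gB_sie] at this

/-- `[1 0; S 1]` -/
def sieN (S : Mm) (hS : S.IsSymm) : Sp :=
  ⟨fromBlocks 1 0 S 1, SymplecticGroup.fromBlocks_mem_iff.mpr (by
    refine ⟨?_, by simp, by simp⟩
    rw [hS.eq]
    simp)⟩

theorem sieN_val (S : Mm) (hS : S.IsSymm) : (sieN S hS).1 = fromBlocks 1 0 S 1 := rfl

theorem gA_sieN (S : Mm) (hS : S.IsSymm) : gA (sieN S hS) = 1 := (blocks_of_val (sieN_val S hS)).1
theorem gB_sieN (S : Mm) (hS : S.IsSymm) : gB (sieN S hS) = 0 :=
  (blocks_of_val (sieN_val S hS)).2.1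
theorem gC_sieN (S : Mm) (hS : S.IsSymm) : gC (sieN S hS) = S :=
  (blocks_of_val (sieN_val S hS)).2.2.1
theorem gD_sieN (S : Mm) (hS : S.IsSymm) : gD (sieN S hS) = 1 :=
  (blocks_of_val (sieN_val S hS)).2.2.2

theorem sieN_mul_sieN (S S' : Mm) (hS : S.IsSymm) (hS' : S'.IsSymm) :
    sieN S hS * sieN S' hS' = sieN (S + S') (hS.add hS') := by
  apply Subtype.ext
  rw [Submonoid.coe_mul, sieN_val, sieN_val, sieN_val, fromBlocks_multiply]
  simp

theorem sieN_congr {S S' : Mm} (hS : S.IsSymm) (h : S = S') :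
    sieN S hS = sieN S' (h ▸ hS) := by
  subst h
  rfl

theorem sieN_zero : sieN (0 : Mm) (isSymm_zero) = 1 := by
  apply Subtype.ext
  rw [sieN_val, one_val]

/-! ### Levi elements -/

/-- `diag(A, A⁻ᵀ)` -/
def lev (A A' : Mm) (h : A * A' = 1) : Sp :=
  ⟨fromBlocks A 0 0 A'ᵀ, SymplecticGroup.fromBlocks_mem_iff.mpr (by
    refine ⟨by simp, by simp, ?_⟩
    rw [← transpose_mul, mul_eq_one_comm.mp h]
    simp)⟩

theorem lev_val (A A' : Mm) (h : A * A' = 1) : (lev A A' h).1 = fromBlocks A 0 0 A'ᵀ := rfl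

theorem gA_lev (A A' : Mm) (h : A * A' = 1) : gA (lev A A' h) = A :=
  (blocks_of_val (lev_val A A' h)).1
theorem gB_lev (A A' : Mm) (h : A * A' = 1) : gB (lev A A' h) = 0 :=
  (blocks_of_val (lev_val A A' h)).2.1
theorem gC_lev (A A' : Mm) (h : A * A' = 1) : gC (lev A A' h) = 0 :=
  (blocks_of_val (lev_val A A' h)).2.2.1
theorem gD_lev (A A' : Mm) (h : A * A' = 1) : gD (lev A A' h) = A'ᵀ :=
  (blocks_of_val (lev_val A A' h)).2.2.2

theorem lev_congr {A A' B B' : Mm} (h : A * A' = 1) (hA : A = B) (hA' : A' = B') :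
    lev A A' h = lev B B' (hA ▸ hA' ▸ h) := by
  subst hA
  subst hA'
  rfl

theorem lev_mul_lev (A A' B B' : Mm) (h : A * A' = 1) (h' : B * B' = 1) :
    lev A A' h * lev B B' h' = lev (A * B) (B' * A') (by
      rw [Matrix.mul_assoc, ← Matrix.mul_assoc B, h', Matrix.one_mul, h]) := by
  apply Subtype.ext
  rw [Submonoid.coe_mul, lev_val, lev_val, lev_val, fromBlocks_multiply]
  simp [transpose_mul]

theorem lev_one : lev (1 : Mm) 1 (Matrix.one_mul 1) = 1 := by
  apply Subtype.ext
  rw [lev_val, one_val, transpose_one]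

theorem lev_inv (A A' : Mm) (h : A * A' = 1) :
    (lev A A' h)⁻¹ = lev A' A (mul_eq_one_comm.mp h) := by
  rw [inv_eq_iff_mul_eq_one, lev_mul_lev, ← lev_one]
  exact lev_congr _ h h

/-- conjugation of a Siegel element by a Levi element -/
theorem lev_conj_sie (A A' : Mm) (h : A * A' = 1) (S : Mm) (hS : S.IsSymm) :
    lev A A' h * sie S hS * (lev A A' h)⁻¹ = sie (A * S * Aᵀ) (by
      unfold Matrix.IsSymm
      rw [transpose_mul, transpose_mul, transpose_transpose, hS.eq, Matrix.mul_assoc]) := by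
  rw [mul_inv_eq_iff_eq_mul]
  apply Subtype.ext
  rw [Submonoid.coe_mul, Submonoid.coe_mul, lev_val, sie_val, sie_val, fromBlocks_multiply,
    fromBlocks_multiply]
  have h' : A' * A = 1 := mul_eq_one_comm.mp h
  have : A * S * Aᵀ * A'ᵀ = A * S := by
    rw [Matrix.mul_assoc, ← transpose_mul, h', transpose_one, Matrix.mul_one]
  simp [this]

/-- conjugation of a Levi element by a Siegel element -/
theorem sie_conj_lev (A A' : Mm) (h : A * A' = 1) (S : Mm) (hS : S.IsSymm) :
    sie S hS * lev A A' h * (sie S hS)⁻¹ = lev A A' h * sie (A' * S * A'ᵀ - S) (by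
      unfold Matrix.IsSymm
      rw [transpose_sub, transpose_mul, transpose_mul, transpose_transpose, hS.eq,
        Matrix.mul_assoc]) := by
  have h1 := lev_conj_sie A' A (mul_eq_one_comm.mp h) S hS
  rw [← lev_inv A A' h, inv_inv] at h1
  have h2 : sie (A' * S * A'ᵀ - S) (by
      unfold Matrix.IsSymm
      rw [transpose_sub, transpose_mul, transpose_mul, transpose_transpose, hS.eq,
        Matrix.mul_assoc]) = sie (A' * S * A'ᵀ) (by
      unfold Matrix.IsSymm
      rw [transpose_mul, transpose_mul, transpose_transpose, hS.eq, Matrix.mul_assoc])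
        * (sie S hS)⁻¹ := by
    rw [sie_inv, sie_mul_sie]
    exact sie_congr _ (sub_eq_add_neg _ _)
  rw [h2, ← h1]
  group

/-! ### Weyl reflections -/

theorem single_self_mul_self (j : Fin m) :
    (single j j (1 : K) : Mm) * single j j 1 = single j j 1 := by
  rw [single_mul_single_same, mul_one]

/-- the reflection `e_j ↦ f_j ↦ -e_j` -/
def wj (j : Fin m) : Sp :=
  ⟨fromBlocks (1 - single j j 1) (-(single j j 1)) (single j j 1) (1 - single j j 1),
    SymplecticGroup.fromBlocks_mem_iff.mpr (by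
      have e := single_self_mul_self (K := K) j
      refine ⟨?_, ?_, ?_⟩ <;>
        simp only [transpose_sub, transpose_one, transpose_single, transpose_neg, Matrix.sub_mul,
          Matrix.mul_sub, Matrix.one_mul, Matrix.mul_one, Matrix.mul_neg, Matrix.neg_mul, e] <;>
        abel)⟩

theorem wj_val (j : Fin m) : (wj j : Sp).1 =
    fromBlocks (1 - single j j 1) (-(single j j 1)) (single j j 1) (1 - single j j 1) := rfl

/-- conjugating the short root element `x_{ε_i+ε_j}(s)` by the reflection `w_j` gives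
`x_{ε_i-ε_j}(-s)` -/
theorem wj_conj_sie (i j : Fin m) (hij : i ≠ j) (s : K) :
    wj j * sie (single i j s + single j i s) (by
        unfold Matrix.IsSymm
        rw [transpose_add, transpose_single, transpose_single, add_comm]) * (wj j)⁻¹
      = lev (1 - single i j s) (1 + single i j s) (by
        rw [Matrix.sub_mul, Matrix.one_mul, Matrix.mul_add, Matrix.mul_one,
          single_mul_single_of_ne _ _ _ _ hij.symm]
        simp) := by
  rw [mul_inv_eq_iff_eq_mul]
  apply Subtype.ext
  rw [Submonoid.coe_mul, Submonoid.coe_mul, wj_val, sie_val, lev_val, fromBlocks_multiply,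
    fromBlocks_multiply]
  congr 1
  · simp only [Matrix.mul_one, Matrix.mul_zero, add_zero, Matrix.zero_mul, Matrix.sub_mul,
      Matrix.one_mul, Matrix.mul_sub, single_mul_single_same, mul_one]
    abel
  · simp only [Matrix.mul_one, Matrix.mul_zero, add_zero, Matrix.zero_mul, Matrix.sub_mul,
      Matrix.one_mul, Matrix.mul_sub, Matrix.mul_add, single_mul_single_same, mul_one,
      single_mul_single_of_ne _ _ _ _ hij.symm, Matrix.mul_neg, Matrix.neg_mul, one_mul]
    abel
  · simp only [Matrix.mul_one, Matrix.mul_zero, add_zero, Matrix.zero_mul, zero_add,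
      transpose_add, transpose_one, transpose_single, Matrix.add_mul, Matrix.one_mul,
      single_mul_single_of_ne _ _ _ _ hij]
  · simp only [Matrix.mul_one, Matrix.mul_zero, add_zero, Matrix.zero_mul, zero_add,
      transpose_add, transpose_one, transpose_single, Matrix.add_mul, Matrix.one_mul,
      Matrix.mul_add, single_mul_single_same, mul_one, one_mul, Matrix.mul_sub,
      single_mul_single_of_ne _ _ _ _ hij, single_mul_single_of_ne _ _ _ _ hij.symm]
    abel

/-! ### The Levi embedding of `SLₘ(K)` -/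

/-- `g ↦ diag(g, g⁻ᵀ)` -/
def levS (g : Matrix.SpecialLinearGroup (Fin m) K) : Sp :=
  lev g.1 (g⁻¹).1 (by
    rw [← Matrix.SpecialLinearGroup.coe_mul, mul_inv_cancel, Matrix.SpecialLinearGroup.coe_one])

theorem levS_mul (g h : Matrix.SpecialLinearGroup (Fin m) K) :
    levS (g * h) = levS g * levS h := by
  unfold levS
  rw [lev_mul_lev]
  exact lev_congr _ (Matrix.SpecialLinearGroup.coe_mul g h) (by
    rw [_root_.mul_inv_rev, Matrix.SpecialLinearGroup.coe_mul])

theorem levS_one : levS (1 : Matrix.SpecialLinearGroup (Fin m) K) = 1 := by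
  unfold levS
  rw [← lev_one]
  exact lev_congr _ (Matrix.SpecialLinearGroup.coe_one) (by
    rw [inv_one, Matrix.SpecialLinearGroup.coe_one])

/-- the Levi embedding as a homomorphism -/
def levHom : Matrix.SpecialLinearGroup (Fin m) K →* Sp where
  toFun := levS
  map_one' := levS_one
  map_mul' := levS_mul

theorem levHom_apply (g : Matrix.SpecialLinearGroup (Fin m) K) : levHom g = levS g := rfl

theorem gA_levS (g : Matrix.SpecialLinearGroup (Fin m) K) : gA (levS g) = g.1 := gA_lev _ _ _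
theorem gB_levS (g : Matrix.SpecialLinearGroup (Fin m) K) : gB (levS g) = 0 := gB_lev _ _ _
theorem gC_levS (g : Matrix.SpecialLinearGroup (Fin m) K) : gC (levS g) = 0 := gC_lev _ _ _

/-! ### The long root `SL₂` and its torus -/

theorem isSymm_single (j : Fin m) (a : K) : (single j j a : Mm).IsSymm := by
  unfold Matrix.IsSymm
  rw [transpose_single]

/-- `x_{2ε_j}(a)` -/
def xp (j : Fin m) (a : K) : Sp := sie (single j j a) (isSymm_single j a)

/-- `x_{-2ε_j}(a)` -/
def xn (j : Fin m) (a : K) : Sp := sieN (single j j a) (isSymm_single j a)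

theorem torus_aux (j : Fin m) (c : K) (hc : c ≠ 0) :
    (1 + single j j (c - 1) : Mm) * (1 + single j j (c⁻¹ - 1)) = 1 := by
  rw [Matrix.add_mul, Matrix.one_mul, Matrix.mul_add, Matrix.mul_one, single_mul_single_same,
    add_assoc, add_eq_left, ← single_add, ← single_add]
  have : c⁻¹ - 1 + (c - 1 + (c - 1) * (c⁻¹ - 1)) = 0 := by
    field_simp
    ring
  rw [this, single_zero]

/-- the torus element `h_{2ε_j}(c)` -/
def hl (j : Fin m) (c : K) (hc : c ≠ 0) : Sp :=
  lev (1 + single j j (c - 1)) (1 + single j j (c⁻¹ - 1)) (torus_aux j c hc)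

/-- the torus element as a product of four long root elements -/
theorem hl_eq (j : Fin m) (c : K) (hc : c ≠ 0) :
    hl j c hc = xn j (c⁻¹ - 1) * xp j 1 * xn j (c - 1) * xp j (-c⁻¹) := by
  have hinv : (xp j (-c⁻¹) : Sp) = (xp j c⁻¹)⁻¹ := by
    unfold xp
    rw [sie_inv]
    exact sie_congr _ (by rw [single_neg])
  rw [hinv, eq_mul_inv_iff_mul_eq]
  apply Subtype.ext
  unfold hl xp xn
  simp only [Submonoid.coe_mul, lev_val, sie_val, sieN_val, fromBlocks_multiply]
  congr 1 <;>
  · simp only [Matrix.mul_one, Matrix.one_mul, Matrix.mul_zero, Matrix.zero_mul, add_zero, zero_add,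
      Matrix.add_mul, Matrix.mul_add, single_mul_single_same, transpose_add, transpose_one,
      transpose_single, mul_one, one_mul]
    try (ext a b
         simp only [Matrix.add_apply, single_apply, Matrix.one_apply, Matrix.zero_apply]
         split_ifs <;> first | rfl | (field_simp; ring))

end Cfsg.Agent.H9.SpA
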