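import Cfsg.Agent.H9.SpA
import Cfsg.Agent.H9.SLnB

/-!
# The unipotent subgroups `US`, `QS`, `RS` of `Sp₂ₘ(K)`
-/

set_option autoImplicit false
set_option linter.unusedSimpArgs false
set_option linter.unusedVariables false

namespace Cfsg.Agent.H9.SpB

open Matrix Cfsg.Agent.H9.SpA Cfsg.Agent.H9.SLnA Cfsg.Agent.H9.SLnB

variable {m : ℕ} {K : Type*} [Field K]

local notation "Sp" => SpG m K
local notation "Mm" => Matrix (Fin m) (Fin m) K
local notation "SLm" => Matrix.SpecialLinearGroup (Fin m) K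

/-- upper unitriangular matrices -/
def IsUT (A : Mm) : Prop := ∀ i j, j ≤ i → A i j = if i = j then 1 else 0

theorem isUT_one : IsUT (1 : Mm) := by
  intro i j _
  rw [Matrix.one_apply]

theorem IsUT.isUpper {A : Mm} (hA : IsUT A) : IsUpper A := by
  intro i j hij
  rw [hA i j hij.le, if_neg hij.ne']

theorem IsUT.diag {A : Mm} (hA : IsUT A) (i : Fin m) : A i i = 1 := by
  rw [hA i i le_rfl, if_pos rfl]

theorem isUT_of_isUpper {A : Mm} (hA : IsUpper A) (hd : ∀ i, A i i = 1) : IsUT A := by
  intro i j hij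
  rcases eq_or_lt_of_le hij with h | h
  · subst h
    rw [if_pos rfl, hd]
  · rw [if_neg h.ne', hA i j h]

theorem IsUT.mul {A B : Mm} (hA : IsUT A) (hB : IsUT B) : IsUT (A * B) := by
  apply isUT_of_isUpper (hA.isUpper.mul hB.isUpper)
  intro i
  rw [hA.isUpper.mul_diag hB.isUpper, hA.diag, hB.diag, one_mul]

theorem IsUT.det {A : Mm} (hA : IsUT A) : A.det = 1 := by
  have htri : A.BlockTriangular id := by
    intro i j hij
    exact hA.isUpper i j hij
  rw [Matrix.det_of_isUpperTriangular htri]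
  apply Finset.prod_eq_one
  intro i _
  exact hA.diag i

/-- the last row of a unitriangular matrix -/
theorem IsUT.last_row {A : Mm} (hA : IsUT A) (l : Fin m) (hl : ∀ i : Fin m, i ≤ l) (k : Fin m) :
    A l k = if l = k then 1 else 0 := hA l k (hl k)

/-- in a finite group a submonoid is closed under inverses -/
theorem inv_mem_of_finite {G : Type*} [Group G] [Finite G] (S : Submonoid G) {g : G}
    (hg : g ∈ S) : g⁻¹ ∈ S := by
  have : g⁻¹ = g ^ (orderOf g - 1) := by
    rw [inv_eq_iff_mul_eq_one, ← pow_succ', Nat.sub_add_cancel (orderOf_pos g),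
      pow_orderOf_eq_one]
  rw [this]
  exact S.pow_mem hg _

/-- for `C = 0` the diagonal blocks are inverse transposes of each other -/
theorem gD_mul_gA_of_gC {g : Sp} (h : gC g = 0) : (gD g)ᵀ * gA g = 1 := by
  have := (symp_cond g).2.2
  rw [h, transpose_zero, Matrix.zero_mul, sub_zero] at this
  have h2 := congrArg transpose this
  rwa [transpose_mul, transpose_transpose, transpose_one] at h2

theorem gA_mul_gD_of_gC {g : Sp} (h : gC g = 0) : gA g * (gD g)ᵀ = 1 :=
  mul_eq_one_comm.mp (gD_mul_gA_of_gC h)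

theorem isSymm_of_gC {g : Sp} (h : gC g = 0) : ((gD g)ᵀ * gB g).IsSymm := by
  unfold Matrix.IsSymm
  rw [transpose_mul, transpose_transpose]
  exact (symp_cond g).2.1

/-- the decomposition of an element with `C = 0` -/
theorem eq_lev_mul_sie {g : Sp} (h : gC g = 0) :
    g = lev (gA g) (gD g)ᵀ (gA_mul_gD_of_gC h) * sie ((gD g)ᵀ * gB g) (isSymm_of_gC h) := by
  apply ext_blocks
  · rw [gA_mul, gA_lev, gA_sie, gB_lev, gC_sie, Matrix.mul_one, Matrix.zero_mul, add_zero]
  · rw [gB_mul, gA_lev, gB_sie, gB_lev, Matrix.zero_mul, add_zero, ← Matrix.mul_assoc,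
      gA_mul_gD_of_gC h, Matrix.one_mul]
  · rw [gC_mul, gC_lev, gC_sie, Matrix.zero_mul, Matrix.mul_zero, add_zero, h]
  · rw [gD_mul, gC_lev, gD_lev, gD_sie, Matrix.zero_mul, zero_add, Matrix.mul_one,
      transpose_transpose]

section finite

variable [Finite K]

/-- the Sylow `p`-subgroup: `C = 0`, `A` unitriangular -/
def US : Subgroup Sp :=
  { carrier := {g | gC g = 0 ∧ IsUT (gA g)}
    one_mem' := ⟨gC_one, by rw [gA_one]; exact isUT_one⟩
    mul_mem' := by
      rintro g h ⟨hg1, hg2⟩ ⟨hh1, hh2⟩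
      refine ⟨?_, ?_⟩
      · rw [gC_mul, hg1, hh1, Matrix.zero_mul, Matrix.mul_zero, add_zero]
      · rw [gA_mul, hh1, Matrix.mul_zero, add_zero]
        exact hg2.mul hh2
    inv_mem' := by
      intro g hg
      exact inv_mem_of_finite
        { carrier := {g : Sp | gC g = 0 ∧ IsUT (gA g)}
          one_mem' := ⟨gC_one, by rw [gA_one]; exact isUT_one⟩
          mul_mem' := by
            rintro g h ⟨hg1, hg2⟩ ⟨hh1, hh2⟩
            refine ⟨?_, ?_⟩
            · rw [gC_mul, hg1, hh1, Matrix.zero_mul, Matrix.mul_zero, add_zero]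
            · rw [gA_mul, hh1, Matrix.mul_zero, add_zero]
              exact hg2.mul hh2 } hg }

theorem mem_US {g : Sp} : g ∈ (US : Subgroup Sp) ↔ gC g = 0 ∧ IsUT (gA g) := Iff.rfl

/-- the Siegel radical: `C = 0`, `A = 1` -/
def QS : Subgroup Sp :=
  { carrier := {g | gC g = 0 ∧ gA g = 1}
    one_mem' := ⟨gC_one, gA_one⟩
    mul_mem' := by
      rintro g h ⟨hg1, hg2⟩ ⟨hh1, hh2⟩
      refine ⟨?_, ?_⟩
      · rw [gC_mul, hg1, hh1, Matrix.zero_mul, Matrix.mul_zero, add_zero]
      · rw [gA_mul, hh1, Matrix.mul_zero, add_zero, hg2, hh2, Matrix.one_mul]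
    inv_mem' := by
      intro g hg
      exact inv_mem_of_finite
        { carrier := {g : Sp | gC g = 0 ∧ gA g = 1}
          one_mem' := ⟨gC_one, gA_one⟩
          mul_mem' := by
            rintro g h ⟨hg1, hg2⟩ ⟨hh1, hh2⟩
            refine ⟨?_, ?_⟩
            · rw [gC_mul, hg1, hh1, Matrix.zero_mul, Matrix.mul_zero, add_zero]
            · rw [gA_mul, hh1, Matrix.mul_zero, add_zero, hg2, hh2, Matrix.one_mul] } hg }

theorem mem_QS {g : Sp} : g ∈ (QS : Subgroup Sp) ↔ gC g = 0 ∧ gA g = 1 := Iff.rfl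

theorem QS_le_US : (QS : Subgroup Sp) ≤ US := by
  rintro g ⟨h1, h2⟩
  exact ⟨h1, by rw [h2]; exact isUT_one⟩

theorem sie_mem_QS (S : Mm) (hS : S.IsSymm) : sie S hS ∈ (QS : Subgroup Sp) :=
  ⟨gC_sie S hS, gA_sie S hS⟩

/-- the elements of the Siegel radical are the Siegel elements -/
theorem eq_sie_of_mem_QS {g : Sp} (hg : g ∈ (QS : Subgroup Sp)) :
    ∃ (S : Mm) (hS : S.IsSymm), g = sie S hS := by
  obtain ⟨h1, h2⟩ := hg
  have hD : (gD g)ᵀ = 1 := by
    have := gD_mul_gA_of_gC h1
    rwa [h2, Matrix.mul_one] at this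
  have hS := isSymm_of_gC h1
  rw [hD, Matrix.one_mul] at hS
  refine ⟨gB g, hS, ?_⟩
  apply ext_blocks
  · rw [gA_sie, h2]
  · rw [gB_sie]
  · rw [gC_sie, h1]
  · rw [gD_sie]
    have := congrArg transpose hD
    rwa [transpose_transpose, transpose_one] at this

theorem lev_mem_US (A A' : Mm) (h : A * A' = 1) (hA : IsUT A) :
    lev A A' h ∈ (US : Subgroup Sp) := ⟨gC_lev A A' h, by rw [gA_lev]; exact hA⟩

theorem levS_mem_US {g : SLm} (hg : g ∈ (UU : Subgroup SLm)) : levS g ∈ (US : Subgroup Sp) :=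
  ⟨gC_levS g, by rw [gA_levS]; exact mem_UU.mp hg⟩

/-- the last column of the `D`-block of an element of `US` -/
theorem gD_last_col {g : Sp} (hg : g ∈ (US : Subgroup Sp)) (l : Fin m) (hl : ∀ i : Fin m, i ≤ l)
    (k : Fin m) : gD g k l = if k = l then 1 else 0 := by
  have h1 := gA_mul_gD_of_gC hg.1
  have h2 : gD g * (gA g)ᵀ = 1 := by
    have := congrArg transpose h1
    rwa [transpose_mul, transpose_transpose, transpose_one] at this
  have h3 := congrFun (congrFun h2 k) l
  rw [Matrix.mul_apply, Matrix.one_apply] at h3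
  rw [← h3]
  symm
  rw [Finset.sum_eq_single l]
  · rw [transpose_apply, hg.2.last_row l hl l, if_pos rfl, mul_one]
  · intro i _ hi
    rw [transpose_apply, hg.2.last_row l hl i, if_neg hi.symm, mul_zero]
  · intro h
    exact absurd (Finset.mem_univ l) h

/-- the radical of the minimal parabolic subgroup of the long simple root -/
def RS (l : Fin m) (hl : ∀ i : Fin m, i ≤ l) : Subgroup Sp :=
  { carrier := {g | g ∈ (US : Subgroup Sp) ∧ gB g l l = 0}
    one_mem' := ⟨Subgroup.one_mem _, by rw [gB_one]; rfl⟩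
    mul_mem' := by
      rintro g h ⟨hg1, hg2⟩ ⟨hh1, hh2⟩
      refine ⟨Subgroup.mul_mem _ hg1 hh1, ?_⟩
      rw [gB_mul, Matrix.add_apply, Matrix.mul_apply, Matrix.mul_apply,
        Finset.sum_eq_single l, Finset.sum_eq_single l]
      · rw [hh2, hg2, mul_zero, zero_mul, add_zero]
      · intro k _ hk
        rw [gD_last_col hh1 l hl k, if_neg hk, mul_zero]
      · intro h'
        exact absurd (Finset.mem_univ l) h'
      · intro k _ hk
        rw [hg1.2.last_row l hl k, if_neg hk.symm, zero_mul]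
      · intro h'
        exact absurd (Finset.mem_univ l) h'
    inv_mem' := by
      intro g hg
      exact inv_mem_of_finite
        { carrier := {g : Sp | g ∈ (US : Subgroup Sp) ∧ gB g l l = 0}
          one_mem' := ⟨Subgroup.one_mem _, by rw [gB_one]; rfl⟩
          mul_mem' := by
            rintro g h ⟨hg1, hg2⟩ ⟨hh1, hh2⟩
            refine ⟨Subgroup.mul_mem _ hg1 hh1, ?_⟩
            rw [gB_mul, Matrix.add_apply, Matrix.mul_apply, Matrix.mul_apply,
              Finset.sum_eq_single l, Finset.sum_eq_single l]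
            · rw [hh2, hg2, mul_zero, zero_mul, add_zero]
            · intro k _ hk
              rw [gD_last_col hh1 l hl k, if_neg hk, mul_zero]
            · intro h'
              exact absurd (Finset.mem_univ l) h'
            · intro k _ hk
              rw [hg1.2.last_row l hl k, if_neg hk.symm, zero_mul]
            · intro h'
              exact absurd (Finset.mem_univ l) h' } hg }

theorem mem_RS {l : Fin m} {hl : ∀ i : Fin m, i ≤ l} {g : Sp} :
    g ∈ (RS l hl : Subgroup Sp) ↔ g ∈ (US : Subgroup Sp) ∧ gB g l l = 0 := Iff.rfl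

theorem RS_le_US (l : Fin m) (hl : ∀ i : Fin m, i ≤ l) : (RS l hl : Subgroup Sp) ≤ US :=
  fun _ hg => hg.1

/-! ### `US` is a `p`-group -/

omit [Finite K] in
theorem pow_blocks_of_gC {g : Sp} (h : gC g = 0) (n : ℕ) :
    gC (g ^ n) = 0 ∧ gA (g ^ n) = (gA g) ^ n := by
  induction n with
  | zero => exact ⟨by rw [pow_zero, gC_one], by rw [pow_zero, pow_zero, gA_one]⟩
  | succ n ih =>
    refine ⟨?_, ?_⟩
    · rw [pow_succ, gC_mul, ih.1, h, Matrix.zero_mul, Matrix.mul_zero, add_zero]
    · rw [pow_succ, gA_mul, h, Matrix.mul_zero, add_zero, ih.2, pow_succ]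

omit [Finite K] in
theorem sie_pow (S : Mm) (hS : S.IsSymm) (n : ℕ) :
    (sie S hS) ^ n = sie (n • S) (by
      unfold Matrix.IsSymm
      rw [transpose_smul, hS.eq]) := by
  induction n with
  | zero =>
    rw [pow_zero, ← sie_zero]
    exact sie_congr _ (by rw [zero_smul])
  | succ n ih =>
    rw [pow_succ, ih, sie_mul_sie]
    exact sie_congr _ (by rw [succ_nsmul])

omit [Finite K] in
theorem sie_pow_char (p : ℕ) [CharP K p] (S : Mm) (hS : S.IsSymm) : (sie S hS) ^ p = 1 := by
  rw [sie_pow, ← sie_zero]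
  apply sie_congr
  ext i j
  rw [Matrix.smul_apply, nsmul_eq_mul, CharP.cast_eq_zero, zero_mul, Matrix.zero_apply]

theorem isPGroup_US (p : ℕ) [hp : Fact p.Prime] [CharP K p] :
    IsPGroup p (US : Subgroup Sp) := by
  rintro ⟨g, hg⟩
  obtain ⟨k, hk⟩ := (isPGroup_UU (n := m) (K := K) p)
    ⟨⟨gA g, hg.2.det⟩, mem_UU.mpr hg.2⟩
  have hk' : (gA g) ^ p ^ k = 1 := by
    have h3 := congrArg (fun x : (UU : Subgroup SLm) => (x.1.1 : Mm)) hk
    simp only [Subgroup.coe_pow, Matrix.SpecialLinearGroup.coe_pow, Subgroup.coe_one,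
      Matrix.SpecialLinearGroup.coe_one] at h3
    exact h3
  have h1 := pow_blocks_of_gC hg.1 (p ^ k)
  have h2 : g ^ p ^ k ∈ (QS : Subgroup Sp) := ⟨h1.1, by rw [h1.2, hk']⟩
  obtain ⟨S, hS, hgS⟩ := eq_sie_of_mem_QS h2
  refine ⟨k + 1, ?_⟩
  apply Subtype.ext
  rw [Subgroup.coe_pow, Subgroup.coe_one, pow_succ, pow_mul]
  show (g ^ p ^ k) ^ p = 1
  rw [hgS, sie_pow_char]

/-! ### The normalizer of `US` -/

omit [Finite K] in
/-- a matrix conjugating the unitriangular group into itself is triangular -/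
theorem isUpper_of_conj (A : Mm)
    (h : ∀ j a : Fin m, j < a → ∃ u' : Mm, IsUT u' ∧ transvection j a (1 : K) * A = A * u') :
    IsUpper A := by
  have key : ∀ n : ℕ, ∀ j : Fin m, j.val = n → ∀ a : Fin m, j < a → A a j = 0 := by
    intro n
    induction n using Nat.strong_induction_on with
    | _ n ih =>
      intro j hj a hja
      obtain ⟨u', hu', hM⟩ := h j a hja
      have hjj := congrFun (congrFun hM j) j
      rw [transvection_mul_apply_same, Matrix.mul_apply] at hjj
      have hR : ∑ x, A j x * u' x j = A j j := by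
        rw [Finset.sum_eq_single j]
        · rw [hu'.diag j, mul_one]
        · intro x _ hxj
          rcases lt_or_gt_of_ne hxj with h' | h'
          · rw [ih x.val (by rw [← hj]; exact h') x rfl j h', zero_mul]
          · rw [hu'.isUpper x j h', mul_zero]
        · intro h'
          exact absurd (Finset.mem_univ j) h'
      rw [hR, one_mul] at hjj
      exact add_eq_left.1 hjj
  intro i j hji
  exact key j.val j rfl i hji

omit [Finite K] in
theorem isUT_transvection (j a : Fin m) (hja : j < a) (c : K) : IsUT (transvection j a c) := by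
  intro i k hki
  have hne : ¬ (j = i ∧ a = k) := by
    rintro ⟨rfl, rfl⟩
    exact absurd hja (not_lt.mpr hki)
  rw [transvection, Matrix.add_apply, Matrix.one_apply, single_apply, if_neg hne, add_zero]

omit [Finite K] in
theorem transvection_mul_neg (j a : Fin m) (hja : j ≠ a) (c : K) :
    transvection j a c * transvection j a (-c) = 1 := by
  rw [transvection_mul_transvection_same j a hja, add_neg_cancel, transvection_zero]

/-- elements of the normalizer of `US` are block triangular with triangular `A` -/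
theorem of_mem_normalizer_US {g : Sp}
    (hg : g ∈ Subgroup.normalizer ((US : Subgroup Sp) : Set Sp)) :
    gC g = 0 ∧ IsUpper (gA g) := by
  have hg' : g⁻¹ ∈ Subgroup.normalizer ((US : Subgroup Sp) : Set Sp) := Subgroup.inv_mem _ hg
  have hconj : ∀ u ∈ (US : Subgroup Sp), g * u * g⁻¹ ∈ (US : Subgroup Sp) :=
    fun u hu => (Subgroup.mem_normalizer_iff.mp hg u).mp hu
  have hconj' : ∀ u ∈ (US : Subgroup Sp), g⁻¹ * u * g ∈ (US : Subgroup Sp) := by
    intro u hu
    have := (Subgroup.mem_normalizer_iff.mp hg' u).mp hu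
    rwa [inv_inv] at this
  -- `C = 0`
  have hCDt : gC g * (gD g)ᵀ = gD g * (gC g)ᵀ := by
    have := (symp_cond g⁻¹).1
    rw [gA_inv, gC_inv, transpose_transpose, transpose_neg, transpose_transpose, Matrix.mul_neg,
      Matrix.neg_mul, neg_inj] at this
    exact this.symm
  have hC : gC g = 0 := by
    ext k i
    have h1 := (hconj (sie (single i i 1) (isSymm_single i 1))
      (QS_le_US (sie_mem_QS _ _))).1
    rw [gC_mul, gC_mul, gD_mul, gA_sie, gC_sie, gA_inv, gC_inv, gB_sie, gD_sie, Matrix.mul_one,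
      Matrix.mul_zero, add_zero, Matrix.mul_one, Matrix.add_mul, Matrix.mul_neg, hCDt] at h1
    have h2 : gC g * single i i 1 * (gC g)ᵀ = 0 := by
      have e : gD g * (gC g)ᵀ + (-(gC g * single i i 1 * (gC g)ᵀ) + gD g * -(gC g)ᵀ) =
          -(gC g * single i i 1 * (gC g)ᵀ) := by
        rw [Matrix.mul_neg]
        abel
      rw [e, neg_eq_zero] at h1
      exact h1
    have h3 := congrFun (congrFun h2 k) k
    rw [Matrix.mul_apply, Matrix.zero_apply] at h3
    have h4 : ∀ x : Fin m, (gC g * (single i i (1 : K) : Mm)) k x * (gC g)ᵀ x k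
        = if x = i then gC g k i * gC g k i else 0 := by
      intro x
      rw [Matrix.mul_apply, transpose_apply]
      by_cases hx : x = i
      · subst hx
        rw [if_pos rfl, Finset.sum_eq_single x]
        · rw [single_apply, if_pos ⟨rfl, rfl⟩, mul_one]
        · intro y _ hy
          rw [single_apply, if_neg (fun h => hy h.1.symm), mul_zero]
        · intro h
          exact absurd (Finset.mem_univ x) h
      · rw [if_neg hx]
        have : ∑ j, gC g k j * (single i i (1 : K) : Mm) j x = 0 := by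
          apply Finset.sum_eq_zero
          intro y _
          rw [single_apply, if_neg (fun h => hx h.2.symm), mul_zero]
        rw [this, zero_mul]
    simp_rw [h4] at h3
    rw [Finset.sum_ite_eq' Finset.univ i, if_pos (Finset.mem_univ i)] at h3
    rw [Matrix.zero_apply]
    exact mul_self_eq_zero.mp h3
  refine ⟨hC, ?_⟩
  apply isUpper_of_conj
  intro j a hja
  have hu : lev (transvection j a (1 : K)) (transvection j a (-1))
      (transvection_mul_neg j a hja.ne 1) ∈ (US : Subgroup Sp) :=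
    lev_mem_US _ _ _ (isUT_transvection j a hja 1)
  have h1 := (hconj' _ hu).2
  rw [gA_mul, hC, Matrix.mul_zero, add_zero, gA_mul, gA_inv, gA_lev, gC_lev, Matrix.mul_zero,
    add_zero] at h1
  refine ⟨_, h1, ?_⟩
  rw [← Matrix.mul_assoc, ← Matrix.mul_assoc, gA_mul_gD_of_gC hC, Matrix.one_mul]

/-- a `p`-element of the normalizer of `US` lies in `US` -/
theorem mem_US_of_mem_normalizer (p : ℕ) [hp : Fact p.Prime] [CharP K p] {g : Sp}
    (hg : g ∈ Subgroup.normalizer ((US : Subgroup Sp) : Set Sp)) (k : ℕ) (hk : g ^ p ^ k = 1) :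
    g ∈ (US : Subgroup Sp) := by
  obtain ⟨hC, hA⟩ := of_mem_normalizer_US hg
  refine ⟨hC, isUT_of_isUpper hA ?_⟩
  intro i
  have h1 := (hA.pow (p ^ k)).2 i
  rw [← (pow_blocks_of_gC hC (p ^ k)).2, hk, gA_one, Matrix.one_apply, if_pos rfl] at h1
  have h2 : (gA g i i - 1) ^ p ^ k = 0 := by
    rw [sub_pow_char_pow, ← h1, one_pow, sub_self]
  have := pow_eq_zero_iff (pow_ne_zero k hp.out.ne_zero) |>.mp h2
  exact sub_eq_zero.mp this

/-- a `p`-subgroup containing the `p`-elements of its normalizer is a Sylow `p`-subgroup -/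
theorem card_eq_of_normalizer {G : Type*} [Group G] [Finite G] (p : ℕ) [hp : Fact p.Prime]
    (S0 : Subgroup G) (hS0 : IsPGroup p S0)
    (h : ∀ x ∈ Subgroup.normalizer (S0 : Set G), ∀ k : ℕ, x ^ p ^ k = 1 → x ∈ S0) :
    Nat.card S0 = p ^ (Nat.card G).factorization p := by
  obtain ⟨P, hP⟩ := hS0.exists_le_sylow
  rw [← P.card_eq_multiplicity]
  by_contra hne
  have hlt : S0 < (P : Subgroup G) := by
    apply lt_of_le_of_ne hP
    intro h'
    apply hne
    rw [h']
  have hnil : Group.IsNilpotent ↥(P : Subgroup G) := P.isPGroup'.isNilpotent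
  have hlt' : S0.subgroupOf (P : Subgroup G) < ⊤ := by
    rw [lt_top_iff_ne_top]
    intro h'
    rw [Subgroup.subgroupOf_eq_top] at h'
    exact absurd (le_antisymm hP h') hlt.ne
  have hnc := Group.normalizerCondition_of_isNilpotent (G := ↥(P : Subgroup G)) _ hlt'
  obtain ⟨x, hxN, hxU⟩ := SetLike.exists_of_lt hnc
  have hxN' : (x : G) ∈ Subgroup.normalizer (S0 : Set G) := by
    rw [Subgroup.mem_normalizer_iff]
    intro u
    constructor
    · intro hu
      have h1 := (Subgroup.mem_normalizer_iff.mp hxN ⟨u, hP hu⟩).mp hu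
      exact h1
    · intro hu
      have hu' : u ∈ (P : Subgroup G) := by
        have : u = (x : G)⁻¹ * ((x : G) * u * (x : G)⁻¹) * (x : G) := by group
        rw [this]
        exact (P : Subgroup G).mul_mem ((P : Subgroup G).mul_mem
          ((P : Subgroup G).inv_mem x.2) (hP hu)) x.2
      exact (Subgroup.mem_normalizer_iff.mp hxN ⟨u, hu'⟩).mpr hu
  obtain ⟨k, hk⟩ := P.isPGroup' x
  have hk' : (x : G) ^ p ^ k = 1 := congrArg Subtype.val hk
  exact hxU (h x hxN' k hk')

/-- `US` has the order of a Sylow `p`-subgroup -/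
theorem card_US_eq (p : ℕ) [hp : Fact p.Prime] [CharP K p] :
    Nat.card (US : Subgroup Sp) = p ^ (Nat.card Sp).factorization p :=
  card_eq_of_normalizer p US (isPGroup_US p)
    (fun _ hx k hk => mem_US_of_mem_normalizer p hx k hk)

end finite

end Cfsg.Agent.H9.SpB
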