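import Cfsg.Agent.H9.SpC
import Cfsg.Agent.H9.SLnD

/-!
# The unipotent subgroup of `Sp₂ₘ(K)` has no proper nontrivial strongly closed subgroup
-/

set_option autoImplicit false
set_option linter.unusedSimpArgs false
set_option linter.unusedVariables false
set_option linter.unreachableTactic false
set_option linter.unusedTactic false

namespace Cfsg.Agent.H9.SpD

open Matrix Cfsg.Agent.H9.SpA Cfsg.Agent.H9.SpB Cfsg.Agent.H9.SpC Cfsg.Agent.H9.SLnA
  Cfsg.Agent.H9.SLnB

variable {m : ℕ} {K : Type*} [Field K]

local notation "Sp" => SpG m K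
local notation "Mm" => Matrix (Fin m) (Fin m) K
local notation "SLm" => Matrix.SpecialLinearGroup (Fin m) K

/-! ### Matrix identities -/

theorem I1 (i j : Fin m) (hij : i ≠ j) (c t : K) :
    (transvection j i t : Mm) * single i i c * (transvection j i t)ᵀ
      = single i i c + single i j (c * t) + single j i (c * t) + single j j (c * t * t) := by
  simp only [transvection, transpose_add, transpose_one, transpose_single, Matrix.add_mul,
    Matrix.mul_add, Matrix.one_mul, Matrix.mul_one, single_mul_single_same,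
    single_mul_single_of_ne _ _ _ _ hij, single_mul_single_of_ne _ _ _ _ hij.symm,
    Matrix.zero_mul, Matrix.mul_zero, add_zero, zero_add]
  ext a b
  simp only [Matrix.add_apply, single_apply, Matrix.zero_apply]
  split_ifs <;> first | ring1 | (exfalso; simp_all)

theorem I2 (i j : Fin m) (hij : i ≠ j) (c : K) :
    (transvection i j (-1) : Mm) * (single i i c + single i j c + single j i c + single j j c)
      * (transvection i j (-1))ᵀ = single j j c := by
  simp only [transvection, transpose_add, transpose_one, transpose_single, Matrix.add_mul,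
    Matrix.mul_add, Matrix.one_mul, Matrix.mul_one, single_mul_single_same,
    single_mul_single_of_ne _ _ _ _ hij, single_mul_single_of_ne _ _ _ _ hij.symm,
    Matrix.zero_mul, Matrix.mul_zero, add_zero, zero_add]
  ext a b
  simp only [Matrix.add_apply, single_apply, Matrix.zero_apply]
  split_ifs <;> first | ring1 | (exfalso; simp_all)

theorem I3 (i : Fin m) (c t : K) :
    (1 + single i i (t - 1) : Mm) * single i i c * (1 + single i i (t - 1))ᵀ
      = single i i (c * t * t) := by
  simp only [transvection, transpose_add, transpose_one, transpose_single, Matrix.add_mul,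
    Matrix.mul_add, Matrix.one_mul, Matrix.mul_one, single_mul_single_same,
    Matrix.zero_mul, Matrix.mul_zero, add_zero, zero_add]
  ext a b
  simp only [Matrix.add_apply, single_apply, Matrix.zero_apply]
  split_ifs <;> first | ring1 | (exfalso; simp_all)

theorem I5 (i j k : Fin m) (hij : i ≠ j) (hik : i ≠ k) (hjk : j ≠ k) (c a : K) :
    (transvection k j 1 : Mm) * (single i i c + single i j a + single j i a)
      * (transvection k j 1)ᵀ
      = (single i i c + single i j a + single j i a) + (single i k a + single k i a) := by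
  simp only [transvection, transpose_add, transpose_one, transpose_single, Matrix.add_mul,
    Matrix.mul_add, Matrix.one_mul, Matrix.mul_one, single_mul_single_same,
    single_mul_single_of_ne _ _ _ _ hij, single_mul_single_of_ne _ _ _ _ hij.symm,
    single_mul_single_of_ne _ _ _ _ hik, single_mul_single_of_ne _ _ _ _ hik.symm,
    single_mul_single_of_ne _ _ _ _ hjk, single_mul_single_of_ne _ _ _ _ hjk.symm,
    Matrix.zero_mul, Matrix.mul_zero, add_zero, zero_add]
  ext x y
  simp only [Matrix.add_apply, single_apply, Matrix.zero_apply]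
  split_ifs <;> first | ring1 | (exfalso; simp_all)

theorem I6 (i j : Fin m) (hij : i ≠ j) (c a t : K) :
    (1 + single j j (t - 1) : Mm) * (single i i c + single i j a + single j i a)
      * (1 + single j j (t - 1))ᵀ
      = single i i c + single i j (a * t) + single j i (a * t) := by
  simp only [transvection, transpose_add, transpose_one, transpose_single, Matrix.add_mul,
    Matrix.mul_add, Matrix.one_mul, Matrix.mul_one, single_mul_single_same,
    single_mul_single_of_ne _ _ _ _ hij, single_mul_single_of_ne _ _ _ _ hij.symm,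
    Matrix.zero_mul, Matrix.mul_zero, add_zero, zero_add]
  ext x y
  simp only [Matrix.add_apply, single_apply, Matrix.zero_apply]
  split_ifs <;> first | ring1 | (exfalso; simp_all)

theorem transvection_mul_neg' (i j : Fin m) (hij : i ≠ j) (c : K) :
    (transvection i j c : Mm) * transvection i j (-c) = 1 := by
  rw [transvection_mul_transvection_same _ _ hij, add_neg_cancel, transvection_zero]

/-- the Levi element only depends on its first argument -/
theorem lev_eq_of_left {A A' A'' : Mm} (h : A * A' = 1) (h' : A * A'' = 1) :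
    lev A A' h = lev A A'' h' := by
  apply lev_congr h rfl
  calc A' = (A'' * A) * A' := by rw [mul_eq_one_comm.mp h', Matrix.one_mul]
    _ = A'' := by rw [Matrix.mul_assoc, h, Matrix.mul_one]

/-! ### Symmetric matrices whose Siegel element lies in a subgroup -/

/-- the Siegel element of `S` lies in `T` -/
def InS (T : Subgroup Sp) (S : Mm) : Prop := ∃ hS : S.IsSymm, sie S hS ∈ T

theorem InS.zero (T : Subgroup Sp) : InS T (0 : Mm) :=
  ⟨isSymm_zero, by rw [sie_zero]; exact T.one_mem⟩

theorem InS.add {T : Subgroup Sp} {S S' : Mm} (h : InS T S) (h' : InS T S') : InS T (S + S') := by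
  obtain ⟨hS, h1⟩ := h
  obtain ⟨hS', h2⟩ := h'
  refine ⟨hS.add hS', ?_⟩
  rw [← sie_mul_sie S S' hS hS']
  exact T.mul_mem h1 h2

theorem InS.neg {T : Subgroup Sp} {S : Mm} (h : InS T S) : InS T (-S) := by
  obtain ⟨hS, h1⟩ := h
  refine ⟨hS.neg, ?_⟩
  rw [← sie_inv S hS]
  exact T.inv_mem h1

theorem InS.sub {T : Subgroup Sp} {S S' : Mm} (h : InS T S) (h' : InS T S') : InS T (S - S') := by
  rw [sub_eq_add_neg]
  exact h.add h'.neg

theorem InS.of_eq {T : Subgroup Sp} {S S' : Mm} (h : InS T S) (e : S = S') : InS T S' := by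
  subst e
  exact h

theorem InS.sum {T : Subgroup Sp} {ι : Type*} (s : Finset ι) (f : ι → Mm)
    (h : ∀ i ∈ s, InS T (f i)) : InS T (∑ i ∈ s, f i) := by
  classical
  induction s using Finset.induction_on with
  | empty => rw [Finset.sum_empty]; exact InS.zero T
  | insert a s ha ih =>
    rw [Finset.sum_insert ha]
    exact (h a (Finset.mem_insert_self a s)).add
      (ih (fun i hi => h i (Finset.mem_insert_of_mem hi)))

section finite

variable [Finite K]

/-- strongly closed: congruence by invertible matrices -/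
theorem InS.congr {T : Subgroup Sp}
    (hsc : ∀ x ∈ T, ∀ g : Sp, g * x * g⁻¹ ∈ (US : Subgroup Sp) → g * x * g⁻¹ ∈ T)
    {S : Mm} (h : InS T S) (A A' : Mm) (hA : A * A' = 1) : InS T (A * S * Aᵀ) := by
  obtain ⟨hS, h1⟩ := h
  have h2 := hsc _ h1 (lev A A' hA) (by
    rw [lev_conj_sie]
    exact QS_le_US (sie_mem_QS _ _))
  rw [lev_conj_sie] at h2
  exact ⟨_, h2⟩

/-- moving a diagonal entry -/
theorem InS.diag_move {T : Subgroup Sp}
    (hsc : ∀ x ∈ T, ∀ g : Sp, g * x * g⁻¹ ∈ (US : Subgroup Sp) → g * x * g⁻¹ ∈ T)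
    {i j : Fin m} (hij : i ≠ j) {c : K} (h : InS T (single i i c)) : InS T (single j j c) := by
  have h1 := h.congr hsc (transvection j i 1) (transvection j i (-1))
    (transvection_mul_neg' j i hij.symm 1)
  rw [I1 i j hij c 1] at h1
  simp only [mul_one] at h1
  have h2 := h1.congr hsc (transvection i j (-1)) (transvection i j (- -1))
    (transvection_mul_neg' i j hij (-1))
  rw [I2 i j hij c] at h2
  exact h2

/-- scaling a diagonal entry by a square -/
theorem InS.diag_sq {T : Subgroup Sp}
    (hsc : ∀ x ∈ T, ∀ g : Sp, g * x * g⁻¹ ∈ (US : Subgroup Sp) → g * x * g⁻¹ ∈ T)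
    {i : Fin m} {c : K} (h : InS T (single i i c)) (t : K) : InS T (single i i (c * t * t)) := by
  by_cases ht : t = 0
  · rw [ht, mul_zero, single_zero]
    exact InS.zero T
  have h1 := h.congr hsc (1 + single i i (t - 1)) (1 + single i i (t⁻¹ - 1)) (torus_aux i t ht)
  rw [I3] at h1
  exact h1

/-- all diagonal entries -/
theorem InS.diag_all {T : Subgroup Sp}
    (hsc : ∀ x ∈ T, ∀ g : Sp, g * x * g⁻¹ ∈ (US : Subgroup Sp) → g * x * g⁻¹ ∈ T)
    {i : Fin m} {c : K} (hc : c ≠ 0) (h : InS T (single i i c)) (x : K) :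
    InS T (single i i x) := by
  by_cases h2 : (2 : K) = 0
  · have : CharP K 2 := CharTwo.of_one_ne_zero_of_two_eq_zero one_ne_zero h2
    obtain ⟨s, hs⟩ := FiniteField.isSquare_of_char_two (ringChar.eq K 2) (x / c)
    have := h.diag_sq hsc s
    have e : c * s * s = x := by
      rw [mul_assoc, ← hs]
      field_simp
    rwa [e] at this
  · have h1 := (h.diag_sq hsc ((x / c + 1) / 2)).sub (h.diag_sq hsc ((x / c - 1) / 2))
    refine h1.of_eq ?_
    have e : c * ((x / c + 1) / 2) * ((x / c + 1) / 2) - c * ((x / c - 1) / 2) * ((x / c - 1) / 2)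
        = x := by
      field_simp
      ring
    rw [sub_eq_add_neg, single_neg, ← single_add, ← sub_eq_add_neg, e]

/-- all short root elements -/
theorem InS.pair_all {T : Subgroup Sp}
    (hsc : ∀ x ∈ T, ∀ g : Sp, g * x * g⁻¹ ∈ (US : Subgroup Sp) → g * x * g⁻¹ ∈ T)
    (hd : ∀ (i : Fin m) (x : K), InS T (single i i x)) (i j : Fin m) (hij : i ≠ j) (x : K) :
    InS T (single i j x + single j i x) := by
  have h1 := (hd i 1).congr hsc (transvection j i x) (transvection j i (-x))
    (transvection_mul_neg' j i hij.symm x)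
  rw [I1 i j hij 1 x] at h1
  simp only [one_mul] at h1
  have h2 := (h1.sub (hd i 1)).sub (hd j (x * x))
  refine h2.of_eq ?_
  abel

/-- all symmetric matrices -/
theorem InS.all {T : Subgroup Sp}
    (hsc : ∀ x ∈ T, ∀ g : Sp, g * x * g⁻¹ ∈ (US : Subgroup Sp) → g * x * g⁻¹ ∈ T)
    (hd : ∀ (i : Fin m) (x : K), InS T (single i i x)) (S : Mm) (hS : S.IsSymm) : InS T S := by
  have hpair : ∀ (i j : Fin m) (x : K), InS T (single i j x + single j i x) := by
    intro i j x
    by_cases hij : i = j
    · subst hij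
      rw [← single_add]
      exact hd i _
    · exact InS.pair_all hsc hd i j hij x
  have hM : ∀ M : Mm, InS T (M + Mᵀ) := by
    intro M
    have e : M + Mᵀ = ∑ i, ∑ j, (single i j (M i j) + single j i (M i j)) := by
      conv_lhs => rw [matrix_eq_sum_single M]
      rw [transpose_sum]
      simp_rw [transpose_sum, transpose_single, ← Finset.sum_add_distrib]
    rw [e]
    exact InS.sum _ _ (fun i _ => InS.sum _ _ (fun j _ => hpair i j _))
  have hD : InS T (∑ i, single i i (S i i)) := InS.sum _ _ (fun i _ => hd i _)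
  refine ((hM (Matrix.of fun a b => if a < b then S a b else 0)).add hD).of_eq ?_
  ext a b
  rw [Matrix.add_apply, Matrix.add_apply, transpose_apply, Matrix.of_apply, Matrix.of_apply,
    Matrix.sum_apply]
  have hsum : ∑ c, (single c c (S c c) : Mm) a b = if a = b then S a a else 0 := by
    rw [Finset.sum_eq_single a]
    · rw [single_apply]
      by_cases hab : a = b
      · rw [if_pos ⟨rfl, hab⟩, if_pos hab]
      · rw [if_neg (fun h => hab h.2), if_neg hab]
    · intro c _ hc
      rw [single_apply, if_neg (fun h => hc h.1)]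
    · intro h
      exact absurd (Finset.mem_univ a) h
  rw [hsum]
  rcases lt_trichotomy a b with h | h | h
  · rw [if_pos h, if_neg (not_lt.mpr h.le), if_neg h.ne, add_zero, add_zero]
  · subst h
    rw [if_neg (lt_irrefl a), if_pos rfl, add_zero, zero_add]
  · rw [if_neg (not_lt.mpr h.le), if_pos h, if_neg h.ne', add_zero, zero_add]
    exact congrFun (congrFun hS.eq a) b

omit [Finite K] in
theorem transpose_transvection' (i j : Fin m) (c : K) :
    (transvection i j c : Mm)ᵀ = transvection j i c := by
  simp only [transvection, transpose_add, transpose_one, transpose_single]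

/-- a nonzero long root element in a nontrivial strongly closed subgroup -/
theorem exists_diag (p : ℕ) [hp : Fact p.Prime] [CharP K p] (hm : 2 ≤ m)
    (hex : m = 2 → ∃ t : K, t ≠ 0 ∧ t ≠ 1) (T : Subgroup Sp) (hT : T ≤ (US : Subgroup Sp))
    (hsc : ∀ x ∈ T, ∀ g : Sp, g * x * g⁻¹ ∈ (US : Subgroup Sp) → g * x * g⁻¹ ∈ T)
    (hbot : T ≠ ⊥) (o : Fin m) (ho : o.val = 0) :
    ∃ c : K, c ≠ 0 ∧ InS T (single o o c) := by
  have : (T.subgroupOf (US : Subgroup Sp)).Normal := by
    refine ⟨fun x hx u => ?_⟩
    rw [Subgroup.mem_subgroupOf] at hx ⊢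
    exact hsc _ hx u.1 ((US : Subgroup Sp).mul_mem ((US : Subgroup Sp).mul_mem u.2 x.2)
      ((US : Subgroup Sp).inv_mem u.2))
  have hne : T.subgroupOf (US : Subgroup Sp) ≠ ⊥ := by
    intro h
    apply hbot
    rw [Subgroup.eq_bot_iff_forall]
    intro x hx
    have : (⟨x, hT hx⟩ : (US : Subgroup Sp)) ∈ T.subgroupOf (US : Subgroup Sp) := by
      rw [Subgroup.mem_subgroupOf]
      exact hx
    rw [h, Subgroup.mem_bot] at this
    exact congrArg Subtype.val this
  obtain ⟨z, hzT, hzZ, hz1⟩ := Cfsg.Agent.Lib.Lead.PGroup.exists_mem_center_of_normal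
    (isPGroup_US (m := m) (K := K) p) (T.subgroupOf (US : Subgroup Sp)) hne
  rw [Subgroup.mem_subgroupOf] at hzT
  obtain ⟨z0, hz0⟩ : ∃ z0 : Sp, z0 = z.1 := ⟨_, rfl⟩
  rw [← hz0] at hzT
  have hz0U : z0 ∈ (US : Subgroup Sp) := by rw [hz0]; exact z.2
  have hz01 : z0 ≠ 1 := by
    intro h
    apply hz1
    apply Subtype.ext
    rw [← hz0, h]
    rfl
  have hcomm : ∀ u ∈ (US : Subgroup Sp), z0 * u = u * z0 := by
    intro u hu
    have := Subgroup.mem_center_iff.mp hzZ ⟨u, hu⟩
    have h2 := congrArg Subtype.val this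
    rw [hz0]
    exact h2.symm
  obtain ⟨k, hk⟩ := (isPGroup_US (m := m) (K := K) p) ⟨z0, hz0U⟩
  have hzQ : z0 ∈ (QS : Subgroup Sp) :=
    mem_QS_of_commute p z0 k (congrArg Subtype.val hk) (fun x hx => hcomm x (QS_le_US hx))
  obtain ⟨S0, hS0, hz0S⟩ := eq_sie_of_mem_QS hzQ
  have hsym : ∀ a b, S0 a b = S0 b a := fun a b => congrFun (congrFun hS0.eq b) a
  -- the rows of `S0`
  have hrow : ∀ i j : Fin m, i < j → ∀ b, b ≠ i → S0 j b = 0 := by
    intro i j hij b hb
    have h1 := (of_commute_lev z0 (transvection i j 1) (transvection i j (-1))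
      (transvection_mul_neg' i j hij.ne 1)
      (hcomm _ (lev_mem_US _ _ _ (isUT_transvection i j hij 1)))).2
    rw [hz0S, gB_sie, transpose_transvection'] at h1
    have h2 := congrFun (congrFun h1 i) b
    rw [mul_transvection_apply_of_ne (i := j) (j := i) i b hb, transvection_mul_apply_same, one_mul] at h2
    exact (add_eq_left.mp h2.symm)
  -- indices
  obtain ⟨q, hq⟩ : ∃ q : Fin m, q.val = 1 := ⟨⟨1, by omega⟩, rfl⟩
  have hoq : o < q := by rw [Fin.lt_def]; omega
  have hole : ∀ s : Fin m, s ≠ o → o < s := by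
    intro s hs
    rw [Fin.lt_def]
    have : s.val ≠ o.val := fun h => hs (Fin.ext h)
    omega
  have hqle : ∀ s : Fin m, s ≠ o → s ≠ q → q < s := by
    intro s hs hs'
    rw [Fin.lt_def]
    have : s.val ≠ o.val := fun h => hs (Fin.ext h)
    have : s.val ≠ q.val := fun h => hs' (Fin.ext h)
    omega
  have hz : ∀ s t : Fin m, s ≠ o → s ≠ q → S0 s t = 0 := by
    intro s t hs hs'
    by_cases ht : t = o
    · exact hrow q s (hqle s hs hs') t (by rw [ht]; exact hoq.ne)
    · exact hrow o s (hole s hs) t ht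
  obtain ⟨c, hc⟩ : ∃ c : K, c = S0 o o := ⟨_, rfl⟩
  obtain ⟨a, ha⟩ : ∃ a : K, a = S0 o q := ⟨_, rfl⟩
  have hshape : S0 = single o o c + single o q a + single q o a := by
    ext s t
    rw [Matrix.add_apply, Matrix.add_apply, single_apply, single_apply, single_apply]
    by_cases hs : s = o
    · rw [hs]
      by_cases ht : t = o
      · rw [ht, if_pos ⟨rfl, rfl⟩, if_neg (fun h => hoq.ne h.2.symm),
          if_neg (fun h => hoq.ne h.1.symm), add_zero, add_zero, hc]
      · by_cases ht' : t = q
        · rw [ht', if_neg (fun h => hoq.ne h.2), if_pos ⟨rfl, rfl⟩,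
            if_neg (fun h => hoq.ne h.2), zero_add, add_zero, ha]
        · rw [if_neg (fun h => ht h.2.symm), if_neg (fun h => ht' h.2.symm),
            if_neg (fun h => ht h.2.symm), add_zero, add_zero, hsym]
          exact hz t o ht ht'
    · by_cases hs' : s = q
      · rw [hs']
        by_cases ht : t = o
        · rw [ht, if_neg (fun h => hoq.ne h.1), if_neg (fun h => hoq.ne h.1), if_pos ⟨rfl, rfl⟩,
            zero_add, zero_add, ha, hsym]
        · rw [if_neg (fun h => hoq.ne h.1), if_neg (fun h => hoq.ne h.1),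
            if_neg (fun h => ht h.2.symm), add_zero, add_zero]
          exact hrow o q hoq t ht
      · rw [if_neg (fun h => hs h.1.symm), if_neg (fun h => hs h.1.symm),
          if_neg (fun h => hs' h.1.symm), add_zero, add_zero]
        exact hz s t hs hs'
  have hInS0 : InS T S0 := ⟨hS0, by rw [← hz0S]; exact hzT⟩
  by_cases ha0 : a = 0
  · refine ⟨c, ?_, ?_⟩
    · intro hc0
      apply hz01
      rw [hz0S, ← sie_zero]
      exact sie_congr _ (by rw [hshape, ha0, hc0, single_zero, single_zero, single_zero,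
        add_zero, add_zero])
    · refine hInS0.of_eq ?_
      rw [hshape, ha0, single_zero, single_zero, add_zero, add_zero]
  -- a pure short root element
  have hshort : ∃ (k : Fin m) (a' : K), o ≠ k ∧ a' ≠ 0 ∧ InS T (single o k a' + single k o a') := by
    by_cases hm3 : 3 ≤ m
    · obtain ⟨k, hk⟩ : ∃ k : Fin m, k.val = 2 := ⟨⟨2, by omega⟩, rfl⟩
      have hok : o ≠ k := fun h => by rw [h] at ho; omega
      have hqk : q ≠ k := fun h => by rw [h] at hq; omega
      refine ⟨k, a, hok, ha0, ?_⟩
      have h1 := hInS0.congr hsc (transvection k q 1) (transvection k q (-1))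
        (transvection_mul_neg' k q hqk.symm 1)
      rw [hshape, I5 o q k hoq.ne hok hqk c a] at h1
      rw [hshape] at hInS0
      refine (h1.sub hInS0).of_eq ?_
      abel
    · have hm2 : m = 2 := by omega
      obtain ⟨t, ht0, ht1⟩ := hex hm2
      refine ⟨q, a * t - a, hoq.ne, ?_, ?_⟩
      · intro h
        have : a * (t - 1) = 0 := by rw [mul_sub, mul_one]; exact h
        rcases mul_eq_zero.mp this with h' | h'
        · exact ha0 h'
        · exact ht1 (sub_eq_zero.mp h')
      · have h1 := hInS0.congr hsc (1 + single q q (t - 1)) (1 + single q q (t⁻¹ - 1))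
          (torus_aux q t ht0)
        rw [hshape, I6 o q hoq.ne c a t] at h1
        rw [hshape] at hInS0
        refine (h1.sub hInS0).of_eq ?_
        rw [sub_eq_add_neg (a * t) a, single_add, single_add, ← single_neg, ← single_neg]
        abel
  obtain ⟨k, a', hok, ha', hpair⟩ := hshort
  have hok' : o < k := hole k hok.symm
  obtain ⟨hSp, hpT⟩ := hpair
  -- the short root element `x_{ε_o-ε_k}`
  have hlevT : lev (1 - single o k a' : Mm) (1 + single o k a') (by
      rw [Matrix.sub_mul, Matrix.one_mul, Matrix.mul_add, Matrix.mul_one,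
        single_mul_single_of_ne _ _ _ _ hok.symm]
      simp) ∈ T := by
    have h1 := wj_conj_sie (K := K) o k hok a'
    have h2 := hsc _ hpT (wj k) (by
      rw [h1]
      refine lev_mem_US _ _ _ ?_
      have : (1 - single o k a' : Mm) = transvection o k (-a') := by
        rw [transvection, ← single_neg, sub_eq_add_neg]
      rw [this]
      exact isUT_transvection o k hok' (-a'))
    rw [h1] at h2
    exact h2
  have hlevU : lev (1 - single o k a' : Mm) (1 + single o k a') (by
      rw [Matrix.sub_mul, Matrix.one_mul, Matrix.mul_add, Matrix.mul_one,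
        single_mul_single_of_ne _ _ _ _ hok.symm]
      simp) ∈ (US : Subgroup Sp) := hT hlevT
  have h3 := sie_conj_lev (1 - single o k a' : Mm) (1 + single o k a') (by
      rw [Matrix.sub_mul, Matrix.one_mul, Matrix.mul_add, Matrix.mul_one,
        single_mul_single_of_ne _ _ _ _ hok.symm]
      simp) (single k k 1) (isSymm_single k 1)
  have h4 := hsc _ hlevT (sie (single k k 1) (isSymm_single k 1)) (by
    rw [h3]
    exact (US : Subgroup Sp).mul_mem hlevU (QS_le_US (sie_mem_QS _ _)))
  rw [h3] at h4
  have h5 := T.mul_mem (T.inv_mem hlevT) h4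
  rw [inv_mul_cancel_left] at h5
  have h6 : InS T ((1 + single o k a' : Mm) * single k k 1 * (1 + single o k a')ᵀ
      - single k k 1) := ⟨_, h5⟩
  have e := I1 k o hok.symm (1 : K) a'
  rw [transvection] at e
  rw [e] at h6
  simp only [one_mul] at h6
  refine ⟨a' * a', mul_ne_zero ha' ha', ?_⟩
  refine (h6.sub ⟨hSp, hpT⟩).of_eq ?_
  abel

/-- no proper nontrivial strongly closed subgroup -/
theorem sc_US (p : ℕ) [hp : Fact p.Prime] [CharP K p] (hm : 2 ≤ m)
    (hex : m = 2 → ∃ t : K, t ≠ 0 ∧ t ≠ 1) (T : Subgroup Sp) (hT : T ≤ (US : Subgroup Sp))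
    (hsc : ∀ x ∈ T, ∀ g : Sp, g * x * g⁻¹ ∈ (US : Subgroup Sp) → g * x * g⁻¹ ∈ T) :
    T = ⊥ ∨ T = (US : Subgroup Sp) := by
  by_cases hbot : T = ⊥
  · exact Or.inl hbot
  right
  apply le_antisymm hT
  obtain ⟨o, ho⟩ : ∃ o : Fin m, o.val = 0 := ⟨⟨0, by omega⟩, rfl⟩
  obtain ⟨c, hc, hdiag⟩ := exists_diag p hm hex T hT hsc hbot o ho
  have hd : ∀ (i : Fin m) (x : K), InS T (single i i x) := by
    intro i x
    by_cases hio : i = o
    · subst hio
      exact hdiag.diag_all hsc hc x
    · exact (hdiag.diag_move hsc (Ne.symm hio)).diag_all hsc hc x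
  have hall := InS.all hsc hd
  have hQ : (QS : Subgroup Sp) ≤ T := by
    intro g hg
    obtain ⟨S, hS, rfl⟩ := eq_sie_of_mem_QS hg
    obtain ⟨_, h⟩ := hall S hS
    exact h
  have hUU : (UU : Subgroup SLm) ≤ T.comap levHom := by
    apply Cfsg.Agent.H9.SLnD.UU_le_of_rx_mem
    intro i j hij x
    rw [Subgroup.mem_comap, levHom_apply]
    obtain ⟨hSp, hpT⟩ := InS.pair_all hsc hd i j hij.ne (-x)
    have h1 := wj_conj_sie (K := K) i j hij.ne (-x)
    have e1 : (1 - single i j (-x) : Mm) = transvection i j x := by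
      rw [transvection, sub_eq_add_neg, single_neg, neg_neg]
    have h2 := hsc _ hpT (wj j) (by
      rw [h1]
      refine lev_mem_US _ _ _ ?_
      rw [e1]
      exact isUT_transvection i j hij x)
    rw [h1] at h2
    have e2 : levS (rx i j hij.ne x) = lev (1 - single i j (-x) : Mm) (1 + single i j (-x)) (by
        rw [Matrix.sub_mul, Matrix.one_mul, Matrix.mul_add, Matrix.mul_one,
          single_mul_single_of_ne _ _ _ _ hij.ne.symm]
        simp) := by
      unfold levS
      have e3 : (rx i j hij.ne x).1 = (1 - single i j (-x) : Mm) := by rw [rx_val, e1]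
      rw [lev_congr _ e3 rfl]
      exact lev_eq_of_left _ _
    rw [e2]
    exact h2
  intro g hg
  have hC := hg.1
  rw [eq_lev_mul_sie hC]
  refine T.mul_mem ?_ (hQ (sie_mem_QS _ _))
  have hdet : (gA g).det = 1 := hg.2.det
  obtain ⟨u, hu⟩ : ∃ u : SLm, u.1 = gA g := ⟨⟨gA g, hdet⟩, rfl⟩
  have e : lev (gA g) (gD g)ᵀ (gA_mul_gD_of_gC hC) = levHom u := by
    rw [levHom_apply]
    unfold levS
    rw [lev_congr _ hu.symm rfl]
    exact lev_eq_of_left _ _
  rw [e]
  apply hUU
  apply mem_UU.mpr
  rw [hu]
  exact hg.2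

end finite

end Cfsg.Agent.H9.SpD
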