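import Cfsg.Agent.H9.SpD
import Cfsg.Agent.H9.SLnE

/-!
# The certificate for `Sp₂ₘ(K)`: the normalizer of the unipotent subgroup is generated by
`p`-elements of normalizers of centric subgroups
-/

set_option autoImplicit false
set_option linter.unusedSimpArgs false
set_option linter.unusedVariables false
set_option linter.style.haveILetI false

namespace Cfsg.Agent.H9.SpE

open Matrix Cfsg Cfsg.Agent.H9.SpA Cfsg.Agent.H9.SpB Cfsg.Agent.H9.SpC Cfsg.Agent.H9.SpD
open Cfsg.Agent.H9.SLnA Cfsg.Agent.H9.SLnB Cfsg.Agent.H9.SLnE Cfsg.Agent.H9.GfsSimple3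

variable {m : ℕ} {K : Type*} [Field K]

local notation "Sp" => SpG m K
local notation "Mm" => Matrix (Fin m) (Fin m) K
local notation "SLm" => Matrix.SpecialLinearGroup (Fin m) K

theorem exists_orderOf_of_pow {G : Type*} [Group G] (p : ℕ) [hp : Fact p.Prime] (g : G)
    (h : g ^ p = 1) : ∃ k : ℕ, orderOf g = p ^ k := by
  have h1 := orderOf_dvd_of_pow_eq_one h
  have h' : orderOf g ∣ p ^ 1 := by rwa [pow_one]
  obtain ⟨k, -, hk⟩ := (Nat.dvd_prime_pow hp.out).mp h'
  exact ⟨k, hk⟩

theorem isUpper_diagonal (d : Fin m → K) : IsUpper (Matrix.diagonal d) :=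
  fun i j hij => Matrix.diagonal_apply_ne _ hij.ne'

section finite

variable [Finite K]

theorem lev_conj_mem_US (A A' : Mm) (h : A * A' = 1) (hA : IsUpper A) (hA' : IsUpper A')
    (x : Sp) (hx : x ∈ (US : Subgroup Sp)) :
    lev A A' h * x * (lev A A' h)⁻¹ ∈ (US : Subgroup Sp) := by
  rw [lev_inv]
  refine ⟨?_, ?_⟩
  · simp only [gC_mul, gA_mul, gB_mul, gD_mul, gC_lev, gA_lev, gB_lev, gD_lev, hx.1,
      Matrix.mul_zero, Matrix.zero_mul, add_zero, zero_add]
  · have e : gA (lev A A' h * x * lev A' A (mul_eq_one_comm.mp h)) = A * gA x * A' := by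
      simp only [gC_mul, gA_mul, gB_mul, gD_mul, gC_lev, gA_lev, gB_lev, gD_lev, hx.1,
        Matrix.mul_zero, Matrix.zero_mul, add_zero, zero_add]
    rw [e]
    refine isUT_of_isUpper ((hA.mul hx.2.isUpper).mul hA') (fun i => ?_)
    rw [(hA.mul hx.2.isUpper).mul_diag hA', hA.mul_diag hx.2.isUpper, hx.2.diag, mul_one,
      ← hA.mul_diag hA', h, Matrix.one_apply_eq]

/-- Levi elements with triangular blocks normalize `US` -/
theorem lev_mem_normalizer_US (A A' : Mm) (h : A * A' = 1) (hA : IsUpper A) (hA' : IsUpper A') :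
    lev A A' h ∈ Subgroup.normalizer ((US : Subgroup Sp) : Set Sp) := by
  apply mem_normalizer_of_conj
  · exact lev_conj_mem_US A A' h hA hA'
  · intro x hx
    have := lev_conj_mem_US A' A (mul_eq_one_comm.mp h) hA' hA x hx
    rwa [← lev_inv A A' h, inv_inv] at this

theorem US_le_normalizer_QS :
    (US : Subgroup Sp) ≤ Subgroup.normalizer ((QS : Subgroup Sp) : Set Sp) := by
  intro u hu
  rw [eq_lev_mul_sie hu.1]
  exact Subgroup.mul_mem _ (lev_mem_normalizer_QS _ _ _)
    (Subgroup.le_normalizer (sie_mem_QS _ _))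

theorem US_le_genSub (p : ℕ) [hp : Fact p.Prime] [CharP K p] :
    (US : Subgroup Sp) ≤ genSub p (US : Subgroup Sp) := by
  intro u hu
  apply Subgroup.subset_closure
  refine ⟨Subgroup.le_normalizer hu, QS, centricIn_QS p, ?_⟩
  apply Subgroup.subset_closure
  refine ⟨US_le_normalizer_QS hu, ?_⟩
  obtain ⟨k, hk⟩ := (isPGroup_US (m := m) (K := K) p) ⟨u, hu⟩
  have hk' : u ^ p ^ k = 1 := congrArg Subtype.val hk
  obtain ⟨j, -, hj⟩ := (Nat.dvd_prime_pow hp.out).mp (orderOf_dvd_of_pow_eq_one hk')
  exact ⟨j, hj⟩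

/-- the Levi torus elements -/
theorem levS_hx_mem_genSub (p : ℕ) [hp : Fact p.Prime] [CharP K p] (k l : Fin m) (hkl : k ≠ l)
    (c : K) (hc : c ≠ 0) : levS (hx k l hkl c) ∈ genSub p (US : Subgroup Sp) := by
  apply Subgroup.subset_closure
  refine ⟨?_, QS, centricIn_QS p, ?_⟩
  · have hinv : (Matrix.diagonal (fun s => if s = k then c else if s = l then c⁻¹ else 1) : Mm) *
        Matrix.diagonal (fun s => if s = k then c⁻¹ else if s = l then c else 1) = 1 := by
      rw [Matrix.diagonal_mul_diagonal, ← Matrix.diagonal_one]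
      congr 1
      funext s
      split_ifs <;> simp [hc]
    have e : levS (hx k l hkl c) = lev _ _ hinv := by
      unfold levS
      rw [lev_congr _ (hx_val k l hkl c hc) rfl]
      exact lev_eq_of_left _ _
    rw [e]
    exact lev_mem_normalizer_US _ _ _ (isUpper_diagonal _) (isUpper_diagonal _)
  · have h1 : ∀ (i j : Fin m) (hij : i ≠ j) (a : K),
        levS (rx i j hij a) ∈ pNormGen p (QS : Subgroup Sp) := by
      intro i j hij a
      apply Subgroup.subset_closure
      refine ⟨lev_mem_normalizer_QS _ _ _, exists_orderOf_of_pow p _ ?_⟩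
      rw [← levHom_apply, ← map_pow, rx_pow_char p, map_one]
    unfold hx
    rw [levS_mul, levS_mul, levS_mul]
    exact Subgroup.mul_mem _ (Subgroup.mul_mem _ (Subgroup.mul_mem _ (h1 _ _ _ _) (h1 _ _ _ _))
      (h1 _ _ _ _)) (h1 _ _ _ _)

/-- the long root torus elements -/
theorem hl_mem_genSub (p : ℕ) [hp : Fact p.Prime] [CharP K p] (hm : 2 ≤ m) (l : Fin m)
    (hl' : ∀ i : Fin m, i ≤ l) (c : K) (hc : c ≠ 0) :
    hl l c hc ∈ genSub p (US : Subgroup Sp) := by
  apply Subgroup.subset_closure
  refine ⟨?_, RS l hl', centricIn_RS p hm l hl', ?_⟩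
  · unfold hl
    have e1 : (1 + single l l (c - 1) : Mm) = Matrix.diagonal (fun s => if s = l then c else 1) := by
      ext s t
      rw [Matrix.add_apply, Matrix.one_apply, single_apply, Matrix.diagonal_apply]
      by_cases hst : s = t
      · by_cases hs : s = l
        · rw [if_pos hst, if_pos ⟨hs.symm, by rw [← hst, hs]⟩, if_pos hst, if_pos hs]
          ring
        · rw [if_pos hst, if_neg (fun h => hs h.1.symm), if_pos hst, if_neg hs, add_zero]
      · rw [if_neg hst, if_neg hst, zero_add, if_neg]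
        rintro ⟨h1, h2⟩
        exact hst (h1.symm.trans h2)
    have e2 : (1 + single l l (c⁻¹ - 1) : Mm) =
        Matrix.diagonal (fun s => if s = l then c⁻¹ else 1) := by
      ext s t
      rw [Matrix.add_apply, Matrix.one_apply, single_apply, Matrix.diagonal_apply]
      by_cases hst : s = t
      · by_cases hs : s = l
        · rw [if_pos hst, if_pos ⟨hs.symm, by rw [← hst, hs]⟩, if_pos hst, if_pos hs]
          ring
        · rw [if_pos hst, if_neg (fun h => hs h.1.symm), if_pos hst, if_neg hs, add_zero]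
      · rw [if_neg hst, if_neg hst, zero_add, if_neg]
        rintro ⟨h1, h2⟩
        exact hst (h1.symm.trans h2)
    apply lev_mem_normalizer_US
    · rw [e1]; exact isUpper_diagonal _
    · rw [e2]; exact isUpper_diagonal _
  · have h1 : ∀ a : K, xp l a ∈ pNormGen p (RS l hl' : Subgroup Sp) := by
      intro a
      apply Subgroup.subset_closure
      exact ⟨xp_mem_normalizer_RS l hl' a, exists_orderOf_of_pow p _ (sie_pow_char p _ _)⟩
    have h2 : ∀ a : K, xn l a ∈ pNormGen p (RS l hl' : Subgroup Sp) := by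
      intro a
      apply Subgroup.subset_closure
      exact ⟨xn_mem_normalizer_RS l hl' a, exists_orderOf_of_pow p _ (sieN_pow_char p _ _)⟩
    rw [hl_eq]
    exact Subgroup.mul_mem _ (Subgroup.mul_mem _ (Subgroup.mul_mem _ (h2 _) (h1 _)) (h2 _)) (h1 _)

/-- block upper triangular elements lie in `genSub` -/
theorem mem_genSub_of_upper (p : ℕ) [hp : Fact p.Prime] [CharP K p] (hm : 2 ≤ m) :
    ∀ d k : ℕ, k + d = m → ∀ g : Sp, gC g = 0 → IsUpper (gA g) →
      (∀ s : Fin m, s.val < k → gA g s s = 1) → g ∈ genSub p (US : Subgroup Sp) := by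
  intro d
  induction d with
  | zero =>
    intro k hk g hC hA hd
    apply US_le_genSub p
    exact ⟨hC, isUT_of_isUpper hA (fun i => hd i (by have := i.2; omega))⟩
  | succ d ih =>
    intro k hk g hC hA hd
    obtain ⟨a, ha⟩ : ∃ a : Fin m, a.val = k := ⟨⟨k, by omega⟩, rfl⟩
    obtain ⟨c, hc⟩ : ∃ c : K, c = gA g a a := ⟨_, rfl⟩
    have hc0 : c ≠ 0 := by
      have hdet : (gA g).det * ((gD g)ᵀ).det = 1 := by
        rw [← Matrix.det_mul, gA_mul_gD_of_gC hC, Matrix.det_one]
      have hdet2 : (gA g).det = ∏ s, gA g s s :=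
        Matrix.det_of_isUpperTriangular (fun i j hij => hA i j hij)
      have h1 : (gA g).det ≠ 0 := left_ne_zero_of_mul_eq_one hdet
      rw [hdet2] at h1
      rw [hc]
      exact Finset.prod_ne_zero_iff.mp h1 a (Finset.mem_univ a)
    have hci0 : c⁻¹ ≠ 0 := inv_ne_zero hc0
    by_cases hk1 : k + 1 < m
    · obtain ⟨b, hb⟩ : ∃ b : Fin m, b.val = k + 1 := ⟨⟨k + 1, hk1⟩, rfl⟩
      have hab : a ≠ b := by
        intro h
        rw [h] at ha
        omega
      have ht := levS_hx_mem_genSub p a b hab c⁻¹ hci0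
      have hAmul : gA (levS (hx a b hab c⁻¹) * g) = Matrix.diagonal
          (fun s => if s = a then c⁻¹ else if s = b then c⁻¹⁻¹ else 1) * gA g := by
        rw [gA_mul, gA_levS, gB_levS, Matrix.zero_mul, add_zero, hx_val a b hab c⁻¹ hci0]
      have hg' : levS (hx a b hab c⁻¹) * g ∈ genSub p (US : Subgroup Sp) := by
        apply ih (k + 1) (by omega)
        · rw [gC_mul, gC_levS, hC, Matrix.zero_mul, Matrix.mul_zero, add_zero]
        · intro s t hst
          rw [hAmul, Matrix.diagonal_mul, hA s t hst, mul_zero]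
        · intro s hs
          rw [hAmul, Matrix.diagonal_mul]
          by_cases hsa : s = a
          · rw [hsa, if_pos rfl, ← hc, inv_mul_cancel₀ hc0]
          · have hsb : s ≠ b := by
              intro h
              rw [h] at hs
              omega
            rw [if_neg hsa, if_neg hsb, one_mul]
            apply hd
            have : s.val ≠ a.val := fun h => hsa (Fin.ext h)
            omega
      have : g = (levS (hx a b hab c⁻¹))⁻¹ * (levS (hx a b hab c⁻¹) * g) := by group
      rw [this]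
      exact Subgroup.mul_mem _ (Subgroup.inv_mem _ ht) hg'
    · have hl' : ∀ i : Fin m, i ≤ a := by
        intro i
        rw [Fin.le_def]
        have := i.2
        omega
      have ht := hl_mem_genSub p hm a hl' c⁻¹ hci0
      have hAmul : gA (hl a c⁻¹ hci0 * g) = gA g + single a a (c⁻¹ - 1) * gA g := by
        unfold hl
        rw [gA_mul, gA_lev, gB_lev, Matrix.zero_mul, add_zero, Matrix.add_mul, Matrix.one_mul]
      have hg' : hl a c⁻¹ hci0 * g ∈ genSub p (US : Subgroup Sp) := by
        apply ih (k + 1) (by omega)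
        · unfold hl
          rw [gC_mul, gC_lev, hC, Matrix.zero_mul, Matrix.mul_zero, add_zero]
        · intro s t hst
          rw [hAmul, Matrix.add_apply, hA s t hst, zero_add]
          by_cases hsa : s = a
          · rw [hsa, SpC.single_mul_apply_same, ← hsa, hA s t hst, mul_zero]
          · rw [SpC.single_mul_apply_of_ne _ _ _ _ _ hsa]
        · intro s hs
          rw [hAmul, Matrix.add_apply]
          by_cases hsa : s = a
          · rw [hsa, SpC.single_mul_apply_same, ← hc]
            field_simp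
            ring
          · rw [SpC.single_mul_apply_of_ne _ _ _ _ _ hsa, add_zero]
            apply hd
            have : s.val ≠ a.val := fun h => hsa (Fin.ext h)
            omega
      have : g = (hl a c⁻¹ hci0)⁻¹ * (hl a c⁻¹ hci0 * g) := by group
      rw [this]
      exact Subgroup.mul_mem _ (Subgroup.inv_mem _ ht) hg'

/-- the certificate for `Sp₂ₘ(K)` -/
theorem cert2_US (p : ℕ) [hp : Fact p.Prime] [CharP K p] (hm : 2 ≤ m)
    (hex : m = 2 → ∃ t : K, t ≠ 0 ∧ t ≠ 1) : Cert2 p (US : Subgroup Sp) := by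
  refine ⟨card_US_eq p, ?_, sc_US p hm hex, ?_⟩
  · intro h
    have h1 : sie (single (⟨0, by omega⟩ : Fin m) ⟨0, by omega⟩ (1 : K)) (isSymm_single _ _) ∈
        (US : Subgroup Sp) := QS_le_US (sie_mem_QS _ _)
    rw [h, Subgroup.mem_bot, ← sie_zero] at h1
    have h2 := congrFun (congrFun (sie_injective h1) ⟨0, by omega⟩) ⟨0, by omega⟩
    rw [single_apply, if_pos ⟨rfl, rfl⟩, Matrix.zero_apply] at h2
    exact one_ne_zero h2
  · intro g hg
    obtain ⟨hC, hA⟩ := of_mem_normalizer_US hg
    exact ⟨g, mem_genSub_of_upper p hm m 0 (by omega) g hC hA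
      (fun s hs => absurd hs (Nat.not_lt_zero _)), fun x _ => rfl⟩

end finite

end Cfsg.Agent.H9.SpE
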