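import Cfsg.Agent.H9.SpE

/-!
# The `p`-fusion system of `PSp₂ₘ(K)`: passage to the central quotient
-/

set_option autoImplicit false
set_option linter.unusedSimpArgs false
set_option linter.unusedVariables false
set_option linter.style.haveILetI false

namespace Cfsg.Agent.H9.SpF

open Matrix Cfsg Cfsg.Agent.H9.SpA Cfsg.Agent.H9.SpB Cfsg.Agent.H9.SpC Cfsg.Agent.H9.SpD
open Cfsg.Agent.H9.SpE Cfsg.Agent.H9.GfsSimple3

variable {m : ℕ} {K : Type*} [Field K]

local notation "Sp" => SpG m K
local notation "Mm" => Matrix (Fin m) (Fin m) K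

theorem exists_ne_zero_one [Fintype K] (h : 3 ≤ Fintype.card K) : ∃ t : K, t ≠ 0 ∧ t ≠ 1 := by
  classical
  by_contra hcon
  have hsub : (Finset.univ : Finset K) ⊆ {0, 1} := by
    intro t _
    by_contra ht
    apply hcon
    refine ⟨t, ?_, ?_⟩
    · intro h0
      apply ht
      rw [h0]
      simp
    · intro h1
      apply ht
      rw [h1]
      simp
  have h1 := Finset.card_le_card hsub
  rw [Finset.card_univ] at h1
  have h2 : ({0, 1} : Finset K).card ≤ 2 := Finset.card_le_two
  omega

/-- the center of `Sp₂ₘ(K)` has order prime to the characteristic -/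
theorem coprime_card_center [Finite K] (p : ℕ) [hp : Fact p.Prime] [CharP K p] :
    (Nat.card (Subgroup.center Sp)).Coprime p := by
  have hpp : p.Prime := hp.out
  rw [Nat.coprime_comm, hpp.coprime_iff_not_dvd]
  intro h
  obtain ⟨x, hx⟩ := exists_prime_orderOf_dvd_card' p h
  have hxp : (x : Sp) ^ p ^ 1 = 1 := by
    rw [pow_one]
    have := pow_orderOf_eq_one x
    rw [hx] at this
    exact congrArg Subtype.val this
  have hcomm : ∀ y : Sp, (x : Sp) * y = y * x := fun y =>
    (Subgroup.mem_center_iff.mp x.2 y).symm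
  have hQ : (x : Sp) ∈ (QS : Subgroup Sp) :=
    mem_QS_of_commute p x.1 1 hxp (fun y _ => hcomm y)
  obtain ⟨B, hB, hxB⟩ := eq_sie_of_mem_QS hQ
  have hB0 : B = 0 := by
    ext i j
    have h1 := congrArg gA (hcomm (sieN (single j j 1) (isSymm_single j 1)))
    rw [hxB, gA_mul, gA_mul, gA_sie, gB_sie, gC_sie, gA_sieN, gB_sieN, gC_sieN, Matrix.mul_one,
      Matrix.zero_mul, add_zero] at h1
    have h2 : B * single j j 1 = 0 := add_eq_left.mp h1
    have h3 := congrFun (congrFun h2 i) j
    rw [SpC.mul_single_apply_same, mul_one] at h3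
    exact h3
  have hx1 : x = 1 := by
    apply Subtype.ext
    rw [hxB, Subgroup.coe_one, ← sie_zero]
    exact sie_congr _ hB0
  rw [hx1, orderOf_one] at hx
  exact hpp.one_lt.ne hx

/-- **the `p`-fusion system of `PSp₂ₘ(K)`, `char K = p`, is simple** -/
theorem fusion_simple [Fintype K] (p : ℕ) [hp : Fact p.Prime] [CharP K p] (hm : 2 ≤ m)
    (hex : m = 2 → 3 ≤ Fintype.card K) (S : Sylow p (Cfsg.PSp m K)) :
    (groupFusionSystem (S : Subgroup (Cfsg.PSp m K))).IsSimple p := by
  have hmap := Cert2.map p (QuotientGroup.mk' (Subgroup.center Sp))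
    (QuotientGroup.mk'_surjective _)
    (by rw [QuotientGroup.ker_mk'])
    (by rw [QuotientGroup.ker_mk']; exact coprime_card_center p) US
    (cert2_US p hm (fun h => exists_ne_zero_one (hex h)))
  exact isSimple_of_cert2 p _ hmap S

end Cfsg.Agent.H9.SpF
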