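import Mathlib
import Cfsg.Agent.S5645

set_option autoImplicit false

namespace Cfsg.Agent.H9.SpLag

open Cfsg Matrix Cfsg.Agent.Lib.Helper5.Symp Cfsg.Agent.S5645

variable {F : Type*} [Field F] (m : ℕ)

lemma GL_ext' (a b : GL (Fin m ⊕ Fin m) F)
    (h : ∀ x, (a : Matrix (Fin m ⊕ Fin m) (Fin m ⊕ Fin m) F) *ᵥ x =
      (b : Matrix (Fin m ⊕ Fin m) (Fin m ⊕ Fin m) F) *ᵥ x) : a = b := by
  apply Units.ext
  rw [Matrix.ext_iff_mulVec]
  exact h

lemma sympForm_eq_zero_symm {u v : Fin m ⊕ Fin m → F} (h : sympForm m F u v = 0) :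
    sympForm m F v u = 0 := by
  rw [sympForm_swap, h, neg_zero]

/-- symmetry of the Siegel element -/
lemma tau_symm (w z : Fin m ⊕ Fin m → F) (h : sympForm m F z w = 0) : tau m w z = tau m z w := by
  apply GL_ext'
  intro x
  rw [tau_mulVec m w z h, tau_mulVec m z w (sympForm_eq_zero_symm m h)]
  abel

/-- conjugation of a Siegel element by an isometry -/
lemma conj_tau (g : GL (Fin m ⊕ Fin m) F) (hg : g ∈ spGL m F) (w z : Fin m ⊕ Fin m → F) :
    g * tau m w z * g⁻¹ = tau m ((g : Matrix (Fin m ⊕ Fin m) (Fin m ⊕ Fin m) F) *ᵥ w)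
      ((g : Matrix (Fin m ⊕ Fin m) (Fin m ⊕ Fin m) F) *ᵥ z) := by
  unfold tau
  rw [← conj_T m g hg w, ← conj_T m g hg z, ← Matrix.mulVec_add, ← conj_T m g hg (w + z)]
  group

/-- the commutator formula for Siegel elements -/
lemma tau_mul_tau (a b c d : Fin m ⊕ Fin m → F) (h1 : sympForm m F a b = 0)
    (h2 : sympForm m F c d = 0) (h3 : sympForm m F a c = 0) (h4 : sympForm m F a d = 0)
    (h5 : sympForm m F b c = 0) :
    tau m a b * tau m c d = tau m (sympForm m F d b • a) c * tau m c d * tau m a b := by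
  have h1' := sympForm_eq_zero_symm m h1
  have h2' := sympForm_eq_zero_symm m h2
  have h3' := sympForm_eq_zero_symm m h3
  have h4' := sympForm_eq_zero_symm m h4
  have h5' := sympForm_eq_zero_symm m h5
  have h6 : sympForm m F b d = - sympForm m F d b := sympForm_swap m b d
  have h7 : sympForm m F c (sympForm m F d b • a) = 0 := by
    rw [sympForm_smul_right, h3', mul_zero]
  apply GL_ext'
  intro x
  rw [Units.val_mul, Units.val_mul, Units.val_mul, ← Matrix.mulVec_mulVec, ← Matrix.mulVec_mulVec,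
    ← Matrix.mulVec_mulVec, tau_mulVec m a b h1', tau_mulVec m c d h2', tau_mulVec m c d h2',
    tau_mulVec m a b h1', tau_mulVec m _ c h7]
  simp only [sympForm_add_left, sympForm_smul_left, sympForm_smul_right, h1, h2, h3, h4, h5, h1',
    h2', h3', h4', h5', h6, sympForm_self, mul_zero, add_zero, zero_add]
  module

/-- a Siegel element with proportional arguments is a transvection -/
lemma tau_smul_smul (a : Fin m ⊕ Fin m → F) (k n : F) :
    tau m (k • a) (n • a) = T m a (2 * k * n) := by
  have h : sympForm m F (n • a) (k • a) = 0 := by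
    rw [sympForm_smul_left, sympForm_smul_right, sympForm_self, mul_zero, mul_zero]
  apply GL_ext'
  intro x
  rw [tau_mulVec m _ _ h, T_mulVec]
  simp only [sympForm_smul_right]
  module

end Cfsg.Agent.H9.SpLag
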