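import Mathlib
import Cfsg.Agent.S5646
import Cfsg.Agent.H9.SpLagA

set_option autoImplicit false

namespace Cfsg.Agent.H9.SpLag

open Cfsg Matrix Cfsg.Agent.Lib.Helper5.Symp Cfsg.Agent.S5645 Cfsg.Agent.S5646

variable {F : Type*} [Field F] (m : ℕ)

/-- in a subspace of dimension at least five, two linear conditions leave a vector outside a
given plane -/
lemma exists_perp_not_plane (Y : Submodule F (Fin m ⊕ Fin m → F)) (hY : 5 ≤ Module.finrank F Y)
    (c d p q : Fin m ⊕ Fin m → F) :
    ∃ y ∈ Y, sympForm m F y c = 0 ∧ sympForm m F y d = 0 ∧ ∀ α β : F, y ≠ α • p + β • q := by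
  classical
  by_contra hcon
  push Not at hcon
  let φ : Y →ₗ[F] F × F :=
    (((Bl m).flip c).domRestrict Y).prod (((Bl m).flip d).domRestrict Y)
  have hφ : ∀ y : Y, φ y = (sympForm m F (y : Fin m ⊕ Fin m → F) c,
      sympForm m F (y : Fin m ⊕ Fin m → F) d) := fun y => rfl
  let L : F × F →ₗ[F] (Fin m ⊕ Fin m → F) :=
    { toFun := fun t => t.1 • p + t.2 • q
      map_add' := by
        intro s t
        simp only [Prod.fst_add, Prod.snd_add, add_smul]
        abel
      map_smul' := by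
        intro a t
        simp only [Prod.smul_fst, Prod.smul_snd, smul_eq_mul, mul_smul, RingHom.id_apply, smul_add] }
  have hL : ∀ t : F × F, L t = t.1 • p + t.2 • q := fun t => rfl
  have h1 : Module.finrank F (LinearMap.range φ) + Module.finrank F (LinearMap.ker φ) =
      Module.finrank F Y := LinearMap.finrank_range_add_finrank_ker φ
  have h2 : Module.finrank F (LinearMap.range φ) ≤ 2 := by
    have := Submodule.finrank_le (LinearMap.range φ)
    rw [Module.finrank_prod, Module.finrank_self] at this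
    exact this
  have h3 : Module.finrank F (LinearMap.range L) ≤ 2 := by
    have := LinearMap.finrank_range_le L
    rw [Module.finrank_prod, Module.finrank_self] at this
    exact this
  have h4 : (LinearMap.ker φ).map Y.subtype ≤ LinearMap.range L := by
    rintro y ⟨y', hy', rfl⟩
    have hy'2 : φ y' = 0 := hy'
    rw [hφ, Prod.mk_eq_zero] at hy'2
    obtain ⟨α, β, hαβ⟩ := hcon y'.1 y'.2 hy'2.1 hy'2.2
    exact ⟨(α, β), by rw [hL]; exact hαβ.symm⟩
  have h5 : Module.finrank F ((LinearMap.ker φ).map Y.subtype) = Module.finrank F (LinearMap.ker φ) :=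
    Submodule.finrank_map_subtype_eq Y (LinearMap.ker φ)
  have h6 := Submodule.finrank_mono h4
  omega

variable (U W : Submodule F (Fin m ⊕ Fin m → F))
variable (hU : Cfsg.Geo.IsTotallySingularFor (Cfsg.sympForm m F) U)
variable (hW : Cfsg.Geo.IsTotallySingularFor (Cfsg.sympForm m F) W)
variable (hsum : ∀ v : Fin m ⊕ Fin m → F, ∃ u ∈ U, ∃ w ∈ W, v = u + w)

include hU hsum in
/-- functionals on `U` are represented by vectors of `W` -/
lemma exists_dual (S : Submodule F (Fin m ⊕ Fin m → F)) (hS : S ≤ U) (x : Fin m ⊕ Fin m → F)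
    (hxU : x ∈ U) (hx : x ∉ S) :
    ∃ w ∈ W, (∀ s ∈ S, sympForm m F s w = 0) ∧ sympForm m F x w = 1 := by
  obtain ⟨φ, hφx, hφS⟩ := exists_functional' S x hx
  have key : ∀ z, sympForm m F z (-(J (Fin m) F *ᵥ φ)) = φ ⬝ᵥ z := by
    intro z
    unfold sympForm
    rw [Matrix.mulVec_neg, Matrix.mulVec_mulVec, J_squared, Matrix.neg_mulVec, neg_neg,
      Matrix.one_mulVec, dotProduct_comm]
  obtain ⟨yU, hyU, yW, hyW, hy⟩ := hsum (-(J (Fin m) F *ᵥ φ))
  have h1 : ∀ z ∈ U, sympForm m F z yW = φ ⬝ᵥ z := by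
    intro z hz
    rw [← key z, hy, sympForm_add_right, hU z hz yU hyU, zero_add]
  refine ⟨yW, hyW, fun s hs => ?_, ?_⟩
  · rw [h1 s (hS hs), hφS s hs]
  · rw [h1 x hxU, hφx]

variable (M : Subgroup (GL (Fin m ⊕ Fin m) F))
variable (hMS : M ≤ Cfsg.spGL m F)
variable (hM : ∀ a ∈ U, ∀ b ∈ W, sympForm m F a b = 0 → tau m a b ∈ M)

include hU hW hsum hM in
/-- the first transvection -/
lemma exists_mem_SS (h2 : (2 : F) ≠ 0) (hdim : 7 ≤ Module.finrank F U)
    (c d cU cW dU dW : Fin m ⊕ Fin m → F) (hcU : cU ∈ U) (hcW : cW ∈ W) (hc : c = cU + cW)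
    (hdU : dU ∈ U) (hdW : dW ∈ W) (hd : d = dU + dW)
    (hcd : sympForm m F c d = 0) (hτ : tau m c d ∈ M) (hcU0 : cU ≠ 0)
    (hind : ∀ α : F, dU ≠ α • cU) :
    ∃ a ∈ U, a ≠ 0 ∧ a ∈ SS m M := by
  obtain ⟨a, haU, hac, had, hane⟩ := exists_perp_not_plane m U (by omega) c d cU dU
  have ha0 : a ≠ 0 := by
    intro h
    apply hane 0 0
    rw [h, zero_smul, zero_smul, add_zero]
  -- the vector b
  have hS1 : Submodule.span F {a, cU} ≤ U := by
    rw [Submodule.span_le]
    rintro x (rfl | rfl)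
    · exact haU
    · exact hcU
  have hdS1 : dU ∉ Submodule.span F {a, cU} := by
    rw [Submodule.mem_span_pair]
    rintro ⟨α, β, hαβ⟩
    by_cases hα : α = 0
    · rw [hα, zero_smul, zero_add] at hαβ
      exact hind β hαβ.symm
    · apply hane (-(α⁻¹ * β)) α⁻¹
      rw [← hαβ, smul_add, smul_smul, smul_smul, inv_mul_cancel₀ hα, one_smul, neg_smul]
      abel
  obtain ⟨b, hbW, hbS, hb1⟩ := exists_dual m U W hU hsum _ hS1 dU hdU hdS1
  have hab : sympForm m F a b = 0 := hbS a (Submodule.subset_span (by simp))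
  have hcUb : sympForm m F cU b = 0 := hbS cU (Submodule.subset_span (by simp))
  -- the vector b₂
  have hS2 : Submodule.span F {a} ≤ U := by
    rw [Submodule.span_le]
    rintro x rfl
    exact haU
  have hcS2 : cU ∉ Submodule.span F {a} := by
    rw [Submodule.mem_span_singleton]
    rintro ⟨α, hα⟩
    have hα0 : α ≠ 0 := by
      rintro rfl
      rw [zero_smul] at hα
      exact hcU0 hα.symm
    apply hane α⁻¹ 0
    rw [← hα, smul_smul, inv_mul_cancel₀ hα0, one_smul, zero_smul, add_zero]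
  obtain ⟨b₂, hb₂W, hb₂S, hb₂1⟩ := exists_dual m U W hU hsum _ hS2 cU hcU hcS2
  have hab₂ : sympForm m F a b₂ = 0 := hb₂S a (Submodule.subset_span (by simp))
  have hcb : sympForm m F c b = 0 := by
    rw [hc, sympForm_add_left, hcUb, hW cW hcW b hbW, add_zero]
  have hdb : sympForm m F d b = 1 := by
    rw [hd, sympForm_add_left, hb1, hW dW hdW b hbW, add_zero]
  have hcb₂ : sympForm m F c b₂ = 1 := by
    rw [hc, sympForm_add_left, hb₂1, hW cW hcW b₂ hb₂W, add_zero]
  -- step 1
  have step1 : ∀ ν : F, tau m (ν • a) c ∈ M := by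
    intro ν
    have h1 : sympForm m F a (ν • b) = 0 := by rw [sympForm_smul_right, hab, mul_zero]
    have h5 : sympForm m F (ν • b) c = 0 := by
      rw [sympForm_smul_left, sympForm_swap, hcb, neg_zero, mul_zero]
    have hmem : tau m a (ν • b) ∈ M := hM a haU _ (W.smul_mem ν hbW) h1
    have key := tau_mul_tau m a (ν • b) c d h1 hcd hac had h5
    have hκ : sympForm m F d (ν • b) = ν := by rw [sympForm_smul_right, hdb, mul_one]
    rw [hκ] at key
    have : tau m (ν • a) c = tau m a (ν • b) * tau m c d * (tau m a (ν • b))⁻¹ * (tau m c d)⁻¹ := by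
      rw [key]; group
    rw [this]
    exact M.mul_mem (M.mul_mem (M.mul_mem hmem hτ) (M.inv_mem hmem)) (M.inv_mem hτ)
  -- step 2
  refine ⟨a, haU, ha0, fun l => ?_⟩
  set ν : F := l / 2 with hν
  have h2' : sympForm m F (ν • a) c = 0 := by rw [sympForm_smul_left, hac, mul_zero]
  have h3 : sympForm m F a (ν • a) = 0 := by rw [sympForm_smul_right, sympForm_self, mul_zero]
  have h5 : sympForm m F b₂ (ν • a) = 0 := by
    rw [sympForm_smul_right, sympForm_swap, hab₂, neg_zero, mul_zero]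
  have hmem : tau m a b₂ ∈ M := hM a haU b₂ hb₂W hab₂
  have key := tau_mul_tau m a b₂ (ν • a) c hab₂ h2' h3 hac h5
  rw [hcb₂, tau_smul_smul] at key
  have h4 : 2 * 1 * ν = l := by rw [hν]; field_simp
  rw [h4] at key
  have : T m a l = tau m a b₂ * tau m (ν • a) c * (tau m a b₂)⁻¹ * (tau m (ν • a) c)⁻¹ := by
    rw [key]; group
  rw [this]
  exact M.mul_mem (M.mul_mem (M.mul_mem hmem (step1 ν)) (M.inv_mem hmem)) (M.inv_mem (step1 ν))

include hU hsum hM hMS in
/-- propagation inside `U` -/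
lemma forall_mem_SS (a : Fin m ⊕ Fin m → F) (haU : a ∈ U) (ha0 : a ≠ 0) (ha : a ∈ SS m M) :
    ∀ a' ∈ U, a' ∈ SS m M := by
  intro a' ha'U
  by_cases h : ∃ α : F, a' = α • a
  · obtain ⟨α, rfl⟩ := h
    exact smul_mem_SS m M α a ha
  · push Not at h
    have huU : a' - a ∈ U := U.sub_mem ha'U haU
    have hS : Submodule.span F {a' - a} ≤ U := by
      rw [Submodule.span_le]
      rintro x rfl
      exact huU
    have haS : a ∉ Submodule.span F {a' - a} := by
      rw [Submodule.mem_span_singleton]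
      rintro ⟨α, hα⟩
      have hα0 : α ≠ 0 := by
        rintro rfl
        rw [zero_smul] at hα
        exact ha0 hα.symm
      apply h (α⁻¹ * (1 + α))
      have h1 : α • a' = (1 + α) • a := by
        rw [smul_sub] at hα
        rw [add_smul, one_smul]
        exact sub_eq_iff_eq_add.1 hα
      rw [← smul_smul, ← h1, smul_smul, inv_mul_cancel₀ hα0, one_smul]
    obtain ⟨w, hwW, hwS, hw1⟩ := exists_dual m U W hU hsum _ hS a haU haS
    have huw : sympForm m F (a' - a) w = 0 := hwS _ (Submodule.subset_span (by simp))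
    have hmem : tau m (a' - a) w ∈ M := hM _ huU w hwW huw
    have h1 := mulVec_mem_SS m M hMS _ hmem a ha
    rw [tau_mulVec m _ _ (sympForm_eq_zero_symm m huw), hw1, hU a haU _ huU, one_smul, zero_smul,
      add_zero, add_sub_cancel] at h1
    exact h1

include hU hW hsum hMS in
/-- `U` and `W` together give everything -/
lemma SS_eq_univ_of (hUS : ∀ u ∈ U, u ∈ SS m M) (hWS : ∀ w ∈ W, w ∈ SS m M)
    (x : Fin m ⊕ Fin m → F) : x ∈ SS m M := by
  obtain ⟨u, huU, w, hwW, rfl⟩ := hsum x
  by_cases hu : u = 0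
  · rw [hu, zero_add]; exact hWS w hwW
  by_cases huw : sympForm m F u w = 0
  · have hbot : (⊥ : Submodule F (Fin m ⊕ Fin m → F)) ≤ U := bot_le
    obtain ⟨w', hw'W, -, hw'1⟩ := exists_dual m U W hU hsum ⊥ hbot u huU (by simpa using hu)
    have h1 : u + (1 : F) • w' ∈ SS m M :=
      add_smul_mem_SS m M hMS u w' (hUS u huU) (hWS w' hw'W) (by rw [hw'1]; exact one_ne_zero) 1
    have h2 : (u + (1 : F) • w') + (1 : F) • (w - w') ∈ SS m M := by
      apply add_smul_mem_SS m M hMS _ _ h1 (hWS _ (W.sub_mem hwW hw'W))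
      rw [one_smul, sympForm_add_left, sympForm_sub_right, sympForm_sub_right, huw, hw'1,
        hW w' hw'W w hwW, hW w' hw'W w' hw'W]
      simp
    have e : (u + (1 : F) • w') + (1 : F) • (w - w') = u + w := by
      rw [one_smul, one_smul]; abel
    rw [e] at h2
    exact h2
  · have := add_smul_mem_SS m M hMS u w (hUS u huU) (hWS w hwW) huw 1
    rwa [one_smul] at this

end Cfsg.Agent.H9.SpLag
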