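import Mathlib
import Cfsg.Agent.S5646
import Cfsg.Agent.H9.SpLagB

set_option autoImplicit false

namespace Cfsg.Agent.H9.SpLag

open Cfsg Matrix Cfsg.Agent.Lib.Helper5.Symp Cfsg.Agent.S5645 Cfsg.Agent.S5646

variable {F : Type*} [Field F] (m : ℕ)

lemma toLin'_inj (g : GL (Fin m ⊕ Fin m) F) :
    Function.Injective (Matrix.toLin' (g : Matrix (Fin m ⊕ Fin m) (Fin m ⊕ Fin m) F)) := by
  intro x y hxy
  rw [Matrix.toLin'_apply, Matrix.toLin'_apply] at hxy
  have := congrArg (fun z => ((g⁻¹ : GL (Fin m ⊕ Fin m) F) :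
    Matrix (Fin m ⊕ Fin m) (Fin m ⊕ Fin m) F) *ᵥ z) hxy
  simpa [Cfsg.Agent.S5645.inv_mulVec_mulVec] using this

lemma finrank_map_GL (g : GL (Fin m ⊕ Fin m) F) (A : Submodule F (Fin m ⊕ Fin m → F)) :
    Module.finrank F (A.map (Matrix.toLin' (g : Matrix (Fin m ⊕ Fin m) (Fin m ⊕ Fin m) F))) =
      Module.finrank F A :=
  (LinearEquiv.finrank_eq (Submodule.equivMapOfInjective _ (toLin'_inj m g) A)).symm

lemma map_eq_of_forall' (g : GL (Fin m ⊕ Fin m) F) (A B : Submodule F (Fin m ⊕ Fin m → F))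
    (hAB : Module.finrank F A = Module.finrank F B)
    (h : ∀ x ∈ A, (g : Matrix (Fin m ⊕ Fin m) (Fin m ⊕ Fin m) F) *ᵥ x ∈ B) :
    A.map (Matrix.toLin' (g : Matrix (Fin m ⊕ Fin m) (Fin m ⊕ Fin m) F)) = B := by
  apply Submodule.eq_of_le_of_finrank_eq
  · rintro _ ⟨x, hx, rfl⟩
    rw [Matrix.toLin'_apply]; exact h x hx
  · rw [finrank_map_GL, hAB]

variable (D : Fin 2 → Submodule F (Fin m ⊕ Fin m → F))
variable (hD : Cfsg.Geo.IsMDecomposition m D)
variable (hts : ∀ i, Cfsg.Geo.IsTotallySingularFor (Cfsg.sympForm m F) (D i))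

include hD in
lemma exists_sum (v : Fin m ⊕ Fin m → F) : ∃ u ∈ D 0, ∃ w ∈ D 1, v = u + w := by
  have h1 : D 0 ⊔ D 1 = ⊤ := by
    apply le_antisymm le_top
    rw [← hD.iSup_eq_top]
    apply iSup_le
    intro i
    fin_cases i
    · exact le_sup_left
    · exact le_sup_right
  have h2 : v ∈ D 0 ⊔ D 1 := by rw [h1]; trivial
  obtain ⟨u, hu, w, hw, huw⟩ := Submodule.mem_sup.1 h2
  exact ⟨u, hu, w, hw, huw.symm⟩

include hD in
lemma exists_sum' (v : Fin m ⊕ Fin m → F) : ∃ w ∈ D 1, ∃ u ∈ D 0, v = w + u := by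
  obtain ⟨u, hu, w, hw, h⟩ := exists_sum m D hD v
  exact ⟨w, hw, u, hu, by rw [h, add_comm]⟩

include hD in
lemma eq_zero_of_mem (x : Fin m ⊕ Fin m → F) (h0 : x ∈ D 0) (h1 : x ∈ D 1) : x = 0 := by
  have h := hD.indep.pairwiseDisjoint (show (0 : Fin 2) ≠ 1 by decide)
  exact (Submodule.disjoint_def.1 h) x h0 h1

include hD in
lemma mem_stab_of_forall (g : GL (Fin m ⊕ Fin m) F) (σ : Equiv.Perm (Fin 2))
    (h : ∀ i, ∀ x ∈ D i, (g : Matrix (Fin m ⊕ Fin m) (Fin m ⊕ Fin m) F) *ᵥ x ∈ D (σ i)) :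
    g ∈ Cfsg.Geo.decompositionStabilizer D := by
  refine ⟨σ, fun i => ?_⟩
  apply map_eq_of_forall' m g
  · rw [hD.finrank_eq, hD.finrank_eq]
  · exact h i

include hD hts in
/-- the Siegel elements attached to a pair from different members stabilise the decomposition -/
lemma tau_mem_stab' (i j : Fin 2) (hij : i ≠ j) (a b : Fin m ⊕ Fin m → F) (ha : a ∈ D i)
    (hb : b ∈ D j) (hab : sympForm m F a b = 0) :
    tau m a b ∈ Cfsg.Geo.decompositionStabilizer D ⊓ Cfsg.spGL m F := by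
  refine ⟨?_, tau_mem_spGL m a b⟩
  apply mem_stab_of_forall m D hD _ 1
  intro k x hx
  rw [tau_mulVec m a b (sympForm_eq_zero_symm m hab), Equiv.Perm.one_apply]
  have hk : k = i ∨ k = j := by
    fin_cases i <;> fin_cases j <;> fin_cases k <;> simp_all
  rcases hk with rfl | rfl
  · rw [hts k x hx a ha, zero_smul, add_zero]
    exact (D k).add_mem hx ((D k).smul_mem _ ha)
  · rw [hts k x hx b hb, zero_smul, add_zero]
    exact (D k).add_mem hx ((D k).smul_mem _ hb)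

end Cfsg.Agent.H9.SpLag
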