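import Mathlib
import Cfsg.Agent.S5646
import Cfsg.Agent.H9.SpLagC

set_option autoImplicit false

namespace Cfsg.Agent.H9.SpLag

open Cfsg Matrix Cfsg.Agent.Lib.Helper5.Symp Cfsg.Agent.S5645 Cfsg.Agent.S5646

variable {F : Type*} [Field F] (m : ℕ)
variable (D : Fin 2 → Submodule F (Fin m ⊕ Fin m → F))
variable (hD : Cfsg.Geo.IsMDecomposition m D)
variable (hts : ∀ i, Cfsg.Geo.IsTotallySingularFor (Cfsg.sympForm m F) (D i))

include hD hts in
/-- dual bases of the two members -/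
lemma exists_dual_bases : ∃ (bU : Module.Basis (Fin m) F (D 0)) (bW : Module.Basis (Fin m) F (D 1)),
    ∀ i j, sympForm m F (bU i : Fin m ⊕ Fin m → F) (bW j : Fin m ⊕ Fin m → F) =
      if i = j then 1 else 0 := by
  classical
  let bU : Module.Basis (Fin m) F (D 0) := Module.finBasisOfFinrankEq F (D 0) (hD.finrank_eq 0)
  let Φ : D 1 →ₗ[F] (Fin m → F) :=
    LinearMap.pi (fun i => ((Bl m) (bU i : Fin m ⊕ Fin m → F)).domRestrict (D 1))
  have hΦ : ∀ (w : D 1) i, Φ w i = sympForm m F (bU i : Fin m ⊕ Fin m → F) (w : Fin m ⊕ Fin m → F) :=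
    fun w i => rfl
  have hinj : Function.Injective Φ := by
    rw [← LinearMap.ker_eq_bot, Submodule.eq_bot_iff]
    intro w hw
    rw [LinearMap.mem_ker] at hw
    have h1 : ∀ u : D 0, sympForm m F (u : Fin m ⊕ Fin m → F) (w : Fin m ⊕ Fin m → F) = 0 := by
      intro u
      have h2 : ((Bl m).flip (w : Fin m ⊕ Fin m → F)).domRestrict (D 0) = 0 := by
        apply bU.ext
        intro i
        have := congrFun hw i
        rw [hΦ] at this
        exact this
      exact congrArg (fun f => f u) h2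
    by_contra hw0
    have hw0' : (w : Fin m ⊕ Fin m → F) ≠ 0 := fun h => hw0 (Subtype.ext h)
    obtain ⟨y, hy⟩ := exists_sympForm_ne_zero m hw0'
    obtain ⟨u, hu, w', hw', rfl⟩ := exists_sum m D hD y
    apply hy
    rw [sympForm_add_right, sympForm_swap, h1 ⟨u, hu⟩, hts 1 w w.2 w' hw', neg_zero, add_zero]
  have hdim : Module.finrank F (D 1) = Module.finrank F (Fin m → F) := by
    rw [hD.finrank_eq, Module.finrank_fin_fun]
  let ΦE : D 1 ≃ₗ[F] (Fin m → F) := LinearMap.linearEquivOfInjective Φ hinj hdim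
  have hΦE : ∀ w, ΦE w = Φ w := fun w => rfl
  let bW : Module.Basis (Fin m) F (D 1) := (Pi.basisFun F (Fin m)).map ΦE.symm
  refine ⟨bU, bW, fun i j => ?_⟩
  rw [← hΦ, ← hΦE]
  change ΦE (ΦE.symm (Pi.basisFun F (Fin m) j)) i = _
  rw [LinearEquiv.apply_symm_apply, Pi.basisFun_apply, Pi.single_apply]

include hD hts in
/-- an isometry interchanging the two members -/
lemma exists_swap' : ∃ s : GL (Fin m ⊕ Fin m) F, s ∈ spGL m F ∧
    (∀ x ∈ D 0, (s : Matrix (Fin m ⊕ Fin m) (Fin m ⊕ Fin m) F) *ᵥ x ∈ D 1) ∧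
    (∀ x ∈ D 1, (s : Matrix (Fin m ⊕ Fin m) (Fin m ⊕ Fin m) F) *ᵥ x ∈ D 0) := by
  classical
  obtain ⟨bU, bW, hdual⟩ := exists_dual_bases m D hD hts
  have hc : IsCompl (D 0) (D 1) := by
    refine ⟨hD.indep.pairwiseDisjoint (show (0 : Fin 2) ≠ 1 by decide), ?_⟩
    rw [codisjoint_iff]
    apply le_antisymm le_top
    rw [← hD.iSup_eq_top]
    apply iSup_le
    intro i
    fin_cases i
    · exact le_sup_left
    · exact le_sup_right
  let CB : Module.Basis (Fin m ⊕ Fin m) F (Fin m ⊕ Fin m → F) :=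
    (bU.prod bW).map (Submodule.prodEquivOfIsCompl (D 0) (D 1) hc)
  have hCBl : ∀ i, CB (Sum.inl i) = (bU i : Fin m ⊕ Fin m → F) := by
    intro i
    simp [CB]
  have hCBr : ∀ i, CB (Sum.inr i) = (bW i : Fin m ⊕ Fin m → F) := by
    intro i
    simp [CB]
  let ψ : (Fin m ⊕ Fin m → F) →ₗ[F] (Fin m ⊕ Fin m → F) :=
    CB.constr F (Sum.elim (fun i => (bW i : Fin m ⊕ Fin m → F)) (fun i => -(bU i : Fin m ⊕ Fin m → F)))
  have hψl : ∀ i, ψ (bU i : Fin m ⊕ Fin m → F) = (bW i : Fin m ⊕ Fin m → F) := by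
    intro i
    rw [← hCBl, Module.Basis.constr_basis]
    rfl
  have hψr : ∀ i, ψ (bW i : Fin m ⊕ Fin m → F) = -(bU i : Fin m ⊕ Fin m → F) := by
    intro i
    rw [← hCBr, Module.Basis.constr_basis]
    rfl
  have hdual' : ∀ i j, sympForm m F (bW j : Fin m ⊕ Fin m → F) (bU i : Fin m ⊕ Fin m → F) =
      -(if i = j then 1 else 0) := by
    intro i j
    rw [sympForm_swap, hdual]
  have hiso : ∀ x y, sympForm m F (ψ x) (ψ y) = sympForm m F x y := by
    have h1 : (Bl m).compl₁₂ ψ ψ = Bl m := by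
      apply LinearMap.ext_basis CB CB
      intro r r'
      rw [LinearMap.compl₁₂_apply, Bl_apply, Bl_apply]
      rcases r with i | i <;> rcases r' with j | j
      · rw [hCBl, hCBl, hψl, hψl, hts 0 _ (bU i).2 _ (bU j).2, hts 1 _ (bW i).2 _ (bW j).2]
      · rw [hCBl, hCBr, hψl, hψr, sympForm_neg_right, hdual', hdual, neg_neg]
        simp only [eq_comm]
      · rw [hCBr, hCBl, hψr, hψl, sympForm_neg_left, hdual', hdual]
        simp only [eq_comm]
      · rw [hCBr, hCBr, hψr, hψr, sympForm_neg_left, sympForm_neg_right,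
          hts 0 _ (bU i).2 _ (bU j).2, hts 1 _ (bW i).2 _ (bW j).2]
        simp
    intro x y
    have h := congrArg (fun B => B x y) h1
    simpa [Bl_apply] using h
  have hA : LinearMap.toMatrix' ψ ∈ symplecticGroup (Fin m) F := by
    apply mem_of_sympForm m
    intro u v
    rw [LinearMap.toMatrix'_mulVec, LinearMap.toMatrix'_mulVec]
    exact hiso u v
  refine ⟨Matrix.GeneralLinearGroup.mk'' (LinearMap.toMatrix' ψ) (SymplecticGroup.symplectic_det hA),
    ?_, ?_, ?_⟩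
  · rw [mem_spGL_iff]
    intro u v
    change sympForm m F (LinearMap.toMatrix' ψ *ᵥ u) (LinearMap.toMatrix' ψ *ᵥ v) = _
    rw [LinearMap.toMatrix'_mulVec, LinearMap.toMatrix'_mulVec]
    exact hiso u v
  · intro x hx
    change LinearMap.toMatrix' ψ *ᵥ x ∈ D 1
    rw [LinearMap.toMatrix'_mulVec]
    have hx' : x = ∑ i, (bU.repr ⟨x, hx⟩ i) • (bU i : Fin m ⊕ Fin m → F) := by
      have h3 : ((∑ i, (bU.repr ⟨x, hx⟩) i • bU i : D 0) : Fin m ⊕ Fin m → F) = x :=
        congrArg Subtype.val (bU.sum_repr ⟨x, hx⟩)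
      refine h3.symm.trans ?_
      rw [Submodule.coe_sum]
      rfl
    rw [hx']
    simp only [map_sum, map_smul, hψl]
    exact Submodule.sum_mem _ (fun i _ => Submodule.smul_mem _ _ (bW i).2)
  · intro x hx
    change LinearMap.toMatrix' ψ *ᵥ x ∈ D 0
    rw [LinearMap.toMatrix'_mulVec]
    have hx' : x = ∑ i, (bW.repr ⟨x, hx⟩ i) • (bW i : Fin m ⊕ Fin m → F) := by
      have h3 : ((∑ i, (bW.repr ⟨x, hx⟩) i • bW i : D 1) : Fin m ⊕ Fin m → F) = x :=
        congrArg Subtype.val (bW.sum_repr ⟨x, hx⟩)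
      refine h3.symm.trans ?_
      rw [Submodule.coe_sum]
      rfl
    rw [hx']
    simp only [map_sum, map_smul, hψr]
    exact Submodule.sum_mem _ (fun i _ => Submodule.smul_mem _ _ (Submodule.neg_mem _ (bU i).2))

end Cfsg.Agent.H9.SpLag
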