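import Mathlib
import Cfsg.Agent.S5646
import Cfsg.Agent.H9.SpLagD

set_option autoImplicit false

namespace Cfsg.Agent.H9.SpLag

open Cfsg Matrix Cfsg.Agent.Lib.Helper5.Symp Cfsg.Agent.S5645 Cfsg.Agent.S5646

variable {F : Type*} [Field F] (m : ℕ)
variable (D : Fin 2 → Submodule F (Fin m ⊕ Fin m → F))
variable (hD : Cfsg.Geo.IsMDecomposition m D)
variable (hts : ∀ i, Cfsg.Geo.IsTotallySingularFor (Cfsg.sympForm m F) (D i))

include hD hts in
/-- the stabiliser is a proper subgroup -/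
lemma exists_notMem_stab : ∃ g ∈ spGL m F, g ∉ Cfsg.Geo.decompositionStabilizer D := by
  classical
  have hpos : 0 < Module.finrank F (D 1) := by rw [hD.finrank_eq]; exact hD.pos
  obtain ⟨w, hw0⟩ := (Module.finrank_pos_iff_exists_ne_zero (R := F) (M := D 1)).1 hpos
  have hw0' : (w : Fin m ⊕ Fin m → F) ≠ 0 := fun h => hw0 (Subtype.ext h)
  obtain ⟨x, hxU, -, hx1⟩ := exists_dual m (D 1) (D 0) (hts 1) (exists_sum' m D hD) ⊥ bot_le
    (w : Fin m ⊕ Fin m → F) w.2 (by simpa using hw0')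
  refine ⟨T m (w : Fin m ⊕ Fin m → F) 1, T_mem_spGL m _ _, ?_⟩
  rintro ⟨σ, hσ⟩
  have hTx : ((T m (w : Fin m ⊕ Fin m → F) 1 : GL (Fin m ⊕ Fin m) F) :
      Matrix (Fin m ⊕ Fin m) (Fin m ⊕ Fin m) F) *ᵥ x = x + (-1 : F) • (w : Fin m ⊕ Fin m → F) := by
    rw [T_mulVec, one_mul, sympForm_swap, hx1]
  have hTw : ((T m (w : Fin m ⊕ Fin m → F) 1 : GL (Fin m ⊕ Fin m) F) :
      Matrix (Fin m ⊕ Fin m) (Fin m ⊕ Fin m) F) *ᵥ (w : Fin m ⊕ Fin m → F) = w := by
    rw [T_mulVec, sympForm_self, mul_zero, zero_smul, add_zero]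
  have h0 : ((T m (w : Fin m ⊕ Fin m → F) 1 : GL (Fin m ⊕ Fin m) F) :
      Matrix (Fin m ⊕ Fin m) (Fin m ⊕ Fin m) F) *ᵥ x ∈ D (σ 0) := by
    rw [← hσ 0]
    exact ⟨x, hxU, by rw [Matrix.toLin'_apply]⟩
  have h1 : ((T m (w : Fin m ⊕ Fin m → F) 1 : GL (Fin m ⊕ Fin m) F) :
      Matrix (Fin m ⊕ Fin m) (Fin m ⊕ Fin m) F) *ᵥ (w : Fin m ⊕ Fin m → F) ∈ D (σ 1) := by
    rw [← hσ 1]
    exact ⟨w, w.2, by rw [Matrix.toLin'_apply]⟩
  rw [hTw] at h1
  rw [hTx] at h0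
  have hσ1 : σ 1 = 1 := by
    by_contra h
    have h' : σ 1 = 0 := by
      have : ∀ k : Fin 2, k ≠ 1 → k = 0 := by decide
      exact this _ h
    rw [h'] at h1
    exact hw0' (eq_zero_of_mem m D hD _ h1 w.2)
  have hσ0 : σ 0 = 0 := by
    by_contra h
    have h' : σ 0 = 1 := by
      have : ∀ k : Fin 2, k ≠ 0 → k = 1 := by decide
      exact this _ h
    have := σ.injective (h'.trans hσ1.symm)
    exact absurd this (by decide)
  rw [hσ0] at h0
  have h2 : (-1 : F) • (w : Fin m ⊕ Fin m → F) ∈ D 0 := by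
    have := (D 0).sub_mem h0 hxU
    rwa [add_sub_cancel_left] at this
  have h3 : (w : Fin m ⊕ Fin m → F) ∈ D 0 := by
    have := (D 0).smul_mem (-1 : F) h2
    rwa [smul_smul, neg_one_mul, neg_neg, one_smul] at this
  exact hw0' (eq_zero_of_mem m D hD _ h3 w.2)

/-- the core step: all transvections centred in `U` lie in `M` -/
lemma core (U W : Submodule F (Fin m ⊕ Fin m → F))
    (hU : Cfsg.Geo.IsTotallySingularFor (Cfsg.sympForm m F) U)
    (hW : Cfsg.Geo.IsTotallySingularFor (Cfsg.sympForm m F) W)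
    (hsum : ∀ v : Fin m ⊕ Fin m → F, ∃ u ∈ U, ∃ w ∈ W, v = u + w)
    (M : Subgroup (GL (Fin m ⊕ Fin m) F)) (hMS : M ≤ Cfsg.spGL m F)
    (hM : ∀ a ∈ U, ∀ b ∈ W, sympForm m F a b = 0 → tau m a b ∈ M)
    (h2 : (2 : F) ≠ 0) (hdim : 7 ≤ Module.finrank F U)
    (c d cU cW dU dW : Fin m ⊕ Fin m → F) (hcU : cU ∈ U) (hcW : cW ∈ W) (hc : c = cU + cW)
    (hdU : dU ∈ U) (hdW : dW ∈ W) (hd : d = dU + dW)
    (hcd : sympForm m F c d = 0) (hτ : tau m c d ∈ M) (hcU0 : cU ≠ 0)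
    (hind : ∀ α : F, dU ≠ α • cU) : ∀ u ∈ U, u ∈ SS m M := by
  obtain ⟨a, haU, ha0, ha⟩ := exists_mem_SS m U W hU hW hsum M hM h2 hdim c d cU cW dU dW hcU hcW hc
    hdU hdW hd hcd hτ hcU0 hind
  exact forall_mem_SS m U W hU hsum M hMS hM a haU ha0 ha

include hD hts in
theorem main (hm : 7 ≤ m) (h2 : (2 : F) ≠ 0) :
    Cfsg.Geo.IsMaximalIn (Cfsg.spGL m F) (Cfsg.Geo.decompositionStabilizer D ⊓ Cfsg.spGL m F) := by
  classical
  refine ⟨lt_of_le_of_ne inf_le_right ?_, fun M hHM hMS => ?_⟩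
  · intro h
    obtain ⟨g, hg, hg'⟩ := exists_notMem_stab m D hD hts
    rw [← h] at hg
    exact hg' hg.1
  by_cases hMH : M = Cfsg.Geo.decompositionStabilizer D ⊓ Cfsg.spGL m F
  · left; exact hMH
  right
  apply le_antisymm hMS
  apply spGL_le m M
  have hpair : ∀ i j : Fin 2, i ≠ j → ∀ a ∈ D i, ∀ b ∈ D j, sympForm m F a b = 0 → tau m a b ∈ M :=
    fun i j hij a ha b hb hab => hHM (tau_mem_stab' m D hD hts i j hij a b ha hb hab)
  obtain ⟨g, hgM, hgH⟩ := SetLike.exists_of_lt (lt_of_le_of_ne hHM (Ne.symm hMH))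
  have hgS : g ∈ spGL m F := hMS hgM
  have hgD : g ∉ Cfsg.Geo.decompositionStabilizer D := fun h => hgH ⟨h, hgS⟩
  have hfr : ∀ i j : Fin 2, Module.finrank F (D i) = Module.finrank F (D j) := fun i j => by
    rw [hD.finrank_eq, hD.finrank_eq]
  -- the swap
  obtain ⟨s, hsS, hs01, hs10⟩ := exists_swap' m D hD hts
  have hsM : s ∈ M := by
    apply hHM
    refine ⟨mem_stab_of_forall m D hD s (Equiv.swap 0 1) ?_, hsS⟩
    intro i x hx
    fin_cases i
    · simpa using hs01 x hx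
    · simpa using hs10 x hx
  have hswap01 : (∀ u ∈ D 0, u ∈ SS m M) → ∀ w ∈ D 1, w ∈ SS m M := by
    intro h w hw
    have e := map_eq_of_forall' m s (D 0) (D 1) (hfr 0 1) hs01
    rw [← e] at hw
    obtain ⟨u, hu, rfl⟩ := hw
    rw [Matrix.toLin'_apply]
    exact mulVec_mem_SS m M hMS s hsM u (h u hu)
  have hswap10 : (∀ u ∈ D 1, u ∈ SS m M) → ∀ w ∈ D 0, w ∈ SS m M := by
    intro h w hw
    have e := map_eq_of_forall' m s (D 1) (D 0) (hfr 1 0) hs10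
    rw [← e] at hw
    obtain ⟨u, hu, rfl⟩ := hw
    rw [Matrix.toLin'_apply]
    exact mulVec_mem_SS m M hMS s hsM u (h u hu)
  -- it suffices to treat one member
  suffices hone : (∀ u ∈ D 0, u ∈ SS m M) ∨ (∀ u ∈ D 1, u ∈ SS m M) by
    have h0 : ∀ u ∈ D 0, u ∈ SS m M := by
      rcases hone with h | h
      · exact h
      · exact hswap10 h
    have h1 : ∀ u ∈ D 1, u ∈ SS m M := hswap01 h0
    intro v c
    exact SS_eq_univ_of m (D 0) (D 1) (hts 0) (hts 1) (exists_sum m D hD) M hMS h0 h1 v c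
  -- a member not mapped to a member
  have hbad : ∃ i : Fin 2, ¬ ((∀ x ∈ D i, (g : Matrix (Fin m ⊕ Fin m) (Fin m ⊕ Fin m) F) *ᵥ x ∈ D 0) ∨
      (∀ x ∈ D i, (g : Matrix (Fin m ⊕ Fin m) (Fin m ⊕ Fin m) F) *ᵥ x ∈ D 1)) := by
    by_contra hcon
    push Not at hcon
    have h1 : ∀ i : Fin 2, ∃ k : Fin 2,
        ∀ x ∈ D i, (g : Matrix (Fin m ⊕ Fin m) (Fin m ⊕ Fin m) F) *ᵥ x ∈ D k := by
      intro i
      rcases hcon i with h | h
      · exact ⟨0, h⟩
      · exact ⟨1, h⟩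
    choose σ hσ using h1
    have hinj : Function.Injective σ := by
      intro i j hij
      by_contra hne
      have e1 := map_eq_of_forall' m g (D i) (D (σ i)) (hfr _ _) (hσ i)
      have e2 := map_eq_of_forall' m g (D j) (D (σ j)) (hfr _ _) (hσ j)
      rw [← hij] at e2
      have e3 : D i = D j :=
        Submodule.map_injective_of_injective (toLin'_inj m g) (e1.trans e2.symm)
      have hdis := hD.indep.pairwiseDisjoint hne
      rw [Function.onFun, e3] at hdis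
      have hbot : D j = ⊥ := disjoint_self.1 hdis
      have hfr' := hD.finrank_eq j
      rw [hbot, finrank_bot] at hfr'
      have := hD.pos
      omega
    have hbij : Function.Bijective σ := Finite.injective_iff_bijective.1 hinj
    exact hgD (mem_stab_of_forall m D hD g (Equiv.ofBijective σ hbij) (fun i x hx => hσ i x hx))
  obtain ⟨i, hi⟩ := hbad
  obtain ⟨c₀, hc₀, hc0, hc1⟩ : ∃ c₀ ∈ D i,
      (g : Matrix (Fin m ⊕ Fin m) (Fin m ⊕ Fin m) F) *ᵥ c₀ ∉ D 0 ∧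
      (g : Matrix (Fin m ⊕ Fin m) (Fin m ⊕ Fin m) F) *ᵥ c₀ ∉ D 1 := by
    by_contra hall
    push Not at hall
    apply hi
    apply union_lemma m (D 0) (D 1) (D i) (g : Matrix (Fin m ⊕ Fin m) (Fin m ⊕ Fin m) F)
    intro x hx
    by_cases h : (g : Matrix (Fin m ⊕ Fin m) (Fin m ⊕ Fin m) F) *ᵥ x ∈ D 0
    · left; exact h
    · right; exact hall x hx h
  obtain ⟨j, hij⟩ : ∃ j : Fin 2, i ≠ j := by
    fin_cases i
    · exact ⟨1, by decide⟩
    · exact ⟨0, by decide⟩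
  set c := (g : Matrix (Fin m ⊕ Fin m) (Fin m ⊕ Fin m) F) *ᵥ c₀ with hcdef
  obtain ⟨cU, hcU, cW, hcW, hc⟩ := exists_sum m D hD c
  have hcU0 : cU ≠ 0 := by
    rintro rfl
    rw [zero_add] at hc
    rw [hc] at hc1
    exact hc1 hcW
  have hcW0 : cW ≠ 0 := by
    rintro rfl
    rw [add_zero] at hc
    rw [hc] at hc0
    exact hc0 hcU
  obtain ⟨d, hdY, hdc, -, hdne⟩ := exists_perp_not_plane m
    ((D j).map (Matrix.toLin' (g : Matrix (Fin m ⊕ Fin m) (Fin m ⊕ Fin m) F)))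
    (by rw [finrank_map_GL, hD.finrank_eq]; omega) c c cU cW
  obtain ⟨d₀, hd₀, rfl⟩ := hdY
  rw [Matrix.toLin'_apply] at hdc hdne
  set d := (g : Matrix (Fin m ⊕ Fin m) (Fin m ⊕ Fin m) F) *ᵥ d₀ with hddef
  obtain ⟨dU, hdU, dW, hdW, hd⟩ := exists_sum m D hD d
  have hcd : sympForm m F c d = 0 := sympForm_eq_zero_symm m hdc
  have hτ : tau m c d ∈ M := by
    have h1 : sympForm m F c₀ d₀ = 0 := by
      rw [← (mem_spGL_iff m g).1 hgS c₀ d₀]
      exact hcd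
    have h3 := hpair i j hij c₀ hc₀ d₀ hd₀ h1
    rw [hcdef, hddef, ← conj_tau m g hgS]
    exact M.mul_mem (M.mul_mem hgM h3) (M.inv_mem hgM)
  have h7 : ∀ k : Fin 2, 7 ≤ Module.finrank F (D k) := fun k => by rw [hD.finrank_eq]; exact hm
  by_cases hcase : ∀ α : F, dU ≠ α • cU
  · left
    exact core m (D 0) (D 1) (hts 0) (hts 1) (exists_sum m D hD) M hMS (hpair 0 1 (by decide)) h2
      (h7 0) c d cU cW dU dW hcU hcW hc hdU hdW hd hcd hτ hcU0 hcase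
  · right
    push Not at hcase
    obtain ⟨α, hα⟩ := hcase
    have hcase' : ∀ β : F, dW ≠ β • cW := by
      intro β hβ
      apply hdne α β
      rw [hd, hα, hβ]
    exact core m (D 1) (D 0) (hts 1) (hts 0) (exists_sum' m D hD) M hMS (hpair 1 0 (by decide)) h2
      (h7 1) c d cW cU dW dU hcW hcU (by rw [hc, add_comm]) hdW hdU (by rw [hd, add_comm]) hcd hτ
      hcW0 hcase'

end Cfsg.Agent.H9.SpLag
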