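import Mathlib

set_option autoImplicit false

/-!
Square-zero endomorphisms: adapted bases, conjugacy by rank, determinants in the centraliser.
-/

namespace Cfsg.Agent.H9.SqZero

open Module

variable {F : Type*} [Field F] {V : Type*} [AddCommGroup V] [Module F V] [FiniteDimensional F V]

/-- index type of an adapted basis -/
abbrev Idx (ℓ d : ℕ) : Type := Fin ℓ ⊕ (Fin ℓ ⊕ Fin (d - 2 * ℓ))

theorem exists_adapted_basis (N : V →ₗ[F] V) (hN : ∀ x, N (N x) = 0) {ℓ d : ℕ}
    (hℓ : finrank F (LinearMap.range N) = ℓ) (hd : finrank F V = d) :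
    ∃ b : Basis (Idx ℓ d) F V, (∀ i, N (b (Sum.inl i)) = b (Sum.inr (Sum.inl i))) ∧
      (∀ i, N (b (Sum.inr (Sum.inl i))) = 0) ∧ (∀ k, N (b (Sum.inr (Sum.inr k))) = 0) := by
  set R := LinearMap.range N with hR
  set K := LinearMap.ker N with hK
  have hRK : R ≤ K := by
    rintro _ ⟨x, rfl⟩
    exact hN x
  have hrn : finrank F R + finrank F K = d := by
    rw [← hd]; exact LinearMap.finrank_range_add_finrank_ker N
  obtain ⟨W, hW⟩ := Submodule.exists_isCompl K
  have hWK : finrank F K + finrank F W = d := by
    rw [← hd]; exact Submodule.finrank_add_eq_of_isCompl hW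
  have hWℓ : finrank F W = ℓ := by omega
  obtain ⟨U, hU1, hU2⟩ := IsModularLattice.exists_disjoint_and_sup_eq hRK
  have hUd : finrank F U = d - 2 * ℓ := by
    have := Submodule.finrank_sup_add_finrank_inf_eq R U
    rw [hU2, hU1.eq_bot, finrank_bot, add_zero] at this
    omega
  have h2ℓ : 2 * ℓ ≤ d := by
    have := Submodule.finrank_mono hRK
    omega
  let bW := Module.finBasisOfFinrankEq F W hWℓ
  let bU := Module.finBasisOfFinrankEq F U hUd
  let w : Fin ℓ → V := fun i => (bW i : V)
  let u : Fin (d - 2 * ℓ) → V := fun k => (bU k : V)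
  have hw : LinearIndependent F w := bW.linearIndependent.map' W.subtype (Submodule.ker_subtype W)
  have hu : LinearIndependent F u := bU.linearIndependent.map' U.subtype (Submodule.ker_subtype U)
  have hws : Submodule.span F (Set.range w) = W := by
    have : Set.range w = W.subtype '' Set.range bW := by
      rw [← Set.range_comp]; rfl
    rw [this, Submodule.span_image, bW.span_eq, Submodule.map_top, Submodule.range_subtype]
  have hus : Submodule.span F (Set.range u) = U := by
    have : Set.range u = U.subtype '' Set.range bU := by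
      rw [← Set.range_comp]; rfl
    rw [this, Submodule.span_image, bU.span_eq, Submodule.map_top, Submodule.range_subtype]
  have hNw : LinearIndependent F (N ∘ w) := by
    apply hw.map
    rw [hws]
    exact hW.symm.disjoint
  have hNws : Submodule.span F (Set.range (N ∘ w)) = R := by
    rw [Set.range_comp, Submodule.span_image, hws]
    apply le_antisymm
    · exact LinearMap.map_le_range
    · rintro _ ⟨x, rfl⟩
      obtain ⟨k, hk, w', hw', rfl⟩ : ∃ k ∈ K, ∃ w' ∈ W, k + w' = x := by
        have : x ∈ K ⊔ W := by rw [hW.sup_eq_top]; trivial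
        exact Submodule.mem_sup.1 this
      refine ⟨w', hw', ?_⟩
      rw [map_add, LinearMap.mem_ker.1 hk, zero_add]
  have h1 : LinearIndependent F (Sum.elim (N ∘ w) u) := by
    apply LinearIndependent.sum_type hNw hu
    rw [hNws, hus]
    exact hU1
  have h1s : Submodule.span F (Set.range (Sum.elim (N ∘ w) u)) = K := by
    rw [Set.Sum.elim_range, Submodule.span_union, hNws, hus, hU2]
  have h2 : LinearIndependent F (Sum.elim w (Sum.elim (N ∘ w) u)) := by
    apply LinearIndependent.sum_type hw h1
    rw [hws, h1s]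
    exact hW.symm.disjoint
  have hcard : Fintype.card (Idx ℓ d) = finrank F V := by
    rw [hd]
    simp only [Fintype.card_sum, Fintype.card_fin]
    omega
  have hsp := h2.span_eq_top_of_card_eq_finrank' hcard
  let b : Basis (Idx ℓ d) F V := Basis.mk h2 (le_of_eq hsp.symm)
  have hb : ∀ j, b j = Sum.elim w (Sum.elim (N ∘ w) u) j := fun j => by
    rw [Basis.coe_mk]
  refine ⟨b, ?_, ?_, ?_⟩
  · intro i
    rw [hb, hb]
    rfl
  · intro i
    rw [hb]
    exact hN _
  · intro k
    rw [hb]
    have : u k ∈ K := by
      have h3 : u k ∈ U := (bU k).2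
      exact (hU2 ▸ (le_sup_right : U ≤ R ⊔ U)) h3
    exact LinearMap.mem_ker.1 this

/-- two square-zero maps of the same rank are conjugate. -/
theorem exists_equiv (N M : V →ₗ[F] V) (hN : ∀ x, N (N x) = 0) (hM : ∀ x, M (M x) = 0)
    (h : finrank F (LinearMap.range N) = finrank F (LinearMap.range M)) :
    ∃ g : V ≃ₗ[F] V, ∀ x, g (N x) = M (g x) := by
  obtain ⟨bN, h1, h2, h3⟩ := exists_adapted_basis N hN (rfl : finrank F (LinearMap.range N) = _)
    (rfl : finrank F V = _)
  obtain ⟨bM, h1', h2', h3'⟩ := exists_adapted_basis M hM h.symm (rfl : finrank F V = _)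
  refine ⟨bN.equiv bM (Equiv.refl _), ?_⟩
  have : (bN.equiv bM (Equiv.refl _)).toLinearMap ∘ₗ N = M ∘ₗ (bN.equiv bM (Equiv.refl _)).toLinearMap := by
    apply bN.ext
    intro j
    simp only [LinearMap.comp_apply, LinearEquiv.coe_coe]
    rcases j with i | i | k
    · rw [h1, Basis.equiv_apply, Basis.equiv_apply, Equiv.refl_apply, Equiv.refl_apply, h1']
    · rw [h2, map_zero, Basis.equiv_apply, Equiv.refl_apply, h2']
    · rw [h3, map_zero, Basis.equiv_apply, Equiv.refl_apply, h3']
  intro x
  exact LinearMap.congr_fun this x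

/-- a nonzero square-zero map commutes with maps of determinant any square. -/
theorem exists_commute_det (N : V →ₗ[F] V) (hN : ∀ x, N (N x) = 0) (hN0 : N ≠ 0) (ν : F) :
    ∃ c : V →ₗ[F] V, (∀ x, c (N x) = N (c x)) ∧ LinearMap.det c = ν ^ 2 := by
  classical
  obtain ⟨b, h1, h2, h3⟩ := exists_adapted_basis N hN (rfl : finrank F (LinearMap.range N) = _)
    (rfl : finrank F V = _)
  have hpos : 0 < finrank F (LinearMap.range N) := by
    rw [Module.finrank_pos_iff_exists_ne_zero]
    obtain ⟨x, hx⟩ : ∃ x, N x ≠ 0 := by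
      by_contra hcon
      push Not at hcon
      exact hN0 (LinearMap.ext hcon)
    exact ⟨⟨N x, ⟨x, rfl⟩⟩, fun h0 => hx (congrArg Subtype.val h0)⟩
  let i0 : Fin (finrank F (LinearMap.range N)) := ⟨0, hpos⟩
  let dd : Idx (finrank F (LinearMap.range N)) (finrank F V) → F := fun j =>
    match j with
    | Sum.inl i => if i = i0 then ν else 1
    | Sum.inr (Sum.inl i) => if i = i0 then ν else 1
    | Sum.inr (Sum.inr _) => 1
  let c : V →ₗ[F] V := Matrix.toLin b b (Matrix.diagonal dd)
  have hc : ∀ j, c (b j) = dd j • b j := by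
    intro j
    rw [Matrix.toLin_self, Finset.sum_eq_single j]
    · rw [Matrix.diagonal_apply_eq]
    · intro k _ hk
      rw [Matrix.diagonal_apply_ne _ hk, zero_smul]
    · intro h
      exact absurd (Finset.mem_univ _) h
  refine ⟨c, ?_, ?_⟩
  · have : c ∘ₗ N = N ∘ₗ c := by
      apply b.ext
      intro j
      simp only [LinearMap.comp_apply]
      rcases j with i | i | k
      · rw [h1, hc, hc, map_smul, h1]
      · rw [h2, map_zero, hc, map_smul, h2, smul_zero]
      · rw [h3, map_zero, hc, map_smul, h3, smul_zero]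
    intro x
    exact LinearMap.congr_fun this x
  · rw [LinearMap.det_toLin, Matrix.det_diagonal, Fintype.prod_sum_type, Fintype.prod_sum_type]
    have e1 : ∏ i : Fin (finrank F (LinearMap.range N)), dd (Sum.inl i) = ν := by
      rw [Finset.prod_eq_single i0]
      · simp [dd]
      · intro i _ hi
        simp [dd, hi]
      · intro h
        exact absurd (Finset.mem_univ _) h
    have e2 : ∏ i : Fin (finrank F (LinearMap.range N)), dd (Sum.inr (Sum.inl i)) = ν := by
      rw [Finset.prod_eq_single i0]
      · simp [dd]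
      · intro i _ hi
        simp [dd, hi]
      · intro h
        exact absurd (Finset.mem_univ _) h
    have e3 : ∏ k : Fin (finrank F V - 2 * finrank F (LinearMap.range N)),
        dd (Sum.inr (Sum.inr k)) = 1 := by
      apply Finset.prod_eq_one
      intro k _
      rfl
    rw [e1, e3, mul_one, pow_two]

end Cfsg.Agent.H9.SqZero
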