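import Mathlib
import Cfsg.Agent.H9.SqZero

set_option autoImplicit false

/-!
Involutions of `SL_n` over a finite field of characteristic two: conjugacy by rank (any `n`).
-/

namespace Cfsg.Agent.H9.SqZeroSL

open Module Matrix

theorem sq_zero {F : Type*} [Field F] [CharP F 2] {n : ℕ} (a : Matrix.SpecialLinearGroup (Fin n) F)
    (ha : orderOf a = 2) :
    ((a : Matrix (Fin n) (Fin n) F) - 1) * ((a : Matrix (Fin n) (Fin n) F) - 1) = 0 := by
  have h1 : a ^ 2 = 1 := by
    rw [← ha]; exact pow_orderOf_eq_one a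
  have h2 : (a : Matrix (Fin n) (Fin n) F) * (a : Matrix (Fin n) (Fin n) F) = 1 := by
    have := congrArg Subtype.val h1
    rw [pow_two] at this
    exact this
  have h3 : ∀ M : Matrix (Fin n) (Fin n) F, M + M = 0 := by
    intro M
    ext i j
    exact CharTwo.add_self_eq_zero _
  rw [Matrix.sub_mul, Matrix.mul_sub, Matrix.mul_sub, h2, Matrix.one_mul, Matrix.mul_one,
    Matrix.mul_one]
  have : (1 : Matrix (Fin n) (Fin n) F) - (a : Matrix (Fin n) (Fin n) F) -
      ((a : Matrix (Fin n) (Fin n) F) - 1) = (1 + 1) - ((a : Matrix (Fin n) (Fin n) F) + a) := by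
    abel
  rw [this, h3, h3, sub_zero]

theorem isConj_of_rank_eq {F : Type*} [Field F] [Finite F] [CharP F 2] {n : ℕ}
    (a b : Matrix.SpecialLinearGroup (Fin n) F) (ha : orderOf a = 2) (hb : orderOf b = 2)
    (h : ((a : Matrix (Fin n) (Fin n) F) - 1).rank = ((b : Matrix (Fin n) (Fin n) F) - 1).rank) :
    IsConj a b := by
  set Na := ((a : Matrix (Fin n) (Fin n) F) - 1).mulVecLin with hNa
  set Nb := ((b : Matrix (Fin n) (Fin n) F) - 1).mulVecLin with hNb
  have hNa2 : ∀ x, Na (Na x) = 0 := by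
    intro x
    rw [hNa, Matrix.mulVecLin_apply, Matrix.mulVecLin_apply, Matrix.mulVec_mulVec, sq_zero a ha,
      Matrix.zero_mulVec]
  have hNb2 : ∀ x, Nb (Nb x) = 0 := by
    intro x
    rw [hNb, Matrix.mulVecLin_apply, Matrix.mulVecLin_apply, Matrix.mulVec_mulVec, sq_zero b hb,
      Matrix.zero_mulVec]
  have hNa0 : Na ≠ 0 := by
    intro h0
    have h1 : (a : Matrix (Fin n) (Fin n) F) - 1 = 0 := by
      apply Matrix.toLin'.injective
      rw [map_zero, Matrix.toLin'_apply']
      exact h0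
    have h2 : a = 1 := by
      apply Subtype.ext
      exact sub_eq_zero.1 h1
    rw [h2, orderOf_one] at ha
    omega
  have hrk : finrank F (LinearMap.range Na) = finrank F (LinearMap.range Nb) := h
  obtain ⟨g, hg⟩ := Cfsg.Agent.H9.SqZero.exists_equiv Na Nb hNa2 hNb2 hrk
  have hδ : LinearMap.det g.toLinearMap ≠ 0 := (LinearEquiv.isUnit_det' g).ne_zero
  obtain ⟨ν, hν⟩ := FiniteField.isSquare_of_char_two (ringChar.eq F 2) (LinearMap.det g.toLinearMap)⁻¹
  obtain ⟨c, hc1, hc2⟩ := Cfsg.Agent.H9.SqZero.exists_commute_det Na hNa2 hNa0 ν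
  set hh : (Fin n → F) →ₗ[F] (Fin n → F) := g.toLinearMap ∘ₗ c with hhh
  have hdet : LinearMap.det hh = 1 := by
    rw [hhh, LinearMap.det_comp, hc2, pow_two, ← hν, mul_inv_cancel₀ hδ]
  have hcomm : ∀ x, hh (Na x) = Nb (hh x) := by
    intro x
    rw [hhh, LinearMap.comp_apply, LinearMap.comp_apply, hc1, LinearEquiv.coe_coe, hg]
  set H := LinearMap.toMatrix' hh with hH
  have hHdet : H.det = 1 := by
    rw [hH, LinearMap.det_toMatrix', hdet]
  have hHx : ∀ x, H *ᵥ x = hh x := fun x => LinearMap.toMatrix'_mulVec hh x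
  have hHN : H * ((a : Matrix (Fin n) (Fin n) F) - 1) = ((b : Matrix (Fin n) (Fin n) F) - 1) * H := by
    rw [Matrix.ext_iff_mulVec]
    intro x
    rw [← Matrix.mulVec_mulVec, ← Matrix.mulVec_mulVec, hHx, hHx]
    exact hcomm x
  have hHab : H * (a : Matrix (Fin n) (Fin n) F) = (b : Matrix (Fin n) (Fin n) F) * H := by
    rw [Matrix.mul_sub, Matrix.sub_mul, Matrix.mul_one, Matrix.one_mul] at hHN
    exact sub_left_injective hHN
  rw [isConj_iff]
  set HS : Matrix.SpecialLinearGroup (Fin n) F := ⟨H, hHdet⟩ with hHS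
  refine ⟨HS, ?_⟩
  rw [mul_inv_eq_iff_eq_mul]
  apply Subtype.ext
  exact hHab

/-- a square-zero matrix has rank at most half the size. -/
theorem two_mul_rank_le {F : Type*} [Field F] {n : ℕ} (N : Matrix (Fin n) (Fin n) F)
    (hN : N * N = 0) : 2 * N.rank ≤ n := by
  have h1 : LinearMap.range N.mulVecLin ≤ LinearMap.ker N.mulVecLin := by
    rintro _ ⟨x, rfl⟩
    rw [LinearMap.mem_ker, Matrix.mulVecLin_apply, Matrix.mulVecLin_apply, Matrix.mulVec_mulVec, hN,
      Matrix.zero_mulVec]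
  have h2 := Submodule.finrank_mono h1
  have h3 := LinearMap.finrank_range_add_finrank_ker N.mulVecLin
  rw [Module.finrank_fintype_fun_eq_card, Fintype.card_fin] at h3
  have h4 : N.rank = finrank F (LinearMap.range N.mulVecLin) := rfl
  omega

end Cfsg.Agent.H9.SqZeroSL
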