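import Mathlib
import Cfsg.Agent.H2.TwoByCyclic

set_option autoImplicit false

/-!
Recognition of the dihedral group of order 8 from elementwise data.
-/

namespace Cfsg.Agent.H9.SylowD8

open Cfsg.Agent.H2.TwoByCyclic

variable {G : Type*} [Group G]

lemma mem_zpowers_of_sq {z x : G} (hz2 : z * z = 1) (hx : x ∈ Subgroup.zpowers z) :
    x = 1 ∨ x = z := by
  obtain ⟨k, rfl⟩ := Subgroup.mem_zpowers_iff.1 hx
  have hz2' : z ^ (2 : ℤ) = 1 := by
    rw [show (2 : ℤ) = ((2 : ℕ) : ℤ) from rfl, zpow_natCast, pow_two, hz2]
  rcases Int.emod_two_eq_zero_or_one k with h | h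
  · left
    have : k = 2 * (k / 2) := by omega
    rw [this, zpow_mul, hz2', one_zpow]
  · right
    have : k = 2 * (k / 2) + 1 := by omega
    rw [this, zpow_add, zpow_mul, hz2', one_zpow, one_mul, zpow_one]

theorem d8_of_data [Finite G] (R : Subgroup G) (z y x : G)
    (hz2 : z * z = 1) (hz1 : z ≠ 1) (hzR : z ∈ R) (hzc : ∀ r ∈ R, z * r = r * z)
    (hsq : ∀ r ∈ R, r * r = 1 ∨ r * r = z)
    (hy : y ∈ R) (hy2 : y * y = 1) (hyz : y ≠ z) (hy1 : y ≠ 1)
    (hA : ∀ r ∈ R, r * y = y * r → r * r = 1)
    (hcen : ∀ b ∈ R, (∀ r ∈ R, b * r = r * b) → b * b = 1 → b = 1 ∨ b = z)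
    (hx : x ∈ R) (hxy : x * y ≠ y * x) : Nonempty (R ≃* DihedralGroup 4) := by
  have hzi : z⁻¹ = z := inv_eq_of_mul_eq_one_left hz2
  have hyi : y⁻¹ = y := inv_eq_of_mul_eq_one_left hy2
  -- commutators lie in `{1, z}`
  have comm2 : ∀ r ∈ R, ∀ s ∈ R, r * s = s * r ∨ r * s = z * (s * r) := by
    intro r hr s hs
    have e : r * s = (r * r) * ((r⁻¹ * s) * (r⁻¹ * s)) * (s * s)⁻¹ * (s * r) := by group
    have key : ∀ a b d : G, (a = 1 ∨ a = z) → (b = 1 ∨ b = z) → (d = 1 ∨ d = z) →
        (a * b * d⁻¹ = 1 ∨ a * b * d⁻¹ = z) := by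
      rintro a b d (rfl | rfl) (rfl | rfl) (rfl | rfl)
      · left; simp
      · right; simp [hzi]
      · right; simp
      · left; simp [hzi, hz2]
      · right; simp
      · left; simp [hzi, hz2]
      · left; simp [hz2]
      · right; simp [hzi, hz2]
    rcases key _ _ _ (hsq r hr) (hsq (r⁻¹ * s) (R.mul_mem (R.inv_mem hr) hs)) (hsq s hs)
      with h | h
    · left; rw [e, h, one_mul]
    · right; rw [e, h]
  -- an element of order four not commuting with `y`
  obtain ⟨c, hc, hcc, hcy⟩ : ∃ c ∈ R, c * c = z ∧ c * y ≠ y * c := by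
    rcases hsq x hx with h | h
    · refine ⟨x * y, R.mul_mem hx hy, ?_, ?_⟩
      · have h1 := (comm2 x hx y hy).resolve_left hxy
        have h2 : y * x = z * (x * y) := by
          rw [h1, ← mul_assoc, hz2, one_mul]
        calc x * y * (x * y) = x * (y * x) * y := by group
          _ = x * (z * (x * y)) * y := by rw [h2]
          _ = x * (z * x) * (y * y) := by group
          _ = x * (x * z) * (y * y) := by rw [hzc x hx]
          _ = (x * x) * z * (y * y) := by group
          _ = z := by rw [h, hy2, one_mul, mul_one]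
      · intro h'
        apply hxy
        have : x * y * y = y * (x * y) := h'
        rw [mul_assoc, hy2, mul_one] at this
        calc x * y = y * (x * y) * y := by rw [← this]
          _ = y * x * (y * y) := by group
          _ = y * x := by rw [hy2, mul_one]
    · exact ⟨x, hx, h, hxy⟩
  have hcy' : c * y = z * (y * c) := (comm2 c hc y hy).resolve_left hcy
  have hyc' : y * c = z * (c * y) := by rw [hcy', ← mul_assoc, hz2, one_mul]
  have hzcc : z * c = c * z := hzc c hc
  have hzy : z * y = y * z := hzc y hy
  have hc4 : c ^ 4 = 1 := by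
    have : c ^ 4 = (c * c) * (c * c) := by rw [show 4 = 2 + 2 from rfl, pow_add, pow_two]
    rw [this, hcc, hz2]
  have hc2 : c ^ 2 = z := by rw [pow_two, hcc]
  have hc3 : c ^ 3 = c * z := by
    have : c ^ 3 = c * (c * c) := by rw [pow_succ', pow_two]
    rw [this, hcc]
  have hci : c⁻¹ = c * z := by
    rw [inv_eq_iff_eq_inv, eq_comm, inv_eq_iff_mul_eq_one]
    calc c * z * c = c * (z * c) := by group
      _ = c * (c * z) := by rw [hzcc]
      _ = (c * c) * z := by group
      _ = 1 := by rw [hcc, hz2]
  -- the centralizer of `y` in `R`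
  have hAcomm : ∀ r ∈ R, r * y = y * r → ∀ s ∈ R, s * y = y * s → r * s = s * r := by
    intro r hr hry s hs hsy
    have h1 : (r * s) * y = y * (r * s) := by
      calc r * s * y = r * (s * y) := by group
        _ = r * (y * s) := by rw [hsy]
        _ = (r * y) * s := by group
        _ = y * r * s := by rw [hry]
        _ = y * (r * s) := by group
    have h2 := hA (r * s) (R.mul_mem hr hs) h1
    have hr2 := hA r hr hry
    have hs2 := hA s hs hsy
    symm
    calc s * r = (r * r) * (s * r) * (s * s) := by rw [hr2, hs2, one_mul, mul_one]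
      _ = r * (r * s * (r * s)) * s := by group
      _ = r * s := by rw [h2, mul_one]
  have hcr : ∀ r ∈ R, r * y = z * (y * r) → (c * r) * y = y * (c * r) := by
    intro r _ hry
    calc c * r * y = c * (r * y) := by group
      _ = c * (z * (y * r)) := by rw [hry]
      _ = (c * z) * y * r := by group
      _ = (z * c) * y * r := by rw [hzcc]
      _ = z * (c * y) * r := by group
      _ = z * (z * (y * c)) * r := by rw [hcy']
      _ = (z * z) * (y * c) * r := by group
      _ = y * (c * r) := by rw [hz2]; group
  have hA1 : ∀ s ∈ R, s * y = y * s → s * c = c * s → s = 1 ∨ s = z := by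
    intro s hs hsy hsc
    apply hcen s hs _ (hA s hs hsy)
    intro r hr
    rcases comm2 r hr y hy with h | h
    · exact hAcomm s hs hsy r hr h
    · have h1 := hAcomm s hs hsy (c * r) (R.mul_mem hc hr) (hcr r hr h)
      have h2 : c * (s * r) = c * (r * s) := by
        calc c * (s * r) = (c * s) * r := by group
          _ = (s * c) * r := by rw [hsc]
          _ = s * (c * r) := by group
          _ = c * r * s := h1
          _ = c * (r * s) := by group
      exact mul_left_cancel h2
  have hA4 : ∀ s ∈ R, s * y = y * s → s = 1 ∨ s = z ∨ s = y ∨ s = y * z := by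
    intro s hs hsy
    rcases comm2 s hs c hc with h | h
    · rcases hA1 s hs hsy h with h' | h'
      · exact Or.inl h'
      · exact Or.inr (Or.inl h')
    · have h1 : (y * s) * y = y * (y * s) := by rw [mul_assoc, hsy]
      have h2 : (y * s) * c = c * (y * s) := by
        calc y * s * c = y * (s * c) := by group
          _ = y * (z * (c * s)) := by rw [h]
          _ = (y * z) * c * s := by group
          _ = (z * y) * c * s := by rw [hzy]
          _ = z * (y * c) * s := by group
          _ = z * (z * (c * y)) * s := by rw [hyc']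
          _ = (z * z) * (c * y) * s := by group
          _ = c * (y * s) := by rw [hz2]; group
      rcases hA1 (y * s) (R.mul_mem hy hs) h1 h2 with h' | h'
      · right; right; left
        calc s = (y * y) * s := by rw [hy2, one_mul]
          _ = y * (y * s) := by group
          _ = y := by rw [h', mul_one]
      · right; right; right
        calc s = (y * y) * s := by rw [hy2, one_mul]
          _ = y * (y * s) := by group
          _ = y * z := by rw [h']
  have hmem0 : (1 : G) ∈ Subgroup.zpowers c := Subgroup.one_mem _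
  have hmem1 : c ∈ Subgroup.zpowers c := Subgroup.mem_zpowers c
  have hmem2 : z ∈ Subgroup.zpowers c := by rw [← hc2]; exact Subgroup.pow_mem _ hmem1 2
  have hmem3 : c * z ∈ Subgroup.zpowers c := by rw [← hc3]; exact Subgroup.pow_mem _ hmem1 3
  have hR8 : ∀ s ∈ R, s ∈ Subgroup.zpowers c ∨ ∃ w ∈ Subgroup.zpowers c, s = y * w := by
    intro s hs
    rcases comm2 s hs y hy with h | h
    · rcases hA4 s hs h with h' | h' | h' | h'
      · left; rw [h']; exact hmem0
      · left; rw [h']; exact hmem2
      · right; exact ⟨1, hmem0, by rw [h', mul_one]⟩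
      · right; exact ⟨z, hmem2, h'⟩
    · have h1 := hcr s hs h
      have hs' : s = (c * z) * (c * s) := by
        calc s = (c * c) * (c * c) * s := by rw [hcc, hz2, one_mul]
          _ = (c * (c * c)) * (c * s) := by group
          _ = (c * z) * (c * s) := by rw [hcc]
      rcases hA4 (c * s) (R.mul_mem hc hs) h1 with h' | h' | h' | h'
      · left; rw [hs', h', mul_one]; exact hmem3
      · left
        rw [hs', h', mul_assoc, hz2, mul_one]; exact hmem1
      · right
        refine ⟨c, hmem1, ?_⟩
        rw [hs', h']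
        calc c * z * y = (c * z) * y := rfl
          _ = (z * c) * y := by rw [hzcc]
          _ = z * (c * y) := by group
          _ = z * (z * (y * c)) := by rw [hcy']
          _ = (z * z) * (y * c) := by group
          _ = y * c := by rw [hz2, one_mul]
      · right
        refine ⟨c * z, hmem3, ?_⟩
        rw [hs', h']
        calc c * z * (y * z) = c * (z * y) * z := by group
          _ = c * (y * z) * z := by rw [hzy]
          _ = (c * y) * (z * z) := by group
          _ = z * (y * c) := by rw [hz2, mul_one, hcy']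
          _ = (z * y) * c := by group
          _ = (y * z) * c := by rw [hzy]
          _ = y * (z * c) := by group
          _ = y * (c * z) := by rw [hzcc]
  have hynot : y ∉ Subgroup.zpowers c := by
    intro hyc
    obtain ⟨k, hk⟩ := Subgroup.mem_zpowers_iff.1 hyc
    have hc4' : c ^ (4 : ℤ) = 1 := by
      rw [show (4 : ℤ) = ((4 : ℕ) : ℤ) from rfl, zpow_natCast, hc4]
    have hk' : c ^ (k % 4) = y := by
      have : k = 4 * (k / 4) + k % 4 := by omega
      rw [← hk]
      conv_rhs => rw [this, zpow_add, zpow_mul, hc4', one_zpow, one_mul]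
    have hlt : 0 ≤ k % 4 ∧ k % 4 < 4 := ⟨Int.emod_nonneg _ (by norm_num), Int.emod_lt_of_pos _ (by norm_num)⟩
    have hcases : k % 4 = 0 ∨ k % 4 = 1 ∨ k % 4 = 2 ∨ k % 4 = 3 := by omega
    rcases hcases with h | h | h | h <;> rw [h] at hk'
    · rw [zpow_zero] at hk'; exact hy1 hk'.symm
    · rw [zpow_one] at hk'
      rw [← hk', hcc] at hy2
      exact hz1 hy2
    · rw [show (2 : ℤ) = ((2 : ℕ) : ℤ) from rfl, zpow_natCast, hc2] at hk'
      exact hyz hk'.symm
    · rw [show (3 : ℤ) = ((3 : ℕ) : ℤ) from rfl, zpow_natCast, hc3] at hk'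
      rw [← hk'] at hy2
      have : c * z * (c * z) = z := by
        calc c * z * (c * z) = c * (z * c) * z := by group
          _ = c * (c * z) * z := by rw [hzcc]
          _ = (c * c) * (z * z) := by group
          _ = z := by rw [hcc, hz2, mul_one]
      rw [this] at hy2
      exact hz1 hy2
  have hinv : y * c * y⁻¹ = c⁻¹ := by
    rw [hyi, hci, hyc']
    calc z * (c * y) * y = z * c * (y * y) := by group
      _ = c * z := by rw [hy2, mul_one, hzcc]
  have hshape : DihShape R c y := ⟨hc, hy, hy2, hinv, hynot, hR8⟩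
  have hc1 : c ≠ 1 := by
    rintro rfl
    rw [one_mul] at hcc
    exact hz1 hcc.symm
  have hord : orderOf c = 4 := by
    have h2 : c ^ 2 ^ 1 ≠ 1 := by rw [pow_one, hc2]; exact hz1
    have h4 : c ^ 2 ^ (1 + 1) = 1 := by
      have : (2 : ℕ) ^ (1 + 1) = 4 := by norm_num
      rw [this]; exact hc4
    have := orderOf_eq_prime_pow h2 h4
    rw [this]
    norm_num
  have := hshape.equiv_dihedral hc1
  rw [hord] at this
  exact this

end Cfsg.Agent.H9.SylowD8
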