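import Mathlib
import Cfsg.Prelude.Def_Solvable
import Cfsg.Prelude.Def_TwoFusion
import Cfsg.Agent.Lib.Lead.ZStarCons4

set_option autoImplicit false

/-!
An involution `d` acting on a normal subgroup `K` of odd order such that all commutators
`[d, k]` have order dividing 3: the elements of `K` inverted by `d` lie in a `d`-invariant
Sylow 3-subgroup of `K`.
-/

namespace Cfsg.Agent.H9.TT3Width

open Cfsg Cfsg.Agent.ZStarCons

universe u

variable {G : Type u} [Group G] [Finite G]

/-- the elements of `K` inverted by `d` lie in a `d`-invariant 3-subgroup -/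
theorem exists_three_subgroup (d : G) (hd2 : d * d = 1) (K : Subgroup G)
    (hK : Odd (Nat.card K)) (hdK : ∀ x ∈ K, d * x * d⁻¹ ∈ K)
    (h3 : ∀ k ∈ K, (d * k * d⁻¹ * k⁻¹) ^ 3 = 1) :
    ∃ Q : Subgroup G, Q ≤ K ∧ IsPGroup 3 Q ∧ (∀ q ∈ Q, d * q * d⁻¹ ∈ Q) ∧
      ∀ x ∈ K, d * x * d⁻¹ = x⁻¹ → x ∈ Q := by
  classical
  set C := Subgroup.centralizer ({d} : Set G) with hC
  have hmemC : ∀ a : G, a ∈ C ↔ d * a * d⁻¹ = a := by
    intro a
    rw [hC, Subgroup.mem_centralizer_iff]
    simp only [Set.mem_singleton_iff, forall_eq]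
    constructor
    · intro h
      rw [h, mul_inv_cancel_right]
    · intro h
      nth_rewrite 2 [← h]
      group
  have hKpos : Nat.card K ≠ 0 := Nat.card_pos.ne'
  -- Sylow `p`-subgroups for `p ≠ 3` are centralized
  have hcentral : ∀ p : ℕ, p.Prime → p ≠ 3 →
      p ^ (Nat.card K).factorization p ∣ Nat.card (K ⊓ C : Subgroup G) := by
    intro p hp hp3
    have : Fact p.Prime := ⟨hp⟩
    obtain ⟨S, hSK, hScard, hSd⟩ := exists_invariant_sylow d hd2 K hK hdK p
    have hSp : IsPGroup p S := IsPGroup.of_card hScard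
    have hSC : S ≤ K ⊓ C := by
      intro s hs
      refine Subgroup.mem_inf.2 ⟨hSK hs, ?_⟩
      rw [hmemC]
      have hc : d * s * d⁻¹ * s⁻¹ ∈ S := S.mul_mem (hSd s hs) (S.inv_mem hs)
      have h1 : orderOf (d * s * d⁻¹ * s⁻¹) ∣ 3 := orderOf_dvd_of_pow_eq_one (h3 s (hSK hs))
      obtain ⟨j, hj⟩ := (IsPGroup.iff_orderOf.mp hSp) ⟨_, hc⟩
      rw [Subgroup.orderOf_mk] at hj
      have h2 : orderOf (d * s * d⁻¹ * s⁻¹) = 1 := by
        rcases (Nat.dvd_prime Nat.prime_three).1 h1 with h | h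
        · exact h
        · exfalso
          rw [h] at hj
          rcases Nat.eq_zero_or_pos j with rfl | hjpos
          · norm_num at hj
          · have : p ∣ 3 := by rw [hj]; exact dvd_pow_self p hjpos.ne'
            exact hp3 ((Nat.prime_dvd_prime_iff_eq hp Nat.prime_three).1 this)
      have h4 := orderOf_eq_one_iff.mp h2
      calc d * s * d⁻¹ = (d * s * d⁻¹ * s⁻¹) * s := by group
        _ = s := by rw [h4, one_mul]
    rw [← hScard]
    exact Subgroup.card_dvd_of_le hSC
  -- the index of the centralizer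
  set a := (K ⊓ C : Subgroup G).relIndex K with ha
  have hmul : Nat.card (K ⊓ C : Subgroup G) * a = Nat.card K :=
    card_mul_relIndex_of_le _ _ inf_le_left
  have hKC0 : Nat.card (K ⊓ C : Subgroup G) ≠ 0 := Nat.card_pos.ne'
  have ha0 : a ≠ 0 := by
    intro h
    rw [h, mul_zero] at hmul
    exact hKpos hmul.symm
  have hapow : a = 3 ^ a.primeFactorsList.length := by
    apply Nat.eq_prime_pow_of_unique_prime_dvd ha0
    intro p hp hpa
    by_contra hp3
    have h1 := hcentral p hp hp3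
    have h2 : p ^ ((Nat.card K).factorization p + 1) ∣ Nat.card K := by
      rw [pow_succ]
      nth_rewrite 2 [← hmul]
      exact Nat.mul_dvd_mul h1 hpa
    exact Nat.pow_succ_factorization_not_dvd hKpos hp h2
  set e := a.primeFactorsList.length with he
  -- the invariant Sylow 3-subgroup
  have : Fact (Nat.Prime 3) := ⟨Nat.prime_three⟩
  obtain ⟨Q, hQK, hQcard, hQd⟩ := exists_invariant_sylow d hd2 K hK hdK 3
  have hQp : IsPGroup 3 Q := IsPGroup.of_card hQcard
  have hQodd : Odd (Nat.card Q) := by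
    rw [hQcard]
    exact Odd.pow (by decide)
  refine ⟨Q, hQK, hQp, hQd, ?_⟩
  -- counting
  have hQC : Nat.card (Q ⊓ C : Subgroup G) ≤
      3 ^ (Nat.card (K ⊓ C : Subgroup G)).factorization 3 :=
    card_le_of_isPGroup_le _ _ (hQp.to_le inf_le_left) (inf_le_inf_right C hQK)
  have hfac : 3 ^ (Nat.card K).factorization 3 =
      3 ^ (Nat.card (K ⊓ C : Subgroup G)).factorization 3 * 3 ^ e := by
    rw [← hmul, hapow, Nat.factorization_mul hKC0 (pow_ne_zero _ (by norm_num)),
      Nat.Prime.factorization_pow Nat.prime_three]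
    simp [pow_add]
  have hmulQ : Nat.card (Q ⊓ C : Subgroup G) * (Q ⊓ C : Subgroup G).relIndex Q = Nat.card Q :=
    card_mul_relIndex_of_le _ _ inf_le_left
  have hQC0 : 0 < Nat.card (Q ⊓ C : Subgroup G) := Nat.card_pos
  have hge : a ≤ (Q ⊓ C : Subgroup G).relIndex Q := by
    rw [hapow]
    have h1 : Nat.card (Q ⊓ C : Subgroup G) * 3 ^ e ≤
        Nat.card (Q ⊓ C : Subgroup G) * (Q ⊓ C : Subgroup G).relIndex Q := by
      rw [hmulQ, hQcard, hfac]
      exact Nat.mul_le_mul_right _ hQC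
    exact Nat.le_of_mul_le_mul_left h1 hQC0
  have hIK := inverted_count d hd2 K hK hdK
  have hIQ := inverted_count d hd2 Q hQodd hQd
  rw [← hC] at hIK hIQ
  rw [← ha] at hIK
  -- the inclusion of the inverted elements of `Q` in those of `K`
  let ι : {x : G // x ∈ Q ∧ d * x * d⁻¹ = x⁻¹} → {x : G // x ∈ K ∧ d * x * d⁻¹ = x⁻¹} :=
    fun x => ⟨x.1, hQK x.2.1, x.2.2⟩
  have hι : Function.Injective ι := by
    intro x y h
    exact Subtype.ext (congrArg (fun z : {x : G // x ∈ K ∧ d * x * d⁻¹ = x⁻¹} => (z : G)) h)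
  have hbij : Function.Bijective ι := by
    apply hι.bijective_of_nat_card_le
    rw [← hIK, ← hIQ]
    exact hge
  intro x hxK hx
  obtain ⟨y, hy⟩ := hbij.2 ⟨x, hxK, hx⟩
  have : (y : G) = x := congrArg (fun z : {x : G // x ∈ K ∧ d * x * d⁻¹ = x⁻¹} => (z : G)) hy
  rw [← this]
  exact y.2.1

end Cfsg.Agent.H9.TT3Width
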