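import Mathlib
import Cfsg.Prelude.Def_FischerSpaces
import Cfsg.Prelude.Def_SporadicB
import Cfsg.Agent.H2.ZStarD
import Cfsg.Agent.H1.Cores
import Cfsg.Agent.H9.TT3Width

set_option autoImplicit false
set_option linter.unusedSectionVars false

/-!
3-transposition groups of width one: `G = ⟨d⟩ O₃(G)`.
-/

namespace Cfsg.Agent.H9.TT3Width

open Cfsg

universe u

section Basic

variable {G : Type u} [Group G] {D : Set G}

lemma inv_of_mem (hD : Cfsg.IsThreeTranspositionSet D) {a : G} (ha : a ∈ D) : a * a = 1 := by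
  have h := hD.1 a ha
  rw [← pow_two, ← h]
  exact pow_orderOf_eq_one a

lemma inv_eq_of_mem (hD : Cfsg.IsThreeTranspositionSet D) {a : G} (ha : a ∈ D) : a⁻¹ = a :=
  inv_eq_of_mul_eq_one_left (inv_of_mem hD ha)

lemma ne_one_of_mem (hD : Cfsg.IsThreeTranspositionSet D) {a : G} (ha : a ∈ D) : a ≠ 1 := by
  intro h
  have := hD.1 a ha
  rw [h, orderOf_one] at this
  omega

/-- two members whose product squares to one commute -/
lemma commute_of_sq (hD : Cfsg.IsThreeTranspositionSet D) {a b : G} (ha : a ∈ D) (hb : b ∈ D)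
    (h : (a * b) ^ 2 = 1) : Commute a b := by
  have h1 : a * b = (a * b)⁻¹ := by
    rw [eq_inv_iff_mul_eq_one, ← pow_two, h]
  rw [mul_inv_rev, inv_eq_of_mem hD ha, inv_eq_of_mem hD hb] at h1
  exact h1

/-- two non-commuting members are conjugate under their product -/
lemma conj_of_cube (hD : Cfsg.IsThreeTranspositionSet D) {a b : G} (ha : a ∈ D) (hb : b ∈ D)
    (h : (a * b) ^ 3 = 1) : (a * b) * a * (a * b)⁻¹ = b := by
  rw [mul_inv_rev, inv_eq_of_mem hD ha, inv_eq_of_mem hD hb, ← mul_assoc]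
  have h1 : a * b * a * b * a * b = 1 := by
    rw [← h, pow_succ, pow_two]
    group
  have h2 : a * b * a * b * a = b⁻¹ := eq_inv_of_mul_eq_one_left h1
  rw [h2, inv_eq_of_mem hD hb]

end Basic

section Width

variable {G : Type u} [Group G] [Finite G] {D : Set G}

/-- width one means that no two different members commute -/
theorem width_one_iff (hne : D.Nonempty) :
    Cfsg.commutingWidth D = 1 ↔ ∀ a ∈ D, ∀ b ∈ D, Commute a b → a = b := by
  unfold Cfsg.commutingWidth
  set S := {n : ℕ | ∃ E : Set G, E ⊆ D ∧ E.Finite ∧ (∀ a ∈ E, ∀ b ∈ E, Commute a b) ∧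
    E.ncard = n} with hS
  have hbdd : BddAbove S := by
    refine ⟨Nat.card G, ?_⟩
    rintro n ⟨E, -, -, -, rfl⟩
    exact Set.ncard_le_card E
  constructor
  · intro h a ha b hb hab
    by_contra hne'
    have h2 : 2 ∈ S := by
      refine ⟨{a, b}, ?_, Set.toFinite _, ?_, Set.ncard_pair hne'⟩
      · intro x hx
        rcases hx with rfl | rfl
        · exact ha
        · exact hb
      · intro x hx y hy
        rcases hx with rfl | rfl <;> rcases hy with rfl | rfl
        · exact Commute.refl _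
        · exact hab
        · exact hab.symm
        · exact Commute.refl _
    have := le_csSup hbdd h2
    omega
  · intro h
    obtain ⟨d, hd⟩ := hne
    apply IsGreatest.csSup_eq
    constructor
    · refine ⟨{d}, ?_, Set.finite_singleton d, ?_, Set.ncard_singleton d⟩
      · intro x hx
        rw [Set.mem_singleton_iff] at hx
        rw [hx]; exact hd
      · intro x hx y hy
        rw [Set.mem_singleton_iff] at hx hy
        rw [hx, hy]
    · rintro n ⟨E, hED, hEf, hEc, rfl⟩
      rw [Set.ncard_le_one hEf]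
      intro a ha b hb
      exact h a (hED ha) b (hED hb) (hEc a ha b hb)

/-- width one forces `G = ⟨d⟩ O₃(G)` -/
theorem sup_pCore_eq_top_of_width_one (hD : Cfsg.IsThreeTranspositionGroup D) {d : G}
    (hd : d ∈ D) (hw : ∀ a ∈ D, ∀ b ∈ D, Commute a b → a = b) :
    Subgroup.zpowers d ⊔ Cfsg.pCore 3 G = ⊤ := by
  obtain ⟨hT, hconj, hgen⟩ := hD
  have hd2 : d * d = 1 := inv_of_mem hT hd
  have hdinv : d⁻¹ = d := inv_eq_of_mem hT hd
  have hiso : Cfsg.IsIsolatedInvolution d :=
    ⟨hT.1 d hd, fun g hc => (hw d hd _ (hconj g d hd) hc).symm⟩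
  set K := Cfsg.pPrimeCore 2 G with hK
  have hKn : K.Normal := Cfsg.Agent.H1.pPrimeCore_normal 2
  have hKodd : Odd (Nat.card K) := by
    have := Cfsg.Agent.H1.pPrimeCore_coprime (G := G) 2
    exact Nat.coprime_two_left.mp this.symm
  have hz : ∀ g : G, d * g * d⁻¹ * g⁻¹ ∈ K := fun g => Cfsg.Agent.H2.ZStar.zstar hiso g
  -- members of `D` are `d` or have product of order three with `d`
  have hcases : ∀ e ∈ D, e = d ∨ (d * e) ^ 3 = 1 := by
    intro e he
    rcases hT.2 d hd e he with h | h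
    · left
      exact (hw d hd e he (commute_of_sq hT hd he h)).symm
    · right
      exact h
  have h3 : ∀ k ∈ K, (d * k * d⁻¹ * k⁻¹) ^ 3 = 1 := by
    intro k _
    have he : k * d * k⁻¹ ∈ D := hconj k d hd
    have e1 : d * k * d⁻¹ * k⁻¹ = d * (k * d * k⁻¹) := by
      rw [hdinv]; group
    rw [e1]
    rcases hcases _ he with h | h
    · rw [h, hd2, one_pow]
    · exact h
  obtain ⟨Q, hQK, hQp, hQd, hQ⟩ := exists_three_subgroup d hd2 K hKodd
    (fun x hx => hKn.conj_mem x hx d) h3
  -- every member of `D` lies in `⟨d⟩ Q`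
  have hDQ : D ⊆ ((Subgroup.zpowers d ⊔ Q : Subgroup G) : Set G) := by
    intro e he
    have hx : e * d ∈ Q := by
      apply hQ
      · rcases hcases e he with h | h
        · rw [h, hd2]; exact K.one_mem
        · have hc := conj_of_cube hT hd he h
          have e2 : e * d = (d * (d * e) * d⁻¹ * (d * e)⁻¹)⁻¹ := by
            have : (d * (d * e) * d⁻¹ * (d * e)⁻¹)⁻¹ = ((d * e) * d * (d * e)⁻¹) * d⁻¹ := by
              group
            rw [this, hc, hdinv]
          rw [e2]
          exact K.inv_mem (hz _)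
      · rw [mul_inv_rev, hdinv, inv_eq_of_mem hT he]
        calc d * (e * d) * d = d * e * (d * d) := by group
          _ = d * e := by rw [hd2, mul_one]
    have e3 : e = (e * d) * d := by
      rw [mul_assoc, hd2, mul_one]
    rw [e3]
    exact Subgroup.mul_mem _ (Subgroup.mem_sup_right hx)
      (Subgroup.mem_sup_left (Subgroup.mem_zpowers d))
  have htop : Subgroup.zpowers d ⊔ Q = ⊤ := by
    rw [eq_top_iff, ← hgen, Subgroup.closure_le]
    exact hDQ
  -- `Q` is normal
  have hQn : Q.Normal := by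
    rw [← Subgroup.normalizer_eq_top_iff, eq_top_iff, ← htop, sup_le_iff]
    refine ⟨?_, Subgroup.le_normalizer⟩
    rw [Subgroup.zpowers_le, Subgroup.mem_normalizer_iff]
    intro h
    refine ⟨hQd h, fun hh => ?_⟩
    have := hQd _ hh
    have e4 : d * (d * h * d⁻¹) * d⁻¹ = (d * d) * h * (d * d)⁻¹ := by group
    rwa [e4, hd2, one_mul, inv_one, mul_one] at this
  have hle : Q ≤ Cfsg.pCore 3 G := Cfsg.Agent.H1.le_pCore hQn hQp
  rw [eq_top_iff, ← htop]
  exact sup_le_sup_left hle _

/-- `G = ⟨d⟩ O₃(G)` forces width one -/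
theorem width_one_of_sup_pCore_eq_top (hD : Cfsg.IsThreeTranspositionGroup D) {d : G}
    (hd : d ∈ D) (h : Subgroup.zpowers d ⊔ Cfsg.pCore 3 G = ⊤) :
    ∀ a ∈ D, ∀ b ∈ D, Commute a b → a = b := by
  obtain ⟨hT, hconj, hgen⟩ := hD
  have hd2 : d * d = 1 := inv_of_mem hT hd
  set P := Cfsg.pCore 3 G with hP
  have hPn : P.Normal := Cfsg.Agent.H1.pCore_normal 3
  have hPp : IsPGroup 3 P := Cfsg.Agent.H1.pCore_isPGroup 3
  have hmem : ∀ g : G, g ∈ P ∨ d * g ∈ P := by
    intro g
    have hg : g ∈ Subgroup.zpowers d ⊔ P := by rw [h]; trivial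
    rw [← SetLike.mem_coe, Subgroup.mul_normal, Set.mem_mul] at hg
    obtain ⟨x, hx, n, hn, rfl⟩ := hg
    obtain ⟨k, rfl⟩ := Subgroup.mem_zpowers_iff.1 hx
    rcases Int.even_or_odd k with ⟨j, hj⟩ | ⟨j, hj⟩
    · left
      have : d ^ k = 1 := by
        rw [hj, ← two_mul, zpow_mul, zpow_two, hd2, one_zpow]
      rw [this, one_mul]
      exact hn
    · right
      have : d ^ k = d := by
        rw [hj, zpow_add, zpow_one, zpow_mul, zpow_two, hd2, one_zpow, one_mul]
      rw [this, ← mul_assoc, hd2, one_mul]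
      exact hn
  have hord : ∀ x ∈ P, x ^ 2 = 1 → x = 1 := by
    intro x hx hx2
    obtain ⟨j, hj⟩ := (IsPGroup.iff_orderOf.mp hPp) ⟨x, hx⟩
    rw [Subgroup.orderOf_mk] at hj
    have h1 : orderOf x ∣ 2 := orderOf_dvd_of_pow_eq_one hx2
    rw [← orderOf_eq_one_iff]
    rcases (Nat.dvd_prime Nat.prime_two).1 h1 with h' | h'
    · exact h'
    · exfalso
      rw [h'] at hj
      rcases Nat.eq_zero_or_pos j with rfl | hjpos
      · norm_num at hj
      · have : 3 ∣ 2 := by rw [hj]; exact dvd_pow_self 3 hjpos.ne'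
        omega
  have hnot : ∀ a ∈ D, a ∉ P := by
    intro a ha haP
    exact ne_one_of_mem hT ha (hord a haP (by rw [pow_two]; exact inv_of_mem hT ha))
  intro a ha b hb hab
  have h1 : d * a ∈ P := (hmem a).resolve_left (hnot a ha)
  have h2 : d * b ∈ P := (hmem b).resolve_left (hnot b hb)
  have h3 : a * b ∈ P := by
    have e1 : a * b = (d * a)⁻¹ * (d * b) := by
      rw [mul_inv_rev, inv_eq_of_mem hT ha]
      group
    rw [e1]
    exact P.mul_mem (P.inv_mem h1) h2
  have h4 : a * b = 1 := by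
    apply hord _ h3
    rw [pow_two]
    calc a * b * (a * b) = a * (b * a) * b := by group
      _ = a * (a * b) * b := by rw [hab.eq]
      _ = (a * a) * (b * b) := by group
      _ = 1 := by rw [inv_of_mem hT ha, inv_of_mem hT hb, one_mul]
  calc a = a * (b * b) := by rw [inv_of_mem hT hb, mul_one]
    _ = (a * b) * b := by group
    _ = b := by rw [h4, one_mul]

end Width

end Cfsg.Agent.H9.TT3Width
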