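import Mathlib
import Cfsg.Agent.H9.TT3WidthOne
import Cfsg.Agent.H1.Subnormalizer
import Cfsg.Agent.S5561

set_option autoImplicit false
set_option linter.unusedSectionVars false

/-!
The classes `W_d` of a class of 3-transpositions: `W_d = D ∩ d O₃(G) = d ^ O₃(G)`.
-/

namespace Cfsg.Agent.H9.TT3Width

open Cfsg

universe u

section Rel

variable {G : Type u} [Group G] {D : Set G}

/-- the commuting partners of `a` in `D` -/
def Cs (D : Set G) (a : G) : Set G := {y : G | y ∈ D ∧ y ≠ a ∧ Commute a y}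

lemma mem_Cs (a y : G) : y ∈ Cs D a ↔ y ∈ D ∧ y ≠ a ∧ Commute a y := Iff.rfl

/-- conjugation transports the sets of commuting partners -/
lemma Cs_conj (hconj : ∀ g : G, ∀ a ∈ D, g * a * g⁻¹ ∈ D) (g a y : G) :
    g * y * g⁻¹ ∈ Cs D (g * a * g⁻¹) ↔ y ∈ Cs D a := by
  rw [mem_Cs, mem_Cs]
  constructor
  · rintro ⟨h1, h2, h3⟩
    refine ⟨?_, ?_, ?_⟩
    · have := hconj g⁻¹ _ h1
      have e : g⁻¹ * (g * y * g⁻¹) * g⁻¹⁻¹ = y := by group
      rwa [e] at this
    · intro h
      exact h2 (by rw [h])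
    · have h4 := h3.eq
      have e1 : a * y = g⁻¹ * (g * a * g⁻¹ * (g * y * g⁻¹)) * g := by group
      have e2 : y * a = g⁻¹ * (g * y * g⁻¹ * (g * a * g⁻¹)) * g := by group
      show a * y = y * a
      rw [e1, e2, h4]
  · rintro ⟨h1, h2, h3⟩
    refine ⟨hconj g y h1, ?_, ?_⟩
    · intro h
      apply h2
      have e : y = g⁻¹ * (g * y * g⁻¹) * g := by group
      rw [e, h]
      group
    · show g * a * g⁻¹ * (g * y * g⁻¹) = g * y * g⁻¹ * (g * a * g⁻¹)
      have e1 : g * a * g⁻¹ * (g * y * g⁻¹) = g * (a * y) * g⁻¹ := by group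
      have e2 : g * y * g⁻¹ * (g * a * g⁻¹) = g * (y * a) * g⁻¹ := by group
      rw [e1, e2, h3.eq]

/-- the relation `C_a = C_b` is invariant under conjugation -/
lemma rel_conj (hconj : ∀ g : G, ∀ a ∈ D, g * a * g⁻¹ ∈ D) (g a b : G)
    (h : Cs D a = Cs D b) : Cs D (g * a * g⁻¹) = Cs D (g * b * g⁻¹) := by
  ext y
  have e : y = g * (g⁻¹ * y * g) * g⁻¹ := by group
  rw [e, Cs_conj hconj, Cs_conj hconj, h]

variable (hT : Cfsg.IsThreeTranspositionSet D)
include hT

/-- two different members with the same commuting partners do not commute -/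
lemma not_commute_of_rel {a b : G} (hb : b ∈ D) (h : Cs D a = Cs D b) (hab : a ≠ b) :
    ¬ Commute a b := by
  intro hc
  have : b ∈ Cs D a := ⟨hb, hab.symm, hc⟩
  rw [h] at this
  exact this.2.1 rfl

lemma cube_of_not_commute {a b : G} (ha : a ∈ D) (hb : b ∈ D) (h : ¬ Commute a b) :
    (a * b) ^ 3 = 1 := by
  rcases hT.2 a ha b hb with h' | h'
  · exact absurd (commute_of_sq hT ha hb h') h
  · exact h'

/-- the braid relation -/
lemma braid {a b : G} (ha : a ∈ D) (hb : b ∈ D) (h : (a * b) ^ 3 = 1) :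
    a * b * a = b * a * b := by
  have h1 := conj_of_cube hT ha hb h
  rw [mul_inv_rev, inv_eq_of_mem hT ha, inv_eq_of_mem hT hb] at h1
  have h2 : a * b * a * (b * a) * b = b * b := by rw [h1]
  rw [inv_of_mem hT hb] at h2
  have h3 : a * b * a = (b * a * b)⁻¹⁻¹ := by
    rw [eq_inv_iff_mul_eq_one]
    have : (b * a * b)⁻¹ = b * a * b := by
      rw [mul_inv_rev, mul_inv_rev, inv_eq_of_mem hT ha, inv_eq_of_mem hT hb, mul_assoc]
    rw [this, ← h2]
    group
  rw [h3, inv_inv]

/-- the product of two members with the same commuting partners has order 1 or 3 -/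
lemma exists_orderOf_of_rel {a b : G} (ha : a ∈ D) (hb : b ∈ D) (h : Cs D a = Cs D b) :
    ∃ k : ℕ, orderOf (a * b) = 3 ^ k := by
  by_cases hab : a = b
  · refine ⟨0, ?_⟩
    rw [hab, inv_of_mem hT hb, orderOf_one, pow_zero]
  · have h3 := cube_of_not_commute hT ha hb (not_commute_of_rel hT hb h hab)
    have := orderOf_dvd_of_pow_eq_one h3
    rcases (Nat.dvd_prime Nat.prime_three).1 this with h' | h'
    · exact ⟨0, by rw [h', pow_zero]⟩
    · exact ⟨1, by rw [h', pow_one]⟩

end Rel

section Coset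

variable {G : Type u} [Group G] {D : Set G}
variable (hT : Cfsg.IsThreeTranspositionSet D)
include hT

/-- members of `D` congruent modulo a normal subgroup without involutions have the same commuting
partners: one inclusion -/
lemma Cs_subset_of_mul_mem (P : Subgroup G) [hPn : P.Normal]
    (hP2 : ∀ z ∈ P, z * z = 1 → z = 1) {d w : G} (hd : d ∈ D) (hw : w ∈ D)
    (hdw : d * w ∈ P) : Cs D d ⊆ Cs D w := by
  rintro y ⟨hy, hyd, hc⟩
  have hd2 := inv_of_mem hT hd
  have hw2 := inv_of_mem hT hw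
  have hy2 := inv_of_mem hT hy
  have hdy2 : d * y * (d * y) = 1 := by
    calc d * y * (d * y) = d * (y * d) * y := by group
      _ = d * (d * y) * y := by rw [hc.eq]
      _ = (d * d) * (y * y) := by group
      _ = 1 := by rw [hd2, hy2, one_mul]
  have hyd' : d * y ≠ 1 := by
    intro h
    apply hyd
    have : y = d⁻¹ := eq_inv_of_mul_eq_one_right h
    rw [this, inv_eq_of_mem hT hd]
  refine ⟨hy, ?_, ?_⟩
  · rintro rfl
    exact hyd' (hP2 _ hdw hdy2)
  · by_contra hnc
    have h3 := cube_of_not_commute hT hw hy hnc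
    have hb1 := braid hT hw hy h3
    have hdw3 : (d * w) ^ 3 = 1 := by
      rcases hT.2 d hd w hw with h' | h'
      · exfalso
        have h1 : d * w = 1 := hP2 _ hdw (by rw [← pow_two]; exact h')
        have h4 : w = d := by
          have : w = d⁻¹ := eq_inv_of_mul_eq_one_right h1
          rw [this, inv_eq_of_mem hT hd]
        apply hnc
        rw [h4]
        exact hc
      · exact h'
    have hb2 := braid hT hd hw hdw3
    have hz : d * w * (y * (d * w) * y⁻¹) = w * (d * y) * w := by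
      rw [inv_eq_of_mem hT hy]
      calc d * w * (y * (d * w) * y) = d * w * (y * d) * w * y := by group
        _ = d * w * (d * y) * w * y := by rw [hc.eq]
        _ = (d * w * d) * (y * w * y) := by group
        _ = (w * d * w) * (w * y * w) := by rw [hb2, ← hb1]
        _ = w * d * (w * w) * y * w := by group
        _ = w * (d * y) * w := by rw [hw2]; group
    have hzP : w * (d * y) * w ∈ P := by
      rw [← hz]
      exact P.mul_mem hdw (hPn.conj_mem _ hdw y)
    have hzz : w * (d * y) * w * (w * (d * y) * w) = 1 := by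
      calc w * (d * y) * w * (w * (d * y) * w) = w * (d * y) * (w * w) * (d * y) * w := by group
        _ = w * (d * y * (d * y)) * w := by rw [hw2]; group
        _ = 1 := by rw [hdy2, mul_one, hw2]
    have h5 := hP2 _ hzP hzz
    apply hyd'
    calc d * y = w * (w * (d * y) * w) * w := by
          rw [show w * (w * (d * y) * w) * w = (w * w) * (d * y) * (w * w) by group, hw2, one_mul,
            mul_one]
      _ = 1 := by rw [h5, mul_one, hw2]

/-- members of `D` congruent modulo a normal subgroup without involutions have the same commuting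
partners -/
lemma Cs_eq_of_mul_mem (P : Subgroup G) [hPn : P.Normal]
    (hP2 : ∀ z ∈ P, z * z = 1 → z = 1) {d w : G} (hd : d ∈ D) (hw : w ∈ D)
    (hdw : d * w ∈ P) : Cs D d = Cs D w := by
  apply Set.Subset.antisymm (Cs_subset_of_mul_mem hT P hP2 hd hw hdw)
  apply Cs_subset_of_mul_mem hT P hP2 hw hd
  have : w * d = (d * w)⁻¹ := by
    rw [mul_inv_rev, inv_eq_of_mem hT hd, inv_eq_of_mem hT hw]
  rw [this]
  exact P.inv_mem hdw

end Coset

section Kernel

variable {G : Type u} [Group G] {D : Set G}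
variable (hconj : ∀ g : G, ∀ a ∈ D, g * a * g⁻¹ ∈ D)

/-- the kernel of the action of `G` on the classes `W_e` -/
def kerW : Subgroup G where
  carrier := {g : G | ∀ e ∈ D, Cs D (g * e * g⁻¹) = Cs D e}
  one_mem' := by
    intro e _
    simp
  mul_mem' := by
    intro g h hg hh e he
    have e1 : g * h * e * (g * h)⁻¹ = g * (h * e * h⁻¹) * g⁻¹ := by group
    rw [e1, hg _ (hconj h e he), hh e he]
  inv_mem' := by
    intro g hg e he
    have := hg (g⁻¹ * e * g⁻¹⁻¹) (hconj g⁻¹ e he)
    have e1 : g * (g⁻¹ * e * g⁻¹⁻¹) * g⁻¹ = e := by group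
    rw [e1] at this
    exact this.symm

lemma mem_kerW (g : G) : g ∈ kerW hconj ↔ ∀ e ∈ D, Cs D (g * e * g⁻¹) = Cs D e := Iff.rfl

lemma kerW_normal : (kerW hconj).Normal := by
  constructor
  intro g hg t e he
  have he' : t⁻¹ * e * t⁻¹⁻¹ ∈ D := hconj t⁻¹ e he
  have h1 := hg _ he'
  have h2 := rel_conj hconj t _ _ h1
  have e1 : t * g * t⁻¹ * e * (t * g * t⁻¹)⁻¹ = t * (g * (t⁻¹ * e * t⁻¹⁻¹) * g⁻¹) * t⁻¹ := by group
  have e2 : t * (t⁻¹ * e * t⁻¹⁻¹) * t⁻¹ = e := by group
  rw [e1, h2, e2]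

/-- the stabilizer of the class `W_d` -/
def stabW (d : G) : Subgroup G where
  carrier := {g : G | Cs D (g * d * g⁻¹) = Cs D d}
  one_mem' := by
    show Cs D (1 * d * 1⁻¹) = Cs D d
    simp
  mul_mem' := by
    intro g h hg hh
    show Cs D (g * h * d * (g * h)⁻¹) = Cs D d
    have e1 : g * h * d * (g * h)⁻¹ = g * (h * d * h⁻¹) * g⁻¹ := by group
    rw [e1, rel_conj hconj g _ _ hh]
    exact hg
  inv_mem' := by
    intro g hg
    show Cs D (g⁻¹ * d * g⁻¹⁻¹) = Cs D d
    have := rel_conj hconj g⁻¹ _ _ hg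
    have e1 : g⁻¹ * (g * d * g⁻¹) * g⁻¹⁻¹ = d := by group
    rw [e1] at this
    exact this.symm

lemma mem_stabW (d g : G) : g ∈ stabW hconj d ↔ Cs D (g * d * g⁻¹) = Cs D d := Iff.rfl

lemma kerW_le_stabW {d : G} (hd : d ∈ D) : kerW hconj ≤ stabW hconj d :=
  fun _ hg => hg d hd

variable (hT : Cfsg.IsThreeTranspositionSet D)
include hT

lemma self_mem_stabW (d : G) : d ∈ stabW hconj d := by
  rw [mem_stabW]
  have : d * d * d⁻¹ = d := by group
  rw [this]

/-- the product of two members with the same commuting partners acts trivially on the classes -/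
theorem mul_mem_kerW {d w : G} (hd : d ∈ D) (hw : w ∈ D) (h : Cs D d = Cs D w) :
    d * w ∈ kerW hconj := by
  have hd2 := inv_of_mem hT hd
  have hw2 := inv_of_mem hT hw
  have hdi := inv_eq_of_mem hT hd
  have hwi := inv_eq_of_mem hT hw
  by_cases hdw : d = w
  · rw [← hdw, hd2]
    exact (kerW hconj).one_mem
  have hnc : ¬ Commute d w := not_commute_of_rel hT hw h hdw
  have h3 := cube_of_not_commute hT hd hw hnc
  have hxd : d * w * d * (d * w)⁻¹ = w := conj_of_cube hT hd hw h3
  intro e he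
  by_cases h1 : Cs D d = Cs D e
  · have h4 := rel_conj hconj (d * w) _ _ h1
    rw [hxd] at h4
    rw [← h4, ← h, h1]
  by_cases h2 : Commute d e
  · have hed : e ≠ d := by
      rintro rfl
      exact h1 rfl
    have hew : e ∈ Cs D w := by
      rw [← h]
      exact ⟨he, hed, h2⟩
    have e1 : d * w * e * (d * w)⁻¹ = e := by
      rw [mul_inv_rev]
      calc d * w * e * (w⁻¹ * d⁻¹) = d * (w * e) * w⁻¹ * d⁻¹ := by group
        _ = d * (e * w) * w⁻¹ * d⁻¹ := by rw [hew.2.2.eq]
        _ = (d * e) * d⁻¹ := by group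
        _ = (e * d) * d⁻¹ := by rw [h2.eq]
        _ = e := by group
    rw [e1]
  -- the generic case
  set w' := d * w * d⁻¹ with hw'
  have hw'D : w' ∈ D := hconj d w hw
  have hrel' : Cs D d = Cs D w' := by
    have := rel_conj hconj d _ _ h
    have e1 : d * d * d⁻¹ = d := by group
    rwa [e1] at this
  set a := d * e * d⁻¹ with ha
  have haD : a ∈ D := hconj d e he
  have hea : e = d⁻¹ * a * d := by rw [ha]; group
  have hnda : ¬ Commute d a := by
    intro hc
    apply h2
    show d * e = e * d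
    have h5 := hc.eq
    rw [hea]
    calc d * (d⁻¹ * a * d) = d⁻¹ * (d * a) * d := by rw [hdi]; group
      _ = d⁻¹ * (a * d) * d := by rw [h5]
      _ = d⁻¹ * a * d * d := by group
  have hnra : Cs D d ≠ Cs D a := by
    intro hc
    apply h1
    have := rel_conj hconj d⁻¹ _ _ hc
    have e1 : d⁻¹ * d * d⁻¹⁻¹ = d := by group
    have e2 : d⁻¹ * a * d⁻¹⁻¹ = e := by rw [ha]; group
    rwa [e1, e2] at this
  have haw' : a ≠ w' := by
    rintro h6
    apply hnra
    rw [h6]
    exact hrel'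
  have hnw'a : ¬ Commute w' a := by
    intro hc
    have : a ∈ Cs D w' := ⟨haD, haw', hc⟩
    rw [← hrel'] at this
    exact hnda this.2.2
  have hb1 := braid hT haD hd (cube_of_not_commute hT haD hd (fun hc => hnda hc.symm))
  have hb2 := braid hT haD hw'D (cube_of_not_commute hT haD hw'D (fun hc => hnw'a hc.symm))
  have hF := rel_conj hconj a _ _ hrel'
  have hai := inv_eq_of_mem hT haD
  have e3 : a * d * a⁻¹ = e := by
    rw [hai, hb1, ha, hdi]
    calc d * (d * e * d) * d = (d * d) * e * (d * d) := by group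
      _ = e := by rw [hd2, one_mul, mul_one]
  have e4 : a * w' * a⁻¹ = d * w * e * (d * w)⁻¹ := by
    rw [hai, hb2, ha, hw', mul_inv_rev, hdi, hwi]
    calc d * w * d * (d * e * d) * (d * w * d) = d * w * (d * d) * e * (d * d) * w * d := by group
      _ = d * w * e * (w * d) := by rw [hd2]; group
  rw [e3, e4] at hF
  exact hF.symm

end Kernel

section Main

variable {G : Type u} [Group G] [Finite G] {D : Set G}
variable (hconj : ∀ g : G, ∀ a ∈ D, g * a * g⁻¹ ∈ D)
variable (hT : Cfsg.IsThreeTranspositionSet D)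
include hT hconj

/-- the product of two members with the same commuting partners lies in `O₃(G)` -/
theorem mul_mem_pCore_of_rel {d w : G} (hd : d ∈ D) (hw : w ∈ D) (h : Cs D d = Cs D w) :
    d * w ∈ Cfsg.pCore 3 G := by
  have hd2 := inv_of_mem hT hd
  have hdi := inv_eq_of_mem hT hd
  by_cases hdw : d = w
  · rw [← hdw, hd2]
    exact Subgroup.one_mem _
  have hnc : ¬ Commute d w := not_commute_of_rel hT hw h hdw
  have h3 := cube_of_not_commute hT hd hw hnc
  have hxd : d * w * d * (d * w)⁻¹ = w := conj_of_cube hT hd hw h3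
  set K := kerW hconj with hK
  have hKn : K.Normal := kerW_normal hconj
  set L := Subgroup.zpowers d ⊔ K with hL
  have hLS : L ≤ stabW hconj d := by
    rw [hL, sup_le_iff, Subgroup.zpowers_le]
    exact ⟨self_mem_stabW hconj hT d, kerW_le_stabW hconj hd⟩
  have hKL : K ≤ L := le_sup_right
  have hdL : d ∈ L := Subgroup.mem_sup_left (Subgroup.mem_zpowers d)
  have hxK : d * w ∈ K := mul_mem_kerW hconj hT hd hw h
  have hxL : d * w ∈ L := hKL hxK
  have hwL : w ∈ L := by
    have : w = d * (d * w) := by rw [← mul_assoc, hd2, one_mul]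
    rw [this]
    exact L.mul_mem hdL hxL
  set dL : ↥L := ⟨d, hdL⟩ with hdLdef
  set wL : ↥L := ⟨w, hwL⟩ with hwLdef
  have horder : orderOf dL = 2 := by
    rw [Subgroup.orderOf_mk]
    exact hT.1 d hd
  have hWL : ∀ a ∈ conjugatesOf dL, (a : G) ∈ D ∧ Cs D d = Cs D (a : G) := by
    intro a ha
    have ha' : IsConj dL a := ha
    rw [isConj_iff] at ha'
    obtain ⟨c, rfl⟩ := ha'
    have hc := hLS c.2
    rw [mem_stabW] at hc
    exact ⟨hconj _ d hd, hc.symm⟩
  have hprod : ∀ a ∈ conjugatesOf dL, ∀ b ∈ conjugatesOf dL, ∃ k : ℕ, orderOf (a * b) = 3 ^ k := by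
    intro a ha b hb
    obtain ⟨haD, har⟩ := hWL a ha
    obtain ⟨hbD, hbr⟩ := hWL b hb
    obtain ⟨k, hk⟩ := exists_orderOf_of_rel hT haD hbD (har.symm.trans hbr)
    refine ⟨k, ?_⟩
    rw [← hk, ← Subgroup.orderOf_coe]
    rfl
  have hwconj : wL ∈ conjugatesOf dL := by
    show IsConj dL wL
    rw [isConj_iff]
    refine ⟨⟨d * w, hxL⟩, ?_⟩
    apply Subtype.ext
    exact hxd
  have hres := Cfsg.Agent.S5561.result dL horder hprod dL mem_conjugatesOf_self wL hwconj
  -- transfer to `G`
  set T := (Cfsg.pCore 3 ↥L).map L.subtype ⊓ K with hTdef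
  have hxT : d * w ∈ T := ⟨⟨dL * wL, hres, rfl⟩, hxK⟩
  have hT3 : IsPGroup 3 T :=
    ((Cfsg.Agent.H1.pCore_isPGroup (G := ↥L) 3).map L.subtype).to_le inf_le_left
  have hTn : (T.subgroupOf K).Normal := by
    constructor
    intro n hn g
    rw [Subgroup.mem_subgroupOf] at hn ⊢
    obtain ⟨⟨m, hm, hmn⟩, -⟩ := hn
    refine ⟨?_, ?_⟩
    · have hpn : (Cfsg.pCore 3 ↥L).Normal := Cfsg.Agent.H1.pCore_normal 3
      refine ⟨⟨(g : G), hKL g.2⟩ * m * ⟨(g : G), hKL g.2⟩⁻¹, hpn.conj_mem m hm _, ?_⟩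
      show (g : G) * (m : G) * (g : G)⁻¹ = ((g * n * g⁻¹ : ↥K) : G)
      have : (m : G) = (n : G) := hmn
      rw [this]
      rfl
    · exact (g * n * g⁻¹).2
  have hsub : T.IsSubnormal := Subgroup.IsSubnormal.step T K inf_le_right hKn.isSubnormal hTn
  have : Fact (Nat.Prime 3) := ⟨Nat.prime_three⟩
  exact Cfsg.Agent.H1.le_pCore_of_isSubnormal hsub hT3 hxT

end Main

end Cfsg.Agent.H9.TT3Width
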