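import Mathlib
import Cfsg.Agent.H9.TT3W
import Cfsg.Agent.H2.Layer
import Cfsg.Agent.H2.EqualOrderSylow
import Cfsg.Agent.S5347

set_option autoImplicit false
set_option linter.unusedSectionVars false

/-!
The Fitting trichotomy for classes of 3-transpositions.
-/

namespace Cfsg.Agent.H9.TT3Width

open Cfsg
open scoped commutatorElement

universe u

section Transfer

variable {G : Type u} [Group G] [Finite G]

/-- an involution whose products of `K`-conjugates are 3-elements, `K` normal: the commutators with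
`K` lie in `O₃(G)` -/
theorem mul_conj_mem_pCore_three (K : Subgroup G) [hKn : K.Normal] (d : G) (hd : orderOf d = 2)
    (h : ∀ k ∈ K, ∀ k' ∈ K, ∃ j : ℕ, orderOf ((k * d * k⁻¹) * (k' * d * k'⁻¹)) = 3 ^ j) :
    ∀ k ∈ K, d * (k * d * k⁻¹) ∈ Cfsg.pCore 3 G := by
  have hd2 : d * d = 1 := by rw [← pow_two, ← hd]; exact pow_orderOf_eq_one d
  have hdi : d⁻¹ = d := inv_eq_of_mul_eq_one_left hd2
  set L := Subgroup.zpowers d ⊔ K with hL
  have hKL : K ≤ L := le_sup_right
  have hdL : d ∈ L := Subgroup.mem_sup_left (Subgroup.mem_zpowers d)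
  set dL : ↥L := ⟨d, hdL⟩ with hdLdef
  have horder : orderOf dL = 2 := by
    rw [Subgroup.orderOf_mk]
    exact hd
  have hWL : ∀ a ∈ conjugatesOf dL, ∃ k ∈ K, (a : G) = k * d * k⁻¹ := by
    intro a ha
    have ha' : IsConj dL a := ha
    rw [isConj_iff] at ha'
    obtain ⟨c, rfl⟩ := ha'
    have hc : (c : G) ∈ Subgroup.zpowers d ⊔ K := c.2
    rw [← SetLike.mem_coe, Subgroup.mul_normal, Set.mem_mul] at hc
    obtain ⟨z, hz, k, hk, hzk⟩ := hc
    have hzd : z * d = d * z := by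
      obtain ⟨i, rfl⟩ := Subgroup.mem_zpowers_iff.1 hz
      exact ((Commute.refl d).zpow_left i).eq
    refine ⟨z * k * z⁻¹, hKn.conj_mem k hk z, ?_⟩
    show (c : G) * d * (c : G)⁻¹ = _
    rw [← hzk]
    have e1 : z * k * z⁻¹ * d * (z * k * z⁻¹)⁻¹ = z * k * (z⁻¹ * d * z) * k⁻¹ * z⁻¹ := by group
    have e2 : z⁻¹ * d * z = d := by rw [mul_assoc, ← hzd, ← mul_assoc, inv_mul_cancel, one_mul]
    rw [e1, e2]
    group
  have hprod : ∀ a ∈ conjugatesOf dL, ∀ b ∈ conjugatesOf dL, ∃ k : ℕ, orderOf (a * b) = 3 ^ k := by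
    intro a ha b hb
    obtain ⟨k, hk, hak⟩ := hWL a ha
    obtain ⟨k', hk', hbk⟩ := hWL b hb
    obtain ⟨j, hj⟩ := h k hk k' hk'
    refine ⟨j, ?_⟩
    rw [← hj, ← Subgroup.orderOf_coe, ← hak, ← hbk]
    rfl
  intro k hk
  have hwL : k * d * k⁻¹ ∈ L := L.mul_mem (L.mul_mem (hKL hk) hdL) (L.inv_mem (hKL hk))
  set wL : ↥L := ⟨k * d * k⁻¹, hwL⟩ with hwLdef
  have hwconj : wL ∈ conjugatesOf dL := by
    show IsConj dL wL
    rw [isConj_iff]
    exact ⟨⟨k, hKL hk⟩, rfl⟩
  have hres := Cfsg.Agent.S5561.result dL horder hprod dL mem_conjugatesOf_self wL hwconj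
  have hxK : d * (k * d * k⁻¹) ∈ K := by
    have : d * (k * d * k⁻¹) = (d * k * d⁻¹) * k⁻¹ := by rw [hdi]; group
    rw [this]
    exact K.mul_mem (hKn.conj_mem k hk d) (K.inv_mem hk)
  set T := (Cfsg.pCore 3 ↥L).map L.subtype ⊓ K with hTdef
  have hxT : d * (k * d * k⁻¹) ∈ T := ⟨⟨dL * wL, hres, rfl⟩, hxK⟩
  have hT3 : IsPGroup 3 T :=
    ((Cfsg.Agent.H1.pCore_isPGroup (G := ↥L) 3).map L.subtype).to_le inf_le_left
  have hTn : (T.subgroupOf K).Normal := by
    constructor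
    intro n hn g
    rw [Subgroup.mem_subgroupOf] at hn ⊢
    obtain ⟨⟨m, hm, hmn⟩, -⟩ := hn
    refine ⟨?_, ?_⟩
    · have hpn : (Cfsg.pCore 3 ↥L).Normal := Cfsg.Agent.H1.pCore_normal 3
      refine ⟨⟨(g : G), hKL g.2⟩ * m * ⟨(g : G), hKL g.2⟩⁻¹, hpn.conj_mem m hm _, ?_⟩
      show (g : G) * (m : G) * (g : G)⁻¹ = ((g * n * g⁻¹ : ↥K) : G)
      have : (m : G) = (n : G) := hmn
      rw [this]
      rfl
    · exact (g * n * g⁻¹).2
  have hsub : T.IsSubnormal := Subgroup.IsSubnormal.step T K inf_le_right hKn.isSubnormal hTn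
  have : Fact (Nat.Prime 3) := ⟨Nat.prime_three⟩
  exact Cfsg.Agent.H1.le_pCore_of_isSubnormal hsub hT3 hxT

end Transfer

section TransferTwo

variable {G : Type u} [Group G] [Finite G]

/-- an involution commuting with its `K`-conjugates, `K` normal: the commutators with `K` lie in
`O₂(G)` -/
theorem mul_conj_mem_pCore_two (K : Subgroup G) [hKn : K.Normal] (d : G) (hd2 : d * d = 1)
    (h : ∀ k ∈ K, Commute d (k * d * k⁻¹)) :
    ∀ k ∈ K, d * (k * d * k⁻¹) ∈ Cfsg.pCore 2 G := by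
  have hdi : d⁻¹ = d := inv_eq_of_mul_eq_one_left hd2
  have hcc : ∀ k ∈ K, (k * d * k⁻¹) * (k * d * k⁻¹) = 1 := by
    intro k _
    calc k * d * k⁻¹ * (k * d * k⁻¹) = k * (d * d) * k⁻¹ := by group
      _ = 1 := by rw [hd2]; group
  -- conjugates commute pairwise
  have hkk : ∀ k ∈ K, ∀ k' ∈ K, Commute (k * d * k⁻¹) (k' * d * k'⁻¹) := by
    intro k hk k' hk'
    have h1 := h (k⁻¹ * k') (K.mul_mem (K.inv_mem hk) hk')
    show k * d * k⁻¹ * (k' * d * k'⁻¹) = k' * d * k'⁻¹ * (k * d * k⁻¹)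
    have e1 : k * d * k⁻¹ * (k' * d * k'⁻¹) = k * (d * (k⁻¹ * k' * d * (k⁻¹ * k')⁻¹)) * k⁻¹ := by
      group
    have e2 : k' * d * k'⁻¹ * (k * d * k⁻¹) = k * ((k⁻¹ * k' * d * (k⁻¹ * k')⁻¹) * d) * k⁻¹ := by
      group
    rw [e1, e2, h1.eq]
  set S : Set G := {s : G | ∃ k ∈ K, s = d * (k * d * k⁻¹)} with hS
  set A := Subgroup.closure S with hA
  have hSK : S ⊆ K := by
    rintro s ⟨k, hk, rfl⟩
    have : d * (k * d * k⁻¹) = (d * k * d⁻¹) * k⁻¹ := by rw [hdi]; group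
    rw [this]
    exact K.mul_mem (hKn.conj_mem k hk d) (K.inv_mem hk)
  have hAK : A ≤ K := (Subgroup.closure_le K).2 hSK
  have hSS : ∀ s ∈ S, ∀ s' ∈ S, Commute s s' := by
    rintro s ⟨k, hk, rfl⟩ s' ⟨k', hk', rfl⟩
    exact ((Commute.refl d).mul_right (h k' hk')).mul_left
      ((h k hk).symm.mul_right (hkk k hk k' hk'))
  have hS2 : ∀ s ∈ S, s * s = 1 := by
    rintro s ⟨k, hk, rfl⟩
    calc d * (k * d * k⁻¹) * (d * (k * d * k⁻¹))
        = d * ((k * d * k⁻¹) * d) * (k * d * k⁻¹) := by group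
      _ = d * (d * (k * d * k⁻¹)) * (k * d * k⁻¹) := by rw [(h k hk).eq]
      _ = (d * d) * ((k * d * k⁻¹) * (k * d * k⁻¹)) := by group
      _ = 1 := by rw [hd2, hcc k hk, one_mul]
  have hAcS : A ≤ Subgroup.centralizer S := by
    rw [hA, Subgroup.closure_le]
    intro s hs
    rw [SetLike.mem_coe, Subgroup.mem_centralizer_iff]
    intro s' hs'
    exact (hSS s' hs' s hs).eq
  have hAA : ∀ a ∈ A, ∀ b ∈ A, Commute a b := by
    intro a ha b hb
    have h1 : A ≤ Subgroup.centralizer {a} := by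
      rw [hA, Subgroup.closure_le]
      intro s hs
      rw [SetLike.mem_coe, Subgroup.mem_centralizer_iff]
      intro a' ha'
      rw [Set.mem_singleton_iff] at ha'
      subst ha'
      have := hAcS ha
      rw [Subgroup.mem_centralizer_iff] at this
      exact (this s hs).symm
    have := h1 hb
    rw [Subgroup.mem_centralizer_iff] at this
    exact this a rfl
  have hA2 : ∀ a ∈ A, a * a = 1 := by
    intro a ha
    induction ha using Subgroup.closure_induction with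
    | mem s hs => exact hS2 s hs
    | one => exact one_mul 1
    | mul x y hx hy hx2 hy2 =>
      have hc := hAA x hx y hy
      calc x * y * (x * y) = x * (y * x) * y := by group
        _ = x * (x * y) * y := by rw [hc.eq]
        _ = (x * x) * (y * y) := by group
        _ = 1 := by rw [hx2, hy2, one_mul]
    | inv x hx hx2 =>
      have : x⁻¹ = x := inv_eq_of_mul_eq_one_left hx2
      rw [this, hx2]
  have hAp : IsPGroup 2 A := by
    intro a
    refine ⟨1, ?_⟩
    apply Subtype.ext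
    rw [pow_one, pow_two]
    exact hA2 a a.2
  -- `K` normalizes `A`
  have hKA : ∀ k ∈ K, ∀ a ∈ A, k * a * k⁻¹ ∈ A := by
    intro k hk a ha
    induction ha using Subgroup.closure_induction with
    | mem s hs =>
      obtain ⟨k', hk', rfl⟩ := hs
      have e1 : k * (d * (k' * d * k'⁻¹)) * k⁻¹ =
          (d * (k * d * k⁻¹))⁻¹ * (d * (k * k' * d * (k * k')⁻¹)) := by
        rw [_root_.mul_inv_rev, hdi]
        have : (k * d * k⁻¹)⁻¹ = k * d * k⁻¹ := inv_eq_of_mul_eq_one_left (hcc k hk)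
        rw [this]
        calc k * (d * (k' * d * k'⁻¹)) * k⁻¹
            = (k * d * k⁻¹) * (k * k' * d * (k * k')⁻¹) := by group
          _ = (k * d * k⁻¹) * (d * d) * (k * k' * d * (k * k')⁻¹) := by rw [hd2, mul_one]
          _ = k * d * k⁻¹ * d * (d * (k * k' * d * (k * k')⁻¹)) := by group
      rw [e1]
      exact A.mul_mem (A.inv_mem (Subgroup.subset_closure ⟨k, hk, rfl⟩))
        (Subgroup.subset_closure ⟨k * k', K.mul_mem hk hk', rfl⟩)
    | one => simp [A.one_mem]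
    | mul x y _ _ hx hy =>
      have : k * (x * y) * k⁻¹ = (k * x * k⁻¹) * (k * y * k⁻¹) := by group
      rw [this]
      exact A.mul_mem hx hy
    | inv x _ hx =>
      have : k * x⁻¹ * k⁻¹ = (k * x * k⁻¹)⁻¹ := by group
      rw [this]
      exact A.inv_mem hx
  have hAn : (A.subgroupOf K).Normal := by
    constructor
    intro n hn g
    rw [Subgroup.mem_subgroupOf] at hn ⊢
    exact hKA g g.2 n hn
  have hsub : A.IsSubnormal := Subgroup.IsSubnormal.step A K hAK hKn.isSubnormal hAn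
  have : Fact (Nat.Prime 2) := ⟨Nat.prime_two⟩
  intro k hk
  exact Cfsg.Agent.H1.le_pCore_of_isSubnormal hsub hAp (Subgroup.subset_closure ⟨k, hk, rfl⟩)

end TransferTwo

section Fit

variable {G : Type u} [Group G] [Finite G] {D : Set G}

/-- a normal subgroup centralized by a member of a generating class is central -/
lemma le_center_of_commute (hgen : Subgroup.closure D = ⊤) (X : Subgroup G) [hX : X.Normal]
    {d : G} (hcls : ∀ e ∈ D, ∃ g : G, e = g * d * g⁻¹) (h : ∀ x ∈ X, Commute d x) :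
    X ≤ Subgroup.center G := by
  intro x hx
  rw [Subgroup.mem_center_iff]
  have hcent : Subgroup.closure D ≤ Subgroup.centralizer {x} := by
    rw [Subgroup.closure_le]
    intro e he
    obtain ⟨g, rfl⟩ := hcls e he
    rw [SetLike.mem_coe, Subgroup.mem_centralizer_iff]
    intro y hy
    rw [Set.mem_singleton_iff] at hy
    subst hy
    have h1 := h (g⁻¹ * y * g) (by have := hX.conj_mem y hx g⁻¹; rwa [inv_inv] at this)
    calc y * (g * d * g⁻¹) = g * ((g⁻¹ * y * g) * d) * g⁻¹ := by group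
      _ = g * (d * (g⁻¹ * y * g)) * g⁻¹ := by rw [h1.eq]
      _ = g * d * g⁻¹ * y := by group
  intro g
  have : g ∈ Subgroup.centralizer {x} := hcent (by rw [hgen]; trivial)
  rw [Subgroup.mem_centralizer_iff] at this
  exact (this x rfl).symm

lemma eq_one_of_sq_of_mem_three {z : G} (hz : z ∈ Cfsg.pCore 3 G) (h : z * z = 1) : z = 1 := by
  have hPp : IsPGroup 3 (Cfsg.pCore 3 G) := Cfsg.Agent.H1.pCore_isPGroup 3
  obtain ⟨j, hj⟩ := (IsPGroup.iff_orderOf.mp hPp) ⟨z, hz⟩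
  rw [Subgroup.orderOf_mk] at hj
  have h1 : orderOf z ∣ 2 := orderOf_dvd_of_pow_eq_one (by rw [pow_two]; exact h)
  rw [← orderOf_eq_one_iff]
  rcases (Nat.dvd_prime Nat.prime_two).1 h1 with h' | h'
  · exact h'
  · exfalso
    rw [h'] at hj
    rcases Nat.eq_zero_or_pos j with rfl | hjpos
    · norm_num at hj
    · have : 3 ∣ 2 := by rw [hj]; exact dvd_pow_self 3 hjpos.ne'
      omega

lemma eq_one_of_cube_of_mem_two {z : G} (hz : z ∈ Cfsg.pCore 2 G) (h : z ^ 3 = 1) : z = 1 := by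
  have hPp : IsPGroup 2 (Cfsg.pCore 2 G) := Cfsg.Agent.H1.pCore_isPGroup 2
  obtain ⟨j, hj⟩ := (IsPGroup.iff_orderOf.mp hPp) ⟨z, hz⟩
  rw [Subgroup.orderOf_mk] at hj
  have h1 : orderOf z ∣ 3 := orderOf_dvd_of_pow_eq_one h
  rw [← orderOf_eq_one_iff]
  rcases (Nat.dvd_prime Nat.prime_three).1 h1 with h' | h'
  · exact h'
  · exfalso
    rw [h'] at hj
    rcases Nat.eq_zero_or_pos j with rfl | hjpos
    · norm_num at hj
    · have : 2 ∣ 3 := by rw [hj]; exact dvd_pow_self 2 hjpos.ne'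
      omega

variable (hT : Cfsg.IsThreeTranspositionSet D) (hconj : ∀ g : G, ∀ a ∈ D, g * a * g⁻¹ ∈ D)
include hT hconj

/-- data attached to a noncentral `O₂`: an involution `u ∈ O₂(G)` commuting with `d` with
`d u ∈ D` -/
lemma exists_two_elt {d x : G} (hd : d ∈ D) (hx : x ∈ Cfsg.pCore 2 G) (hxd : x * d * x⁻¹ ≠ d) :
    ∃ u ∈ Cfsg.pCore 2 G, u ≠ 1 ∧ u * u = 1 ∧ d * u = u * d ∧ d * u ∈ D := by
  have hd2 := inv_of_mem hT hd
  have hdi := inv_eq_of_mem hT hd
  have hN : (Cfsg.pCore 2 G).Normal := Cfsg.Agent.H1.pCore_normal 2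
  have ha : x * d * x⁻¹ ∈ D := hconj x d hd
  refine ⟨d * (x * d * x⁻¹), ?_, ?_, ?_, ?_, ?_⟩
  · have : d * (x * d * x⁻¹) = (d * x * d⁻¹) * x⁻¹ := by rw [hdi]; group
    rw [this]
    exact Subgroup.mul_mem _ (hN.conj_mem x hx d) (Subgroup.inv_mem _ hx)
  · intro h
    apply hxd
    have : x * d * x⁻¹ = d⁻¹ := eq_inv_of_mul_eq_one_right h
    rw [this, hdi]
  all_goals
    have hu : d * (x * d * x⁻¹) ∈ Cfsg.pCore 2 G := by
      have : d * (x * d * x⁻¹) = (d * x * d⁻¹) * x⁻¹ := by rw [hdi]; group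
      rw [this]
      exact Subgroup.mul_mem _ (hN.conj_mem x hx d) (Subgroup.inv_mem _ hx)
    have hne : d * (x * d * x⁻¹) ≠ 1 := by
      intro h
      apply hxd
      have : x * d * x⁻¹ = d⁻¹ := eq_inv_of_mul_eq_one_right h
      rw [this, hdi]
    have hsq : (d * (x * d * x⁻¹)) ^ 2 = 1 := by
      rcases hT.2 d hd _ ha with h' | h'
      · exact h'
      · exact absurd (eq_one_of_cube_of_mem_two hu h') hne
    have hc : Commute d (x * d * x⁻¹) := commute_of_sq hT hd ha hsq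
  · rw [← pow_two]; exact hsq
  · calc d * (d * (x * d * x⁻¹)) = d * ((x * d * x⁻¹) * d) := by rw [hc.eq]
      _ = d * (x * d * x⁻¹) * d := by group
  · rw [← mul_assoc, hd2, one_mul]
    exact ha

/-- data attached to a noncentral `O₃`: an element `u ∈ O₃(G)` of order three inverted by `d`
with `d u ∈ D` -/
lemma exists_three_elt {d x : G} (hd : d ∈ D) (hx : x ∈ Cfsg.pCore 3 G)
    (hxd : x * d * x⁻¹ ≠ d) :
    ∃ u ∈ Cfsg.pCore 3 G, u ≠ 1 ∧ u ^ 3 = 1 ∧ d * u = u⁻¹ * d ∧ d * u ∈ D := by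
  have hd2 := inv_of_mem hT hd
  have hdi := inv_eq_of_mem hT hd
  have hN : (Cfsg.pCore 3 G).Normal := Cfsg.Agent.H1.pCore_normal 3
  have ha : x * d * x⁻¹ ∈ D := hconj x d hd
  have hai := inv_eq_of_mem hT ha
  have hu : d * (x * d * x⁻¹) ∈ Cfsg.pCore 3 G := by
    have : d * (x * d * x⁻¹) = (d * x * d⁻¹) * x⁻¹ := by rw [hdi]; group
    rw [this]
    exact Subgroup.mul_mem _ (hN.conj_mem x hx d) (Subgroup.inv_mem _ hx)
  have hne : d * (x * d * x⁻¹) ≠ 1 := by
    intro h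
    apply hxd
    have : x * d * x⁻¹ = d⁻¹ := eq_inv_of_mul_eq_one_right h
    rw [this, hdi]
  refine ⟨d * (x * d * x⁻¹), hu, hne, ?_, ?_, ?_⟩
  · rcases hT.2 d hd _ ha with h' | h'
    · exact absurd (eq_one_of_sq_of_mem_three hu (by rw [← pow_two]; exact h')) hne
    · exact h'
  · rw [_root_.mul_inv_rev, hai, hdi, ← mul_assoc, hd2, one_mul]
    calc x * d * x⁻¹ = x * d * x⁻¹ * (d * d) := by rw [hd2, mul_one]
      _ = x * d * x⁻¹ * d * d := by group
  · rw [← mul_assoc, hd2, one_mul]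
    exact ha

/-- `O₂(G)` and `O₃(G)` are not both moved by `d` -/
theorem not_two_and_three {d x y : G} (hd : d ∈ D) (hx : x ∈ Cfsg.pCore 2 G)
    (hy : y ∈ Cfsg.pCore 3 G) (hxd : x * d * x⁻¹ ≠ d) (hyd : y * d * y⁻¹ ≠ d) : False := by
  have hd2 := inv_of_mem hT hd
  obtain ⟨u, hu, hu1, hu2, hdu, hduD⟩ := exists_two_elt hT hconj hd hx hxd
  obtain ⟨v, hv, hv1, hv3, hdv, hdvD⟩ := exists_three_elt hT hconj hd hy hyd
  have h2 : Fact (Nat.Prime 2) := ⟨Nat.prime_two⟩
  have h3 : Fact (Nat.Prime 3) := ⟨Nat.prime_three⟩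
  have hdis : Disjoint (Cfsg.pCore 2 G) (Cfsg.pCore 3 G) :=
    IsPGroup.disjoint_of_ne 2 3 (by norm_num) _ _ (Cfsg.Agent.H1.pCore_isPGroup 2)
      (Cfsg.Agent.H1.pCore_isPGroup 3)
  have huv : Commute u v :=
    Subgroup.commute_of_normal_of_disjoint _ _ (Cfsg.Agent.H1.pCore_normal 2)
      (Cfsg.Agent.H1.pCore_normal 3) hdis u v hu hv
  have hab : d * u * (d * v) = u * v := by
    rw [hdu]
    calc u * d * (d * v) = u * (d * d) * v := by group
      _ = u * v := by rw [hd2, mul_one]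
  rcases hT.2 _ hduD _ hdvD with h | h
  · rw [hab, huv.mul_pow, pow_two u, hu2, one_mul] at h
    exact hv1 (eq_one_of_sq_of_mem_three hv (by rw [← pow_two]; exact h))
  · rw [hab, huv.mul_pow, hv3, mul_one, pow_succ, pow_two, hu2, one_mul] at h
    exact hu1 h

end Fit

section LayerPart

variable {G : Type u} [Group G] [Finite G] {D : Set G}

/-- the layer is perfect -/
lemma layer_commutator_self : ⁅Cfsg.layer G, Cfsg.layer G⁆ = Cfsg.layer G := by
  have hn : (Cfsg.layer G).Normal := Cfsg.Agent.H2.layer_normal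
  apply le_antisymm (Subgroup.commutator_le_left _ _)
  rw [Cfsg.Agent.H2.layer_le_iff]
  intro K hK
  rw [← Cfsg.Agent.H2.quasisimple_commutator_eq hK.2]
  exact Subgroup.commutator_mono (Cfsg.Agent.H2.component_le_layer hK)
    (Cfsg.Agent.H2.component_le_layer hK)

/-- an involution whose commutators with the layer lie in the Fitting subgroup centralizes the
layer -/
theorem commute_layer_of_comm_mem_fitting {d : G} (hd2 : d * d = 1)
    (h : ∀ y ∈ Cfsg.layer G, d * y * d⁻¹ * y⁻¹ ∈ Cfsg.fittingSubgroup G) :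
    ∀ y ∈ Cfsg.layer G, Commute d y := by
  have hn : (Cfsg.layer G).Normal := Cfsg.Agent.H2.layer_normal
  set L := Cfsg.layer G with hL
  set Z := Subgroup.zpowers d with hZ
  have h1 : ⁅Z, L⁆ ≤ Cfsg.fittingSubgroup G ⊓ L := by
    rw [Subgroup.commutator_le]
    intro z hz y hy
    obtain ⟨i, rfl⟩ := Subgroup.mem_zpowers_iff.1 hz
    rcases Int.even_or_odd i with ⟨j, hj⟩ | ⟨j, hj⟩
    · have : d ^ i = 1 := by
        rw [hj, ← two_mul, zpow_mul, zpow_two, hd2, one_zpow]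
      rw [this, commutatorElement_one_left]
      exact Subgroup.one_mem _
    · have : d ^ i = d := by
        rw [hj, zpow_add, zpow_one, zpow_mul, zpow_two, hd2, one_zpow, one_mul]
      rw [this, commutatorElement_def]
      refine ⟨h y hy, ?_⟩
      exact L.mul_mem (hn.conj_mem y hy d) (L.inv_mem hy)
  have h2 : ⁅⁅Z, L⁆, L⁆ = ⊥ := by
    rw [eq_bot_iff]
    calc ⁅⁅Z, L⁆, L⁆ ≤ ⁅Cfsg.fittingSubgroup G, L⁆ :=
          Subgroup.commutator_mono (h1.trans inf_le_left) le_rfl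
      _ = ⊥ := by
          rw [Subgroup.commutator_comm]
          exact Cfsg.Agent.H2.layer_commutator_fittingSubgroup
  have h3 : ⁅⁅L, Z⁆, L⁆ = ⊥ := by rw [Subgroup.commutator_comm L Z]; exact h2
  have h4 : ⁅⁅L, L⁆, Z⁆ = ⊥ := Subgroup.commutator_commutator_eq_bot_of_rotate h3 h2
  rw [layer_commutator_self, Subgroup.commutator_eq_bot_iff_le_centralizer] at h4
  intro y hy
  have := h4 hy
  rw [Subgroup.mem_centralizer_iff] at this
  exact this d (Subgroup.mem_zpowers d)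

/-- the layer, if nontrivial, is not centralized by the members of a generating class -/
theorem not_commute_layer (hgen : Subgroup.closure D = ⊤) {d : G}
    (hcls : ∀ e ∈ D, ∃ g : G, e = g * d * g⁻¹) (hne : Cfsg.layer G ≠ ⊥) :
    ¬ ∀ y ∈ Cfsg.layer G, Commute d y := by
  intro h
  have hn : (Cfsg.layer G).Normal := Cfsg.Agent.H2.layer_normal
  have hc := le_center_of_commute hgen (Cfsg.layer G) hcls h
  apply hne
  rw [eq_bot_iff, Cfsg.Agent.H2.layer_le_iff]
  intro K hK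
  exfalso
  apply Cfsg.Agent.H2.quasisimple_ne_bot hK.2
  rw [← Cfsg.Agent.H2.quasisimple_commutator_eq hK.2, Subgroup.commutator_eq_bot_iff_le_centralizer]
  intro k hk
  rw [Subgroup.mem_centralizer_iff]
  intro k' _
  have := hc (Cfsg.Agent.H2.component_le_layer hK hk)
  rw [Subgroup.mem_center_iff] at this
  exact this k'

variable (hT : Cfsg.IsThreeTranspositionSet D) (hconj : ∀ g : G, ∀ a ∈ D, g * a * g⁻¹ ∈ D)
include hT hconj

/-- there is a layer element `y` with `d d^y` of order three -/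
theorem exists_layer_three (hgen : Subgroup.closure D = ⊤) {d : G} (hd : d ∈ D)
    (hcls : ∀ e ∈ D, ∃ g : G, e = g * d * g⁻¹) (hne : Cfsg.layer G ≠ ⊥) :
    ∃ y ∈ Cfsg.layer G, (d * (y * d * y⁻¹)) ^ 3 = 1 ∧ (d * (y * d * y⁻¹)) ^ 2 ≠ 1 := by
  by_contra hcon
  push Not at hcon
  have hd2 := inv_of_mem hT hd
  have hdi := inv_eq_of_mem hT hd
  have hn : (Cfsg.layer G).Normal := Cfsg.Agent.H2.layer_normal
  have hcomm : ∀ k ∈ Cfsg.layer G, Commute d (k * d * k⁻¹) := by
    intro k hk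
    have hkD := hconj k d hd
    rcases hT.2 d hd _ hkD with h | h
    · exact commute_of_sq hT hd hkD h
    · exact commute_of_sq hT hd hkD (hcon k hk h)
  have h2 := mul_conj_mem_pCore_two (Cfsg.layer G) d hd2 hcomm
  apply not_commute_layer hgen hcls hne
  apply commute_layer_of_comm_mem_fitting hd2
  intro y hy
  have : d * y * d⁻¹ * y⁻¹ = d * (y * d * y⁻¹) := by rw [hdi]; group
  rw [this]
  exact Cfsg.Agent.H2.EqOrdSyl.pCore_le_fitting 2 Nat.prime_two (h2 y hy)

/-- there is a layer element `y` with `d d^y` of order two -/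
theorem exists_layer_two (hgen : Subgroup.closure D = ⊤) {d : G} (hd : d ∈ D)
    (hcls : ∀ e ∈ D, ∃ g : G, e = g * d * g⁻¹) (hne : Cfsg.layer G ≠ ⊥) :
    ∃ y ∈ Cfsg.layer G, (d * (y * d * y⁻¹)) ^ 2 = 1 ∧ d * (y * d * y⁻¹) ≠ 1 := by
  by_contra hcon
  push Not at hcon
  have hd2 := inv_of_mem hT hd
  have hdi := inv_eq_of_mem hT hd
  have hn : (Cfsg.layer G).Normal := Cfsg.Agent.H2.layer_normal
  have hcube : ∀ k ∈ Cfsg.layer G, (d * (k * d * k⁻¹)) ^ 3 = 1 := by
    intro k hk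
    have hkD := hconj k d hd
    rcases hT.2 d hd _ hkD with h | h
    · rw [hcon k hk h, one_pow]
    · exact h
  have hord : ∀ k ∈ Cfsg.layer G, ∀ k' ∈ Cfsg.layer G,
      ∃ j : ℕ, orderOf ((k * d * k⁻¹) * (k' * d * k'⁻¹)) = 3 ^ j := by
    intro k hk k' hk'
    have h1 := hcube (k⁻¹ * k') (Subgroup.mul_mem _ (Subgroup.inv_mem _ hk) hk')
    have e1 : (k * d * k⁻¹) * (k' * d * k'⁻¹) =
        k * (d * (k⁻¹ * k' * d * (k⁻¹ * k')⁻¹)) * k⁻¹ := by group
    have h2 : ((k * d * k⁻¹) * (k' * d * k'⁻¹)) ^ 3 = 1 := by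
      rw [e1, conj_pow, h1]
      group
    have := orderOf_dvd_of_pow_eq_one h2
    rcases (Nat.dvd_prime Nat.prime_three).1 this with h' | h'
    · exact ⟨0, by rw [h', pow_zero]⟩
    · exact ⟨1, by rw [h', pow_one]⟩
  have h3 := mul_conj_mem_pCore_three (Cfsg.layer G) d (hT.1 d hd) hord
  apply not_commute_layer hgen hcls hne
  apply commute_layer_of_comm_mem_fitting hd2
  intro y hy
  have : d * y * d⁻¹ * y⁻¹ = d * (y * d * y⁻¹) := by rw [hdi]; group
  rw [this]
  exact Cfsg.Agent.H2.EqOrdSyl.pCore_le_fitting 3 Nat.prime_three (h3 y hy)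

end LayerPart

section Trichotomy

variable {G : Type u} [Group G] [Finite G] {D : Set G}
variable (hT : Cfsg.IsThreeTranspositionSet D) (hconj : ∀ g : G, ∀ a ∈ D, g * a * g⁻¹ ∈ D)
variable (hgen : Subgroup.closure D = ⊤)
include hT hconj hgen

lemma layer_commute_fitting {u v : G} (hu : u ∈ Cfsg.fittingSubgroup G)
    (hv : v ∈ Cfsg.layer G) : Commute u v := by
  have h := Cfsg.Agent.H2.layer_commutator_fittingSubgroup (G := G)
  rw [Subgroup.commutator_eq_bot_iff_le_centralizer] at h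
  have := h hv
  rw [Subgroup.mem_centralizer_iff] at this
  exact this u hu

/-- `O₂(G)` and `E(G)` are not both noncentral -/
theorem not_two_and_layer {d x : G} (hd : d ∈ D) (hcls : ∀ e ∈ D, ∃ g : G, e = g * d * g⁻¹)
    (hx : x ∈ Cfsg.pCore 2 G) (hxd : x * d * x⁻¹ ≠ d) (hne : Cfsg.layer G ≠ ⊥) : False := by
  have hd2 := inv_of_mem hT hd
  have hdi := inv_eq_of_mem hT hd
  have hn : (Cfsg.layer G).Normal := Cfsg.Agent.H2.layer_normal
  obtain ⟨u, hu, hu1, hu2, hdu, hduD⟩ := exists_two_elt hT hconj hd hx hxd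
  obtain ⟨y, hy, hv3, hv2⟩ := exists_layer_three hT hconj hgen hd hcls hne
  set v := d * (y * d * y⁻¹) with hv
  have hvL : v ∈ Cfsg.layer G := by
    have : v = (d * y * d⁻¹) * y⁻¹ := by rw [hv, hdi]; group
    rw [this]
    exact Subgroup.mul_mem _ (hn.conj_mem y hy d) (Subgroup.inv_mem _ hy)
  have huv : Commute u v :=
    layer_commute_fitting hT hconj hgen
      (Cfsg.Agent.H2.EqOrdSyl.pCore_le_fitting 2 Nat.prime_two hu) hvL
  have hdvD : d * v ∈ D := by
    rw [hv, ← mul_assoc, hd2, one_mul]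
    exact hconj y d hd
  have hab : d * u * (d * v) = u * v := by
    rw [hdu]
    calc u * d * (d * v) = u * (d * d) * v := by group
      _ = u * v := by rw [hd2, mul_one]
  rcases hT.2 _ hduD _ hdvD with h | h
  · rw [hab, huv.mul_pow, pow_two u, hu2, one_mul] at h
    exact hv2 h
  · rw [hab, huv.mul_pow, hv3, mul_one, pow_succ, pow_two, hu2, one_mul] at h
    exact hu1 h

/-- `O₃(G)` and `E(G)` are not both noncentral -/
theorem not_three_and_layer {d x : G} (hd : d ∈ D) (hcls : ∀ e ∈ D, ∃ g : G, e = g * d * g⁻¹)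
    (hx : x ∈ Cfsg.pCore 3 G) (hxd : x * d * x⁻¹ ≠ d) (hne : Cfsg.layer G ≠ ⊥) : False := by
  have hd2 := inv_of_mem hT hd
  have hdi := inv_eq_of_mem hT hd
  have hn : (Cfsg.layer G).Normal := Cfsg.Agent.H2.layer_normal
  obtain ⟨u, hu, hu1, hu3, hdu, hduD⟩ := exists_three_elt hT hconj hd hx hxd
  obtain ⟨y, hy, hv2, hv1⟩ := exists_layer_two hT hconj hgen hd hcls hne
  set v := d * (y * d * y⁻¹) with hv
  have hvL : v ∈ Cfsg.layer G := by
    have : v = (d * y * d⁻¹) * y⁻¹ := by rw [hv, hdi]; group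
    rw [this]
    exact Subgroup.mul_mem _ (hn.conj_mem y hy d) (Subgroup.inv_mem _ hy)
  have huv : Commute u⁻¹ v :=
    layer_commute_fitting hT hconj hgen
      (Cfsg.Agent.H2.EqOrdSyl.pCore_le_fitting 3 Nat.prime_three (Subgroup.inv_mem _ hu)) hvL
  have hdvD : d * v ∈ D := by
    rw [hv, ← mul_assoc, hd2, one_mul]
    exact hconj y d hd
  have hab : d * u * (d * v) = u⁻¹ * v := by
    rw [hdu]
    calc u⁻¹ * d * (d * v) = u⁻¹ * (d * d) * v := by group
      _ = u⁻¹ * v := by rw [hd2, mul_one]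
  have hui3 : u⁻¹ ^ 3 = 1 := by rw [inv_pow, hu3, inv_one]
  rcases hT.2 _ hduD _ hdvD with h | h
  · rw [hab, huv.mul_pow, hv2, mul_one, inv_pow, inv_eq_one] at h
    apply hu1
    calc u = u ^ 3 * (u ^ 2)⁻¹ := by group
      _ = 1 := by rw [hu3, h, inv_one, one_mul]
  · rw [hab, huv.mul_pow, hui3, one_mul, pow_succ, hv2, one_mul] at h
    exact hv1 h

/-- for `p > 3` the `p`-core is central -/
theorem pCore_le_center_of_gt_three {d : G} (hd : d ∈ D)
    (hcls : ∀ e ∈ D, ∃ g : G, e = g * d * g⁻¹) {p : ℕ} (hp : p.Prime) (hp3 : 3 < p) :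
    Cfsg.pCore p G ≤ Subgroup.center G := by
  have hN : (Cfsg.pCore p G).Normal := Cfsg.Agent.H1.pCore_normal p
  apply le_center_of_commute hgen _ hcls
  apply Cfsg.Agent.S5347.result ⟨hT, hconj, hgen⟩ hp hp3 (Cfsg.pCore p G)
    (Cfsg.Agent.H1.pCore_isPGroup p) hd
  rw [Subgroup.normalizer_eq_top_iff.2 hN]
  trivial

/-- not all of `O₂(G)`, `O₃(G)`, `E(G)` are central or trivial -/
theorem exists_noncentral {d : G} (hd : d ∈ D) (hcls : ∀ e ∈ D, ∃ g : G, e = g * d * g⁻¹)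
    (hD2 : ∃ a ∈ D, ∃ b ∈ D, a ≠ b) (h2 : Cfsg.pCore 2 G ≤ Subgroup.center G)
    (h3 : Cfsg.pCore 3 G ≤ Subgroup.center G) (hL : Cfsg.layer G = ⊥) : False := by
  have hF : Cfsg.fittingSubgroup G ≤ Subgroup.center G := by
    rw [Cfsg.Agent.H1.fittingSubgroup_eq_iSup_pCore]
    apply iSup_le
    intro p
    by_cases hp2 : (p : ℕ) = 2
    · rw [hp2]; exact h2
    by_cases hp3 : (p : ℕ) = 3
    · rw [hp3]; exact h3
    · apply pCore_le_center_of_gt_three hT hconj hgen hd hcls p.2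
      have := p.2.two_le
      omega
  have hFs : Cfsg.generalizedFittingSubgroup G ≤ Subgroup.center G := by
    unfold Cfsg.generalizedFittingSubgroup
    rw [hL, bot_sup_eq]
    exact hF
  have hcen : ∀ g : G, g ∈ Subgroup.center G := by
    intro g
    apply hFs
    apply Cfsg.Agent.H2.centralizer_generalizedFittingSubgroup_le
    rw [Subgroup.mem_centralizer_iff]
    intro z hz
    have := hFs hz
    rw [Subgroup.mem_center_iff] at this
    exact (this g).symm
  obtain ⟨a, ha, b, hb, hab⟩ := hD2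
  obtain ⟨g₁, rfl⟩ := hcls a ha
  obtain ⟨g₂, rfl⟩ := hcls b hb
  apply hab
  have hc := hcen d
  rw [Subgroup.mem_center_iff] at hc
  have e1 : g₁ * d * g₁⁻¹ = d := by rw [hc g₁]; group
  have e2 : g₂ * d * g₂⁻¹ = d := by rw [hc g₂]; group
  rw [e1, e2]

end Trichotomy

section Final

variable {G : Type u} [Group G] [Finite G] {D : Set G}

lemma exists_moved (hgen : Subgroup.closure D = ⊤) (X : Subgroup G) [hX : X.Normal] {d : G}
    (hcls : ∀ e ∈ D, ∃ g : G, e = g * d * g⁻¹) (h : ¬ X ≤ Subgroup.center G) :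
    ∃ x ∈ X, x * d * x⁻¹ ≠ d := by
  by_contra hcon
  push Not at hcon
  apply h
  apply le_center_of_commute hgen X hcls
  intro x hx
  have := hcon x hx
  show d * x = x * d
  calc d * x = (x * d * x⁻¹) * x := by rw [this]
    _ = x * d := by group

/-- the Fitting trichotomy -/
theorem fitting_trichotomy (hD : Cfsg.IsThreeTranspositionClass D)
    (hD2 : ∃ a ∈ D, ∃ b ∈ D, a ≠ b) :
    (∀ p : ℕ, p.Prime → 3 < p → Cfsg.pCore p G ≤ Subgroup.center G) ∧
    ((¬ Cfsg.pCore 2 G ≤ Subgroup.center G ∧ Cfsg.pCore 3 G ≤ Subgroup.center G ∧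
        Cfsg.layer G = ⊥) ∨
      (Cfsg.pCore 2 G ≤ Subgroup.center G ∧ ¬ Cfsg.pCore 3 G ≤ Subgroup.center G ∧
        Cfsg.layer G = ⊥) ∨
      (Cfsg.pCore 2 G ≤ Subgroup.center G ∧ Cfsg.pCore 3 G ≤ Subgroup.center G ∧
        Cfsg.layer G ≠ ⊥)) := by
  obtain ⟨hT, ⟨d, hd, hcls₀⟩, hgen⟩ := hD
  have hcls : ∀ e ∈ D, ∃ g : G, e = g * d * g⁻¹ := by
    intro e he
    rw [hcls₀] at he
    have he' : IsConj d e := he
    rw [isConj_iff] at he'
    obtain ⟨c, hc⟩ := he'
    exact ⟨c, hc.symm⟩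
  have hconj : ∀ g : G, ∀ a ∈ D, g * a * g⁻¹ ∈ D := by
    intro g a ha
    obtain ⟨c, rfl⟩ := hcls a ha
    rw [hcls₀]
    show IsConj d _
    rw [isConj_iff]
    exact ⟨g * c, by group⟩
  have hN2 : (Cfsg.pCore 2 G).Normal := Cfsg.Agent.H1.pCore_normal 2
  have hN3 : (Cfsg.pCore 3 G).Normal := Cfsg.Agent.H1.pCore_normal 3
  refine ⟨fun p hp hp3 => pCore_le_center_of_gt_three hT hconj hgen hd hcls hp hp3, ?_⟩
  by_cases h2 : Cfsg.pCore 2 G ≤ Subgroup.center G
  · by_cases h3 : Cfsg.pCore 3 G ≤ Subgroup.center G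
    · right; right
      exact ⟨h2, h3, fun hL => exists_noncentral hT hconj hgen hd hcls hD2 h2 h3 hL⟩
    · right; left
      refine ⟨h2, h3, ?_⟩
      by_contra hL
      obtain ⟨x, hx, hxd⟩ := exists_moved hgen (Cfsg.pCore 3 G) hcls h3
      exact not_three_and_layer hT hconj hgen hd hcls hx hxd hL
  · left
    obtain ⟨x, hx, hxd⟩ := exists_moved hgen (Cfsg.pCore 2 G) hcls h2
    refine ⟨h2, ?_, ?_⟩
    · by_contra h3
      obtain ⟨y, hy, hyd⟩ := exists_moved hgen (Cfsg.pCore 3 G) hcls h3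
      exact not_two_and_three hT hconj hd hx hy hxd hyd
    · by_contra hL
      exact not_two_and_layer hT hconj hgen hd hcls hx hxd hL

end Final

end Cfsg.Agent.H9.TT3Width
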