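import Mathlib
import Cfsg.Agent.H9.TT3Fit
import Cfsg.Agent.Lib.helper3.Burnside

set_option autoImplicit false
set_option linter.unusedSectionVars false

/-!
The component structure of a 3-transposition group with central `O₂` and `O₃`.
-/

namespace Cfsg.Agent.H9.TT3Width

open Cfsg
open scoped commutatorElement

universe u

section Solv

/-- numbers all of whose prime divisors are 2 or 3 -/
lemma exists_two_pow_mul_three_pow (n : ℕ) (hn : n ≠ 0)
    (h : ∀ p : ℕ, p.Prime → p ∣ n → p = 2 ∨ p = 3) : ∃ a b : ℕ, n = 2 ^ a * 3 ^ b := by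
  obtain ⟨k, m, hm, rfl⟩ := Nat.exists_eq_two_pow_mul_odd hn
  have hm0 : m ≠ 0 := by
    rintro rfl
    simp at hn
  refine ⟨k, m.primeFactorsList.length, ?_⟩
  congr 1
  apply Nat.eq_prime_pow_of_unique_prime_dvd hm0
  intro p hp hpm
  rcases h p hp (Dvd.dvd.mul_left hpm _) with rfl | rfl
  · exfalso
    exact (Nat.not_even_iff_odd.2 hm) (even_iff_two_dvd.2 hpm)
  · rfl

/-- a finite group in which the square or the cube of every element is central is solvable -/
theorem isSolvable_of_sq_or_cube (H : Type u) [Group H] [Finite H]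
    (h : ∀ y : H, y ^ 2 ∈ Subgroup.center H ∨ y ^ 3 ∈ Subgroup.center H) :
    Group.IsSolvable H := by
  have hS : ∀ x : H ⧸ Subgroup.center H, x ^ 2 = 1 ∨ x ^ 3 = 1 := by
    intro x
    induction x using QuotientGroup.induction_on with
    | H y =>
      rcases h y with h' | h'
      · left
        rw [← QuotientGroup.mk_pow, QuotientGroup.eq_one_iff]
        exact h'
      · right
        rw [← QuotientGroup.mk_pow, QuotientGroup.eq_one_iff]
        exact h'
  have hcard : ∃ a b : ℕ, Nat.card (H ⧸ Subgroup.center H) = 2 ^ a * 3 ^ b := by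
    apply exists_two_pow_mul_three_pow _ Nat.card_pos.ne'
    intro p hp hpd
    have : Fact p.Prime := ⟨hp⟩
    obtain ⟨x, hx⟩ := exists_prime_orderOf_dvd_card' p hpd
    rcases hS x with h' | h'
    · left
      have := orderOf_dvd_of_pow_eq_one h'
      rw [hx] at this
      exact (Nat.prime_dvd_prime_iff_eq hp Nat.prime_two).1 this
    · right
      have := orderOf_dvd_of_pow_eq_one h'
      rw [hx] at this
      exact (Nat.prime_dvd_prime_iff_eq hp Nat.prime_three).1 this
  have hsolv : Group.IsSolvable (H ⧸ Subgroup.center H) :=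
    Cfsg.Agent.Lib.helper3.Burnside.isSolvable_of_card_eq 2 3 Nat.prime_two Nat.prime_three _ _ rfl
      hcard
  have hc : Group.IsSolvable (Subgroup.center H) := by
    apply Group.isSolvable_of_comm
    intro a b
    apply Subtype.ext
    have := a.2
    rw [Subgroup.mem_center_iff] at this
    exact (this b).symm
  apply Group.isSolvable_of_ker_le_range (Subgroup.center H).subtype
    (QuotientGroup.mk' (Subgroup.center H))
  rw [QuotientGroup.ker_mk', Subgroup.range_subtype]

end Solv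

section General

variable {G : Type u} [Group G] [Finite G] {D : Set G}

/-- an involution whose commutators with a perfect normal subgroup `K` centralized by `K` lie in
`F(G)` centralizes `K` -/
theorem commute_of_comm_mem_fitting_gen (K : Subgroup G) [hKn : K.Normal] (hperf : ⁅K, K⁆ = K)
    (hKF : ⁅K, Cfsg.fittingSubgroup G⁆ = ⊥) {d : G} (hd2 : d * d = 1)
    (h : ∀ y ∈ K, d * y * d⁻¹ * y⁻¹ ∈ Cfsg.fittingSubgroup G) :
    ∀ y ∈ K, Commute d y := by
  set Z := Subgroup.zpowers d with hZ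
  have h1 : ⁅Z, K⁆ ≤ Cfsg.fittingSubgroup G ⊓ K := by
    rw [Subgroup.commutator_le]
    intro z hz y hy
    obtain ⟨i, rfl⟩ := Subgroup.mem_zpowers_iff.1 hz
    rcases Int.even_or_odd i with ⟨j, hj⟩ | ⟨j, hj⟩
    · have : d ^ i = 1 := by
        rw [hj, ← two_mul, zpow_mul, zpow_two, hd2, one_zpow]
      rw [this, commutatorElement_one_left]
      exact Subgroup.one_mem _
    · have : d ^ i = d := by
        rw [hj, zpow_add, zpow_one, zpow_mul, zpow_two, hd2, one_zpow, one_mul]
      rw [this, commutatorElement_def]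
      refine ⟨h y hy, ?_⟩
      exact K.mul_mem (hKn.conj_mem y hy d) (K.inv_mem hy)
  have h2 : ⁅⁅Z, K⁆, K⁆ = ⊥ := by
    rw [eq_bot_iff]
    calc ⁅⁅Z, K⁆, K⁆ ≤ ⁅Cfsg.fittingSubgroup G, K⁆ :=
          Subgroup.commutator_mono (h1.trans inf_le_left) le_rfl
      _ = ⊥ := by
          rw [Subgroup.commutator_comm]
          exact hKF
  have h3 : ⁅⁅K, Z⁆, K⁆ = ⊥ := by rw [Subgroup.commutator_comm K Z]; exact h2
  have h4 : ⁅⁅K, K⁆, Z⁆ = ⊥ := Subgroup.commutator_commutator_eq_bot_of_rotate h3 h2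
  rw [hperf, Subgroup.commutator_eq_bot_iff_le_centralizer] at h4
  intro y hy
  have := h4 hy
  rw [Subgroup.mem_centralizer_iff] at this
  exact this d (Subgroup.mem_zpowers d)

variable (hT : Cfsg.IsThreeTranspositionSet D) (hconj : ∀ g : G, ∀ a ∈ D, g * a * g⁻¹ ∈ D)
include hT hconj

/-- there is `y ∈ K` with `d d^y` of order three -/
theorem exists_three_gen (K : Subgroup G) [hKn : K.Normal] (hperf : ⁅K, K⁆ = K)
    (hKF : ⁅K, Cfsg.fittingSubgroup G⁆ = ⊥) {d : G} (hd : d ∈ D)
    (hnc : ¬ ∀ y ∈ K, Commute d y) :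
    ∃ y ∈ K, (d * (y * d * y⁻¹)) ^ 3 = 1 ∧ (d * (y * d * y⁻¹)) ^ 2 ≠ 1 := by
  by_contra hcon
  push Not at hcon
  have hd2 := inv_of_mem hT hd
  have hdi := inv_eq_of_mem hT hd
  have hcomm : ∀ k ∈ K, Commute d (k * d * k⁻¹) := by
    intro k hk
    have hkD := hconj k d hd
    rcases hT.2 d hd _ hkD with h | h
    · exact commute_of_sq hT hd hkD h
    · exact commute_of_sq hT hd hkD (hcon k hk h)
  have h2 := mul_conj_mem_pCore_two K d hd2 hcomm
  apply hnc
  apply commute_of_comm_mem_fitting_gen K hperf hKF hd2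
  intro y hy
  have : d * y * d⁻¹ * y⁻¹ = d * (y * d * y⁻¹) := by rw [hdi]; group
  rw [this]
  exact Cfsg.Agent.H2.EqOrdSyl.pCore_le_fitting 2 Nat.prime_two (h2 y hy)

/-- there is `y ∈ K` with `d d^y` of order two -/
theorem exists_two_gen (K : Subgroup G) [hKn : K.Normal] (hperf : ⁅K, K⁆ = K)
    (hKF : ⁅K, Cfsg.fittingSubgroup G⁆ = ⊥) {d : G} (hd : d ∈ D)
    (hnc : ¬ ∀ y ∈ K, Commute d y) :
    ∃ y ∈ K, (d * (y * d * y⁻¹)) ^ 2 = 1 ∧ d * (y * d * y⁻¹) ≠ 1 := by
  by_contra hcon
  push Not at hcon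
  have hd2 := inv_of_mem hT hd
  have hdi := inv_eq_of_mem hT hd
  have hcube : ∀ k ∈ K, (d * (k * d * k⁻¹)) ^ 3 = 1 := by
    intro k hk
    have hkD := hconj k d hd
    rcases hT.2 d hd _ hkD with h | h
    · rw [hcon k hk h, one_pow]
    · exact h
  have hord : ∀ k ∈ K, ∀ k' ∈ K,
      ∃ j : ℕ, orderOf ((k * d * k⁻¹) * (k' * d * k'⁻¹)) = 3 ^ j := by
    intro k hk k' hk'
    have h1 := hcube (k⁻¹ * k') (Subgroup.mul_mem _ (Subgroup.inv_mem _ hk) hk')
    have e1 : (k * d * k⁻¹) * (k' * d * k'⁻¹) =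
        k * (d * (k⁻¹ * k' * d * (k⁻¹ * k')⁻¹)) * k⁻¹ := by group
    have h2 : ((k * d * k⁻¹) * (k' * d * k'⁻¹)) ^ 3 = 1 := by
      rw [e1, conj_pow, h1]
      group
    have := orderOf_dvd_of_pow_eq_one h2
    rcases (Nat.dvd_prime Nat.prime_three).1 this with h' | h'
    · exact ⟨0, by rw [h', pow_zero]⟩
    · exact ⟨1, by rw [h', pow_one]⟩
  have h3 := mul_conj_mem_pCore_three K d (hT.1 d hd) hord
  apply hnc
  apply commute_of_comm_mem_fitting_gen K hperf hKF hd2
  intro y hy
  have : d * y * d⁻¹ * y⁻¹ = d * (y * d * y⁻¹) := by rw [hdi]; group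
  rw [this]
  exact Cfsg.Agent.H2.EqOrdSyl.pCore_le_fitting 3 Nat.prime_three (h3 y hy)

end General

section Components

variable {G : Type u} [Group G] [Finite G] {D : Set G}
variable (hT : Cfsg.IsThreeTranspositionSet D) (hconj : ∀ g : G, ∀ a ∈ D, g * a * g⁻¹ ∈ D)
include hT hconj

/-- a 3-transposition normalizes every component -/
theorem conj_component_eq {d : G} (hd : d ∈ D) {K : Subgroup G} (hK : Cfsg.IsComponent K) :
    K.map (MulAut.conj d).toMonoidHom = K := by
  by_contra hne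
  set K' := K.map (MulAut.conj d).toMonoidHom with hK'def
  have hK' : Cfsg.IsComponent K' := Cfsg.Agent.H2.component_conj hK d
  have hcomm : ⁅K, K'⁆ = ⊥ := Cfsg.Agent.H2.components_commute hK hK' (Ne.symm hne)
  have hc := (Cfsg.Agent.H2.commutator_eq_bot_iff_forall_commute K K').1 hcomm
  have hd2 := inv_of_mem hT hd
  have hdi := inv_eq_of_mem hT hd
  apply Cfsg.Agent.H2.quasisimple_not_isSolvable hK.2
  apply isSolvable_of_sq_or_cube
  intro y
  have hyD := hconj (y : G) d hd
  have hz : d * (y : G) * d⁻¹ ∈ K' := ⟨(y : G), y.2, rfl⟩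
  have hzy : Commute (d * (y : G) * d⁻¹) ((y : G)⁻¹) :=
    (hc _ (K.inv_mem y.2) _ hz).symm
  have hu : d * ((y : G) * d * (y : G)⁻¹) = (d * (y : G) * d⁻¹) * (y : G)⁻¹ := by
    rw [hdi]; group
  have key : ∀ n : ℕ, (d * ((y : G) * d * (y : G)⁻¹)) ^ n = 1 → y ^ n ∈ Subgroup.center ↥K := by
    intro n hn
    rw [hu, hzy.mul_pow, inv_pow, mul_inv_eq_one] at hn
    have hyn : (y : G) ^ n ∈ K' := by
      rw [← hn]
      exact K'.pow_mem hz n
    rw [Subgroup.mem_center_iff]
    intro g
    apply Subtype.ext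
    show (g : G) * (y : G) ^ n = (y : G) ^ n * (g : G)
    exact hc _ g.2 _ hyn
  rcases hT.2 d hd _ hyD with h | h
  · exact Or.inl (key 2 h)
  · exact Or.inr (key 3 h)

/-- every component is normal -/
theorem component_normal (hgen : Subgroup.closure D = ⊤) {K : Subgroup G}
    (hK : Cfsg.IsComponent K) : K.Normal := by
  rw [← Subgroup.normalizer_eq_top_iff, eq_top_iff, ← hgen, Subgroup.closure_le]
  intro e he
  have h1 := conj_component_eq hT hconj he hK
  rw [SetLike.mem_coe, Subgroup.mem_normalizer_iff]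
  intro h
  constructor
  · intro hh
    rw [← h1]
    exact ⟨h, hh, rfl⟩
  · intro hh
    rw [← h1] at hh
    obtain ⟨k, hk, hke⟩ := hh
    have : k = h := by
      have h2 : e * k * e⁻¹ = e * h * e⁻¹ := hke
      calc k = e⁻¹ * (e * k * e⁻¹) * e := by group
        _ = e⁻¹ * (e * h * e⁻¹) * e := by rw [h2]
        _ = h := by group
    rw [← this]
    exact hk

/-- a component is not centralized by the members of a generating class -/
theorem not_commute_component (hgen : Subgroup.closure D = ⊤) {d : G}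
    (hcls : ∀ e ∈ D, ∃ g : G, e = g * d * g⁻¹) {K : Subgroup G} (hK : Cfsg.IsComponent K) :
    ¬ ∀ y ∈ K, Commute d y := by
  intro h
  have hn : K.Normal := component_normal hT hconj hgen hK
  have hc := le_center_of_commute hgen K hcls h
  apply Cfsg.Agent.H2.quasisimple_ne_bot hK.2
  rw [← Cfsg.Agent.H2.quasisimple_commutator_eq hK.2,
    Cfsg.Agent.H2.commutator_eq_bot_iff_forall_commute]
  intro a ha b _
  have := hc ha
  rw [Subgroup.mem_center_iff] at this
  exact (this b).symm

/-- there is at most one component -/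
theorem component_unique (hgen : Subgroup.closure D = ⊤) {d : G} (hd : d ∈ D)
    (hcls : ∀ e ∈ D, ∃ g : G, e = g * d * g⁻¹) {K₁ K₂ : Subgroup G}
    (h₁ : Cfsg.IsComponent K₁) (h₂ : Cfsg.IsComponent K₂) : K₁ = K₂ := by
  by_contra hne
  have hn₁ : K₁.Normal := component_normal hT hconj hgen h₁
  have hn₂ : K₂.Normal := component_normal hT hconj hgen h₂
  have hc := (Cfsg.Agent.H2.commutator_eq_bot_iff_forall_commute K₁ K₂).1
    (Cfsg.Agent.H2.components_commute h₁ h₂ hne)
  have hperf₁ := Cfsg.Agent.H2.quasisimple_commutator_eq h₁.2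
  have hperf₂ := Cfsg.Agent.H2.quasisimple_commutator_eq h₂.2
  have hF₁ : ⁅K₁, Cfsg.fittingSubgroup G⁆ = ⊥ :=
    Cfsg.Agent.H2.component_commutator_normal_solvable h₁ _
      Cfsg.Agent.H2.fittingSubgroup_isSolvable
  have hF₂ : ⁅K₂, Cfsg.fittingSubgroup G⁆ = ⊥ :=
    Cfsg.Agent.H2.component_commutator_normal_solvable h₂ _
      Cfsg.Agent.H2.fittingSubgroup_isSolvable
  obtain ⟨y₁, hy₁, h3, h3'⟩ := exists_three_gen hT hconj K₁ hperf₁ hF₁ hd
    (not_commute_component hT hconj hgen hcls h₁)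
  obtain ⟨y₂, hy₂, h2, h2'⟩ := exists_two_gen hT hconj K₂ hperf₂ hF₂ hd
    (not_commute_component hT hconj hgen hcls h₂)
  have hd2 := inv_of_mem hT hd
  have hdi := inv_eq_of_mem hT hd
  set a := y₁ * d * y₁⁻¹ with ha
  set b := y₂ * d * y₂⁻¹ with hb
  have haD : a ∈ D := hconj y₁ d hd
  have hbD : b ∈ D := hconj y₂ d hd
  have hv₁ : d * a ∈ K₁ := by
    have : d * a = (d * y₁ * d⁻¹) * y₁⁻¹ := by rw [ha, hdi]; group
    rw [this]
    exact K₁.mul_mem (hn₁.conj_mem y₁ hy₁ d) (K₁.inv_mem hy₁)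
  have hv₂ : d * b ∈ K₂ := by
    have : d * b = (d * y₂ * d⁻¹) * y₂⁻¹ := by rw [hb, hdi]; group
    rw [this]
    exact K₂.mul_mem (hn₂.conj_mem y₂ hy₂ d) (K₂.inv_mem hy₂)
  have hcomm : Commute (d * a)⁻¹ (d * b) := hc _ (K₁.inv_mem hv₁) _ hv₂
  have hab : a * b = (d * a)⁻¹ * (d * b) := by
    rw [_root_.mul_inv_rev, inv_eq_of_mem hT haD]
    group
  rcases hT.2 a haD b hbD with h | h
  · rw [hab, hcomm.mul_pow, h2, mul_one, inv_pow, inv_eq_one] at h
    exact h3' h
  · rw [hab, hcomm.mul_pow, inv_pow, h3, inv_one, one_mul, pow_succ, h2, one_mul] at h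
    exact h2' h

end Components

section Structure

variable {G : Type u} [Group G] [Finite G] {D : Set G}
variable (hT : Cfsg.IsThreeTranspositionSet D) (hconj : ∀ g : G, ∀ a ∈ D, g * a * g⁻¹ ∈ D)
variable (hgen : Subgroup.closure D = ⊤)
include hT hconj hgen

/-- with `O₂`, `O₃` central the Fitting subgroup is the centre -/
theorem fitting_eq_center {d : G} (hd : d ∈ D) (hcls : ∀ e ∈ D, ∃ g : G, e = g * d * g⁻¹)
    (h2 : Cfsg.pCore 2 G ≤ Subgroup.center G) (h3 : Cfsg.pCore 3 G ≤ Subgroup.center G) :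
    Cfsg.fittingSubgroup G = Subgroup.center G := by
  apply le_antisymm
  · rw [Cfsg.Agent.H1.fittingSubgroup_eq_iSup_pCore]
    apply iSup_le
    intro p
    by_cases hp2 : (p : ℕ) = 2
    · rw [hp2]; exact h2
    by_cases hp3 : (p : ℕ) = 3
    · rw [hp3]; exact h3
    · apply pCore_le_center_of_gt_three hT hconj hgen hd hcls p.2
      have := p.2.two_le
      omega
  · apply Cfsg.Agent.H1.le_fittingSubgroup inferInstance
    apply Cfsg.Agent.H2.isNilpotent_of_commutator_eq_bot
    rw [Cfsg.Agent.H2.commutator_eq_bot_iff_forall_commute]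
    intro a ha b _
    rw [Subgroup.mem_center_iff] at ha
    exact (ha b).symm

/-- with `O₂`, `O₃` central the layer is a component -/
theorem layer_isComponent {d : G} (hd : d ∈ D) (hcls : ∀ e ∈ D, ∃ g : G, e = g * d * g⁻¹)
    (hD2 : ∃ a ∈ D, ∃ b ∈ D, a ≠ b)
    (h2 : Cfsg.pCore 2 G ≤ Subgroup.center G) (h3 : Cfsg.pCore 3 G ≤ Subgroup.center G) :
    Cfsg.IsComponent (Cfsg.layer G) := by
  have hne : Cfsg.layer G ≠ ⊥ := fun hL => exists_noncentral hT hconj hgen hd hcls hD2 h2 h3 hL
  have hex : ∃ K : Subgroup G, Cfsg.IsComponent K := by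
    by_contra hcon
    push Not at hcon
    apply hne
    rw [eq_bot_iff, Cfsg.Agent.H2.layer_le_iff]
    intro K hK
    exact absurd hK (hcon K)
  obtain ⟨K, hK⟩ := hex
  have : Cfsg.layer G = K := by
    apply le_antisymm
    · rw [Cfsg.Agent.H2.layer_le_iff]
      intro K' hK'
      rw [component_unique hT hconj hgen hd hcls hK' hK]
    · exact Cfsg.Agent.H2.component_le_layer hK
  rw [this]
  exact hK

/-- modulo the layer, commuting members of `D` coincide -/
theorem mul_mem_layer_of_comm_mem {d : G} (hcls : ∀ e ∈ D, ∃ g : G, e = g * d * g⁻¹)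
    (hL : Cfsg.IsComponent (Cfsg.layer G)) {a b : G} (ha : a ∈ D) (hb : b ∈ D)
    (hab : a * b * a⁻¹ * b⁻¹ ∈ Cfsg.layer G) : a⁻¹ * b ∈ Cfsg.layer G := by
  have hn : (Cfsg.layer G).Normal := Cfsg.Agent.H2.layer_normal
  set L := Cfsg.layer G with hLdef
  have hai := inv_eq_of_mem hT ha
  have hbi := inv_eq_of_mem hT hb
  have ha2 := inv_of_mem hT ha
  have hclsOf : ∀ c ∈ D, ∀ e ∈ D, ∃ g : G, e = g * c * g⁻¹ := by
    intro c hc e he
    obtain ⟨g₁, rfl⟩ := hcls c hc
    obtain ⟨g₂, rfl⟩ := hcls e he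
    exact ⟨g₂ * g₁⁻¹, by group⟩
  rw [hai]
  rw [hai, hbi] at hab
  rcases hT.2 a ha b hb with h | h
  · -- the commuting case
    have hcab : Commute a b := commute_of_sq hT ha hb h
    by_contra hnot
    -- every `L`-conjugate of `a` commutes with `b`
    have h1 : ∀ y ∈ L, Commute (y * a * y⁻¹) b := by
      intro y hy
      have hyD := hconj y a ha
      rcases hT.2 _ hyD b hb with h' | h'
      · exact commute_of_sq hT hyD hb h'
      · exfalso
        apply hnot
        have hc : y * a * y⁻¹ * a⁻¹ ∈ L := by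
          have : y * a * y⁻¹ * a⁻¹ = y * (a * y⁻¹ * a⁻¹) := by group
          rw [this]
          exact L.mul_mem hy (hn.conj_mem _ (L.inv_mem hy) a)
        have e1 : QuotientGroup.mk' L (y * a * y⁻¹ * b) = QuotientGroup.mk' L (a * b) := by
          have : y * a * y⁻¹ * b = (y * a * y⁻¹ * a⁻¹) * (a * b) := by group
          have hq : QuotientGroup.mk' L (y * a * y⁻¹ * a⁻¹) = 1 :=
            (QuotientGroup.eq_one_iff _).2 hc
          rw [this, map_mul, hq, one_mul]
        have e2 : (QuotientGroup.mk' L (a * b)) ^ 3 = 1 := by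
          rw [← e1, ← map_pow, h', map_one]
        have e3 : (QuotientGroup.mk' L (a * b)) ^ 2 = 1 := by
          rw [← map_pow, h, map_one]
        have e4 : QuotientGroup.mk' L (a * b) = 1 := by
          calc QuotientGroup.mk' L (a * b)
              = (QuotientGroup.mk' L (a * b)) ^ 3 * ((QuotientGroup.mk' L (a * b)) ^ 2)⁻¹ := by
                group
            _ = 1 := by rw [e2, e3, inv_one, one_mul]
        exact (QuotientGroup.eq_one_iff _).1 e4
    -- the subgroup generated by the commutators of `a` with `L`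
    set S : Set G := {s : G | ∃ y ∈ L, s = a * y * a⁻¹ * y⁻¹} with hS
    set K := Subgroup.closure S with hK
    have hSL : S ⊆ L := by
      rintro s ⟨y, hy, rfl⟩
      exact L.mul_mem (hn.conj_mem y hy a) (L.inv_mem hy)
    have hKL : K ≤ L := (Subgroup.closure_le L).2 hSL
    have hKb : ∀ k ∈ K, Commute b k := by
      intro k hk
      induction hk using Subgroup.closure_induction with
      | mem s hs =>
        obtain ⟨y, hy, rfl⟩ := hs
        have e : a * y * a⁻¹ * y⁻¹ = a * (y * a * y⁻¹)⁻¹ := by group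
        rw [e]
        exact (hcab.symm).mul_right ((h1 y hy).symm.inv_right)
      | one => exact Commute.one_right b
      | mul x y _ _ hx hy => exact hx.mul_right hy
      | inv x _ hx => exact hx.inv_right
    have hKn : ∀ y ∈ L, ∀ k ∈ K, y * k * y⁻¹ ∈ K := by
      intro y hy k hk
      induction hk using Subgroup.closure_induction with
      | mem s hs =>
        obtain ⟨y', hy', rfl⟩ := hs
        have e : y * (a * y' * a⁻¹ * y'⁻¹) * y⁻¹ =
            (a * y * a⁻¹ * y⁻¹)⁻¹ * (a * (y * y') * a⁻¹ * (y * y')⁻¹) := by group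
        rw [e]
        exact K.mul_mem (K.inv_mem (Subgroup.subset_closure ⟨y, hy, rfl⟩))
          (Subgroup.subset_closure ⟨y * y', L.mul_mem hy hy', rfl⟩)
      | one => simp [K.one_mem]
      | mul x z _ _ hx hz =>
        have : y * (x * z) * y⁻¹ = (y * x * y⁻¹) * (y * z * y⁻¹) := by group
        rw [this]
        exact K.mul_mem hx hz
      | inv x _ hx =>
        have : y * x⁻¹ * y⁻¹ = (y * x * y⁻¹)⁻¹ := by group
        rw [this]
        exact K.inv_mem hx
    have hKnL : (K.subgroupOf L).Normal := by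
      constructor
      intro n hn' g
      rw [Subgroup.mem_subgroupOf] at hn' ⊢
      exact hKn g g.2 n hn'
    rcases Cfsg.Agent.H2.IsQuasisimple.eq_top_or_le_center hL.2 (K.subgroupOf L)
      hKnL.isSubnormal with htop | hcen
    · -- `b` centralizes the layer
      apply not_commute_component hT hconj hgen (hclsOf b hb) hL
      intro y hy
      apply hKb
      have : (⟨y, hy⟩ : ↥L) ∈ K.subgroupOf L := by rw [htop]; trivial
      exact Subgroup.mem_subgroupOf.1 this
    · -- `a` centralizes the layer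
      apply not_commute_component hT hconj hgen (hclsOf a ha) hL
      apply commute_of_comm_mem_fitting_gen L
        (Cfsg.Agent.H2.quasisimple_commutator_eq hL.2)
        Cfsg.Agent.H2.layer_commutator_fittingSubgroup ha2
      intro y hy
      apply Cfsg.Agent.H2.center_layer_le_fittingSubgroup
      have hk : a * y * a⁻¹ * y⁻¹ ∈ K := Subgroup.subset_closure ⟨y, hy, rfl⟩
      exact ⟨⟨a * y * a⁻¹ * y⁻¹, hKL hk⟩, hcen (Subgroup.mem_subgroupOf.2 hk), rfl⟩
  · -- the non-commuting case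
    have e1 : a * b * a * b = (a * b) ^ 2 := by rw [pow_two]; group
    have e2 : a * b = ((a * b) ^ 2)⁻¹ := by
      rw [eq_inv_iff_mul_eq_one, ← pow_succ']
      exact h
    rw [e2, ← e1]
    exact L.inv_mem hab

/-- the component structure theorem -/
theorem component_structure {d : G} (hd : d ∈ D) (hcls : ∀ e ∈ D, ∃ g : G, e = g * d * g⁻¹)
    (hD2 : ∃ a ∈ D, ∃ b ∈ D, a ≠ b)
    (h2 : Cfsg.pCore 2 G ≤ Subgroup.center G) (h3 : Cfsg.pCore 3 G ≤ Subgroup.center G) :
    ∃ L : Subgroup G, L.Normal ∧ Cfsg.IsQuasisimple L ∧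
      Cfsg.generalizedFittingSubgroup G = L ⊔ Subgroup.center G ∧
      (L = ⊤ ∨ ∀ a ∈ D, ∀ b ∈ D, a * b * a⁻¹ * b⁻¹ ∈ L → a⁻¹ * b ∈ L) := by
  have hL := layer_isComponent hT hconj hgen hd hcls hD2 h2 h3
  refine ⟨Cfsg.layer G, Cfsg.Agent.H2.layer_normal, hL.2, ?_, Or.inr ?_⟩
  · unfold Cfsg.generalizedFittingSubgroup
    rw [fitting_eq_center hT hconj hgen hd hcls h2 h3]
  · intro a ha b hb hab
    exact mul_mem_layer_of_comm_mem hT hconj hgen hcls hL ha hb hab

end Structure

end Cfsg.Agent.H9.TT3Width
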