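import Mathlib
import Cfsg.Agent.H9.TT3Comp
import Cfsg.Agent.Lib.Lead.ThreeTransp

set_option autoImplicit false
set_option linter.unusedSectionVars false

/-!
Primitivity of a 3-transposition group with central `O₂`, `O₃` on its class, and the index of the
layer when the commuting graph is connected.
-/

namespace Cfsg.Agent.H9.TT3Width

open Cfsg
open scoped commutatorElement

universe u

section Prim

variable {G : Type u} [Group G] [Finite G] {D : Set G}
variable (hT : Cfsg.IsThreeTranspositionSet D) (hconj : ∀ g : G, ∀ a ∈ D, g * a * g⁻¹ ∈ D)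

section Rel

variable (R : G → G → Prop) (hRs : ∀ x y, R x y → R y x)
  (hRt : ∀ x y z, R x y → R y z → R x z)
  (hRr : ∀ x ∈ D, R x x) (hRc : ∀ g x y, R x y → R (g * x * g⁻¹) (g * y * g⁻¹))
include hT hconj hRs hRt hRr hRc

/-- if `x` commutes with one member of a block not containing `x`, it commutes with all -/
lemma commute_of_rel_of_commute {x c c' : G} (hx : x ∈ D) (hc' : c' ∈ D)
    (hcc : R c c') (hcx : ¬ R c x) (hxc : Commute x c) : Commute x c' := by
  by_contra hn
  have h3 : (x * c') ^ 3 = 1 := cube_of_not_commute hT hx hc' hn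
  have hb : x * c' * x = c' * x * c' := braid hT hx hc' h3
  have hxi := inv_eq_of_mem hT hx
  have hci := inv_eq_of_mem hT hc'
  have h1 : R (x * c * x⁻¹) (x * c' * x⁻¹) := hRc x c c' hcc
  have h2 : x * c * x⁻¹ = c := by rw [hxc.eq]; group
  have h3' : x * c' * x⁻¹ = c' * x * c'⁻¹ := by rw [hxi, hci]; exact hb
  rw [h2, h3'] at h1
  have h4 : R c' (c' * x * c'⁻¹) := hRt _ _ _ (hRs _ _ hcc) h1
  have h5 := hRc c'⁻¹ _ _ h4
  have e1 : c'⁻¹ * c' * c'⁻¹⁻¹ = c' := by group
  have e2 : c'⁻¹ * (c' * x * c'⁻¹) * c'⁻¹⁻¹ = x := by group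
  rw [e1, e2] at h5
  exact hcx (hRt _ _ _ hcc h5)

/-- Lemma P: members of the same block act in the same way on the blocks -/
lemma rel_conj_conj {a b x : G} (ha : a ∈ D) (hb : b ∈ D) (hx : x ∈ D) (hab : R a b) :
    R (a * x * a⁻¹) (b * x * b⁻¹) := by
  have hai := inv_eq_of_mem hT ha
  have hbi := inv_eq_of_mem hT hb
  have hxi := inv_eq_of_mem hT hx
  by_cases hax : R a x
  · have h1 : R (a * a * a⁻¹) (a * x * a⁻¹) := hRc a a x hax
    have e1 : a * a * a⁻¹ = a := by group
    rw [e1] at h1
    have hbx : R b x := hRt _ _ _ (hRs _ _ hab) hax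
    have h2 : R (b * b * b⁻¹) (b * x * b⁻¹) := hRc b b x hbx
    have e2 : b * b * b⁻¹ = b := by group
    rw [e2] at h2
    exact hRt _ _ _ (hRs _ _ h1) (hRt _ _ _ hab h2)
  · by_cases hxa : Commute x a
    · have hxb : Commute x b :=
        commute_of_rel_of_commute hT hconj R hRs hRt hRr hRc hx hb hab hax hxa
      have e1 : a * x * a⁻¹ = x := by rw [← hxa.eq]; group
      have e2 : b * x * b⁻¹ = x := by rw [← hxb.eq]; group
      rw [e1, e2]
      exact hRr x hx
    · have hxb : ¬ Commute x b := by
        intro hxb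
        apply hxa
        have hbx : ¬ R b x := fun h => hax (hRt _ _ _ hab h)
        exact commute_of_rel_of_commute hT hconj R hRs hRt hRr hRc hx ha (hRs _ _ hab) hbx hxb
      have h3a : (x * a) ^ 3 = 1 := cube_of_not_commute hT hx ha hxa
      have h3b : (x * b) ^ 3 = 1 := cube_of_not_commute hT hx hb hxb
      have ba := braid hT hx ha h3a
      have bb := braid hT hx hb h3b
      have e1 : a * x * a⁻¹ = x * a * x⁻¹ := by rw [hai, hxi]; exact ba.symm
      have e2 : b * x * b⁻¹ = x * b * x⁻¹ := by rw [hbi, hxi]; exact bb.symm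
      rw [e1, e2]
      exact hRc x a b hab

/-- the kernel of the action on the blocks -/
def kerR : Subgroup G where
  carrier := {g : G | ∀ x ∈ D, R (g * x * g⁻¹) x}
  one_mem' := by
    intro x hx
    have e : (1 : G) * x * 1⁻¹ = x := by group
    rw [e]
    exact hRr x hx
  mul_mem' := by
    intro g h hg hh x hx
    have e : g * h * x * (g * h)⁻¹ = g * (h * x * h⁻¹) * g⁻¹ := by group
    rw [e]
    exact hRt _ _ _ (hg _ (hconj h x hx)) (hh x hx)
  inv_mem' := by
    intro g hg x hx
    have h1 := hg (g⁻¹ * x * g⁻¹⁻¹) (hconj g⁻¹ x hx)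
    have e : g * (g⁻¹ * x * g⁻¹⁻¹) * g⁻¹ = x := by group
    rw [e] at h1
    exact hRs _ _ h1

omit hT hRc in
lemma mem_kerR (g : G) :
    g ∈ kerR hconj R hRs hRt hRr ↔ ∀ x ∈ D, R (g * x * g⁻¹) x := Iff.rfl

lemma kerR_normal : (kerR hconj R hRs hRt hRr).Normal := by
  constructor
  intro n hn g
  rw [mem_kerR] at hn ⊢
  intro x hx
  have h1 := hn (g⁻¹ * x * g⁻¹⁻¹) (hconj g⁻¹ x hx)
  have h2 := hRc g _ _ h1
  have e1 : g * (n * (g⁻¹ * x * g⁻¹⁻¹) * n⁻¹) * g⁻¹ = g * n * g⁻¹ * x * (g * n * g⁻¹)⁻¹ := by
    group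
  have e2 : g * (g⁻¹ * x * g⁻¹⁻¹) * g⁻¹ = x := by group
  rw [e1, e2] at h2
  exact h2

lemma mul_mem_kerR {a b : G} (ha : a ∈ D) (hb : b ∈ D) (hab : R a b) :
    a * b ∈ kerR hconj R hRs hRt hRr := by
  rw [mem_kerR]
  intro x hx
  have hbi := inv_eq_of_mem hT hb
  have h1 := rel_conj_conj hT hconj R hRs hRt hRr hRc ha hb (hconj b x hx) hab
  have e1 : a * (b * x * b⁻¹) * a⁻¹ = a * b * x * (a * b)⁻¹ := by group
  have e2 : b * (b * x * b⁻¹) * b⁻¹ = x := by
    rw [hbi]
    have := inv_of_mem hT hb
    calc b * (b * x * b) * b = (b * b) * x * (b * b) := by group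
      _ = x := by rw [this]; group
  rw [e1, e2] at h1
  exact h1

end Rel

section Main

variable (hgen : Subgroup.closure D = ⊤)
include hT hconj hgen

/-- a normal subgroup is central or contains the layer -/
theorem le_center_or_layer_le {d : G} (hd : d ∈ D) (hcls : ∀ e ∈ D, ∃ g : G, e = g * d * g⁻¹)
    (h2 : Cfsg.pCore 2 G ≤ Subgroup.center G) (h3 : Cfsg.pCore 3 G ≤ Subgroup.center G)
    (hL : Cfsg.IsComponent (Cfsg.layer G)) (N : Subgroup G) [hN : N.Normal] :
    N ≤ Subgroup.center G ∨ Cfsg.layer G ≤ N := by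
  rcases Cfsg.Agent.H2.component_le_or_commutator_eq_bot (Cfsg.layer G) N hL hN.isSubnormal
    with h | h
  · exact Or.inr h
  · left
    have hc := (Cfsg.Agent.H2.commutator_eq_bot_iff_forall_commute _ _).1 h
    have hFc := fitting_eq_center hT hconj hgen hd hcls h2 h3
    have hLn : (Cfsg.layer G).Normal := Cfsg.Agent.H2.layer_normal
    intro n hn
    have hle : Cfsg.generalizedFittingSubgroup G ≤ Subgroup.centralizer ({n} : Set G) := by
      unfold Cfsg.generalizedFittingSubgroup
      rw [hFc]
      apply sup_le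
      · intro y hy
        rw [Subgroup.mem_centralizer_iff]
        intro k hk
        rw [Set.mem_singleton_iff] at hk
        subst hk
        exact (hc y hy k hn).symm
      · intro y hy
        rw [Subgroup.mem_centralizer_iff]
        intro k _
        exact Subgroup.mem_center_iff.1 hy k
    have hnC : n ∈ Subgroup.centralizer (Cfsg.generalizedFittingSubgroup G : Set G) := by
      rw [Subgroup.mem_centralizer_iff]
      intro y hy
      have := hle hy
      rw [Subgroup.mem_centralizer_iff] at this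
      exact (this n rfl).symm
    have hnF := Cfsg.Agent.H2.centralizer_generalizedFittingSubgroup_le hnC
    unfold Cfsg.generalizedFittingSubgroup at hnF
    rw [hFc] at hnF
    have hnF' : n ∈ ((Cfsg.layer G ⊔ Subgroup.center G : Subgroup G) : Set G) := hnF
    rw [Subgroup.mul_normal] at hnF'
    obtain ⟨l, hl, z, hz, rfl⟩ := Set.mem_mul.1 hnF'
    have hz' := Subgroup.mem_center_iff.1 hz
    have hlc : l ∈ (Subgroup.center (Cfsg.layer G)).map (Cfsg.layer G).subtype := by
      rw [Cfsg.Agent.H2.mem_map_subtype_center_iff]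
      refine ⟨hl, fun k hk => ?_⟩
      have h1 := hc k hk (l * z) hn
      have h2 : k * l * z = l * k * z := by
        rw [mul_assoc, h1, mul_assoc, mul_assoc, hz' k]
      exact mul_right_cancel h2
    have hlF := Cfsg.Agent.H2.center_layer_le_fittingSubgroup hlc
    rw [hFc] at hlF
    exact mul_mem hlF hz

/-- connectedness of the commuting graph forces index at most two -/
theorem index_le_two_of_connected {d : G} (hd : d ∈ D)
    (hcls : ∀ e ∈ D, ∃ g : G, e = g * d * g⁻¹)
    (hL : Cfsg.IsComponent (Cfsg.layer G)) (hconn : (Cfsg.commutingGraph D).Connected) :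
    (Cfsg.layer G).index ≤ 2 := by
  have hLn : (Cfsg.layer G).Normal := Cfsg.Agent.H2.layer_normal
  have hdi := inv_eq_of_mem hT hd
  have hd2 := inv_of_mem hT hd
  have key : ∀ e : D, d⁻¹ * (e : G) ∈ Cfsg.layer G := by
    intro e
    have hr : (Cfsg.commutingGraph D).Reachable ⟨d, hd⟩ e := hconn.preconnected _ _
    rw [SimpleGraph.reachable_iff_reflTransGen] at hr
    induction hr with
    | refl => simp
    | @tail b c _ hbc ih =>
      have hcomm : Commute (b : G) (c : G) := by
        unfold Cfsg.commutingGraph at hbc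
        rw [SimpleGraph.fromRel_adj] at hbc
        rcases hbc.2 with h | h
        · exact h
        · exact h.symm
      have h1 : (b : G) * c * (b : G)⁻¹ * (c : G)⁻¹ ∈ Cfsg.layer G := by
        have : (b : G) * c * (b : G)⁻¹ * (c : G)⁻¹ = 1 := by rw [hcomm.eq]; group
        rw [this]
        exact one_mem _
      have h2 := mul_mem_layer_of_comm_mem hT hconj hgen hcls hL b.2 c.2 h1
      have : d⁻¹ * (c : G) = (d⁻¹ * b) * ((b : G)⁻¹ * c) := by group
      rw [this]
      exact mul_mem ih h2
  have hq : ∀ g : G, (QuotientGroup.mk' (Cfsg.layer G) g = 1) ∨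
      (QuotientGroup.mk' (Cfsg.layer G) g = QuotientGroup.mk' (Cfsg.layer G) d) := by
    intro g
    have hg : g ∈ Subgroup.closure D := by rw [hgen]; trivial
    induction hg using Subgroup.closure_induction with
    | mem e he =>
      right
      exact (QuotientGroup.eq.2 (key ⟨e, he⟩)).symm
    | one => left; exact map_one _
    | mul x y _ _ hx hy =>
      rw [map_mul]
      rcases hx with hx | hx <;> rcases hy with hy | hy <;> rw [hx, hy]
      · left; exact one_mul _
      · right; exact one_mul _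
      · right; exact mul_one _
      · left; rw [← map_mul, hd2, map_one]
    | inv x _ hx =>
      rw [map_inv]
      rcases hx with hx | hx <;> rw [hx]
      · left; exact inv_one
      · right; rw [← map_inv, hdi]
  have hsub : (Set.univ : Set (G ⧸ Cfsg.layer G)) ⊆
      {1, QuotientGroup.mk' (Cfsg.layer G) d} := by
    intro q _
    obtain ⟨g, rfl⟩ := QuotientGroup.mk_surjective q
    rcases hq g with h | h
    · left; exact h
    · right; exact h
  rw [Subgroup.index_eq_card, ← Set.ncard_univ]
  refine (Set.ncard_le_ncard hsub (Set.toFinite _)).trans ?_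
  refine (Set.ncard_insert_le _ _).trans ?_
  rw [Set.ncard_singleton]

/-- with the layer of index at most two, a nontrivial invariant equivalence relation on `D` is
  universal -/
theorem rel_all_of_index_le_two (hD : Cfsg.IsThreeTranspositionClass D)
    (hD2 : ∃ a ∈ D, ∃ b ∈ D, a ≠ b) {d : G} (hd : d ∈ D)
    (hcls : ∀ e ∈ D, ∃ g : G, e = g * d * g⁻¹)
    (h2 : Cfsg.pCore 2 G ≤ Subgroup.center G) (h3 : Cfsg.pCore 3 G ≤ Subgroup.center G)
    (hL : Cfsg.IsComponent (Cfsg.layer G)) (hidx : (Cfsg.layer G).index ≤ 2)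
    (R : G → G → Prop) (hRs : ∀ x y, R x y → R y x)
    (hRt : ∀ x y z, R x y → R y z → R x z)
    (hRr : ∀ x ∈ D, R x x) (hRc : ∀ g x y, R x y → R (g * x * g⁻¹) (g * y * g⁻¹))
    {a b : G} (ha : a ∈ D) (hb : b ∈ D) (hne : a ≠ b) (hab : R a b) : ∀ e ∈ D, R a e := by
  have hLn : (Cfsg.layer G).Normal := Cfsg.Agent.H2.layer_normal
  have hai := inv_eq_of_mem hT ha
  have hbi := inv_eq_of_mem hT hb
  have ha2 := inv_of_mem hT ha
  have hb2 := inv_of_mem hT hb
  have hNn : (kerR hconj R hRs hRt hRr).Normal := kerR_normal hT hconj R hRs hRt hRr hRc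
  have habN : a * b ∈ kerR hconj R hRs hRt hRr :=
    mul_mem_kerR hT hconj R hRs hRt hRr hRc ha hb hab
  have hnc : a * b ∉ Subgroup.center G := by
    intro hz
    obtain ⟨e, he, hae⟩ := Cfsg.Agent.Lead.TT.exists_not_comm hD hD2 ha
    have hz' := Subgroup.mem_center_iff.1 hz
    have hcomm : a * b = b * a := by
      apply mul_left_cancel (a := a)
      rw [← mul_assoc a b a]
      exact hz' a
    have hzz : (a * b) * (a * b) = 1 := by
      calc (a * b) * (a * b) = a * (b * a) * b := by group
        _ = a * (a * b) * b := by rw [hcomm]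
        _ = (a * a) * (b * b) := by group
        _ = 1 := by rw [ha2, hb2, one_mul]
    have hbe : b * e = (a * b) * (a * e) := by
      calc b * e = b * (a * a) * e := by rw [ha2, mul_one]
        _ = (b * a) * (a * e) := by group
        _ = (a * b) * (a * e) := by rw [hcomm]
    have h3 : (a * e) ^ 3 = 1 := cube_of_not_commute hT ha he hae
    have hzc : Commute (a * b) (a * e) := (hz' (a * e)).symm
    rcases hT.2 b hb e he with h | h
    · rw [hbe, hzc.mul_pow, pow_two (a * b), hzz, one_mul] at h
      have h1 : a * e = 1 := by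
        have : (a * e) ^ 3 = (a * e) ^ 2 * (a * e) := pow_succ _ _
        rw [h3, h, one_mul] at this
        exact this.symm
      apply hae
      have : e = a := by
        rw [← hai]
        exact (inv_eq_of_mul_eq_one_right h1).symm
      rw [this]
    · rw [hbe, hzc.mul_pow, h3, mul_one] at h
      have h1 : (a * b) ^ 3 = (a * b) * (a * b) * (a * b) := by rw [pow_succ, pow_two]
      rw [h1, hzz, one_mul] at h
      apply hne
      have h5 := eq_inv_of_mul_eq_one_left h
      rw [hbi] at h5
      exact h5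
  have hLN : Cfsg.layer G ≤ kerR hconj R hRs hRt hRr := by
    rcases le_center_or_layer_le hT hconj hgen hd hcls h2 h3 hL (kerR hconj R hRs hRt hRr)
      with h | h
    · exact absurd (h habN) hnc
    · exact h
  intro e he
  obtain ⟨g, rfl⟩ : ∃ g : G, e = g * a * g⁻¹ := by
    obtain ⟨g₁, h₁⟩ := hcls a ha
    obtain ⟨g₂, h₂⟩ := hcls e he
    refine ⟨g₂ * g₁⁻¹, ?_⟩
    rw [h₂, h₁]
    group
  have hcase : g ∈ Cfsg.layer G ∨ a⁻¹ * g ∈ Cfsg.layer G := by
    have hidx0 : (Cfsg.layer G).index ≠ 0 := Subgroup.index_ne_zero_of_finite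
    have h12 : (Cfsg.layer G).index = 1 ∨ (Cfsg.layer G).index = 2 := by omega
    rcases h12 with h | h
    · left
      rw [Subgroup.index_eq_one.1 h]
      trivial
    · by_cases hg : g ∈ Cfsg.layer G
      · exact Or.inl hg
      · right
        have haL : a ∉ Cfsg.layer G := by
          intro haL
          apply hg
          have hle : Subgroup.closure D ≤ Cfsg.layer G := by
            rw [Subgroup.closure_le]
            intro e he
            obtain ⟨g₁, h₁⟩ := hcls a ha
            obtain ⟨g₂, h₂⟩ := hcls e he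
            have : e = (g₂ * g₁⁻¹) * a * (g₂ * g₁⁻¹)⁻¹ := by
              rw [h₂, h₁]
              group
            rw [this]
            exact hLn.conj_mem a haL _
          rw [hgen] at hle
          exact hle trivial
        rw [Subgroup.mul_mem_iff_of_index_two h, inv_mem_iff]
        exact ⟨fun h' => absurd h' haL, fun h' => absurd h' hg⟩
  rcases hcase with hg | hg
  · exact hRs _ _ ((mem_kerR hconj R hRs hRt hRr _).1 (hLN hg) a ha)
  · have h1 := (mem_kerR hconj R hRs hRt hRr _).1 (hLN hg) a ha
    have h2' := hRc a _ _ h1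
    have e1 : a * (a⁻¹ * g * a * (a⁻¹ * g)⁻¹) * a⁻¹ = g * a * g⁻¹ := by group
    have e2 : a * a * a⁻¹ = a := by group
    rw [e1, e2] at h2'
    exact hRs _ _ h2'

end Main

end Prim

end Cfsg.Agent.H9.TT3Width
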