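import Mathlib
import Cfsg.Agent.H9.TT3Prim

set_option autoImplicit false
set_option linter.unusedSectionVars false

/-!
Primitive 3-transposition groups of width at least two: invariant equivalence relations are
trivial, normal subgroups are central or of index at most two, the commuting graph is connected,
and `⟨C_D(d)⟩` is a maximal `D`-subgroup.
-/

namespace Cfsg.Agent.H9.TT3Width

open Cfsg

universe u

section PrimMax

variable {G : Type u} [Group G] [Finite G] {D : Set G}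

/-- in a primitive action an invariant equivalence relation relating two different points is
universal -/
lemma prim_rel (hprim : Cfsg.IsPrimitiveUnderConj D)
    (hconj : ∀ g : G, ∀ a ∈ D, g * a * g⁻¹ ∈ D) (R : G → G → Prop)
    (hRs : ∀ x y, R x y → R y x) (hRt : ∀ x y z, R x y → R y z → R x z)
    (hRc : ∀ g x y, R x y → R (g * x * g⁻¹) (g * y * g⁻¹))
    {a b : G} (ha : a ∈ D) (hb : b ∈ D) (hne : a ≠ b) (hab : R a b) : ∀ e ∈ D, R a e := by
  have hBD : {x : G | x ∈ D ∧ R a x} ⊆ D := fun x hx => hx.1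
  have hblock : ∀ g : G, (fun x => g * x * g⁻¹) '' {x : G | x ∈ D ∧ R a x} = {x : G | x ∈ D ∧ R a x}
      ∨ Disjoint ((fun x => g * x * g⁻¹) '' {x : G | x ∈ D ∧ R a x}) {x : G | x ∈ D ∧ R a x} := by
    intro g
    by_cases h : ∃ x ∈ {x : G | x ∈ D ∧ R a x}, g * x * g⁻¹ ∈ {x : G | x ∈ D ∧ R a x}
    · left
      obtain ⟨x, hx, hgx⟩ := h
      have h1 : R a (g * a * g⁻¹) := hRt _ _ _ hgx.2 (hRs _ _ (hRc g _ _ hx.2))
      ext y
      constructor
      · rintro ⟨w, hw, rfl⟩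
        exact ⟨hconj g w hw.1, hRt _ _ _ h1 (hRc g _ _ hw.2)⟩
      · intro hy
        refine ⟨g⁻¹ * y * g⁻¹⁻¹, ⟨hconj g⁻¹ y hy.1, ?_⟩, by simp only []; group⟩
        have h2 : R (g * a * g⁻¹) y := hRt _ _ _ (hRs _ _ h1) hy.2
        have h3 := hRc g⁻¹ _ _ h2
        have e : g⁻¹ * (g * a * g⁻¹) * g⁻¹⁻¹ = a := by group
        rw [e] at h3
        exact h3
    · right
      rw [Set.disjoint_left]
      rintro y ⟨w, hw, rfl⟩ hyB
      exact h ⟨w, hw, hyB⟩
  have haa : R a a := hRt _ _ _ hab (hRs _ _ hab)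
  rcases hprim.2.2 _ hBD hblock with hsub | hBeq
  · exfalso
    exact hne (hsub ⟨ha, haa⟩ ⟨hb, hab⟩)
  · intro e he
    have : e ∈ {x : G | x ∈ D ∧ R a x} := by rw [hBeq]; exact he
    exact this.2

/-- a normal subgroup of a primitive group centralizes `d` or all of `D` lies in one coset -/
lemma prim_normal (hprim : Cfsg.IsPrimitiveUnderConj D)
    (hconj : ∀ g : G, ∀ a ∈ D, g * a * g⁻¹ ∈ D) (N : Subgroup G) [hN : N.Normal]
    {d : G} (hd : d ∈ D) : (∀ x ∈ N, Commute d x) ∨ ∀ e ∈ D, d⁻¹ * e ∈ N := by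
  by_cases h : ∀ x ∈ N, Commute d x
  · exact Or.inl h
  · right
    push Not at h
    obtain ⟨x, hx, hdx⟩ := h
    have hne : d ≠ x * d * x⁻¹ := by
      intro he
      apply hdx
      show d * x = x * d
      have : x * d = x * d * x⁻¹ * x := by group
      rw [this, ← he]
    have hR : d⁻¹ * (x * d * x⁻¹) ∈ N := by
      have : d⁻¹ * (x * d * x⁻¹) = (d⁻¹ * x * d⁻¹⁻¹) * x⁻¹ := by group
      rw [this]
      exact N.mul_mem (hN.conj_mem x hx _) (N.inv_mem hx)
    refine prim_rel hprim hconj (fun u v => u⁻¹ * v ∈ N) ?_ ?_ ?_ hd (hconj x d hd) hne hR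
    · intro u v huv
      have : v⁻¹ * u = (u⁻¹ * v)⁻¹ := by group
      show v⁻¹ * u ∈ N
      rw [this]
      exact N.inv_mem huv
    · intro u v w huv hvw
      have : u⁻¹ * w = (u⁻¹ * v) * (v⁻¹ * w) := by group
      show u⁻¹ * w ∈ N
      rw [this]
      exact N.mul_mem huv hvw
    · intro g u v huv
      have : (g * u * g⁻¹)⁻¹ * (g * v * g⁻¹) = g * (u⁻¹ * v) * g⁻¹ := by group
      show (g * u * g⁻¹)⁻¹ * (g * v * g⁻¹) ∈ N
      rw [this]
      exact hN.conj_mem _ huv g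

/-- the commuting set of `x` in `D` -/
def CD (D : Set G) (x : G) : Set G := {y : G | y ∈ D ∧ Commute x y}

lemma CD_conj (hconj : ∀ g : G, ∀ a ∈ D, g * a * g⁻¹ ∈ D) (g x : G) :
    CD D (g * x * g⁻¹) = (fun y => g * y * g⁻¹) '' CD D x := by
  ext y
  constructor
  · rintro ⟨hy, hc⟩
    refine ⟨g⁻¹ * y * g⁻¹⁻¹, ⟨hconj g⁻¹ y hy, ?_⟩, by simp only []; group⟩
    show x * (g⁻¹ * y * g⁻¹⁻¹) = g⁻¹ * y * g⁻¹⁻¹ * x
    have h := hc.eq
    have e1 : x * (g⁻¹ * y * g⁻¹⁻¹) = g⁻¹ * (g * x * g⁻¹ * y) * g := by group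
    have e2 : g⁻¹ * y * g⁻¹⁻¹ * x = g⁻¹ * (y * (g * x * g⁻¹)) * g := by group
    rw [e1, e2, h]
  · rintro ⟨w, ⟨hw, hc⟩, rfl⟩
    refine ⟨hconj g w hw, ?_⟩
    show g * x * g⁻¹ * (g * w * g⁻¹) = g * w * g⁻¹ * (g * x * g⁻¹)
    have e1 : g * x * g⁻¹ * (g * w * g⁻¹) = g * (x * w) * g⁻¹ := by group
    have e2 : g * w * g⁻¹ * (g * x * g⁻¹) = g * (w * x) * g⁻¹ := by group
    rw [e1, e2, hc.eq]

lemma conj_injective (g : G) : Function.Injective (fun y : G => g * y * g⁻¹) := by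
  intro x y h
  simpa using h

/-- `V_d = {d}` in a primitive group -/
lemma prim_V (hprim : Cfsg.IsPrimitiveUnderConj D)
    (hconj : ∀ g : G, ∀ a ∈ D, g * a * g⁻¹ ∈ D) {d a t : G} (hd : d ∈ D) (ha : a ∈ D)
    (hda : ¬ Commute d a) (ht : t ∈ D) (htd : t ≠ d)
    (h : ∀ y ∈ D, Commute t y → Commute d y) : False := by
  obtain ⟨u, hu⟩ := hprim.1 d hd t ht
  have hsub : CD D t ⊆ CD D d := fun y hy => ⟨hy.1, h y hy.1 hy.2⟩
  have hcard : (CD D t).ncard = (CD D d).ncard := by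
    rw [← hu, CD_conj hconj, Set.ncard_image_of_injective _ (conj_injective u)]
  have heq : CD D t = CD D d := Set.eq_of_subset_of_ncard_le hsub hcard.ge (Set.toFinite _)
  have hall := prim_rel hprim hconj (fun x y => CD D x = CD D y) (fun x y hxy => hxy.symm)
    (fun x y z hxy hyz => hxy.trans hyz)
    (fun g x y hxy => by
      show CD D (g * x * g⁻¹) = CD D (g * y * g⁻¹)
      rw [CD_conj hconj, CD_conj hconj, hxy]) hd ht (Ne.symm htd) heq.symm
  have h1 : CD D d = CD D a := hall a ha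
  have h2 : a ∈ CD D a := ⟨ha, Commute.refl a⟩
  rw [← h1] at h2
  exact hda h2.2

/-- `W_d = {d}` in a primitive group of width at least two -/
lemma prim_W (hprim : Cfsg.IsPrimitiveUnderConj D)
    (hconj : ∀ g : G, ∀ a ∈ D, g * a * g⁻¹ ∈ D)
    (hw : ∃ p ∈ D, ∃ q ∈ D, p ≠ q ∧ Commute p q) {d a : G} (hd : d ∈ D) (ha : a ∈ D)
    (hda : ¬ Commute d a) : ∃ t ∈ D, t ≠ d ∧ Commute d t ∧ ¬ Commute a t := by
  by_contra hcon
  push Not at hcon
  obtain ⟨u, hu⟩ := hprim.1 d hd a ha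
  have hsub : Cs D d ⊆ Cs D a := by
    intro y hy
    refine ⟨hy.1, ?_, hcon y hy.1 hy.2.1 hy.2.2⟩
    rintro rfl
    exact hda hy.2.2
  have himg : Cs D a = (fun y => u * y * u⁻¹) '' Cs D d := by
    ext y
    rw [← hu]
    constructor
    · intro hy
      refine ⟨u⁻¹ * y * u⁻¹⁻¹, ?_, by simp only []; group⟩
      rw [← Cs_conj hconj u]
      have e : u * (u⁻¹ * y * u⁻¹⁻¹) * u⁻¹ = y := by group
      rw [e]
      exact hy
    · rintro ⟨w, hw', rfl⟩
      exact (Cs_conj hconj u d w).2 hw'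
  have hcard : (Cs D a).ncard = (Cs D d).ncard := by
    rw [himg, Set.ncard_image_of_injective _ (conj_injective u)]
  have heq : Cs D d = Cs D a := Set.eq_of_subset_of_ncard_le hsub hcard.le (Set.toFinite _)
  have hne : d ≠ a := by
    rintro rfl
    exact hda (Commute.refl _)
  have hall := prim_rel hprim hconj (fun x y => Cs D x = Cs D y) (fun x y hxy => hxy.symm)
    (fun x y z hxy hyz => hxy.trans hyz)
    (fun g x y hxy => rel_conj hconj g x y hxy) hd ha hne heq
  obtain ⟨p, hp, q, hq, hpq, hcomm⟩ := hw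
  have h1 : Cs D p = Cs D q := (hall p hp).symm.trans (hall q hq)
  have h2 : q ∈ Cs D p := ⟨hq, hpq.symm, hcomm⟩
  rw [h1] at h2
  exact h2.2.1 rfl

section Max

variable (hT : Cfsg.IsThreeTranspositionSet D) (hconj : ∀ g : G, ∀ a ∈ D, g * a * g⁻¹ ∈ D)

/-- the subgroup generated by `C_D(d)` and `a` -/
def Mda (D : Set G) (d a : G) : Subgroup G :=
  Subgroup.closure ({y : G | y ∈ D ∧ Commute d y} ∪ {a})

lemma cd_le_Mda (d a : G) : ∀ z ∈ D, Commute d z → z ∈ Mda D d a := fun z hz hc =>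
  Subgroup.subset_closure (Or.inl ⟨hz, hc⟩)

lemma self_mem_Mda (d a : G) : a ∈ Mda D d a := Subgroup.subset_closure (Or.inr rfl)

lemma Mda_le {d a : G} {N : Subgroup G} (hN : ∀ z ∈ D, Commute d z → z ∈ N) (ha : a ∈ N) :
    Mda D d a ≤ N := by
  unfold Mda
  rw [Subgroup.closure_le]
  rintro z (hz | hz)
  · exact hN z hz.1 hz.2
  · rw [Set.mem_singleton_iff] at hz
    rw [hz]
    exact ha

include hconj in
/-- (2a) members of the `N`-class of `d` have their commuting sets inside `N` -/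
lemma cd_sub_of_theta {d : G} {N : Subgroup G} (hN : ∀ z ∈ D, Commute d z → z ∈ N)
    {h x y : G} (hh : h ∈ N) (hx : x = h * d * h⁻¹) (hy : y ∈ D) (hxy : Commute x y) :
    y ∈ N := by
  have hz : h⁻¹ * y * h⁻¹⁻¹ ∈ D := hconj h⁻¹ y hy
  have hc : Commute d (h⁻¹ * y * h⁻¹⁻¹) := by
    show d * (h⁻¹ * y * h⁻¹⁻¹) = h⁻¹ * y * h⁻¹⁻¹ * d
    have h1 := hxy.eq
    rw [hx] at h1
    have e1 : d * (h⁻¹ * y * h⁻¹⁻¹) = h⁻¹ * (h * d * h⁻¹ * y) * h := by group
    have e2 : h⁻¹ * y * h⁻¹⁻¹ * d = h⁻¹ * (y * (h * d * h⁻¹)) * h := by group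
    rw [e1, e2, h1]
  have h2 := hN _ hz hc
  have e : y = h * (h⁻¹ * y * h⁻¹⁻¹) * h⁻¹ := by group
  rw [e]
  exact N.mul_mem (N.mul_mem hh h2) (N.inv_mem hh)

include hT in
/-- two non-commuting members are conjugate under their product -/
lemma conj_of_not_commute {x y : G} (hx : x ∈ D) (hy : y ∈ D) (hxy : ¬ Commute x y) :
    y = (x * y) * x * (x * y)⁻¹ := by
  have h3 := cube_of_not_commute hT hx hy hxy
  have hb := braid hT hx hy h3
  have hxi := inv_eq_of_mem hT hx
  have hyi := inv_eq_of_mem hT hy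
  have hx2 := inv_of_mem hT hx
  rw [_root_.mul_inv_rev, hxi, hyi]
  calc y = x * (x * y * x) * x := by
        have : x * (x * y * x) * x = (x * x) * y * (x * x) := by group
        rw [this, hx2, one_mul, mul_one]
    _ = x * (y * x * y) * x := by rw [hb]
    _ = x * y * x * (y * x) := by group

include hT in
/-- (2c) a member of `N` not commuting with a member of the `N`-class of `d` lies in that class -/
lemma theta_of_not_commute {d : G} (hd : d ∈ D) {N : Subgroup G} (hdN : d ∈ N)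
    {h x y : G} (hh : h ∈ N) (hx : x = h * d * h⁻¹) (hxD : x ∈ D) (hy : y ∈ D) (hyN : y ∈ N)
    (hxy : ¬ Commute x y) : ∃ k ∈ N, y = k * d * k⁻¹ := by
  have hxN : x ∈ N := by
    rw [hx]
    exact N.mul_mem (N.mul_mem hh hdN) (N.inv_mem hh)
  refine ⟨x * y * h, N.mul_mem (N.mul_mem hxN hyN) hh, ?_⟩
  have h1 := conj_of_not_commute hT hxD hy hxy
  have e : x * y * h * d * (x * y * h)⁻¹ = (x * y) * (h * d * h⁻¹) * (x * y)⁻¹ := by group
  rw [e, ← hx]
  exact h1

include hT hconj in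
/-- Step 3: a `D`-generated subgroup of the same order containing `C_D(d)` equals `M(d,a)` -/
theorem Mda_unique {d a : G} (hd : d ∈ D) (ha : a ∈ D) (hda : ¬ Commute d a)
    (hmin : ∀ a' ∈ D, ¬ Commute d a' → Nat.card (Mda D d a) ≤ Nat.card (Mda D d a'))
    (hV : ∀ t ∈ D, t ≠ d → (∀ y ∈ D, Commute t y → Commute d y) → False)
    (hW : ∀ a' ∈ D, ¬ Commute d a' → ∃ t ∈ D, t ≠ d ∧ Commute d t ∧ ¬ Commute a' t)
    (M' : Subgroup G) (S' : Set G) (hS'D : S' ⊆ D) (hM' : M' = Subgroup.closure S')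
    (hcard : Nat.card M' = Nat.card (Mda D d a))
    (hC : ∀ z ∈ D, Commute d z → z ∈ M') : M' = Mda D d a := by
  by_contra hne
  have hdM : d ∈ Mda D d a := cd_le_Mda d a d hd (Commute.refl d)
  have hdM' : d ∈ M' := hC d hd (Commute.refl d)
  by_cases hA : ∀ s ∈ S', Commute d s
  · apply hne
    apply Subgroup.eq_of_le_of_card_ge
    · rw [hM', Subgroup.closure_le]
      intro s hs
      exact cd_le_Mda d a s (hS'D hs) (hA s hs)
    · exact hcard.ge
  · push Not at hA
    obtain ⟨a', ha'S, hda'⟩ := hA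
    have ha'D : a' ∈ D := hS'D ha'S
    have ha'M' : a' ∈ M' := by rw [hM']; exact Subgroup.subset_closure ha'S
    -- (3c)
    have h3c : ∀ y ∈ D, y ∈ Mda D d a → y ∈ M' → Commute d y := by
      intro y hy hyM hyM'
      by_contra hdy
      apply hne
      have h1 : Mda D d y = Mda D d a :=
        Subgroup.eq_of_le_of_card_ge (Mda_le (cd_le_Mda d a) hyM) (hmin y hy hdy)
      have h2 : Mda D d y = M' :=
        Subgroup.eq_of_le_of_card_ge (Mda_le hC hyM') (by rw [hcard]; exact hmin y hy hdy)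
      rw [← h2, h1]
    obtain ⟨t, htD, htd, hdt, hat⟩ := hW a ha hda
    have htM : t ∈ Mda D d a := cd_le_Mda d a t htD hdt
    have htM' : t ∈ M' := hC t htD hdt
    -- `a` is in the class of `d` in `M`
    have haθ : ∃ k ∈ Mda D d a, a = k * d * k⁻¹ :=
      theta_of_not_commute hT hd hdM (one_mem _) (by group) hd ha (self_mem_Mda d a) hda
    obtain ⟨k, hk, hak⟩ := haθ
    have htθ : ∃ k' ∈ Mda D d a, t = k' * d * k'⁻¹ :=
      theta_of_not_commute hT hd hdM hk hak ha htD htM hat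
    obtain ⟨k', hk', htk'⟩ := htθ
    -- `a'` is in the class of `d` in `M'`
    have ha'θ : ∃ l ∈ M', a' = l * d * l⁻¹ :=
      theta_of_not_commute hT hd hdM' (one_mem _) (by group) hd ha'D ha'M' hda'
    obtain ⟨l, hl, ha'l⟩ := ha'θ
    -- `a'` is not in `M`
    have ha'M : a' ∉ Mda D d a := fun h => hda' (h3c a' ha'D h ha'M')
    -- hence `t` does not commute with `a'`
    have hta' : ¬ Commute t a' := fun hc =>
      ha'M (cd_sub_of_theta hconj (cd_le_Mda d a) hk' htk' ha'D hc)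
    -- so `t` is in the class of `d` in `M'`
    have htθ' : ∃ l' ∈ M', t = l' * d * l'⁻¹ :=
      theta_of_not_commute hT hd hdM' hl ha'l ha'D htD htM' (fun hc => hta' hc.symm)
    obtain ⟨l', hl', htl'⟩ := htθ'
    apply hV t htD htd
    intro y hy hty
    exact h3c y hy (cd_sub_of_theta hconj (cd_le_Mda d a) hk' htk' hy hty)
      (cd_sub_of_theta hconj hC hl' htl' hy hty)

include hT hconj in
/-- Step 4: a minimal `M(d,a)` in a primitive group is everything -/
theorem Mda_eq_top (hprim : Cfsg.IsPrimitiveUnderConj D) (hgen : Subgroup.closure D = ⊤)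
    (hw : ∃ p ∈ D, ∃ q ∈ D, p ≠ q ∧ Commute p q)
    {d a : G} (hd : d ∈ D) (ha : a ∈ D) (hda : ¬ Commute d a)
    (hmin : ∀ a' ∈ D, ¬ Commute d a' → Nat.card (Mda D d a) ≤ Nat.card (Mda D d a')) :
    Mda D d a = ⊤ := by
  have hV : ∀ t ∈ D, t ≠ d → (∀ y ∈ D, Commute t y → Commute d y) → False :=
    fun t ht htd h => prim_V hprim hconj hd ha hda ht htd h
  have hW : ∀ a' ∈ D, ¬ Commute d a' → ∃ t ∈ D, t ≠ d ∧ Commute d t ∧ ¬ Commute a' t :=
    fun a' ha' hda' => prim_W hprim hconj hw hd ha' hda'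
  have hdM : d ∈ Mda D d a := cd_le_Mda d a d hd (Commute.refl d)
  -- elements `k` with `C_D(d) ⊆ k M k⁻¹` normalize `M`
  have hnorm : ∀ k : G, (∀ z ∈ D, Commute d z → k⁻¹ * z * k ∈ Mda D d a) →
      k ∈ Subgroup.normalizer ((Mda D d a : Subgroup G) : Set G) := by
    intro k hk
    have hmap : (Mda D d a).map (MulAut.conj k).toMonoidHom = Mda D d a := by
      apply Mda_unique hT hconj hd ha hda hmin hV hW _
        ((MulAut.conj k).toMonoidHom '' ({y : G | y ∈ D ∧ Commute d y} ∪ {a}))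
      · rintro _ ⟨y, hy, rfl⟩
        show k * y * k⁻¹ ∈ D
        rcases hy with hy | hy
        · exact hconj k y hy.1
        · rw [Set.mem_singleton_iff] at hy
          rw [hy]
          exact hconj k a ha
      · unfold Mda
        rw [MonoidHom.map_closure]
      · exact Subgroup.card_map_of_injective (MulAut.conj k).injective
      · intro z hz hdz
        refine ⟨k⁻¹ * z * k, hk z hz hdz, ?_⟩
        show k * (k⁻¹ * z * k) * k⁻¹ = z
        group
    rw [Subgroup.mem_normalizer_iff]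
    intro m
    constructor
    · intro hm
      rw [← hmap]
      exact ⟨m, hm, rfl⟩
    · intro hm
      rw [← hmap] at hm
      obtain ⟨y, hy, hyk⟩ := hm
      have : y = m := by
        have h1 : k * y * k⁻¹ = k * m * k⁻¹ := hyk
        simpa using h1
      rw [← this]
      exact hy
  -- the block
  have hΓD : {x : G | x ∈ D ∧ ∀ z ∈ D, Commute x z → z ∈ Mda D d a} ⊆ D := fun x hx => hx.1
  have hblock : ∀ g : G,
      (fun x => g * x * g⁻¹) '' {x : G | x ∈ D ∧ ∀ z ∈ D, Commute x z → z ∈ Mda D d a} =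
        {x : G | x ∈ D ∧ ∀ z ∈ D, Commute x z → z ∈ Mda D d a} ∨
      Disjoint ((fun x => g * x * g⁻¹) '' {x : G | x ∈ D ∧ ∀ z ∈ D, Commute x z → z ∈ Mda D d a})
        {x : G | x ∈ D ∧ ∀ z ∈ D, Commute x z → z ∈ Mda D d a} := by
    intro g
    by_cases h : ∃ x ∈ {x : G | x ∈ D ∧ ∀ z ∈ D, Commute x z → z ∈ Mda D d a},
        g * x * g⁻¹ ∈ {x : G | x ∈ D ∧ ∀ z ∈ D, Commute x z → z ∈ Mda D d a}
    · left
      obtain ⟨x, hx, hgx⟩ := h
      obtain ⟨u, hu⟩ := hprim.1 d hd x hx.1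
      have h1 : u⁻¹ ∈ Subgroup.normalizer ((Mda D d a : Subgroup G) : Set G) := by
        apply hnorm
        intro z hz hdz
        rw [inv_inv]
        apply hx.2 _ (hconj u z hz)
        rw [← hu]
        show u * d * u⁻¹ * (u * z * u⁻¹) = u * z * u⁻¹ * (u * d * u⁻¹)
        have e1 : u * d * u⁻¹ * (u * z * u⁻¹) = u * (d * z) * u⁻¹ := by group
        have e2 : u * z * u⁻¹ * (u * d * u⁻¹) = u * (z * d) * u⁻¹ := by group
        rw [e1, e2, hdz.eq]
      have h2 : (g * u)⁻¹ ∈ Subgroup.normalizer ((Mda D d a : Subgroup G) : Set G) := by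
        apply hnorm
        intro z hz hdz
        rw [inv_inv]
        apply hgx.2 _ (hconj (g * u) z hz)
        rw [← hu]
        show g * (u * d * u⁻¹) * g⁻¹ * (g * u * z * (g * u)⁻¹) =
          g * u * z * (g * u)⁻¹ * (g * (u * d * u⁻¹) * g⁻¹)
        have e1 : g * (u * d * u⁻¹) * g⁻¹ * (g * u * z * (g * u)⁻¹) =
            g * u * (d * z) * (g * u)⁻¹ := by group
        have e2 : g * u * z * (g * u)⁻¹ * (g * (u * d * u⁻¹) * g⁻¹) =
            g * u * (z * d) * (g * u)⁻¹ := by group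
        rw [e1, e2, hdz.eq]
      have hg : g ∈ Subgroup.normalizer ((Mda D d a : Subgroup G) : Set G) := by
        have h3 := Subgroup.mul_mem _ (Subgroup.inv_mem _ h2) h1
        have e : (g * u)⁻¹⁻¹ * u⁻¹ = g := by group
        rw [e] at h3
        exact h3
      have hgi : g⁻¹ ∈ Subgroup.normalizer ((Mda D d a : Subgroup G) : Set G) :=
        Subgroup.inv_mem _ hg
      rw [Subgroup.mem_normalizer_iff] at hg hgi
      ext y
      constructor
      · rintro ⟨w, hw, rfl⟩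
        refine ⟨hconj g w hw.1, ?_⟩
        intro z hz hc
        have hz' : g⁻¹ * z * g⁻¹⁻¹ ∈ D := hconj g⁻¹ z hz
        have hc' : Commute w (g⁻¹ * z * g⁻¹⁻¹) := by
          show w * (g⁻¹ * z * g⁻¹⁻¹) = g⁻¹ * z * g⁻¹⁻¹ * w
          have e1 : w * (g⁻¹ * z * g⁻¹⁻¹) = g⁻¹ * (g * w * g⁻¹ * z) * g := by group
          have e2 : g⁻¹ * z * g⁻¹⁻¹ * w = g⁻¹ * (z * (g * w * g⁻¹)) * g := by group
          rw [e1, e2, hc.eq]
        have h4 := hw.2 _ hz' hc'
        exact (hgi z).2 h4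
      · intro hy
        refine ⟨g⁻¹ * y * g⁻¹⁻¹, ⟨hconj g⁻¹ y hy.1, ?_⟩, by simp only []; group⟩
        intro z hz hc
        have hz' : g * z * g⁻¹ ∈ D := hconj g z hz
        have hc' : Commute y (g * z * g⁻¹) := by
          show y * (g * z * g⁻¹) = g * z * g⁻¹ * y
          have e1 : y * (g * z * g⁻¹) = g * (g⁻¹ * y * g⁻¹⁻¹ * z) * g⁻¹ := by group
          have e2 : g * z * g⁻¹ * y = g * (z * (g⁻¹ * y * g⁻¹⁻¹)) * g⁻¹ := by group
          rw [e1, e2, hc.eq]
        have h4 := hy.2 _ hz' hc'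
        exact (hg z).2 h4
    · right
      rw [Set.disjoint_left]
      rintro y ⟨w, hw, rfl⟩ hyB
      exact h ⟨w, hw, hyB⟩
  have hdΓ : d ∈ {x : G | x ∈ D ∧ ∀ z ∈ D, Commute x z → z ∈ Mda D d a} :=
    ⟨hd, fun z hz hc => cd_le_Mda d a z hz hc⟩
  have haΓ : a ∈ {x : G | x ∈ D ∧ ∀ z ∈ D, Commute x z → z ∈ Mda D d a} := by
    refine ⟨ha, ?_⟩
    obtain ⟨k, hk, hak⟩ :=
      theta_of_not_commute hT hd hdM (one_mem _) (by group) hd ha (self_mem_Mda d a) hda
    intro z hz hc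
    exact cd_sub_of_theta hconj (cd_le_Mda d a) hk hak hz hc
  rcases hprim.2.2 _ hΓD hblock with hsub | hΓ
  · exfalso
    apply hda
    rw [hsub hdΓ haΓ]
  · rw [eq_top_iff, ← hgen, Subgroup.closure_le]
    intro x hx
    have : x ∈ {x : G | x ∈ D ∧ ∀ z ∈ D, Commute x z → z ∈ Mda D d a} := by rw [hΓ]; exact hx
    exact this.2 x hx (Commute.refl x)

end Max

section Final

variable (hT : Cfsg.IsThreeTranspositionSet D) (hconj : ∀ g : G, ∀ a ∈ D, g * a * g⁻¹ ∈ D)

/-- conjugation as an endomorphism of the commuting graph -/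
def conjHom (g : G) : Cfsg.commutingGraph D →g Cfsg.commutingGraph D where
  toFun x := ⟨g * x.1 * g⁻¹, hconj g x.1 x.2⟩
  map_rel' := by
    intro a b hab
    unfold Cfsg.commutingGraph at hab ⊢
    rw [SimpleGraph.fromRel_adj] at hab ⊢
    have hc : Commute (a : G) (b : G) := by
      rcases hab.2 with h | h
      · exact h
      · exact h.symm
    refine ⟨?_, Or.inl ?_⟩
    · intro h
      apply hab.1
      apply Subtype.ext
      have h1 : g * (a : G) * g⁻¹ = g * (b : G) * g⁻¹ := congrArg Subtype.val h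
      simpa using h1
    · show g * (a : G) * g⁻¹ * (g * (b : G) * g⁻¹) = g * (b : G) * g⁻¹ * (g * (a : G) * g⁻¹)
      have e1 : g * (a : G) * g⁻¹ * (g * (b : G) * g⁻¹) = g * ((a : G) * b) * g⁻¹ := by group
      have e2 : g * (b : G) * g⁻¹ * (g * (a : G) * g⁻¹) = g * ((b : G) * a) * g⁻¹ := by group
      rw [e1, e2, hc.eq]

include hconj in
/-- the commuting graph of a primitive group of width at least two is connected -/
theorem connected_of_prim (hprim : Cfsg.IsPrimitiveUnderConj D)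
    (hw : ∃ p ∈ D, ∃ q ∈ D, p ≠ q ∧ Commute p q) : (Cfsg.commutingGraph D).Connected := by
  obtain ⟨p, hp, q, hq, hpq, hcomm⟩ := hw
  haveI : Nonempty D := ⟨⟨p, hp⟩⟩
  rw [SimpleGraph.connected_iff]
  refine ⟨?_, inferInstance⟩
  have key := prim_rel hprim hconj
    (fun x y => ∃ (hx : x ∈ D) (hy : y ∈ D), (Cfsg.commutingGraph D).Reachable ⟨x, hx⟩ ⟨y, hy⟩)
    (fun x y ⟨hx, hy, h⟩ => ⟨hy, hx, h.symm⟩)
    (fun x y z ⟨hx, _, h1⟩ ⟨_, hz, h2⟩ => ⟨hx, hz, h1.trans h2⟩)
    (fun g x y ⟨hx, hy, h⟩ => ⟨hconj g x hx, hconj g y hy, h.map (conjHom hconj g)⟩)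
    hp hq hpq ⟨hp, hq, SimpleGraph.Adj.reachable (by
      unfold Cfsg.commutingGraph
      rw [SimpleGraph.fromRel_adj]
      exact ⟨fun h => hpq (congrArg Subtype.val h), Or.inl hcomm⟩)⟩
  intro u v
  obtain ⟨_, _, h1⟩ := key u.1 u.2
  obtain ⟨_, _, h2⟩ := key v.1 v.2
  exact h1.symm.trans h2

include hT hconj in
/-- `O₂(G)` and `O₃(G)` of a primitive group of width at least two are central -/
theorem pCore_le_center_of_prim (hprim : Cfsg.IsPrimitiveUnderConj D)
    (hgen : Subgroup.closure D = ⊤)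
    (hw : ∃ p ∈ D, ∃ q ∈ D, p ≠ q ∧ Commute p q) {d a : G} (hd : d ∈ D) (ha : a ∈ D)
    (hda : ¬ Commute d a) :
    Cfsg.pCore 2 G ≤ Subgroup.center G ∧ Cfsg.pCore 3 G ≤ Subgroup.center G := by
  have hcls : ∀ e ∈ D, ∃ g : G, e = g * d * g⁻¹ := by
    intro e he
    obtain ⟨g, hg⟩ := hprim.1 d hd e he
    exact ⟨g, hg.symm⟩
  have hdi := inv_eq_of_mem hT hd
  constructor
  · haveI : (Cfsg.pCore 2 G).Normal := Cfsg.Agent.H1.pCore_normal 2
    rcases prim_normal hprim hconj (Cfsg.pCore 2 G) hd with h | h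
    · exact le_center_of_commute hgen _ hcls h
    · exfalso
      have h1 := h a ha
      rw [hdi] at h1
      have h2 := eq_one_of_cube_of_mem_two h1 (cube_of_not_commute hT hd ha hda)
      apply hda
      have : a = d := by
        rw [← hdi]
        exact (inv_eq_of_mul_eq_one_right h2).symm
      rw [this]
  · haveI : (Cfsg.pCore 3 G).Normal := Cfsg.Agent.H1.pCore_normal 3
    rcases prim_normal hprim hconj (Cfsg.pCore 3 G) hd with h | h
    · exact le_center_of_commute hgen _ hcls h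
    · exfalso
      obtain ⟨p, hp, q, hq, hpq, hcomm⟩ := hw
      have hpi := inv_eq_of_mem hT hp
      have hp2 := inv_of_mem hT hp
      have hq2 := inv_of_mem hT hq
      have h1 : p * q ∈ Cfsg.pCore 3 G := by
        have e : (d⁻¹ * p)⁻¹ * (d⁻¹ * q) = p⁻¹ * q := by group
        rw [← hpi, ← e]
        exact Subgroup.mul_mem _ (Subgroup.inv_mem _ (h p hp)) (h q hq)
      have h2 : (p * q) * (p * q) = 1 := by
        calc (p * q) * (p * q) = p * (q * p) * q := by group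
          _ = p * (p * q) * q := by rw [hcomm.eq]
          _ = (p * p) * (q * q) := by group
          _ = 1 := by rw [hp2, hq2, one_mul]
      have h3 := eq_one_of_sq_of_mem_three h1 h2
      apply hpq
      have h4 := inv_eq_of_mul_eq_one_right h3
      rw [hpi] at h4
      exact h4

include hT hconj in
/-- `⟨C_D(d)⟩` is a maximal `D`-subgroup in a primitive group of width at least two -/
theorem cd_maximal (hprim : Cfsg.IsPrimitiveUnderConj D) (hgen : Subgroup.closure D = ⊤)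
    (hw : ∃ p ∈ D, ∃ q ∈ D, p ≠ q ∧ Commute p q) {d a₀ : G} (hd : d ∈ D) (ha₀ : a₀ ∈ D)
    (hda₀ : ¬ Commute d a₀) :
    Subgroup.closure {y : G | y ∈ D ∧ Commute d y} ≠ ⊤ ∧
      ∀ H : Subgroup G, Cfsg.IsDSubgroup D H →
        Subgroup.closure {y : G | y ∈ D ∧ Commute d y} ≤ H →
        H = Subgroup.closure {y : G | y ∈ D ∧ Commute d y} ∨ H = ⊤ := by
  constructor
  · intro htop
    have hle : Subgroup.closure {y : G | y ∈ D ∧ Commute d y} ≤
        Subgroup.centralizer ({d} : Set G) := by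
      rw [Subgroup.closure_le]
      intro y hy
      rw [SetLike.mem_coe, Subgroup.mem_centralizer_iff]
      intro x hx
      rw [Set.mem_singleton_iff] at hx
      rw [hx]
      exact hy.2.eq
    rw [htop] at hle
    have h1 : a₀ ∈ Subgroup.centralizer ({d} : Set G) := hle trivial
    rw [Subgroup.mem_centralizer_iff] at h1
    exact hda₀ (h1 d rfl)
  · intro H hH hle
    by_contra hcon
    push Not at hcon
    obtain ⟨hne1, hne2⟩ := hcon
    have hCH : ∀ z ∈ D, Commute d z → z ∈ H := fun z hz hc =>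
      hle (Subgroup.subset_closure ⟨hz, hc⟩)
    have hex : ∃ a ∈ D, a ∈ H ∧ ¬ Commute d a := by
      by_contra hall
      push Not at hall
      apply hne1
      apply le_antisymm _ hle
      unfold Cfsg.IsDSubgroup at hH
      rw [← hH]
      apply Subgroup.closure_mono
      intro y hy
      exact ⟨hy.1, hall y hy.1 hy.2⟩
    obtain ⟨aH, haHD, haHH, hdaH⟩ := hex
    obtain ⟨a, ha, hmin⟩ := Set.exists_min_image {a : G | a ∈ D ∧ ¬ Commute d a}
      (fun a => Nat.card (Mda D d a)) (Set.toFinite _) ⟨aH, haHD, hdaH⟩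
    have htop := Mda_eq_top hT hconj hprim hgen hw hd ha.1 ha.2
      (fun a' ha' hda' => hmin a' ⟨ha', hda'⟩)
    apply hne2
    apply Subgroup.eq_top_of_le_card
    have h1 : Nat.card (Mda D d a) = Nat.card G := by rw [htop, Subgroup.card_top]
    have h2 : Nat.card (Mda D d a) ≤ Nat.card (Mda D d aH) := hmin aH ⟨haHD, hdaH⟩
    have h3 : Nat.card (Mda D d aH) ≤ Nat.card H :=
      Subgroup.card_le_of_le (Mda_le hCH haHH)
    omega

end Final

end PrimMax

end Cfsg.Agent.H9.TT3Width
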