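import Mathlib
import Cfsg.Agent.H9.TT3PrimMax

set_option autoImplicit false
set_option linter.unusedSectionVars false

/-!
3-transposition groups with trivial centre: `G'` simple iff primitive iff `O₂ = O₃ = 1` and the
commuting graph is connected.
-/

namespace Cfsg.Agent.H9.TT3Width

open Cfsg
open scoped commutatorElement

universe u

section Simple

variable {G : Type u} [Group G] [Finite G] {D : Set G}
variable (hT : Cfsg.IsThreeTranspositionSet D) (hconj : ∀ g : G, ∀ a ∈ D, g * a * g⁻¹ ∈ D)

include hT in
/-- a normal subgroup one coset of which contains a generating set of involutions has index ≤ 2 -/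
theorem index_le_two_of_coset (hgen : Subgroup.closure D = ⊤) (N : Subgroup G) [hN : N.Normal]
    {d : G} (hd : d ∈ D) (key : ∀ e ∈ D, d⁻¹ * e ∈ N) : N.index ≤ 2 := by
  have hdi := inv_eq_of_mem hT hd
  have hd2 := inv_of_mem hT hd
  have hq : ∀ g : G, (QuotientGroup.mk' N g = 1) ∨
      (QuotientGroup.mk' N g = QuotientGroup.mk' N d) := by
    intro g
    have hg : g ∈ Subgroup.closure D := by rw [hgen]; trivial
    induction hg using Subgroup.closure_induction with
    | mem e he =>
      right
      exact (QuotientGroup.eq.2 (key e he)).symm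
    | one => left; exact map_one _
    | mul x y _ _ hx hy =>
      rw [map_mul]
      rcases hx with hx | hx <;> rcases hy with hy | hy <;> rw [hx, hy]
      · left; exact one_mul _
      · right; exact one_mul _
      · right; exact mul_one _
      · left; rw [← map_mul, hd2, map_one]
    | inv x _ hx =>
      rw [map_inv]
      rcases hx with hx | hx <;> rw [hx]
      · left; exact inv_one
      · right; rw [← map_inv, hdi]
  have hsub : (Set.univ : Set (G ⧸ N)) ⊆ {1, QuotientGroup.mk' N d} := by
    intro q _
    obtain ⟨g, rfl⟩ := QuotientGroup.mk_surjective q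
    rcases hq g with h | h
    · left; exact h
    · right; exact h
  rw [Subgroup.index_eq_card, ← Set.ncard_univ]
  refine (Set.ncard_le_ncard hsub (Set.toFinite _)).trans ?_
  refine (Set.ncard_insert_le _ _).trans ?_
  rw [Set.ncard_singleton]

include hT in
lemma not_coset_two {d a : G} (hd : d ∈ D) (ha : a ∈ D) (hda : ¬ Commute d a)
    (h : ∀ e ∈ D, d⁻¹ * e ∈ Cfsg.pCore 2 G) : False := by
  have hdi := inv_eq_of_mem hT hd
  have h1 := h a ha
  rw [hdi] at h1
  have h2 := eq_one_of_cube_of_mem_two h1 (cube_of_not_commute hT hd ha hda)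
  apply hda
  have : a = d := by
    rw [← hdi]
    exact (inv_eq_of_mul_eq_one_right h2).symm
  rw [this]

include hT in
lemma not_coset_three (hw : ∃ p ∈ D, ∃ q ∈ D, p ≠ q ∧ Commute p q) {d : G}
    (h : ∀ e ∈ D, d⁻¹ * e ∈ Cfsg.pCore 3 G) : False := by
  obtain ⟨p, hp, q, hq, hpq, hcomm⟩ := hw
  have hpi := inv_eq_of_mem hT hp
  have hp2 := inv_of_mem hT hp
  have hq2 := inv_of_mem hT hq
  have h1 : p * q ∈ Cfsg.pCore 3 G := by
    have e : (d⁻¹ * p)⁻¹ * (d⁻¹ * q) = p⁻¹ * q := by group
    rw [← hpi, ← e]
    exact Subgroup.mul_mem _ (Subgroup.inv_mem _ (h p hp)) (h q hq)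
  have h2 : (p * q) * (p * q) = 1 := by
    calc (p * q) * (p * q) = p * (q * p) * q := by group
      _ = p * (p * q) * q := by rw [hcomm.eq]
      _ = (p * p) * (q * q) := by group
      _ = 1 := by rw [hp2, hq2, one_mul]
  have h3 := eq_one_of_sq_of_mem_three h1 h2
  apply hpq
  have h4 := inv_eq_of_mul_eq_one_right h3
  rw [hpi] at h4
  exact h4

/-- a quasisimple group with trivial centre is simple -/
lemma isSimpleGroup_of_quasisimple {L : Type*} [Group L] (hL : Cfsg.IsQuasisimple L)
    (hc : Subgroup.center L = ⊥) : IsSimpleGroup L := by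
  have := hL.2
  exact ((QuotientGroup.quotientMulEquivOfEq hc).trans QuotientGroup.quotientBot).symm.isSimpleGroup

/-- with the layer quasisimple of index at most two, the commutator subgroup is the layer -/
theorem commutator_eq_layer (hLc : Cfsg.IsComponent (Cfsg.layer G))
    (hidx : (Cfsg.layer G).index ≤ 2) : commutator G = Cfsg.layer G := by
  have hLn : (Cfsg.layer G).Normal := Cfsg.Agent.H2.layer_normal
  apply le_antisymm
  · rw [commutator_def, Subgroup.commutator_le]
    intro g _ h _
    have hidx0 : (Cfsg.layer G).index ≠ 0 := Subgroup.index_ne_zero_of_finite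
    have h12 : (Cfsg.layer G).index = 1 ∨ (Cfsg.layer G).index = 2 := by omega
    rcases h12 with h1 | h2
    · rw [Subgroup.index_eq_one.1 h1]
      trivial
    · have e : ⁅g, h⁆ = (g * h) * (g⁻¹ * h⁻¹) := by
        rw [commutatorElement_def]
        group
      rw [e, Subgroup.mul_mem_iff_of_index_two h2, Subgroup.mul_mem_iff_of_index_two h2,
        Subgroup.mul_mem_iff_of_index_two h2, inv_mem_iff, inv_mem_iff]
  · have hperf := Cfsg.Agent.H2.quasisimple_commutator_eq hLc.2
    rw [commutator_def, ← hperf]
    exact Subgroup.commutator_mono le_top le_top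

/-- the layer is simple when it is a component and the Fitting subgroup is trivial -/
theorem layer_simple (hLc : Cfsg.IsComponent (Cfsg.layer G))
    (hF : Cfsg.fittingSubgroup G = ⊥) : IsSimpleGroup (Cfsg.layer G) := by
  apply isSimpleGroup_of_quasisimple hLc.2
  rw [eq_bot_iff]
  intro x hx
  have h1 : (x : G) ∈ (Subgroup.center (Cfsg.layer G)).map (Cfsg.layer G).subtype :=
    ⟨x, hx, rfl⟩
  have h2 := Cfsg.Agent.H2.center_layer_le_fittingSubgroup h1
  rw [hF, Subgroup.mem_bot] at h2
  rw [Subgroup.mem_bot]
  exact Subtype.ext h2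

/-- a normal subgroup is central or contains the commutator subgroup when the latter is simple -/
theorem le_center_or_commutator_le (hK : IsSimpleGroup (commutator G)) (N : Subgroup G)
    [hN : N.Normal] : N ≤ Subgroup.center G ∨ commutator G ≤ N := by
  rcases (inferInstance : (N.subgroupOf (commutator G)).Normal).eq_bot_or_eq_top with h | h
  · left
    rw [Subgroup.subgroupOf_eq_bot] at h
    intro x hx
    rw [Subgroup.mem_center_iff]
    intro g
    have h1 : ⁅x, g⁆ ∈ N := by
      rw [commutatorElement_def]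
      have : x * g * x⁻¹ * g⁻¹ = x * (g * x⁻¹ * g⁻¹) := by group
      rw [this]
      exact N.mul_mem hx (hN.conj_mem _ (N.inv_mem hx) g)
    have h2 : ⁅x, g⁆ ∈ commutator G := by
      rw [commutator_def]
      exact Subgroup.commutator_mem_commutator (Subgroup.mem_top x) (Subgroup.mem_top g)
    have h3 : ⁅x, g⁆ = 1 := by
      have := (Subgroup.disjoint_def.1 h) h1 h2
      exact this
    rw [commutatorElement_def] at h3
    have : x * g = g * x := by
      have h4 : x * g * x⁻¹ * g⁻¹ * (g * x) = 1 * (g * x) := by rw [h3]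
      rw [one_mul] at h4
      rw [← h4]
      group
    exact this.symm
  · right
    rwa [Subgroup.subgroupOf_eq_top] at h

include hT hconj in
/-- if `G'` is simple then `O₂(G)`, `O₃(G)` are central and the layer has index at most two -/
theorem structure_of_simple (hgen : Subgroup.closure D = ⊤)
    (hw : ∃ p ∈ D, ∃ q ∈ D, p ≠ q ∧ Commute p q) {d a : G} (hd : d ∈ D) (ha : a ∈ D)
    (hda : ¬ Commute d a) (hcls : ∀ e ∈ D, ∃ g : G, e = g * d * g⁻¹)
    (hK : IsSimpleGroup (commutator G)) :
    Cfsg.pCore 2 G ≤ Subgroup.center G ∧ Cfsg.pCore 3 G ≤ Subgroup.center G ∧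
      (Cfsg.layer G).index ≤ 2 := by
  have hD2 : ∃ a ∈ D, ∃ b ∈ D, a ≠ b := by
    obtain ⟨p, hp, q, hq, hpq, _⟩ := hw
    exact ⟨p, hp, q, hq, hpq⟩
  have hcos : ∀ e ∈ D, d⁻¹ * e ∈ commutator G := by
    intro e he
    obtain ⟨g, rfl⟩ := hcls e he
    have h2 : ⁅d⁻¹, g⁆ ∈ commutator G := by
      rw [commutator_def]
      exact Subgroup.commutator_mem_commutator (Subgroup.mem_top _) (Subgroup.mem_top g)
    rw [commutatorElement_def, inv_inv] at h2
    have e : d⁻¹ * (g * d * g⁻¹) = d⁻¹ * g * d * g⁻¹ := by group
    rw [e]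
    exact h2
  have h2 : Cfsg.pCore 2 G ≤ Subgroup.center G := by
    have : (Cfsg.pCore 2 G).Normal := Cfsg.Agent.H1.pCore_normal 2
    rcases le_center_or_commutator_le hK (Cfsg.pCore 2 G) with h | h
    · exact h
    · exact absurd (fun e he => h (hcos e he)) (fun hh => not_coset_two hT hd ha hda hh)
  have h3 : Cfsg.pCore 3 G ≤ Subgroup.center G := by
    have : (Cfsg.pCore 3 G).Normal := Cfsg.Agent.H1.pCore_normal 3
    rcases le_center_or_commutator_le hK (Cfsg.pCore 3 G) with h | h
    · exact h
    · exact absurd (fun e he => h (hcos e he)) (fun hh => not_coset_three hT hw hh)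
  refine ⟨h2, h3, ?_⟩
  have hLc := layer_isComponent hT hconj hgen hd hcls hD2 h2 h3
  have hLn : (Cfsg.layer G).Normal := Cfsg.Agent.H2.layer_normal
  rcases le_center_or_commutator_le hK (Cfsg.layer G) with h | h
  · exfalso
    apply not_commute_layer hgen hcls
    · intro hbot
      exact Cfsg.Agent.H2.quasisimple_ne_bot hLc.2 hbot
    · intro y hy
      exact ((Subgroup.mem_center_iff.1 (h hy)) d)
  · exact index_le_two_of_coset hT hgen _ hd (fun e he => h (hcos e he))

end Simple

end Cfsg.Agent.H9.TT3Width
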