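import Mathlib
import Cfsg.Agent.S5349
import Cfsg.Agent.S5350
import Cfsg.Agent.S5353
import Cfsg.Agent.H9.TT3Simple

set_option autoImplicit false
set_option linter.unusedSectionVars false

/-!
A criterion for a class of 3-transpositions to be primitive with quasisimple commutator subgroup:
different members are separated by commuting partners, and the commuting graph is connected.
-/

namespace Cfsg.Agent.H9.TT3Width

open Cfsg

universe u

section Crit

variable {G : Type u} [Group G] [Finite G] {D : Set G}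

/-- if different members of `D` are separated by commuting partners, `O₂(G)` and `O₃(G)` are
central -/
theorem pCore_le_center_of_sep (hD : Cfsg.IsThreeTranspositionClass D)
    (hD2 : ∃ a ∈ D, ∃ b ∈ D, a ≠ b)
    (hsep : ∀ d ∈ D, ∀ e ∈ D, d ≠ e → ∃ w ∈ D, Commute d w ∧ ¬ Commute e w ∧ w ≠ d) :
    Cfsg.pCore 2 G ≤ Subgroup.center G ∧ Cfsg.pCore 3 G ≤ Subgroup.center G := by
  have hD' := hD
  obtain ⟨hT, ⟨d, hd, hcls₀⟩, hgen⟩ := hD
  have hcls : ∀ e ∈ D, ∃ g : G, e = g * d * g⁻¹ := by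
    intro e he
    rw [hcls₀] at he
    have he' : IsConj d e := he
    rw [isConj_iff] at he'
    obtain ⟨c, hc⟩ := he'
    exact ⟨c, hc.symm⟩
  have hcomm_of_eq : ∀ x : G, x * d * x⁻¹ = d → Commute d x := by
    intro x hx
    show d * x = x * d
    have : x * d = x * d * x⁻¹ * x := by group
    rw [this, hx]
  constructor
  · have : (Cfsg.pCore 2 G).Normal := Cfsg.Agent.H1.pCore_normal 2
    apply le_center_of_commute hgen _ hcls
    intro x hx
    apply hcomm_of_eq
    by_contra hne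
    have h1 := (Cfsg.Agent.S5349.result hD' hD2 hd).2
    have h2 : x * d * x⁻¹ ∈ {v : G | ∃ g ∈ Cfsg.pCore 2 G, v = g * d * g⁻¹} := ⟨x, hx, rfl⟩
    rw [← h1] at h2
    obtain ⟨w, hw, hdw, hvw, _⟩ := hsep d hd _ h2.1 (Ne.symm hne)
    exact hvw ((h2.2 w hw).2 hdw)
  · have : (Cfsg.pCore 3 G).Normal := Cfsg.Agent.H1.pCore_normal 3
    apply le_center_of_commute hgen _ hcls
    intro x hx
    apply hcomm_of_eq
    by_contra hne
    have h1 := (Cfsg.Agent.S5350.result hD' hD2 hd).2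
    have h2 : x * d * x⁻¹ ∈ {w : G | ∃ g ∈ Cfsg.pCore 3 G, w = g * d * g⁻¹} := ⟨x, hx, rfl⟩
    rw [← h1] at h2
    obtain ⟨w, hw, hdw, hvw, hwd⟩ := hsep d hd _ h2.1 (Ne.symm hne)
    have h3 : w ∈ {y : G | y ∈ D ∧ y ≠ d ∧ Commute d y} := ⟨hw, hwd, hdw⟩
    rw [h2.2] at h3
    exact hvw h3.2.2

/-- the criterion -/
theorem prim_of_sep_of_connected (hD : Cfsg.IsThreeTranspositionClass D)
    (hD2 : ∃ a ∈ D, ∃ b ∈ D, a ≠ b)
    (hsep : ∀ d ∈ D, ∀ e ∈ D, d ≠ e → ∃ w ∈ D, Commute d w ∧ ¬ Commute e w ∧ w ≠ d)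
    (hconn : (Cfsg.commutingGraph D).Connected) :
    Cfsg.IsQuasisimple (commutator G) ∧ (commutator G).index ≤ 2 ∧
      Cfsg.generalizedFittingSubgroup G = Subgroup.center G ⊔ commutator G ∧
      Cfsg.IsPrimitiveUnderConj D := by
  obtain ⟨h2, h3⟩ := pCore_le_center_of_sep hD hD2 hsep
  have hD' := hD
  obtain ⟨hT, ⟨d, hd, hcls₀⟩, hgen⟩ := hD
  have hcls : ∀ e ∈ D, ∃ g : G, e = g * d * g⁻¹ := by
    intro e he
    rw [hcls₀] at he
    have he' : IsConj d e := he
    rw [isConj_iff] at he'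
    obtain ⟨c, hc⟩ := he'
    exact ⟨c, hc.symm⟩
  have hconj : ∀ g : G, ∀ a ∈ D, g * a * g⁻¹ ∈ D := by
    intro g a ha
    obtain ⟨c, rfl⟩ := hcls a ha
    rw [hcls₀]
    show IsConj d _
    rw [isConj_iff]
    exact ⟨g * c, by group⟩
  have hLc := layer_isComponent hT hconj hgen hd hcls hD2 h2 h3
  have hidx := index_le_two_of_connected hT hconj hgen hd hcls hLc hconn
  have hLn : (Cfsg.layer G).Normal := Cfsg.Agent.H2.layer_normal
  have hF : Cfsg.generalizedFittingSubgroup G = Cfsg.layer G ⊔ Subgroup.center G := by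
    unfold Cfsg.generalizedFittingSubgroup
    rw [fitting_eq_center hT hconj hgen hd hcls h2 h3]
  rw [commutator_eq_layer hLc hidx]
  refine ⟨hLc.2, hidx, ?_, ?_⟩
  · rw [hF, sup_comm]
  · exact (Cfsg.Agent.S5353.result hD' hD2 h2 h3 (Cfsg.layer G) hLc.2 hF).1 hidx

end Crit

end Cfsg.Agent.H9.TT3Width
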