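import Mathlib
import Cfsg.Prelude.Def_FischerSpaces
import Cfsg.Prelude.Def_SporadicB
import Cfsg.Agent.H1.Cores
import Cfsg.Agent.Lib.Lead.ThreeTransp
import Cfsg.Agent.H9.TT3WidthOne

set_option autoImplicit false
set_option linter.unusedSectionVars false
set_option linter.style.haveILetI false

/-!
3-transposition classes on which commuting is transitive: quotients by normal 2-subgroups.
-/

namespace Cfsg.Agent.H9.TT3Perp

open Cfsg Cfsg.Agent.Lead.TT

universe u

/-- commuting is a transitive relation on `D` -/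
def CommTrans {G : Type u} [Group G] (D : Set G) : Prop :=
  ∀ a ∈ D, ∀ b ∈ D, ∀ c ∈ D, Commute a b → Commute b c → Commute a c

section Quot

variable {G : Type u} [Group G] [Finite G] {D : Set G}

/-- an element of a 2-group whose cube is one is trivial -/
lemma eq_one_of_cube_of_mem {W : Subgroup G} (hW : IsPGroup 2 W) {z : G} (hz : z ∈ W)
    (h3 : z ^ 3 = 1) : z = 1 := by
  obtain ⟨k, hk⟩ := hW ⟨z, hz⟩
  have hk' : z ^ (2 ^ k) = 1 := congrArg Subtype.val hk
  have hd1 := orderOf_dvd_of_pow_eq_one hk'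
  have hd2 := orderOf_dvd_of_pow_eq_one h3
  have hcop : Nat.Coprime (2 ^ k) 3 := Nat.Coprime.pow_left _ (by norm_num)
  have hd3 := Nat.dvd_gcd hd1 hd2
  rw [hcop.gcd_eq_one, Nat.dvd_one, orderOf_eq_one_iff] at hd3
  exact hd3

variable (W : Subgroup G) [hWn : W.Normal] (hW : IsPGroup 2 W)
include hW

/-- members congruent modulo a normal 2-subgroup commute -/
lemma commute_of_mk_eq (hT : Cfsg.IsThreeTranspositionSet D) {a b : G} (ha : a ∈ D) (hb : b ∈ D)
    (h : (QuotientGroup.mk' W) a = (QuotientGroup.mk' W) b) : Commute a b := by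
  by_contra hnc
  have h3 := cube_of_not_comm hT ha hb hnc
  have hmem : a * b ∈ W := by
    have := QuotientGroup.eq.mp h
    rwa [inv_eq hT ha] at this
  have h1 := eq_one_of_cube_of_mem hW hmem h3
  have hab : a = b := by
    have := mul_eq_one_iff_eq_inv.mp h1
    rwa [inv_eq hT hb] at this
  exact hnc (hab ▸ Commute.refl a)

/-- members commuting modulo a normal 2-subgroup commute -/
lemma commute_of_mk_commute (hT : Cfsg.IsThreeTranspositionSet D) {a b : G} (ha : a ∈ D)
    (hb : b ∈ D) (h : Commute ((QuotientGroup.mk' W) a) ((QuotientGroup.mk' W) b)) :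
    Commute a b := by
  by_contra hnc
  have h3 := cube_of_not_comm hT ha hb hnc
  have ha2 : (QuotientGroup.mk' W) a * (QuotientGroup.mk' W) a = 1 := by
    rw [← map_mul, sq_one hT ha, map_one]
  have hb2 : (QuotientGroup.mk' W) b * (QuotientGroup.mk' W) b = 1 := by
    rw [← map_mul, sq_one hT hb, map_one]
  have h2 : ((QuotientGroup.mk' W) a * (QuotientGroup.mk' W) b) ^ 2 = 1 :=
    (comm_iff ha2 hb2).mp h
  have hmem : (a * b) ^ 2 ∈ W := by
    rw [← QuotientGroup.eq_one_iff, ← QuotientGroup.mk'_apply, map_pow, map_mul]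
    exact h2
  have h6 : ((a * b) ^ 2) ^ 3 = 1 := by
    rw [← pow_mul, mul_comm, pow_mul, h3, one_pow]
  have h1 := eq_one_of_cube_of_mem hW hmem h6
  exact hnc ((comm_iff (sq_one hT ha) (sq_one hT hb)).mpr h1)

/-- the image of a class of 3-transpositions modulo a normal 2-subgroup -/
theorem isClass_image (hD : Cfsg.IsThreeTranspositionClass D)
    (hD2 : ∃ a ∈ D, ∃ b ∈ D, a ≠ b) :
    Cfsg.IsThreeTranspositionClass ((QuotientGroup.mk' W) '' D) := by
  have hT := hD.1
  refine ⟨⟨?_, ?_⟩, ?_, ?_⟩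
  · rintro _ ⟨d, hd, rfl⟩
    have h2 : (QuotientGroup.mk' W) d ^ 2 = 1 := by
      rw [← map_pow, pow_two, sq_one hT hd, map_one]
    have hne : (QuotientGroup.mk' W) d ≠ 1 := by
      intro h1
      obtain ⟨e, he, hnc⟩ := exists_not_comm hD hD2 hd
      -- `e` is conjugate to `d`, hence in `W`
      obtain ⟨d₀, hd₀, hcl⟩ := hD.2.1
      have hd' : IsConj d₀ d := by rw [hcl] at hd; exact hd
      have he' : IsConj d₀ e := by rw [hcl] at he; exact he
      obtain ⟨g, hg⟩ := isConj_iff.mp (hd'.symm.trans he')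
      have hdW : d ∈ W := (QuotientGroup.eq_one_iff d).mp h1
      have heW : e ∈ W := by rw [← hg]; exact hWn.conj_mem d hdW g
      have h1' : (QuotientGroup.mk' W) e = 1 := (QuotientGroup.eq_one_iff e).mpr heW
      exact hnc (commute_of_mk_eq W hW hT hd he (h1.trans h1'.symm))
    exact orderOf_eq_prime h2 hne
  · rintro _ ⟨a, ha, rfl⟩ _ ⟨b, hb, rfl⟩
    rcases hT.2 a ha b hb with h | h
    · left; rw [← map_mul, ← map_pow, h, map_one]
    · right; rw [← map_mul, ← map_pow, h, map_one]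
  · obtain ⟨d₀, hd₀, hcl⟩ := hD.2.1
    refine ⟨(QuotientGroup.mk' W) d₀, ⟨d₀, hd₀, rfl⟩, ?_⟩
    ext x
    constructor
    · rintro ⟨a, ha, rfl⟩
      rw [hcl] at ha
      have ha' : IsConj d₀ a := ha
      obtain ⟨g, hg⟩ := isConj_iff.mp ha'
      show IsConj _ _
      rw [isConj_iff]
      refine ⟨(QuotientGroup.mk' W) g, ?_⟩
      rw [← hg, map_mul, map_mul, map_inv]
    · intro hx
      have hx' : IsConj ((QuotientGroup.mk' W) d₀) x := hx
      obtain ⟨c, hc⟩ := isConj_iff.mp hx'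
      obtain ⟨g, rfl⟩ := QuotientGroup.mk'_surjective W c
      refine ⟨g * d₀ * g⁻¹, conj_mem hD hd₀ g, ?_⟩
      rw [← hc, map_mul, map_mul, map_inv]
  · rw [← MonoidHom.map_closure, hD.2.2, ← MonoidHom.range_eq_map,
      MonoidHom.range_eq_top]
    exact QuotientGroup.mk'_surjective W

/-- the image has at least two members -/
theorem two_le_image (hD : Cfsg.IsThreeTranspositionClass D)
    (hD2 : ∃ a ∈ D, ∃ b ∈ D, a ≠ b) :
    ∃ a ∈ (QuotientGroup.mk' W) '' D, ∃ b ∈ (QuotientGroup.mk' W) '' D, a ≠ b := by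
  obtain ⟨d, hd, -⟩ := id hD2
  obtain ⟨e, he, hnc⟩ := exists_not_comm hD hD2 hd
  refine ⟨_, ⟨d, hd, rfl⟩, _, ⟨e, he, rfl⟩, fun h => ?_⟩
  exact hnc (commute_of_mk_eq W hW hD.1 hd he h)

/-- transitivity of commuting passes to the image -/
theorem commTrans_image (hT : Cfsg.IsThreeTranspositionSet D) (htr : CommTrans D) :
    CommTrans ((QuotientGroup.mk' W) '' D) := by
  rintro _ ⟨a, ha, rfl⟩ _ ⟨b, hb, rfl⟩ _ ⟨c, hc, rfl⟩ hab hbc
  have h1 := commute_of_mk_commute W hW hT ha hb hab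
  have h2 := commute_of_mk_commute W hW hT hb hc hbc
  exact (htr a ha b hb c hc h1 h2).map (QuotientGroup.mk' W)

end Quot

end Cfsg.Agent.H9.TT3Perp
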