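import Mathlib
import Cfsg.Agent.H9.TT3PerpA

set_option autoImplicit false
set_option linter.unusedSectionVars false
set_option linter.style.haveILetI false

/-!
3-transposition classes on which commuting is transitive: `G = ⟨d⟩ P O₂(G)`.
-/

namespace Cfsg.Agent.H9.TT3Perp

open Cfsg Cfsg.Agent.Lead.TT

universe u

section Struct

variable {G : Type u} [Group G] [Finite G] {D : Set G}

/-- commuting members have the same commuting partners -/
lemma rel_of_commute (htr : CommTrans D) {a b : G} (ha : a ∈ D) (hb : b ∈ D)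
    (h : Commute a b) : Rel D a b := by
  refine ⟨hb, fun e he => ⟨fun hbe => htr a ha b hb e he h hbe, fun hae => ?_⟩⟩
  exact htr b hb a ha e he h.symm hae

/-- commuting members are congruent modulo `O₂(G)` -/
lemma mul_mem_pCore_of_commute (hD : Cfsg.IsThreeTranspositionClass D) (htr : CommTrans D)
    {a b : G} (ha : a ∈ D) (hb : b ∈ D) (h : Commute a b) : a * b ∈ Cfsg.pCore 2 G :=
  rel_mem_core hD ha (rel_of_commute htr ha hb h)

/-- modulo `O₂(G)` the class has width one -/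
theorem width_one_quot (hD : Cfsg.IsThreeTranspositionClass D) (htr : CommTrans D) :
    ∀ a ∈ (QuotientGroup.mk' (Cfsg.pCore 2 G)) '' D,
      ∀ b ∈ (QuotientGroup.mk' (Cfsg.pCore 2 G)) '' D, Commute a b → a = b := by
  rintro _ ⟨a, ha, rfl⟩ _ ⟨b, hb, rfl⟩ hab
  have h1 := commute_of_mk_commute (Cfsg.pCore 2 G) (Cfsg.Agent.H1.pCore_isPGroup 2) hD.1 ha hb hab
  have h2 := mul_mem_pCore_of_commute hD htr ha hb h1
  rw [QuotientGroup.mk'_apply, QuotientGroup.mk'_apply, QuotientGroup.eq, inv_eq hD.1 ha]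
  exact h2

/-- `G / O₂(G) = ⟨d⟩ O₃(G / O₂(G))` -/
theorem quot_structure (hD : Cfsg.IsThreeTranspositionClass D) (hD2 : ∃ a ∈ D, ∃ b ∈ D, a ≠ b)
    (htr : CommTrans D) {d : G} (hd : d ∈ D) :
    Subgroup.zpowers ((QuotientGroup.mk' (Cfsg.pCore 2 G)) d) ⊔
      Cfsg.pCore 3 (G ⧸ Cfsg.pCore 2 G) = ⊤ := by
  have hcl := isClass_image (Cfsg.pCore 2 G) (Cfsg.Agent.H1.pCore_isPGroup 2) hD hD2
  have hgrp : Cfsg.IsThreeTranspositionGroup ((QuotientGroup.mk' (Cfsg.pCore 2 G)) '' D) :=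
    ⟨hcl.1, fun g x hx => conj_mem hcl hx g, hcl.2.2⟩
  exact Cfsg.Agent.H9.TT3Width.sup_pCore_eq_top_of_width_one hgrp ⟨d, hd, rfl⟩
    (width_one_quot hD htr)

/-- `G = ⟨d⟩ P O₂(G)` for every Sylow 3-subgroup `P` -/
theorem sup_sylow (hD : Cfsg.IsThreeTranspositionClass D) (hD2 : ∃ a ∈ D, ∃ b ∈ D, a ≠ b)
    (htr : CommTrans D) {d : G} (hd : d ∈ D) (P : Sylow 3 G) :
    Subgroup.zpowers d ⊔ (P : Subgroup G) ⊔ Cfsg.pCore 2 G = ⊤ := by
  set U := Cfsg.pCore 2 G with hU
  set π := QuotientGroup.mk' U with hπ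
  have hsurj : Function.Surjective π := QuotientGroup.mk'_surjective U
  have h1 := quot_structure hD hD2 htr hd
  have h2 : Cfsg.pCore 3 (G ⧸ U) ≤ (P : Subgroup G).map π :=
    Cfsg.Agent.H1.pCore_le_sylow (P.mapSurjective hsurj)
  have h3 : (Subgroup.zpowers d ⊔ (P : Subgroup G)).map π = ⊤ := by
    rw [Subgroup.map_sup, MonoidHom.map_zpowers, eq_top_iff, ← h1]
    exact sup_le_sup_left h2 _
  have h4 := congrArg (Subgroup.comap π) h3
  rw [Subgroup.comap_map_eq, Subgroup.comap_top, QuotientGroup.ker_mk'] at h4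
  exact h4

/-- an element congruent to `d` modulo `O₂(G)` does not centralize a Sylow 3-subgroup -/
theorem exists_not_fixed (hD : Cfsg.IsThreeTranspositionClass D) (hD2 : ∃ a ∈ D, ∃ b ∈ D, a ≠ b)
    (htr : CommTrans D) {d : G} (hd : d ∈ D) (P : Sylow 3 G) {s : G}
    (hs : d * s ∈ Cfsg.pCore 2 G) : ∃ p ∈ (P : Subgroup G), s * p * s⁻¹ ≠ p := by
  by_contra hcon
  push Not at hcon
  set U := Cfsg.pCore 2 G with hU
  set π := QuotientGroup.mk' U with hπ
  have hUp : IsPGroup 2 U := Cfsg.Agent.H1.pCore_isPGroup 2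
  have hds : π s = π d := by
    rw [hπ, QuotientGroup.mk'_apply, QuotientGroup.mk'_apply, eq_comm, QuotientGroup.eq,
      inv_eq hD.1 hd]
    exact hs
  -- `π d` is central
  have hle : (Subgroup.zpowers d ⊔ (P : Subgroup G) ⊔ U).map π ≤
      Subgroup.centralizer {π d} := by
    rw [Subgroup.map_le_iff_le_comap, sup_le_iff, sup_le_iff, Subgroup.zpowers_le]
    refine ⟨⟨?_, ?_⟩, ?_⟩
    · rw [Subgroup.mem_comap, Subgroup.mem_centralizer_iff]
      intro x hx
      rw [Set.mem_singleton_iff] at hx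
      rw [hx]
    · intro p hp
      rw [Subgroup.mem_comap, Subgroup.mem_centralizer_iff]
      intro x hx
      rw [Set.mem_singleton_iff] at hx
      rw [hx, ← hds, ← map_mul, ← map_mul]
      congr 1
      have := hcon p hp
      calc s * p = s * p * s⁻¹ * s := by group
        _ = p * s := by rw [this]
    · intro u hu
      rw [Subgroup.mem_comap, Subgroup.mem_centralizer_iff]
      intro x hx
      have : π u = 1 := (QuotientGroup.eq_one_iff u).mpr hu
      rw [this, mul_one, one_mul]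
  rw [sup_sylow hD hD2 htr hd P, ← MonoidHom.range_eq_map,
    MonoidHom.range_eq_top.mpr (QuotientGroup.mk'_surjective U)] at hle
  obtain ⟨e, he, hnc⟩ := exists_not_comm hD hD2 hd
  obtain ⟨d₀, hd₀, hcl⟩ := hD.2.1
  have hd' : IsConj d₀ d := by rw [hcl] at hd; exact hd
  have he' : IsConj d₀ e := by rw [hcl] at he; exact he
  obtain ⟨g, hg⟩ := isConj_iff.mp (hd'.symm.trans he')
  have hc := Subgroup.mem_centralizer_iff.mp (hle (Subgroup.mem_top (π g))) (π d) rfl
  have hde : π d = π e := by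
    rw [← hg, map_mul, map_mul, map_inv, ← hc, mul_inv_cancel_right]
  exact hnc (commute_of_mk_eq U hUp hD.1 hd he hde)

end Struct

end Cfsg.Agent.H9.TT3Perp
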