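import Mathlib

set_option autoImplicit false
set_option linter.unusedSectionVars false
set_option linter.style.haveILetI false

/-!
Averaging over a group of odd order acting on an elementary abelian 2-group, and the stable
element argument for an involution normalizing the acting group.
-/

namespace Cfsg.Agent.H9.TT3Perp

section Avg

variable {A : Type*} [CommGroup A] {J : Type*} [Group J] [Fintype J]
variable (ρ : J →* MulAut A) (σ : MulAut J) (τ : MulAut A)

/-- the product of the images of `x` under the acting group -/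
noncomputable def avg (x : A) : A := ∏ a : J, ρ a x

lemma avg_fixed (b : J) (x : A) : ρ b (avg ρ x) = avg ρ x := by
  unfold avg
  rw [map_prod]
  apply Fintype.prod_equiv (Equiv.mulLeft b)
  intro a
  rw [Equiv.coe_mulLeft, map_mul, MulAut.mul_apply]

lemma avg_mul (x y : A) : avg ρ (x * y) = avg ρ x * avg ρ y := by
  unfold avg
  rw [← Finset.prod_mul_distrib]
  apply Finset.prod_congr rfl
  intro a _
  rw [map_mul]

lemma avg_tau (hcompat : ∀ a x, τ (ρ a x) = ρ (σ a) (τ x)) (x : A) :
    τ (avg ρ x) = avg ρ (τ x) := by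
  unfold avg
  rw [map_prod]
  apply Fintype.prod_equiv σ.toEquiv
  intro a
  rw [hcompat]
  rfl

lemma avg_of_fixed (hA2 : ∀ x : A, x * x = 1) (hodd : Odd (Fintype.card J)) {x : A}
    (h : ∀ a, ρ a x = x) : avg ρ x = x := by
  unfold avg
  rw [Finset.prod_congr rfl (fun a _ => h a), Finset.prod_const, Finset.card_univ]
  obtain ⟨k, hk⟩ := hodd
  rw [hk, pow_succ, pow_mul, pow_two, hA2, one_pow, one_mul]

/-- an element `w τ(w)` fixed by the acting group is of the form `c τ(c)` with `c` fixed -/
theorem exists_fixed_sq (hA2 : ∀ x : A, x * x = 1) (hodd : Odd (Fintype.card J))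
    (hcompat : ∀ a x, τ (ρ a x) = ρ (σ a) (τ x)) (w : A)
    (h : ∀ a, ρ a (w * τ w) = w * τ w) :
    ∃ c : A, (∀ a, ρ a c = c) ∧ w * τ w = c * τ c := by
  refine ⟨avg ρ w, fun a => avg_fixed ρ a w, ?_⟩
  rw [avg_tau ρ σ τ hcompat, ← avg_mul, avg_of_fixed ρ hA2 hodd h]

/-- the stable element argument -/
theorem exists_stable (hA2 : ∀ x : A, x * x = 1)
    (hcompat : ∀ a x, τ (ρ a x) = ρ (σ a) (τ x)) (hσ2 : ∀ a, σ (σ a) = a) (n : A)
    (hn : τ n = n) [DecidableEq J]
    (hodd : Odd (Finset.univ.filter (fun a : J => σ a = a)).card)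
    (hstab : ∀ c : J, σ c = c → ∃ w : A, n * ρ c n = w * τ w) :
    ∃ t w : A, (∀ a, ρ a t = t) ∧ t * n = w * τ w := by
  classical
  refine ⟨avg ρ n, ?_⟩
  -- the subgroup of elements `w τ(w)`
  let φ : A →* A :=
    { toFun := fun w => w * τ w
      map_one' := by rw [map_one, one_mul]
      map_mul' := fun x y => by rw [map_mul]; exact mul_mul_mul_comm x y (τ x) (τ y) }
  let S : Subgroup A := φ.range
  let q : A →* A ⧸ S := QuotientGroup.mk' S
  have hq2 : ∀ x : A, q x * q x = 1 := fun x => by rw [← map_mul, hA2, map_one]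
  have hqS : ∀ w : A, q (w * τ w) = 1 := by
    intro w
    exact (QuotientGroup.eq_one_iff _).mpr ⟨w, rfl⟩
  have hqτ : ∀ x : A, q (τ x) = q x := by
    intro x
    have h1 := hqS x
    rw [map_mul] at h1
    have h2 : q (τ x) = q x * (q x * q (τ x)) := by rw [← mul_assoc, hq2, one_mul]
    rw [h2, h1, mul_one]
  have hf : ∀ a : J, q (ρ (σ a) n) = q (ρ a n) := by
    intro a
    rw [← hqτ (ρ a n), hcompat, hn]
  have hkey : q (avg ρ n) = q n := by
    unfold avg
    rw [map_prod, ← Finset.prod_filter_mul_prod_filter_not Finset.univ (fun a : J => σ a = a)]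
    have h1 : ∏ a ∈ Finset.univ.filter (fun a : J => ¬ σ a = a), q (ρ a n) = 1 := by
      apply Finset.prod_involution (fun a _ => σ a)
      · intro a _
        rw [hf, hq2]
      · intro a ha _
        exact (Finset.mem_filter.mp ha).2
      · intro a ha
        rw [Finset.mem_filter] at ha ⊢
        exact ⟨Finset.mem_univ _, fun h => ha.2 (σ.injective h)⟩
      · intro a _
        exact hσ2 a
    have h2 : ∏ a ∈ Finset.univ.filter (fun a : J => σ a = a), q (ρ a n) =
        ∏ _a ∈ Finset.univ.filter (fun a : J => σ a = a), q n := by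
      apply Finset.prod_congr rfl
      intro a ha
      obtain ⟨w, hw⟩ := hstab a (Finset.mem_filter.mp ha).2
      have h3 : q (n * ρ a n) = 1 := by rw [hw]; exact hqS w
      rw [map_mul] at h3
      have h4 : q (ρ a n) = q n * (q n * q (ρ a n)) := by rw [← mul_assoc, hq2, one_mul]
      rw [h4, h3, mul_one]
    rw [h1, mul_one, h2, Finset.prod_const]
    obtain ⟨k, hk⟩ := hodd
    rw [hk, pow_succ, pow_mul, pow_two, hq2, one_pow, one_mul]
  have hmem : avg ρ n * n ∈ S := by
    rw [← QuotientGroup.eq_one_iff]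
    show q (avg ρ n * n) = 1
    rw [map_mul, hkey, hq2]
  obtain ⟨w, hw⟩ := hmem
  exact ⟨w, fun a => avg_fixed ρ a n, hw.symm⟩

end Avg

end Cfsg.Agent.H9.TT3Perp
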