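import Mathlib
import Cfsg.Agent.H9.TT3PerpC

set_option autoImplicit false
set_option linter.unusedSectionVars false
set_option linter.style.haveILetI false

/-!
The norm of an element of order three acting on an elementary abelian 2-group, together with an
involution inverting it.
-/

namespace Cfsg.Agent.H9.TT3Perp

section Norm

variable {A : Type*} [CommGroup A] (Y S : MulAut A)

/-- the norm `v ↦ v · Y v · Y² v` -/
def nrm (v : A) : A := v * Y v * Y (Y v)

lemma nrm_mul (u v : A) : nrm Y (u * v) = nrm Y u * nrm Y v := by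
  unfold nrm
  rw [map_mul, map_mul]
  calc u * v * (Y u * Y v) * (Y (Y u) * Y (Y v))
      = (u * Y u * Y (Y u)) * (v * Y v * Y (Y v)) := by
        simp only [mul_assoc, mul_left_comm, mul_comm]

lemma nrm_apply (hY3 : ∀ x, Y (Y (Y x)) = x) (v : A) : nrm Y (Y v) = nrm Y v := by
  unfold nrm
  rw [hY3]
  simp only [mul_assoc, mul_left_comm, mul_comm]

lemma nrm_symm_apply (hY3 : ∀ x, Y (Y (Y x)) = x) (v : A) : nrm Y (Y.symm v) = nrm Y v := by
  rw [← nrm_apply Y hY3 (Y.symm v), MulEquiv.apply_symm_apply]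

/-- an `S`-fixed element of trivial norm is of the form `w S(w)` -/
theorem exists_of_nrm_eq_one (hA2 : ∀ x : A, x * x = 1) (hY3 : ∀ x, Y (Y (Y x)) = x)
    (hSY : ∀ x, Y (S (Y x)) = S x) {m : A} (hSm : S m = m) (hm : nrm Y m = 1) :
    ∃ w : A, m = w * S w := by
  refine ⟨Y m, ?_⟩
  have h1 : S (Y m) = Y (Y m) := by
    have h2 := hSY m
    rw [hSm] at h2
    have h3 : Y (Y (Y (S (Y m)))) = Y (Y m) := by rw [h2]
    rw [hY3] at h3
    exact h3
  rw [h1]
  unfold nrm at hm
  have h4 : m * (Y m * Y (Y m)) = 1 := by rw [← mul_assoc]; exact hm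
  have h5 : Y m * Y (Y m) = m⁻¹ := eq_inv_of_mul_eq_one_right h4
  rw [h5]
  exact (inv_eq_of_mul_eq_one_left (hA2 m)).symm

/-- the form used below -/
theorem exists_of_nrm_mul_eq_one (hA2 : ∀ x : A, x * x = 1) (hY3 : ∀ x, Y (Y (Y x)) = x)
    (hSY : ∀ x, Y (S (Y x)) = S x) {n v : A} (hSn : S n = n) (hSv : S v = v)
    (h : nrm Y (n * Y.symm v) = 1) : ∃ w : A, n * v = w * S w := by
  apply exists_of_nrm_eq_one Y S hA2 hY3 hSY
  · rw [map_mul, hSn, hSv]
  · rw [nrm_mul, ← nrm_symm_apply Y hY3 v, ← nrm_mul]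
    exact h

end Norm

end Cfsg.Agent.H9.TT3Perp
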