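import Mathlib
import Cfsg.Prelude.Def_SporadicB
import Cfsg.Agent.H9.TT3PerpD

set_option autoImplicit false
set_option linter.unusedSectionVars false
set_option linter.style.haveILetI false

/-!
An involution `d` of a 3-transposition set, a normal elementary abelian 2-subgroup `W` and a
3-subgroup `J` such that some element of `W d` normalizes `J`: some `W`-conjugate of `d`
normalizes `J`.
-/

namespace Cfsg.Agent.H9.TT3Perp

open Cfsg

universe u

section Setup

variable {G : Type u} [Group G]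

/-- a subgroup of exponent two is commutative -/
@[reducible] def commGroupOfSq (W : Subgroup G) (hW2 : ∀ w ∈ W, w * w = 1) : CommGroup ↥W :=
  { (inferInstance : Group ↥W) with
    mul_comm := fun a b => by
      apply Subtype.ext
      show (a : G) * b = b * a
      have ha := hW2 a a.2
      have hb := hW2 b b.2
      have hab := hW2 (a * b) (W.mul_mem a.2 b.2)
      have h1 : ((a : G) * b)⁻¹ = a * b := inv_eq_of_mul_eq_one_left hab
      rw [mul_inv_rev, inv_eq_of_mul_eq_one_left ha, inv_eq_of_mul_eq_one_left hb] at h1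
      exact h1.symm }

/-- an element of a 3-group whose square is one is trivial -/
lemma eq_one_of_sq_of_mem {J : Subgroup G} (hJ : IsPGroup 3 J) {g : G} (hg : g ∈ J)
    (h2 : g * g = 1) : g = 1 := by
  obtain ⟨k, hk⟩ := hJ ⟨g, hg⟩
  have hk' : g ^ (3 ^ k) = 1 := congrArg Subtype.val hk
  have hd1 := orderOf_dvd_of_pow_eq_one hk'
  have hd2 : orderOf g ∣ 2 := orderOf_dvd_of_pow_eq_one (by rw [pow_two]; exact h2)
  have hcop : Nat.Coprime (3 ^ k) 2 := Nat.Coprime.pow_left _ (by norm_num)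
  have hd3 := Nat.dvd_gcd hd1 hd2
  rw [hcop.gcd_eq_one, Nat.dvd_one, orderOf_eq_one_iff] at hd3
  exact hd3

/-- conjugation by a normalizing element -/
def conjAut (J : Subgroup G) (s : G) (hs : s ∈ Subgroup.normalizer (J : Set G)) : MulAut ↥J where
  toFun a := ⟨s * a * s⁻¹, (Subgroup.mem_normalizer_iff.mp hs a).mp a.2⟩
  invFun a := ⟨s⁻¹ * a * s, by
    have := (Subgroup.mem_normalizer_iff.mp ((Subgroup.normalizer (J : Set G)).inv_mem hs) a).mp a.2
    rwa [inv_inv] at this⟩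
  left_inv a := by
    apply Subtype.ext
    show s⁻¹ * (s * a * s⁻¹) * s = a
    group
  right_inv a := by
    apply Subtype.ext
    show s * (s⁻¹ * a * s) * s⁻¹ = a
    group
  map_mul' a b := by
    apply Subtype.ext
    show s * (a * b) * s⁻¹ = (s * a * s⁻¹) * (s * b * s⁻¹)
    group

@[simp] lemma conjAut_coe (J : Subgroup G) (s : G) (hs : s ∈ Subgroup.normalizer (J : Set G)) (a : ↥J) :
    ((conjAut J s hs a : ↥J) : G) = s * a * s⁻¹ := rfl

/-- if `(m x)^k = 1` with `m` in the normal subgroup `W`, then `x^k` lies in `W` -/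
lemma pow_mem_of_mul_pow (W : Subgroup G) [hWn : W.Normal] {m x : G} (hm : m ∈ W) {k : ℕ}
    (h : (m * x) ^ k = 1) : x ^ k ∈ W := by
  have h1 : (QuotientGroup.mk' W) (m * x) = (QuotientGroup.mk' W) x := by
    have hm1 : (QuotientGroup.mk' W) m = 1 := (QuotientGroup.eq_one_iff m).mpr hm
    rw [map_mul, hm1, one_mul]
  have h2 : (QuotientGroup.mk' W) (x ^ k) = 1 := by
    rw [map_pow, ← h1, ← map_pow, h, map_one]
  exact (QuotientGroup.eq_one_iff _).mp h2

end Setup

section Fix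

variable {G : Type u} [Group G] [Finite G]
variable (W : Subgroup G) [hWn : W.Normal] (hW2 : ∀ w ∈ W, w * w = 1)
variable (J : Subgroup G) (hJ : IsPGroup 3 J)
include hW2 hJ

lemma inter_trivial {g : G} (hgJ : g ∈ J) (hgW : g ∈ W) : g = 1 :=
  eq_one_of_sq_of_mem hJ hgJ (hW2 g hgW)

lemma odd_card_J : Odd (Nat.card J) := by
  obtain ⟨k, hk⟩ := IsPGroup.iff_card.mp hJ
  rw [hk]
  exact Odd.pow (by decide)

/-- an element of `W d` normalizing `J` can be replaced by an involution -/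
theorem exists_involution {d s₀ : G} (hd2 : d * d = 1) (hs₀ : s₀ ∈ Subgroup.normalizer (J : Set G))
    (hw : s₀ * d ∈ W) : ∃ s : G, s * s = 1 ∧ s ∈ Subgroup.normalizer (J : Set G) ∧ s * d ∈ W := by
  classical
  letI : CommGroup ↥W := commGroupOfSq W hW2
  haveI : Fintype ↥J := Fintype.ofFinite _
  have hdi : d⁻¹ = d := inv_eq_of_mul_eq_one_left hd2
  set w := s₀ * d with hw_def
  have hs₀w : s₀ = w * d := by rw [hw_def, mul_assoc, hd2, mul_one]
  let ρ : ↥J →* MulAut ↥W := (MulAut.conjNormal (H := W)).comp J.subtype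
  let σ : MulAut ↥J := conjAut J s₀ hs₀
  let τ : MulAut ↥W := MulAut.conjNormal s₀
  have hA2 : ∀ x : ↥W, x * x = 1 := fun x => Subtype.ext (hW2 x x.2)
  have hodd : Odd (Fintype.card ↥J) := by
    rw [← Nat.card_eq_fintype_card]; exact odd_card_J W hW2 J hJ
  have hcompat : ∀ (a : ↥J) (x : ↥W), τ (ρ a x) = ρ (σ a) (τ x) := by
    intro a x
    apply Subtype.ext
    simp only [ρ, σ, τ, MonoidHom.comp_apply, Subgroup.coe_subtype, MulAut.conjNormal_apply,
      conjAut_coe]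
    group
  -- `w τ(w) = s₀²`
  have hz : (((⟨w, hw⟩ : ↥W) * τ ⟨w, hw⟩ : ↥W) : G) = s₀ * s₀ := by
    show w * (s₀ * w * s₀⁻¹) = s₀ * s₀
    have h1 : s₀ * w * s₀⁻¹ = w * (d * w * d⁻¹) * w⁻¹ := by
      rw [hs₀w]; group
    have h2 : d * w * d⁻¹ ∈ W := hWn.conj_mem w hw d
    have h3 : w * (d * w * d⁻¹) = (d * w * d⁻¹) * w :=
      congrArg Subtype.val (mul_comm (⟨w, hw⟩ : ↥W) ⟨_, h2⟩)
    rw [h1, h3, mul_inv_cancel_right, hdi, hs₀w]
    group
  have hzn : s₀ * s₀ ∈ Subgroup.normalizer (J : Set G) := (Subgroup.normalizer (J : Set G)).mul_mem hs₀ hs₀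
  have hzW : s₀ * s₀ ∈ W := by rw [← hz]; exact Subtype.property _
  have hfix : ∀ a : ↥J, ρ a ((⟨w, hw⟩ : ↥W) * τ ⟨w, hw⟩) = (⟨w, hw⟩ : ↥W) * τ ⟨w, hw⟩ := by
    intro a
    apply Subtype.ext
    show (a : G) * (((⟨w, hw⟩ : ↥W) * τ ⟨w, hw⟩ : ↥W) : G) * (a : G)⁻¹ = _
    rw [hz]
    set z := s₀ * s₀ with hz_def
    have h1 : (a : G) * z * (a : G)⁻¹ * z⁻¹ = 1 := by
      apply inter_trivial W hW2 J hJ
      · have h2 : z * (a : G)⁻¹ * z⁻¹ ∈ J :=
          (Subgroup.mem_normalizer_iff.mp hzn _).mp (J.inv_mem a.2)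
        have : (a : G) * z * (a : G)⁻¹ * z⁻¹ = a * (z * (a : G)⁻¹ * z⁻¹) := by group
        rw [this]
        exact J.mul_mem a.2 h2
      · exact W.mul_mem (hWn.conj_mem z hzW a) (W.inv_mem hzW)
    exact mul_inv_eq_one.mp h1
  obtain ⟨c, hc1, hc2⟩ := exists_fixed_sq ρ σ τ hA2 hodd hcompat ⟨w, hw⟩ hfix
  have hc2' : s₀ * s₀ = (c : G) * (s₀ * c * s₀⁻¹) := by
    rw [← hz, hc2]; rfl
  refine ⟨c * s₀, ?_, ?_, ?_⟩
  · have : (c : G) * s₀ * (c * s₀) = (c * (s₀ * c * s₀⁻¹)) * (s₀ * s₀) := by group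
    rw [this, ← hc2']
    exact hW2 _ hzW
  · apply (Subgroup.normalizer (J : Set G)).mul_mem _ hs₀
    rw [Subgroup.mem_normalizer_iff]
    intro a
    have key : ∀ a ∈ J, (c : G) * a * (c : G)⁻¹ = a := by
      intro a ha
      have h1 : (a : G) * c * a⁻¹ = c := congrArg Subtype.val (hc1 ⟨a, ha⟩)
      calc (c : G) * a * (c : G)⁻¹ = (a * c * a⁻¹) * a * (c : G)⁻¹ := by rw [h1]
        _ = a := by group
    constructor
    · intro ha
      rw [key a ha]; exact ha
    · intro ha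
      have h1 := key _ ha
      have h2 : (c : G) * ((c : G) * a * (c : G)⁻¹) * (c : G)⁻¹ = c * a * (c : G)⁻¹ := h1
      have h3 : (c : G) * a * (c : G)⁻¹ = a := by
        have : (c : G)⁻¹ * ((c : G) * ((c : G) * a * (c : G)⁻¹) * (c : G)⁻¹) * c =
            (c : G)⁻¹ * ((c : G) * a * (c : G)⁻¹) * c := by rw [h2]
        have e1 : (c : G)⁻¹ * ((c : G) * ((c : G) * a * (c : G)⁻¹) * (c : G)⁻¹) * c =
            c * a * (c : G)⁻¹ := by group
        have e2 : (c : G)⁻¹ * ((c : G) * a * (c : G)⁻¹) * c = a := by group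
        rw [e1, e2] at this
        exact this
      rw [← h3]; exact ha
  · have : (c : G) * s₀ * d = c * w := by rw [hw_def]; group
    rw [this]
    exact W.mul_mem c.2 hw

end Fix

end Cfsg.Agent.H9.TT3Perp
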