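import Mathlib
import Cfsg.Prelude.Def_SporadicB
import Cfsg.Agent.H9.TT3PerpE

set_option autoImplicit false
set_option linter.unusedSectionVars false
set_option linter.style.haveILetI false

/-!
The main conjugation lemma: some `W`-conjugate of `d` normalizes `J`.
-/

namespace Cfsg.Agent.H9.TT3Perp

open Cfsg

universe u

section Main

variable {G : Type u} [Group G] [Finite G] {D : Set G}
variable (W : Subgroup G) [hWn : W.Normal] (hW2 : ∀ w ∈ W, w * w = 1)
variable (J : Subgroup G) (hJ : IsPGroup 3 J)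
include hW2 hJ

theorem exists_conj_normalizer (hT : Cfsg.IsThreeTranspositionSet D)
    (hconj : ∀ g : G, ∀ a ∈ D, g * a * g⁻¹ ∈ D) {d s : G} (hd : d ∈ D) (hs2 : s * s = 1)
    (hsJ : s ∈ Subgroup.normalizer (J : Set G)) (hsd : s * d ∈ W)
    (hp : ∃ p ∈ J, s * p * s⁻¹ ≠ p) :
    ∃ w ∈ W, w * d * w⁻¹ ∈ Subgroup.normalizer (J : Set G) := by
  classical
  letI : CommGroup ↥W := commGroupOfSq W hW2
  haveI : Fintype ↥J := Fintype.ofFinite _
  have hd2 : d * d = 1 := by
    have h := hT.1 d hd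
    rw [← pow_two, ← h]
    exact pow_orderOf_eq_one d
  have hdi : d⁻¹ = d := inv_eq_of_mul_eq_one_left hd2
  have hsi : s⁻¹ = s := inv_eq_of_mul_eq_one_left hs2
  have hA2 : ∀ x : ↥W, x * x = 1 := fun x => Subtype.ext (hW2 x x.2)
  have hWc : ∀ u ∈ W, ∀ v ∈ W, u * v = v * u := fun u hu v hv =>
    congrArg Subtype.val (mul_comm (⟨u, hu⟩ : ↥W) ⟨v, hv⟩)
  set n := d * s with hn_def
  have hnW : n ∈ W := by
    have : d * s = d * (s * d) * d⁻¹ := by group
    rw [hn_def, this]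
    exact hWn.conj_mem _ hsd d
  have hn2 : n * n = 1 := hW2 n hnW
  have hni : n⁻¹ = n := inv_eq_of_mul_eq_one_left hn2
  have hdn : d = n * s := by rw [hn_def, mul_assoc, hs2, mul_one]
  have hcomm_sd : s * d = d * s := by
    have h1 : (d * s)⁻¹ = d * s := inv_eq_of_mul_eq_one_left hn2
    rw [mul_inv_rev, hsi, hdi] at h1
    exact h1
  have hsn : s * n * s⁻¹ = n := by
    rw [hsi, hn_def, ← mul_assoc, hcomm_sd, mul_assoc, mul_assoc, hs2, mul_one]
  -- the element `y`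
  obtain ⟨p₀, hp₀J, hp₀⟩ := hp
  set y := p₀⁻¹ * (s * p₀ * s⁻¹) with hy_def
  have hyJ : y ∈ J :=
    J.mul_mem (J.inv_mem hp₀J) ((Subgroup.mem_normalizer_iff.mp hsJ p₀).mp hp₀J)
  have hy1 : y ≠ 1 := fun h => hp₀ (inv_mul_eq_one.mp h).symm
  have hsy : s * y * s⁻¹ = y⁻¹ := by
    have e1 : s * y * s⁻¹ = (s * p₀ * s⁻¹)⁻¹ * ((s * s) * p₀ * (s * s)⁻¹) := by
      rw [hy_def]; group
    have e2 : y⁻¹ = (s * p₀ * s⁻¹)⁻¹ * p₀ := by rw [hy_def]; group
    rw [e1, e2, hs2, one_mul, inv_one, mul_one]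
  -- conjugating `d` by elements `y c` with `c` fixed by `s`
  have hprod : ∀ c : G, s * c * s⁻¹ = c →
      d * ((y * c) * d * (y * c)⁻¹) = (n * (y⁻¹ * (c * n * c⁻¹) * y)) * (y⁻¹ * y⁻¹) := by
    intro c hc
    have e1 : d * ((y * c) * d * (y * c)⁻¹) =
        n * (s * y * s⁻¹) * (s * c * s⁻¹) * n⁻¹ * (y * c)⁻¹ := by
      have : n * (s * y * s⁻¹) * (s * c * s⁻¹) * n⁻¹ * (y * c)⁻¹ =
          (n * s) * (y * c) * (n * s)⁻¹ * (y * c)⁻¹ := by group
      rw [this, ← hdn, hdi]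
      group
    rw [e1, hsy, hc, hni]
    group
  have hmW : ∀ c : G, n * (y⁻¹ * (c * n * c⁻¹) * y) ∈ W := by
    intro c
    refine W.mul_mem hnW ?_
    have := hWn.conj_mem _ (hWn.conj_mem n hnW c) y⁻¹
    rwa [inv_inv] at this
  have hyyJ : y⁻¹ * y⁻¹ ∈ J := J.mul_mem (J.inv_mem hyJ) (J.inv_mem hyJ)
  have hone : s * 1 * s⁻¹ = 1 := by group
  -- `y` has order three
  have hy3 : y ^ 3 = 1 := by
    have he : (y * 1) * d * (y * 1)⁻¹ ∈ D := hconj _ d hd
    rcases hT.2 d hd _ he with h | h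
    · exfalso
      rw [hprod 1 hone] at h
      have h1 := pow_mem_of_mul_pow W (hmW 1) h
      have h2 : (y⁻¹ * y⁻¹) ^ 2 = 1 := inter_trivial W hW2 J hJ (J.pow_mem hyyJ 2) h1
      have h3 : (y * y) * (y * y) = 1 := by
        have : (y * y) * (y * y) = ((y⁻¹ * y⁻¹) ^ 2)⁻¹ := by
          simp only [pow_succ, pow_zero, one_mul, mul_inv_rev, inv_inv, mul_assoc]
        rw [this, h2, inv_one]
      have h4 : y * y = 1 := eq_one_of_sq_of_mem hJ (J.mul_mem hyJ hyJ) h3
      exact hy1 (eq_one_of_sq_of_mem hJ hyJ h4)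
    · rw [hprod 1 hone] at h
      have h1 := pow_mem_of_mul_pow W (hmW 1) h
      have h2 : (y⁻¹ * y⁻¹) ^ 3 = 1 := inter_trivial W hW2 J hJ (J.pow_mem hyyJ 3) h1
      have h3 : (y ^ 3) * (y ^ 3) = 1 := by
        have : (y ^ 3) * (y ^ 3) = ((y⁻¹ * y⁻¹) ^ 3)⁻¹ := by
          simp only [pow_succ, pow_zero, one_mul, mul_inv_rev, inv_inv, mul_assoc]
        rw [this, h2, inv_one]
      exact eq_one_of_sq_of_mem hJ (J.pow_mem hyJ 3) h3
  have hyy : y⁻¹ * y⁻¹ = y := by
    have : y⁻¹ * y⁻¹ = y * (y ^ 3)⁻¹ := by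
      simp only [pow_succ, pow_zero, one_mul]; group
    rw [this, hy3, inv_one, mul_one]
  -- the automorphisms
  let Y : MulAut ↥W := MulAut.conjNormal y
  let S : MulAut ↥W := MulAut.conjNormal s
  have hY3 : ∀ x : ↥W, Y (Y (Y x)) = x := by
    intro x
    apply Subtype.ext
    simp only [Y, MulAut.conjNormal_apply]
    have : y * (y * (y * (x : G) * y⁻¹) * y⁻¹) * y⁻¹ = y ^ 3 * x * (y ^ 3)⁻¹ := by
      simp only [pow_succ, pow_zero, one_mul]; group
    rw [this, hy3, one_mul, inv_one, mul_one]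
  have hysy : y * s * y = s := by
    have : y * s * y = y * (s * y * s⁻¹) * s := by group
    rw [this, hsy, mul_inv_cancel, one_mul]
  have hSY : ∀ x : ↥W, Y (S (Y x)) = S x := by
    intro x
    apply Subtype.ext
    simp only [Y, S, MulAut.conjNormal_apply]
    have : y * (s * (y * (x : G) * y⁻¹) * s⁻¹) * y⁻¹ = (y * s * y) * x * (y * s * y)⁻¹ := by
      group
    rw [this, hysy]
  let ρ : ↥J →* MulAut ↥W := (MulAut.conjNormal (H := W)).comp J.subtype
  let σ : MulAut ↥J := conjAut J s hsJ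
  let n' : ↥W := ⟨n, hnW⟩
  have hSn : S n' = n' := Subtype.ext (by simp only [S, n', MulAut.conjNormal_apply]; exact hsn)
  -- stability
  have hstab : ∀ c : ↥J, σ c = c → ∃ w : ↥W, n' * ρ c n' = w * S w := by
    intro c hc
    have hc' : s * (c : G) * s⁻¹ = c := congrArg Subtype.val hc
    apply exists_of_nrm_mul_eq_one Y S hA2 hY3 hSY hSn
    · apply Subtype.ext
      simp only [S, ρ, n', MonoidHom.comp_apply, Subgroup.coe_subtype, MulAut.conjNormal_apply]
      have : s * ((c : G) * n * (c : G)⁻¹) * s⁻¹ =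
          (s * c * s⁻¹) * (s * n * s⁻¹) * (s * c * s⁻¹)⁻¹ := by group
      rw [this, hc', hsn]
    · have he : (y * c) * d * (y * c)⁻¹ ∈ D := hconj _ d hd
      have h3 : (d * ((y * c) * d * (y * c)⁻¹)) ^ 3 = 1 := by
        rcases hT.2 d hd _ he with h | h
        · exfalso
          rw [hprod c hc', hyy] at h
          have h1 := pow_mem_of_mul_pow W (hmW c) h
          have h2 : y ^ 2 = 1 := inter_trivial W hW2 J hJ (J.pow_mem hyJ 2) h1
          rw [pow_two] at h2
          exact hy1 (eq_one_of_sq_of_mem hJ hyJ h2)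
        · exact h
      rw [hprod c hc', hyy] at h3
      set m₂ := n * (y⁻¹ * ((c : G) * n * (c : G)⁻¹) * y) with hm₂
      have h4 : (m₂ * y) ^ 3 = m₂ * (y * m₂ * y⁻¹) * (y * (y * m₂ * y⁻¹) * y⁻¹) * y ^ 3 := by
        simp only [pow_succ, pow_zero, one_mul]; group
      rw [h4, hy3, mul_one] at h3
      apply Subtype.ext
      simp only [nrm, Y, ρ, n', MonoidHom.comp_apply, Subgroup.coe_subtype,
        MulAut.conjNormal_apply, MulAut.conjNormal_symm_apply, Subgroup.coe_mul,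
        Subgroup.coe_one]
      exact h3
  have hcompat : ∀ (a : ↥J) (x : ↥W), S (ρ a x) = ρ (σ a) (S x) := by
    intro a x
    apply Subtype.ext
    simp only [ρ, σ, S, MonoidHom.comp_apply, Subgroup.coe_subtype, MulAut.conjNormal_apply,
      conjAut_coe]
    group
  have hσ2 : ∀ a : ↥J, σ (σ a) = a := by
    intro a
    apply Subtype.ext
    simp only [σ, conjAut_coe]
    have : s * (s * (a : G) * s⁻¹) * s⁻¹ = (s * s) * a * (s * s)⁻¹ := by group
    rw [this, hs2, one_mul, inv_one, mul_one]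
  have hodd : Odd (Finset.univ.filter (fun a : ↥J => σ a = a)).card := by
    let F : Subgroup ↥J := σ.toMonoidHom.eqLocus (MonoidHom.id _)
    have h1 : (Finset.univ.filter (fun a : ↥J => σ a = a)).card = Nat.card F := by
      rw [Nat.card_eq_fintype_card, Fintype.card_subtype]
      apply congrArg Finset.card
      ext a
      simp only [Finset.mem_filter, Finset.mem_univ, true_and]
      exact Iff.rfl
    rw [h1]
    obtain ⟨k, hk⟩ := IsPGroup.iff_card.mp hJ
    have h2 : Nat.card F ∣ 3 ^ k := by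
      rw [← hk]; exact Subgroup.card_subgroup_dvd_card F
    obtain ⟨j, -, hj⟩ := (Nat.dvd_prime_pow Nat.prime_three).mp h2
    rw [hj]
    exact Odd.pow (by decide)
  obtain ⟨t, w, ht, htw⟩ := exists_stable ρ σ S hA2 hcompat hσ2 n' hSn hodd hstab
  refine ⟨w, w.2, ?_⟩
  -- `w d w⁻¹ = t s`
  have h1 : (w * n' * S w : ↥W) = t := by
    calc (w * n' * S w : ↥W) = n' * (w * S w) := by
          rw [mul_comm w n', mul_assoc]
      _ = n' * (t * n') := by rw [htw]
      _ = t * (n' * n') := by rw [mul_left_comm]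
      _ = t := by rw [hA2, mul_one]
  have h1' : (w : G) * n * (s * w * s⁻¹) = t := congrArg Subtype.val h1
  have hwi : (w : G)⁻¹ = w := inv_eq_of_mul_eq_one_left (hW2 w w.2)
  have h2 : (w : G) * d * (w : G)⁻¹ = t * s := by
    rw [← h1', hdn, hwi]
    have : (w : G) * n * (s * w * s⁻¹) * s = w * (n * s) * w * (s⁻¹ * s) := by group
    rw [this, inv_mul_cancel, mul_one]
  rw [h2]
  apply (Subgroup.normalizer (J : Set G)).mul_mem _ hsJ
  rw [Subgroup.mem_normalizer_iff]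
  have key : ∀ a ∈ J, (t : G) * a * (t : G)⁻¹ = a := by
    intro a ha
    have h3 : (a : G) * t * a⁻¹ = t := congrArg Subtype.val (ht ⟨a, ha⟩)
    calc (t : G) * a * (t : G)⁻¹ = (a * t * a⁻¹) * a * (t : G)⁻¹ := by rw [h3]
      _ = a := by group
  intro a
  constructor
  · intro ha
    rw [key a ha]; exact ha
  · intro ha
    have h3 := key _ ha
    have h4 : (t : G)⁻¹ * ((t : G) * ((t : G) * a * (t : G)⁻¹) * (t : G)⁻¹) * t =
        (t : G)⁻¹ * ((t : G) * a * (t : G)⁻¹) * t := by rw [h3]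
    have e1 : (t : G)⁻¹ * ((t : G) * ((t : G) * a * (t : G)⁻¹) * (t : G)⁻¹) * t =
        t * a * (t : G)⁻¹ := by group
    have e2 : (t : G)⁻¹ * ((t : G) * a * (t : G)⁻¹) * t = a := by group
    rw [e1, e2] at h4
    rw [← h4]; exact ha

end Main

end Cfsg.Agent.H9.TT3Perp
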