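import Mathlib
import Cfsg.Agent.H9.TT3PerpB
import Cfsg.Agent.H9.TT3PerpF

set_option autoImplicit false
set_option linter.unusedSectionVars false
set_option linter.style.haveILetI false

/-!
3-transposition classes on which commuting is transitive: a member normalizes a Sylow 3-subgroup.
-/

namespace Cfsg.Agent.H9.TT3Perp

open Cfsg Cfsg.Agent.Lead.TT

open scoped Pointwise

universe u

section Omega

variable {G : Type u} [Group G]

/-- the elements of order at most two in the centre of `U` -/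
def omegaCenter (U : Subgroup G) : Subgroup G where
  carrier := {g | g ∈ U ∧ (∀ u ∈ U, u * g = g * u) ∧ g * g = 1}
  mul_mem' := by
    rintro a b ⟨ha, hac, ha2⟩ ⟨hb, hbc, hb2⟩
    refine ⟨U.mul_mem ha hb, fun u hu => ?_, ?_⟩
    · rw [← mul_assoc, hac u hu, mul_assoc, hbc u hu, mul_assoc]
    · calc a * b * (a * b) = a * (b * a) * b := by group
        _ = a * (a * b) * b := by rw [hac b hb]
        _ = (a * a) * (b * b) := by group
        _ = 1 := by rw [ha2, hb2, one_mul]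
  one_mem' := ⟨U.one_mem, fun u _ => by rw [mul_one, one_mul], by rw [one_mul]⟩
  inv_mem' := by
    rintro a ⟨ha, hac, ha2⟩
    have : a⁻¹ = a := inv_eq_of_mul_eq_one_left ha2
    rw [this]
    exact ⟨ha, hac, ha2⟩

lemma mem_omegaCenter (U : Subgroup G) (g : G) :
    g ∈ omegaCenter U ↔ g ∈ U ∧ (∀ u ∈ U, u * g = g * u) ∧ g * g = 1 := Iff.rfl

lemma omegaCenter_le (U : Subgroup G) : omegaCenter U ≤ U := fun _ h => h.1

lemma omegaCenter_sq (U : Subgroup G) : ∀ w ∈ omegaCenter U, w * w = 1 := fun _ h => h.2.2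

instance omegaCenter_normal (U : Subgroup G) [hU : U.Normal] : (omegaCenter U).Normal := by
  constructor
  rintro a ⟨ha, hac, ha2⟩ g
  refine ⟨hU.conj_mem a ha g, fun u hu => ?_, ?_⟩
  · have hu' : g⁻¹ * u * g ∈ U := by
      have := hU.conj_mem u hu g⁻¹
      rwa [inv_inv] at this
    calc u * (g * a * g⁻¹) = g * ((g⁻¹ * u * g) * a) * g⁻¹ := by group
      _ = g * (a * (g⁻¹ * u * g)) * g⁻¹ := by rw [hac _ hu']
      _ = g * a * g⁻¹ * u := by group
  · calc g * a * g⁻¹ * (g * a * g⁻¹) = g * (a * a) * g⁻¹ := by group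
      _ = 1 := by rw [ha2]; group

lemma omegaCenter_ne_bot [Finite G] (U : Subgroup G) (hU : IsPGroup 2 U) (hne : U ≠ ⊥) :
    omegaCenter U ≠ ⊥ := by
  haveI : Fact (Nat.Prime 2) := ⟨Nat.prime_two⟩
  haveI : Nontrivial ↥U := (Subgroup.nontrivial_iff_ne_bot U).mpr hne
  haveI hc : Nontrivial (Subgroup.center ↥U) := hU.center_nontrivial
  obtain ⟨k, hk⟩ := IsPGroup.iff_card.mp (hU.to_subgroup (Subgroup.center ↥U))
  have hk0 : k ≠ 0 := by
    intro h0
    rw [h0, pow_zero] at hk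
    have := Finite.one_lt_card_iff_nontrivial.mpr hc
    omega
  have hdvd : 2 ∣ Nat.card (Subgroup.center ↥U) := by
    rw [hk]; exact dvd_pow_self 2 hk0
  obtain ⟨z, hz⟩ := exists_prime_orderOf_dvd_card' 2 hdvd
  have hz2 : z * z = 1 := by
    rw [← pow_two, ← hz]; exact pow_orderOf_eq_one z
  have hz1 : z ≠ 1 := by
    intro h
    rw [h, orderOf_one] at hz
    omega
  intro hbot
  have hmem : ((z : ↥U) : G) ∈ omegaCenter U := by
    refine ⟨(z : ↥U).2, fun u hu => ?_, ?_⟩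
    · have := Subgroup.mem_center_iff.mp z.2 ⟨u, hu⟩
      exact congrArg Subtype.val this
    · have := congrArg (fun x : Subgroup.center ↥U => ((x : ↥U) : G)) hz2
      exact this
  rw [hbot, Subgroup.mem_bot] at hmem
  apply hz1
  apply Subtype.ext
  apply Subtype.ext
  exact hmem

end Omega

section Main

lemma mem_smul_sylow {G : Type u} [Group G] [Finite G] (P : Sylow 3 G) (g x : G) :
    x ∈ (g • P : Sylow 3 G) ↔ g⁻¹ * x * g ∈ P := by
  show x ∈ ((g • P : Sylow 3 G) : Subgroup G) ↔ _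
  rw [Sylow.coe_subgroup_smul, Subgroup.mem_pointwise_smul_iff_inv_smul_mem, MulAut.smul_def,
    ← map_inv, MulAut.conj_apply, inv_inv]
  rfl

/-- the base case: width one -/
theorem exists_sylow_base {G : Type u} [Group G] [Finite G] {D : Set G}
    (hD : Cfsg.IsThreeTranspositionClass D) (htr : CommTrans D)
    (hU : Cfsg.pCore 2 G = ⊥) {d : G} (hd : d ∈ D) :
    ∃ P : Sylow 3 G, d ∈ Subgroup.normalizer (P : Set G) := by
  haveI : Fact (Nat.Prime 3) := ⟨Nat.prime_three⟩
  have hgrp : Cfsg.IsThreeTranspositionGroup D := ⟨hD.1, fun g x hx => conj_mem hD hx g, hD.2.2⟩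
  have hw : ∀ a ∈ D, ∀ b ∈ D, Commute a b → a = b := by
    intro a ha b hb hab
    have h1 := mul_mem_pCore_of_commute hD htr ha hb hab
    rw [hU, Subgroup.mem_bot] at h1
    have := mul_eq_one_iff_eq_inv.mp h1
    rwa [inv_eq hD.1 hb] at this
  have htop := Cfsg.Agent.H9.TT3Width.sup_pCore_eq_top_of_width_one hgrp hd hw
  set Q := Cfsg.pCore 3 G with hQ
  obtain ⟨P⟩ : Nonempty (Sylow 3 G) := inferInstance
  have hQP : Q ≤ (P : Subgroup G) := Cfsg.Agent.H1.pCore_le_sylow P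
  have hcard : Nat.card G ∣ 2 * Nat.card Q := by
    have h1 := Cfsg.Agent.H1.card_sup_dvd_of_normal (Subgroup.zpowers d) Q
    rw [htop, Subgroup.card_top, Nat.card_zpowers, hD.1.1 d hd] at h1
    exact h1
  have hPQ : Nat.card (P : Subgroup G) ∣ Nat.card Q := by
    have h1 : Nat.card (P : Subgroup G) ∣ 2 * Nat.card Q :=
      (Subgroup.card_subgroup_dvd_card _).trans hcard
    obtain ⟨k, hk⟩ := IsPGroup.iff_card.mp P.2
    have hcop : Nat.Coprime (Nat.card (P : Subgroup G)) 2 := by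
      rw [hk]; exact Nat.Coprime.pow_left _ (by norm_num)
    exact hcop.dvd_of_dvd_mul_left h1
  have heq : Q = (P : Subgroup G) :=
    Subgroup.eq_of_le_of_card_ge hQP (Nat.le_of_dvd Nat.card_pos hPQ)
  refine ⟨P, ?_⟩
  have hn : (P : Subgroup G).Normal := heq ▸ (Cfsg.Agent.H1.pCore_normal 3)
  rw [← Sylow.smul_eq_iff_mem_normalizer]
  exact Sylow.smul_eq_of_normal

theorem exists_sylow_aux : ∀ (n : ℕ) (G : Type u) [Group G] [Finite G] (D : Set G),
    Nat.card G = n → Cfsg.IsThreeTranspositionClass D → (∃ a ∈ D, ∃ b ∈ D, a ≠ b) →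
    CommTrans D → ∀ d ∈ D, ∃ P : Sylow 3 G, d ∈ Subgroup.normalizer (P : Set G) := by
  intro n
  induction n using Nat.strong_induction_on with
  | _ n ih =>
    intro G _ _ D hcard hD hD2 htr d hd
    haveI : Fact (Nat.Prime 3) := ⟨Nat.prime_three⟩
    by_cases hU : Cfsg.pCore 2 G = ⊥
    · exact exists_sylow_base hD htr hU hd
    set U := Cfsg.pCore 2 G with hU_def
    have hUp : IsPGroup 2 U := Cfsg.Agent.H1.pCore_isPGroup 2
    set W := omegaCenter U with hW_def
    have hWU : W ≤ U := omegaCenter_le U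
    have hWp : IsPGroup 2 W := hUp.to_le hWU
    have hWne : W ≠ ⊥ := omegaCenter_ne_bot U hUp hU
    have hW2 : ∀ w ∈ W, w * w = 1 := omegaCenter_sq U
    set π := QuotientGroup.mk' W with hπ
    have hsurj : Function.Surjective π := QuotientGroup.mk'_surjective W
    -- the quotient is smaller
    have hlt : Nat.card (G ⧸ W) < n := by
      have h1 := Subgroup.card_eq_card_quotient_mul_card_subgroup W
      have h2 := (Subgroup.one_lt_card_iff_ne_bot W).mpr hWne
      have h3 : 0 < Nat.card (G ⧸ W) := Nat.card_pos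
      rw [← hcard, h1]
      nlinarith
    obtain ⟨Pbar, hPbar⟩ := ih _ hlt (G ⧸ W) (π '' D) rfl (isClass_image W hWp hD hD2)
      (two_le_image W hWp hD hD2) (commTrans_image W hWp hD.1 htr) (π d) ⟨d, hd, rfl⟩
    obtain ⟨P₁, hP₁⟩ := Sylow.mapSurjective_surjective hsurj 3 Pbar
    have hP₁' : (P₁ : Subgroup G).map π = (Pbar : Subgroup (G ⧸ W)) := by
      rw [← hP₁]; rfl
    set R := (Pbar : Subgroup (G ⧸ W)).comap π with hR
    have h₁ : (P₁ : Subgroup G) ≤ R := by
      rw [hR, ← hP₁']; exact Subgroup.le_comap_map _ _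
    have h₂ : ((d • P₁ : Sylow 3 G) : Subgroup G) ≤ R := by
      intro x hx
      have hx' : d⁻¹ * x * d ∈ P₁ := (mem_smul_sylow P₁ d x).mp hx
      rw [hR, Subgroup.mem_comap]
      have h3 : π (d⁻¹ * x * d) ∈ (Pbar : Subgroup (G ⧸ W)) := by
        rw [← hP₁']; exact Subgroup.mem_map_of_mem _ hx'
      have h4 := (Subgroup.mem_normalizer_iff.mp hPbar _).mp h3
      have h5 : π d * π (d⁻¹ * x * d) * (π d)⁻¹ = π x := by
        rw [← map_inv, ← map_mul, ← map_mul]
        congr 1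
        group
      rw [h5] at h4
      exact h4
    obtain ⟨r, hr⟩ := MulAction.exists_smul_eq ↥R ((d • P₁ : Sylow 3 G).subtype h₂)
      (P₁.subtype h₁)
    rw [Sylow.smul_subtype] at hr
    have hr' : (r : G) • (d • P₁ : Sylow 3 G) = P₁ := Sylow.subtype_injective hr
    rw [← mul_smul, Sylow.smul_eq_iff_mem_normalizer] at hr'
    -- write `r = p w`
    have hrR : (r : G) ∈ (P₁ : Subgroup G) ⊔ W := by
      have h3 : R = (P₁ : Subgroup G) ⊔ W := by
        rw [hR, ← hP₁', Subgroup.comap_map_eq, QuotientGroup.ker_mk']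
      rw [← h3]; exact r.2
    rw [← SetLike.mem_coe, Subgroup.mul_normal, Set.mem_mul] at hrR
    obtain ⟨p, hp, w, hw, hpw⟩ := hrR
    have hs₀ : w * d ∈ Subgroup.normalizer ((P₁ : Subgroup G) : Set G) := by
      have h3 : w * d = p⁻¹ * ((r : G) * d) := by rw [← hpw]; group
      rw [h3]
      exact Subgroup.mul_mem _ (Subgroup.le_normalizer (Subgroup.inv_mem _ hp)) hr'
    have hd2 : d * d = 1 := sq_one hD.1 hd
    have hw' : w * d * d ∈ W := by rw [mul_assoc, hd2, mul_one]; exact hw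
    obtain ⟨s, hs2, hsJ, hsd⟩ := exists_involution W hW2 (P₁ : Subgroup G) P₁.2 hd2 hs₀ hw'
    have hds : d * s ∈ U := by
      have : d * s = d * (s * d) * d⁻¹ := by group
      rw [this]
      exact hWU ((omegaCenter_normal U).conj_mem _ hsd d)
    obtain ⟨p₀, hp₀, hp₀'⟩ := exists_not_fixed hD hD2 htr hd P₁ hds
    obtain ⟨w₁, hw₁, hw₁'⟩ := exists_conj_normalizer W hW2 (P₁ : Subgroup G) P₁.2 hD.1
      (fun g a ha => conj_mem hD ha g) hd hs2 hsJ hsd ⟨p₀, hp₀, hp₀'⟩
    refine ⟨w₁⁻¹ • P₁, ?_⟩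
    have h6 : (w₁ * d * w₁⁻¹) • P₁ = P₁ := Sylow.smul_eq_iff_mem_normalizer.mpr hw₁'
    have h7 : d • (w₁⁻¹ • P₁) = w₁⁻¹ • P₁ := by
      have h8 : d • (w₁⁻¹ • P₁) = w₁⁻¹ • ((w₁ * d * w₁⁻¹) • P₁) := by
        rw [← mul_smul, ← mul_smul]
        congr 1
        group
      rw [h8, h6]
    exact Sylow.smul_eq_iff_mem_normalizer.mp h7

end Main

end Cfsg.Agent.H9.TT3Perp
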