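import Mathlib
import Cfsg.Agent.H9.TT3PerpG

set_option autoImplicit false
set_option linter.unusedSectionVars false
set_option linter.style.haveILetI false

/-!
3-transposition classes with `D_d ⊆ V_d`: the final statement.
-/

namespace Cfsg.Agent.H9.TT3Perp

open Cfsg Cfsg.Agent.Lead.TT

universe u

variable {G : Type u} [Group G] [Finite G] {D : Set G}

/-- the hypothesis at one member gives transitivity of commuting -/
theorem commTrans_of_eq (hD : Cfsg.IsThreeTranspositionClass D) {d : G} (hd : d ∈ D)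
    (hV : {y : G | y ∈ D ∧ Commute d y} = {v : G | v ∈ D ∧ ∀ e ∈ D, Commute v e ↔ Commute d e}) :
    CommTrans D := by
  have hrel : ∀ b ∈ D, ∀ a ∈ D, Commute b a → Rel D b a := by
    intro b hb a ha hba
    obtain ⟨d₀, hd₀, hcl⟩ := hD.2.1
    have hd' : IsConj d₀ d := by rw [hcl] at hd; exact hd
    have hb' : IsConj d₀ b := by rw [hcl] at hb; exact hb
    obtain ⟨g, hg⟩ := isConj_iff.mp (hd'.symm.trans hb')
    have ha' : g⁻¹ * a * g ∈ D := by
      have := conj_mem hD ha g⁻¹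
      rwa [inv_inv] at this
    have hc : Commute d (g⁻¹ * a * g) := by
      have h1 : b * a = a * b := hba.eq
      show d * (g⁻¹ * a * g) = g⁻¹ * a * g * d
      calc d * (g⁻¹ * a * g) = g⁻¹ * ((g * d * g⁻¹) * a) * g := by group
        _ = g⁻¹ * (a * (g * d * g⁻¹)) * g := by rw [hg, h1]
        _ = g⁻¹ * a * g * d := by group
    have h2 : g⁻¹ * a * g ∈ {y : G | y ∈ D ∧ Commute d y} := ⟨ha', hc⟩
    rw [hV] at h2
    have h3 : Rel D d (g⁻¹ * a * g) := h2
    have h4 := h3.conj hD g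
    have e1 : g * (g⁻¹ * a * g) * g⁻¹ = a := by group
    rw [hg, e1] at h4
    exact h4
  intro a ha b hb c hc hab hbc
  exact ((hrel b hb a ha hab.symm).2 c hc).mpr hbc

/-- the main theorem -/
theorem main (hD : Cfsg.IsThreeTranspositionClass D) (hD2 : ∃ a ∈ D, ∃ b ∈ D, a ≠ b)
    (htr : CommTrans D) {d : G} (hd : d ∈ D) :
    ∃ P : Sylow 3 G, d ∈ Subgroup.normalizer (P : Set G) ∧
      Subgroup.zpowers d ⊔ (P : Subgroup G) ⊔ Cfsg.pCore 2 G = ⊤ := by
  obtain ⟨P, hP⟩ := exists_sylow_aux (Nat.card G) G D rfl hD hD2 htr d hd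
  exact ⟨P, hP, sup_sylow hD hD2 htr hd P⟩

end Cfsg.Agent.H9.TT3Perp
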