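import Mathlib
import Cfsg.Agent.H9.TT3PerpH
import Cfsg.Agent.Lib.Helper5.U3Even.IndexTwo

set_option autoImplicit false
set_option linter.unusedSectionVars false
set_option linter.style.haveILetI false

/-!
`SU₃(2)` has no Klein four-subgroups; 3-transposition groups with `G / O₂(G)` inside `SU₃(2)`.
-/

namespace Cfsg.Agent.H9.TT3Perp

open Cfsg Cfsg.Agent.Lead.TT Cfsg.Agent.Lib.Helper5.U3Even

universe u

section SU3

variable {F : Type} [Field F] [Fintype F]

/-- commuting involutions of `SU₃(2)` are equal -/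
theorem su3_invol_eq (hF : Fintype.card F = 4) {x y : SU 3 F 2} (hx : x * x = 1) (hy : y * y = 1)
    (hx1 : x ≠ 1) (hy1 : y ≠ 1) (hc : Commute x y) : x = y := by
  haveI : Fact (Nat.Prime 2) := ⟨Nat.prime_two⟩
  have hF' : Fintype.card F = 2 ^ 2 := by rw [hF]; norm_num
  have hq : Even 2 := by decide
  have hqn : 2 = 2 ^ 1 := by norm_num
  have h2 : (2 : F) = 0 := two_eq_zero hq hF'
  have hxy : (x * y) ^ 4 = 1 := by
    have h1 : (x * y) * (x * y) = 1 := by
      calc (x * y) * (x * y) = x * (y * x) * y := by group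
        _ = x * (x * y) * y := by rw [hc.eq]
        _ = (x * x) * (y * y) := by group
        _ = 1 := by rw [hx, hy, one_mul]
    calc (x * y) ^ 4 = ((x * y) * (x * y)) * ((x * y) * (x * y)) := by
          simp only [pow_succ, pow_zero, one_mul, mul_assoc]
      _ = 1 := by rw [h1, one_mul]
  have hH := isPGroup_two_closure_pair x y hx hy hxy
  obtain ⟨S, hS⟩ := hH.exists_le_sylow
  obtain ⟨e⟩ := sylow_equiv_SU hqn hF' hq S
  let c := coordsOfEquiv hq hF' e
  have hxS : x ∈ (S : Subgroup (SU 3 F 2)) := hS (Subgroup.subset_closure (by simp))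
  have hyS : y ∈ (S : Subgroup (SU 3 F 2)) := hS (Subgroup.subset_closure (by simp))
  have key : ∀ z : ↥(S : Subgroup (SU 3 F 2)), z * z = 1 → z ≠ 1 → c.a z = 0 ∧ c.b z = 1 := by
    intro z hz hz1
    have ha : c.a z = 0 := (c.sq_eq_one_iff hq hF' z).mp hz
    refine ⟨ha, ?_⟩
    have hcond := c.hcond z
    rw [ha, zero_mul] at hcond
    have h3 : c.b z * (c.b z + 1) = 0 := by
      rw [← hcond]; ring
    rcases mul_eq_zero.mp h3 with h | h
    · exact absurd (c.eq_one z ha h) hz1
    · have : c.b z = c.b z + 1 + 1 - 2 := by ring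
      rw [this, h, h2]; ring
  have hx' := key ⟨x, hxS⟩ (Subtype.ext hx) (fun h => hx1 (congrArg Subtype.val h))
  have hy' := key ⟨y, hyS⟩ (Subtype.ext hy) (fun h => hy1 (congrArg Subtype.val h))
  have := c.hinj ⟨x, hxS⟩ ⟨y, hyS⟩ (by rw [hx'.1, hy'.1]) (by rw [hx'.2, hy'.2])
  exact congrArg Subtype.val this

end SU3

section Compl

variable {G : Type u} [Group G] [Finite G] {D : Set G}

/-- a class generating a group with trivial centre has at least two members -/
lemma two_le_of_center (hD : Cfsg.IsThreeTranspositionClass D) (hZ : Subgroup.center G = ⊥) :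
    ∃ a ∈ D, ∃ b ∈ D, a ≠ b := by
  by_contra hcon
  push Not at hcon
  obtain ⟨d, hd, -⟩ := hD.2.1
  have hdc : d ∈ Subgroup.center G := by
    rw [Subgroup.mem_center_iff]
    intro g
    have h1 := hcon _ (conj_mem hD hd g) d hd
    calc g * d = g * d * g⁻¹ * g := by group
      _ = d * g := by rw [h1]
  rw [hZ, Subgroup.mem_bot] at hdc
  exact ne_one hD.1 hd hdc

/-- if commuting involutions of `G / O₂(G)` are equal, then `O₂(G)` has a complement -/
theorem exists_complement (hD : Cfsg.IsThreeTranspositionClass D)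
    (hD2 : ∃ a ∈ D, ∃ b ∈ D, a ≠ b)
    (hinv : ∀ x y : G ⧸ Cfsg.pCore 2 G, x * x = 1 → y * y = 1 → x ≠ 1 → y ≠ 1 → Commute x y →
      x = y) :
    ∃ K : Subgroup G, (Cfsg.pCore 2 G).IsComplement' K := by
  set U := Cfsg.pCore 2 G with hU
  have hUp : IsPGroup 2 U := Cfsg.Agent.H1.pCore_isPGroup 2
  set π := QuotientGroup.mk' U with hπ
  have hcl := isClass_image U hUp hD hD2
  have hord : ∀ a ∈ D, π a * π a = 1 ∧ π a ≠ 1 := by
    intro a ha
    have h2 := hcl.1.1 (π a) ⟨a, ha, rfl⟩
    refine ⟨?_, fun h => ?_⟩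
    · have h3 := pow_orderOf_eq_one (π a)
      rw [h2, pow_two] at h3
      exact h3
    · rw [h, orderOf_one] at h2; omega
  have htr : CommTrans D := by
    intro a ha b hb c hc hab hbc
    have h1 : π a = π b := hinv _ _ (hord a ha).1 (hord b hb).1 (hord a ha).2 (hord b hb).2
      (hab.map π)
    have h2 : π b = π c := hinv _ _ (hord b hb).1 (hord c hc).1 (hord b hb).2 (hord c hc).2
      (hbc.map π)
    exact commute_of_mk_eq U hUp hD.1 ha hc (h1.trans h2)
  obtain ⟨d, hd, -⟩ := hD.2.1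
  obtain ⟨P, hP, htop⟩ := main hD hD2 htr hd
  have hd2 : d * d = 1 := sq_one hD.1 hd
  refine ⟨Subgroup.zpowers d ⊔ (P : Subgroup G), ?_⟩
  apply Subgroup.isComplement'_of_disjoint_and_mul_eq_univ
  · rw [Subgroup.disjoint_def]
    intro x hxU hxK
    have hle : Subgroup.zpowers d ≤ Subgroup.normalizer ((P : Subgroup G) : Set G) := by
      rw [Subgroup.zpowers_le]; exact hP
    rw [← SetLike.mem_coe, Subgroup.coe_mul_of_left_le_normalizer_right _ _ hle,
      Set.mem_mul] at hxK
    obtain ⟨z, hz, p, hp, rfl⟩ := hxK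
    obtain ⟨k, rfl⟩ := Subgroup.mem_zpowers_iff.1 hz
    rcases Int.even_or_odd k with ⟨j, hj⟩ | ⟨j, hj⟩
    · have hz1 : d ^ k = 1 := by
        rw [hj, ← two_mul, zpow_mul, zpow_two, hd2, one_zpow]
      rw [hz1, one_mul] at hxU ⊢
      have hdis : Disjoint U (P : Subgroup G) :=
        IsPGroup.disjoint_of_ne 2 3 (by norm_num) _ _ hUp P.2
      exact Subgroup.disjoint_def.mp hdis hxU hp
    · exfalso
      have hz1 : d ^ k = d := by
        rw [hj, zpow_add, zpow_mul, zpow_two, hd2, one_zpow, one_mul, zpow_one]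
      rw [hz1] at hxU
      have h1 : π (d * p) = 1 := (QuotientGroup.eq_one_iff _).mpr hxU
      rw [map_mul] at h1
      have h2 : π d = (π p)⁻¹ := eq_inv_of_mul_eq_one_left h1
      have h3 : π d ∈ (P : Subgroup G).map π := by
        rw [h2]
        exact Subgroup.inv_mem _ (Subgroup.mem_map_of_mem _ hp)
      have h4 : IsPGroup 3 ((P : Subgroup G).map π) := P.2.map π
      exact (hord d hd).2 (eq_one_of_sq_of_mem h4 h3 (hord d hd).1)
  · rw [← Subgroup.normal_mul, ← Subgroup.coe_top, sup_comm, htop]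

end Compl

end Cfsg.Agent.H9.TT3Perp
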