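import Cfsg.Agent.H9.UT5Model

/-!
# Computations in the bit-coded model of `UT₅(2)` modulo its centre

The centre of `UT₅(2)` is `{0, 8}` in codes, so the quotient is modelled by the `512` codes whose bit `3` is
zero, with the product `rd (cmul a b)`.  We compute the sizes of all centralizers in this quotient, once, and
record the consequences that are needed.
-/

set_option autoImplicit false

namespace Cfsg.Agent.H9.UT5

/-- a bounded universal quantifier that the kernel evaluates quickly -/
def allB (f : ℕ → Bool) : ℕ → Bool
  | 0 => true
  | n + 1 => cond (f n) (allB f n) false

theorem allB_spec {f : ℕ → Bool} : ∀ {n : ℕ}, allB f n = true → ∀ k < n, f k = true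
  | 0, _, k, hk => absurd hk (Nat.not_lt_zero k)
  | n + 1, h, k, hk => by
    rw [allB] at h
    cases hf : f n
    · rw [hf] at h; exact absurd h (by simp)
    · rw [hf] at h
      rcases Nat.lt_succ_iff_lt_or_eq.1 hk with h1 | h1
      · exact allB_spec h k h1
      · rw [h1]; exact hf

/-- a bounded count that the kernel evaluates quickly -/
def cntB (f : ℕ → Bool) : ℕ → ℕ
  | 0 => 0
  | n + 1 => Nat.add (cond (f n) 1 0) (cntB f n)

/-- the codes below `1024` with a property -/
def FS (f : ℕ → Bool) : Set ℕ := {a | a < 1024 ∧ f a = true}

theorem cntB_eq (f : ℕ → Bool) : ∀ n : ℕ, cntB f n = ((Finset.range n).filter (fun k => f k = true)).card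
  | 0 => by simp [cntB]
  | n + 1 => by
    rw [cntB, cntB_eq f n, Finset.range_add_one, Finset.filter_insert]
    cases hf : f n
    · simp
    · simp [Nat.add_comm]

theorem FS_eq (f : ℕ → Bool) : FS f = ↑((Finset.range 1024).filter (fun k => f k = true)) := by
  ext a
  simp [FS]

theorem FS_finite (f : ℕ → Bool) : (FS f).Finite := by
  rw [FS_eq]; exact Finset.finite_toSet _

theorem ncard_FS (f : ℕ → Bool) : (FS f).ncard = cntB f 1024 := by
  rw [FS_eq, Set.ncard_coe_finset, cntB_eq]

/-- bit `3` is zero -/
def red (a : ℕ) : Bool := Nat.beq (Nat.land a 8) 0

/-- clear bit `3` -/
def rd (a : ℕ) : ℕ := Nat.land a 1015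

/-- the elements commute modulo the centre -/
def commZ (a b : ℕ) : Bool := Nat.beq (rd (cmul a b)) (rd (cmul b a))

/-- the reduced codes commuting with `a` modulo the centre -/
def cen (a : ℕ) : ℕ → Bool := fun b => cond (red b) (commZ a b) false

/-- the size of a centralizer in the quotient -/
def cntf (a : ℕ) : ℕ := cntB (cen a) 1024

/-- the codes with entries only in the first row and the last column -/
def inH (a : ℕ) : Bool := Nat.beq (Nat.land a 176) 0

/-- the reduced codes in the hook -/
def hk : ℕ → Bool := fun b => cond (red b) (inH b) false

/-- the table of the binary logarithms of the centralizer sizes, four bits for each code -/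
def TAB : ℕ := 0x44444444000000005555555500000000444444440000000055555555000000004444444400000000555555550000000044444444000000005555555500000000565656560000000056565656000000005656565600000000676767670000000056565656000000005656565600000000565656560000000067676767000000004444444400000000555555550000000044444444000000005555555500000000444444440000000055555555000000004444444400000000555555550000000056565656000000005656565600000000565656560000000067676767000000005656565600000000565656560000000056565656000000006767676700000000444444440000000066666666000000004444444400000000666666660000000044444444000000006666666600000000444444440000000066666666000000005656565600000000676767670000000056565656000000007778777800000000565656560000000067676767000000005656565600000000777877780000000044444444000000006666666600000000444444440000000066666666000000004444444400000000666666660000000044444444000000006666666600000000565656560000000067676767000000005656565600000000787978790000000056565656000000006767676700000000565656560000000078797879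

/-- the tabulated centralizer size -/
def tcnt (a : ℕ) : ℕ := Nat.shiftLeft 1 (Nat.land (Nat.shiftRight TAB (Nat.mul 4 a)) 15)

/-- the table of pairs of non-commuting elements of centralizers -/
def WIT : ℕ := 0x44030000004403000000440300000044030000000000000000000000000000000000000000000000400300000040030000004003000000400300000000000000000000000000000000000000000000004403000000440300000044030000004403000000000000000000000000000000000000000000000000000000000000000000000000000000000000000000000000000000000000000000000000000000440300000044030000004403000000440300000000000000000000000000000000000000000000004003000000400300000040030000004003000000000000000000000000000000000000000000000044030000004403000000440300000044030000000000000000000000000000000000000000000000000000000000000000000000000000000000000000000000000000000000000000000000000000000000000000000000000000000000000000000000000000000000000000000000000000000000000000000000000000000000000000000000000000000000000000000000000000000000000000000000000000000000000000000000000000000000000000000000000000000000000000000000000000000000000000000000000000000000000000000000000000000000000000000000000000000000000000000000000000000000000000000000000000000000000000000000000000000000000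0000000000000000000000000000000000000000000000000000000000000000000000000000000000000000000000000000000000000000000000000000000000000000000000000000000000000000000000000000000000000000000000000000000000000000000000000000000000000000000000000000000004801000000480100000048010000004801000000000000000000000000000000000000000000000040010000004001000000400100000040010000000000000000000000000000000000000000000000480100000048010000004801000000480100000000000000000000000000000000000000000000000000000000000000000000000000000000000000000000000000000000000000000000000000000048010000004801000000480100000048010000000000000000000000000000000000000000000000400100000040010000004001000000400100000000000000000000000000000000000000000000004801000000480100000048010000004801000000000000000000000000000000000000000000000000000000000000000000000000000000000000000000000000000000000000000000000000000000000000000000000000000000000000000000000000000000000000000000000000000000000084030800308403080030840308003084030800300000000000000000000000000000000000000000000000000000000000000000000000000000000000000000000000000000000000000000000000008801080010880108001088010800108801080010000000000000000000000000000000000000000000000000000000000000000000000000000000000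0000000000000000000000000000000000000008403080030840308003084030800308403080030000000000000000000000000000000000000000000000000000000000000000000000000000000000000000000000000000000000000000000000000880108001088010800108801080010880108001000000000000000000000000000000000000000000000840200000084020000008402000000840200000000000000000000000000000000000000000204020000020002000002040200000200020000000000000000000000000000000000000000000000000080020000008002000000800200000080020000000000000000000000000000000000000000000000000000000000000000000000000000000000000000000000000000000000000000000000000000008402000000840200000084020000008402000000000000000000000000000000000000000002040200000200020000020402000002000200000000000000000000000000000000000000000000000000800200000080020000008002000000800200000000000000000000000000000000000000000000000000000000000000000000000000000000000000000000000000000000000000000000000000000000000000000000000000000000000000000000000000000000000000000000000000000000008403080030840308003084030800308403080030000000000000000000000000000000000000000000000000000000000000000000000000000000000000000000000000000000000000000000000000880108001088010800108801080010880108001000000000000000000000000000000000000000000000000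00000000000000000000000000000000000000000000000000000000000000000000000008403080030840308003084030800308403080030000000000000000000000000000000000000000000000000000000000000000000000000000000000000000000000000000000000000000000000000880108001088010800108801080010880108001000000000000000000000000000000000000000000000c001000000c001000000c001000000c0010000000000000000000000000000000000000000020402000002000200000204020000020002000000000000000000000000000000000000000000000000008002000000800200000080020000008002000000000000000000000000000000000000000000000000000000000000000000000000000000000000000000000000000000000000000000000000000000c001000000c001000000c001000000c0010000000000000000000000000000000000000000020402000002000200000204020000020002000000000000000000000000000000000000000000000000008002000000800200000080020000008002000000000000000000000000000000000000000000000000000000000000000000000000000000000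

/-- first witness -/
def wit1 (a : ℕ) : ℕ := Nat.land (Nat.shiftRight WIT (Nat.mul 20 a)) 1023

/-- second witness -/
def wit2 (a : ℕ) : ℕ := Nat.land (Nat.shiftRight WIT (Nat.add (Nat.mul 20 a) 10)) 1023

theorem wit1_lt (a : ℕ) : wit1 a < 1024 :=
  Nat.lt_succ_of_le (Nat.and_le_right (n := Nat.shiftRight WIT (Nat.mul 20 a)) (m := 1023))

theorem wit2_lt (a : ℕ) : wit2 a < 1024 :=
  Nat.lt_succ_of_le (Nat.and_le_right (n := Nat.shiftRight WIT (Nat.add (Nat.mul 20 a) 10)) (m := 1023))

/-! ### The centre of the triangular group -/

set_option maxRecDepth 100000 in
theorem centre_check : allB (fun a => cond (Nat.beq (cmul a 1) (cmul 1 a)) (cond (Nat.beq (cmul a 16) (cmul 16 a))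
    (cond (Nat.beq (cmul a 128) (cmul 128 a)) (cond (Nat.beq (cmul a 512) (cmul 512 a))
      (cond (Nat.beq a 0) true (Nat.beq a 8)) true) true) true) true) 1024 = true := by
  decide +kernel

theorem centre_codes {a : ℕ} (ha : a < 1024) (h1 : cmul a 1 = cmul 1 a) (h2 : cmul a 16 = cmul 16 a)
    (h3 : cmul a 128 = cmul 128 a) (h4 : cmul a 512 = cmul 512 a) : a = 0 ∨ a = 8 := by
  have h := allB_spec centre_check a ha
  simp only [h1, h2, h3, h4, Nat.beq_refl, cond_true] at h
  by_cases h0 : a = 0
  · exact Or.inl h0
  · right
    have : Nat.beq a 0 = false := by
      cases hb : Nat.beq a 0
      · rfl
      · exact absurd (Nat.eq_of_beq_eq_true hb) h0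
    rw [this] at h
    exact Nat.eq_of_beq_eq_true h

set_option maxRecDepth 100000 in
theorem eight_check : allB (fun a => cond (Nat.beq (cmul a 8) (Nat.xor a 8)) (Nat.beq (cmul 8 a) (Nat.xor a 8))
    false) 1024 = true := by
  decide +kernel

theorem cmul_eight {a : ℕ} (ha : a < 1024) : cmul a 8 = Nat.xor a 8 := by
  have h := allB_spec eight_check a ha
  cases hb : Nat.beq (cmul a 8) (Nat.xor a 8)
  · rw [hb] at h; exact absurd h (by simp)
  · exact Nat.eq_of_beq_eq_true hb

theorem eight_cmul {a : ℕ} (ha : a < 1024) : cmul 8 a = Nat.xor a 8 := by
  have h := allB_spec eight_check a ha
  cases hb : Nat.beq (cmul a 8) (Nat.xor a 8)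
  · rw [hb] at h; exact absurd h (by simp)
  · rw [hb] at h; exact Nat.eq_of_beq_eq_true h

theorem cmul_zero (a : ℕ) : cmul a 0 = a := by
  show Nat.xor _ _ = a
  simp

/-! ### Reduction -/

set_option maxRecDepth 100000 in
theorem rd_check : allB (fun a => cond (red (rd a)) (cond (Nat.ble (rd a) 1023)
    (cond (Nat.beq (rd (Nat.xor a 8)) (rd a)) (cond (red a) (Nat.beq (rd a) a) (Nat.beq (rd a) (Nat.xor a 8)))
      false) false) false) 1024 = true := by
  decide +kernel

theorem rd_facts {a : ℕ} (ha : a < 1024) : red (rd a) = true ∧ rd a < 1024 ∧ rd (Nat.xor a 8) = rd a ∧
    (red a = true → rd a = a) ∧ (rd a = a ∨ rd a = Nat.xor a 8) := by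
  have h := allB_spec rd_check a ha
  cases h1 : red (rd a)
  · rw [h1] at h; exact absurd h (by simp)
  rw [h1] at h
  cases h2 : Nat.ble (rd a) 1023
  · rw [h2] at h; exact absurd h (by simp)
  rw [h2] at h
  cases h3 : Nat.beq (rd (Nat.xor a 8)) (rd a)
  · rw [h3] at h; exact absurd h (by simp)
  rw [h3] at h
  refine ⟨rfl, Nat.lt_succ_of_le (Nat.le_of_ble_eq_true h2), Nat.eq_of_beq_eq_true h3, ?_, ?_⟩
  · intro hr
    rw [hr] at h
    exact Nat.eq_of_beq_eq_true h
  · cases hr : red a
    · rw [hr] at h
      exact Or.inr (Nat.eq_of_beq_eq_true h)
    · rw [hr] at h
      exact Or.inl (Nat.eq_of_beq_eq_true h)

set_option maxRecDepth 100000 in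
theorem one_check : allB (fun a => cond (red a) (cond (Nat.beq a (rd (cmul a a))) (Nat.beq a 0) true) true) 1024
    = true := by
  decide +kernel

theorem one_code {a : ℕ} (ha : a < 1024) (hr : red a = true) (h : a = rd (cmul a a)) : a = 0 := by
  have h1 := allB_spec one_check a ha
  rw [hr] at h1
  have : Nat.beq a (rd (cmul a a)) = true := by rw [← h]; exact Nat.beq_refl a
  rw [this] at h1
  exact Nat.eq_of_beq_eq_true h1

set_option maxRecDepth 100000 in
theorem card_red : cntB red 1024 = 512 := by
  decide +kernel

/-! ### The centralizer sizes -/

set_option maxRecDepth 100000 in
theorem cnt_check : allB (fun a => cond (red a) (Nat.beq (cntf a) (tcnt a)) true) 1024 = true := by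
  decide +kernel

theorem cntf_eq {a : ℕ} (ha : a < 1024) (hr : red a = true) : cntf a = tcnt a := by
  have h := allB_spec cnt_check a ha
  rw [hr, cond_true] at h
  exact Nat.eq_of_beq_eq_true h

/-- centralizer of size at least `256` -/
def big : ℕ → Bool := fun a => cond (red a) (Nat.ble 256 (tcnt a)) false

set_option maxRecDepth 100000 in
theorem card_big : cntB big 1024 = 12 := by
  decide +kernel

/-- centralizer of size more than `64` -/
def mid : ℕ → Bool := fun a => cond (red a) (Nat.ble 65 (tcnt a)) false

set_option maxRecDepth 100000 in
theorem card_mid : cntB mid 1024 = 64 := by
  decide +kernel

set_option maxRecDepth 100000 in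
theorem mid_pair : mid 1 = true ∧ mid 32 = true ∧ commZ 1 32 = false := by
  decide +kernel

/-- for centralizers of size `64`: either it is the hook, or two of its elements do not commute -/
def k2 : ℕ → Bool := fun a => cond (red a) (cond (Nat.beq (tcnt a) 64)
  (cond (allB (fun b => cond (cen a b) (hk b) (cond (hk b) false true)) 1024) true
    (cond (cen a (wit1 a)) (cond (cen a (wit2 a)) (cond (commZ (wit1 a) (wit2 a)) false true) false) false))
  true) true

set_option maxRecDepth 100000 in
theorem k2_check : allB k2 1024 = true := by
  decide +kernel

theorem k2_spec {a : ℕ} (ha : a < 1024) (hr : red a = true) (h64 : tcnt a = 64) :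
    (∀ b < 1024, cen a b = hk b) ∨
      (cen a (wit1 a) = true ∧ cen a (wit2 a) = true ∧ commZ (wit1 a) (wit2 a) = false) := by
  have h := allB_spec k2_check a ha
  unfold k2 at h
  rw [hr, h64] at h
  simp only [Nat.beq_refl, cond_true] at h
  cases h1 : allB (fun b => cond (cen a b) (hk b) (cond (hk b) false true)) 1024
  · rw [h1] at h
    right
    cases h2 : cen a (wit1 a)
    · rw [h2] at h; exact absurd h (by simp)
    rw [h2] at h
    cases h3 : cen a (wit2 a)
    · rw [h3] at h; exact absurd h (by simp)
    rw [h3] at h
    cases h4 : commZ (wit1 a) (wit2 a)
    · exact ⟨rfl, rfl, rfl⟩
    · rw [h4] at h; exact absurd h (by simp)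
  · left
    intro b hb
    have h2 := allB_spec h1 b hb
    revert h2
    cases cen a b <;> cases hk b <;> simp

/-! ### The hook -/

set_option maxRecDepth 100000 in
theorem hook_check : allB (fun a => cond (hk a) (cond (Nat.beq (rd (cmul a a)) 0)
    (allB (fun b => cond (hk b) (cond (inH (rd (cmul a b))) (commZ a b) false) true) 1024) false) true) 1024
    = true := by
  decide +kernel

theorem hook_spec {a b : ℕ} (ha : a < 1024) (hb : b < 1024) (ha' : hk a = true) (hb' : hk b = true) :
    rd (cmul a a) = 0 ∧ inH (rd (cmul a b)) = true ∧ commZ a b = true := by
  have h := allB_spec hook_check a ha
  rw [ha', cond_true] at h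
  cases h1 : Nat.beq (rd (cmul a a)) 0
  · rw [h1] at h; exact absurd h (by simp)
  rw [h1, cond_true] at h
  have h2 := allB_spec h b hb
  rw [hb', cond_true] at h2
  cases h3 : inH (rd (cmul a b))
  · rw [h3] at h2; exact absurd h2 (by simp)
  rw [h3, cond_true] at h2
  exact ⟨Nat.eq_of_beq_eq_true h1, rfl, h2⟩

set_option maxRecDepth 100000 in
theorem card_hk : cntB hk 1024 = 64 := by
  decide +kernel

end Cfsg.Agent.H9.UT5
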