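import Cfsg.Agent.H9.UT5Facts
import Cfsg.Prelude.Def_Transfer

/-!
# Groups modelled by the reduced codes of `UT₅(2)` modulo its centre

A `Model G` is a bijection of `G` with the `512` codes below `1024` whose bit `3` is zero, under which the product
is `rd (cmul a b)`.  For such a group we prove: the centre of each maximal subgroup has order at most `8`; there is
an elementary abelian subgroup of order `64`; an abelian subgroup of order `64` is unique.
-/

set_option autoImplicit false

namespace Cfsg.Agent.H9.UT5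

/-- a maximal subgroup of a finite `2`-group has index two -/
theorem coatom_index_two {G : Type*} [Group G] [Finite G] (hG : IsPGroup 2 G) (M : Subgroup G)
    (hM : IsCoatom M) : M.index = 2 := by
  have : Fact (Nat.Prime 2) := ⟨Nat.prime_two⟩
  have := hG.isNilpotent
  have hn : M.Normal :=
    ((Group.isNilpotent_of_finite_tfae (G := G)).out 0 2 rfl rfl).mp inferInstance M hM
  have := hn
  have hidx : M.index ≠ 1 := fun h => hM.1 (Subgroup.index_eq_one.mp h)
  obtain ⟨n, hn2⟩ := hG.index M
  have hn0 : n ≠ 0 := by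
    rintro rfl
    exact hidx (by rw [hn2, pow_zero])
  have hdvd : 2 ∣ Nat.card (G ⧸ M) := by
    rw [← Subgroup.index_eq_card, hn2]
    exact dvd_pow_self 2 hn0
  obtain ⟨xb, hxb⟩ := exists_prime_orderOf_dvd_card' (G := G ⧸ M) 2 hdvd
  obtain ⟨x, rfl⟩ := QuotientGroup.mk_surjective xb
  have hxM : x ∉ M := by
    intro hx
    have : ((x : G) : G ⧸ M) = 1 := (QuotientGroup.eq_one_iff x).mpr hx
    rw [this, orderOf_one] at hxb
    omega
  have hMH : M ≤ (Subgroup.zpowers ((x : G) : G ⧸ M)).comap (QuotientGroup.mk' M) := by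
    intro m hm
    rw [Subgroup.mem_comap, QuotientGroup.mk'_apply, (QuotientGroup.eq_one_iff m).mpr hm]
    exact Subgroup.one_mem _
  have hxH : x ∈ (Subgroup.zpowers ((x : G) : G ⧸ M)).comap (QuotientGroup.mk' M) := by
    rw [Subgroup.mem_comap, QuotientGroup.mk'_apply]
    exact Subgroup.mem_zpowers _
  have hHtop : (Subgroup.zpowers ((x : G) : G ⧸ M)).comap (QuotientGroup.mk' M) = ⊤ := by
    apply hM.2
    apply lt_of_le_of_ne hMH
    intro heq
    exact hxM (heq ▸ hxH)
  have hztop : Subgroup.zpowers ((x : G) : G ⧸ M) = ⊤ := by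
    rw [eq_top_iff]
    intro yb _
    obtain ⟨y, rfl⟩ := QuotientGroup.mk_surjective yb
    have : y ∈ (Subgroup.zpowers ((x : G) : G ⧸ M)).comap (QuotientGroup.mk' M) := by
      rw [hHtop]; exact Subgroup.mem_top y
    rw [Subgroup.mem_comap, QuotientGroup.mk'_apply] at this
    exact this
  rw [Subgroup.index_eq_card, ← Subgroup.card_top (G := G ⧸ M), ← hztop, Nat.card_zpowers, hxb]

/-- a bijection with the reduced codes, compatible with the products -/
structure Model (G : Type*) [Group G] where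
  /-- the code of an element -/
  cd : G → ℕ
  cd_lt : ∀ g, cd g < 1024
  cd_red : ∀ g, red (cd g) = true
  cd_inj : Function.Injective cd
  cd_surj : ∀ a < 1024, red a = true → ∃ g, cd g = a
  cd_mul : ∀ g h, cd (g * h) = rd (cmul (cd g) (cd h))

namespace Model

variable {G : Type*} [Group G] (m : Model G)

/-- transport along an isomorphism -/
def ofEquiv {H : Type*} [Group H] (e : H ≃* G) : Model H where
  cd := fun h => m.cd (e h)
  cd_lt := fun h => m.cd_lt (e h)
  cd_red := fun h => m.cd_red (e h)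
  cd_inj := fun x y hxy => e.injective (m.cd_inj hxy)
  cd_surj := fun a ha hr => by
    obtain ⟨g, hg⟩ := m.cd_surj a ha hr
    exact ⟨e.symm g, by simpa using hg⟩
  cd_mul := fun x y => by
    show m.cd (e (x * y)) = _
    rw [map_mul, m.cd_mul]

include m in
theorem finite : Finite G :=
  Finite.of_injective (fun g => (⟨m.cd g, m.cd_lt g⟩ : Fin 1024))
    (fun g h e => m.cd_inj (by simpa using congrArg Fin.val e))

theorem cd_one : m.cd 1 = 0 :=
  one_code (m.cd_lt 1) (m.cd_red 1) (by
    have := m.cd_mul 1 1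
    rwa [mul_one] at this)

theorem comm_iff (g h : G) : g * h = h * g ↔ commZ (m.cd g) (m.cd h) = true := by
  constructor
  · intro e
    have := congrArg m.cd e
    rw [m.cd_mul, m.cd_mul] at this
    unfold commZ
    rw [this]
    exact Nat.beq_refl _
  · intro e
    apply m.cd_inj
    rw [m.cd_mul, m.cd_mul]
    exact Nat.eq_of_beq_eq_true e

theorem range_cd : Set.range m.cd = FS red := by
  ext a
  constructor
  · rintro ⟨g, rfl⟩
    exact ⟨m.cd_lt g, m.cd_red g⟩
  · rintro ⟨ha, hr⟩
    exact m.cd_surj a ha hr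

include m in
theorem card : Nat.card G = 512 := by
  rw [← Nat.card_range_of_injective m.cd_inj, Nat.card_coe_set_eq, range_cd, ncard_FS, card_red]

include m in
theorem isPGroup : IsPGroup 2 G := IsPGroup.of_card (n := 9) (by rw [m.card]; norm_num)

theorem ncard_image (X : Set G) : (m.cd '' X).ncard = X.ncard :=
  Set.ncard_image_of_injective X m.cd_inj

theorem cen_of_comm {g h : G} (e : g * h = h * g) : cen (m.cd g) (m.cd h) = true := by
  unfold cen
  rw [m.cd_red h]
  exact (m.comm_iff g h).1 e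

theorem comm_of_cen {g h : G} (e : cen (m.cd g) (m.cd h) = true) : g * h = h * g := by
  unfold cen at e
  rw [m.cd_red h] at e
  exact (m.comm_iff g h).2 e

/-- the size of a set of elements all commuting with `g` -/
theorem ncard_le_tcnt (X : Set G) (g : G) (hX : ∀ x ∈ X, g * x = x * g) : X.ncard ≤ tcnt (m.cd g) := by
  rw [← cntf_eq (m.cd_lt g) (m.cd_red g), cntf, ← ncard_FS, ← m.ncard_image X]
  apply Set.ncard_le_ncard _ (FS_finite _)
  rintro _ ⟨x, hx, rfl⟩
  exact ⟨m.cd_lt x, m.cen_of_comm (hX x hx)⟩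

/-! ### Abelian subgroups of order `64` -/

theorem abelian64 (A : Subgroup G) (hA : IsMulCommutative ↥A) (hc : Nat.card ↥A = 64) :
    m.cd '' (A : Set G) = FS hk := by
  have hcomm : ∀ x ∈ A, ∀ y ∈ A, x * y = y * x := fun x hx y hy =>
    congrArg Subtype.val (hA.is_comm.comm ⟨x, hx⟩ ⟨y, hy⟩)
  have hcard : (m.cd '' (A : Set G)).ncard = 64 := by
    rw [m.ncard_image, ← Nat.card_coe_set_eq]
    exact hc
  have hcardA : (A : Set G).ncard = 64 := by
    rw [← Nat.card_coe_set_eq]
    exact hc
  have hsub : ∀ g ∈ A, m.cd '' (A : Set G) ⊆ FS (cen (m.cd g)) := by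
    rintro g hg _ ⟨x, hx, rfl⟩
    exact ⟨m.cd_lt x, m.cen_of_comm (hcomm g hg x hx)⟩
  have hge : ∀ g ∈ A, 64 ≤ tcnt (m.cd g) := by
    intro g hg
    rw [← hcardA]
    exact m.ncard_le_tcnt _ g (fun x hx => hcomm g hg x hx)
  by_cases hex : ∃ g ∈ A, tcnt (m.cd g) = 64
  · obtain ⟨g, hg, h64⟩ := hex
    have heq : m.cd '' (A : Set G) = FS (cen (m.cd g)) := by
      apply Set.eq_of_subset_of_ncard_le (hsub g hg) _ (FS_finite _)
      rw [ncard_FS, hcard]
      show cntf (m.cd g) ≤ 64
      rw [cntf_eq (m.cd_lt g) (m.cd_red g), h64]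
    rcases k2_spec (m.cd_lt g) (m.cd_red g) h64 with h | ⟨h1, h2, h3⟩
    · rw [heq]
      ext b
      constructor
      · rintro ⟨hb, hb'⟩
        exact ⟨hb, by rw [← h b hb]; exact hb'⟩
      · rintro ⟨hb, hb'⟩
        exact ⟨hb, by rw [h b hb]; exact hb'⟩
    · exfalso
      have m1 : wit1 (m.cd g) ∈ m.cd '' (A : Set G) := by
        rw [heq]; exact ⟨wit1_lt _, h1⟩
      have m2 : wit2 (m.cd g) ∈ m.cd '' (A : Set G) := by
        rw [heq]; exact ⟨wit2_lt _, h2⟩
      obtain ⟨x, hx, ex⟩ := m1
      obtain ⟨y, hy, ey⟩ := m2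
      have := (m.comm_iff x y).1 (hcomm x hx y hy)
      rw [ex, ey, h3] at this
      exact Bool.false_ne_true this
  · exfalso
    have hmid : m.cd '' (A : Set G) ⊆ FS mid := by
      rintro _ ⟨x, hx, rfl⟩
      refine ⟨m.cd_lt x, ?_⟩
      unfold mid
      rw [m.cd_red x]
      apply Nat.ble_eq_true_of_le
      have h1 := hge x hx
      have h2 : tcnt (m.cd x) ≠ 64 := fun h => hex ⟨x, hx, h⟩
      omega
    have heq : m.cd '' (A : Set G) = FS mid := by
      apply Set.eq_of_subset_of_ncard_le hmid _ (FS_finite _)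
      rw [ncard_FS, hcard, card_mid]
    obtain ⟨p1, p2, p3⟩ := mid_pair
    have m1 : 1 ∈ m.cd '' (A : Set G) := by
      rw [heq]; exact ⟨by norm_num, p1⟩
    have m2 : 32 ∈ m.cd '' (A : Set G) := by
      rw [heq]; exact ⟨by norm_num, p2⟩
    obtain ⟨x, hx, ex⟩ := m1
    obtain ⟨y, hy, ey⟩ := m2
    have := (m.comm_iff x y).1 (hcomm x hx y hy)
    rw [ex, ey, p3] at this
    exact Bool.false_ne_true this

include m in
theorem unique64 (A B : Subgroup G) (hA : IsMulCommutative ↥A) (hcA : Nat.card ↥A = 64)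
    (hB : IsMulCommutative ↥B) (hcB : Nat.card ↥B = 64) : A = B := by
  have h := (m.abelian64 A hA hcA).trans (m.abelian64 B hB hcB).symm
  exact SetLike.coe_injective (Set.image_injective.2 m.cd_inj h)

/-! ### The elementary abelian subgroup -/

theorem sq_of_hk {g : G} (hg : hk (m.cd g) = true) : g * g = 1 := by
  apply m.cd_inj
  rw [m.cd_mul, m.cd_one]
  exact (hook_spec (m.cd_lt g) (m.cd_lt g) hg hg).1

theorem hk_one : hk 0 = true := by decide

theorem hk_mul {g h : G} (hg : hk (m.cd g) = true) (hh : hk (m.cd h) = true) : hk (m.cd (g * h)) = true := by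
  unfold hk
  rw [m.cd_red, m.cd_mul]
  exact (hook_spec (m.cd_lt g) (m.cd_lt h) hg hh).2.1

/-- the image of the hook -/
def hook : Subgroup G where
  carrier := {g | hk (m.cd g) = true}
  one_mem' := by
    show hk (m.cd 1) = true
    rw [m.cd_one]; exact hk_one
  mul_mem' := fun {g h} hg hh => m.hk_mul hg hh
  inv_mem' := fun {g} hg => by
    have : g⁻¹ = g := inv_eq_of_mul_eq_one_left (m.sq_of_hk hg)
    show hk (m.cd g⁻¹) = true
    rw [this]; exact hg

theorem mem_hook {g : G} : g ∈ m.hook ↔ hk (m.cd g) = true := Iff.rfl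

theorem hook_elementary : Cfsg.IsElementaryAbelian 2 m.hook := by
  refine ⟨⟨⟨fun x y => Subtype.ext ?_⟩⟩, fun a ha => ?_⟩
  · show x.1 * y.1 = y.1 * x.1
    exact (m.comm_iff x.1 y.1).2 (hook_spec (m.cd_lt _) (m.cd_lt _) x.2 y.2).2.2
  · rw [pow_two]; exact m.sq_of_hk ha

theorem card_hook : Nat.card ↥m.hook = 64 := by
  have h : m.cd '' (m.hook : Set G) = FS hk := by
    ext a
    constructor
    · rintro ⟨g, hg, rfl⟩
      exact ⟨m.cd_lt g, hg⟩
    · rintro ⟨ha, ha'⟩
      have hr : red a = true := by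
        unfold hk at ha'
        cases hr : red a
        · rw [hr] at ha'; exact absurd ha' (by simp)
        · rfl
      obtain ⟨g, rfl⟩ := m.cd_surj a ha hr
      exact ⟨g, ha', rfl⟩
  have h2 := m.ncard_image (m.hook : Set G)
  rw [h, ncard_FS, card_hk] at h2
  exact (Nat.card_coe_set_eq _).trans h2.symm

/-! ### Centres of maximal subgroups -/

include m in
theorem card_center_le (M : Subgroup G) (hM : IsCoatom M) : Nat.card ↥(Subgroup.center ↥M) ≤ 8 := by
  have := m.finite
  have hidx := coatom_index_two m.isPGroup M hM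
  have hcM : Nat.card ↥M = 256 := by
    have := Subgroup.card_mul_index M
    rw [hidx, m.card] at this
    omega
  have hcM' : (M : Set G).ncard = 256 := by
    rw [← Nat.card_coe_set_eq]; exact hcM
  have hinj : Function.Injective (fun z : ↥(Subgroup.center ↥M) => m.cd z.1.1) := fun z w e =>
    Subtype.ext (Subtype.ext (m.cd_inj e))
  have hle : Nat.card ↥(Subgroup.center ↥M) ≤ 12 := by
    rw [← Nat.card_range_of_injective hinj, Nat.card_coe_set_eq, ← card_big, ← ncard_FS]
    apply Set.ncard_le_ncard _ (FS_finite _)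
    rintro _ ⟨z, rfl⟩
    refine ⟨m.cd_lt _, ?_⟩
    show big (m.cd z.1.1) = true
    unfold big
    rw [m.cd_red]
    apply Nat.ble_eq_true_of_le
    rw [← hcM']
    apply m.ncard_le_tcnt
    intro x hx
    have := Subgroup.mem_center_iff.1 z.2 ⟨x, hx⟩
    exact (congrArg Subtype.val this).symm
  have hdvd : Nat.card ↥(Subgroup.center ↥M) ∣ 2 ^ 8 := by
    have := Subgroup.card_subgroup_dvd_card (Subgroup.center ↥M)
    rw [hcM] at this
    exact this
  obtain ⟨k, hk8, hk⟩ := (Nat.dvd_prime_pow Nat.prime_two).1 hdvd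
  rw [hk] at hle ⊢
  interval_cases k <;> omega

include m in
/-- the three statements -/
theorem main :
    (∀ M : Subgroup G, IsCoatom M → Nat.card ↥(Subgroup.center ↥M) ≤ 8) ∧
      (∃ A : Subgroup G, Cfsg.IsElementaryAbelian 2 A ∧ Nat.card ↥A = 64) ∧
      ∀ A B : Subgroup G, IsMulCommutative ↥A → Nat.card ↥A = 64 → IsMulCommutative ↥B →
        Nat.card ↥B = 64 → A = B :=
  ⟨m.card_center_le, ⟨m.hook, m.hook_elementary, m.card_hook⟩, m.unique64⟩

end Model

end Cfsg.Agent.H9.UT5
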