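import Mathlib

set_option autoImplicit false

/-!
The upper triangular subgroup of `GL_n(𝔽₂)` is self-normalizing; for `n = 4` it has order `64`, so every
subgroup of order `64` of `GL₄(2)` is self-normalizing.
-/

namespace Cfsg.Agent.H9.UniTri

open Matrix

variable {n : ℕ}

/-- the upper triangular matrices in `GL_n(𝔽₂)` -/
def tri (n : ℕ) : Subgroup (GL (Fin n) (ZMod 2)) where
  carrier := {g | (g : Matrix (Fin n) (Fin n) (ZMod 2)).BlockTriangular id}
  mul_mem' := by
    intro a b ha hb
    show ((a * b : GL (Fin n) (ZMod 2)) : Matrix (Fin n) (Fin n) (ZMod 2)).BlockTriangular id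
    rw [Units.val_mul]
    exact ha.mul hb
  one_mem' := by
    show ((1 : GL (Fin n) (ZMod 2)) : Matrix (Fin n) (Fin n) (ZMod 2)).BlockTriangular id
    rw [Units.val_one]
    exact blockTriangular_one
  inv_mem' := by
    intro a ha
    show ((a⁻¹ : GL (Fin n) (ZMod 2)) : Matrix (Fin n) (Fin n) (ZMod 2)).BlockTriangular id
    rw [Matrix.coe_units_inv]
    have : Invertible (a : Matrix (Fin n) (Fin n) (ZMod 2)) := a.invertible
    exact blockTriangular_inv_of_blockTriangular ha

theorem mem_tri {g : GL (Fin n) (ZMod 2)} :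
    g ∈ tri n ↔ ∀ i j : Fin n, j < i → (g : Matrix (Fin n) (Fin n) (ZMod 2)) i j = 0 := by
  constructor
  · intro h i j hij
    exact h hij
  · intro h i j hij
    exact h i j hij

theorem zmod2_eq_one {a : ZMod 2} (h : a ≠ 0) : a = 1 := by
  revert a; decide

theorem diag_eq_one {g : GL (Fin n) (ZMod 2)} (hg : g ∈ tri n) (i : Fin n) :
    (g : Matrix (Fin n) (Fin n) (ZMod 2)) i i = 1 := by
  apply zmod2_eq_one
  intro h
  have hdet : (g : Matrix (Fin n) (Fin n) (ZMod 2)).det =
      ∏ i, (g : Matrix (Fin n) (Fin n) (ZMod 2)) i i := Matrix.det_of_isUpperTriangular hg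
  have h0 : ∏ i, (g : Matrix (Fin n) (Fin n) (ZMod 2)) i i = 0 :=
    Finset.prod_eq_zero (Finset.mem_univ i) h
  have hu : IsUnit (g : Matrix (Fin n) (Fin n) (ZMod 2)).det :=
    (Matrix.isUnit_iff_isUnit_det _).1 g.isUnit
  rw [hdet, h0] at hu
  exact not_isUnit_zero hu

/-- the transvection `1 + E_{ik}` as an element of the group -/
def tv (i k : Fin n) (hik : i ≠ k) : GL (Fin n) (ZMod 2) where
  val := transvection i k 1
  inv := transvection i k (-1)
  val_inv := by
    rw [transvection_mul_transvection_same i k hik, add_neg_cancel, transvection_zero]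
  inv_val := by
    rw [transvection_mul_transvection_same i k hik, neg_add_cancel, transvection_zero]

theorem tv_apply (i k : Fin n) (hik : i ≠ k) (a b : Fin n) :
    ((tv i k hik : GL (Fin n) (ZMod 2)) : Matrix (Fin n) (Fin n) (ZMod 2)) a b =
      (if a = b then 1 else 0) + (if a = i ∧ b = k then 1 else 0) := by
  show (transvection i k (1 : ZMod 2)) a b = _
  rw [transvection, Matrix.add_apply, Matrix.one_apply, Matrix.single_apply]
  congr 1
  by_cases h : a = i ∧ b = k
  · rw [if_pos h, if_pos ⟨h.1.symm, h.2.symm⟩]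
  · rw [if_neg h, if_neg (fun h' => h ⟨h'.1.symm, h'.2.symm⟩)]

theorem tv_mem (i k : Fin n) (hik : i < k) : tv i k hik.ne ∈ tri n := by
  rw [mem_tri]
  intro a b hab
  rw [tv_apply, if_neg hab.ne', if_neg, add_zero]
  rintro ⟨rfl, rfl⟩
  exact absurd hik (not_lt.2 hab.le)

/-- an element normalizing the triangular group is triangular -/
theorem mem_tri_of_normalizes (g : GL (Fin n) (ZMod 2))
    (hg : ∀ u ∈ tri n, g⁻¹ * u * g ∈ tri n) : g ∈ tri n := by
  rw [mem_tri]
  have key : ∀ m : ℕ, ∀ j : Fin n, j.val = m → ∀ a : Fin n, j < a →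
      (g : Matrix (Fin n) (Fin n) (ZMod 2)) a j = 0 := by
    intro m
    induction m using Nat.strong_induction_on with
    | _ m ih =>
      intro j hj a hja
      -- the element `u = 1 + E_{ja}` and its conjugate
      have hu := tv_mem j a hja
      have hu' := hg _ hu
      obtain ⟨u', hu'def⟩ : ∃ u', u' = g⁻¹ * tv j a hja.ne * g := ⟨_, rfl⟩
      rw [← hu'def] at hu'
      have hcomm : tv j a hja.ne * g = g * u' := by rw [hu'def]; group
      have hM : ((tv j a hja.ne : GL (Fin n) (ZMod 2)) : Matrix (Fin n) (Fin n) (ZMod 2)) *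
          (g : Matrix (Fin n) (Fin n) (ZMod 2)) =
          (g : Matrix (Fin n) (Fin n) (ZMod 2)) * (u' : Matrix (Fin n) (Fin n) (ZMod 2)) := by
        rw [← Units.val_mul, ← Units.val_mul, hcomm]
      have hjj := congrFun (congrFun hM j) j
      rw [Matrix.mul_apply, Matrix.mul_apply] at hjj
      -- left side
      have hL : ∑ x, ((tv j a hja.ne : GL (Fin n) (ZMod 2)) : Matrix (Fin n) (Fin n) (ZMod 2)) j x *
          (g : Matrix (Fin n) (Fin n) (ZMod 2)) x j =
          (g : Matrix (Fin n) (Fin n) (ZMod 2)) j j + (g : Matrix (Fin n) (Fin n) (ZMod 2)) a j := by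
        simp only [tv_apply, add_mul, Finset.sum_add_distrib, ite_mul, one_mul, zero_mul, true_and]
        rw [Finset.sum_ite_eq Finset.univ j, Finset.sum_ite_eq' Finset.univ a]
        simp
      -- right side
      have hR : ∑ x, (g : Matrix (Fin n) (Fin n) (ZMod 2)) j x *
          (u' : Matrix (Fin n) (Fin n) (ZMod 2)) x j =
          (g : Matrix (Fin n) (Fin n) (ZMod 2)) j j := by
        rw [Finset.sum_eq_single j]
        · rw [diag_eq_one hu' j, mul_one]
        · intro x _ hxj
          rcases lt_or_gt_of_ne hxj with h | h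
          · -- `x < j`: `g j x = 0` by induction
            rw [ih x.val (by rw [← hj]; exact h) x rfl j h, zero_mul]
          · -- `x > j`: `u' x j = 0`
            rw [(mem_tri.1 hu') x j h, mul_zero]
        · intro h
          exact absurd (Finset.mem_univ j) h
      rw [hL, hR] at hjj
      exact add_eq_left.1 hjj
  intro i j hji
  exact key j.val j rfl i hji

/-- the triangular group is self-normalizing -/
theorem normalizer_tri : Subgroup.normalizer (tri n : Set (GL (Fin n) (ZMod 2))) = tri n := by
  apply le_antisymm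
  · intro g hg
    apply mem_tri_of_normalizes
    intro u hu
    have hg' : g⁻¹ ∈ Subgroup.normalizer (tri n : Set (GL (Fin n) (ZMod 2))) := Subgroup.inv_mem _ hg
    have := (Subgroup.mem_normalizer_iff.1 hg' u).1 hu
    rwa [inv_inv] at this
  · exact Subgroup.le_normalizer

end Cfsg.Agent.H9.UniTri
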