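import Mathlib
import Cfsg.Agent.H9.UniTri

/-!
# A bit-coded model of the upper unitriangular group `UT₅(2)`

The elements of `tri 5 ≤ GL₅(2)` are coded by the numbers below `1024` (one bit for each entry above the
diagonal), with an explicit multiplication on codes.
-/

set_option autoImplicit false

namespace Cfsg.Agent.H9.UT5

open Matrix Cfsg.Agent.H9.UniTri

/-- the number with given binary digits (little end first) -/
def ofB : List Bool → ℕ
  | [] => 0
  | b :: l => Nat.bit b (ofB l)

theorem testBit_ofB : ∀ (l : List Bool) (p : ℕ), (ofB l).testBit p = l.getD p false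
  | [], p => by simp [ofB]
  | b :: l, 0 => by rw [ofB, Nat.testBit_bit_zero]; rfl
  | b :: l, p + 1 => by
    rw [ofB, Nat.testBit_bit_succ, testBit_ofB l p]
    simp

theorem ofB_lt : ∀ l : List Bool, ofB l < 2 ^ l.length
  | [] => by simp [ofB]
  | b :: l => by
    have := ofB_lt l
    rw [ofB, List.length_cons, pow_succ]
    cases b <;> simp only [Nat.bit, cond_true, cond_false] <;> omega

/-- a bit of a code -/
def tb (a k : ℕ) : Bool := a.testBit k

theorem tb_ofB (l : List Bool) (p : ℕ) : tb (ofB l) p = l.getD p false := testBit_ofB l p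

theorem ofB_bits {a : ℕ} (ha : a < 1024) :
    ofB [tb a 0, tb a 1, tb a 2, tb a 3, tb a 4, tb a 5, tb a 6, tb a 7, tb a 8, tb a 9] = a := by
  apply Nat.eq_of_testBit_eq
  intro i
  rw [testBit_ofB]
  by_cases hi : i < 10
  · interval_cases i <;> rfl
  · have h1 : a < 2 ^ i := lt_of_lt_of_le ha (by
      calc 1024 = 2 ^ 10 := by norm_num
        _ ≤ 2 ^ i := Nat.pow_le_pow_right (by norm_num) (by omega))
    rw [Nat.testBit_lt_two_pow h1]
    have h10 : 10 ≤ i := by omega
    obtain ⟨k, rfl⟩ := Nat.exists_eq_add_of_le h10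
    simp [List.getD]

/-- the multiplication of codes, in a form that the kernel evaluates quickly -/
def cmul (a b : ℕ) : ℕ :=
  Nat.xor (Nat.xor (Nat.xor (Nat.xor (Nat.xor (Nat.xor (Nat.xor a b)
    (Nat.mul (Nat.land a 1) (Nat.land (Nat.shiftRight b 3) 14)))
    (Nat.mul (Nat.land (Nat.shiftRight a 1) 1) (Nat.land (Nat.shiftRight b 5) 12)))
    (Nat.mul (Nat.land (Nat.shiftRight a 2) 1) (Nat.land (Nat.shiftRight b 6) 8)))
    (Nat.mul (Nat.land (Nat.shiftRight a 4) 1) (Nat.land (Nat.shiftRight b 2) 96)))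
    (Nat.mul (Nat.land (Nat.shiftRight a 5) 1) (Nat.land (Nat.shiftRight b 3) 64)))
    (Nat.mul (Nat.land (Nat.shiftRight a 7) 1) (Nat.land (Nat.shiftRight b 1) 256))

theorem tb_xor (x y p : ℕ) : tb (Nat.xor x y) p = xor (tb x p) (tb y p) := by
  show (x ^^^ y).testBit p = _
  rw [Nat.testBit_xor]; rfl

theorem tb_bitmul (x m p : ℕ) : tb (Nat.mul (Nat.land x 1) m) p = (tb x 0 && tb m p) := by
  show ((x &&& 1) * m).testBit p = (x.testBit 0 && m.testBit p)
  rw [Nat.and_one_is_mod, Nat.testBit_zero]
  rcases Nat.mod_two_eq_zero_or_one x with h | h <;> simp [h]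

theorem tb_shr (x k p : ℕ) : tb (Nat.shiftRight x k) p = tb x (k + p) := by
  show (x >>> k).testBit p = x.testBit (k + p)
  rw [Nat.testBit_shiftRight]

theorem tb_and (x y p : ℕ) : tb (Nat.land x y) p = (tb x p && tb y p) := by
  show (x &&& y).testBit p = _
  rw [Nat.testBit_and]; rfl

theorem tb_cmul (a b p : ℕ) : tb (cmul a b) p =
    xor (xor (xor (xor (xor (xor (xor (tb a p) (tb b p))
      (tb a 0 && (tb b (3 + p) && tb 14 p)))
      (tb a 1 && (tb b (5 + p) && tb 12 p)))
      (tb a 2 && (tb b (6 + p) && tb 8 p)))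
      (tb a 4 && (tb b (2 + p) && tb 96 p)))
      (tb a 5 && (tb b (3 + p) && tb 64 p)))
      (tb a 7 && (tb b (1 + p) && tb 256 p)) := by
  unfold cmul
  simp only [tb_xor, tb_bitmul, tb_shr, tb_and, Nat.add_zero]

theorem tb_of_lt {a p : ℕ} (ha : a < 1024) (hp : 10 ≤ p) : tb a p = false := by
  have h1 : a < 2 ^ p := lt_of_lt_of_le ha (by
    calc 1024 = 2 ^ 10 := by norm_num
      _ ≤ 2 ^ p := Nat.pow_le_pow_right (by norm_num) hp)
  exact Nat.testBit_lt_two_pow h1

theorem cmul_lt {a b : ℕ} (ha : a < 1024) (hb : b < 1024) : cmul a b < 1024 := by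
  have : cmul a b < 2 ^ 10 := by
    apply Nat.lt_pow_two_of_testBit
    intro p hp
    show tb (cmul a b) p = false
    rw [tb_cmul, tb_of_lt ha hp, tb_of_lt hb hp, tb_of_lt hb (show 10 ≤ 3 + p by omega),
      tb_of_lt hb (show 10 ≤ 5 + p by omega), tb_of_lt hb (show 10 ≤ 6 + p by omega),
      tb_of_lt hb (show 10 ≤ 2 + p by omega), tb_of_lt hb (show 10 ≤ 1 + p by omega)]
    simp
  simpa using this

theorem tb_cmul0 (a b : ℕ) : tb (cmul a b) 0 = xor (tb a 0) (tb b 0) := by
  rw [tb_cmul, show tb 14 0 = false by decide, show tb 12 0 = false by decide,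
    show tb 8 0 = false by decide, show tb 96 0 = false by decide, show tb 64 0 = false by decide,
    show tb 256 0 = false by decide]
  simp
theorem tb_cmul1 (a b : ℕ) : tb (cmul a b) 1 = xor (xor (tb a 1) (tb b 1)) (tb a 0 && tb b 4) := by
  rw [tb_cmul, show tb 14 1 = true by decide, show tb 12 1 = false by decide,
    show tb 8 1 = false by decide, show tb 96 1 = false by decide, show tb 64 1 = false by decide,
    show tb 256 1 = false by decide]
  simp
theorem tb_cmul2 (a b : ℕ) : tb (cmul a b) 2 =
    xor (xor (xor (tb a 2) (tb b 2)) (tb a 0 && tb b 5)) (tb a 1 && tb b 7) := by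
  rw [tb_cmul, show tb 14 2 = true by decide, show tb 12 2 = true by decide,
    show tb 8 2 = false by decide, show tb 96 2 = false by decide, show tb 64 2 = false by decide,
    show tb 256 2 = false by decide]
  simp
theorem tb_cmul3 (a b : ℕ) : tb (cmul a b) 3 =
    xor (xor (xor (xor (tb a 3) (tb b 3)) (tb a 0 && tb b 6)) (tb a 1 && tb b 8)) (tb a 2 && tb b 9) := by
  rw [tb_cmul, show tb 14 3 = true by decide, show tb 12 3 = true by decide,
    show tb 8 3 = true by decide, show tb 96 3 = false by decide, show tb 64 3 = false by decide,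
    show tb 256 3 = false by decide]
  simp
theorem tb_cmul4 (a b : ℕ) : tb (cmul a b) 4 = xor (tb a 4) (tb b 4) := by
  rw [tb_cmul, show tb 14 4 = false by decide, show tb 12 4 = false by decide,
    show tb 8 4 = false by decide, show tb 96 4 = false by decide, show tb 64 4 = false by decide,
    show tb 256 4 = false by decide]
  simp
theorem tb_cmul5 (a b : ℕ) : tb (cmul a b) 5 = xor (xor (tb a 5) (tb b 5)) (tb a 4 && tb b 7) := by
  rw [tb_cmul, show tb 14 5 = false by decide, show tb 12 5 = false by decide,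
    show tb 8 5 = false by decide, show tb 96 5 = true by decide, show tb 64 5 = false by decide,
    show tb 256 5 = false by decide]
  simp
theorem tb_cmul6 (a b : ℕ) : tb (cmul a b) 6 =
    xor (xor (xor (tb a 6) (tb b 6)) (tb a 4 && tb b 8)) (tb a 5 && tb b 9) := by
  rw [tb_cmul, show tb 14 6 = false by decide, show tb 12 6 = false by decide,
    show tb 8 6 = false by decide, show tb 96 6 = true by decide, show tb 64 6 = true by decide,
    show tb 256 6 = false by decide]
  simp
theorem tb_cmul7 (a b : ℕ) : tb (cmul a b) 7 = xor (tb a 7) (tb b 7) := by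
  rw [tb_cmul, show tb 14 7 = false by decide, show tb 12 7 = false by decide,
    show tb 8 7 = false by decide, show tb 96 7 = false by decide, show tb 64 7 = false by decide,
    show tb 256 7 = false by decide]
  simp
theorem tb_cmul8 (a b : ℕ) : tb (cmul a b) 8 = xor (xor (tb a 8) (tb b 8)) (tb a 7 && tb b 9) := by
  rw [tb_cmul, show tb 14 8 = false by decide, show tb 12 8 = false by decide,
    show tb 8 8 = false by decide, show tb 96 8 = false by decide, show tb 64 8 = false by decide,
    show tb 256 8 = true by decide]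
  simp
theorem tb_cmul9 (a b : ℕ) : tb (cmul a b) 9 = xor (tb a 9) (tb b 9) := by
  rw [tb_cmul, show tb 14 9 = false by decide, show tb 12 9 = false by decide,
    show tb 8 9 = false by decide, show tb 96 9 = false by decide, show tb 64 9 = false by decide,
    show tb 256 9 = false by decide]
  simp

/-- a truth value as an element of the field -/
def bzb (x : Bool) : ZMod 2 := if x then 1 else 0

theorem bzb_xor (x y : Bool) : bzb (xor x y) = bzb x + bzb y := by
  cases x <;> cases y <;> decide

theorem bzb_and (x y : Bool) : bzb (x && y) = bzb x * bzb y := by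
  cases x <;> cases y <;> decide

theorem bzb_false : bzb false = 0 := rfl

theorem bzb_inj {x y : Bool} (h : bzb x = bzb y) : x = y := by
  revert h; cases x <;> cases y <;> decide

/-- the position of an entry above the diagonal -/
def pos (i j : Fin 5) : ℕ :=
  (![![0, 0, 1, 2, 3], ![0, 0, 4, 5, 6], ![0, 0, 0, 7, 8], ![0, 0, 0, 0, 9], ![0, 0, 0, 0, 0]] :
    Fin 5 → Fin 5 → ℕ) i j

/-- the matrix of a code -/
def dec (a : ℕ) : Matrix (Fin 5) (Fin 5) (ZMod 2) := fun i j =>
  if i = j then 1 else if i < j then bzb (tb a (pos i j)) else 0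

set_option maxRecDepth 4000 in
theorem dec_mul (a b : ℕ) : dec a * dec b = dec (cmul a b) := by
  ext i j
  fin_cases i <;> fin_cases j <;>
    simp [Matrix.mul_apply, Fin.sum_univ_five, dec, pos, tb_cmul0, tb_cmul1, tb_cmul2, tb_cmul3, tb_cmul4,
      tb_cmul5, tb_cmul6, tb_cmul7, tb_cmul8, tb_cmul9, bzb_xor, bzb_and] <;>
    ring

theorem dec_tri (a : ℕ) : (dec a).BlockTriangular id := by
  intro i j hij
  have hij' : j < i := hij
  unfold dec
  rw [if_neg hij'.ne', if_neg (not_lt.2 hij'.le)]

theorem dec_det (a : ℕ) : (dec a).det = 1 := by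
  rw [Matrix.det_of_isUpperTriangular (dec_tri a)]
  apply Finset.prod_eq_one
  intro i _
  unfold dec
  rw [if_pos rfl]

/-- the element of the triangular group with a given code -/
noncomputable def T5 (a : ℕ) : tri 5 :=
  ⟨GeneralLinearGroup.mkOfDetNeZero (dec a) (by rw [dec_det]; exact one_ne_zero), dec_tri a⟩

theorem T5_val (a : ℕ) : ((T5 a : GL (Fin 5) (ZMod 2)) : Matrix (Fin 5) (Fin 5) (ZMod 2)) = dec a := rfl

theorem T5_mul (a b : ℕ) : T5 a * T5 b = T5 (cmul a b) := by
  apply Subtype.ext
  apply Units.ext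
  show dec a * dec b = dec (cmul a b)
  exact dec_mul a b

theorem zmod2_cases (x : ZMod 2) : bzb (decide (x = 1)) = x := by
  revert x; decide

/-- the code of an element -/
noncomputable def code (g : tri 5) : ℕ :=
  let m : Matrix (Fin 5) (Fin 5) (ZMod 2) := ((g : GL (Fin 5) (ZMod 2)) : Matrix (Fin 5) (Fin 5) (ZMod 2))
  ofB [decide (m 0 1 = 1), decide (m 0 2 = 1), decide (m 0 3 = 1), decide (m 0 4 = 1), decide (m 1 2 = 1),
    decide (m 1 3 = 1), decide (m 1 4 = 1), decide (m 2 3 = 1), decide (m 2 4 = 1), decide (m 3 4 = 1)]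

theorem code_lt (g : tri 5) : code g < 1024 := by
  unfold code
  refine lt_of_lt_of_eq (ofB_lt _) ?_
  simp only [List.length_cons, List.length_nil]
  norm_num

theorem dec_code (g : tri 5) :
    dec (code g) = ((g : GL (Fin 5) (ZMod 2)) : Matrix (Fin 5) (Fin 5) (ZMod 2)) := by
  ext i j
  rcases lt_trichotomy i j with hij | hij | hij
  · unfold dec
    rw [if_neg hij.ne, if_pos hij]
    fin_cases i <;> fin_cases j <;> first
      | exact absurd hij (by decide)
      | (simp only [code, pos, tb_ofB]; exact zmod2_cases _)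
  · subst hij
    unfold dec
    rw [if_pos rfl, diag_eq_one g.2]
  · unfold dec
    rw [if_neg hij.ne', if_neg (not_lt.2 hij.le), mem_tri.1 g.2 i j hij]

theorem T5_code (g : tri 5) : T5 (code g) = g := by
  apply Subtype.ext
  apply Units.ext
  show dec (code g) = _
  exact dec_code g

theorem code_T5 {a : ℕ} (ha : a < 1024) : code (T5 a) = a := by
  have h : ∀ i j : Fin 5, i < j →
      decide (((T5 a : GL (Fin 5) (ZMod 2)) : Matrix (Fin 5) (Fin 5) (ZMod 2)) i j = 1) = tb a (pos i j) := by
    intro i j hij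
    rw [T5_val]
    unfold dec
    rw [if_neg hij.ne, if_pos hij]
    cases tb a (pos i j) <;> decide
  unfold code
  simp only
  rw [h 0 1 (by decide), h 0 2 (by decide), h 0 3 (by decide), h 0 4 (by decide), h 1 2 (by decide),
    h 1 3 (by decide), h 1 4 (by decide), h 2 3 (by decide), h 2 4 (by decide), h 3 4 (by decide)]
  exact ofB_bits ha

theorem T5_inj {a b : ℕ} (ha : a < 1024) (hb : b < 1024) (h : T5 a = T5 b) : a = b := by
  rw [← code_T5 ha, ← code_T5 hb, h]

theorem exists_code (g : tri 5) : ∃ a < 1024, T5 a = g := ⟨code g, code_lt g, T5_code g⟩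

theorem T5_one : T5 0 = 1 := by
  apply Subtype.ext
  apply Units.ext
  show dec 0 = 1
  ext i j
  unfold dec
  by_cases hij : i = j
  · rw [if_pos hij, hij, Matrix.one_apply_eq]
  · rw [if_neg hij, Matrix.one_apply_ne hij]
    split
    · simp [tb, bzb]
    · rfl

end Cfsg.Agent.H9.UT5
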