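import Cfsg.Agent.H9.UT5Main

/-!
# The quotient of `UT₅(2)` by its centre is modelled by the reduced codes
-/

set_option autoImplicit false

namespace Cfsg.Agent.H9.UT5

open Cfsg.Agent.H9.UniTri

theorem T5_eight_central (g : ↥(tri 5)) : g * T5 8 = T5 8 * g := by
  obtain ⟨a, ha, rfl⟩ := exists_code g
  rw [T5_mul, T5_mul, cmul_eight ha, eight_cmul ha]

theorem T5_eight_mem : T5 8 ∈ Subgroup.center ↥(tri 5) :=
  Subgroup.mem_center_iff.2 (fun g => T5_eight_central g)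

theorem center_codes {c : ℕ} (hc : c < 1024) (h : T5 c ∈ Subgroup.center ↥(tri 5)) : c = 0 ∨ c = 8 := by
  have key : ∀ g : ℕ, g < 1024 → cmul c g = cmul g c := by
    intro g hg
    have := Subgroup.mem_center_iff.1 h (T5 g)
    rw [T5_mul, T5_mul] at this
    exact (T5_inj (cmul_lt hg hc) (cmul_lt hc hg) this).symm
  exact centre_codes hc (key 1 (by norm_num)) (key 16 (by norm_num)) (key 128 (by norm_num))
    (key 512 (by norm_num))

/-- the class of a code -/
noncomputable def pi (a : ℕ) : ↥(tri 5) ⧸ Subgroup.center ↥(tri 5) := QuotientGroup.mk (T5 a)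

theorem pi_mul (a b : ℕ) : pi a * pi b = pi (cmul a b) := by
  unfold pi
  rw [← QuotientGroup.mk_mul, T5_mul]

theorem pi_xor {a : ℕ} (ha : a < 1024) : pi (Nat.xor a 8) = pi a := by
  unfold pi
  rw [← cmul_eight ha, ← T5_mul]
  exact QuotientGroup.mk_mul_of_mem _ T5_eight_mem

theorem pi_rd {a : ℕ} (ha : a < 1024) : pi (rd a) = pi a := by
  rcases (rd_facts ha).2.2.2.2 with h | h
  · rw [h]
  · rw [h, pi_xor ha]

theorem rd_eq_of_pi_eq {a b : ℕ} (ha : a < 1024) (hb : b < 1024) (h : pi a = pi b) : rd a = rd b := by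
  unfold pi at h
  rw [QuotientGroup.eq] at h
  obtain ⟨c, hc, hc'⟩ := exists_code ((T5 a)⁻¹ * T5 b)
  rw [← hc'] at h
  have hb' : T5 b = T5 (cmul a c) := by
    rw [← T5_mul, hc']
    group
  have hbc := T5_inj hb (cmul_lt ha hc) hb'
  rcases center_codes hc h with rfl | rfl
  · rw [hbc, cmul_zero]
  · rw [hbc, cmul_eight ha, (rd_facts ha).2.2.1]

/-- the reduced code of a class -/
noncomputable def cdS (s : ↥(tri 5) ⧸ Subgroup.center ↥(tri 5)) : ℕ := rd (code (Quotient.out s))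

theorem cdS_lt (s : ↥(tri 5) ⧸ Subgroup.center ↥(tri 5)) : cdS s < 1024 := (rd_facts (code_lt _)).2.1

theorem cdS_red (s : ↥(tri 5) ⧸ Subgroup.center ↥(tri 5)) : red (cdS s) = true := (rd_facts (code_lt _)).1

theorem pi_cdS (s : ↥(tri 5) ⧸ Subgroup.center ↥(tri 5)) : pi (cdS s) = s := by
  unfold cdS
  rw [pi_rd (code_lt _)]
  unfold pi
  rw [T5_code]
  exact QuotientGroup.out_eq' s

theorem cdS_pi {a : ℕ} (ha : a < 1024) : cdS (pi a) = rd a := by
  have h := rd_eq_of_pi_eq (cdS_lt _) ha (pi_cdS (pi a))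
  rwa [(rd_facts (cdS_lt _)).2.2.2.1 (cdS_red _)] at h

/-- the model of the quotient -/
noncomputable def modelS : Model (↥(tri 5) ⧸ Subgroup.center ↥(tri 5)) where
  cd := cdS
  cd_lt := cdS_lt
  cd_red := cdS_red
  cd_inj := fun s t h => by rw [← pi_cdS s, ← pi_cdS t, h]
  cd_surj := fun a ha hr => ⟨pi a, by rw [cdS_pi ha, (rd_facts ha).2.2.2.1 hr]⟩
  cd_mul := fun s t => by
    conv_lhs => rw [← pi_cdS s, ← pi_cdS t, pi_mul]
    exact cdS_pi (cmul_lt (cdS_lt s) (cdS_lt t))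

end Cfsg.Agent.H9.UT5
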