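import Cfsg.Agent.H9.M24Sylow2
import Cfsg.Agent.H9.M24CentC
import Cfsg.Agent.H9.M24OctadConj
import Cfsg.Agent.H9.UT5Model
import Cfsg.Agent.Lib.Helper7.Qd2

/-!
# The Sylow `2`-subgroups of `M₂₄` are isomorphic to `UT₅(2)`

The centralizer of a `2`-central involution of `M₂₄` is isomorphic to the centralizer of a transvection of
`SL₅(2)`; both have order `2¹⁰ · 21`, and `2¹⁰` is the `2`-part of the orders of `M₂₄` and of `GL₅(2)`.
-/

set_option autoImplicit false

namespace Cfsg.Agent.H9.UT5Syl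

open Cfsg Cfsg.Agent.H9.UniTri Cfsg.Agent.H9.UT5 Cfsg.Agent.H9.M24Cent

/-- two subgroups whose order is the full power of `p` are isomorphic -/
theorem equiv_of_card {G : Type*} [Group G] [Finite G] {p a m : ℕ} [Fact p.Prime]
    (hG : Nat.card G = p ^ a * m) (hm : ¬ p ∣ m) (H K : Subgroup G)
    (hH : Nat.card H = p ^ a) (hK : Nat.card K = p ^ a) : Nonempty (↥H ≃* ↥K) := by
  have key : ∀ L : Subgroup G, Nat.card L = p ^ a → ∃ P : Sylow p G, (P : Subgroup G) = L := by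
    intro L hL
    have hp : IsPGroup p L := IsPGroup.of_card hL
    obtain ⟨P, hP⟩ := hp.exists_le_sylow
    refine ⟨P, (Subgroup.eq_of_le_of_card_ge hP ?_).symm⟩
    rw [Cfsg.Agent.Lib.Helper4.Sylow.card_sylow_of_card_eq hG hm P, hL]
  obtain ⟨P, rfl⟩ := key H hH
  obtain ⟨Q, rfl⟩ := key K hK
  exact ⟨Sylow.equiv P Q⟩

theorem card_tri5 : Nat.card ↥(tri 5) = 1024 := by
  have hb : Function.Bijective (fun i : Fin 1024 => T5 i.1) := by
    constructor
    · intro i j h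
      exact Fin.ext (T5_inj i.2 j.2 h)
    · intro g
      obtain ⟨a, ha, rfl⟩ := exists_code g
      exact ⟨⟨a, ha⟩, rfl⟩
  rw [← Nat.card_congr (Equiv.ofBijective _ hb), Nat.card_fin]

theorem card_GL5 : Nat.card (GL (Fin 5) (ZMod 2)) = 2 ^ 10 * 9765 := by
  rw [Matrix.card_GL_field]
  simp [Fin.prod_univ_succ]

/-- a subgroup of order `2¹⁰` of the centralizer of the transvection, mapped into two groups -/
theorem sylow_equiv_tri (P : Sylow 2 ↥Cfsg.M24) : Nonempty (↥(P : Subgroup ↥Cfsg.M24) ≃* ↥(tri 5)) := by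
  have : Fact (Nat.Prime 2) := ⟨Nat.prime_two⟩
  obtain ⟨z, -, ⟨e⟩⟩ := exists_equiv sT sT_val
  have hcard := Cfsg.Agent.S0445.result sT sT_val
  have : Finite ↥(Subgroup.centralizer ({sT} : Set (Matrix.SpecialLinearGroup (Fin 5) (ZMod 2)))) :=
    Nat.finite_of_card_ne_zero (by rw [hcard]; norm_num)
  have : Finite ↥Cfsg.M24 := Nat.finite_of_card_ne_zero (by rw [Cfsg.Agent.H9.M24Sylow2.card_G]; norm_num)
  obtain ⟨Q, hQ⟩ := Sylow.exists_subgroup_card_pow_prime 2 (n := 10)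
    (G := ↥(Subgroup.centralizer ({sT} : Set (Matrix.SpecialLinearGroup (Fin 5) (ZMod 2)))))
    (by rw [hcard]; norm_num)
  -- into `M₂₄`
  have hψ1 : Function.Injective ((Subgroup.centralizer ({z} : Set ↥Cfsg.M24)).subtype.comp
      e.symm.toMonoidHom) := by
    intro x y h
    exact e.symm.injective (Subtype.ext h)
  have e1 := Subgroup.equivMapOfInjective Q _ hψ1
  have hc1 : Nat.card ↥(Q.map ((Subgroup.centralizer ({z} : Set ↥Cfsg.M24)).subtype.comp
      e.symm.toMonoidHom)) = 2 ^ 10 := by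
    rw [Subgroup.card_map_of_injective hψ1, hQ]
  obtain ⟨e2⟩ := equiv_of_card Cfsg.Agent.H9.M24Sylow2.card_G (by norm_num) (P : Subgroup ↥Cfsg.M24) _
    (by rw [Cfsg.Agent.H9.M24Sylow2.card_sylow P]; norm_num) hc1
  -- into `GL₅(2)`
  have hψ2 : Function.Injective ((Matrix.SpecialLinearGroup.toGL :
      Matrix.SpecialLinearGroup (Fin 5) (ZMod 2) →* GL (Fin 5) (ZMod 2)).comp
      (Subgroup.centralizer ({sT} : Set (Matrix.SpecialLinearGroup (Fin 5) (ZMod 2)))).subtype) := by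
    intro x y h
    exact Subtype.ext (Matrix.SpecialLinearGroup.toGL_injective h)
  have e3 := Subgroup.equivMapOfInjective Q _ hψ2
  have hc3 : Nat.card ↥(Q.map ((Matrix.SpecialLinearGroup.toGL :
      Matrix.SpecialLinearGroup (Fin 5) (ZMod 2) →* GL (Fin 5) (ZMod 2)).comp
      (Subgroup.centralizer ({sT} : Set (Matrix.SpecialLinearGroup (Fin 5) (ZMod 2)))).subtype)) = 2 ^ 10 := by
    rw [Subgroup.card_map_of_injective hψ2, hQ]
  obtain ⟨e4⟩ := equiv_of_card card_GL5 (by norm_num) _ (tri 5) hc3 (by rw [card_tri5]; norm_num)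
  exact ⟨((e2.trans e1.symm).trans e3).trans e4⟩

/-- the quotients by the centres -/
theorem quot_equiv (P : Sylow 2 ↥Cfsg.M24) :
    Nonempty ((↥(P : Subgroup ↥Cfsg.M24) ⧸ Subgroup.center ↥(P : Subgroup ↥Cfsg.M24)) ≃*
      (↥(tri 5) ⧸ Subgroup.center ↥(tri 5))) := by
  obtain ⟨e⟩ := sylow_equiv_tri P
  exact ⟨QuotientGroup.congr _ _ e (Cfsg.Agent.Lib.Helper7.center_map_mulEquiv e)⟩

end Cfsg.Agent.H9.UT5Syl
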