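import Mathlib
import Cfsg.Agent.H9.AltFq

set_option autoImplicit false

namespace Cfsg.Agent.H9.UniqSyl
open Equiv Equiv.Perm

universe u

/-- (G0) every Sylow 2-subgroup of `Perm β` (any finite `β`) is self-normalizing -/
theorem sn_of_fintype {β : Type u} [Fintype β] [DecidableEq β] (S : Sylow 2 (Perm β)) :
    AltF.SN (S : Subgroup (Perm β)) := by
  classical
  let e : β ≃ Fin (Fintype.card β) := Fintype.equivFin β
  let E : Perm (Fin (Fintype.card β)) ≃* Perm β := e.symm.permCongrHom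
  have hle : (S : Subgroup (Perm β)) ≤ E.toMonoidHom.range := by
    intro g _
    exact ⟨E.symm g, by simp⟩
  let S' : Sylow 2 (Perm (Fin (Fintype.card β))) :=
    S.comapOfInjective E.toMonoidHom E.injective hle
  have h1 := AltF.syl2_selfnorm (Fintype.card β) S'
  have h2 := AltF.SN.map E _ h1
  have h3 : ((S' : Subgroup (Perm (Fin (Fintype.card β)))).map E.toMonoidHom) =
      (S : Subgroup (Perm β)) := by
    show ((S : Subgroup (Perm β)).comap E.toMonoidHom).map E.toMonoidHom = _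
    exact Subgroup.map_comap_eq_self hle
  rw [h3] at h2
  exact h2

/-- membership in the normalizer gives `SN`-style membership -/
theorem mem_of_mem_normalizer {β : Type u} [Fintype β] [DecidableEq β] (S : Sylow 2 (Perm β))
    (g : Perm β) (hg : g ∈ Subgroup.normalizer ((S : Subgroup (Perm β)) : Set (Perm β))) : g ∈ S := by
  apply sn_of_fintype S g
  intro τ hτ
  exact (Subgroup.mem_normalizer_iff.mp hg τ).mp hτ

/-- elements of the range of `subtypeCongrHom` are exactly those preserving `H` -/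
theorem mem_range_iff {α : Type u} [Fintype α] [DecidableEq α] (H : Finset α) (g : Perm α) :
    g ∈ (Equiv.Perm.subtypeCongrHom (fun a => a ∈ H)).range ↔ ∀ a, g a ∈ H ↔ a ∈ H := by
  constructor
  · rintro ⟨⟨g1, g2⟩, rfl⟩ a
    by_cases ha : a ∈ H
    · have : (Equiv.Perm.subtypeCongrHom (fun a => a ∈ H)) (g1, g2) a = g1 ⟨a, ha⟩ :=
        Equiv.Perm.subtypeCongr.left_apply (ep := g1) (en := g2) ha
      rw [this]
      simp [ha, (g1 ⟨a, ha⟩).2]
    · have : (Equiv.Perm.subtypeCongrHom (fun a => a ∈ H)) (g1, g2) a = g2 ⟨a, ha⟩ :=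
        Equiv.Perm.subtypeCongr.right_apply (ep := g1) (en := g2) ha
      rw [this]
      simp [ha, (g2 ⟨a, ha⟩).2]
  · intro h
    have h' : ∀ a, ¬ g a ∈ H ↔ ¬ a ∈ H := fun a => not_congr (h a)
    refine ⟨(g.subtypePerm (p := fun a => a ∈ H) (fun a => (h a)),
      g.subtypePerm (p := fun a => ¬ a ∈ H) (fun a => (h' a))), ?_⟩
    ext a
    by_cases ha : a ∈ H
    · have : (Equiv.Perm.subtypeCongrHom (fun a => a ∈ H))
          (g.subtypePerm (p := fun a => a ∈ H) (fun a => (h a)),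
            g.subtypePerm (p := fun a => ¬ a ∈ H) (fun a => (h' a))) a = _ :=
        Equiv.Perm.subtypeCongr.left_apply _ _ ha
      rw [this]
      rfl
    · have : (Equiv.Perm.subtypeCongrHom (fun a => a ∈ H))
          (g.subtypePerm (p := fun a => a ∈ H) (fun a => (h a)),
            g.subtypePerm (p := fun a => ¬ a ∈ H) (fun a => (h' a))) a = _ :=
        Equiv.Perm.subtypeCongr.right_apply _ _ ha
      rw [this]
      rfl


/-- `N_{K_H}(M) ≤ M` for a product of Sylows -/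
theorem normalizer_prod_le {α : Type u} [Fintype α] [DecidableEq α] (H : Finset α)
    (S1 : Sylow 2 (Perm {a // a ∈ H})) (S2 : Sylow 2 (Perm {a // ¬ a ∈ H}))
    (g : Perm α)
    (hg : g ∈ Subgroup.normalizer
      ((((S1 : Subgroup (Perm {a // a ∈ H})).prod (S2 : Subgroup (Perm {a // ¬ a ∈ H}))).map
          (Equiv.Perm.subtypeCongrHom (fun a => a ∈ H)) : Subgroup (Perm α)) : Set (Perm α)))
    (hH : ∀ a, g a ∈ H ↔ a ∈ H) :
    g ∈ ((S1 : Subgroup (Perm {a // a ∈ H})).prod (S2 : Subgroup (Perm {a // ¬ a ∈ H}))).map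
          (Equiv.Perm.subtypeCongrHom (fun a => a ∈ H)) := by
  obtain ⟨⟨g1, g2⟩, rfl⟩ := (mem_range_iff H g).mpr hH
  have hinj := Equiv.Perm.subtypeCongrHom_injective (fun a => a ∈ H)
  refine ⟨(g1, g2), ⟨?_, ?_⟩, rfl⟩
  · apply sn_of_fintype S1 g1
    intro τ hτ
    have h1 : (Equiv.Perm.subtypeCongrHom (fun a => a ∈ H)) (τ, 1) ∈
        ((S1 : Subgroup (Perm {a // a ∈ H})).prod (S2 : Subgroup (Perm {a // ¬ a ∈ H}))).map
          (Equiv.Perm.subtypeCongrHom (fun a => a ∈ H)) :=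
      ⟨(τ, 1), ⟨hτ, Subgroup.one_mem _⟩, rfl⟩
    have h2 := (Subgroup.mem_normalizer_iff.mp hg _).mp h1
    obtain ⟨⟨s1, s2⟩, ⟨hs1, _⟩, hs⟩ := h2
    have h3 : (s1, s2) = (g1, g2) * (τ, 1) * (g1, g2)⁻¹ := by
      apply hinj
      rw [hs, map_mul, map_mul, map_inv]
    have h4 : s1 = g1 * τ * g1⁻¹ := congrArg Prod.fst h3
    rw [← h4]
    exact hs1
  · apply sn_of_fintype S2 g2
    intro τ hτ
    have h1 : (Equiv.Perm.subtypeCongrHom (fun a => a ∈ H)) (1, τ) ∈
        ((S1 : Subgroup (Perm {a // a ∈ H})).prod (S2 : Subgroup (Perm {a // ¬ a ∈ H}))).map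
          (Equiv.Perm.subtypeCongrHom (fun a => a ∈ H)) :=
      ⟨(1, τ), ⟨Subgroup.one_mem _, hτ⟩, rfl⟩
    have h2 := (Subgroup.mem_normalizer_iff.mp hg _).mp h1
    obtain ⟨⟨s1, s2⟩, ⟨_, hs2⟩, hs⟩ := h2
    have h3 : (s1, s2) = (g1, g2) * (1, τ) * (g1, g2)⁻¹ := by
      apply hinj
      rw [hs, map_mul, map_mul, map_inv]
    have h4 : s2 = g2 * τ * g2⁻¹ := congrArg Prod.snd h3
    rw [← h4]
    exact hs2

/-- the orbit of a point under a subgroup, as a finset -/
noncomputable def orb {α : Type u} [Fintype α] [DecidableEq α] (P : Subgroup (Perm α)) (a0 : α) :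
    Finset α := by
  classical
  exact Finset.univ.filter (fun b => ∃ g ∈ P, g a0 = b)

theorem mem_orb {α : Type u} [Fintype α] [DecidableEq α] (P : Subgroup (Perm α)) (a0 b : α) :
    b ∈ orb P a0 ↔ ∃ g ∈ P, g a0 = b := by
  simp [orb]

/-- (G1) orbits of 2-groups have 2-power size -/
theorem card_orb {α : Type u} [Fintype α] [DecidableEq α] (P : Subgroup (Perm α))
    (hP : IsPGroup 2 P) (a0 : α) : ∃ i : ℕ, (orb P a0).card = 2 ^ i := by
  obtain ⟨i, hi⟩ := hP.card_orbit (α := α) a0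
  refine ⟨i, ?_⟩
  rw [← hi]
  have hset : MulAction.orbit (↥P) a0 = ((orb P a0 : Finset α) : Set α) := by
    ext b
    simp only [MulAction.mem_orbit_iff, Finset.mem_coe, mem_orb]
    constructor
    · rintro ⟨g, rfl⟩
      exact ⟨g.1, g.2, rfl⟩
    · rintro ⟨g, hg, rfl⟩
      exact ⟨⟨g, hg⟩, rfl⟩
  rw [hset]
  simp

theorem orb_invariant {α : Type u} [Fintype α] [DecidableEq α] (P : Subgroup (Perm α)) (a0 : α)
    (g : Perm α) (hg : g ∈ P) (a : α) : g a ∈ orb P a0 ↔ a ∈ orb P a0 := by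
  simp only [mem_orb]
  constructor
  · rintro ⟨h, hh, hha⟩
    refine ⟨g⁻¹ * h, P.mul_mem (P.inv_mem hg) hh, ?_⟩
    simp [Perm.mul_apply, hha]
  · rintro ⟨h, hh, rfl⟩
    exact ⟨g * h, P.mul_mem hg hh, rfl⟩

end Cfsg.Agent.H9.UniqSyl
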