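import Mathlib
import Cfsg.Agent.H9.UniqSylA
import Cfsg.Agent.Lib.Helper4.UniqSylC3
import Cfsg.Agent.Lib.helper3.UniqSylG
import Cfsg.Agent.Lib.Helper6.UniqSylP
import Cfsg.Agent.Lib.Helper4.UniqSylC2

set_option autoImplicit false

namespace Cfsg.Agent.H9.UniqSyl
open Equiv Equiv.Perm
open Cfsg.Agent.Lib.helper3.UniqSylG
open Cfsg.Agent.Lib.Helper6.UniqSyl
open Cfsg.Agent.Lib.Helper4.UniqSyl

universe u

/-- the condition (*) together with 2-power order -/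
def Good {α : Type u} [Fintype α] [DecidableEq α] (x : Perm α) : Prop :=
  (∃ k : ℕ, orderOf x = 2 ^ k) ∧ Fintype.card α ≤ x.support.card + 2 ∧ x.cycleType.Nodup

/-- `x` lies in at most one Sylow 2-subgroup -/
def Uniq {α : Type u} [Fintype α] [DecidableEq α] (x : Perm α) : Prop :=
  ∀ P Q : Sylow 2 (Perm α), x ∈ P → x ∈ Q → P = Q

theorem uniq_small {α : Type u} [Fintype α] [DecidableEq α] (h : Fintype.card α ≤ 2)
    (P Q : Sylow 2 (Perm α)) : P = Q := by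
  have hcard : ∃ k : ℕ, Nat.card (Perm α) = 2 ^ k := by
    rw [Nat.card_eq_fintype_card, Fintype.card_perm]
    have h3 : Fintype.card α = 0 ∨ Fintype.card α = 1 ∨ Fintype.card α = 2 := by omega
    rcases h3 with h3 | h3 | h3 <;> rw [h3]
    · exact ⟨0, rfl⟩
    · exact ⟨0, rfl⟩
    · exact ⟨1, rfl⟩
  obtain ⟨k, hk⟩ := hcard
  have hG : IsPGroup 2 (Perm α) := IsPGroup.of_card hk
  have htop : IsPGroup 2 (⊤ : Subgroup (Perm α)) := hG.to_subgroup ⊤
  have hP : (⊤ : Subgroup (Perm α)) = (P : Subgroup (Perm α)) := P.is_maximal' htop le_top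
  have hQ : (⊤ : Subgroup (Perm α)) = (Q : Subgroup (Perm α)) := Q.is_maximal' htop le_top
  exact Sylow.ext (hP.symm.trans hQ)

theorem preserve_compl {α : Type u} [Fintype α] [DecidableEq α] (H : Finset α) (g : Perm α) :
    (∀ a, g a ∈ Hᶜ ↔ a ∈ Hᶜ) ↔ (∀ a, g a ∈ H ↔ a ∈ H) := by
  simp only [Finset.mem_compl]
  constructor
  · intro h a
    exact not_iff_not.mp (h a)
  · intro h a
    exact not_congr (h a)

theorem mem_map_prod {α : Type u} [Fintype α] [DecidableEq α] (H : Finset α)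
    (S1 : Subgroup (Perm {a // a ∈ H})) (S2 : Subgroup (Perm {a // ¬ a ∈ H})) (y : Perm α) :
    y ∈ (S1.prod S2).map (Equiv.Perm.subtypeCongrHom (fun a => a ∈ H)) ↔
      ∃ y1 ∈ S1, ∃ y2 ∈ S2, Equiv.Perm.subtypeCongrHom (fun a => a ∈ H) (y1, y2) = y := by
  constructor
  · rintro ⟨⟨y1, y2⟩, ⟨h1, h2⟩, rfl⟩
    exact ⟨y1, h1, y2, h2, rfl⟩
  · rintro ⟨y1, h1, y2, h2, rfl⟩
    exact ⟨(y1, y2), ⟨h1, h2⟩, rfl⟩

/-- uniqueness of the two Sylow factors -/
theorem prod_uniq {α : Type u} [Fintype α] [DecidableEq α] (H : Finset α) (y : Perm α)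
    (hy : ∀ (y1 : Perm {a // a ∈ H}) (y2 : Perm {a // ¬ a ∈ H}),
      Equiv.Perm.subtypeCongrHom (fun a => a ∈ H) (y1, y2) = y → Uniq y1 ∧ Uniq y2)
    (S1 S1' : Sylow 2 (Perm {a // a ∈ H})) (S2 S2' : Sylow 2 (Perm {a // ¬ a ∈ H}))
    (h : y ∈ ((S1 : Subgroup (Perm {a // a ∈ H})).prod
      (S2 : Subgroup (Perm {a // ¬ a ∈ H}))).map (Equiv.Perm.subtypeCongrHom (fun a => a ∈ H)))
    (h' : y ∈ ((S1' : Subgroup (Perm {a // a ∈ H})).prod
      (S2' : Subgroup (Perm {a // ¬ a ∈ H}))).map (Equiv.Perm.subtypeCongrHom (fun a => a ∈ H))) :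
    S1 = S1' ∧ S2 = S2' := by
  obtain ⟨y1, h1, y2, h2, hyy⟩ := (mem_map_prod H _ _ y).mp h
  obtain ⟨y1', h1', y2', h2', hyy'⟩ := (mem_map_prod H _ _ y).mp h'
  have hinj := Equiv.Perm.subtypeCongrHom_injective (fun a => a ∈ H)
  have heq : (y1', y2') = (y1, y2) := hinj (hyy'.trans hyy.symm)
  have e1 : y1' = y1 := congrArg Prod.fst heq
  have e2 : y2' = y2 := congrArg Prod.snd heq
  subst e1 e2
  obtain ⟨u1, u2⟩ := hy y1' y2' hyy
  exact ⟨u1 S1 S1' h1 h1', u2 S2 S2' h2 h2'⟩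

/-- common end of cases A2 and B -/
theorem finish {α : Type u} [Fintype α] [DecidableEq α] (H0 : Finset α) (j : ℕ)
    (hH0 : H0.card = 2 ^ j) (hα : Fintype.card α = 2 * 2 ^ j) (y : Perm α)
    (hy : ∀ (y1 : Perm {a // a ∈ H0}) (y2 : Perm {a // ¬ a ∈ H0}),
      Equiv.Perm.subtypeCongrHom (fun a => a ∈ H0) (y1, y2) = y → Uniq y1 ∧ Uniq y2)
    (P Q : Sylow 2 (Perm α))
    (MP : Subgroup (Perm α)) (HP : Finset α) (hMP : MP ≤ P) (hiP : MP.relIndex P = 2)
    (hcP : ∀ g ∈ P, (g ∈ MP ↔ ∀ a, g a ∈ HP ↔ a ∈ HP))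
    (ht1 : ∀ a ∈ HP, ∀ b ∈ HP, ∃ g ∈ MP, g a = b) (ht2 : ∀ a ∉ HP, ∀ b ∉ HP, ∃ g ∈ MP, g a = b)
    (hHP : HP = H0 ∨ HP = H0ᶜ) (hyP : y ∈ MP)
    (MQ : Subgroup (Perm α)) (HQ : Finset α) (hMQ : MQ ≤ Q) (hiQ : MQ.relIndex Q = 2)
    (hcQ : ∀ g ∈ Q, (g ∈ MQ ↔ ∀ a, g a ∈ HQ ↔ a ∈ HQ))
    (hHQ : HQ = H0 ∨ HQ = H0ᶜ) (hyQ : y ∈ MQ) : P = Q := by
  have key : ∀ (H : Finset α), (H = H0 ∨ H = H0ᶜ) → ∀ g : Perm α,
      ((∀ a, g a ∈ H ↔ a ∈ H) ↔ (∀ a, g a ∈ H0 ↔ a ∈ H0)) := by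
    intro H hH g
    rcases hH with rfl | rfl
    · exact Iff.rfl
    · exact preserve_compl H0 g
  have hpP : ∀ g ∈ MP, ∀ a, g a ∈ H0 ↔ a ∈ H0 := fun g hg =>
    (key HP hHP g).mp ((hcP g (hMP hg)).mp hg)
  have hpQ : ∀ g ∈ MQ, ∀ a, g a ∈ H0 ↔ a ∈ H0 := fun g hg =>
    (key HQ hHQ g).mp ((hcQ g (hMQ hg)).mp hg)
  obtain ⟨S1, S2, hS⟩ := exists_prod_of_relIndex_two H0 j hH0 hα P MP hMP hiP hpP
  obtain ⟨S1', S2', hS'⟩ := exists_prod_of_relIndex_two H0 j hH0 hα Q MQ hMQ hiQ hpQ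
  obtain ⟨e1, e2⟩ := prod_uniq H0 y hy S1 S1' S2 S2' (hS ▸ hyP) (hS' ▸ hyQ)
  subst e1 e2
  have hMM : MP = MQ := hS.trans hS'.symm
  subst hMM
  refine sylow_eq_of_relIndex_two MP HP (fun g hg => (hcP g (hMP hg)).mp hg) ht1 ht2 ?_ P Q
    hMP hMQ hiP hiQ
  intro g hg hgH
  have hg0 : ∀ a, g a ∈ H0 ↔ a ∈ H0 := (key HP hHP g).mp hgH
  rw [hS] at hg ⊢
  exact normalizer_prod_le H0 S1 S2 g hg hg0


theorem exists_pow_of_mem {α : Type u} [Fintype α] [DecidableEq α] (x σ : Perm α)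
    (hσ : σ ∈ x.cycleFactorsFinset) (a b : α) (ha : a ∈ σ.support) (hb : b ∈ σ.support) :
    ∃ i : ℕ, (x ^ i) a = b := by
  have hc : σ.IsCycle := (Equiv.Perm.mem_cycleFactorsFinset_iff.mp hσ).1
  obtain ⟨i, hi⟩ := hc.exists_pow_eq (Equiv.Perm.mem_support.mp ha) (Equiv.Perm.mem_support.mp hb)
  refine ⟨i, ?_⟩
  have h1 : σ = x.cycleOf a := Equiv.Perm.cycle_is_cycleOf ha hσ
  rw [← hi, h1, Equiv.Perm.cycleOf_pow_apply_self]

theorem sq_mem_of_halves {α : Type u} [Fintype α] [DecidableEq α] (P MP : Subgroup (Perm α))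
    (HP : Finset α) (hcP : ∀ g ∈ P, (g ∈ MP ↔ ∀ a, g a ∈ HP ↔ a ∈ HP))
    (hsw : ∀ g ∈ P, g ∉ MP → ∀ a, g a ∈ HP ↔ a ∉ HP) (g : Perm α) (hg : g ∈ P) :
    g ^ 2 ∈ MP := by
  by_cases hgM : g ∈ MP
  · exact MP.pow_mem hgM 2
  · rw [hcP (g ^ 2) (P.pow_mem hg 2)]
    intro a
    rw [pow_two, Perm.mul_apply, hsw g hg hgM (g a), hsw g hg hgM a, not_not]

theorem good_of_stub {α : Type u} [Fintype α] [DecidableEq α] (x : Perm α)
    (h : (∃ k : ℕ, orderOf x = 2 ^ k) ∧ Fintype.card α ≤ x.support.card + 2 ∧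
        x.cycleType.Nodup) : Good x := h

/-- the main induction: an element with (*) lies in at most one Sylow 2-subgroup -/
theorem uniq_of_good : ∀ (n : ℕ) (α : Type u) [Fintype α] [DecidableEq α],
    Fintype.card α = n → ∀ x : Perm α, Good x → Uniq x := by
  intro n
  induction n using Nat.strong_induction_on with
  | _ n ih =>
  intro α _ _ hn x hgood P Q hxP hxQ
  by_cases hsmall : Fintype.card α ≤ 2
  · exact uniq_small hsmall P Q
  obtain ⟨hx2, h1, h2⟩ := hgood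
  have hx1 : x ≠ 1 := by
    rintro rfl
    simp at h1
    omega
  have hne : x.cycleFactorsFinset.Nonempty := by
    rw [Finset.nonempty_iff_ne_empty, Ne, Equiv.Perm.cycleFactorsFinset_eq_empty_iff]
    exact hx1
  obtain ⟨σ, hσ, hmax⟩ := Finset.exists_max_image x.cycleFactorsFinset
    (fun τ => τ.support.card) hne
  obtain ⟨j, hj1, hj⟩ := card_support_eq_pow x hx2 σ hσ
  have hcpos : 0 < σ.support.card := by rw [hj]; positivity
  obtain ⟨a0, ha0⟩ := Finset.card_pos.mp hcpos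
  -- restrictions via the induction hypothesis
  have hcardL : Fintype.card {a // a ∈ σ.support} = σ.support.card := Fintype.card_coe _
  have hcardR : Fintype.card {a // ¬ a ∈ σ.support} = Fintype.card α - σ.support.card := by
    rw [Fintype.card_subtype_compl, hcardL]
  have hle : σ.support.card ≤ Fintype.card α := Finset.card_le_univ _
  by_cases hfull : σ.support = Finset.univ
  · -- case B : x is a full cycle
    have hxσ : x = σ := by
      ext a
      exact ((Equiv.Perm.mem_cycleFactorsFinset_iff.mp hσ).2 a (by rw [hfull]; simp)).symm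
    have hcyc : x.IsCycle := hxσ ▸ (Equiv.Perm.mem_cycleFactorsFinset_iff.mp hσ).1
    have hs : x.support = Finset.univ := hxσ ▸ hfull
    have hcα : Fintype.card α = 2 ^ j := by
      rw [← hj, hfull, Finset.card_univ]
    have hj2 : 2 ≤ j := by
      by_contra hcon
      have : j = 1 := by omega
      rw [this] at hcα
      omega
    have h4 : 4 ≤ Fintype.card α := by
      rw [hcα]
      calc 4 = 2 ^ 2 := by norm_num
        _ ≤ 2 ^ j := Nat.pow_le_pow_right (by norm_num) hj2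
    have htr : ∀ (R : Sylow 2 (Perm α)), x ∈ R → ∀ a b : α, ∃ g ∈ R, g a = b := by
      intro R hxR a b
      have ha : x a ≠ a := Equiv.Perm.mem_support.mp (by rw [hs]; simp)
      have hb : x b ≠ b := Equiv.Perm.mem_support.mp (by rw [hs]; simp)
      obtain ⟨i, hi⟩ := hcyc.exists_pow_eq ha hb
      exact ⟨x ^ i, Subgroup.pow_mem _ hxR i, hi⟩
    obtain ⟨MP, HP, hMP, hiP, hcardP, hcP, hswP, ht1P, ht2P⟩ :=
      exists_halves (P : Subgroup (Perm α)) P.isPGroup' (htr P hxP) (by omega)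
    obtain ⟨MQ, HQ, hMQ, hiQ, hcardQ, hcQ, hswQ, ht1Q, ht2Q⟩ :=
      exists_halves (Q : Subgroup (Perm α)) Q.isPGroup' (htr Q hxQ) (by omega)
    obtain ⟨H0, hinv0, hcard0, huniq0, hgood0⟩ := sq_full_cycle x hx2 hcyc hs h4
    have hsqP : x ^ 2 ∈ MP := sq_mem_of_halves _ MP HP hcP hswP x hxP
    have hsqQ : x ^ 2 ∈ MQ := sq_mem_of_halves _ MQ HQ hcQ hswQ x hxQ
    have hHP : HP = H0 ∨ HP = H0ᶜ :=
      huniq0 HP ((hcP _ (hMP hsqP)).mp hsqP) hcardP
    have hHQ : HQ = H0 ∨ HQ = H0ᶜ :=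
      huniq0 HQ ((hcQ _ (hMQ hsqQ)).mp hsqQ) hcardQ
    have hH0c : H0.card = 2 ^ (j - 1) := by
      have : 2 ^ j = 2 * 2 ^ (j - 1) := by
        rw [← pow_succ']
        congr 1
        omega
      omega
    have hα' : Fintype.card α = 2 * 2 ^ (j - 1) := by
      rw [hcα, ← pow_succ']
      congr 1
      omega
    have hpos : 0 < 2 ^ (j - 1) := by positivity
    refine finish H0 (j - 1) hH0c hα' (x ^ 2) ?_ P Q MP HP hMP hiP hcP ht1P ht2P hHP hsqP
      MQ HQ hMQ hiQ hcQ hHQ hsqQ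
    intro y1 y2 hy
    obtain ⟨g1, g2⟩ := hgood0 y1 y2 hy
    have hcL : Fintype.card {a // a ∈ H0} = H0.card := Fintype.card_coe _
    have hcR : Fintype.card {a // ¬ a ∈ H0} = Fintype.card α - H0.card := by
      rw [Fintype.card_subtype_compl, hcL]
    refine ⟨ih (Fintype.card {a // a ∈ H0}) ?_ _ rfl y1 g1,
      ih (Fintype.card {a // ¬ a ∈ H0}) ?_ _ rfl y2 g2⟩
    · rw [hcL]; omega
    · rw [hcR]; omega
  · -- case A : there are points outside the longest cycle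
    have hlt : σ.support.card < Fintype.card α := by
      rw [← Finset.card_univ]
      exact Finset.card_lt_card (Finset.ssubset_univ_iff.mpr hfull)
    have hc2 : 2 ≤ σ.support.card := by
      rw [hj]
      calc 2 = 2 ^ 1 := by norm_num
        _ ≤ 2 ^ j := Nat.pow_le_pow_right (by norm_num) hj1
    -- the restrictions satisfy the induction hypothesis
    have hy : ∀ (y1 : Perm {a // a ∈ σ.support}) (y2 : Perm {a // ¬ a ∈ σ.support}),
        Equiv.Perm.subtypeCongrHom (fun a => a ∈ σ.support) (y1, y2) = x → Uniq y1 ∧ Uniq y2 := by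
      intro y1 y2 hy
      obtain ⟨g1, g2⟩ := restrict_good x hx2 h1 h2 σ hσ y1 y2 hy
      refine ⟨ih (Fintype.card {a // a ∈ σ.support}) ?_ _ rfl y1 g1,
        ih (Fintype.card {a // ¬ a ∈ σ.support}) ?_ _ rfl y2 g2⟩
      · rw [hcardL]; omega
      · rw [hcardR]; omega
    have horb : ∀ (R : Sylow 2 (Perm α)), x ∈ R →
        (orb (R : Subgroup (Perm α)) a0 = σ.support ∨
          (orb (R : Subgroup (Perm α)) a0 = Finset.univ ∧
            Fintype.card α = 2 * σ.support.card)) := by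
      intro R hxR
      apply invariant_pow_card x hx2 h1 h2 σ hσ hmax
      · intro b hb
        obtain ⟨i, hi⟩ := exists_pow_of_mem x σ hσ a0 b ha0 hb
        exact (mem_orb _ _ _).mpr ⟨x ^ i, Subgroup.pow_mem _ hxR i, hi⟩
      · exact orb_invariant _ a0 x hxR
      · exact card_orb _ R.isPGroup' a0
    have hpres : ∀ (R : Sylow 2 (Perm α)),
        orb (R : Subgroup (Perm α)) a0 = σ.support → ∀ g ∈ R, ∀ a, g a ∈ σ.support ↔ a ∈ σ.support := by
      intro R hR g hg a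
      rw [← hR]
      exact orb_invariant _ a0 g hg a
    by_cases h2c : Fintype.card α = 2 * σ.support.card
    · -- case A2
      have hnot : ∀ (R : Sylow 2 (Perm α)), ¬ ∀ g ∈ R, ∀ a, g a ∈ σ.support ↔ a ∈ σ.support :=
        fun R => not_preserve_half σ.support h2c.symm ⟨a0, ha0⟩ R
      have htr : ∀ (R : Sylow 2 (Perm α)), x ∈ R → ∀ a b : α, ∃ g ∈ R, g a = b := by
        intro R hxR a b
        have huniv : orb (R : Subgroup (Perm α)) a0 = Finset.univ := by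
          rcases horb R hxR with h | ⟨h, _⟩
          · exact absurd (hpres R h) (hnot R)
          · exact h
        obtain ⟨ga, hga, hga'⟩ := (mem_orb _ a0 a).mp (by rw [huniv]; simp)
        obtain ⟨gb, hgb, hgb'⟩ := (mem_orb _ a0 b).mp (by rw [huniv]; simp)
        refine ⟨gb * ga⁻¹, Subgroup.mul_mem _ hgb (Subgroup.inv_mem _ hga), ?_⟩
        rw [Perm.mul_apply, ← hga', inv_apply_self', hgb']
      obtain ⟨MP, HP, hMP, hiP, hcardP, hcP, hswP, ht1P, ht2P⟩ :=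
        exists_halves (P : Subgroup (Perm α)) P.isPGroup' (htr P hxP) (by omega)
      obtain ⟨MQ, HQ, hMQ, hiQ, hcardQ, hcQ, hswQ, ht1Q, ht2Q⟩ :=
        exists_halves (Q : Subgroup (Perm α)) Q.isPGroup' (htr Q hxQ) (by omega)
      obtain ⟨a1, ha1⟩ := exists_fixed x hx2 h1 h2 σ hσ hmax h2c
      have hxMP : x ∈ MP := by
        by_contra hcon
        have := hswP x hxP hcon a1
        rw [ha1] at this
        exact iff_not_self this
      have hxMQ : x ∈ MQ := by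
        by_contra hcon
        have := hswQ x hxQ hcon a1
        rw [ha1] at this
        exact iff_not_self this
      have hHP : HP = σ.support ∨ HP = σ.supportᶜ :=
        invariant_half x σ hσ h2c HP ((hcP x hxP).mp hxMP) (by omega)
      have hHQ : HQ = σ.support ∨ HQ = σ.supportᶜ :=
        invariant_half x σ hσ h2c HQ ((hcQ x hxQ).mp hxMQ) (by omega)
      exact finish σ.support j hj (by rw [h2c, hj]) x hy P Q MP HP hMP hiP hcP ht1P ht2P hHP hxMP
        MQ HQ hMQ hiQ hcQ hHQ hxMQ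
    · -- case A1
      have hP' : ∀ g ∈ P, ∀ a, g a ∈ σ.support ↔ a ∈ σ.support := by
        rcases horb P hxP with h | ⟨_, h⟩
        · exact hpres P h
        · exact absurd h h2c
      have hQ' : ∀ g ∈ Q, ∀ a, g a ∈ σ.support ↔ a ∈ σ.support := by
        rcases horb Q hxQ with h | ⟨_, h⟩
        · exact hpres Q h
        · exact absurd h h2c
      obtain ⟨S1, S2, hS⟩ := exists_prod_of_preserve σ.support P hP'
      obtain ⟨S1', S2', hS'⟩ := exists_prod_of_preserve σ.support Q hQ'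
      have hxP' : x ∈ (P : Subgroup (Perm α)) := hxP
      have hxQ' : x ∈ (Q : Subgroup (Perm α)) := hxQ
      rw [hS] at hxP'
      rw [hS'] at hxQ'
      obtain ⟨e1, e2⟩ := prod_uniq σ.support x hy S1 S1' S2 S2' hxP' hxQ'
      subst e1 e2
      exact Sylow.ext (hS.trans hS'.symm)

end Cfsg.Agent.H9.UniqSyl
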